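import Mathlib

set_option autoImplicit false

namespace Cfsg.Agent.Lib.Helper18

open Subgroup

/-- For a `p`-subgroup `T ≤ H`, the index of `T` in `N_H(T)` is congruent mod `p` to the index in `H`. -/
theorem relIndex_inf_normalizer_modEq {G : Type*} [Group G] [Finite G] {p : ℕ} [Fact p.Prime]
    {T H : Subgroup G} (hT : IsPGroup p T) (hTH : T ≤ H) :
    T.relIndex (H ⊓ Subgroup.normalizer (T : Set G)) ≡ T.relIndex H [MOD p] := by
  obtain ⟨n, hn⟩ := hT.exists_card_eq
  have hcard : Nat.card (T.subgroupOf H) = p ^ n := by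
    rw [← hn]
    exact Nat.card_congr (Subgroup.subgroupOfEquivOfLe hTH).toEquiv
  have h := Sylow.card_quotient_normalizer_modEq_card_quotient (G := H) hcard
  have e1 : Nat.card (↥H ⧸ T.subgroupOf H) = T.relIndex H := rfl
  have e2 : Nat.card (↥(normalizer ((T.subgroupOf H : Subgroup H) : Set H)) ⧸
      (T.subgroupOf H).comap (normalizer ((T.subgroupOf H : Subgroup H) : Set H)).subtype) =
      T.relIndex (H ⊓ Subgroup.normalizer (T : Set G)) := by
    have : (T.subgroupOf H).relIndex (normalizer ((T.subgroupOf H : Subgroup H) : Set H)) =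
        T.relIndex (H ⊓ Subgroup.normalizer (T : Set G)) := by
      rw [← Subgroup.subgroupOf_normalizer_eq hTH]
      rw [← Subgroup.inf_subgroupOf_left (normalizer (T : Set G)) H]
      rw [Subgroup.relIndex_subgroupOf inf_le_left]
    rw [← this]
    rfl
  rw [e1, e2] at h
  exact h

/-- Conjugation by an element normalizing `T` preserves a characteristic subgroup of `T`. -/
theorem conj_mem_of_characteristic_subgroupOf {G : Type*} [Group G] {C T : Subgroup G}
    (hchar : (C.subgroupOf T).Characteristic) {x : G}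
    (hx : x ∈ Subgroup.normalizer (T : Set G)) {c : G} (hcC : c ∈ C) (hcT : c ∈ T) :
    x * c * x⁻¹ ∈ C := by
  have h1 := (Subgroup.characteristic_iff_le_comap.mp hchar) (T.normalizerMonoidHom ⟨x, hx⟩)
  have h2 : (⟨c, hcT⟩ : T) ∈ C.subgroupOf T := by
    rw [Subgroup.mem_subgroupOf]; exact hcC
  have h3 := h1 h2
  rw [Subgroup.mem_comap, Subgroup.mem_subgroupOf] at h3
  exact h3

/-- An element normalizing `T` centralizes an involution `j ∈ T` generating a characteristic subgroup. -/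
theorem mem_centralizer_of_characteristic_zpowers_involution {G : Type*} [Group G] {T : Subgroup G}
    {j : G} (hj : orderOf j = 2) (hjT : j ∈ T)
    (hchar : ((Subgroup.zpowers j).subgroupOf T).Characteristic) {x : G}
    (hx : x ∈ Subgroup.normalizer (T : Set G)) : x ∈ Subgroup.centralizer ({j} : Set G) := by
  have h := conj_mem_of_characteristic_subgroupOf hchar hx (Subgroup.mem_zpowers j) hjT
  rw [Subgroup.mem_zpowers_iff] at h
  obtain ⟨k, hk⟩ := h
  have hj2 : j ^ 2 = 1 := by rw [← hj]; exact pow_orderOf_eq_one j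
  have hj1 : j ≠ 1 := by
    intro h1; rw [h1, orderOf_one] at hj; norm_num at hj
  rw [Subgroup.mem_centralizer_iff]
  intro y hy
  rw [Set.mem_singleton_iff] at hy
  rw [hy]
  clear hy y
  -- j ^ k = x * j * x⁻¹
  rcases Int.even_or_odd k with ⟨m, hm⟩ | ⟨m, hm⟩
  · exfalso
    have : j ^ k = 1 := by
      rw [hm, ← two_mul, zpow_mul, zpow_ofNat, hj2, one_zpow]
    rw [this] at hk
    apply hj1
    have : x * j * x⁻¹ = 1 := hk.symm
    have h3 : j = x⁻¹ * (x * j * x⁻¹) * x := by group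
    rw [h3, this]; group
  · have : j ^ k = j := by
      rw [hm, zpow_add, zpow_mul, zpow_ofNat, hj2, one_zpow, one_mul, zpow_one]
    rw [this] at hk
    -- hk : j = x * j * x⁻¹
    calc j * x = (x * j * x⁻¹) * x := by rw [← hk]
      _ = x * j := by group

/-- Membership in a conjugate Sylow subgroup. -/
theorem mem_sylow_smul_iff {G : Type*} [Group G] {p : ℕ} (P : Sylow p G) (k u : G) :
    u ∈ ((k • P : Sylow p G) : Subgroup G) ↔ k⁻¹ * u * k ∈ (P : Subgroup G) := by
  rw [Sylow.coe_subgroup_smul, Subgroup.mem_pointwise_smul_iff_inv_smul_mem]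
  simp [MulAut.smul_def]

/-- Two `p`-subgroups `A, B` of a subgroup `S` of a finite group: some `S`-conjugate of `B` generates
together with `A` a `p`-subgroup of `S` (Sylow's theorem inside `S`). -/
theorem exists_conj_pgroup_of_le {J : Type*} [Group J] [Finite J] {p : ℕ} [Fact p.Prime]
    (S A B : Subgroup J) (hAS : A ≤ S) (hBS : B ≤ S) (hA : IsPGroup p A) (hB : IsPGroup p B) :
    ∃ h ∈ S, ∃ Q : Subgroup J, IsPGroup p Q ∧ Q ≤ S ∧ A ≤ Q ∧ ∀ b ∈ B, h * b * h⁻¹ ∈ Q := by
  have hA' : IsPGroup p (A.subgroupOf S) :=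
    hA.of_equiv (Subgroup.subgroupOfEquivOfLe hAS).symm
  have hB' : IsPGroup p (B.subgroupOf S) :=
    hB.of_equiv (Subgroup.subgroupOfEquivOfLe hBS).symm
  obtain ⟨Q, hQ⟩ := hA'.exists_le_sylow
  obtain ⟨Q', hQ'⟩ := hB'.exists_le_sylow
  obtain ⟨h, hh⟩ := MulAction.exists_smul_eq S Q' Q
  refine ⟨h.1, h.2, (Q : Subgroup S).map S.subtype, ?_, ?_, ?_, ?_⟩
  · exact Q.2.map _
  · exact Subgroup.map_subtype_le _
  · intro a ha
    exact ⟨⟨a, hAS ha⟩, hQ (by rw [Subgroup.mem_subgroupOf]; exact ha), rfl⟩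
  · intro b hb
    have hb' : (⟨b, hBS hb⟩ : S) ∈ (Q' : Subgroup S) := hQ' (by rw [Subgroup.mem_subgroupOf]; exact hb)
    have : h * ⟨b, hBS hb⟩ * h⁻¹ ∈ ((h • Q' : Sylow p S) : Subgroup S) := by
      rw [mem_sylow_smul_iff]
      have : h⁻¹ * (h * ⟨b, hBS hb⟩ * h⁻¹) * h = ⟨b, hBS hb⟩ := by group
      rw [this]; exact hb'
    rw [hh] at this
    exact ⟨_, this, rfl⟩

/-- Membership in the centre of a subgroup, viewed in the ambient group. -/
theorem mem_map_center_iff {G : Type*} [Group G] (R : Subgroup G) (z : G) :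
    z ∈ (Subgroup.center ↥R).map R.subtype ↔ z ∈ R ∧ ∀ r ∈ R, r * z = z * r := by
  constructor
  · rintro ⟨w, hw, rfl⟩
    refine ⟨w.2, fun r hr => ?_⟩
    have := Subgroup.mem_center_iff.mp hw ⟨r, hr⟩
    exact congrArg Subtype.val this
  · rintro ⟨hz, h⟩
    refine ⟨⟨z, hz⟩, ?_, rfl⟩
    show (⟨z, hz⟩ : R) ∈ Subgroup.center R
    rw [Subgroup.mem_center_iff]
    intro g
    exact Subtype.ext (h g.1 g.2)

/-- Conjugation by an element normalizing `R` preserves the centre of `R`. -/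
theorem conj_mem_map_center_of_mem_normalizer {G : Type*} [Group G] {R : Subgroup G} {g z : G}
    (hg : g ∈ Subgroup.normalizer (R : Set G)) (hz : z ∈ (Subgroup.center ↥R).map R.subtype) :
    g * z * g⁻¹ ∈ (Subgroup.center ↥R).map R.subtype := by
  rw [mem_map_center_iff] at hz ⊢
  obtain ⟨hzR, hzc⟩ := hz
  refine ⟨(Subgroup.mem_normalizer_iff.mp hg z).mp hzR, fun r hr => ?_⟩
  have hr' : g⁻¹ * r * g ∈ R := by
    have := (Subgroup.mem_normalizer_iff.mp (Subgroup.inv_mem _ hg) r).mp hr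
    simpa using this
  have h1 := hzc _ hr'
  calc r * (g * z * g⁻¹) = g * ((g⁻¹ * r * g) * z) * g⁻¹ := by group
    _ = g * (z * (g⁻¹ * r * g)) * g⁻¹ := by rw [h1]
    _ = g * z * g⁻¹ * r := by group

/-- A `p`-group `C` normalizing a nontrivial finite `p`-group `W` centralizes a nonidentity element
of `W`. -/
theorem exists_ne_one_fixed_of_pgroup_normalizes {G : Type*} [Group G] {p : ℕ} [Fact p.Prime]
    (W C : Subgroup G) [Finite W] (hW : IsPGroup p W) (hC : IsPGroup p C) (hWne : W ≠ ⊥)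
    (hnorm : C ≤ Subgroup.normalizer (W : Set G)) :
    ∃ w ∈ W, w ≠ 1 ∧ ∀ c ∈ C, c * w = w * c := by
  let _ : MulAction C W := MulAction.compHom W (Subgroup.inclusion hnorm)
  have hsmul : ∀ (c : C) (w : W), ((c • w : W) : G) = c * w * c⁻¹ := fun c w => rfl
  have hdvd : p ∣ Nat.card W := by
    rcases hW.card_eq_or_dvd with h | h
    · exact absurd (Subgroup.eq_bot_of_card_eq W h) hWne
    · exact h
  have h1 : (1 : W) ∈ MulAction.fixedPoints C W := by
    intro c; apply Subtype.ext; rw [hsmul]; simp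
  obtain ⟨b, hb, hne⟩ := hC.exists_fixed_point_of_prime_dvd_card_of_fixed_point W hdvd h1
  refine ⟨b.1, b.2, ?_, ?_⟩
  · intro h; apply hne; exact Subtype.ext h.symm
  · intro c hc
    have h2 := congrArg Subtype.val (hb ⟨c, hc⟩)
    rw [hsmul] at h2
    have h3 : c * (b : G) * c⁻¹ = b := h2
    calc c * b = (c * b * c⁻¹) * c := by group
    _ = b * c := by rw [h3]

/-- Lifting a pair of Sylow subgroups along a surjective homomorphism from a finite group, together
with their intersection. -/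
theorem exists_sylow_lift_pair {G G' : Type*} [Group G] [Finite G] [Group G'] {p : ℕ} [Fact p.Prime]
    {f : G →* G'} (hf : Function.Surjective f) (S' T' : Sylow p G') :
    ∃ S T : Sylow p G, (S : Subgroup G).map f = S' ∧ (T : Subgroup G).map f = T' ∧
      ((S : Subgroup G) ⊓ (T : Subgroup G)).map f = (S' : Subgroup G') ⊓ (T' : Subgroup G') := by
  obtain ⟨S, hS⟩ := Sylow.mapSurjective_surjective hf p S'
  obtain ⟨T₀, hT₀⟩ := Sylow.mapSurjective_surjective hf p T'
  have hS' : (S : Subgroup G).map f = S' := by rw [← hS]; rfl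
  have hT₀' : (T₀ : Subgroup G).map f = T' := by rw [← hT₀]; rfl
  set D' : Subgroup G' := (S' : Subgroup G') ⊓ (T' : Subgroup G') with hD'
  set P : Subgroup G := (S : Subgroup G) ⊓ D'.comap f with hP
  have hPmap : P.map f = D' := by
    apply le_antisymm
    · rintro _ ⟨x, hx, rfl⟩
      exact hx.2
    · intro d hd
      have hdS : d ∈ (S : Subgroup G).map f := by rw [hS']; exact hd.1
      obtain ⟨s, hs, rfl⟩ := hdS
      exact ⟨s, ⟨hs, hd⟩, rfl⟩
  set Tc : Subgroup G := (T' : Subgroup G').comap f with hTc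
  have hT₀Tc : (T₀ : Subgroup G) ≤ Tc := by
    intro x hx
    show f x ∈ (T' : Subgroup G')
    rw [← hT₀']; exact ⟨x, hx, rfl⟩
  have hPTc : P ≤ Tc := by
    intro x hx
    exact (hx.2 : f x ∈ D').2
  obtain ⟨h, hhTc, Q, hQp, -, hT₀Q, hPQ⟩ :=
    exists_conj_pgroup_of_le Tc (T₀ : Subgroup G) P hT₀Tc hPTc T₀.2 (S.2.to_le inf_le_left)
  have hQ : Q = (T₀ : Subgroup G) := T₀.is_maximal' hQp hT₀Q
  refine ⟨S, h⁻¹ • T₀, hS', ?_, ?_⟩
  · ext y
    constructor
    · rintro ⟨x, hx, rfl⟩
      have hx' : x ∈ ((h⁻¹ • T₀ : Sylow p G) : Subgroup G) := hx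
      rw [mem_sylow_smul_iff] at hx'
      have h1 : f ((h⁻¹)⁻¹ * x * h⁻¹) ∈ (T' : Subgroup G') := by
        rw [← hT₀']; exact ⟨_, hx', rfl⟩
      have h2 : f h ∈ (T' : Subgroup G') := hhTc
      have e : f x = (f h)⁻¹ * f ((h⁻¹)⁻¹ * x * h⁻¹) * f h := by
        simp only [map_mul, map_inv, inv_inv]; group
      rw [e]
      exact Subgroup.mul_mem _ (Subgroup.mul_mem _ (Subgroup.inv_mem _ h2) h1) h2
    · intro hy
      have h2 : f h ∈ (T' : Subgroup G') := hhTc
      have h1 : f h * y * (f h)⁻¹ ∈ (T₀ : Subgroup G).map f := by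
        rw [hT₀']
        exact Subgroup.mul_mem _ (Subgroup.mul_mem _ h2 hy) (Subgroup.inv_mem _ h2)
      obtain ⟨t₀, ht₀, ht₀'⟩ := h1
      refine ⟨h⁻¹ * t₀ * h, ?_, ?_⟩
      · show h⁻¹ * t₀ * h ∈ ((h⁻¹ • T₀ : Sylow p G) : Subgroup G)
        rw [mem_sylow_smul_iff]
        have e : (h⁻¹)⁻¹ * (h⁻¹ * t₀ * h) * h⁻¹ = t₀ := by group
        rw [e]; exact ht₀
      · simp only [map_mul, map_inv, ht₀']; group
  · apply le_antisymm
    · refine (Subgroup.map_inf_le _ _ f).trans ?_
      apply inf_le_inf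
      · rw [hS']
      · rintro _ ⟨x, hx, rfl⟩
        have hx' : x ∈ ((h⁻¹ • T₀ : Sylow p G) : Subgroup G) := hx
        rw [mem_sylow_smul_iff] at hx'
        have h1 : f ((h⁻¹)⁻¹ * x * h⁻¹) ∈ (T' : Subgroup G') := by
          rw [← hT₀']; exact ⟨_, hx', rfl⟩
        have h2 : f h ∈ (T' : Subgroup G') := hhTc
        have e : f x = (f h)⁻¹ * f ((h⁻¹)⁻¹ * x * h⁻¹) * f h := by
          simp only [map_mul, map_inv, inv_inv]; group
        rw [e]
        exact Subgroup.mul_mem _ (Subgroup.mul_mem _ (Subgroup.inv_mem _ h2) h1) h2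
    · rw [← hPmap]
      apply Subgroup.map_mono
      apply le_inf inf_le_left
      intro b hb
      show b ∈ ((h⁻¹ • T₀ : Sylow p G) : Subgroup G)
      rw [mem_sylow_smul_iff]
      have := hPQ b hb
      rw [hQ] at this
      simpa using this


/-- Two non-conjugate involutions of a finite group both commute with some involution
(the central involution of the dihedral group they generate). -/
theorem exists_involution_commute_of_not_isConj {G : Type*} [Group G] [Finite G] (x t : G)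
    (hx : orderOf x = 2) (ht : orderOf t = 2) (hnc : ¬ IsConj x t) :
    ∃ u : G, orderOf u = 2 ∧ Commute u x ∧ Commute u t := by
  have hx2 : x * x = 1 := by rw [← pow_two, ← hx, pow_orderOf_eq_one]
  have ht2 : t * t = 1 := by rw [← pow_two, ← ht, pow_orderOf_eq_one]
  have hxinv : x⁻¹ = x := inv_eq_of_mul_eq_one_left hx2
  have htinv : t⁻¹ = t := inv_eq_of_mul_eq_one_left ht2
  set w := x * t with hw
  have hwinv : w⁻¹ = t * x := by rw [hw, mul_inv_rev, hxinv, htinv]
  have hsx : SemiconjBy x w w⁻¹ := by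
    show x * w = w⁻¹ * x
    rw [hwinv, hw, mul_assoc t, hx2, mul_one, ← mul_assoc, hx2, one_mul]
  have hst : SemiconjBy t w w⁻¹ := by
    show t * w = w⁻¹ * t
    rw [hwinv, hw, mul_assoc t x t]
  have hmpos : 0 < orderOf w := orderOf_pos w
  rcases Nat.even_or_odd' (orderOf w) with ⟨k, hk | hk⟩
  · -- even order: central involution
    have hk0 : k ≠ 0 := by omega
    have hkd : k ∣ orderOf w := ⟨2, by omega⟩
    have hu2 : orderOf (w ^ k) = 2 := by
      rw [orderOf_pow_of_dvd hk0 hkd, hk]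
      exact Nat.mul_div_cancel 2 (Nat.pos_of_ne_zero hk0)
    have hww : w ^ k * w ^ k = 1 := by
      rw [← pow_add, ← two_mul, ← hk, pow_orderOf_eq_one]
    have hinvk : (w⁻¹) ^ k = w ^ k := by
      rw [inv_pow]; exact inv_eq_of_mul_eq_one_left hww
    refine ⟨w ^ k, hu2, ?_, ?_⟩
    · have := hsx.pow_right k
      rw [hinvk] at this
      exact this.symm
    · have := hst.pow_right k
      rw [hinvk] at this
      exact this.symm
  · -- odd order: x and t are conjugate
    exfalso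
    apply hnc
    rw [isConj_iff]
    refine ⟨w ^ k, ?_⟩
    have hsx' : SemiconjBy x w⁻¹ w := by
      show x * w⁻¹ = w * x
      rw [hwinv, hw, ← mul_assoc]
    have h1 : x * (w⁻¹) ^ k = w ^ k * x := hsx'.pow_right k
    have h2 : w ^ (2 * k) * w = 1 := by
      rw [← pow_succ, ← hk, pow_orderOf_eq_one]
    have h3 : (w ^ (2 * k))⁻¹ = w := inv_eq_of_mul_eq_one_right h2
    calc w ^ k * x * (w ^ k)⁻¹ = x * (w⁻¹) ^ k * (w ^ k)⁻¹ := by rw [h1]
      _ = x * ((w ^ k)⁻¹ * (w ^ k)⁻¹) := by rw [inv_pow, mul_assoc]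
      _ = x * (w ^ (2 * k))⁻¹ := by rw [← mul_inv_rev, ← pow_add, ← two_mul]
      _ = x * w := by rw [h3]
      _ = t := by rw [hw, ← mul_assoc, hx2, one_mul]

end Cfsg.Agent.Lib.Helper18
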