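import Mathlib
import Cfsg.Prelude.Def_Transfer
import Cfsg.Agent.Lib.Helper17.Basic
import Cfsg.Agent.Lib.Helper18.Basic

/-! Conjugate subgroups via the pointwise action `MulAut.conj g • A`. -/

set_option autoImplicit false

namespace Cfsg.Agent.Lib.Helper18

open scoped Pointwise

variable {G : Type*} [Group G]

theorem map_conj_eq_smul (g : G) (A : Subgroup G) :
    A.map (MulAut.conj g).toMonoidHom = MulAut.conj g • A := rfl

theorem mem_conj_smul_iff' (A : Subgroup G) (g x : G) :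
    x ∈ MulAut.conj g • A ↔ g⁻¹ * x * g ∈ A := by
  rw [Subgroup.mem_pointwise_smul_iff_inv_smul_mem, MulAut.smul_def, ← map_inv,
    MulAut.conj_apply, inv_inv]

theorem conj_mem_conj_smul (A : Subgroup G) (g x : G) (hx : x ∈ A) :
    g * x * g⁻¹ ∈ MulAut.conj g • A := by
  rw [mem_conj_smul_iff']
  have : g⁻¹ * (g * x * g⁻¹) * g = x := by group
  rw [this]; exact hx

theorem conj_smul_mul (g h : G) (A : Subgroup G) :
    MulAut.conj (g * h) • A = MulAut.conj g • MulAut.conj h • A := by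
  rw [map_mul, mul_smul]

theorem conj_inv_smul_conj_smul (g : G) (A : Subgroup G) :
    MulAut.conj g⁻¹ • MulAut.conj g • A = A := by
  rw [map_inv, inv_smul_smul]

theorem card_conj_smul (g : G) (A : Subgroup G) :
    Nat.card ↥(MulAut.conj g • A) = Nat.card A :=
  (Nat.card_congr (Subgroup.equivSMul (MulAut.conj g) A).toEquiv).symm

theorem conj_smul_eq_of_mem_normalizer (g : G) (A : Subgroup G)
    (hg : g ∈ Subgroup.normalizer (A : Set G)) : MulAut.conj g • A = A := by
  ext x
  rw [mem_conj_smul_iff']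
  exact ((Subgroup.mem_normalizer_iff''.mp hg) x).symm

theorem mem_normalizer_of_conj_smul_le [Finite G] (g : G) (A : Subgroup G)
    (h : MulAut.conj g • A ≤ A) : g ∈ Subgroup.normalizer (A : Set G) :=
  Cfsg.Agent.Lib.Helper17.mem_normalizer_of_map_conj_le A g h

theorem isElementaryAbelian_conj_smul (p : ℕ) (g : G) (A : Subgroup G)
    (hA : Cfsg.IsElementaryAbelian p A) : Cfsg.IsElementaryAbelian p (MulAut.conj g • A) := by
  obtain ⟨hc, hp⟩ := hA
  refine ⟨⟨⟨?_⟩⟩, ?_⟩
  · rintro ⟨x, hx⟩ ⟨y, hy⟩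
    apply Subtype.ext
    show x * y = y * x
    rw [mem_conj_smul_iff'] at hx hy
    have h1 : (g⁻¹ * x * g) * (g⁻¹ * y * g) = (g⁻¹ * y * g) * (g⁻¹ * x * g) :=
      setLike_mul_comm hx hy
    calc x * y = g * ((g⁻¹ * x * g) * (g⁻¹ * y * g)) * g⁻¹ := by group
      _ = g * ((g⁻¹ * y * g) * (g⁻¹ * x * g)) * g⁻¹ := by rw [h1]
      _ = y * x := by group
  · intro x hx
    rw [mem_conj_smul_iff'] at hx
    have h1 := hp _ hx
    have h2 : (g⁻¹ * x * g) ^ p = g⁻¹ * x ^ p * g := by
      have := conj_pow (a := g⁻¹) (b := x) (i := p)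
      rw [inv_inv] at this
      exact this
    rw [h2] at h1
    have : x ^ p = g * (g⁻¹ * x ^ p * g) * g⁻¹ := by group
    rw [this, h1]; group

end Cfsg.Agent.Lib.Helper18
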