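import Mathlib
import Cfsg.Prelude.Def_Transfer

/-!
Helper lemmas (helper18): the power map in groups of class two; `p`-groups (`p` odd) with a cyclic
subgroup of index `p`; `p`-groups (`p` odd) with at most `p` solutions of `x ^ p = 1` are cyclic.
-/

set_option autoImplicit false

namespace Cfsg.Agent.Lib.Helper18

section ClassTwo

variable {G : Type*} [Group G]

/-- `y ^ n * x = c ^ n * x * y ^ n` when `y * x = c * x * y` and `c` commutes with `y`. -/
theorem pow_mul_comm_of_central {x y c : G} (h : y * x = c * x * y) (hcy : Commute c y) (n : ℕ) :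
    y ^ n * x = c ^ n * x * y ^ n := by
  induction n with
  | zero => simp
  | succ n ih =>
    calc y ^ (n + 1) * x = y * (y ^ n * x) := by rw [pow_succ', mul_assoc]
      _ = y * (c ^ n * x * y ^ n) := by rw [ih]
      _ = c ^ n * (y * x) * y ^ n := by
        have h1 : y * c ^ n = c ^ n * y := ((hcy.pow_left n).eq).symm
        rw [← mul_assoc, ← mul_assoc, h1, mul_assoc (c ^ n) y x]
      _ = c ^ n * (c * x * y) * y ^ n := by rw [h]
      _ = c ^ (n + 1) * x * y ^ (n + 1) := by
        rw [pow_succ, pow_succ' y n]; simp only [mul_assoc]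

/-- The class-two power formula: if `c = y x y⁻¹ x⁻¹` commutes with `x` and `y`, then
`(x y)^n = x^n y^n c^(0 + 1 + ... + (n-1))`. -/
theorem mul_pow_of_central {x y c : G} (h : y * x = c * x * y) (hcx : Commute c x)
    (hcy : Commute c y) (n : ℕ) :
    (x * y) ^ n = x ^ n * y ^ n * c ^ (∑ i ∈ Finset.range n, i) := by
  induction n with
  | zero => simp
  | succ n ih =>
    have h1 := pow_mul_comm_of_central h hcy n
    have hcT : Commute (c ^ (∑ i ∈ Finset.range n, i)) (x * y) :=
      (hcx.mul_right hcy).pow_left _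
    calc (x * y) ^ (n + 1) = (x * y) ^ n * (x * y) := pow_succ _ _
      _ = x ^ n * y ^ n * c ^ (∑ i ∈ Finset.range n, i) * (x * y) := by rw [ih]
      _ = x ^ n * (y ^ n * x) * y * c ^ (∑ i ∈ Finset.range n, i) := by
        rw [mul_assoc (x ^ n * y ^ n), hcT.eq]; simp only [mul_assoc]
      _ = x ^ n * (c ^ n * x * y ^ n) * y * c ^ (∑ i ∈ Finset.range n, i) := by rw [h1]
      _ = x ^ (n + 1) * y ^ (n + 1) * c ^ (∑ i ∈ Finset.range (n + 1), i) := by
        have h2 : x ^ n * c ^ n = c ^ n * x ^ n := (((hcx.pow_left n).pow_right n).eq).symm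
        have h3 : Commute (c ^ n) (x ^ (n + 1) * y ^ (n + 1)) :=
          ((hcx.pow_right (n + 1)).mul_right (hcy.pow_right (n + 1))).pow_left n
        rw [Finset.sum_range_succ]
        calc x ^ n * (c ^ n * x * y ^ n) * y * c ^ (∑ i ∈ Finset.range n, i)
            = (x ^ n * c ^ n) * (x * (y ^ n * y)) * c ^ (∑ i ∈ Finset.range n, i) := by
              simp only [mul_assoc]
          _ = c ^ n * (x ^ (n + 1) * y ^ (n + 1)) * c ^ (∑ i ∈ Finset.range n, i) := by
              rw [h2, pow_succ x n, pow_succ y n]; simp only [mul_assoc]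
          _ = (x ^ (n + 1) * y ^ (n + 1)) * c ^ n * c ^ (∑ i ∈ Finset.range n, i) := by
              rw [h3.eq]
          _ = x ^ (n + 1) * y ^ (n + 1) * c ^ (∑ i ∈ Finset.range n, i + n) := by
              rw [mul_assoc, ← pow_add, Nat.add_comm n (∑ i ∈ Finset.range n, i)]

/-- For an odd prime `p`, `p` divides `0 + 1 + ... + (p-1)`. -/
theorem prime_dvd_sum_range {p : ℕ} (hp : p.Prime) (hp2 : p ≠ 2) :
    p ∣ ∑ i ∈ Finset.range p, i := by
  rw [Finset.sum_range_id]
  have hodd : Odd p := hp.odd_of_ne_two hp2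
  obtain ⟨k, hk⟩ := hodd
  have : p * (p - 1) / 2 = p * k := by
    have h1 : p - 1 = 2 * k := by omega
    rw [h1, ← mul_assoc, mul_comm p 2, mul_assoc, Nat.mul_div_cancel_left _ (by norm_num)]
  rw [this]
  exact Dvd.intro _ rfl

/-- If all commutators are central of order dividing `p` (`p` odd), the `p`-th power map is
multiplicative. -/
theorem mul_pow_prime_of_central {p : ℕ} (hp : p.Prime) (hp2 : p ≠ 2) {x y : G}
    (hcx : Commute (y * x * y⁻¹ * x⁻¹) x) (hcy : Commute (y * x * y⁻¹ * x⁻¹) y)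
    (hc : (y * x * y⁻¹ * x⁻¹) ^ p = 1) :
    (x * y) ^ p = x ^ p * y ^ p := by
  have h : y * x = (y * x * y⁻¹ * x⁻¹) * x * y := by group
  rw [mul_pow_of_central h hcx hcy p]
  obtain ⟨k, hk⟩ := prime_dvd_sum_range hp hp2
  rw [hk, pow_mul, hc, one_pow, mul_one]

end ClassTwo

theorem eq_top_of_le_of_prime_index {R : Type*} [Group R] {p : ℕ} (hp : p.Prime) (C K : Subgroup R)
    (hCi : C.index = p) (hCK : C ≤ K) {b : R} (hbK : b ∈ K) (hbC : b ∉ C) : K = ⊤ := by
  have h1 := Subgroup.relIndex_mul_index hCK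
  rw [hCi] at h1
  have h2 : K.index ∣ p := Dvd.intro_left _ h1
  rcases (Nat.dvd_prime hp).mp h2 with h3 | h3
  · exact Subgroup.index_eq_one.mp h3
  · exfalso
    rw [h3] at h1
    have h4 : C.relIndex K = 1 := by
      have hp0 : 0 < p := hp.pos
      exact Nat.eq_of_mul_eq_mul_right hp0 (by rw [h1, one_mul])
    exact hbC (Subgroup.relIndex_eq_one.mp h4 hbK)

theorem modEq_one_of_pow_prime_modEq_one {p : ℕ} (hp : p.Prime) (hp2 : p ≠ 2) {m s : ℕ} (hm : 1 ≤ m)
    (h : s ^ p ≡ 1 [MOD p ^ m]) : s ≡ 1 [MOD p] ∧ s ≡ 1 [MOD p ^ (m - 1)] := by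
  haveI : Fact p.Prime := ⟨hp⟩
  have h1 : s ^ p ≡ 1 [MOD p] := h.of_dvd (dvd_pow_self p (by omega))
  have h2 : s ≡ 1 [MOD p] := by
    rw [← ZMod.natCast_eq_natCast_iff] at h1 ⊢
    push_cast at h1 ⊢
    rwa [ZMod.pow_card] at h1
  refine ⟨h2, ?_⟩
  have hnd : ¬ p ∣ s := by
    intro hd
    have h3 : s ≡ 0 [MOD p] := (Nat.modEq_zero_iff_dvd).mpr hd
    have h4 : (0 : ℕ) ≡ 1 [MOD p] := h3.symm.trans h2
    have h5 : p ∣ 1 := (Nat.modEq_iff_dvd' (by norm_num)).mp h4
    exact hp.one_lt.ne' (Nat.dvd_one.mp h5)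
  have hs : 1 ≤ s := by
    rcases Nat.eq_zero_or_pos s with h0 | h0
    · exact absurd (h0 ▸ dvd_zero p) hnd
    · exact h0
  have hdvd : p ∣ s - 1 := (Nat.modEq_iff_dvd' hs).mp h2.symm
  have hlte := Nat.emultiplicity_pow_sub_pow hp (hp.odd_of_ne_two hp2) (x := s) (y := 1) hdvd hnd p
  rw [one_pow] at hlte
  have hsp : 1 ≤ s ^ p := Nat.one_le_pow _ _ hs
  have hd2 : p ^ m ∣ s ^ p - 1 := (Nat.modEq_iff_dvd' hsp).mp h.symm
  have h6 : (m : ℕ∞) ≤ emultiplicity p (s - 1) + emultiplicity p p := by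
    rw [← hlte]; exact pow_dvd_iff_le_emultiplicity.mp hd2
  have h7 : emultiplicity p p = 1 := by
    have : FiniteMultiplicity p p := Nat.finiteMultiplicity_iff.mpr ⟨hp.ne_one, hp.pos⟩
    exact this.emultiplicity_self
  rw [h7] at h6
  rw [Nat.ModEq.comm, Nat.modEq_iff_dvd' hs]
  apply pow_dvd_iff_le_emultiplicity.mpr
  have h8 : ((m - 1 : ℕ) : ℕ∞) + 1 ≤ emultiplicity p (s - 1) + 1 := by
    have : ((m - 1 : ℕ) : ℕ∞) + 1 = (m : ℕ∞) := by
      have : m - 1 + 1 = m := by omega
      exact_mod_cast this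
    rw [this]; exact h6
  exact (ENat.add_le_add_iff_right (by simp)).mp h8

/-- Structure of a non-cyclic `p`-group (`p` odd) with a cyclic subgroup of index `p`:
all commutators are central of order dividing `p`. -/
theorem commutator_central_of_cyclic_index_p {R : Type*} [Group R] [Finite R] {p : ℕ}
    [hpF : Fact p.Prime] (hp : p ≠ 2) (hR : IsPGroup p R) (hnc : ¬ IsCyclic R) (C : Subgroup R)
    (hC : IsCyclic C) (hCi : C.index = p) :
    ∃ (a : R) (m : ℕ), 1 ≤ m ∧ C = Subgroup.zpowers a ∧ orderOf a = p ^ m ∧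
      Nat.card R = p ^ (m + 1) ∧ (∀ x : R, x ^ p ∈ C) ∧
      ∀ x y : R, (y * x * y⁻¹ * x⁻¹) ∈ Subgroup.center R ∧ (y * x * y⁻¹ * x⁻¹) ^ p = 1 := by
  classical
  have hpp : p.Prime := hpF.out
  obtain ⟨⟨a, haC⟩, ha⟩ := hC.exists_generator
  have hCa : C = Subgroup.zpowers a := by
    apply le_antisymm
    · intro x hx
      obtain ⟨k, hk⟩ := Subgroup.mem_zpowers_iff.mp (ha ⟨x, hx⟩)
      refine Subgroup.mem_zpowers_iff.mpr ⟨k, ?_⟩
      have := congrArg Subtype.val hk
      simpa using this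
    · exact Subgroup.zpowers_le.mpr haC
  obtain ⟨m, hm⟩ := (IsPGroup.iff_orderOf.mp hR) a
  have hcardC : Nat.card C = p ^ m := by rw [hCa, Nat.card_zpowers, hm]
  have hcardR : Nat.card R = p ^ (m + 1) := by
    rw [← Subgroup.card_mul_index C, hcardC, hCi, pow_succ]
  have hm1 : 1 ≤ m := by
    by_contra hcon
    have hm0 : m = 0 := by omega
    rw [hm0, zero_add, pow_one] at hcardR
    haveI : Fact (Nat.card R).Prime := ⟨hcardR ▸ hpp⟩
    exact hnc (isCyclic_of_prime_card rfl)
  -- C normal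
  have hCn : C.Normal := by
    apply Subgroup.normal_of_index_eq_minFac_card
    rw [hCi, hcardR, Nat.pow_minFac (by omega), hpp.minFac_eq]
  -- x ^ p ∈ C
  have hpowC : ∀ x : R, x ^ p ∈ C := by
    intro x
    have h1 : Nat.card (R ⧸ C) = p := by rw [← Subgroup.index_eq_card]; exact hCi
    have h2 : (QuotientGroup.mk x : R ⧸ C) ^ p = 1 := by
      rw [← h1]; exact pow_card_eq_one'
    rw [← QuotientGroup.mk_pow] at h2
    exact (QuotientGroup.eq_one_iff _).mp h2
  -- b outside C
  have hCtop : C ≠ ⊤ := by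
    intro h
    rw [h, Subgroup.index_top] at hCi
    exact hpp.one_lt.ne hCi
  obtain ⟨b, hbC⟩ : ∃ b : R, b ∉ C := by
    by_contra hcon
    push Not at hcon
    exact hCtop (eq_top_iff.mpr fun x _ => hcon x)
  have hgen : ∀ K : Subgroup R, C ≤ K → b ∈ K → K = ⊤ := fun K hCK hbK =>
    eq_top_of_le_of_prime_index hpp C K hCi hCK hbK hbC
  -- conjugation exponent
  have hconjC : b * a * b⁻¹ ∈ Subgroup.zpowers a := by
    rw [← hCa]; exact hCn.conj_mem a haC b
  obtain ⟨s, hs⟩ : ∃ s : ℕ, a ^ s = b * a * b⁻¹ := by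
    have := (mem_powers_iff_mem_zpowers).mpr hconjC
    exact (Submonoid.mem_powers_iff _ _).mp this
  have hiter : ∀ k : ℕ, b ^ k * a * (b ^ k)⁻¹ = a ^ (s ^ k) := by
    intro k
    induction k with
    | zero => simp
    | succ k ih =>
      calc b ^ (k + 1) * a * (b ^ (k + 1))⁻¹ = b * (b ^ k * a * (b ^ k)⁻¹) * b⁻¹ := by
            rw [pow_succ']; group
        _ = b * a ^ (s ^ k) * b⁻¹ := by rw [ih]
        _ = (b * a * b⁻¹) ^ (s ^ k) := by rw [conj_pow]
        _ = a ^ (s ^ (k + 1)) := by rw [← hs, ← pow_mul, pow_succ']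
  have hbp : b ^ p ∈ Subgroup.zpowers a := hCa ▸ hpowC b
  have hcomm_bp : b ^ p * a * (b ^ p)⁻¹ = a := by
    obtain ⟨k, hk⟩ := Subgroup.mem_zpowers_iff.mp hbp
    rw [← hk]
    have : Commute (a ^ k) a := (Commute.refl a).zpow_left k
    rw [this.eq]; group
  have hsp : s ^ p ≡ 1 [MOD p ^ m] := by
    rw [← hm]
    apply pow_eq_pow_iff_modEq.mp
    rw [← hiter p, hcomm_bp, pow_one]
  obtain ⟨hs1, hs2⟩ := modEq_one_of_pow_prime_modEq_one hpp hp hm1 hsp
  have hs0 : 1 ≤ s := by
    rcases Nat.eq_zero_or_pos s with h0 | h0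
    · exfalso
      rw [h0] at hs1
      have h5 : p ∣ 1 := (Nat.modEq_iff_dvd' (by norm_num)).mp hs1
      exact hpp.one_lt.ne' (Nat.dvd_one.mp h5)
    · exact h0
  obtain ⟨j, hj⟩ : p ^ (m - 1) ∣ s - 1 := (Nat.modEq_iff_dvd' hs0).mp hs2.symm
  obtain ⟨j', hj'⟩ : p ∣ s - 1 := (Nat.modEq_iff_dvd' hs0).mp hs1.symm
  -- the central element z
  set z := a ^ (p ^ (m - 1)) with hz
  have hzp : z ^ p = 1 := by
    rw [hz, ← pow_mul, ← pow_succ, show m - 1 + 1 = m by omega, ← hm, pow_orderOf_eq_one]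
  have hc : b * a * b⁻¹ * a⁻¹ = z ^ j := by
    rw [← hs, hz, ← pow_mul, ← hj]
    have : s = (s - 1) + 1 := by omega
    conv_lhs => rw [this, pow_succ]
    group
  have hbz : b * z * b⁻¹ = z := by
    rw [hz, ← conj_pow, ← hs, ← pow_mul]
    have : s * p ^ (m - 1) = p ^ (m - 1) + p ^ m * j' := by
      have h1 : s = 1 + p * j' := by omega
      have h2 : p ^ m = p ^ (m - 1) * p := by
        rw [← pow_succ]; congr 1; omega
      rw [h1, h2]; ring
    rw [this, pow_add, pow_mul, ← hm, pow_orderOf_eq_one, one_pow, mul_one]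
  have hzcenter : z ∈ Subgroup.center R := by
    have hK : Subgroup.centralizer ({z} : Set R) = ⊤ := by
      apply hgen
      · rw [hCa, Subgroup.zpowers_le, Subgroup.mem_centralizer_iff]
        intro y hy
        rw [Set.mem_singleton_iff] at hy
        subst hy
        exact ((Commute.refl a).pow_left _).eq
      · rw [Subgroup.mem_centralizer_iff]
        intro y hy
        rw [Set.mem_singleton_iff] at hy
        subst hy
        calc z * b = (b * z * b⁻¹) * b := by rw [hbz]
          _ = b * z := by group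
    rw [Subgroup.mem_center_iff]
    intro g
    have hg : g ∈ Subgroup.centralizer ({z} : Set R) := by rw [hK]; trivial
    exact (Subgroup.mem_centralizer_iff.mp hg z rfl).symm
  set Z := Subgroup.zpowers z with hZ
  have hZc : Z ≤ Subgroup.center R := Subgroup.zpowers_le.mpr hzcenter
  have hZn : Z.Normal := by
    constructor
    intro n hn g
    have := Subgroup.mem_center_iff.mp (hZc hn) g
    have h2 : g * n * g⁻¹ = n := by rw [this]; group
    rw [h2]; exact hn
  have hZp : ∀ w ∈ Z, w ^ p = 1 := by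
    intro w hw
    obtain ⟨k, rfl⟩ := Subgroup.mem_zpowers_iff.mp hw
    rw [← zpow_natCast, ← zpow_mul, mul_comm, zpow_mul, zpow_natCast, hzp, one_zpow]
  -- the quotient R ⧸ Z is commutative
  have hab : (QuotientGroup.mk b : R ⧸ Z) * QuotientGroup.mk a = QuotientGroup.mk a * QuotientGroup.mk b := by
    have h1 : (QuotientGroup.mk (b * a * b⁻¹ * a⁻¹) : R ⧸ Z) = 1 := by
      rw [QuotientGroup.eq_one_iff, hc]
      exact Subgroup.pow_mem _ (Subgroup.mem_zpowers z) j
    have h2 : (QuotientGroup.mk (b * a * b⁻¹ * a⁻¹) : R ⧸ Z)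
        = QuotientGroup.mk b * QuotientGroup.mk a * (QuotientGroup.mk b)⁻¹ * (QuotientGroup.mk a)⁻¹ := by
      simp
    rw [h2] at h1
    calc (QuotientGroup.mk b : R ⧸ Z) * QuotientGroup.mk a
        = (QuotientGroup.mk b * QuotientGroup.mk a * (QuotientGroup.mk b)⁻¹ * (QuotientGroup.mk a)⁻¹)
          * QuotientGroup.mk a * QuotientGroup.mk b := by group
      _ = QuotientGroup.mk a * QuotientGroup.mk b := by rw [h1, one_mul]
  have hcentA : Subgroup.centralizer ({(QuotientGroup.mk a : R ⧸ Z)} : Set (R ⧸ Z)) = ⊤ := by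
    have h1 : (Subgroup.centralizer ({(QuotientGroup.mk a : R ⧸ Z)} : Set (R ⧸ Z))).comap
        (QuotientGroup.mk' Z) = ⊤ := by
      apply hgen
      · rw [hCa, Subgroup.zpowers_le, Subgroup.mem_comap, Subgroup.mem_centralizer_iff]
        intro y hy
        rw [Set.mem_singleton_iff] at hy
        subst hy
        rfl
      · rw [Subgroup.mem_comap, Subgroup.mem_centralizer_iff]
        intro y hy
        rw [Set.mem_singleton_iff] at hy
        subst hy
        exact hab.symm
    rw [eq_top_iff]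
    intro x _
    obtain ⟨x', rfl⟩ := QuotientGroup.mk'_surjective Z x
    have : x' ∈ (Subgroup.centralizer ({(QuotientGroup.mk a : R ⧸ Z)} : Set (R ⧸ Z))).comap
        (QuotientGroup.mk' Z) := by rw [h1]; trivial
    exact this
  have hcentB : Subgroup.centralizer ({(QuotientGroup.mk b : R ⧸ Z)} : Set (R ⧸ Z)) = ⊤ := by
    have h1 : (Subgroup.centralizer ({(QuotientGroup.mk b : R ⧸ Z)} : Set (R ⧸ Z))).comap
        (QuotientGroup.mk' Z) = ⊤ := by
      apply hgen
      · rw [hCa, Subgroup.zpowers_le, Subgroup.mem_comap, Subgroup.mem_centralizer_iff]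
        intro y hy
        rw [Set.mem_singleton_iff] at hy
        subst hy
        exact hab
      · rw [Subgroup.mem_comap, Subgroup.mem_centralizer_iff]
        intro y hy
        rw [Set.mem_singleton_iff] at hy
        subst hy
        rfl
    rw [eq_top_iff]
    intro x _
    obtain ⟨x', rfl⟩ := QuotientGroup.mk'_surjective Z x
    have : x' ∈ (Subgroup.centralizer ({(QuotientGroup.mk b : R ⧸ Z)} : Set (R ⧸ Z))).comap
        (QuotientGroup.mk' Z) := by rw [h1]; trivial
    exact this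
  have hcenter : (Subgroup.center (R ⧸ Z)).comap (QuotientGroup.mk' Z) = ⊤ := by
    apply hgen
    · rw [hCa, Subgroup.zpowers_le, Subgroup.mem_comap, Subgroup.mem_center_iff]
      intro g
      have hg : g ∈ Subgroup.centralizer ({(QuotientGroup.mk a : R ⧸ Z)} : Set (R ⧸ Z)) := by
        rw [hcentA]; trivial
      exact (Subgroup.mem_centralizer_iff.mp hg _ rfl).symm
    · rw [Subgroup.mem_comap, Subgroup.mem_center_iff]
      intro g
      have hg : g ∈ Subgroup.centralizer ({(QuotientGroup.mk b : R ⧸ Z)} : Set (R ⧸ Z)) := by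
        rw [hcentB]; trivial
      exact (Subgroup.mem_centralizer_iff.mp hg _ rfl).symm
  have hcommQ : ∀ u v : R ⧸ Z, u * v = v * u := by
    intro u v
    obtain ⟨u', rfl⟩ := QuotientGroup.mk'_surjective Z u
    have : u' ∈ (Subgroup.center (R ⧸ Z)).comap (QuotientGroup.mk' Z) := by rw [hcenter]; trivial
    rw [Subgroup.mem_comap, Subgroup.mem_center_iff] at this
    exact (this v).symm
  have hcomm : ∀ x y : R, y * x * y⁻¹ * x⁻¹ ∈ Z := by
    intro x y
    rw [← QuotientGroup.eq_one_iff]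
    have h2 : (QuotientGroup.mk (y * x * y⁻¹ * x⁻¹) : R ⧸ Z)
        = QuotientGroup.mk y * QuotientGroup.mk x * (QuotientGroup.mk y)⁻¹ * (QuotientGroup.mk x)⁻¹ := by
      simp
    rw [h2, hcommQ (QuotientGroup.mk y) (QuotientGroup.mk x)]
    group
  exact ⟨a, m, hm1, hCa, hm, hcardR, hpowC, fun x y => ⟨hZc (hcomm x y), hZp _ (hcomm x y)⟩⟩

/-- In a non-cyclic `p`-group (`p` odd) with a cyclic subgroup of index `p`, the solutions of
`x ^ p = 1` form a subgroup of order `p ^ 2`. -/
theorem omega_of_cyclic_index_p {R : Type*} [Group R] [Finite R] {p : ℕ}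
    [hpF : Fact p.Prime] (hp : p ≠ 2) (hR : IsPGroup p R) (hnc : ¬ IsCyclic R) (C : Subgroup R)
    (hC : IsCyclic C) (hCi : C.index = p) :
    ∃ Ω : Subgroup R, (∀ x, x ∈ Ω ↔ x ^ p = 1) ∧ Nat.card Ω = p ^ 2 := by
  classical
  have hpp : p.Prime := hpF.out
  obtain ⟨a, m, hm1, hCa, hm, hcardR, hpowC, hcomm⟩ :=
    commutator_central_of_cyclic_index_p hp hR hnc C hC hCi
  have hmul : ∀ x y : R, (x * y) ^ p = x ^ p * y ^ p := by
    intro x y
    obtain ⟨h1, h2⟩ := hcomm x y
    rw [Subgroup.mem_center_iff] at h1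
    exact mul_pow_prime_of_central hpp hp (h1 x).symm (h1 y).symm h2
  let φ : R →* R := MonoidHom.mk' (fun x => x ^ p) hmul
  have hφ : ∀ x, φ x = x ^ p := fun x => rfl
  refine ⟨φ.ker, fun x => by rw [MonoidHom.mem_ker, hφ], ?_⟩
  -- the range is generated by a ^ p
  have hrange : φ.range = Subgroup.zpowers (a ^ p) := by
    apply le_antisymm
    · rintro _ ⟨x, rfl⟩
      rw [hφ]
      have hx : x ^ p ∈ Subgroup.zpowers a := hCa ▸ hpowC x
      obtain ⟨k, hk⟩ : ∃ k : ℕ, a ^ k = x ^ p :=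
        (Submonoid.mem_powers_iff _ _).mp ((mem_powers_iff_mem_zpowers).mpr hx)
      by_cases hpk : p ∣ k
      · obtain ⟨k', rfl⟩ := hpk
        rw [← hk, pow_mul]
        exact Subgroup.pow_mem _ (Subgroup.mem_zpowers _) k'
      · exfalso
        have hcop : (orderOf a).Coprime k := by
          rw [hm]; exact Nat.Coprime.pow_left _ ((Nat.Prime.coprime_iff_not_dvd hpp).mpr hpk)
        have h1 : orderOf (x ^ p) = p ^ m := by rw [← hk, hcop.orderOf_pow, hm]
        obtain ⟨e, he⟩ := (IsPGroup.iff_orderOf.mp hR) x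
        have h2 := orderOf_pow (n := p) x
        rw [h1, he] at h2
        rcases Nat.eq_zero_or_pos e with h0 | h0
        · rw [h0, pow_zero, Nat.gcd_one_left, Nat.div_one] at h2
          have : 1 < p ^ m := Nat.one_lt_pow (by omega) hpp.one_lt
          omega
        · have h3 : Nat.gcd (p ^ e) p = p := Nat.gcd_eq_right (dvd_pow_self p (by omega))
          rw [h3] at h2
          have h4 : p ^ e = p ^ (e - 1) * p := by
            rw [← pow_succ]; congr 1; omega
          rw [h4, Nat.mul_div_cancel _ hpp.pos] at h2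
          have h5 : m = e - 1 := Nat.pow_right_injective hpp.two_le h2
          have h6 : orderOf x = Nat.card R := by
            rw [he, hcardR]; congr 1; omega
          exact hnc (isCyclic_of_orderOf_eq_card x h6)
    · rw [Subgroup.zpowers_le]
      exact ⟨a, rfl⟩
  have hcardrange : Nat.card φ.range = p ^ (m - 1) := by
    rw [hrange, Nat.card_zpowers, orderOf_pow, hm,
      Nat.gcd_eq_right (dvd_pow_self p (by omega))]
    have h4 : p ^ m = p ^ (m - 1) * p := by
      rw [← pow_succ]; congr 1; omega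
    rw [h4, Nat.mul_div_cancel _ hpp.pos]
  have h1 := Subgroup.card_mul_index φ.ker
  rw [Subgroup.index_ker, hcardrange, hcardR] at h1
  have h2 : p ^ (m + 1) = p ^ 2 * p ^ (m - 1) := by
    rw [← pow_add]; congr 1; omega
  rw [h2] at h1
  exact Nat.eq_of_mul_eq_mul_right (pow_pos hpp.pos _) h1



universe u

/-- A non-cyclic `p`-group, `p` odd, contains two commuting elements `a`, `b` with
`a ^ p = b ^ p = 1`, `b ≠ 1` and `a ∉ ⟨b⟩` (a subgroup of type `(p, p)`). -/
theorem exists_rank_two_of_not_cyclic (p : ℕ) [hpF : Fact p.Prime] (hp : p ≠ 2) :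
    ∀ (n : ℕ) (P : Type u) [Group P] [Finite P], IsPGroup p P → Nat.card P ≤ n → ¬ IsCyclic P →
      ∃ a b : P, a * b = b * a ∧ a ^ p = 1 ∧ b ^ p = 1 ∧ b ≠ 1 ∧ a ∉ Subgroup.zpowers b := by
  intro n
  induction n using Nat.strong_induction_on with
  | _ n ih =>
    intro P _ _ hP hn hnc
    classical
    have hpp : p.Prime := hpF.out
    obtain ⟨k, hk⟩ := IsPGroup.iff_card.mp hP
    have hk1 : 1 ≤ k := by
      by_contra hcon
      have hk0 : k = 0 := by omega
      rw [hk0, pow_zero] at hk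
      haveI : Subsingleton P := (Nat.card_eq_one_iff_unique.mp hk).1
      exact hnc inferInstance
    obtain ⟨M, hM⟩ := Sylow.exists_subgroup_card_pow_prime p
      (show p ^ (k - 1) ∣ Nat.card P by rw [hk]; exact pow_dvd_pow p (Nat.sub_le k 1))
    have hMi : M.index = p := by
      have h1 := Subgroup.card_mul_index M
      rw [hM, hk] at h1
      have h2 : p ^ k = p ^ (k - 1) * p := by
        rw [← pow_succ]; congr 1; omega
      rw [h2] at h1
      exact Nat.eq_of_mul_eq_mul_left (pow_pos hpp.pos _) h1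
    by_cases hMc : IsCyclic M
    · obtain ⟨Ω, hΩ, hΩcard⟩ := omega_of_cyclic_index_p hp hP hnc M hMc hMi
      haveI hcommI : IsMulCommutative Ω := IsPGroup.isMulCommutative_of_card_eq_prime_sq (G := Ω) hΩcard
      have hcomm : ∀ x y : Ω, x * y = y * x := fun x y => mul_comm' x y
      have hΩnt : Ω ≠ ⊥ := by
        intro h
        rw [h, Subgroup.card_bot] at hΩcard
        have : 1 < p ^ 2 := Nat.one_lt_pow (by norm_num) hpp.one_lt
        omega
      obtain ⟨b, hbΩ, hb1⟩ : ∃ b, b ∈ Ω ∧ b ≠ 1 := by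
        by_contra hcon
        push Not at hcon
        exact hΩnt ((Subgroup.eq_bot_iff_forall Ω).mpr hcon)
      have hbp : b ^ p = 1 := (hΩ b).mp hbΩ
      have hordb : orderOf b = p := orderOf_eq_prime hbp hb1
      obtain ⟨a, haΩ, hab⟩ : ∃ a, a ∈ Ω ∧ a ∉ Subgroup.zpowers b := by
        by_contra hcon
        push Not at hcon
        have hle : Ω ≤ Subgroup.zpowers b := fun x hx => hcon x hx
        have h1 := Subgroup.card_le_of_le hle
        rw [hΩcard, Nat.card_zpowers, hordb] at h1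
        have : p < p ^ 2 := by
          calc p = p ^ 1 := (pow_one p).symm
            _ < p ^ 2 := Nat.pow_lt_pow_right hpp.one_lt (by norm_num)
        omega
      refine ⟨a, b, ?_, (hΩ a).mp haΩ, hbp, hb1, hab⟩
      have := hcomm ⟨a, haΩ⟩ ⟨b, hbΩ⟩
      exact congrArg Subtype.val this
    · have hlt : Nat.card M < Nat.card P := by
        rw [hM, hk]; exact Nat.pow_lt_pow_right hpp.one_lt (by omega)
      obtain ⟨a, b, hab, ha, hb, hb1, hnot⟩ :=
        ih (Nat.card M) (lt_of_lt_of_le hlt hn) M (hP.to_subgroup M) le_rfl hMc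
      refine ⟨a, b, congrArg Subtype.val hab, ?_, ?_, ?_, ?_⟩
      · have := congrArg Subtype.val ha; simpa using this
      · have := congrArg Subtype.val hb; simpa using this
      · intro h; exact hb1 (Subtype.ext h)
      · intro h
        obtain ⟨j, hj⟩ := Subgroup.mem_zpowers_iff.mp h
        apply hnot
        refine Subgroup.mem_zpowers_iff.mpr ⟨j, Subtype.ext ?_⟩
        simpa using hj


end Cfsg.Agent.Lib.Helper18
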