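import Mathlib
import Cfsg.Agent.Lib.Helper18.PowerMap

/-!
Helper lemmas (helper18): fixed-point-free actions. A group of type `(p, p)` cannot act
fixed-point-freely on a nontrivial abelian group of order prime to `p`; consequently `p`-subgroups
(`p` odd) acting fixed-point-freely on a normal abelian subgroup are cyclic.
-/

set_option autoImplicit false

namespace Cfsg.Agent.Lib.Helper18

/-- Two commuting automorphisms `α`, `β` of order dividing `p` of a commutative group such that `β`
and all `α β ^ j` are fixed-point-free force `v ^ p = 1` for all `v`. -/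
theorem pow_prime_eq_one_of_fpf_pair {V : Type*} [CommGroup V] {p : ℕ} [hp : Fact p.Prime]
    (α β : MulAut V) (hc : Commute α β) (hαp : α ^ p = 1) (hβp : β ^ p = 1)
    (hfβ : ∀ v, β v = v → v = 1) (hfαβ : ∀ (j : ℕ) (v : V), (α * β ^ j) v = v → v = 1) (v : V) :
    v ^ p = 1 := by
  classical
  haveI : NeZero p := ⟨hp.out.ne_zero⟩
  haveI : Fact (1 < p) := ⟨hp.out.one_lt⟩
  -- the norm of a fixed-point-free automorphism is trivial
  have hT : ∀ γ : MulAut V, γ ^ p = 1 → (∀ w, γ w = w → w = 1) →
      ∀ w : V, ∏ k : ZMod p, (γ ^ k.val) w = 1 := by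
    intro γ hγ hf w
    apply hf
    rw [map_prod]
    have h1 : ∀ k : ZMod p, γ ((γ ^ k.val) w) = (γ ^ (k + 1).val) w := by
      intro k
      rw [← MulAut.mul_apply, ← pow_succ']
      have : γ ^ (k.val + 1) = γ ^ (k + 1).val := by
        rw [pow_eq_pow_mod (k.val + 1) hγ, ZMod.val_add, ZMod.val_one]
      rw [this]
    simp_rw [h1]
    exact Fintype.prod_equiv (Equiv.addRight (1 : ZMod p)) (fun k => (γ ^ (k + 1).val) w)
      (fun k => (γ ^ k.val) w) (fun k => rfl)
  -- each α β^j has trivial norm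
  have h2 : ∀ j : ZMod p, ∏ i : ZMod p, ((α * β ^ j.val) ^ i.val) v = 1 := by
    intro j
    apply hT (α * β ^ j.val) _ (hfαβ j.val) v
    rw [(hc.pow_right j.val).mul_pow, hαp, ← pow_mul, mul_comm, pow_mul, hβp, one_pow, one_mul]
  have h3 : ∏ j : ZMod p, ∏ i : ZMod p, ((α * β ^ j.val) ^ i.val) v = 1 := by
    simp_rw [h2]; simp
  rw [Finset.prod_comm] at h3
  -- compute the inner products
  have h4 : ∀ i : ZMod p, ∏ j : ZMod p, ((α * β ^ j.val) ^ i.val) v
      = (α ^ i.val) (∏ j : ZMod p, (β ^ (j * i).val) v) := by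
    intro i
    rw [map_prod]
    apply Finset.prod_congr rfl
    intro j _
    rw [(hc.pow_right j.val).mul_pow, MulAut.mul_apply, ← pow_mul]
    congr 2
    rw [pow_eq_pow_mod (j.val * i.val) hβp, ZMod.val_mul]
  simp_rw [h4] at h3
  rw [Fintype.prod_eq_single (0 : ZMod p)] at h3
  · simpa [ZMod.card] using h3
  · intro i hi
    have h5 : ∏ j : ZMod p, (β ^ (j * i).val) v = ∏ k : ZMod p, (β ^ k.val) v :=
      Fintype.prod_equiv (Equiv.mulRight₀ i hi) (fun j => (β ^ (j * i).val) v)
        (fun k => (β ^ k.val) v) (fun k => rfl)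
    rw [h5, hT β hβp hfβ v, map_one]


/-- In a group `G` with a normal commutative subgroup `V`, if `a`, `b` commute, have order dividing
`p`, `b ≠ 1`, `a ∉ ⟨b⟩`, and every non-identity `x` with `x ^ p = 1` centralizes no non-identity
element of `V`, then `v ^ p = 1` for all `v ∈ V`. -/
theorem forall_pow_eq_one_of_fpf_rank_two {G : Type*} [Group G] (V : Subgroup G) [hVn : V.Normal]
    [hVc : IsMulCommutative V] {p : ℕ} [hp : Fact p.Prime] (a b : G) (hab : a * b = b * a)
    (ha : a ^ p = 1) (hb : b ^ p = 1) (hb1 : b ≠ 1) (hab' : a ∉ Subgroup.zpowers b)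
    (hfpf : ∀ x : G, x ≠ 1 → x ^ p = 1 → ∀ v ∈ V, x * v = v * x → v = 1) :
    ∀ v ∈ V, v ^ p = 1 := by
  classical
  letI : CommGroup V := { (inferInstance : Group V) with mul_comm := fun x y => mul_comm' x y }
  let α : MulAut V := MulAut.conjNormal a
  let β : MulAut V := MulAut.conjNormal b
  have happly : ∀ (g : G) (v : V), ((MulAut.conjNormal g : MulAut V) v : G) = g * v * g⁻¹ :=
    fun g v => MulAut.conjNormal_apply g v
  have hc : Commute α β := by
    show (MulAut.conjNormal a : MulAut V) * MulAut.conjNormal b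
      = MulAut.conjNormal b * MulAut.conjNormal a
    rw [← map_mul, ← map_mul, hab]
  have hαp : α ^ p = 1 := by
    show (MulAut.conjNormal a : MulAut V) ^ p = 1
    rw [← map_pow, ha, map_one]
  have hβp : β ^ p = 1 := by
    show (MulAut.conjNormal b : MulAut V) ^ p = 1
    rw [← map_pow, hb, map_one]
  have hfix : ∀ (g : G), g ≠ 1 → g ^ p = 1 → ∀ v : V, (MulAut.conjNormal g : MulAut V) v = v → v = 1 := by
    intro g hg1 hgp v hv
    have h1 : g * (v : G) * g⁻¹ = v := by rw [← happly g v, hv]
    have h2 : g * (v : G) = v * g := by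
      calc g * (v : G) = (g * v * g⁻¹) * g := by group
        _ = v * g := by rw [h1]
    exact Subtype.ext (hfpf g hg1 hgp v v.2 h2)
  have hfβ : ∀ v, β v = v → v = 1 := hfix b hb1 hb
  have hfαβ : ∀ (j : ℕ) (v : V), (α * β ^ j) v = v → v = 1 := by
    intro j v hv
    have h1 : α * β ^ j = (MulAut.conjNormal (a * b ^ j) : MulAut V) := by
      show (MulAut.conjNormal a : MulAut V) * (MulAut.conjNormal b) ^ j = _
      rw [← map_pow, ← map_mul]
    rw [h1] at hv
    refine hfix (a * b ^ j) ?_ ?_ v hv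
    · intro h
      apply hab'
      have : a = (b ^ j)⁻¹ := eq_inv_of_mul_eq_one_left h
      rw [this]
      exact Subgroup.inv_mem _ (Subgroup.pow_mem _ (Subgroup.mem_zpowers b) j)
    · have hcomm : Commute a (b ^ j) := Commute.pow_right hab j
      rw [hcomm.mul_pow, ha, ← pow_mul, mul_comm, pow_mul, hb, one_pow, one_mul]
  intro v hv
  have := pow_prime_eq_one_of_fpf_pair α β hc hαp hβp hfβ hfαβ ⟨v, hv⟩
  have h2 := congrArg Subtype.val this
  simpa using h2

universe u

/-- A `p`-subgroup (`p` odd) all of whose non-identity elements centralize no non-identity element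
of a nontrivial normal commutative subgroup `V` without `p`-torsion is cyclic. -/
theorem isCyclic_of_fpf_odd {G : Type u} [Group G] [Finite G] (V : Subgroup G) [hVn : V.Normal]
    [hVc : IsMulCommutative V] (hV : V ≠ ⊥) {p : ℕ} [hp : Fact p.Prime] (hp2 : p ≠ 2)
    (hVp : ∀ v ∈ V, v ^ p = 1 → v = 1)
    (hfpf : ∀ x : G, x ≠ 1 → x ^ p = 1 → ∀ v ∈ V, x * v = v * x → v = 1)
    (Q : Subgroup G) (hQ : IsPGroup p Q) : IsCyclic Q := by
  by_contra hnc
  obtain ⟨a, b, hab, ha, hb, hb1, hnot⟩ :=
    exists_rank_two_of_not_cyclic p hp2 (Nat.card Q) Q hQ le_rfl hnc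
  have h1 := forall_pow_eq_one_of_fpf_rank_two V (a : G) (b : G)
    (by have := congrArg Subtype.val hab; simpa using this)
    (by have := congrArg Subtype.val ha; simpa using this)
    (by have := congrArg Subtype.val hb; simpa using this)
    (fun h => hb1 (Subtype.ext h))
    (by
      intro h
      obtain ⟨j, hj⟩ := Subgroup.mem_zpowers_iff.mp h
      apply hnot
      refine Subgroup.mem_zpowers_iff.mpr ⟨j, Subtype.ext ?_⟩
      simpa using hj)
    hfpf
  apply hV
  rw [Subgroup.eq_bot_iff_forall]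
  intro v hv
  exact hVp v hv (h1 v hv)

end Cfsg.Agent.Lib.Helper18
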