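import Mathlib
import Cfsg.Agent.Lib.Helper18.Basic
import Cfsg.Agent.Lib.Helper18.Fpf
import Cfsg.Agent.S0023
import Cfsg.Agent.Lib.Helper18.Conj
import Cfsg.Agent.Lib.Helper18.PowerMap
import Cfsg.Agent.Lib.Helper19.FrobFix2

/-!
Helper lemmas (helper18) towards the structure of Frobenius complements: coprimality, commutative
invariant sections of the kernel, fixed-point-free pairs, coprime automorphisms of abelian groups,
groups with cyclic Sylow subgroups.
-/

set_option autoImplicit false

namespace Cfsg.Agent.Lib.Helper18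

open scoped commutatorElement

/-- A `p`-group `C` normalizing a finite subgroup `W` of order divisible by `p` centralizes a
nonidentity element of `W`. -/
theorem exists_ne_one_fixed_of_dvd_card {G : Type*} [Group G] {p : ℕ} [Fact p.Prime]
    (W C : Subgroup G) [Finite W] (hC : IsPGroup p C) (hdvd : p ∣ Nat.card W)
    (hnorm : C ≤ Subgroup.normalizer (W : Set G)) :
    ∃ w ∈ W, w ≠ 1 ∧ ∀ c ∈ C, c * w = w * c := by
  let _ : MulAction C W := MulAction.compHom W (Subgroup.inclusion hnorm)
  have hsmul : ∀ (c : C) (w : W), ((c • w : W) : G) = c * w * c⁻¹ := fun c w => rfl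
  have h1 : (1 : W) ∈ MulAction.fixedPoints C W := by
    intro c; apply Subtype.ext; rw [hsmul]; simp
  obtain ⟨b, hb, hne⟩ := hC.exists_fixed_point_of_prime_dvd_card_of_fixed_point W hdvd h1
  refine ⟨b.1, b.2, ?_, ?_⟩
  · intro h; apply hne; exact Subtype.ext h.symm
  · intro c hc
    have h2 := congrArg Subtype.val (hb ⟨c, hc⟩)
    rw [hsmul] at h2
    have h3 : c * (b : G) * c⁻¹ = b := h2
    calc c * b = (c * b * c⁻¹) * c := by group
    _ = b * c := by rw [h3]

/-- If every nonidentity element of `H` centralizes no nonidentity element of the normal subgroup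
`K`, then `|H|` and `|K|` are coprime. -/
theorem coprime_card_of_fpf {G : Type*} [Group G] [Finite G] (K H : Subgroup G) [K.Normal]
    (hfpf : ∀ h ∈ H, h ≠ 1 → K ⊓ Subgroup.centralizer {h} = ⊥) :
    (Nat.card H).Coprime (Nat.card K) := by
  rw [Nat.coprime_iff_gcd_eq_one]
  by_contra hne
  obtain ⟨p, hp, hpd⟩ := Nat.exists_prime_and_dvd hne
  haveI : Fact p.Prime := ⟨hp⟩
  have hpH : p ∣ Nat.card H := hpd.trans (Nat.gcd_dvd_left _ _)
  have hpK : p ∣ Nat.card K := hpd.trans (Nat.gcd_dvd_right _ _)
  obtain ⟨h, hh⟩ := exists_prime_orderOf_dvd_card' p hpH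
  have hh1 : (h : G) ≠ 1 := by
    intro h1
    have : h = 1 := Subtype.ext h1
    rw [this, orderOf_one] at hh
    exact hp.one_lt.ne hh
  have hC : IsPGroup p (Subgroup.zpowers (h : G)) := by
    apply IsPGroup.of_card (n := 1)
    rw [Nat.card_zpowers, pow_one, Subgroup.orderOf_coe, hh]
  have hnorm : Subgroup.zpowers (h : G) ≤ Subgroup.normalizer (K : Set G) := by
    rw [Subgroup.normalizer_eq_top]; exact le_top
  obtain ⟨w, hwK, hw1, hwc⟩ := exists_ne_one_fixed_of_dvd_card K (Subgroup.zpowers (h : G)) hC hpK hnorm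
  have hmem : w ∈ K ⊓ Subgroup.centralizer {(h : G)} := by
    refine Subgroup.mem_inf.mpr ⟨hwK, ?_⟩
    rw [Subgroup.mem_centralizer_iff]
    intro x hx
    rw [Set.mem_singleton_iff] at hx
    rw [hx]
    exact hwc _ (Subgroup.mem_zpowers _)
  rw [hfpf h h.2 hh1] at hmem
  exact hw1 (Subgroup.mem_bot.mp hmem)

/-- If `n` normalizes the commutative finite subgroup `D`, `n ^ k = 1` with `k` prime to `|D|`, and
`n` commutes with every element of prime order of `D`, then `n` centralizes `D`. -/
theorem conj_eq_of_fixes_prime_order {G : Type*} [Group G] (D : Subgroup G) [Finite D]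
    (hDc : ∀ x ∈ D, ∀ y ∈ D, x * y = y * x) (n : G)
    (hn : ∀ x ∈ D, n * x * n⁻¹ ∈ D) (k : ℕ) (hk : n ^ k = 1) (hkD : k.Coprime (Nat.card D))
    (hfix : ∀ x ∈ D, (orderOf x).Prime → n * x * n⁻¹ = x) : ∀ x ∈ D, n * x * n⁻¹ = x := by
  have key : ∀ m : ℕ, ∀ x ∈ D, orderOf x = m → n * x * n⁻¹ = x := by
    intro m
    induction m using Nat.strong_induction_on with
    | _ m ih =>
      intro x hxD hxm
      by_cases hx1 : x = 1
      · rw [hx1]; group
      have hm1 : m ≠ 1 := by
        intro h; rw [h] at hxm; exact hx1 (orderOf_eq_one_iff.mp hxm)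
      have hxfin : orderOf x ≠ 0 := by
        have h2 : orderOf (⟨x, hxD⟩ : D) ≠ 0 := (orderOf_pos _).ne'
        rwa [Subgroup.orderOf_mk] at h2
      obtain ⟨q, hq, hqm⟩ := Nat.exists_prime_and_dvd hm1
      have hord : orderOf (x ^ q) = m / q := by
        rw [orderOf_pow_of_dvd hq.ne_zero (hxm ▸ hqm), hxm]
      have hlt : m / q < m := Nat.div_lt_self (by rw [← hxm]; omega) hq.one_lt
      have h1 : n * x ^ q * n⁻¹ = x ^ q := ih (m / q) hlt (x ^ q) (D.pow_mem hxD q) hord
      obtain ⟨w, hw⟩ : ∃ w, w = n * x * n⁻¹ * x⁻¹ := ⟨_, rfl⟩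
      have hnx : n * x * n⁻¹ ∈ D := hn x hxD
      have hwD : w ∈ D := by rw [hw]; exact D.mul_mem hnx (D.inv_mem hxD)
      have hcomm : Commute (n * x * n⁻¹) x⁻¹ := hDc _ hnx _ (D.inv_mem hxD)
      have hwq : w ^ q = 1 := by
        rw [hw, hcomm.mul_pow, conj_pow, h1, inv_pow, mul_inv_cancel]
      have hnw : n * w * n⁻¹ = w := by
        by_cases hw1 : w = 1
        · rw [hw1]; group
        · apply hfix w hwD
          have hdvd : orderOf w ∣ q := orderOf_dvd_of_pow_eq_one hwq
          rcases (Nat.dvd_prime hq).mp hdvd with h | h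
          · exact absurd (orderOf_eq_one_iff.mp h) hw1
          · rw [h]; exact hq
      have hxw : n * x * n⁻¹ = w * x := by rw [hw]; group
      have hiter : ∀ i : ℕ, n ^ i * x * (n ^ i)⁻¹ = w ^ i * x := by
        intro i
        induction i with
        | zero => simp
        | succ i ihi =>
          have hnwi : n * w ^ i * n⁻¹ = w ^ i := by rw [← conj_pow, hnw]
          calc n ^ (i + 1) * x * (n ^ (i + 1))⁻¹ = n * (n ^ i * x * (n ^ i)⁻¹) * n⁻¹ := by
                rw [pow_succ']; group
            _ = n * (w ^ i * x) * n⁻¹ := by rw [ihi]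
            _ = (n * w ^ i * n⁻¹) * (n * x * n⁻¹) := by group
            _ = w ^ i * (w * x) := by rw [hnwi, hxw]
            _ = w ^ (i + 1) * x := by rw [pow_succ, mul_assoc]
      have h2 := hiter k
      rw [hk] at h2
      have hwk : w ^ k = 1 := by
        have : x = w ^ k * x := by simpa using h2
        exact (mul_eq_right.mp this.symm)
      have hw1 : w = 1 := by
        have h3 : orderOf w ∣ k := orderOf_dvd_of_pow_eq_one hwk
        have h4 : orderOf w ∣ Nat.card D := by
          have : orderOf (⟨w, hwD⟩ : D) ∣ Nat.card D := orderOf_dvd_natCard _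
          rwa [Subgroup.orderOf_mk] at this
        have h5 : orderOf w = 1 := Nat.eq_one_of_dvd_coprimes hkD h3 h4
        exact orderOf_eq_one_iff.mp h5
      rw [hxw, hw1, one_mul]
  intro x hxD
  exact key (orderOf x) x hxD rfl

/-- Variant of `forall_pow_eq_one_of_fpf_rank_two` with the fixed-point-freeness only assumed for
`b` and the elements `a * b ^ j`. -/
theorem forall_pow_eq_one_of_fpf_pair_normal {G : Type*} [Group G] (V : Subgroup G) [hVn : V.Normal]
    [hVc : IsMulCommutative V] {p : ℕ} [hp : Fact p.Prime] (a b : G) (hab : a * b = b * a)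
    (ha : a ^ p = 1) (hb : b ^ p = 1)
    (hfb : ∀ v ∈ V, b * v = v * b → v = 1)
    (hfab : ∀ j : ℕ, ∀ v ∈ V, (a * b ^ j) * v = v * (a * b ^ j) → v = 1) :
    ∀ v ∈ V, v ^ p = 1 := by
  classical
  letI : CommGroup V := { (inferInstance : Group V) with mul_comm := fun x y => mul_comm' x y }
  let α : MulAut V := MulAut.conjNormal a
  let β : MulAut V := MulAut.conjNormal b
  have happly : ∀ (g : G) (v : V), ((MulAut.conjNormal g : MulAut V) v : G) = g * v * g⁻¹ :=
    fun g v => MulAut.conjNormal_apply g v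
  have hc : Commute α β := by
    show (MulAut.conjNormal a : MulAut V) * MulAut.conjNormal b
      = MulAut.conjNormal b * MulAut.conjNormal a
    rw [← map_mul, ← map_mul, hab]
  have hαp : α ^ p = 1 := by
    show (MulAut.conjNormal a : MulAut V) ^ p = 1
    rw [← map_pow, ha, map_one]
  have hβp : β ^ p = 1 := by
    show (MulAut.conjNormal b : MulAut V) ^ p = 1
    rw [← map_pow, hb, map_one]
  have hfix : ∀ (g : G), (∀ v ∈ V, g * v = v * g → v = 1) →
      ∀ v : V, (MulAut.conjNormal g : MulAut V) v = v → v = 1 := by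
    intro g hg v hv
    have h1 : g * (v : G) * g⁻¹ = v := by rw [← happly g v, hv]
    have h2 : g * (v : G) = v * g := by
      calc g * (v : G) = (g * v * g⁻¹) * g := by group
        _ = v * g := by rw [h1]
    exact Subtype.ext (hg v v.2 h2)
  have hfβ : ∀ v, β v = v → v = 1 := hfix b hfb
  have hfαβ : ∀ (j : ℕ) (v : V), (α * β ^ j) v = v → v = 1 := by
    intro j v hv
    have h1 : α * β ^ j = (MulAut.conjNormal (a * b ^ j) : MulAut V) := by
      show (MulAut.conjNormal a : MulAut V) * (MulAut.conjNormal b) ^ j = _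
      rw [← map_pow, ← map_mul]
    rw [h1] at hv
    exact hfix (a * b ^ j) (hfab j) v hv
  intro v hv
  have := pow_prime_eq_one_of_fpf_pair α β hc hαp hβp hfβ hfαβ ⟨v, hv⟩
  have h2 := congrArg Subtype.val this
  simpa using h2

/-- The same for a commutative subgroup `V` that is only normalized by `a` and `b`. -/
theorem forall_pow_eq_one_of_fpf_pair_normalizes {G : Type*} [Group G] (V : Subgroup G)
    (hVc : ∀ x ∈ V, ∀ y ∈ V, x * y = y * x) {p : ℕ} [hp : Fact p.Prime] (a b : G)
    (haV : a ∈ Subgroup.normalizer (V : Set G)) (hbV : b ∈ Subgroup.normalizer (V : Set G))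
    (hab : a * b = b * a) (ha : a ^ p = 1) (hb : b ^ p = 1)
    (hfb : ∀ v ∈ V, b * v = v * b → v = 1)
    (hfab : ∀ j : ℕ, ∀ v ∈ V, (a * b ^ j) * v = v * (a * b ^ j) → v = 1) :
    ∀ v ∈ V, v ^ p = 1 := by
  obtain ⟨N, hN⟩ : ∃ N, N = Subgroup.normalizer (V : Set G) := ⟨_, rfl⟩
  have hVN : V ≤ N := by rw [hN]; exact Subgroup.le_normalizer
  haveI : (V.subgroupOf N).Normal := by
    rw [hN]; exact Subgroup.normal_in_normalizer
  haveI : IsMulCommutative (V.subgroupOf N) := by
    refine ⟨⟨?_⟩⟩
    intro x y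
    apply Subtype.ext
    apply Subtype.ext
    exact hVc _ (Subgroup.mem_subgroupOf.mp x.2) _ (Subgroup.mem_subgroupOf.mp y.2)
  have haN : a ∈ N := by rw [hN]; exact haV
  have hbN : b ∈ N := by rw [hN]; exact hbV
  have key := forall_pow_eq_one_of_fpf_pair_normal (V.subgroupOf N) (⟨a, haN⟩ : N) (⟨b, hbN⟩ : N)
    (Subtype.ext hab) (Subtype.ext (by simpa using ha)) (Subtype.ext (by simpa using hb))
    (by
      intro v hv h
      apply Subtype.ext
      apply hfb (v : G) (Subgroup.mem_subgroupOf.mp hv)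
      have := congrArg Subtype.val h
      simpa using this)
    (by
      intro j v hv h
      apply Subtype.ext
      apply hfab j (v : G) (Subgroup.mem_subgroupOf.mp hv)
      have := congrArg Subtype.val h
      simpa using this)
  intro v hv
  have h1 := key ⟨v, hVN hv⟩ (Subgroup.mem_subgroupOf.mpr hv)
  have h2 := congrArg Subtype.val h1
  simpa using h2

/-- Coprime action on a nontrivial normal subgroup `K` by a solvable subgroup `A`: there is a
nontrivial commutative `A`-invariant `s`-subgroup of `K` for some prime `s`. -/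
theorem exists_abelian_invariant {G : Type*} [Group G] [Finite G] (K A : Subgroup G) [K.Normal]
    (hK : K ≠ ⊥) (hcop : (Nat.card A).Coprime (Nat.card K)) (hsolv : Group.IsSolvable A) :
    ∃ (s : ℕ) (V : Subgroup G), s.Prime ∧ s ∣ Nat.card K ∧ V ≤ K ∧ V ≠ ⊥ ∧
      (∀ x ∈ V, ∀ y ∈ V, x * y = y * x) ∧ (∀ v ∈ V, ∃ k : ℕ, v ^ s ^ k = 1) ∧
      A ≤ Subgroup.normalizer (V : Set G) := by
  have hcard : Nat.card K ≠ 1 := by
    intro h; exact hK (Subgroup.eq_bot_of_card_eq K h)
  obtain ⟨s, hs, hsK⟩ := Nat.exists_prime_and_dvd hcard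
  haveI : Fact s.Prime := ⟨hs⟩
  have hAK : A ≤ Subgroup.normalizer (K : Set G) := by
    rw [Subgroup.normalizer_eq_top]; exact le_top
  obtain ⟨P, hP⟩ := Cfsg.Agent.S0023.result A K hAK hcop (Or.inl hsolv) s
  obtain ⟨Q, hQ⟩ : ∃ Q : Subgroup G, Q = (P : Subgroup K).map K.subtype := ⟨_, rfl⟩
  rw [← hQ] at hP
  have hQK : Q ≤ K := by
    rw [hQ]; intro x hx
    obtain ⟨y, _, rfl⟩ := hx
    exact y.2
  have hQp : IsPGroup s Q := by
    rw [hQ]; exact P.isPGroup'.map _
  -- Q is nontrivial
  obtain ⟨g, hg⟩ := exists_prime_orderOf_dvd_card' s hsK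
  have hPnt : Nontrivial (P : Subgroup K) := by
    have h1 : s ∣ Nat.card (P : Subgroup K) := P.dvd_card_of_dvd_card hsK
    rw [← Finite.one_lt_card_iff_nontrivial]
    exact lt_of_lt_of_le hs.one_lt (Nat.le_of_dvd Nat.card_pos h1)
  have hz := (P.isPGroup').center_nontrivial
  obtain ⟨⟨z, hz⟩, hz1⟩ := exists_ne (1 : Subgroup.center (P : Subgroup K))
  refine ⟨s, Q ⊓ Subgroup.centralizer (Q : Set G), hs, hsK, inf_le_left.trans hQK, ?_, ?_, ?_, ?_⟩
  · intro hbot
    apply hz1
    have hzQ : ((z : K) : G) ∈ Q := by rw [hQ]; exact ⟨(z : K), z.2, rfl⟩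
    have hzC : ((z : K) : G) ∈ Subgroup.centralizer (Q : Set G) := by
      rw [Subgroup.mem_centralizer_iff]
      intro x hx
      rw [hQ] at hx
      obtain ⟨y, hy, rfl⟩ := hx
      have h1 := Subgroup.mem_center_iff.mp hz ⟨y, hy⟩
      have h2 := congrArg (fun t : (P : Subgroup K) => ((t : K) : G)) h1
      simpa using h2
    have : ((z : K) : G) ∈ Q ⊓ Subgroup.centralizer (Q : Set G) := Subgroup.mem_inf.mpr ⟨hzQ, hzC⟩
    rw [hbot, Subgroup.mem_bot] at this
    apply Subtype.ext
    apply Subtype.ext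
    apply Subtype.ext
    simpa using this
  · intro x hx y hy
    have := Subgroup.mem_centralizer_iff.mp (Subgroup.mem_inf.mp hy).2 x (Subgroup.mem_inf.mp hx).1
    exact this
  · intro v hv
    obtain ⟨k, hk⟩ := hQp ⟨v, (Subgroup.mem_inf.mp hv).1⟩
    refine ⟨k, ?_⟩
    have := congrArg Subtype.val hk
    simpa using this
  · -- normalizer
    have hconj : ∀ a ∈ Subgroup.normalizer (Q : Set G), ∀ v ∈ Q ⊓ Subgroup.centralizer (Q : Set G),
        a * v * a⁻¹ ∈ Q ⊓ Subgroup.centralizer (Q : Set G) := by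
      intro a ha v hv
      obtain ⟨hvQ, hvC⟩ := Subgroup.mem_inf.mp hv
      refine Subgroup.mem_inf.mpr ⟨(Subgroup.mem_normalizer_iff.mp ha v).mp hvQ, ?_⟩
      rw [Subgroup.mem_centralizer_iff]
      intro x hx
      have hx' : a⁻¹ * x * a ∈ Q := by
        have := (Subgroup.mem_normalizer_iff.mp (Subgroup.inv_mem _ ha) x).mp hx
        simpa using this
      have h1 := Subgroup.mem_centralizer_iff.mp hvC _ hx'
      calc x * (a * v * a⁻¹) = a * ((a⁻¹ * x * a) * v) * a⁻¹ := by group
        _ = a * (v * (a⁻¹ * x * a)) * a⁻¹ := by rw [h1]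
        _ = a * v * a⁻¹ * x := by group
    intro a haA
    have ha := hP haA
    rw [Subgroup.mem_normalizer_iff]
    intro v
    constructor
    · exact hconj a ha v
    · intro h
      have := hconj a⁻¹ (Subgroup.inv_mem _ ha) _ h
      have h2 : a⁻¹ * (a * v * a⁻¹) * a⁻¹⁻¹ = v := by group
      rwa [h2] at this

theorem mem_zpowers_of_isCyclic_of_pow_eq_one {α : Type*} [Group α] [Finite α] [IsCyclic α]
    (x y : α) (q : ℕ) (hq : 0 < q) (hx : orderOf x = q) (hy : y ^ q = 1) :
    y ∈ Subgroup.zpowers x := by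
  classical
  haveI := Fintype.ofFinite α
  have hle := IsCyclic.card_pow_eq_one_le (α := α) hq
  have hsub : (Finset.univ.filter (fun a : α => a ∈ Subgroup.zpowers x)) ⊆
      (Finset.univ.filter (fun a : α => a ^ q = 1)) := by
    intro a ha
    rw [Finset.mem_filter] at ha ⊢
    refine ⟨Finset.mem_univ _, ?_⟩
    obtain ⟨k, rfl⟩ := Subgroup.mem_zpowers_iff.mp ha.2
    rw [← zpow_natCast, ← zpow_mul, mul_comm, zpow_mul, zpow_natCast, ← hx, pow_orderOf_eq_one,
      one_zpow]
  have hcard : (Finset.univ.filter (fun a : α => a ∈ Subgroup.zpowers x)).card = q := by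
    rw [← hx, ← Nat.card_zpowers, Nat.card_eq_fintype_card, Fintype.card_subtype]
  have heq := Finset.eq_of_subset_of_card_le hsub (by rw [hcard]; exact hle)
  have : y ∈ Finset.univ.filter (fun a : α => a ^ q = 1) := by
    rw [Finset.mem_filter]; exact ⟨Finset.mem_univ _, hy⟩
  rw [← heq, Finset.mem_filter] at this
  exact this.2

/-- A nontrivial finite group all of whose Sylow subgroups are cyclic, in which an element of prime
order `p` normalizing a subgroup of prime order `q ≠ p` centralizes it, has nontrivial centre. -/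
theorem center_ne_bot_of_isZGroup {L : Type*} [Group L] [Finite L] [Nontrivial L] [IsZGroup L]
    (hpq : ∀ (p q : ℕ), p.Prime → q.Prime → p ≠ q → ∀ a b : L, orderOf a = q → orderOf b = p →
      b * a * b⁻¹ ∈ Subgroup.zpowers a → b * a * b⁻¹ = a) :
    Subgroup.center L ≠ ⊥ := by
  by_cases hD : commutator L = ⊥
  · -- commutative
    have hcomm : ∀ a b : L, a * b = b * a := by
      intro a b
      have h1 : ⁅a, b⁆ ∈ commutator L := Subgroup.commutator_mem_commutator (Subgroup.mem_top a) (Subgroup.mem_top b)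
      rw [hD, Subgroup.mem_bot, commutatorElement_def] at h1
      calc a * b = (a * b * a⁻¹ * b⁻¹) * (b * a) := by group
        _ = b * a := by rw [h1, one_mul]
    intro hbot
    obtain ⟨x, hx⟩ := exists_ne (1 : L)
    apply hx
    have : x ∈ Subgroup.center L := by
      rw [Subgroup.mem_center_iff]
      intro g; exact hcomm g x
    rw [hbot] at this
    exact Subgroup.mem_bot.mp this
  · have hlt : commutator L < ⊤ := IsZGroup.commutator_lt L
    have hidx : (commutator L).index ≠ 1 := by
      intro h; exact hlt.ne (Subgroup.index_eq_one.mp h)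
    obtain ⟨p, hp, hpi⟩ := Nat.exists_prime_and_dvd hidx
    haveI : Fact p.Prime := ⟨hp⟩
    have hcop : (Nat.card (commutator L)).Coprime (commutator L).index :=
      IsZGroup.coprime_commutator_index L
    have hpD : ¬ p ∣ Nat.card (commutator L) := by
      intro h
      have h1 : p ∣ Nat.gcd (Nat.card (commutator L)) (commutator L).index := Nat.dvd_gcd h hpi
      rw [Nat.Coprime.gcd_eq_one hcop] at h1
      exact hp.one_lt.ne' (Nat.dvd_one.mp h1)
    have hpL : p ∣ Nat.card L := hpi.trans (Subgroup.index_dvd_card _)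
    obtain ⟨b, hb⟩ := exists_prime_orderOf_dvd_card' p hpL
    have hb1 : b ≠ 1 := by
      intro h; rw [h, orderOf_one] at hb; exact hp.one_lt.ne hb
    have hbp : b ^ p = 1 := by rw [← hb]; exact pow_orderOf_eq_one b
    haveI : IsCyclic (commutator L) := IsZGroup.isCyclic_commutator L
    have hDc : ∀ x ∈ commutator L, ∀ y ∈ commutator L, x * y = y * x := by
      intro x hx y hy
      have := mul_comm' (⟨x, hx⟩ : commutator L) ⟨y, hy⟩
      exact congrArg Subtype.val this
    have hnorm : ∀ x ∈ commutator L, b * x * b⁻¹ ∈ commutator L := by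
      intro x hx
      exact (inferInstance : (commutator L).Normal).conj_mem x hx b
    have hcent : ∀ x ∈ commutator L, b * x * b⁻¹ = x := by
      apply conj_eq_of_fixes_prime_order (commutator L) hDc b hnorm p hbp
        ((Nat.Prime.coprime_iff_not_dvd hp).mpr hpD)
      intro x hx hxq
      have hqD : orderOf x ∣ Nat.card (commutator L) := by
        have : orderOf (⟨x, hx⟩ : commutator L) ∣ Nat.card (commutator L) := orderOf_dvd_natCard _
        rwa [Subgroup.orderOf_mk] at this
      have hqp : p ≠ orderOf x := by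
        intro h; exact hpD (h ▸ hqD)
      apply hpq p (orderOf x) hp hxq hqp x b rfl hb
      -- membership in zpowers x
      have h1 := mem_zpowers_of_isCyclic_of_pow_eq_one (⟨x, hx⟩ : commutator L)
        ⟨b * x * b⁻¹, hnorm x hx⟩ (orderOf x) hxq.pos (Subgroup.orderOf_mk x hx)
        (by
          apply Subtype.ext
          simp only [Subgroup.coe_pow, Subgroup.coe_one]
          rw [conj_pow, pow_orderOf_eq_one]; group)
      obtain ⟨k, hk⟩ := Subgroup.mem_zpowers_iff.mp h1
      refine Subgroup.mem_zpowers_iff.mpr ⟨k, ?_⟩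
      have := congrArg Subtype.val hk
      simpa using this
    -- b is central
    intro hbot
    apply hb1
    have : b ∈ Subgroup.center L := by
      rw [Subgroup.mem_center_iff]
      intro h
      obtain ⟨d, hd⟩ : ∃ d, d = h * b * h⁻¹ * b⁻¹ := ⟨_, rfl⟩
      have hdD : d ∈ commutator L := by
        rw [hd]
        have : ⁅h, b⁆ ∈ commutator L :=
          Subgroup.commutator_mem_commutator (Subgroup.mem_top h) (Subgroup.mem_top b)
        rwa [commutatorElement_def] at this
      have hbd : b * d = d * b := by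
        have := hcent d hdD
        calc b * d = (b * d * b⁻¹) * b := by group
          _ = d * b := by rw [this]
      have hconj : h * b * h⁻¹ = d * b := by rw [hd]; group
      have hdp : d ^ p = 1 := by
        have h1 : (h * b * h⁻¹) ^ p = 1 := by rw [conj_pow, hbp]; group
        rw [hconj, (show Commute d b from hbd.symm).mul_pow, hbp, mul_one] at h1
        exact h1
      have hd1 : d = 1 := by
        have h3 : orderOf d ∣ p := orderOf_dvd_of_pow_eq_one hdp
        have h4 : orderOf d ∣ Nat.card (commutator L) := by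
          have : orderOf (⟨d, hdD⟩ : commutator L) ∣ Nat.card (commutator L) := orderOf_dvd_natCard _
          rwa [Subgroup.orderOf_mk] at this
        have h5 : orderOf d = 1 :=
          Nat.eq_one_of_dvd_coprimes ((Nat.Prime.coprime_iff_not_dvd hp).mpr hpD) h3 h4
        exact orderOf_eq_one_iff.mp h5
      rw [hd1, one_mul] at hconj
      calc h * b = (h * b * h⁻¹) * h := by group
        _ = b * h := by rw [hconj]
    rw [hbot] at this
    exact Subgroup.mem_bot.mp this


/-- In a finite group, `g` normalizes `A` as soon as it conjugates `A` into `A`. -/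
theorem mem_normalizer_of_forall_conj_mem' {G : Type*} [Group G] [Finite G] (g : G) (A : Subgroup G)
    (h : ∀ x ∈ A, g * x * g⁻¹ ∈ A) : g ∈ Subgroup.normalizer (A : Set G) := by
  apply mem_normalizer_of_conj_smul_le
  intro x hx
  rw [mem_conj_smul_iff'] at hx
  have := h _ hx
  have h2 : g * (g⁻¹ * x * g) * g⁻¹ = x := by group
  rwa [h2] at this

/-- Fixed-point-free action of a group of order `pq`: if `b` of prime order `p` normalizes `⟨a⟩` of
prime order `q ≠ p`, and every nonidentity element of `H ∋ a, b` centralizes no nonidentity element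
of the nontrivial normal subgroup `K`, then `b` centralizes `a`. -/
theorem conj_eq_of_fpf_pq {G : Type*} [Group G] [Finite G] (K H : Subgroup G) [K.Normal]
    (hK : K ≠ ⊥) (hfpf : ∀ h ∈ H, h ≠ 1 → K ⊓ Subgroup.centralizer {h} = ⊥)
    (hsolv : Group.IsSolvable H)
    (p q : ℕ) (hp : p.Prime) (hq : q.Prime) (hpq : p ≠ q) (a b : G) (haH : a ∈ H) (hbH : b ∈ H)
    (ha : orderOf a = q) (hb : orderOf b = p) (hn : b * a * b⁻¹ ∈ Subgroup.zpowers a) :
    b * a * b⁻¹ = a := by
  by_contra hne
  haveI : Fact q.Prime := ⟨hq⟩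
  have hcop := coprime_card_of_fpf K H hfpf
  have ha1 : a ≠ 1 := by
    intro h; rw [h, orderOf_one] at ha; exact hq.one_lt.ne ha
  have hbp : b ^ p = 1 := by rw [← hb]; exact pow_orderOf_eq_one b
  -- b normalizes ⟨a⟩
  have hconjpow : ∀ x ∈ Subgroup.zpowers a, b * x * b⁻¹ ∈ Subgroup.zpowers a := by
    intro x hx
    obtain ⟨k, rfl⟩ := Subgroup.mem_zpowers_iff.mp hx
    have : b * a ^ k * b⁻¹ = (b * a * b⁻¹) ^ k := by
      rw [conj_zpow]
    rw [this]
    exact Subgroup.zpow_mem _ hn k
  have hbN : b ∈ Subgroup.normalizer (Subgroup.zpowers a : Set G) :=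
    mem_normalizer_of_forall_conj_mem' b _ hconjpow
  -- the subgroup A = ⟨a⟩⟨b⟩
  obtain ⟨A, hA⟩ : ∃ A : Subgroup G, A = Subgroup.zpowers a ⊔ Subgroup.zpowers b := ⟨_, rfl⟩
  have hAH : A ≤ H := by
    rw [hA]
    exact sup_le ((Subgroup.zpowers_le).mpr haH) ((Subgroup.zpowers_le).mpr hbH)
  have haA : a ∈ A := by rw [hA]; exact (le_sup_left : Subgroup.zpowers a ≤ _) (Subgroup.mem_zpowers a)
  have hbA : b ∈ A := by rw [hA]; exact (le_sup_right : Subgroup.zpowers b ≤ _) (Subgroup.mem_zpowers b)
  have hAsolv : Group.IsSolvable A :=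
    Group.isSolvable_of_isSolvable_injective (f := Subgroup.inclusion hAH) (Subgroup.inclusion_injective hAH)
  have hAcop : (Nat.card A).Coprime (Nat.card K) :=
    Nat.Coprime.coprime_dvd_left (Subgroup.card_dvd_of_le hAH) hcop
  obtain ⟨s, V, hs, hsK, hVK, hV1, hVc, hVp, hAV⟩ := exists_abelian_invariant K A hK hAcop hAsolv
  have hqs : (Nat.card (Subgroup.zpowers a)).Coprime s := by
    rw [Nat.card_zpowers, ha]
    have h1 : q ∣ Nat.card H := by
      have : orderOf (⟨a, haH⟩ : H) ∣ Nat.card H := orderOf_dvd_natCard _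
      rwa [Subgroup.orderOf_mk, ha] at this
    exact Nat.Coprime.coprime_dvd_left h1 (Nat.Coprime.coprime_dvd_right hsK hcop)
  -- all elements k * b have order dividing p
  have hord : ∀ k ∈ Subgroup.zpowers a, (k * b) ^ p = 1 := by
    intro k hk
    have hstep : ∀ n : ℕ, ∃ c ∈ Subgroup.zpowers a, (k * b) ^ n = c * b ^ n := by
      intro n
      induction n with
      | zero => exact ⟨1, Subgroup.one_mem _, by simp⟩
      | succ n ih =>
        obtain ⟨c, hc, hcn⟩ := ih
        have hbn : b ^ n ∈ Subgroup.normalizer (Subgroup.zpowers a : Set G) :=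
          Subgroup.pow_mem _ hbN n
        have h1 : b ^ n * k * (b ^ n)⁻¹ ∈ Subgroup.zpowers a :=
          (Subgroup.mem_normalizer_iff.mp hbn k).mp hk
        refine ⟨c * (b ^ n * k * (b ^ n)⁻¹), Subgroup.mul_mem _ hc h1, ?_⟩
        rw [pow_succ, hcn, pow_succ]
        group
    obtain ⟨c, hc, hcp⟩ := hstep p
    rw [hbp, mul_one] at hcp
    by_contra hc1
    rw [hcp] at hc1
    -- c generates ⟨a⟩
    have hcard : Nat.card (Subgroup.zpowers a) = q := by rw [Nat.card_zpowers, ha]
    have htop : Subgroup.zpowers (⟨c, hc⟩ : Subgroup.zpowers a) = ⊤ :=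
      zpowers_eq_top_of_prime_card hcard (fun h => hc1 (congrArg Subtype.val h))
    have hac : (⟨a, Subgroup.mem_zpowers a⟩ : Subgroup.zpowers a) ∈
        Subgroup.zpowers (⟨c, hc⟩ : Subgroup.zpowers a) := by rw [htop]; exact Subgroup.mem_top _
    obtain ⟨m, hm⟩ := Subgroup.mem_zpowers_iff.mp hac
    have hm' : c ^ m = a := by
      have := congrArg Subtype.val hm
      simpa using this
    -- k * b commutes with c, hence with a
    have h1 : Commute (k * b) c := by
      rw [← hcp]; exact (Commute.refl (k * b)).pow_right p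
    have h2 : Commute (k * b) a := by
      rw [← hm']; exact h1.zpow_right m
    have h3 : Commute k a := by
      obtain ⟨j, rfl⟩ := Subgroup.mem_zpowers_iff.mp hk
      exact (Commute.refl a).zpow_left j
    apply hne
    have h4 : k * b * a = a * (k * b) := h2.eq
    have h5 : k * a = a * k := h3.eq
    have h6 : b * a = a * b := by
      have : k * (b * a) = k * (a * b) := by
        calc k * (b * a) = k * b * a := by group
          _ = a * (k * b) := h4
          _ = (a * k) * b := by group
          _ = (k * a) * b := by rw [h5]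
          _ = k * (a * b) := by group
      exact mul_left_cancel this
    rw [h6]; group
  obtain ⟨k, hk, v, hv, hv1, hkv⟩ := Cfsg.Agent.Lib.Helper19.exists_fixed_of_frobenius_like' s p hp V
    (Subgroup.zpowers a) b a hVc hVp hV1
    (((Subgroup.zpowers_le).mpr haA).trans hAV) (hAV hbA) hqs hbN hord (Subgroup.mem_zpowers a)
    (by
      intro v hv hcomm
      have hmem : v ∈ K ⊓ Subgroup.centralizer {a} := by
        refine Subgroup.mem_inf.mpr ⟨hVK hv, ?_⟩
        rw [Subgroup.mem_centralizer_iff]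
        intro x hx
        rw [Set.mem_singleton_iff] at hx
        rw [hx]; exact hcomm
      rw [hfpf a haH ha1] at hmem
      exact Subgroup.mem_bot.mp hmem)
  have hkbH : k * b ∈ H := H.mul_mem (((Subgroup.zpowers_le).mpr haH) hk) hbH
  have hkb1 : k * b ≠ 1 := by
    intro h
    have hbk : b = k⁻¹ := (eq_inv_of_mul_eq_one_right h)
    have hbz : b ∈ Subgroup.zpowers a := by rw [hbk]; exact Subgroup.inv_mem _ hk
    have h1 : orderOf (⟨b, hbz⟩ : Subgroup.zpowers a) ∣ Nat.card (Subgroup.zpowers a) :=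
      orderOf_dvd_natCard _
    rw [Subgroup.orderOf_mk, hb, Nat.card_zpowers, ha] at h1
    exact hpq ((Nat.prime_dvd_prime_iff_eq hp hq).mp h1)
  have hmem : v ∈ K ⊓ Subgroup.centralizer {k * b} := by
    refine Subgroup.mem_inf.mpr ⟨hVK hv, ?_⟩
    rw [Subgroup.mem_centralizer_iff]
    intro x hx
    rw [Set.mem_singleton_iff] at hx
    rw [hx]; exact hkv
  rw [hfpf _ hkbH hkb1] at hmem
  exact hv1 (Subgroup.mem_bot.mp hmem)


universe u

/-- Sylow subgroups (for odd primes) of a group acting fixed-point-freely on a nontrivial normal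
subgroup are cyclic. -/
theorem isCyclic_sylow_of_fpf {G : Type u} [Group G] [Finite G] (K H : Subgroup G) [K.Normal]
    (hK : K ≠ ⊥) (hfpf : ∀ h ∈ H, h ≠ 1 → K ⊓ Subgroup.centralizer {h} = ⊥)
    (p : ℕ) [hp : Fact p.Prime] (hp2 : p ≠ 2) (P : Sylow p H) : IsCyclic (P : Subgroup H) := by
  by_contra hnc
  obtain ⟨a, b, hab, ha, hb, hb1, hnot⟩ :=
    exists_rank_two_of_not_cyclic p hp2 (Nat.card (P : Subgroup H)) (P : Subgroup H) P.isPGroup'
      le_rfl hnc
  have hcop := coprime_card_of_fpf K H hfpf
  obtain ⟨A, hA⟩ : ∃ A : Subgroup G, A = (P : Subgroup H).map H.subtype := ⟨_, rfl⟩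
  have hAH : A ≤ H := by
    rw [hA]; intro x hx
    obtain ⟨y, _, rfl⟩ := hx
    exact y.2
  have hAp : IsPGroup p A := by rw [hA]; exact P.isPGroup'.map _
  have hAsolv : Group.IsSolvable A := by
    haveI := hAp.isNilpotent
    infer_instance
  have hAcop : (Nat.card A).Coprime (Nat.card K) :=
    Nat.Coprime.coprime_dvd_left (Subgroup.card_dvd_of_le hAH) hcop
  obtain ⟨s, V, hs, hsK, hVK, hV1, hVc, hVp, hAV⟩ := exists_abelian_invariant K A hK hAcop hAsolv
  have haA : ((a : H) : G) ∈ A := by rw [hA]; exact ⟨(a : H), a.2, rfl⟩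
  have hbA : ((b : H) : G) ∈ A := by rw [hA]; exact ⟨(b : H), b.2, rfl⟩
  have hfix : ∀ g : G, g ∈ H → g ≠ 1 → ∀ v ∈ V, g * v = v * g → v = 1 := by
    intro g hg hg1 v hv hcomm
    have hmem : v ∈ K ⊓ Subgroup.centralizer {g} := by
      refine Subgroup.mem_inf.mpr ⟨hVK hv, ?_⟩
      rw [Subgroup.mem_centralizer_iff]
      intro x hx
      rw [Set.mem_singleton_iff] at hx
      rw [hx]; exact hcomm
    rw [hfpf g hg hg1] at hmem
    exact Subgroup.mem_bot.mp hmem
  have key := forall_pow_eq_one_of_fpf_pair_normalizes V hVc ((a : H) : G) ((b : H) : G)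
    (hAV haA) (hAV hbA)
    (by
      have := congrArg (fun t : (P : Subgroup H) => ((t : H) : G)) hab
      simpa using this)
    (by
      have := congrArg (fun t : (P : Subgroup H) => ((t : H) : G)) ha
      simpa using this)
    (by
      have := congrArg (fun t : (P : Subgroup H) => ((t : H) : G)) hb
      simpa using this)
    (hfix _ (b : H).2 (by
      intro h
      apply hb1
      apply Subtype.ext; apply Subtype.ext; simpa using h))
    (by
      intro j
      apply hfix _ (H.mul_mem (a : H).2 (H.pow_mem (b : H).2 j))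
      intro h
      apply hnot
      have h2 : a * b ^ j = 1 := by
        apply Subtype.ext; apply Subtype.ext
        simpa using h
      have h3 : a = (b ^ j)⁻¹ := eq_inv_of_mul_eq_one_left h2
      rw [h3]
      exact Subgroup.inv_mem _ (Subgroup.pow_mem _ (Subgroup.mem_zpowers b) j))
  -- contradiction: V is an s-group with all p-th powers trivial
  obtain ⟨v, hv, hv1⟩ := (Subgroup.bot_or_exists_ne_one V).resolve_left hV1
  obtain ⟨k, hk⟩ := hVp v hv
  have h1 : orderOf v ∣ p := orderOf_dvd_of_pow_eq_one (key v hv)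
  have h2 : orderOf v ∣ s ^ k := orderOf_dvd_of_pow_eq_one hk
  have hpH : p ∣ Nat.card H := by
    have h3 : orderOf (b : H) ∣ Nat.card H := orderOf_dvd_natCard _
    have h4 : orderOf b = p := by
      apply orderOf_eq_prime hb hb1
    rw [Subgroup.orderOf_coe, h4] at h3
    exact h3
  have hps : p.Coprime (s ^ k) := by
    apply Nat.Coprime.pow_right
    exact Nat.Coprime.coprime_dvd_left hpH (Nat.Coprime.coprime_dvd_right hsK hcop)
  have h5 : orderOf v = 1 := Nat.eq_one_of_dvd_coprimes hps h1 h2
  exact hv1 (orderOf_eq_one_iff.mp h5)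


end Cfsg.Agent.Lib.Helper18
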