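import Mathlib
import Cfsg.Agent.Lib.Helper18.FrobComp
import Cfsg.Agent.Lib.Helper10.PGroupBasic
import Cfsg.Agent.Lib.Helper1.Noncyclic
import Cfsg.Agent.Lib.Helper3.Dihedral

/-!
Helper lemmas (helper18): finite `2`-groups with a unique involution are cyclic or generalized
quaternion; recognition of `QuaternionGroup n` from generators and relations.
-/

set_option autoImplicit false

namespace Cfsg.Agent.Lib.Helper18

/-- In a cyclic group `⟨a⟩` of finite order, membership in `⟨w⟩` is decided by orders. -/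
theorem mem_zpowers_of_orderOf_dvd {G : Type*} [Group G] (a u w : G) (ha : orderOf a ≠ 0)
    (hu : u ∈ Subgroup.zpowers a) (hw : w ∈ Subgroup.zpowers a) (h : orderOf u ∣ orderOf w) :
    u ∈ Subgroup.zpowers w := by
  haveI : Finite (Subgroup.zpowers a) := by
    rw [← Nat.card_pos_iff.trans ⟨fun h => h.2, fun h => ⟨⟨1⟩, h⟩⟩]
    rw [Nat.card_zpowers]; omega
  have hw0 : orderOf w ≠ 0 := by
    have : orderOf (⟨w, hw⟩ : Subgroup.zpowers a) ≠ 0 := (orderOf_pos _).ne'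
    rwa [Subgroup.orderOf_mk] at this
  have h1 := mem_zpowers_of_isCyclic_of_pow_eq_one (⟨w, hw⟩ : Subgroup.zpowers a) ⟨u, hu⟩
    (orderOf w) (by omega) (Subgroup.orderOf_mk w hw)
    (by
      apply Subtype.ext
      simp only [Subgroup.coe_pow, Subgroup.coe_one]
      exact orderOf_dvd_iff_pow_eq_one.mp h)
  obtain ⟨k, hk⟩ := Subgroup.mem_zpowers_iff.mp h1
  refine Subgroup.mem_zpowers_iff.mpr ⟨k, ?_⟩
  have := congrArg Subtype.val hk
  simpa using this

/-- In a cyclic `2`-group, if `v ∉ ⟨u⟩` then `u ∈ ⟨v²⟩`. -/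
theorem mem_zpowers_sq_of_not_mem {G : Type*} [Group G] (a u v : G) (m : ℕ)
    (ha : orderOf a = 2 ^ m)
    (hu : u ∈ Subgroup.zpowers a) (hv : v ∈ Subgroup.zpowers a) (h : v ∉ Subgroup.zpowers u) :
    u ∈ Subgroup.zpowers (v ^ 2) := by
  have ha0 : orderOf a ≠ 0 := by rw [ha]; positivity
  have hudvd : orderOf u ∣ 2 ^ m := by rw [← ha]; exact orderOf_dvd_of_mem_zpowers hu
  have hvdvd : orderOf v ∣ 2 ^ m := by rw [← ha]; exact orderOf_dvd_of_mem_zpowers hv
  obtain ⟨α, _, hα⟩ := (Nat.dvd_prime_pow Nat.prime_two).mp hudvd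
  obtain ⟨β, _, hβ⟩ := (Nat.dvd_prime_pow Nat.prime_two).mp hvdvd
  have hlt : α < β := by
    by_contra hcon
    apply h
    apply mem_zpowers_of_orderOf_dvd a v u ha0 hv hu
    rw [hα, hβ]
    exact pow_dvd_pow 2 (by omega)
  have hv2 : orderOf (v ^ 2) = 2 ^ (β - 1) := by
    rw [orderOf_pow_of_dvd (by norm_num) (by rw [hβ]; exact dvd_pow_self 2 (by omega)), hβ]
    have : β = (β - 1) + 1 := by omega
    conv_lhs => rw [this, pow_succ]
    simp
  apply mem_zpowers_of_orderOf_dvd a u (v ^ 2) ha0 hu (Subgroup.pow_mem _ hv 2)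
  rw [hα, hv2]
  exact pow_dvd_pow 2 (by omega)

/-- Core lemma: in a group with at most one involution, let `x` normalize the cyclic `2`-group
`⟨a⟩`, with `x ^ 2 ∈ ⟨a⟩` and `x` not commuting with `a`. Then `x` inverts `a` and has order 4. -/
theorem inverts_of_unique_involution {G : Type*} [Group G]
    (huniq : ∀ s t : G, orderOf s = 2 → orderOf t = 2 → s = t)
    (a x : G) (m : ℕ) (ha : orderOf a = 2 ^ m)
    (hxa : x * a * x⁻¹ ∈ Subgroup.zpowers a) (hx2 : x ^ 2 ∈ Subgroup.zpowers a)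
    (hnc : x * a ≠ a * x) :
    x * a * x⁻¹ = a⁻¹ ∧ orderOf x = 4 := by
  -- basic facts
  have hxnot : x ∉ Subgroup.zpowers a := by
    intro h
    obtain ⟨k, rfl⟩ := Subgroup.mem_zpowers_iff.mp h
    exact hnc ((Commute.refl a).zpow_left k).eq
  have ha1 : a ≠ 1 := by
    intro h; apply hnc; rw [h]; simp
  have hm : m ≠ 0 := by
    intro h; rw [h, pow_zero, orderOf_eq_one_iff] at ha; exact ha1 ha
  -- the involution of ⟨a⟩
  obtain ⟨z, hz⟩ : ∃ z, z = a ^ (2 ^ (m - 1)) := ⟨_, rfl⟩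
  have hzmem : z ∈ Subgroup.zpowers a := by rw [hz]; exact Subgroup.pow_mem _ (Subgroup.mem_zpowers a) _
  have hzord : orderOf z = 2 := by
    rw [hz, orderOf_pow_of_dvd (by positivity) (by rw [ha]; exact pow_dvd_pow 2 (by omega)), ha]
    have : m = (m - 1) + 1 := by omega
    conv_lhs => rw [this, pow_succ]
    simp
  -- no element of x⟨a⟩ squares to 1
  have hnosq : ∀ y : G, y ∉ Subgroup.zpowers a → y ^ 2 ≠ 1 := by
    intro y hy hy2
    by_cases hy1 : y = 1
    · exact hy (hy1 ▸ Subgroup.one_mem _)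
    · have : orderOf y = 2 := orderOf_eq_prime hy2 hy1
      have := huniq y z this hzord
      exact hy (this ▸ hzmem)
  obtain ⟨t, ht⟩ : ∃ t, t = x * a * x⁻¹ * a := ⟨_, rfl⟩
  have htmem : t ∈ Subgroup.zpowers a := by
    rw [ht]; exact Subgroup.mul_mem _ hxa (Subgroup.mem_zpowers a)
  -- commutation facts
  have hca : ∀ g ∈ Subgroup.zpowers a, Commute g a := by
    intro g hg
    obtain ⟨k, rfl⟩ := Subgroup.mem_zpowers_iff.mp hg
    exact (Commute.refl a).zpow_left k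
  have hcomm : ∀ g ∈ Subgroup.zpowers a, ∀ h ∈ Subgroup.zpowers a, Commute g h := by
    intro g hg h hh
    obtain ⟨k, rfl⟩ := Subgroup.mem_zpowers_iff.mp hh
    exact (hca g hg).zpow_right k
  -- squares in the coset
  have hsq : ∀ i : ℤ, (x * a ^ i) ^ 2 = t ^ i * x ^ 2 := by
    intro i
    have h1 : x * a ^ i * x⁻¹ = (x * a * x⁻¹) ^ i := by rw [conj_zpow]
    have h2 : Commute (x ^ 2) (a ^ i) := hcomm _ hx2 _ (Subgroup.zpow_mem _ (Subgroup.mem_zpowers a) i)
    have h3 : Commute (x * a * x⁻¹) a := hca _ hxa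
    calc (x * a ^ i) ^ 2 = (x * a ^ i * x⁻¹) * (x ^ 2 * a ^ i) * (x ^ 2)⁻¹ * x ^ 2 := by
          rw [pow_two, pow_two]; group
      _ = (x * a ^ i * x⁻¹) * (a ^ i * x ^ 2) * (x ^ 2)⁻¹ * x ^ 2 := by rw [h2.eq]
      _ = (x * a * x⁻¹) ^ i * a ^ i * x ^ 2 := by rw [h1]; group
      _ = t ^ i * x ^ 2 := by rw [ht, h3.mul_zpow]
  -- x² ∉ ⟨t⟩
  have hx2t : x ^ 2 ∉ Subgroup.zpowers t := by
    intro h
    obtain ⟨k, hk⟩ := Subgroup.mem_zpowers_iff.mp h
    have h1 : (x * a ^ (-k)) ^ 2 = 1 := by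
      rw [hsq, ← hk, ← zpow_add]; simp
    refine hnosq _ ?_ h1
    intro h2
    apply hxnot
    have : x = (x * a ^ (-k)) * a ^ k := by group
    rw [this]
    exact Subgroup.mul_mem _ h2 (Subgroup.zpow_mem _ (Subgroup.mem_zpowers a) k)
  have ht4 : t ∈ Subgroup.zpowers ((x ^ 2) ^ 2) := mem_zpowers_sq_of_not_mem a t (x ^ 2) m ha htmem hx2 hx2t
  obtain ⟨k, hk⟩ := Subgroup.mem_zpowers_iff.mp ht4
  obtain ⟨j, hj⟩ := Subgroup.mem_zpowers_iff.mp hx2
  -- x a x⁻¹ = (x^4)^k a⁻¹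
  have hconj : x * a * x⁻¹ = ((x ^ 2) ^ 2) ^ k * a⁻¹ := by
    rw [hk, ht]; group
  -- conjugating x² = a^j
  have h4 : ((x ^ 2) ^ 2) ^ (k * j - 1) = 1 := by
    have h1 : x * x ^ 2 * x⁻¹ = x ^ 2 := by group
    have h2 : x * a ^ j * x⁻¹ = (x * a * x⁻¹) ^ j := by rw [conj_zpow]
    have h3 : Commute (((x ^ 2) ^ 2) ^ k) a⁻¹ := by
      apply hcomm
      · exact Subgroup.zpow_mem _ (Subgroup.pow_mem _ hx2 2) k
      · exact Subgroup.inv_mem _ (Subgroup.mem_zpowers a)
    rw [← hj, h2, hconj, h3.mul_zpow, inv_zpow, hj, ← zpow_mul] at h1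
    -- h1 : ((x^2)^2)^(k*j) * (x^2)⁻¹ = x^2
    have h5 : ((x ^ 2) ^ 2) ^ (k * j) = (x ^ 2) ^ 2 := by
      calc ((x ^ 2) ^ 2) ^ (k * j) = (((x ^ 2) ^ 2) ^ (k * j) * (x ^ 2)⁻¹) * x ^ 2 := by group
        _ = x ^ 2 * x ^ 2 := by rw [h1]
        _ = (x ^ 2) ^ 2 := by rw [← pow_two]
    rw [zpow_sub, zpow_one, h5, mul_inv_cancel]
  -- x^4 = 1
  have hx4 : (x ^ 2) ^ 2 = 1 := by
    by_contra hne
    have hdvd : (orderOf ((x ^ 2) ^ 2) : ℤ) ∣ k * j - 1 := orderOf_dvd_iff_zpow_eq_one.mpr h4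
    have h2dvd : (2 : ℤ) ∣ (orderOf ((x ^ 2) ^ 2) : ℤ) := by
      have h1 : orderOf ((x ^ 2) ^ 2) ∣ 2 ^ m := by
        rw [← ha]; exact orderOf_dvd_of_mem_zpowers (Subgroup.pow_mem _ hx2 2)
      obtain ⟨e, _, he⟩ := (Nat.dvd_prime_pow Nat.prime_two).mp h1
      have he0 : e ≠ 0 := by
        intro h; rw [h, pow_zero, orderOf_eq_one_iff] at he; exact hne he
      rw [he]
      have : (2 : ℕ) ∣ 2 ^ e := dvd_pow_self 2 he0
      exact_mod_cast this
    have hodd : Odd (k * j) := by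
      have h1 : (2 : ℤ) ∣ k * j - 1 := h2dvd.trans hdvd
      obtain ⟨c, hc⟩ := h1
      exact ⟨c, by omega⟩
    have hjodd : Odd j := (Int.odd_mul.mp hodd).2
    -- a ∈ ⟨a^j⟩ = ⟨x²⟩, so x commutes with a
    have hcop : IsCoprime j ((2 : ℤ) ^ m) := by
      apply IsCoprime.pow_right
      rw [Int.isCoprime_iff_gcd_eq_one]
      obtain ⟨c, hc⟩ := hjodd
      rw [hc]
      simp
    obtain ⟨u, v, huv⟩ := hcop
    have hapow : a ^ ((2 : ℤ) ^ m) = 1 := by
      have : a ^ (2 ^ m : ℕ) = 1 := by rw [← ha]; exact pow_orderOf_eq_one a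
      rw [← this]
      norm_cast
    have hmem : a ∈ Subgroup.zpowers (x ^ 2) := by
      refine Subgroup.mem_zpowers_iff.mpr ⟨u, ?_⟩
      rw [← hj, ← zpow_mul]
      have : a ^ (j * u) = a ^ (u * j + v * 2 ^ m) := by
        rw [zpow_add, mul_comm v, zpow_mul _ (2 ^ m) v, hapow, one_zpow, mul_one, mul_comm]
      rw [this, huv, zpow_one]
    obtain ⟨l, hl⟩ := Subgroup.mem_zpowers_iff.mp hmem
    apply hnc
    have : Commute x a := by
      rw [← hl]
      exact ((Commute.refl x).pow_right 2).zpow_right l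
    exact this.eq
  refine ⟨?_, ?_⟩
  · rw [hconj, hx4, one_zpow, one_mul]
  · have hx21 : x ^ 2 ≠ 1 := hnosq x hxnot
    have h4' : x ^ 4 = 1 := by
      rw [← hx4, ← pow_mul]
    have hdvd : orderOf x ∣ 4 := orderOf_dvd_of_pow_eq_one h4'
    have h22 : (4 : ℕ) = 2 ^ 2 := by norm_num
    rw [h22] at hdvd
    obtain ⟨e, he, heq⟩ := (Nat.dvd_prime_pow Nat.prime_two).mp hdvd
    interval_cases e
    · exfalso; apply hx21
      rw [pow_zero, orderOf_eq_one_iff] at heq
      rw [heq]; simp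
    · exfalso; apply hx21
      rw [pow_one] at heq
      rw [← heq]; exact pow_orderOf_eq_one x
    · rw [heq]; norm_num


/-- An abelian `2`-subgroup of a group with at most one involution is cyclic. -/
theorem isCyclic_of_comm_of_unique_involution {G : Type*} [Group G] [Finite G] (hG : IsPGroup 2 G)
    (huniq : ∀ s t : G, orderOf s = 2 → orderOf t = 2 → s = t)
    (A : Subgroup G) (hAc : IsMulCommutative A) : IsCyclic A := by
  letI : CommGroup A := { (inferInstance : Group A) with mul_comm := fun x y => mul_comm' x y }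
  by_contra hnc
  obtain ⟨q, hq, a, b, haq, hbq, hb1, hab⟩ := Cfsg.Agent.Lib.Helper1.exists_noncyclic_pair hnc
  haveI : Fact q.Prime := ⟨hq⟩
  have hbord : orderOf b = q := orderOf_eq_prime hbq hb1
  have hq2 : q = 2 := by
    obtain ⟨k, hk⟩ := (IsPGroup.iff_orderOf.mp hG) (b : G)
    rw [Subgroup.orderOf_coe, hbord] at hk
    have : q ∣ 2 ^ k := by rw [← hk]
    exact (Nat.prime_dvd_prime_iff_eq hq Nat.prime_two).mp (hq.dvd_of_dvd_pow this)
  subst hq2
  have ha1 : a ≠ 1 := by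
    intro h
    have := hab 0
    rw [h] at this
    simp at this
  have haord : orderOf a = 2 := orderOf_eq_prime haq ha1
  have hne : a ≠ b := by
    intro h
    have := hab 1
    rw [pow_one, ← h, ← pow_two, haq] at this
    exact this rfl
  apply hne
  apply Subtype.ext
  apply huniq
  · rw [Subgroup.orderOf_coe, haord]
  · rw [Subgroup.orderOf_coe, hbord]

/-- Structure of a `2`-group with a unique involution: cyclic, or generated by `a` of order
`2 ^ m`, `m ≥ 2`, and `x` inverting `a` with `x ^ 2 = a ^ (2 ^ (m - 1))`, `⟨a⟩` of index `2`. -/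
theorem cyclic_or_quaternion_data {G : Type*} [Group G] [Finite G] (hG : IsPGroup 2 G)
    (huniq : ∀ s t : G, orderOf s = 2 → orderOf t = 2 → s = t) :
    IsCyclic G ∨ ∃ (a x : G) (m : ℕ), 2 ≤ m ∧ orderOf a = 2 ^ m ∧ x ∉ Subgroup.zpowers a ∧
      x * a * x⁻¹ = a⁻¹ ∧ x ^ 2 = a ^ (2 ^ (m - 1)) ∧
      ∀ g : G, g ∈ Subgroup.zpowers a ∨ ∃ h ∈ Subgroup.zpowers a, g = x * h := by
  haveI : Fact (Nat.Prime 2) := ⟨Nat.prime_two⟩
  obtain ⟨A, hAn, hAc, hCA⟩ := Cfsg.Agent.Lib.Helper10.exists_normal_abelian_self_centralizing 2 hG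
  haveI : IsCyclic A := isCyclic_of_comm_of_unique_involution hG huniq A hAc
  obtain ⟨g₀, hg₀⟩ := IsCyclic.exists_generator (α := A)
  obtain ⟨a, ha⟩ : ∃ a : G, a = (g₀ : G) := ⟨_, rfl⟩
  have hAmem : ∀ y : G, y ∈ A ↔ y ∈ Subgroup.zpowers a := by
    intro y
    constructor
    · intro hy
      obtain ⟨k, hk⟩ := Subgroup.mem_zpowers_iff.mp (hg₀ ⟨y, hy⟩)
      refine Subgroup.mem_zpowers_iff.mpr ⟨k, ?_⟩
      have := congrArg Subtype.val hk
      rw [ha]; simpa using this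
    · intro hy
      obtain ⟨k, rfl⟩ := Subgroup.mem_zpowers_iff.mp hy
      rw [ha]; exact A.zpow_mem g₀.2 k
  by_cases htop : ∀ y : G, y ∈ Subgroup.zpowers a
  · left
    exact isCyclic_iff_exists_zpowers_eq_top.mpr ⟨a, eq_top_iff.mpr (fun y _ => htop y)⟩
  right
  push Not at htop
  obtain ⟨x, hx⟩ := htop
  obtain ⟨m, hm⟩ := (IsPGroup.iff_orderOf.mp hG) a
  have hnorm : ∀ g : G, g * a * g⁻¹ ∈ Subgroup.zpowers a := by
    intro g
    rw [← hAmem]
    exact hAn.conj_mem a ((hAmem a).mpr (Subgroup.mem_zpowers a)) g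
  have hcent : ∀ g : G, g * a = a * g → g ∈ Subgroup.zpowers a := by
    intro g hg
    rw [← hAmem, ← hCA, Subgroup.mem_centralizer_iff]
    intro y hy
    obtain ⟨k, rfl⟩ := Subgroup.mem_zpowers_iff.mp ((hAmem y).mp hy)
    exact ((show Commute g a from hg).zpow_right k).eq.symm
  have hnc : ∀ g : G, g ∉ Subgroup.zpowers a → g * a ≠ a * g := fun g hg h => hg (hcent g h)
  -- m ≥ 2 as soon as some element inverts a without commuting
  have hm2 : ∀ g : G, g * a ≠ a * g → g * a * g⁻¹ = a⁻¹ → 2 ≤ m := by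
    intro g hg hinv
    by_contra hlt
    have h1 : a ^ 2 = 1 := by
      have : orderOf a ∣ 2 := by
        rw [hm]
        have : m ≤ 1 := by omega
        calc 2 ^ m ∣ 2 ^ 1 := pow_dvd_pow 2 this
          _ = 2 := by norm_num
      exact orderOf_dvd_iff_pow_eq_one.mp this
    have h2 : a⁻¹ = a := by
      rw [inv_eq_iff_mul_eq_one, ← pow_two, h1]
    apply hg
    rw [h2] at hinv
    calc g * a = (g * a * g⁻¹) * g := by group
      _ = a * g := by rw [hinv]
  -- squares of elements outside ⟨a⟩ lie in ⟨a⟩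
  have hsq : ∀ g : G, g ∉ Subgroup.zpowers a → g ^ 2 ∈ Subgroup.zpowers a := by
    intro g hg
    by_contra hg2
    classical
    have hex : ∃ k : ℕ, g ^ (2 ^ k) ∈ Subgroup.zpowers a := by
      obtain ⟨k, hk⟩ := (IsPGroup.iff_orderOf.mp hG) g
      refine ⟨k, ?_⟩
      rw [← hk, pow_orderOf_eq_one]; exact Subgroup.one_mem _
    obtain ⟨k, hk, hkmin⟩ : ∃ k : ℕ, g ^ (2 ^ k) ∈ Subgroup.zpowers a ∧
        ∀ l < k, g ^ (2 ^ l) ∉ Subgroup.zpowers a :=
      ⟨Nat.find hex, Nat.find_spec hex, fun l hl => Nat.find_min hex hl⟩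
    have hk0 : k ≠ 0 := by
      intro h; rw [h] at hk; simp at hk; exact hg hk
    have hk1 : k ≠ 1 := by
      intro h; rw [h] at hk; simp at hk; exact hg2 hk
    obtain ⟨k', rfl⟩ : ∃ k', k = k' + 2 := ⟨k - 2, by omega⟩
    obtain ⟨w, hw⟩ : ∃ w, w = g ^ (2 ^ k') := ⟨_, rfl⟩
    have hw2 : w ^ 2 = g ^ (2 ^ (k' + 1)) := by rw [hw, ← pow_mul, ← pow_succ]
    have hw4 : (w ^ 2) ^ 2 = g ^ (2 ^ (k' + 2)) := by
      rw [hw2, ← pow_mul, ← pow_succ]
    have hxnot : w ^ 2 ∉ Subgroup.zpowers a := by rw [hw2]; exact hkmin (k' + 1) (by omega)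
    have hx2 : (w ^ 2) ^ 2 ∈ Subgroup.zpowers a := by rw [hw4]; exact hk
    obtain ⟨hinv, -⟩ := inverts_of_unique_involution huniq a (w ^ 2) m hm (hnorm _) hx2 (hnc _ hxnot)
    have hm2' := hm2 (w ^ 2) (hnc _ hxnot) hinv
    obtain ⟨r, hr⟩ := Subgroup.mem_zpowers_iff.mp (hnorm w)
    have h1 : w ^ 2 * a * (w ^ 2)⁻¹ = a ^ (r * r) := by
      calc w ^ 2 * a * (w ^ 2)⁻¹ = w * (w * a * w⁻¹) * w⁻¹ := by rw [pow_two]; group
        _ = w * a ^ r * w⁻¹ := by rw [hr]
        _ = (w * a * w⁻¹) ^ r := by rw [conj_zpow]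
        _ = a ^ (r * r) := by rw [← hr, ← zpow_mul]
    have h2 : a ^ (r * r + 1) = 1 := by
      rw [zpow_add, zpow_one, ← h1, hinv, inv_mul_cancel]
    have h3 : (orderOf a : ℤ) ∣ r * r + 1 := orderOf_dvd_iff_zpow_eq_one.mpr h2
    have h4 : (4 : ℤ) ∣ (orderOf a : ℤ) := by
      rw [hm]
      have : (4 : ℕ) ∣ 2 ^ m := by
        calc (4 : ℕ) = 2 ^ 2 := by norm_num
          _ ∣ 2 ^ m := pow_dvd_pow 2 hm2'
      exact_mod_cast this
    have h5 : (4 : ℤ) ∣ r * r + 1 := h4.trans h3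
    have h6 : ((r * r + 1 : ℤ) : ZMod 4) = 0 := (ZMod.intCast_zmod_eq_zero_iff_dvd _ 4).mpr h5
    push_cast at h6
    generalize (r : ZMod 4) = s at h6
    revert s
    decide
  have hall : ∀ g : G, g ∉ Subgroup.zpowers a → g * a * g⁻¹ = a⁻¹ ∧ orderOf g = 4 := by
    intro g hg
    exact inverts_of_unique_involution huniq a g m hm (hnorm g) (hsq g hg) (hnc g hg)
  obtain ⟨hxinv, hxord⟩ := hall x hx
  have hm2' : 2 ≤ m := hm2 x (hnc x hx) hxinv
  refine ⟨a, x, m, hm2', hm, hx, hxinv, ?_, ?_⟩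
  · apply huniq
    · rw [orderOf_pow_of_dvd (by norm_num) (by rw [hxord]; norm_num), hxord]
    · rw [orderOf_pow_of_dvd (by positivity) (by rw [hm]; exact pow_dvd_pow 2 (by omega)), hm]
      have : m = (m - 1) + 1 := by omega
      conv_lhs => rw [this, pow_succ]
      simp
  · intro g
    by_cases hg : g ∈ Subgroup.zpowers a
    · exact Or.inl hg
    · right
      refine ⟨x⁻¹ * g, ?_, by group⟩
      apply hcent
      obtain ⟨hginv, -⟩ := hall g hg
      have h1 : x⁻¹ * a⁻¹ * x = a := by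
        rw [← hxinv]; group
      calc x⁻¹ * g * a = x⁻¹ * (g * a * g⁻¹) * g := by group
        _ = x⁻¹ * a⁻¹ * g := by rw [hginv]
        _ = (x⁻¹ * a⁻¹ * x) * (x⁻¹ * g) := by group
        _ = a * (x⁻¹ * g) := by rw [h1]


open Cfsg.Agent.Lib.Helper3 in
/-- The homomorphism from the generalized quaternion group determined by `a`, `x` with
`a ^ (2 n) = 1`, `x ^ 2 = a ^ n`, `x a x⁻¹ = a⁻¹`. -/
noncomputable def quatLift {G : Type*} [Group G] {n : ℕ} (a x : G) (ha : a ^ (2 * n) = 1)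
    (hx : x ^ 2 = a ^ n) (hxa : x * a * x⁻¹ = a⁻¹) : QuaternionGroup n →* G where
  toFun
    | .a i => (dihPow a ha i).toMul
    | .xa i => x * (dihPow a ha i).toMul
  map_one' := by
    show (dihPow a ha 0).toMul = 1
    rw [map_zero]; rfl
  map_mul' := by
    have hconj : ∀ i : ZMod (2 * n), x * (dihPow a ha i).toMul * x⁻¹ = ((dihPow a ha i).toMul)⁻¹ := by
      intro i
      obtain ⟨k, rfl⟩ := ZMod.intCast_surjective i
      rw [dihPow_intCast, ← conj_zpow, hxa, inv_zpow]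
    have hconj' : ∀ i : ZMod (2 * n), (dihPow a ha i).toMul * x = x * ((dihPow a ha i).toMul)⁻¹ := by
      intro i
      have h0 := hconj i
      have h1 : x * ((dihPow a ha i).toMul)⁻¹ * x⁻¹ = (dihPow a ha i).toMul := by
        have : x * ((dihPow a ha i).toMul)⁻¹ * x⁻¹ = (x * (dihPow a ha i).toMul * x⁻¹)⁻¹ := by group
        rw [this, h0, inv_inv]
      calc (dihPow a ha i).toMul * x = (x * ((dihPow a ha i).toMul)⁻¹ * x⁻¹) * x := by rw [h1]
        _ = x * ((dihPow a ha i).toMul)⁻¹ := by group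
    have hadd : ∀ i j : ZMod (2 * n), (dihPow a ha (i + j)).toMul
        = (dihPow a ha i).toMul * (dihPow a ha j).toMul := by
      intro i j; rw [map_add]; rfl
    have hneg : ∀ i : ZMod (2 * n), (dihPow a ha (-i)).toMul = ((dihPow a ha i).toMul)⁻¹ := by
      intro i; rw [map_neg]; rfl
    have hn : (dihPow a ha ((n : ℕ) : ZMod (2 * n))).toMul = x * x := by
      have := dihPow_intCast a ha (n : ℤ)
      rw [Int.cast_natCast, zpow_natCast] at this
      rw [this, ← hx, pow_two]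
    rintro (i | i) (j | j)
    · show (dihPow a ha (i + j)).toMul = (dihPow a ha i).toMul * (dihPow a ha j).toMul
      exact hadd i j
    · show x * (dihPow a ha (j - i)).toMul = (dihPow a ha i).toMul * (x * (dihPow a ha j).toMul)
      rw [sub_eq_add_neg, add_comm, hadd, hneg, ← mul_assoc ((dihPow a ha i).toMul), hconj' i]
      group
    · show x * (dihPow a ha (i + j)).toMul = x * (dihPow a ha i).toMul * (dihPow a ha j).toMul
      rw [hadd, mul_assoc]
    · show (dihPow a ha ((n : ZMod (2 * n)) + j - i)).toMul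
        = x * (dihPow a ha i).toMul * (x * (dihPow a ha j).toMul)
      rw [sub_eq_add_neg, hadd, hadd, hneg, hn]
      have h1 : x * (dihPow a ha i).toMul * (x * (dihPow a ha j).toMul)
          = x * ((dihPow a ha i).toMul * x) * (dihPow a ha j).toMul := by group
      rw [h1, hconj' i]
      have hc : Commute ((dihPow a ha j).toMul) (((dihPow a ha i).toMul)⁻¹) := by
        have h2 := hadd j (-i)
        have h3 := hadd (-i) j
        rw [add_comm] at h3
        rw [hneg] at h2 h3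
        exact h2.symm.trans h3
      rw [mul_assoc (x * x), hc.eq]
      group



open Cfsg.Agent.Lib.Helper3 in
theorem quatLift_a {G : Type*} [Group G] {n : ℕ} (a x : G) (ha : a ^ (2 * n) = 1)
    (hx : x ^ 2 = a ^ n) (hxa : x * a * x⁻¹ = a⁻¹) (i : ZMod (2 * n)) :
    quatLift a x ha hx hxa (.a i) = (dihPow a ha i).toMul := rfl

open Cfsg.Agent.Lib.Helper3 in
theorem quatLift_xa {G : Type*} [Group G] {n : ℕ} (a x : G) (ha : a ^ (2 * n) = 1)
    (hx : x ^ 2 = a ^ n) (hxa : x * a * x⁻¹ = a⁻¹) (i : ZMod (2 * n)) :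
    quatLift a x ha hx hxa (.xa i) = x * (dihPow a ha i).toMul := rfl

open Cfsg.Agent.Lib.Helper3 in
/-- Recognition of the generalized quaternion group. -/
theorem nonempty_mulEquiv_quaternionGroup {G : Type*} [Group G] (a x : G) (n : ℕ)
    (hord : orderOf a = 2 * n) (hx : x ^ 2 = a ^ n) (hxa : x * a * x⁻¹ = a⁻¹)
    (hxnot : x ∉ Subgroup.zpowers a)
    (hall : ∀ g : G, g ∈ Subgroup.zpowers a ∨ ∃ h ∈ Subgroup.zpowers a, g = x * h) :
    Nonempty (G ≃* QuaternionGroup n) := by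
  have ha : a ^ (2 * n) = 1 := by rw [← hord]; exact pow_orderOf_eq_one a
  have hinj : Function.Injective (quatLift a x ha hx hxa) := by
    rw [injective_iff_map_eq_one]
    rintro (i | i) h
    · rw [quatLift_a] at h
      obtain ⟨k, rfl⟩ := ZMod.intCast_surjective i
      rw [dihPow_intCast, ← orderOf_dvd_iff_zpow_eq_one, hord] at h
      have h' : ((2 * n : ℕ) : ℤ) ∣ k := by exact_mod_cast h
      rw [(ZMod.intCast_zmod_eq_zero_iff_dvd k (2 * n)).mpr h']
      rfl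
    · exfalso
      rw [quatLift_xa] at h
      obtain ⟨k, rfl⟩ := ZMod.intCast_surjective i
      rw [dihPow_intCast] at h
      apply hxnot
      have : x = (a ^ k)⁻¹ := eq_inv_of_mul_eq_one_left h
      rw [this]
      exact Subgroup.inv_mem _ (Subgroup.zpow_mem_zpowers a k)
  have hsurj : Function.Surjective (quatLift a x ha hx hxa) := by
    intro g
    rcases hall g with hg | ⟨h, hh, rfl⟩
    · obtain ⟨k, rfl⟩ := Subgroup.mem_zpowers_iff.mp hg
      exact ⟨.a (k : ZMod (2 * n)), by rw [quatLift_a, dihPow_intCast]⟩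
    · obtain ⟨k, rfl⟩ := Subgroup.mem_zpowers_iff.mp hh
      exact ⟨.xa (k : ZMod (2 * n)), by rw [quatLift_xa, dihPow_intCast]⟩
  exact ⟨(MulEquiv.ofBijective (quatLift a x ha hx hxa) ⟨hinj, hsurj⟩).symm⟩

/-- A finite `2`-group with at most one involution is cyclic or generalized quaternion. -/
theorem isCyclic_or_quaternion_of_unique_involution {G : Type*} [Group G] [Finite G]
    (hG : IsPGroup 2 G) (huniq : ∀ s t : G, orderOf s = 2 → orderOf t = 2 → s = t) :
    IsCyclic G ∨ ∃ n : ℕ, 1 ≤ n ∧ Nonempty (G ≃* QuaternionGroup (2 ^ n)) := by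
  rcases cyclic_or_quaternion_data hG huniq with h | ⟨a, x, m, hm, hord, hxnot, hxa, hx2, hall⟩
  · exact Or.inl h
  · right
    refine ⟨m - 1, by omega, ?_⟩
    apply nonempty_mulEquiv_quaternionGroup a x (2 ^ (m - 1)) ?_ hx2 hxa hxnot hall
    rw [hord, ← pow_succ']
    congr 1; omega

end Cfsg.Agent.Lib.Helper18
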