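import Mathlib
import Cfsg.Agent.Lib.Helper6.Osima2
import Cfsg.Agent.Lib.Helper6.Knoerr
import Cfsg.Agent.Lib.Lead.BlockBasic
import Cfsg.Agent.Lib.Helper25.Gagola

set_option autoImplicit false

open Cfsg Cfsg.Agent.CharLib Cfsg.Agent.Lib.Helper24 Cfsg.Agent.Lib.Helper6
open scoped ComplexConjugate

namespace Cfsg.Agent.Lib.Helper18.ZStar

universe u

section Char

variable {G : Type u} [Group G] [Finite G]

/-- The kernel of a nontrivial irreducible character is a proper subgroup. -/
theorem irrKer_ne_top_of_ne_triv (χ : IrrCharacter G) (hχ : χ ≠ trivIrr G) :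
    Cfsg.Agent.Lib.Helper25.irrKer χ ≠ ⊤ := by
  classical
  let _ := Fintype.ofFinite G
  intro htop
  have h1 : ∀ g : G, (χ : G → ℂ) g = (χ : G → ℂ) 1 := by
    intro g
    rw [← Cfsg.Agent.Lib.Helper25.mem_irrKer, htop]
    exact Subgroup.mem_top g
  have h2 := classInner_irr' χ (trivIrr G)
  rw [if_neg hχ] at h2
  unfold classInner at h2
  have h3 : ∀ g : G, (χ : G → ℂ) g * conj (((trivIrr G : IrrCharacter G) : G → ℂ) g) =
      (χ : G → ℂ) 1 := by
    intro g
    have : ((trivIrr G : IrrCharacter G) : G → ℂ) g = 1 := rfl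
    rw [this, map_one, mul_one, h1]
  rw [Finset.sum_congr rfl (fun g _ => h3 g), Finset.sum_const, Finset.card_univ, nsmul_eq_mul,
    ← Nat.card_eq_fintype_card, ← mul_assoc, inv_mul_cancel₀, one_mul] at h2
  · exact irr_apply_one_ne_zero χ h2
  · exact Nat.cast_ne_zero.mpr Nat.card_pos.ne'

/-- The character-theoretic step of the `Z*`-theorem: if the values of the principal block characters
at `t`, `y`, `t * y` (with `y` and `t * y` involutions) are multiplicative in the sense below, then
`t` lies in a proper normal subgroup. -/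
theorem exists_proper_normal_of_mult (M : Ideal AlgInt) (hM : IsPModular 2 M) (t y : G)
    (hy : orderOf y = 2) (hty : orderOf (t * y) = 2)
    (h1 : ∀ χ ∈ principalBlock M G,
      (χ : G → ℂ) t * (χ : G → ℂ) y = (χ : G → ℂ) 1 * (χ : G → ℂ) (t * y))
    (h2 : ∀ χ ∈ principalBlock M G,
      (χ : G → ℂ) t * (χ : G → ℂ) (t * y) = (χ : G → ℂ) 1 * (χ : G → ℂ) y) :
    ∃ N : Subgroup G, N.Normal ∧ N ≠ ⊤ ∧ t ∈ N := by
  classical
  let _ := Fintype.ofFinite G
  let _ := fintypeIrr G
  have : Fact (Nat.Prime 2) := ⟨Nat.prime_two⟩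
  have hB : principalBlock M G = blockOf M ((trivIrr G : IrrCharacter G) : G → ℂ) := rfl
  by_contra hcon
  -- every nontrivial character of the principal block has `χ t ≠ χ 1`
  have hne : ∀ χ ∈ principalBlock M G, χ ≠ trivIrr G → (χ : G → ℂ) t ≠ (χ : G → ℂ) 1 := by
    intro χ hχ hχ1 ht
    apply hcon
    refine ⟨Cfsg.Agent.Lib.Helper25.irrKer χ, inferInstance, irrKer_ne_top_of_ne_triv χ hχ1, ?_⟩
    rw [Cfsg.Agent.Lib.Helper25.mem_irrKer]; exact ht
  have hreal : ∀ (χ : IrrCharacter G) (g : G), orderOf g = 2 →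
      conj ((χ : G → ℂ) g) = (χ : G → ℂ) g := by
    intro χ g hg
    rw [← irr_apply_inv]
    have : g ^ 2 = 1 := by rw [← hg]; exact pow_orderOf_eq_one g
    rw [pow_two] at this
    rw [inv_eq_of_mul_eq_one_right this]
  have hW1 := weak_block_orthogonality hM (trivIrr G) (1 : G) y (by rw [orderOf_one]; norm_num)
    (by rw [hy])
  have hW2 := weak_block_orthogonality hM (trivIrr G) (1 : G) (t * y)
    (by rw [orderOf_one]; norm_num) (by rw [hty])
  rw [← hB, finsum_mem_eq_sum_ite] at hW1 hW2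
  -- the sum of `(χ 1 + χ t) * χ y` over the principal block
  have hsum : ∑ χ : IrrCharacter G, (if χ ∈ principalBlock M G then
      ((χ : G → ℂ) 1 + (χ : G → ℂ) t) * (χ : G → ℂ) y else 0) = 0 := by
    have : ∀ χ : IrrCharacter G, (if χ ∈ principalBlock M G then
        ((χ : G → ℂ) 1 + (χ : G → ℂ) t) * (χ : G → ℂ) y else 0) =
        (if χ ∈ principalBlock M G then (χ : G → ℂ) 1 * conj ((χ : G → ℂ) y) else 0) +
        (if χ ∈ principalBlock M G then (χ : G → ℂ) 1 * conj ((χ : G → ℂ) (t * y)) else 0) := by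
      intro χ
      split_ifs with hχ
      · rw [hreal χ y hy, hreal χ (t * y) hty, ← h1 χ hχ]; ring
      · rw [add_zero]
    rw [Finset.sum_congr rfl (fun χ _ => this χ), Finset.sum_add_distrib, hW1, hW2, add_zero]
  -- but only the trivial character contributes
  have hsingle : ∑ χ : IrrCharacter G, (if χ ∈ principalBlock M G then
      ((χ : G → ℂ) 1 + (χ : G → ℂ) t) * (χ : G → ℂ) y else 0) = 2 := by
    rw [Finset.sum_eq_single (trivIrr G)]
    · have hmem : trivIrr G ∈ principalBlock M G := by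
        rw [hB]
        intro g
        rw [sub_self]
        exact memLocalIdeal_zero (one_not_mem_of_isPModular hM)
      rw [if_pos hmem]
      have : ∀ g : G, ((trivIrr G : IrrCharacter G) : G → ℂ) g = 1 := fun _ => rfl
      rw [this, this, this]; norm_num
    · intro χ _ hχ1
      split_ifs with hχ
      · have ha := hne χ hχ hχ1
        have e1 := h1 χ hχ
        have e2 := h2 χ hχ
        -- `(a - d) * ((a + d) * β) = 0`
        have h3 : ((χ : G → ℂ) t - (χ : G → ℂ) 1) *
            (((χ : G → ℂ) 1 + (χ : G → ℂ) t) * (χ : G → ℂ) y) = 0 := by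
          have : ((χ : G → ℂ) t - (χ : G → ℂ) 1) *
            (((χ : G → ℂ) 1 + (χ : G → ℂ) t) * (χ : G → ℂ) y) =
            (χ : G → ℂ) t * ((χ : G → ℂ) t * (χ : G → ℂ) y) -
              (χ : G → ℂ) 1 * ((χ : G → ℂ) 1 * (χ : G → ℂ) y) := by ring
          rw [this, e1, ← e2]; ring
        rcases mul_eq_zero.mp h3 with h4 | h4
        · exact absurd (sub_eq_zero.mp h4) ha
        · exact h4
      · rfl
    · intro h; exact absurd (Finset.mem_univ _) h
  rw [hsum] at hsingle
  norm_num at hsingle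

end Char

end Cfsg.Agent.Lib.Helper18.ZStar
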