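import Mathlib
import Cfsg.Prelude.Def_Solvable

set_option autoImplicit false

namespace Cfsg.Agent.Lib.Helper18.ZStar

universe u

section Dihedral

variable {G : Type*} [Group G]

theorem inv_eq_self_of_sq {a : G} (ha : a * a = 1) : a⁻¹ = a :=
  inv_eq_of_mul_eq_one_right ha

/-- `a` inverts the powers of `w = a * b`. -/
theorem dih_left {a b : G} (ha : a * a = 1) (hb : b * b = 1) (n : ℕ) :
    a * (a * b) ^ n = ((a * b) ^ n)⁻¹ * a := by
  have h1 : a * (a * b) * a⁻¹ = (a * b)⁻¹ := by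
    rw [mul_inv_rev, inv_eq_self_of_sq ha, inv_eq_self_of_sq hb, ← mul_assoc, ha, one_mul]
  have h2 : a * (a * b) ^ n * a⁻¹ = ((a * b) ^ n)⁻¹ := by
    rw [← conj_pow, h1, inv_pow]
  rw [← h2, inv_mul_cancel_right]

theorem dih_left' {a b : G} (ha : a * a = 1) (hb : b * b = 1) (n : ℕ) :
    a * ((a * b) ^ n)⁻¹ = (a * b) ^ n * a := by
  rw [mul_inv_eq_iff_eq_mul, mul_assoc, ← inv_mul_eq_iff_eq_mul]
  exact (dih_left ha hb n).symm

/-- `b` inverts the powers of `w = a * b`. -/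
theorem dih_right {a b : G} (ha : a * a = 1) (hb : b * b = 1) (n : ℕ) :
    b * (a * b) ^ n = ((a * b) ^ n)⁻¹ * b := by
  have h1 : b * (a * b) * b⁻¹ = (a * b)⁻¹ := by
    rw [mul_inv_rev, inv_eq_self_of_sq ha, inv_eq_self_of_sq hb, mul_assoc, mul_assoc, hb,
      mul_one]
  have h2 : b * (a * b) ^ n * b⁻¹ = ((a * b) ^ n)⁻¹ := by
    rw [← conj_pow, h1, inv_pow]
  rw [← h2, inv_mul_cancel_right]

/-- Two involutions whose product has odd order are conjugate. -/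
theorem dih_odd {a b : G} (ha : a * a = 1) (hb : b * b = 1) (k : ℕ)
    (hw : (a * b) ^ (2 * k + 1) = 1) :
    (a * b) ^ k * a * ((a * b) ^ k)⁻¹ = b := by
  rw [mul_assoc, dih_left' ha hb, ← mul_assoc, ← pow_add]
  have h3 : (a * b) ^ (k + k) * (a * b) = 1 := by
    rw [← pow_succ]
    rw [← hw]; congr 1; omega
  have h4 : (a * b) ^ (k + k) = (a * b)⁻¹ := eq_inv_of_mul_eq_one_left h3
  rw [h4, mul_inv_rev, inv_eq_self_of_sq ha, inv_eq_self_of_sq hb, mul_assoc, ha, mul_one]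

/-- If the product of two involutions `a, b` has order divisible by `4`, some conjugate of `a`
commutes with `a` and differs from it. -/
theorem dih_four {a b : G} (ha : a * a = 1) (hb : b * b = 1) (k : ℕ)
    (hw : (a * b) ^ (4 * k) = 1) (hw2 : (a * b) ^ (2 * k) ≠ 1) :
    Commute ((a * b) ^ k * a * ((a * b) ^ k)⁻¹) a ∧ (a * b) ^ k * a * ((a * b) ^ k)⁻¹ ≠ a := by
  have h5 : (a * b) ^ k * a * ((a * b) ^ k)⁻¹ = (a * b) ^ (2 * k) * a := by
    rw [mul_assoc, dih_left' ha hb, ← mul_assoc, ← pow_add, two_mul]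
  rw [h5]
  constructor
  · show (a * b) ^ (2 * k) * a * a = a * ((a * b) ^ (2 * k) * a)
    rw [mul_assoc, ha, mul_one, ← mul_assoc, dih_left ha hb (2 * k), mul_assoc, ha, mul_one]
    apply eq_inv_of_mul_eq_one_left
    rw [← pow_add, ← hw]; congr 1; omega
  · intro h6
    apply hw2
    have := congrArg (fun x => x * a) h6
    simp only [mul_assoc, ha, mul_one] at this
    exact this

/-- If the product `w` of two involutions `a, b` satisfies `w ^ (2 * (2 * k + 1)) = 1`, then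
`z = w ^ (2 * k + 1)` is an element of square one commuting with `a` and `b`, and the conjugate
`(w ^ (k + 1))⁻¹ * a * w ^ (k + 1)` of `a` equals `b * z`. -/
theorem dih_two_odd {a b : G} (ha : a * a = 1) (hb : b * b = 1) (k : ℕ)
    (hw : (a * b) ^ (2 * (2 * k + 1)) = 1) :
    (a * b) ^ (2 * k + 1) * (a * b) ^ (2 * k + 1) = 1 ∧
    Commute ((a * b) ^ (2 * k + 1)) a ∧ Commute ((a * b) ^ (2 * k + 1)) b ∧
    ((a * b) ^ (k + 1))⁻¹ * a * (a * b) ^ (k + 1) = b * (a * b) ^ (2 * k + 1) := by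
  have hzz : (a * b) ^ (2 * k + 1) * (a * b) ^ (2 * k + 1) = 1 := by
    rw [← pow_add, ← hw]; congr 1; omega
  have hzinv : ((a * b) ^ (2 * k + 1))⁻¹ = (a * b) ^ (2 * k + 1) := inv_eq_self_of_sq hzz
  have hca : Commute ((a * b) ^ (2 * k + 1)) a := by
    show (a * b) ^ (2 * k + 1) * a = a * (a * b) ^ (2 * k + 1)
    rw [dih_left ha hb, hzinv]
  have hcb : Commute ((a * b) ^ (2 * k + 1)) b := by
    show (a * b) ^ (2 * k + 1) * b = b * (a * b) ^ (2 * k + 1)
    rw [dih_right ha hb, hzinv]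
  refine ⟨hzz, hca, hcb, ?_⟩
  -- `w^{-(k+1)} a w^{k+1} = w^{-(k+1)} w^{-(k+1)} a = w^{-(2k+2)} a = w⁻¹ z⁻¹ a = b a z a = b z`
  rw [mul_assoc, dih_left ha hb (k + 1), ← mul_assoc, ← mul_inv_rev, ← pow_add]
  have h1 : (a * b) ^ (k + 1 + (k + 1)) = (a * b) ^ (2 * k + 1) * (a * b) := by
    rw [← pow_succ]; congr 1; omega
  rw [h1, mul_inv_rev, hzinv, mul_inv_rev, inv_eq_self_of_sq ha, inv_eq_self_of_sq hb,
    mul_assoc, mul_assoc, hca.eq, ← mul_assoc a, ha, one_mul]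

end Dihedral

end Cfsg.Agent.Lib.Helper18.ZStar
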