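import Mathlib
import Cfsg.Agent.Lib.Helper18.ZStarDih

set_option autoImplicit false

namespace Cfsg.Agent.Lib.Helper18.ZStar

universe u

section Iso

variable {G : Type*} [Group G]

/-- `t` is *isolated*: the only conjugate of `t` commuting with `t` is `t` itself. -/
def IsIso (t : G) : Prop := ∀ g : G, Commute (g * t * g⁻¹) t → g * t * g⁻¹ = t

theorem IsIso.conj {t : G} (h : IsIso t) (g : G) : IsIso (g * t * g⁻¹) := by
  intro k hk
  have h1 : (g⁻¹ * k * g) * t * (g⁻¹ * k * g)⁻¹ = g⁻¹ * (k * (g * t * g⁻¹) * k⁻¹) * g := by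
    group
  have h2 : Commute ((g⁻¹ * k * g) * t * (g⁻¹ * k * g)⁻¹) t := by
    rw [h1]
    have h3 : t = g⁻¹ * (g * t * g⁻¹) * g := by group
    have h4 : Commute (g⁻¹ * (k * (g * t * g⁻¹) * k⁻¹) * g) (g⁻¹ * (g * t * g⁻¹) * g) := by
      have h5 := hk.eq
      show g⁻¹ * (k * (g * t * g⁻¹) * k⁻¹) * g * (g⁻¹ * (g * t * g⁻¹) * g) =
        g⁻¹ * (g * t * g⁻¹) * g * (g⁻¹ * (k * (g * t * g⁻¹) * k⁻¹) * g)
      calc g⁻¹ * (k * (g * t * g⁻¹) * k⁻¹) * g * (g⁻¹ * (g * t * g⁻¹) * g)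
          = g⁻¹ * ((k * (g * t * g⁻¹) * k⁻¹) * (g * t * g⁻¹)) * g := by group
        _ = g⁻¹ * ((g * t * g⁻¹) * (k * (g * t * g⁻¹) * k⁻¹)) * g := by rw [h5]
        _ = _ := by group
    rw [← h3] at h4
    exact h4
  have h6 := h _ h2
  rw [h1] at h6
  calc k * (g * t * g⁻¹) * k⁻¹ = g * (g⁻¹ * (k * (g * t * g⁻¹) * k⁻¹) * g) * g⁻¹ := by group
    _ = g * t * g⁻¹ := by rw [h6]

theorem conj_sq_eq_one {t : G} (ht : t * t = 1) (g : G) : (g * t * g⁻¹) * (g * t * g⁻¹) = 1 := by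
  calc (g * t * g⁻¹) * (g * t * g⁻¹) = g * (t * t) * g⁻¹ := by group
    _ = 1 := by rw [ht, mul_one, mul_inv_cancel]

/-- A conjugate `x` of an isolated involution `t` with `(x * t) ^ (2 ^ k) = 1` equals `t`. -/
theorem IsIso.eq_of_pow_two {t : G} (ht : t * t = 1) (h : IsIso t) (g : G) :
    ∀ k : ℕ, (g * t * g⁻¹ * t) ^ (2 ^ k) = 1 → g * t * g⁻¹ = t := by
  have hx := conj_sq_eq_one ht g
  intro k
  induction k with
  | zero =>
    intro hk
    rw [pow_zero, pow_one] at hk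
    rw [eq_inv_of_mul_eq_one_left hk, inv_eq_self_of_sq ht]
  | succ k ih =>
    intro hk
    by_cases h1 : (g * t * g⁻¹ * t) ^ (2 ^ k) = 1
    · exact ih h1
    · rcases Nat.eq_zero_or_pos k with h0 | h0
      · subst h0
        apply h
        rw [zero_add, pow_one, pow_two] at hk
        -- x t x t = 1
        show g * t * g⁻¹ * t = t * (g * t * g⁻¹)
        have h2 : g * t * g⁻¹ * t = (g * t * g⁻¹ * t)⁻¹ := eq_inv_of_mul_eq_one_left hk
        rw [h2, mul_inv_rev, inv_eq_self_of_sq ht, inv_eq_self_of_sq hx]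
      · exfalso
        obtain ⟨j, rfl⟩ : ∃ j, k = j + 1 := ⟨k - 1, by omega⟩
        have h2 := dih_four hx ht (2 ^ j) (by rw [← hk]; congr 1; ring)
          (by intro h3; apply h1; rw [← h3]; congr 1; ring)
        have h3 := (h.conj g) _ h2.1
        exact h2.2 h3

/-- If `x` is a conjugate of the isolated involution `t` and `(x * t) ^ (2 * (2 * k + 1)) = 1`,
then already `(x * t) ^ (2 * k + 1) = 1`. -/
theorem IsIso.pow_odd_eq_one {t : G} (ht : t * t = 1) (h : IsIso t) (g : G) (k : ℕ)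
    (hw : (g * t * g⁻¹ * t) ^ (2 * (2 * k + 1)) = 1) : (g * t * g⁻¹ * t) ^ (2 * k + 1) = 1 := by
  have hx := conj_sq_eq_one ht g
  obtain ⟨hzz, hza, hzb, hx'⟩ := dih_two_odd hx ht k hw
  set w := g * t * g⁻¹ * t with hw'
  -- `x' = w^{-(k+1)} x w^{k+1} = t z` is a conjugate of `t` commuting with `t`
  have h1 : ((w ^ (k + 1))⁻¹ * g) * t * ((w ^ (k + 1))⁻¹ * g)⁻¹ =
      (w ^ (k + 1))⁻¹ * (g * t * g⁻¹) * w ^ (k + 1) := by group
  have h2 : Commute (((w ^ (k + 1))⁻¹ * g) * t * ((w ^ (k + 1))⁻¹ * g)⁻¹) t := by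
    rw [h1, hx']
    show t * w ^ (2 * k + 1) * t = t * (t * w ^ (2 * k + 1))
    rw [mul_assoc, hzb.eq]
  have h3 := h _ h2
  rw [h1, hx'] at h3
  exact mul_left_cancel (a := t) (by rw [h3, mul_one])

/-- A conjugate of an isolated involution `t` lying in a `2`-subgroup together with `t` equals `t`. -/
theorem IsIso.eq_of_mem_pgroup {t : G} (ht : t * t = 1) (h : IsIso t) (K : Subgroup G)
    (hK : IsPGroup 2 K) (htK : t ∈ K) (g : G) (hx : g * t * g⁻¹ ∈ K) : g * t * g⁻¹ = t := by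
  obtain ⟨k, hk⟩ := hK ⟨g * t * g⁻¹ * t, K.mul_mem hx htK⟩
  apply h.eq_of_pow_two ht g k
  have := congrArg Subtype.val hk
  simpa using this

theorem IsIso.subgroup {t : G} (h : IsIso t) (H : Subgroup G) (ht : t ∈ H) :
    IsIso (⟨t, ht⟩ : H) := by
  intro g hg
  apply Subtype.ext
  have h1 : Commute ((g : G) * t * (g : G)⁻¹) t := by
    have := congrArg Subtype.val hg.eq
    exact this
  simpa using h (g : G) h1

theorem isPGroup_zpowers_of_sq {x : G} (hx : x * x = 1) : IsPGroup 2 (Subgroup.zpowers x) := by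
  rintro ⟨y, hy⟩
  obtain ⟨k, rfl⟩ := Subgroup.mem_zpowers_iff.mp hy
  refine ⟨1, ?_⟩
  apply Subtype.ext
  simp only [SubmonoidClass.mk_pow, OneMemClass.coe_one, pow_one]
  rw [← zpow_natCast, ← zpow_mul, mul_comm, zpow_mul, zpow_natCast, pow_two, hx, one_zpow]

theorem mem_sylow_smul_iff {p : ℕ} (P : Sylow p G) (c x : G) :
    x ∈ c • P ↔ c⁻¹ * x * c ∈ P := by
  show x ∈ ((c • P : Sylow p G) : Subgroup G) ↔ _
  rw [Sylow.coe_subgroup_smul, Subgroup.mem_pointwise_smul_iff_inv_smul_mem]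
  simp [MulAut.smul_def]
  rfl

/-- The Sylow form of isolation implies the commuting form. -/
theorem IsIso.of_sylow [Finite G] (P : Sylow 2 G) {t : G} (ht : t * t = 1)
    (hiso : ∀ g : G, g * t * g⁻¹ ∈ P → g * t * g⁻¹ = t) : IsIso t := by
  have : Fact (Nat.Prime 2) := ⟨Nat.prime_two⟩
  intro g hg
  have hx := conj_sq_eq_one ht g
  have hK : IsPGroup 2 (Subgroup.zpowers (g * t * g⁻¹) ⊔ Subgroup.zpowers t : Subgroup G) := by
    apply IsPGroup.to_sup_of_normal_right' (isPGroup_zpowers_of_sq hx) (isPGroup_zpowers_of_sq ht)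
    rw [Subgroup.zpowers_le]
    apply Subgroup.centralizer_le_normalizer
    rw [Subgroup.mem_centralizer_iff]
    intro y hy
    obtain ⟨k, rfl⟩ := Subgroup.mem_zpowers_iff.mp hy
    exact ((hg.zpow_right k).eq).symm
  obtain ⟨Q, hQ⟩ := hK.exists_le_sylow
  obtain ⟨c, hc⟩ := MulAction.exists_smul_eq G P Q
  have htQ : t ∈ Q := hQ (Subgroup.mem_sup_right (Subgroup.mem_zpowers t))
  have hxQ : g * t * g⁻¹ ∈ Q := hQ (Subgroup.mem_sup_left (Subgroup.mem_zpowers _))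
  rw [← hc, mem_sylow_smul_iff] at htQ hxQ
  have h1 : c⁻¹ * t * c⁻¹⁻¹ = t := hiso c⁻¹ (by rw [inv_inv]; exact htQ)
  have h2 : (c⁻¹ * g) * t * (c⁻¹ * g)⁻¹ = t := by
    apply hiso
    have : (c⁻¹ * g) * t * (c⁻¹ * g)⁻¹ = c⁻¹ * (g * t * g⁻¹) * c := by group
    rw [this]; exact hxQ
  calc g * t * g⁻¹ = c * ((c⁻¹ * g) * t * (c⁻¹ * g)⁻¹) * c⁻¹ := by group
    _ = c * (c⁻¹ * t * c⁻¹⁻¹) * c⁻¹ := by rw [h2, h1]
    _ = t := by group

end Iso

end Cfsg.Agent.Lib.Helper18.ZStar
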