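import Mathlib
import Cfsg.Agent.Lib.Helper18.ZStarIso

set_option autoImplicit false

namespace Cfsg.Agent.Lib.Helper18.ZStar

universe u

section Iso2

variable {G : Type*} [Group G]

/-- Two conjugates of an isolated involution lying in a subgroup `H` are conjugate in `H`. -/
theorem IsIso.conj_in_subgroup [Finite G] {t : G} (ht : t * t = 1) (h : IsIso t)
    (H : Subgroup G) (htH : t ∈ H) (g : G) (hx : g * t * g⁻¹ ∈ H) :
    ∃ c ∈ H, g * t * g⁻¹ = c * t * c⁻¹ := by
  have : Fact (Nat.Prime 2) := ⟨Nat.prime_two⟩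
  have hxx := conj_sq_eq_one ht g
  have h1 : IsPGroup 2 (Subgroup.zpowers (⟨t, htH⟩ : H)) :=
    isPGroup_zpowers_of_sq (Subtype.ext ht)
  have h2 : IsPGroup 2 (Subgroup.zpowers (⟨g * t * g⁻¹, hx⟩ : H)) :=
    isPGroup_zpowers_of_sq (Subtype.ext hxx)
  obtain ⟨P, hP⟩ := h1.exists_le_sylow
  obtain ⟨Q, hQ⟩ := h2.exists_le_sylow
  obtain ⟨c, hc⟩ := MulAction.exists_smul_eq H P Q
  have htP : (⟨t, htH⟩ : H) ∈ P := hP (Subgroup.mem_zpowers _)
  have hxQ : (⟨g * t * g⁻¹, hx⟩ : H) ∈ Q := hQ (Subgroup.mem_zpowers _)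
  rw [← hc, mem_sylow_smul_iff] at hxQ
  -- the image of `P` in `G` is a `2`-group containing `t` and `c⁻¹ x c`
  have hK : IsPGroup 2 ((P : Subgroup H).map H.subtype) := P.2.map _
  have h3 : ((c : G)⁻¹ * g) * t * ((c : G)⁻¹ * g)⁻¹ = t := by
    apply h.eq_of_mem_pgroup ht _ hK
    · exact ⟨_, htP, rfl⟩
    · refine ⟨_, hxQ, ?_⟩
      simp only [Subgroup.subtype_apply, Subgroup.coe_mul, InvMemClass.coe_inv]
      group
  refine ⟨c, c.2, ?_⟩
  calc g * t * g⁻¹ = (c : G) * (((c : G)⁻¹ * g) * t * ((c : G)⁻¹ * g)⁻¹) * (c : G)⁻¹ := by group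
    _ = _ := by rw [h3]

/-- An isolated involution is central in every `2`-subgroup containing it. -/
theorem IsIso.commute_of_mem_pgroup {t : G} (ht : t * t = 1) (h : IsIso t) (K : Subgroup G)
    (hK : IsPGroup 2 K) (htK : t ∈ K) (s : G) (hs : s ∈ K) : Commute s t := by
  have h1 := h.eq_of_mem_pgroup ht K hK htK s (K.mul_mem (K.mul_mem hs htK) (K.inv_mem hs))
  show s * t = t * s
  rw [mul_inv_eq_iff_eq_mul] at h1
  exact h1

/-- Isolation passes to a quotient `G ⧸ N` as soon as `(x t)² ∈ N` forces `x t ∈ N` for the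
conjugates `x` of `t`. -/
theorem isIso_quotient {t : G} (ht : t * t = 1) (N : Subgroup G) [N.Normal]
    (hN : ∀ g : G, (g * t * g⁻¹ * t) ^ 2 ∈ N → g * t * g⁻¹ * t ∈ N) :
    IsIso (QuotientGroup.mk' N t) := by
  intro q hq
  obtain ⟨g, rfl⟩ := QuotientGroup.mk'_surjective N q
  have hxx := conj_sq_eq_one ht g
  have h1 : QuotientGroup.mk' N ((g * t * g⁻¹) * t) = QuotientGroup.mk' N (t * (g * t * g⁻¹)) := by
    have := hq.eq
    simpa using this
  have h2 : (t * (g * t * g⁻¹))⁻¹ * ((g * t * g⁻¹) * t) ∈ N := QuotientGroup.eq.mp h1.symm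
  have h3 : (t * (g * t * g⁻¹))⁻¹ * ((g * t * g⁻¹) * t) = (g * t * g⁻¹ * t) ^ 2 := by
    rw [mul_inv_rev, inv_eq_self_of_sq ht, inv_eq_self_of_sq hxx, pow_two]
  rw [h3] at h2
  have h4 := hN g h2
  have h5 : QuotientGroup.mk' N (g * t * g⁻¹ * t) = 1 := by
    rw [QuotientGroup.mk'_apply, QuotientGroup.eq_one_iff]; exact h4
  rw [map_mul] at h5
  have h6 : QuotientGroup.mk' N t * QuotientGroup.mk' N t = 1 := by
    rw [← map_mul, ht, map_one]
  have h7 : QuotientGroup.mk' N (g * t * g⁻¹) = QuotientGroup.mk' N t := by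
    rw [eq_inv_of_mul_eq_one_left h5, inv_eq_self_of_sq h6]
  simpa using h7

/-- Isolation passes to the quotient by a normal subgroup of odd order. -/
theorem IsIso.quotient_odd [Finite G] {t : G} (ht : t * t = 1) (h : IsIso t) (N : Subgroup G)
    [N.Normal] (hodd : Odd (Nat.card N)) : IsIso (QuotientGroup.mk' N t) := by
  apply isIso_quotient ht N
  intro g hg
  obtain ⟨k, hk⟩ := hodd
  have h1 : ((g * t * g⁻¹ * t) ^ 2) ^ (2 * k + 1) = 1 := by
    have := pow_card_eq_one' (G := N) (x := ⟨_, hg⟩)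
    rw [hk] at this
    have h2 := congrArg Subtype.val this
    simpa using h2
  rw [← pow_mul] at h1
  have h2 := h.pow_odd_eq_one ht g k h1
  have h3 : g * t * g⁻¹ * t = ((g * t * g⁻¹ * t) ^ 2) ^ (k + 1) := by
    rw [← pow_mul]
    have : 2 * (k + 1) = (2 * k + 1) + 1 := by ring
    rw [this, pow_succ, h2, one_mul]
  rw [h3]
  exact N.pow_mem hg _

/-- Isolation passes to the quotient by a normal `2`-subgroup. -/
theorem IsIso.quotient_two_group {t : G} (ht : t * t = 1) (h : IsIso t) (N : Subgroup G)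
    [N.Normal] (hN : IsPGroup 2 N) : IsIso (QuotientGroup.mk' N t) := by
  apply isIso_quotient ht N
  intro g hg
  obtain ⟨k, hk⟩ := hN ⟨_, hg⟩
  have h1 : (g * t * g⁻¹ * t) ^ (2 ^ (k + 1)) = 1 := by
    have h2 := congrArg Subtype.val hk
    rw [pow_succ', pow_mul]
    simpa using h2
  have h2 := h.eq_of_pow_two ht g (k + 1) h1
  rw [h2, ht]
  exact N.one_mem

/-- The decomposition lemma: let `a` be an isolated involution and `b` an involution not conjugate
to `a`.  Then there are an involution `z` commuting with `a` and `b`, and a conjugate `x'` of `a`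
with `x' = b * z` (so `x'` commutes with `b` and `z`), such that `a * b = z * (a * x')`. -/
theorem IsIso.decomp [Finite G] {a b : G} (ha : a * a = 1) (hb : b * b = 1) (h : IsIso a)
    (hab : ∀ g : G, g * a * g⁻¹ ≠ b) :
    ∃ (c z : G), z * z = 1 ∧ z ≠ 1 ∧ Commute z a ∧ Commute z b ∧ c * a * c⁻¹ = b * z ∧
      a * b = z * (a * (c * a * c⁻¹)) := by
  set w := a * b with hw
  have hn : 0 < orderOf w := orderOf_pos w
  rcases Nat.even_or_odd' (orderOf w) with ⟨m, hm | hm⟩
  · rcases Nat.even_or_odd' m with ⟨k, hk | hk⟩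
    · exfalso
      have h1 : w ^ (4 * k) = 1 := by
        rw [← pow_orderOf_eq_one w]; congr 1; omega
      have h2 : w ^ (2 * k) ≠ 1 := by
        intro h3
        have := orderOf_dvd_of_pow_eq_one h3
        have := Nat.le_of_dvd (by omega) this
        omega
      have h3 := dih_four ha hb k h1 h2
      exact h3.2 (h _ h3.1)
    · have h1 : w ^ (2 * (2 * k + 1)) = 1 := by
        rw [← pow_orderOf_eq_one w]; congr 1; omega
      obtain ⟨hzz, hza, hzb, hx'⟩ := dih_two_odd ha hb k h1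
      refine ⟨(w ^ (k + 1))⁻¹, w ^ (2 * k + 1), hzz, ?_, hza, hzb, ?_, ?_⟩
      · intro h3
        have := orderOf_dvd_of_pow_eq_one h3
        have := Nat.le_of_dvd (by omega) this
        omega
      · rw [inv_inv]; exact hx'
      · rw [inv_inv, hx']
        -- `a b = z (a b z)`
        rw [← mul_assoc a b, ← hw, ← mul_assoc, ← pow_succ, ← pow_add]
        have : 2 * k + 1 + 1 + (2 * k + 1) = 2 * (2 * k + 1) + 1 := by ring
        rw [this, pow_succ, h1, one_mul]
  · exfalso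
    have h1 : w ^ (2 * m + 1) = 1 := by
      rw [← hm]; exact pow_orderOf_eq_one w
    exact hab _ (dih_odd ha hb m h1)

end Iso2

end Cfsg.Agent.Lib.Helper18.ZStar
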