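import Mathlib
import Cfsg.Agent.Lib.Helper18.ZStarIso2
import Cfsg.Agent.Lib.Helper18.ZStarChar
import Cfsg.Agent.S0942
import Cfsg.Agent.S0943
import Cfsg.Agent.Lib.Helper9.PComponent4
import Cfsg.Agent.Lib.Helper12.Cores
import Cfsg.Agent.Lib.Helper24.PSolvable

set_option autoImplicit false

open Cfsg Cfsg.Agent.CharLib Cfsg.Agent.Lib.Helper24

namespace Cfsg.Agent.Lib.Helper18.ZStar

universe u

/-- The conclusion of the `Z*`-theorem for a group `H`. -/
def ZConcl (H : Type u) [Group H] : Prop :=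
  ∀ s : H, orderOf s = 2 → IsIso s → ∀ h : H, s * h * s⁻¹ * h⁻¹ ∈ Cfsg.pPrimeCore 2 H

/-- The induction hypothesis: the `Z*`-theorem for all groups of order less than `n`. -/
def IH (n : ℕ) : Prop :=
  ∀ (H : Type u) [Group H] [Finite H], Nat.card H < n → ZConcl H

section Step

variable {G : Type u} [Group G]

theorem orderOf_eq_two_of {x : G} (h1 : x * x = 1) (h2 : x ≠ 1) : orderOf x = 2 := by
  have : Fact (Nat.Prime 2) := ⟨Nat.prime_two⟩
  exact orderOf_eq_prime (by rw [pow_two]; exact h1) h2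

theorem sq_of_orderOf_eq_two {x : G} (h : orderOf x = 2) : x * x = 1 := by
  rw [← pow_two, ← h]; exact pow_orderOf_eq_one x

theorem ne_one_of_orderOf_eq_two {x : G} (h : orderOf x = 2) : x ≠ 1 := by
  intro h1
  rw [h1, orderOf_one] at h
  omega

theorem IH.subgroup [Finite G] (hIH : IH.{u} (Nat.card G)) (K : Subgroup G) (hK : K ≠ ⊤) :
    ZConcl ↥K := by
  apply hIH
  have h1 := Subgroup.card_le_card_group K
  have h2 : Nat.card K ≠ Nat.card G := fun h => hK ((Subgroup.card_eq_iff_eq_top (H := K)).mp h)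
  omega

/-- The key step: under the induction hypothesis, principal block characters are constant on
products of a conjugate of `t` and a conjugate of `y`. -/
theorem const_on_classes [Finite G] (hIH : IH.{u} (Nat.card G)) {t y : G} (ht : t * t = 1)
    (ht1 : t ≠ 1) (hiso : IsIso t) (hy : y * y = 1) (hyt : ∀ g : G, g * t * g⁻¹ ≠ y) (hc : Commute t y)
    (hnc : ∃ g : G, ¬ Commute g (t * y)) (M : Ideal AlgInt) (hM : IsPModular 2 M)
    (χ : IrrCharacter G) (hχ : χ ∈ principalBlock M G) (x y' : G) (hx : IsConj t x)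
    (hy' : IsConj y y') : (χ : G → ℂ) (x * y') = (χ : G → ℂ) (t * y) := by
  have : Fact (Nat.Prime 2) := ⟨Nat.prime_two⟩
  obtain ⟨g, rfl⟩ := isConj_iff.mp hx
  obtain ⟨h, rfl⟩ := isConj_iff.mp hy'
  -- conjugate by `h⁻¹`
  set x₁ := (h⁻¹ * g) * t * (h⁻¹ * g)⁻¹ with hx₁
  have e1 : (χ : G → ℂ) (g * t * g⁻¹ * (h * y * h⁻¹)) = (χ : G → ℂ) (x₁ * y) := by
    rw [← irr_conj χ (x₁ * y) h]
    rw [hx₁]; group
  rw [e1]
  have hx₁iso : IsIso x₁ := hiso.conj _
  have hx₁sq : x₁ * x₁ = 1 := conj_sq_eq_one ht _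
  have hx₁y : ∀ c : G, c * x₁ * c⁻¹ ≠ y := by
    intro c hc'
    apply hyt (c * (h⁻¹ * g))
    rw [← hc', hx₁]; group
  obtain ⟨c, z, hzz, hz1, hzx, hzy, hx', hdec⟩ := hx₁iso.decomp hx₁sq hy hx₁y
  set x' := c * x₁ * c⁻¹ with hx'def
  have hx'conj : x' = (c * (h⁻¹ * g)) * t * (c * (h⁻¹ * g))⁻¹ := by
    rw [hx'def, hx₁]; group
  -- `x'` commutes with `y`
  have hx'y : Commute x' y := by
    rw [hx']
    show y * z * y = y * (y * z)
    rw [mul_assoc, hzy.eq]
  -- `x'` is conjugate to `t` inside `C(y)`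
  have htC : t ∈ Subgroup.centralizer ({y} : Set G) := by
    rw [Subgroup.mem_centralizer_singleton_iff]; exact hc.eq
  have hx'C : (c * (h⁻¹ * g)) * t * (c * (h⁻¹ * g))⁻¹ ∈ Subgroup.centralizer ({y} : Set G) := by
    rw [← hx'conj, Subgroup.mem_centralizer_singleton_iff]; exact hx'y.eq
  obtain ⟨d, hd, hdx⟩ := hiso.conj_in_subgroup ht _ htC _ hx'C
  rw [← hx'conj] at hdx
  have hdy : d * y = y * d := by
    rw [Subgroup.mem_centralizer_singleton_iff] at hd; exact hd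
  -- `z = d (t y) d⁻¹`
  have hz : z = d * (t * y) * d⁻¹ := by
    have h1 : z = y * x' := by rw [hx', ← mul_assoc, hy, one_mul]
    rw [h1, hdx, hc.eq]
    calc y * (d * t * d⁻¹) = (y * d) * t * d⁻¹ := by group
      _ = (d * y) * t * d⁻¹ := by rw [hdy]
      _ = d * (y * t) * d⁻¹ := by group
  -- the centralizer of `z` is proper
  have hCtop : Subgroup.centralizer ({z} : Set G) ≠ ⊤ := by
    intro htop
    obtain ⟨k, hk⟩ := hnc
    apply hk
    have h1 : d * k * d⁻¹ ∈ Subgroup.centralizer ({z} : Set G) := by rw [htop]; exact Subgroup.mem_top _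
    rw [Subgroup.mem_centralizer_singleton_iff, hz] at h1
    show k * (t * y) = (t * y) * k
    calc k * (t * y) = d⁻¹ * (d * k * d⁻¹ * (d * (t * y) * d⁻¹)) * d := by group
      _ = d⁻¹ * (d * (t * y) * d⁻¹ * (d * k * d⁻¹)) * d := by rw [h1]
      _ = _ := by group
  set C := Subgroup.centralizer ({z} : Set G) with hC
  have hx₁C : x₁ ∈ C := by
    rw [hC, Subgroup.mem_centralizer_singleton_iff]; exact hzx.eq.symm
  have hx'C' : c * x₁ * c⁻¹ ∈ C := by
    rw [← hx'def, hC, Subgroup.mem_centralizer_singleton_iff, hx']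
    rw [mul_assoc, hzz, mul_one, ← hzy.eq, ← mul_assoc, hzz, one_mul]
  obtain ⟨e, he, hex⟩ := hx₁iso.conj_in_subgroup hx₁sq C hx₁C c hx'C'
  have hZ := hIH.subgroup C hCtop ⟨x₁, hx₁C⟩
    (orderOf_eq_two_of (Subtype.ext hx₁sq) (by
      intro h1
      have h2 : x₁ = 1 := congrArg Subtype.val h1
      rw [hx₁, conj_eq_one_iff] at h2
      exact ht1 h2))
    (hx₁iso.subgroup C hx₁C) ⟨e, he⟩
  have hρ : x₁ * x' ∈ Cfsg.centralizerPPrimeCore 2 z := by
    refine ⟨_, hZ, ?_⟩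
    simp only [Subgroup.subtype_apply, Subgroup.coe_mul, InvMemClass.coe_inv]
    rw [hx'def, hex, inv_eq_self_of_sq hx₁sq]
    group
  have h942 := Cfsg.Agent.S0942.result 2 M hM z ⟨1, by rw [pow_one]; exact orderOf_eq_two_of hzz hz1⟩
    (x₁ * x') hρ χ hχ
  rw [hdec, h942, hz, irr_conj]

end Step

end Cfsg.Agent.Lib.Helper18.ZStar
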