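import Mathlib
import Cfsg.Agent.Lib.Helper18.ZStarStep
import Cfsg.Agent.Lib.Helper9.PComponent

set_option autoImplicit false

open Cfsg Cfsg.Agent.CharLib Cfsg.Agent.Lib.Helper24

namespace Cfsg.Agent.Lib.Helper18.ZStar

universe u

section Step2

variable {G : Type u} [Group G]

/-- If `t` lies in a proper normal subgroup and `O(G) = 1`, then (by induction) `t` is central. -/
theorem central_of_mem_proper_normal [Finite G] (hIH : IH.{u} (Nat.card G)) {t : G}
    (ht : orderOf t = 2) (hiso : IsIso t) (hO : Cfsg.pPrimeCore 2 G = ⊥) (N : Subgroup G)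
    [hNn : N.Normal] (hN : N ≠ ⊤) (htN : t ∈ N) : ∀ g : G, g * t * g⁻¹ = t := by
  have : Fact (Nat.Prime 2) := ⟨Nat.prime_two⟩
  have hZ := hIH.subgroup N hN ⟨t, htN⟩ (by rw [← ht]; exact Subgroup.orderOf_mk t htN)
    (hiso.subgroup N htN)
  rw [Cfsg.Agent.Lib.Helper9.pPrimeCore_subgroup_eq_subgroupOf 2 hNn.isSubnormal, hO,
    Subgroup.bot_subgroupOf] at hZ
  intro g
  apply hiso
  have hx : g * t * g⁻¹ ∈ N := hNn.conj_mem t htN g
  have h1 := hZ ⟨g * t * g⁻¹, hx⟩
  rw [Subgroup.mem_bot] at h1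
  have h2 := congrArg Subtype.val h1
  simp only [Subgroup.coe_mul, InvMemClass.coe_inv, OneMemClass.coe_one] at h2
  -- t x t⁻¹ x⁻¹ = 1
  show g * t * g⁻¹ * t = t * (g * t * g⁻¹)
  rw [mul_inv_eq_one, mul_inv_eq_iff_eq_mul] at h2
  exact h2.symm

/-- Case B2 of the induction: a non-central involution `y ≠ t` of the Sylow subgroup with `t * y`
non-central as well. -/
theorem central_of_noncentral_invol [Finite G] (hIH : IH.{u} (Nat.card G)) {t : G}
    (ht : orderOf t = 2) (hiso : IsIso t) (hO : Cfsg.pPrimeCore 2 G = ⊥) (S : Sylow 2 G)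
    (htS : t ∈ S) (y : G) (hyS : y ∈ S) (hy : orderOf y = 2) (hyt : y ≠ t)
    (hync : ∃ g : G, ¬ Commute g y) (htync : ∃ g : G, ¬ Commute g (t * y)) :
    ∀ g : G, g * t * g⁻¹ = t := by
  have : Fact (Nat.Prime 2) := ⟨Nat.prime_two⟩
  have htt := sq_of_orderOf_eq_two ht
  have ht1 := ne_one_of_orderOf_eq_two ht
  have hyy := sq_of_orderOf_eq_two hy
  have hy1 := ne_one_of_orderOf_eq_two hy
  have hc : Commute t y := (hiso.commute_of_mem_pgroup htt S S.2 htS y hyS).symm
  have htyS : t * y ∈ S := S.mul_mem htS hyS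
  have htyty : (t * y) * (t * y) = 1 := by
    calc (t * y) * (t * y) = t * (y * t) * y := by group
      _ = t * (t * y) * y := by rw [hc.eq]
      _ = (t * t) * (y * y) := by group
      _ = 1 := by rw [htt, hyy, one_mul]
  have hty1 : t * y ≠ 1 := by
    intro h
    apply hyt
    rw [← inv_eq_self_of_sq htt]
    exact (inv_eq_of_mul_eq_one_right h).symm
  have hnc1 : ∀ g : G, g * t * g⁻¹ ≠ y := by
    intro g hg
    apply hyt
    rw [← hg]
    exact hiso.eq_of_mem_pgroup htt S S.2 htS g (hg ▸ hyS)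
  have hnc2 : ∀ g : G, g * t * g⁻¹ ≠ t * y := by
    intro g hg
    apply hy1
    have := hiso.eq_of_mem_pgroup htt S S.2 htS g (hg ▸ htyS)
    rw [hg] at this
    exact mul_left_cancel (a := t) (by rw [this, mul_one])
  have htty : t * (t * y) = y := by rw [← mul_assoc, htt, one_mul]
  have hc2 : Commute t (t * y) := by
    show t * (t * y) = t * y * t
    rw [mul_assoc, hc.eq]
  obtain ⟨M, hM⟩ := Cfsg.Agent.Lib.Helper6.exists_isPModular 2
  have h1 : ∀ χ ∈ principalBlock M G,
      (χ : G → ℂ) t * (χ : G → ℂ) y = (χ : G → ℂ) 1 * (χ : G → ℂ) (t * y) := by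
    intro χ hχ
    apply Cfsg.Agent.S0943.result χ t y
    intro x y' hx hy'
    exact const_on_classes hIH htt ht1 hiso hyy hnc1 hc htync M hM χ hχ x y' hx hy'
  have h2 : ∀ χ ∈ principalBlock M G,
      (χ : G → ℂ) t * (χ : G → ℂ) (t * y) = (χ : G → ℂ) 1 * (χ : G → ℂ) y := by
    intro χ hχ
    have := Cfsg.Agent.S0943.result χ t (t * y) (by
      intro x y' hx hy'
      exact const_on_classes hIH htt ht1 hiso htyty hnc2 hc2 (by rw [htty]; exact hync) M hM χ hχ
        x y' hx hy')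
    rw [htty] at this
    exact this
  obtain ⟨N, hNn, hNtop, htN⟩ := exists_proper_normal_of_mult M hM t y hy
    (orderOf_eq_two_of htyty hty1) h1 h2
  exact central_of_mem_proper_normal hIH ht hiso hO N hNtop htN

/-- Step 1 of the induction: if `O(G) ≠ 1`, pass to `G / O(G)`. -/
theorem zconcl_of_core_ne_bot [Finite G] (hIH : IH.{u} (Nat.card G))
    (hO : Cfsg.pPrimeCore 2 G ≠ ⊥) : ZConcl G := by
  have : Fact (Nat.Prime 2) := ⟨Nat.prime_two⟩
  set O := Cfsg.pPrimeCore 2 G with hOdef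
  have hOn : O.Normal := pPrimeCore_normal' 2
  have hOodd : Odd (Nat.card O) :=
    Nat.Coprime.odd_of_right (Cfsg.Agent.Lib.Helper12.pPrimeCore_coprime 2)
  have hcard : Nat.card (G ⧸ O) < Nat.card G := by
    have h1 := Subgroup.card_eq_card_quotient_mul_card_subgroup O
    have h2 : 1 < Nat.card O := O.one_lt_card_iff_ne_bot.mpr hO
    have h3 : 0 < Nat.card (G ⧸ O) := Nat.card_pos
    rw [h1]
    nlinarith
  intro s hs hiso h
  have hss := sq_of_orderOf_eq_two hs
  have hsO : s ∉ O := by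
    intro hsO
    have h1 : orderOf (⟨s, hsO⟩ : O) ∣ Nat.card O := orderOf_dvd_natCard _
    rw [Subgroup.orderOf_mk, hs] at h1
    exact (Nat.not_even_iff_odd.mpr hOodd) (even_iff_two_dvd.mpr h1)
  have hs2 : orderOf (QuotientGroup.mk' O s) = 2 := by
    apply orderOf_eq_two_of
    · rw [← map_mul, hss, map_one]
    · intro h1
      exact hsO ((QuotientGroup.eq_one_iff s).mp h1)
  have hZ := hIH (G ⧸ O) hcard (QuotientGroup.mk' O s) hs2 (hiso.quotient_odd hss O hOodd)
    (QuotientGroup.mk' O h)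
  rw [Cfsg.Agent.Lib.Helper9.pPrimeCore_quotient_eq_bot, Subgroup.mem_bot] at hZ
  rw [← map_inv, ← map_inv, ← map_mul, ← map_mul, ← map_mul] at hZ
  exact (QuotientGroup.eq_one_iff _).mp hZ

end Step2

end Cfsg.Agent.Lib.Helper18.ZStar
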