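import Mathlib
import Cfsg.Agent.Lib.Helper18.ZStarStep2
import Cfsg.Agent.Lib.Helper18.UniqueInvolution
import Cfsg.Agent.Lib.Helper12.HallHigman

set_option autoImplicit false

open Cfsg Cfsg.Agent.CharLib Cfsg.Agent.Lib.Helper24

namespace Cfsg.Agent.Lib.Helper18.ZStar

universe u

/-- The statement of the Brauer–Suzuki theorem (S0201) in a fixed universe, as a hypothesis. -/
def BSHyp : Prop :=
  ∀ (X : Type u) [Group X] [Finite X] (S : Sylow 2 X) (n : ℕ)
    (_ : (S : Subgroup X) ≃* QuaternionGroup (2 ^ (n + 1)))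
    (_ : ∀ N : Subgroup X, N.Normal → Odd (Nat.card N) → N = ⊥),
    Nat.card (Subgroup.center X) = 2

section Step3

variable {G : Type u} [Group G]

/-- Case A: the Sylow `2`-subgroup has a unique involution. -/
theorem central_of_unique_invol [Finite G] (BS : BSHyp.{u}) {t : G} (ht : orderOf t = 2)
    (hO : ∀ N : Subgroup G, N.Normal → Odd (Nat.card N) → N = ⊥) (S : Sylow 2 G)
    (htZ : ∀ s ∈ S, Commute s t) (huniq : ∀ y ∈ S, orderOf y = 2 → y = t) :
    ∀ g : G, g * t * g⁻¹ = t := by
  have : Fact (Nat.Prime 2) := ⟨Nat.prime_two⟩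
  have hcen : (∀ g : G, Commute g t) → ∀ g : G, g * t * g⁻¹ = t := by
    intro h g
    rw [mul_inv_eq_iff_eq_mul]; exact (h g).eq
  apply hcen
  have huniq' : ∀ a b : ↥(S : Subgroup G), orderOf a = 2 → orderOf b = 2 → a = b := by
    intro a b ha hb
    apply Subtype.ext
    rw [huniq a a.2 ((Subgroup.orderOf_coe a).trans ha),
      huniq b b.2 ((Subgroup.orderOf_coe b).trans hb)]
  rcases isCyclic_or_quaternion_of_unique_involution S.2 huniq' with hcyc | ⟨n, hn, ⟨e⟩⟩
  · -- cyclic Sylow subgroup: normal complement of odd order, hence trivial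
    have hminFac : (Nat.card G).minFac = 2 := by
      rw [Nat.minFac_eq_two_iff, ← ht]
      exact orderOf_dvd_natCard t
    have hcomp := IsCyclic.isComplement' hminFac hcyc
    set K := (MonoidHom.transferSylow S (hcyc.normalizer_le_centralizer hminFac)).ker with hK
    have hKodd : Odd (Nat.card K) := by
      have h1 := hcomp.card_mul_card
      have h2 := (S : Subgroup G).card_mul_index
      have h3 : Nat.card K = (S : Subgroup G).index := by
        have hpos : 0 < Nat.card (S : Subgroup G) := Nat.card_pos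
        nlinarith
      rw [h3]
      have h4 : ¬ 2 ∣ (S : Subgroup G).index := S.not_dvd_index
      exact Nat.odd_iff.mpr (by omega)
    have hKbot := hO K (MonoidHom.normal_ker _) hKodd
    rw [hKbot] at hcomp
    have hStop : (S : Subgroup G) = ⊤ := Subgroup.isComplement'_bot_left.mp hcomp
    intro g
    exact htZ g (by show g ∈ (S : Subgroup G); rw [hStop]; exact Subgroup.mem_top g)
  · -- generalized quaternion: Brauer–Suzuki
    obtain ⟨m, rfl⟩ : ∃ m, n = m + 1 := ⟨n - 1, by omega⟩
    have hZ := BS G S m e hO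
    -- a central involution
    have hex : ∃ c : G, c ∈ Subgroup.center G ∧ orderOf c = 2 := by
      have hnt : Nontrivial (Subgroup.center G) := by
        rw [← Finite.one_lt_card_iff_nontrivial, hZ]; norm_num
      obtain ⟨c, hc⟩ := exists_ne (1 : Subgroup.center G)
      refine ⟨c, c.2, ?_⟩
      apply orderOf_eq_two_of
      · have := pow_card_eq_one' (G := Subgroup.center G) (x := c)
        rw [hZ, pow_two] at this
        exact congrArg Subtype.val this
      · intro h; exact hc (Subtype.ext h)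
    obtain ⟨c, hcZ, hc2⟩ := hex
    -- `c` lies in `S`
    have hcS : c ∈ S := by
      have h1 : IsPGroup 2 (Subgroup.zpowers c) :=
        isPGroup_zpowers_of_sq (sq_of_orderOf_eq_two hc2)
      obtain ⟨Q, hQ⟩ := h1.exists_le_sylow
      obtain ⟨d, hd⟩ := MulAction.exists_smul_eq G S Q
      have h2 : c ∈ Q := hQ (Subgroup.mem_zpowers c)
      rw [← hd, mem_sylow_smul_iff] at h2
      have h3 : d⁻¹ * c * d = c := by
        rw [Subgroup.mem_center_iff] at hcZ
        rw [mul_assoc, ← hcZ d, ← mul_assoc, inv_mul_cancel, one_mul]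
      rwa [h3] at h2
    have hct := huniq c hcS hc2
    rw [← hct]
    intro g
    rw [Subgroup.mem_center_iff] at hcZ
    exact hcZ g

/-- If `O_{p'}(G) = 1` and `N` is a central `p`-subgroup, then `O_{p'}(G / N) = 1`. -/
theorem pPrimeCore_quotient_central_eq_bot [Finite G] (p : ℕ) [hp : Fact p.Prime]
    (hO : Cfsg.pPrimeCore p G = ⊥) (N : Subgroup G) [hNn : N.Normal]
    (hNZ : N ≤ Subgroup.center G) (hNp : IsPGroup p N) : Cfsg.pPrimeCore p (G ⧸ N) = ⊥ := by
  set π := QuotientGroup.mk' N with hπ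
  set Nb := Cfsg.pPrimeCore p (G ⧸ N) with hNb
  have hNbn : Nb.Normal := pPrimeCore_normal' p
  have hNbc : (Nat.card Nb).Coprime p := Cfsg.Agent.Lib.Helper12.pPrimeCore_coprime p
  set M := Nb.comap π with hM
  have hMn : M.Normal := inferInstance
  have hNM : N ≤ M := by
    intro x hx
    show π x ∈ Nb
    have : π x = 1 := (QuotientGroup.eq_one_iff x).mpr hx
    rw [this]; exact Nb.one_mem
  set D : Subgroup M := N.subgroupOf M with hD
  have hDcen : D ≤ Subgroup.center M := by
    intro d hd
    rw [Subgroup.mem_center_iff]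
    intro y
    have hdN : (d : G) ∈ N := Subgroup.mem_subgroupOf.mp hd
    have h1 := Subgroup.mem_center_iff.mp (hNZ hdN) (y : G)
    apply Subtype.ext
    simpa using h1
  have hDp : IsPGroup p D := hNp.comap_subtype
  have hDidx : D.index = Nat.card (M.map π) := by
    have h1 := Subgroup.relIndex_ker π (K := M)
    rw [QuotientGroup.ker_mk'] at h1
    exact h1
  have hMmap : M.map π = Nb :=
    Subgroup.map_comap_eq_self_of_surjective (QuotientGroup.mk'_surjective N) Nb
  have hidx : D.index.Coprime p := by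
    rw [hDidx, hMmap]; exact hNbc
  obtain ⟨K, hKcard, hKmem⟩ :=
    Cfsg.Agent.Lib.Helper12.exists_complement_of_central D hDcen hDp hidx
  have hKn : (K.map M.subtype).Normal := by
    constructor
    rintro _ ⟨x, hx, rfl⟩ g
    have hgx : g * (x : G) * g⁻¹ ∈ M := hMn.conj_mem x x.2 g
    refine ⟨⟨_, hgx⟩, ?_, rfl⟩
    show (⟨_, hgx⟩ : M) ∈ K
    rw [hKmem]
    have h1 := (hKmem x).mp hx
    have h2 : ((x : G)) ^ D.index = 1 := by
      have := congrArg Subtype.val h1
      simpa using this
    apply Subtype.ext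
    simp only [SubmonoidClass.mk_pow, OneMemClass.coe_one]
    rw [conj_pow, h2, mul_one, mul_inv_cancel]
  have hKle : K.map M.subtype ≤ Cfsg.pPrimeCore p G := by
    apply Cfsg.Agent.Lib.Helper12.le_pPrimeCore p _ hKn
    rw [Subgroup.card_map_of_injective M.subtype_injective, hKcard]
    exact hidx
  rw [hO, le_bot_iff] at hKle
  have hK1 : Nat.card K = 1 := by
    have : K = ⊥ := by
      rw [eq_bot_iff]
      intro x hx
      have h1 : (x : G) ∈ K.map M.subtype := ⟨x, hx, rfl⟩
      rw [hKle, Subgroup.mem_bot] at h1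
      rw [Subgroup.mem_bot]
      exact Subtype.ext h1
    rw [this]; exact Subgroup.card_bot
  rw [hKcard, hDidx, hMmap] at hK1
  exact Subgroup.card_eq_one.mp hK1

/-- Case B1: a central involution different from `t`. -/
theorem central_of_central_invol [Finite G] (hIH : IH.{u} (Nat.card G)) {t : G}
    (ht : orderOf t = 2) (hiso : IsIso t) (hO : Cfsg.pPrimeCore 2 G = ⊥) (c : G)
    (hc : orderOf c = 2) (hcZ : c ∈ Subgroup.center G) (hct : c ≠ t) :
    ∀ g : G, g * t * g⁻¹ = t := by
  have : Fact (Nat.Prime 2) := ⟨Nat.prime_two⟩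
  have htt := sq_of_orderOf_eq_two ht
  have ht1 := ne_one_of_orderOf_eq_two ht
  have hcc := sq_of_orderOf_eq_two hc
  set N := Subgroup.zpowers c with hN
  have hNZ : N ≤ Subgroup.center G := by
    rw [hN, Subgroup.zpowers_le]; exact hcZ
  have hNn : N.Normal := by
    constructor
    intro n hn g
    have := Subgroup.mem_center_iff.mp (hNZ hn) g
    rw [this, mul_inv_cancel_right]
    exact hn
  have hNp : IsPGroup 2 N := isPGroup_zpowers_of_sq hcc
  have hNcard : Nat.card N = 2 := by rw [hN, Nat.card_zpowers, hc]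
  have hcard : Nat.card (G ⧸ N) < Nat.card G := by
    have h1 := Subgroup.card_eq_card_quotient_mul_card_subgroup N
    have h3 : 0 < Nat.card (G ⧸ N) := Nat.card_pos
    rw [h1, hNcard]
    omega
  have htN : t ∉ N := by
    intro h
    obtain ⟨k, hk⟩ := Subgroup.mem_zpowers_iff.mp h
    rcases Int.even_or_odd' k with ⟨j, hj | hj⟩
    · apply ht1
      rw [← hk, hj, zpow_mul, zpow_ofNat, pow_two, hcc, one_zpow]
    · apply hct
      rw [← hk, hj, zpow_add, zpow_mul, zpow_ofNat, pow_two, hcc, one_zpow, one_mul, zpow_one]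
  have ht2 : orderOf (QuotientGroup.mk' N t) = 2 := by
    apply orderOf_eq_two_of
    · rw [← map_mul, htt, map_one]
    · intro h1
      exact htN ((QuotientGroup.eq_one_iff t).mp h1)
  have hObar := pPrimeCore_quotient_central_eq_bot 2 hO N hNZ hNp
  intro g
  apply hiso
  have hZ := hIH (G ⧸ N) hcard (QuotientGroup.mk' N t) ht2 (hiso.quotient_two_group htt N hNp)
    (QuotientGroup.mk' N g)
  rw [hObar, Subgroup.mem_bot] at hZ
  rw [← map_inv, ← map_inv, ← map_mul, ← map_mul, ← map_mul] at hZ
  have hn : t * g * t⁻¹ * g⁻¹ ∈ N := (QuotientGroup.eq_one_iff _).mp hZ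
  have hm : g * t * g⁻¹ * t⁻¹ ∈ N := by
    have := N.inv_mem hn
    have e : (t * g * t⁻¹ * g⁻¹)⁻¹ = g * t * g⁻¹ * t⁻¹ := by group
    rwa [e] at this
  have hmcen := Subgroup.mem_center_iff.mp (hNZ hm)
  have h1 : g * t * g⁻¹ = (g * t * g⁻¹ * t⁻¹) * t := by group
  rw [h1]
  show (g * t * g⁻¹ * t⁻¹) * t * t = t * ((g * t * g⁻¹ * t⁻¹) * t)
  rw [← mul_assoc t, hmcen t]

end Step3

end Cfsg.Agent.Lib.Helper18.ZStar
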