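import Mathlib
import Cfsg.Agent.Lib.Helper18.ZStarStep3

set_option autoImplicit false

open Cfsg Cfsg.Agent.CharLib Cfsg.Agent.Lib.Helper24

namespace Cfsg.Agent.Lib.Helper18.ZStar

universe u

/-- The inductive step of the `Z*`-theorem. -/
theorem zconcl_of_IH (BS : BSHyp.{u}) (G : Type u) [Group G] [Finite G]
    (hIH : IH.{u} (Nat.card G)) : ZConcl G := by
  have : Fact (Nat.Prime 2) := ⟨Nat.prime_two⟩
  by_cases hO : Cfsg.pPrimeCore 2 G = ⊥
  · intro t ht hiso g
    have htt := sq_of_orderOf_eq_two ht
    suffices h : ∀ g : G, g * t * g⁻¹ = t by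
      have h1 : t * g * t⁻¹ * g⁻¹ = 1 := by
        have h2 := h g
        rw [mul_inv_eq_iff_eq_mul] at h2
        rw [mul_inv_eq_one, mul_inv_eq_iff_eq_mul]
        exact h2.symm
      rw [h1]; exact Subgroup.one_mem _
    have hO' : ∀ N : Subgroup G, N.Normal → Odd (Nat.card N) → N = ⊥ := by
      intro N hN hodd
      have := Cfsg.Agent.Lib.Helper12.le_pPrimeCore 2 N hN (Nat.coprime_two_right.mpr hodd)
      rw [hO] at this
      exact le_bot_iff.mp this
    -- a Sylow `2`-subgroup containing `t`
    obtain ⟨S, hS⟩ := (isPGroup_zpowers_of_sq htt).exists_le_sylow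
    have htS : t ∈ S := hS (Subgroup.mem_zpowers t)
    have htZ : ∀ s ∈ S, Commute s t := fun s hs =>
      hiso.commute_of_mem_pgroup htt S S.2 htS s hs
    by_cases huniq : ∀ y ∈ S, orderOf y = 2 → y = t
    · exact central_of_unique_invol BS ht hO' S htZ huniq
    · push Not at huniq
      obtain ⟨y, hyS, hy2, hyt⟩ := huniq
      by_cases hcen : ∃ c : G, orderOf c = 2 ∧ c ∈ Subgroup.center G ∧ c ≠ t
      · obtain ⟨c, hc2, hcZ, hct⟩ := hcen
        exact central_of_central_invol hIH ht hiso hO c hc2 hcZ hct
      · push Not at hcen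
        have hnc : ∀ c : G, orderOf c = 2 → c ≠ t → ∃ g : G, ¬ Commute g c := by
          intro c hc2 hct
          by_contra hall
          push Not at hall
          apply hct
          apply hcen c hc2
          rw [Subgroup.mem_center_iff]
          intro g
          exact (hall g).eq
        have hyy := sq_of_orderOf_eq_two hy2
        have hy1 := ne_one_of_orderOf_eq_two hy2
        have hc : Commute t y := (htZ y hyS).symm
        have htyty : (t * y) * (t * y) = 1 := by
          calc (t * y) * (t * y) = t * (y * t) * y := by group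
            _ = t * (t * y) * y := by rw [hc.eq]
            _ = (t * t) * (y * y) := by group
            _ = 1 := by rw [htt, hyy, one_mul]
        have hty1 : t * y ≠ 1 := by
          intro h
          apply hyt
          rw [← inv_eq_self_of_sq htt]
          exact (inv_eq_of_mul_eq_one_right h).symm
        have htyt : t * y ≠ t := by
          intro h
          apply hy1
          exact mul_left_cancel (a := t) (by rw [h, mul_one])
        exact central_of_noncentral_invol hIH ht hiso hO S htS y hyS hy2 hyt (hnc y hy2 hyt)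
          (hnc (t * y) (orderOf_eq_two_of htyty hty1) htyt)
  · exact zconcl_of_core_ne_bot hIH hO

/-- The `Z*`-theorem for all groups of order less than `n`, by induction. -/
theorem zstar_all (BS : BSHyp.{u}) : ∀ n : ℕ, IH.{u} n := by
  intro n
  induction n with
  | zero =>
    intro H _ _ h
    exact absurd h (Nat.not_lt_zero _)
  | succ n ih =>
    intro H _ _ h
    by_cases h1 : Nat.card H < n
    · exact ih H h1
    · have h2 : Nat.card H = n := by omega
      apply zconcl_of_IH BS H
      rw [h2]; exact ih

/-- **Glauberman's `Z*`-theorem**, assuming the Brauer–Suzuki theorem: for an isolated involution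
`t` of a finite group `G`, all commutators `[t, g]` lie in `O(G)`. -/
theorem zstar (BS : BSHyp.{u}) (G : Type u) [Group G] [Finite G] : ZConcl G :=
  zstar_all BS (Nat.card G + 1) G (Nat.lt_succ_self _)

/-- The `Z*`-theorem in the Sylow form (the statement of S0215), assuming Brauer–Suzuki. -/
theorem zstar_sylow (BS : BSHyp.{u}) {G : Type u} [Group G] [Finite G] (P : Sylow 2 G) (t : G)
    (ht : orderOf t = 2) (hiso : ∀ g : G, g * t * g⁻¹ ∈ P → g * t * g⁻¹ = t) :
    ∃ N : Subgroup G, N.Normal ∧ Odd (Nat.card N) ∧ ∀ g : G, (t * g * t⁻¹ * g⁻¹) ∈ N := by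
  refine ⟨Cfsg.pPrimeCore 2 G, pPrimeCore_normal' 2,
    Nat.Coprime.odd_of_right (Cfsg.Agent.Lib.Helper12.pPrimeCore_coprime 2), ?_⟩
  exact zstar BS G t ht (IsIso.of_sylow P (sq_of_orderOf_eq_two ht) hiso)

end Cfsg.Agent.Lib.Helper18.ZStar
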