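import Mathlib

set_option autoImplicit false

/-!
# Automorphisms of odd order of 2-groups with a characteristic cyclic subgroup of index two
-/

namespace Cfsg.Agent.Lib.Helper18

open Subgroup

/-- an automorphism of odd order mapping an element `r` of 2-power order into `⟨r⟩` fixes `r` -/
theorem aut_fixes_of_odd_of_mem_zpowers {X : Type*} [Group X] [Finite X] (φ : MulAut X) (m : ℕ)
    (hm : Odd m) (hφ : φ ^ m = 1) (r : X) (k : ℕ) (hr : orderOf r = 2 ^ k)
    (hmem : φ r ∈ Subgroup.zpowers r) : φ r = r := by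
  by_cases hk0' : k = 0
  · subst hk0'
    rw [pow_zero, orderOf_eq_one_iff] at hr
    rw [hr, map_one]
  obtain ⟨j, hj⟩ := (mem_powers_iff_mem_zpowers.mpr hmem)
  have hj' : r ^ j = φ r := hj
  -- iterates
  have hiter : ∀ t : ℕ, (φ ^ t) r = r ^ (j ^ t) := by
    intro t
    induction t with
    | zero => simp
    | succ t ih =>
      rw [pow_succ', MulAut.mul_apply, ih, map_pow, ← hj', ← pow_mul, ← pow_succ']
  have h1 : r ^ (j ^ m) = r ^ 1 := by
    rw [← hiter m, hφ, pow_one]; rfl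
  rw [pow_eq_pow_iff_modEq, hr] at h1
  -- work in ZMod (2^k)
  haveI : NeZero (2 ^ k) := ⟨by positivity⟩
  have h2 : ((j : ZMod (2 ^ k))) ^ m = 1 := by
    have := (ZMod.natCast_eq_natCast_iff (j ^ m) 1 (2 ^ k)).mpr h1
    push_cast at this
    exact this
  have hm0 : m ≠ 0 := by
    rintro rfl
    exact (Nat.not_odd_iff_even.mpr (by decide : Even 0)) hm
  obtain ⟨u, hu⟩ : ∃ u : (ZMod (2 ^ k))ˣ, (u : ZMod (2 ^ k)) = (j : ZMod (2 ^ k)) :=
    ⟨Units.ofPowEqOne _ m h2 hm0, rfl⟩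
  have hum : u ^ m = 1 := by
    apply Units.ext
    rw [Units.val_pow_eq_pow_val, hu, h2]; rfl
  have hkpos : 0 < k := by
    rcases Nat.eq_zero_or_pos k with hk0 | hkpos
    · exfalso
      apply hk0'
      exact hk0
    · exact hkpos
  have hcard : u ^ (2 ^ (k - 1)) = 1 := by
    have h3 : Nat.card (ZMod (2 ^ k))ˣ = 2 ^ (k - 1) := by
      rw [Nat.card_eq_fintype_card, ZMod.card_units_eq_totient,
        Nat.totient_prime_pow Nat.prime_two hkpos]
      simp
    rw [← h3]; exact pow_card_eq_one'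
  have hu1 : u = 1 := by
    have d1 : orderOf u ∣ m := orderOf_dvd_of_pow_eq_one hum
    have d2 : orderOf u ∣ 2 ^ (k - 1) := orderOf_dvd_of_pow_eq_one hcard
    have hcop : Nat.Coprime m (2 ^ (k - 1)) := Nat.Coprime.pow_right _ hm.coprime_two_right
    have : orderOf u = 1 := Nat.eq_one_of_dvd_coprimes hcop d1 d2
    exact orderOf_eq_one_iff.mp this
  have h6 : (j : ZMod (2 ^ k)) = ((1 : ℕ) : ZMod (2 ^ k)) := by
    rw [← hu, hu1]; simp
  rw [ZMod.natCast_eq_natCast_iff] at h6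
  rw [← hj', ← pow_one r]
  conv_lhs => rw [pow_one]
  rw [pow_eq_pow_iff_modEq, hr]
  exact h6

/-- an automorphism of odd order fixing `r` of 2-power order and moving `s` within `s⟨r⟩` fixes `s` -/
theorem aut_fixes_of_odd_of_coset {X : Type*} [Group X] (φ : MulAut X) (m : ℕ)
    (hm : Odd m) (hφ : φ ^ m = 1) (r s : X) (k : ℕ) (hr : r ^ (2 ^ k) = 1) (hfix : φ r = r)
    (i : ℤ) (hs : φ s = s * r ^ i) : φ s = s := by
  have hiter : ∀ t : ℕ, (φ ^ t) s = s * (r ^ i) ^ t := by
    intro t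
    induction t with
    | zero => simp
    | succ t ih =>
      rw [pow_succ', MulAut.mul_apply, ih, map_mul, map_pow, map_zpow, hfix, hs, mul_assoc,
        ← pow_succ']
  have h1 : (r ^ i) ^ m = 1 := by
    have := hiter m
    rw [hφ] at this
    have h2 : s = s * (r ^ i) ^ m := this
    exact (mul_eq_left.mp h2.symm)
  have h2 : (r ^ i) ^ (2 ^ k) = 1 := by
    rw [← zpow_natCast, ← zpow_mul, mul_comm, zpow_mul, zpow_natCast, hr, one_zpow]
  have d1 : orderOf (r ^ i) ∣ m := orderOf_dvd_of_pow_eq_one h1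
  have d2 : orderOf (r ^ i) ∣ 2 ^ k := orderOf_dvd_of_pow_eq_one h2
  have hcop : Nat.Coprime m (2 ^ k) := Nat.Coprime.pow_right k hm.coprime_two_right
  have : orderOf (r ^ i) = 1 := Nat.eq_one_of_dvd_coprimes hcop d1 d2
  rw [hs, orderOf_eq_one_iff.mp this, mul_one]

/-- A finite group covered by `⟨r⟩ ∪ s⟨r⟩`, with `r` of order `2^k` and all elements outside `⟨r⟩`
of smaller order, has no nontrivial automorphisms of odd order. -/
theorem aut_eq_one_of_odd {X : Type*} [Group X] [Finite X] (r s : X) (k : ℕ)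
    (hr : orderOf r = 2 ^ k) (hs : s ∉ Subgroup.zpowers r)
    (hcov : ∀ x : X, x ∈ Subgroup.zpowers r ∨ ∃ i : ℤ, x = s * r ^ i)
    (hout : ∀ x : X, x ∉ Subgroup.zpowers r → orderOf x < 2 ^ k)
    (φ : MulAut X) (m : ℕ) (hm : Odd m) (hφ : φ ^ m = 1) : φ = 1 := by
  have hφr : φ r ∈ Subgroup.zpowers r := by
    by_contra hnot
    have := hout _ hnot
    rw [MulEquiv.orderOf_eq, hr] at this
    exact lt_irrefl _ this
  have hfix : φ r = r := aut_fixes_of_odd_of_mem_zpowers φ m hm hφ r k hr hφr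
  have hfixpow : ∀ i : ℤ, φ (r ^ i) = r ^ i := fun i => by rw [map_zpow, hfix]
  have hφs : φ s = s := by
    rcases hcov (φ s) with h | ⟨i, hi⟩
    · exfalso
      obtain ⟨i, hi⟩ := Subgroup.mem_zpowers_iff.mp h
      have : φ s = φ (r ^ i) := by rw [hfixpow, hi]
      have := φ.injective this
      exact hs (this ▸ Subgroup.zpow_mem_zpowers r i)
    · exact aut_fixes_of_odd_of_coset φ m hm hφ r s k (by rw [← hr]; exact pow_orderOf_eq_one r)
        hfix i hi
  ext x
  rcases hcov x with h | ⟨i, rfl⟩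
  · obtain ⟨i, rfl⟩ := Subgroup.mem_zpowers_iff.mp h
    rw [hfixpow]; rfl
  · rw [map_mul, hfixpow, hφs]; rfl

/-- a finite group without nontrivial automorphisms of odd order has a 2-group of automorphisms -/
theorem isPGroup_two_mulAut_of_odd_trivial {X : Type*} [Group X] [Finite X]
    (h : ∀ (φ : MulAut X) (m : ℕ), Odd m → φ ^ m = 1 → φ = 1) : IsPGroup 2 (MulAut X) := by
  intro φ
  obtain ⟨e, m, hm, ho⟩ := Nat.exists_eq_two_pow_mul_odd (orderOf_pos φ).ne'
  refine ⟨e, ?_⟩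
  apply h (φ ^ 2 ^ e) m hm
  rw [← pow_mul, ← ho]
  exact pow_orderOf_eq_one φ

end Cfsg.Agent.Lib.Helper18
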