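import Mathlib
import Cfsg.Agent.Lib.Helper20.AschDefs

/-!
S5630 (Aschbacher's theorem), block (A89) = the perfect case / C7 block: shared definitions (sub-planner helper18).

`cj h X` (conjugate subgroup), `slot m t i A` (the matrix `1 ⊗ ⋯ ⊗ A ⊗ ⋯ ⊗ 1`, `A` in slot `i`, on the index type
`Fin t → Fin m`), `ptens m t gs` (the pure tensor `gs 0 ⊗ ⋯ ⊗ gs (t-1)`), `fperm m t σ` (factor permutation matrix),
`CFam H N r Nf` (`N` is the commuting product of the `r ≥ 2` subgroups `Nf i`, permuted transitively by `H`),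
`IsCommUnits E` (`r` pairwise commuting full systems of `m × m` matrix units in `M_n(F)`), `eprod` (the product system),
`J2`, `Jt`, `gramJ` (the form `J^{⊗ t}` for `m = 2`).
-/

set_option autoImplicit false
set_option linter.unusedSectionVars false
set_option linter.unusedVariables false

namespace Cfsg.Agent.Lib.Helper18.AschA89
open Matrix Cfsg.Geo Cfsg.Agent.Lib.Helper20.Asch
open scoped Kronecker

variable {F : Type*} [Field F] {n : ℕ}

/-- the conjugate subgroup `h X h⁻¹` -/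
def cj (h : GL (Fin n) F) (X : Subgroup (GL (Fin n) F)) : Subgroup (GL (Fin n) F) :=
  X.map (MulAut.conj h).toMonoidHom

lemma mem_cj {h : GL (Fin n) F} {X : Subgroup (GL (Fin n) F)} {y : GL (Fin n) F} :
    y ∈ cj h X ↔ ∃ x ∈ X, h * x * h⁻¹ = y := by
  unfold cj
  rw [Subgroup.mem_map]
  rfl

/-- `A` in the `i`-th tensor slot, identity elsewhere: entry `(x, y)` is `A (x i) (y i)` if `x` and `y` agree off `i`,
and `0` otherwise. -/
def slot (m t : ℕ) (i : Fin t) (A : Matrix (Fin m) (Fin m) F) :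
    Matrix (Fin t → Fin m) (Fin t → Fin m) F :=
  Matrix.of fun x y => if ∀ j, j ≠ i → x j = y j then A (x i) (y i) else 0

lemma slot_apply (m t : ℕ) (i : Fin t) (A : Matrix (Fin m) (Fin m) F) (x y : Fin t → Fin m) :
    slot m t i A x y = if ∀ j, j ≠ i → x j = y j then A (x i) (y i) else 0 := rfl

/-- the pure tensor `gs 0 ⊗ ⋯ ⊗ gs (t-1)`: entry `(x, y)` is `∏ i, gs i (x i) (y i)` (as in `IsPureTensor`). -/
def ptens (m t : ℕ) (gs : Fin t → Matrix (Fin m) (Fin m) F) :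
    Matrix (Fin t → Fin m) (Fin t → Fin m) F :=
  Matrix.of fun x y => ∏ i, gs i (x i) (y i)

lemma ptens_apply (m t : ℕ) (gs : Fin t → Matrix (Fin m) (Fin m) F) (x y : Fin t → Fin m) :
    ptens m t gs x y = ∏ i, gs i (x i) (y i) := rfl

/-- the factor permutation matrix: entry `(x, y)` is `1` if `y = x ∘ σ` (as in `IsFactorPermutation`). -/
def fperm (m t : ℕ) (σ : Equiv.Perm (Fin t)) : Matrix (Fin t → Fin m) (Fin t → Fin m) F :=
  Matrix.of fun x y => if y = x ∘ σ then 1 else 0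

lemma fperm_apply (m t : ℕ) (σ : Equiv.Perm (Fin t)) (x y : Fin t → Fin m) :
    fperm (F := F) m t σ x y = if y = x ∘ σ then 1 else 0 := rfl

/-- `M` is a minimal non-scalar subgroup of `N` normalised by `N` -/
def MinNS (N M : Subgroup (GL (Fin n) F)) : Prop :=
  M ≤ N ∧ NormBy N M ∧ ¬ M ≤ scalars (Fin n) F ∧
    ∀ M' : Subgroup (GL (Fin n) F), M' ≤ M → NormBy N M' → M' = M ∨ M' ≤ scalars (Fin n) F

/-- `N` is the product of the `r ≥ 2` pairwise commuting non-scalar subgroups `Nf i`, each normalised by `N`, and `H`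
permutes the `Nf i` transitively by conjugation. -/
structure CFam (H N : Subgroup (GL (Fin n) F)) (r : ℕ) (Nf : Fin r → Subgroup (GL (Fin n) F)) : Prop where
  two_le : 2 ≤ r
  le : ∀ i, Nf i ≤ N
  ns : ∀ i, ¬ Nf i ≤ scalars (Fin n) F
  comm : ∀ i j, i ≠ j → ∀ x ∈ Nf i, ∀ y ∈ Nf j, x * y = y * x
  sup : (⨆ i, Nf i) = N
  normN : ∀ i, NormBy N (Nf i)
  perm : ∀ h ∈ H, ∃ σ : Equiv.Perm (Fin r), ∀ i, cj h (Nf i) = Nf (σ i)
  trans : ∀ i j, ∃ h ∈ H, cj h (Nf i) = Nf j

/-- a full system of matrix units indexed by `ι` in `M_n(F)` -/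
structure IsUnits {ι : Type} [Fintype ι] [DecidableEq ι]
    (E : ι → ι → Matrix (Fin n) (Fin n) F) : Prop where
  mul : ∀ a b c d, E a b * E c d = if b = c then E a d else 0
  sum : ∑ a, E a a = 1

/-- `r` pairwise commuting full systems of `m × m` matrix units in `M_n(F)` -/
structure IsCommUnits {r m : ℕ} (E : Fin r → Fin m → Fin m → Matrix (Fin n) (Fin n) F) : Prop where
  units : ∀ i, IsUnits (E i)
  comm : ∀ i j, i ≠ j → ∀ a b c d, E i a b * E j c d = E j c d * E i a b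

/-- the product `E 0 (x 0) (y 0) * E 1 (x 1) (y 1) * ⋯ * E (r-1) (x (r-1)) (y (r-1))` (by recursion on `r`) -/
def eprod (s : ℕ) : (r : ℕ) → (Fin r → Fin s → Fin s → Matrix (Fin n) (Fin n) F) →
    (Fin r → Fin s) → (Fin r → Fin s) → Matrix (Fin n) (Fin n) F
  | 0, _, _, _ => 1
  | r + 1, E, x, y =>
    E 0 (x 0) (y 0) * eprod s r (fun i => E i.succ) (fun i => x i.succ) (fun i => y i.succ)

lemma eprod_zero (s : ℕ) (E : Fin 0 → Fin s → Fin s → Matrix (Fin n) (Fin n) F) (x y : Fin 0 → Fin s) :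
    eprod s 0 E x y = 1 := rfl

lemma eprod_succ (s r : ℕ) (E : Fin (r + 1) → Fin s → Fin s → Matrix (Fin n) (Fin n) F)
    (x y : Fin (r + 1) → Fin s) :
    eprod s (r + 1) E x y =
      E 0 (x 0) (y 0) * eprod s r (fun i => E i.succ) (fun i => x i.succ) (fun i => y i.succ) := rfl

/-- the standard alternating `2 × 2` matrix -/
def J2 : Matrix (Fin 2) (Fin 2) F := !![0, 1; -1, 0]

/-- `J2 ⊗ ⋯ ⊗ J2` (`t` factors) -/
def Jt (t : ℕ) : Matrix (Fin t → Fin 2) (Fin t → Fin 2) F := ptens 2 t fun _ => J2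

/-- the Gram matrix on `F^n` of the form `J2^{⊗ t}` transported along `e` and `P`:
`(P⁻¹)ᵀ * (Jt reindexed) * P⁻¹` -/
def gramJ {t : ℕ} (e : Fin n ≃ (Fin t → Fin 2)) (P : GL (Fin n) F) : Matrix (Fin n) (Fin n) F :=
  ((P⁻¹ : GL (Fin n) F) : Matrix (Fin n) (Fin n) F)ᵀ * Matrix.reindex e.symm e.symm (Jt t) *
    ((P⁻¹ : GL (Fin n) F) : Matrix (Fin n) (Fin n) F)

end Cfsg.Agent.Lib.Helper18.AschA89
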