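/-
helper18: S4607 (helper27's plan) part B, leaves B2a-B2f: `redFun` is a ring homomorphism on functions
with local-integer values; central elements of the group algebra over the residue field lift to class
functions.
-/
import Cfsg.Agent.Lib.Helper27.SymAlgDefs
import Cfsg.Agent.Lib.Helper27.BlkAlgDefs2
import Cfsg.Agent.Lib.Helper6.FirstMain
import Cfsg.Agent.Lib.Helper6.NilIdem

set_option autoImplicit false

namespace Cfsg.Agent.Lib.Helper18.BlkAlgB2

open Cfsg Cfsg.Agent.Lib.Helper6 Cfsg.Agent.Lib.Helper24
open Cfsg.Agent.Lib.Helper27.SymAlg Cfsg.Agent.Lib.Helper27.BlkAlg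

universe u

section redC

variable (M : Ideal AlgInt) [M.IsMaximal]

theorem redC_add {z w : ℂ} (hz : MemLocalRing M z) (hw : MemLocalRing M w) :
    redC M (z + w) = redC M z + redC M w := by
  rw [redC_of_mem M hz, redC_of_mem M hw, redC_of_mem M (memLocalRing_add hz hw), ← map_add]
  rfl

theorem redC_mul {z w : ℂ} (hz : MemLocalRing M z) (hw : MemLocalRing M w) :
    redC M (z * w) = redC M z * redC M w := by
  rw [redC_of_mem M hz, redC_of_mem M hw, redC_of_mem M (memLocalRing_mul hz hw), ← map_mul]
  rfl

theorem redC_zero : redC M 0 = 0 := by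
  rw [redC_of_mem M memLocalRing_zero]
  exact map_zero (red M)

theorem redC_one : redC M 1 = 1 := by
  rw [redC_of_mem M memLocalRing_one]
  exact map_one (red M)

theorem memLocalRing_sum {ι : Type*} (s : Finset ι) (f : ι → ℂ)
    (hf : ∀ i ∈ s, MemLocalRing M (f i)) : MemLocalRing M (∑ i ∈ s, f i) :=
  Subring.sum_mem (localSubring M) hf

theorem redC_sum {ι : Type*} (s : Finset ι) (f : ι → ℂ) (hf : ∀ i ∈ s, MemLocalRing M (f i)) :
    redC M (∑ i ∈ s, f i) = ∑ i ∈ s, redC M (f i) := by
  classical
  induction s using Finset.induction_on with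
  | empty => simpa using redC_zero M
  | insert a s ha ih =>
    rw [Finset.sum_insert ha, Finset.sum_insert ha,
      redC_add M (hf a (Finset.mem_insert_self a s))
        (memLocalRing_sum M s f fun i hi => hf i (Finset.mem_insert_of_mem hi)),
      ih fun i hi => hf i (Finset.mem_insert_of_mem hi)]

theorem redC_eq_iff {z w : ℂ} (hz : MemLocalRing M z) (hw : MemLocalRing M w) :
    redC M z = redC M w ↔ MemLocalIdeal M (z - w) := by
  rw [redC_of_mem M hz, redC_of_mem M hw]
  unfold red
  rw [Ideal.Quotient.eq]
  exact Iff.rfl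

end redC

section grp

variable (M : Ideal AlgInt) [M.IsMaximal] {G : Type u} [Group G] [Fintype G]

/-- LEAF B2a -/
theorem coeff_redFun (a : G → ℂ) (g : G) : (redFun M a).coeff g = redC M (a g) := by
  classical
  unfold redFun
  rw [MonoidAlgebra.coeff_sum, Finsupp.finsetSum_apply]
  simp only [MonoidAlgebra.coeff_single, Finsupp.single_apply]
  rw [Finset.sum_ite_eq' Finset.univ g]
  simp

/-- LEAF B2b -/
theorem redFun_add {a b : G → ℂ} (ha : ∀ g, MemLocalRing M (a g)) (hb : ∀ g, MemLocalRing M (b g)) :
    redFun M (a + b) = redFun M a + redFun M b := by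
  apply MonoidAlgebra.ext
  apply Finsupp.ext
  intro g
  rw [MonoidAlgebra.coeff_add, Finsupp.add_apply, coeff_redFun, coeff_redFun, coeff_redFun,
    Pi.add_apply, redC_add M (ha g) (hb g)]

/-- LEAF B2c: `conv a b x = ∑ g, a g * b (g⁻¹ * x)` is the group-algebra product. -/
theorem redFun_conv {a b : G → ℂ} (ha : ∀ g, MemLocalRing M (a g)) (hb : ∀ g, MemLocalRing M (b g)) :
    redFun M (conv a b) = redFun M a * redFun M b := by
  classical
  apply MonoidAlgebra.ext
  apply Finsupp.ext
  intro x
  rw [coeff_redFun, MonoidAlgebra.coeff_mul_apply_left,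
    Finsupp.sum_fintype _ _ (fun i => zero_mul _)]
  simp only [coeff_redFun]
  unfold conv
  rw [redC_sum M _ _ (fun g _ => memLocalRing_mul (ha g) (hb _))]
  exact Finset.sum_congr rfl fun g _ => redC_mul M (ha g) (hb _)

open Classical in
/-- LEAF B2d -/
theorem redFun_delta : redFun M (fun g : G => if g = 1 then (1 : ℂ) else 0) = 1 := by
  apply MonoidAlgebra.ext
  apply Finsupp.ext
  intro g
  rw [coeff_redFun, MonoidAlgebra.one_def, MonoidAlgebra.coeff_single, Finsupp.single_apply]
  by_cases h : g = 1
  · subst h
    simp [redC_one]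
  · rw [if_neg h, if_neg (Ne.symm h), redC_zero]

/-- LEAF B2e: two functions with local-integer values congruent modulo the local ideal have the
same reduction; and conversely. -/
theorem redFun_eq_iff {a b : G → ℂ} (ha : ∀ g, MemLocalRing M (a g)) (hb : ∀ g, MemLocalRing M (b g)) :
    redFun M a = redFun M b ↔ ∀ g, MemLocalIdeal M (a g - b g) := by
  constructor
  · intro h g
    rw [← redC_eq_iff M (ha g) (hb g), ← coeff_redFun, ← coeff_redFun, h]
  · intro h
    apply MonoidAlgebra.ext
    apply Finsupp.ext
    intro g
    rw [coeff_redFun, coeff_redFun, redC_eq_iff M (ha g) (hb g)]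
    exact h g

omit [Fintype G] in
/-- the coefficient function of a central element is a class function -/
theorem coeff_conj_of_mem_center {k : Type*} [CommSemiring k] (ε : MonoidAlgebra k G)
    (hε : ε ∈ Subalgebra.center k (MonoidAlgebra k G)) (g h : G) :
    ε.coeff (h * g * h⁻¹) = ε.coeff g := by
  have h1 := Subalgebra.mem_center_iff.mp hε (MonoidAlgebra.single h (1 : k))
  have h2 := congrArg (fun z : MonoidAlgebra k G => z.coeff (h * g)) h1
  simp only [MonoidAlgebra.coeff_single_mul_apply, MonoidAlgebra.coeff_mul_single_apply, one_mul,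
    mul_one, inv_mul_cancel_left] at h2
  exact h2.symm

/-- LEAF B2f: every central element of the group algebra over the residue field is the reduction of
a class function with local-integer values. -/
theorem exists_classFunction_lift (ε : MonoidAlgebra (ResField M) G)
    (hε : ε ∈ Subalgebra.center (ResField M) (MonoidAlgebra (ResField M) G)) :
    ∃ β : G → ℂ, IsClassFunction G β ∧ (∀ g, MemLocalRing M (β g)) ∧ redFun M β = ε := by
  refine ⟨fun g => ((Function.surjInv (red_surjective M) (ε.coeff g) : localSubring M) : ℂ),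
    ?_, ?_, ?_⟩
  · intro g h
    show ((Function.surjInv (red_surjective M) (ε.coeff (h * g * h⁻¹)) : localSubring M) : ℂ) = _
    rw [coeff_conj_of_mem_center ε hε g h]
  · intro g
    exact (Function.surjInv (red_surjective M) (ε.coeff g)).2
  · apply MonoidAlgebra.ext
    apply Finsupp.ext
    intro g
    rw [coeff_redFun, redC_of_mem M (Function.surjInv (red_surjective M) (ε.coeff g)).2]
    exact Function.surjInv_eq (red_surjective M) (ε.coeff g)

end grp

end Cfsg.Agent.Lib.Helper18.BlkAlgB2
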