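/-
helper18: S4607 (helper27's plan) part B, leaves B3a-B3d: the reduced block idempotents `ebar M B` are
idempotent, central, pairwise orthogonal and sum to 1.
-/
import Cfsg.Agent.Lib.Helper18.BlkAlgB2

set_option autoImplicit false
set_option linter.unusedSectionVars false
set_option linter.unusedVariables false

namespace Cfsg.Agent.Lib.Helper18.BlkAlgB3

open Cfsg Cfsg.Agent.CharLib Cfsg.Agent.Lib.Helper6 Cfsg.Agent.Lib.Helper24
open Cfsg.Agent.Lib.Helper27.SymAlg Cfsg.Agent.Lib.Helper27.BlkAlg
open Cfsg.Agent.Lib.Helper18.BlkAlgB2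

universe u

section generic

variable {G : Type u} [Group G] [Fintype G]

/-- an element of a group algebra over a commutative ring whose coefficient function is a class
function is central -/
theorem mul_comm_of_coeff_conj {k : Type*} [CommSemiring k] (e x : MonoidAlgebra k G)
    (he : ∀ g h : G, e.coeff (h * g * h⁻¹) = e.coeff g) : e * x = x * e := by
  classical
  apply MonoidAlgebra.ext
  apply Finsupp.ext
  intro y
  rw [MonoidAlgebra.coeff_mul_apply_left, MonoidAlgebra.coeff_mul_apply_right,
    Finsupp.sum_fintype _ _ (fun i => zero_mul _), Finsupp.sum_fintype _ _ (fun i => mul_zero _)]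
  refine Fintype.sum_equiv (MulAut.conj y⁻¹).toEquiv _ _ fun g => ?_
  have h1 : (MulAut.conj y⁻¹).toEquiv g = y⁻¹ * g * y := by simp
  rw [h1]
  have h2 : e.coeff (y⁻¹ * g * y) = e.coeff g := by
    have := he g y⁻¹
    rwa [inv_inv] at this
  have h3 : y * (y⁻¹ * g * y)⁻¹ = g⁻¹ * y := by group
  rw [h2, h3, mul_comm]

theorem omegaFun_zero (χ : G → ℂ) : omegaFun χ (0 : G → ℂ) = 0 := by
  simp [omegaFun]

theorem omegaFun_finset_sum {ι : Type*} (χ : G → ℂ) (s : Finset ι) (f : ι → G → ℂ) :
    omegaFun χ (∑ i ∈ s, f i) = ∑ i ∈ s, omegaFun χ (f i) := by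
  classical
  induction s using Finset.induction_on with
  | empty => simpa using omegaFun_zero χ
  | insert a s ha ih => rw [Finset.sum_insert ha, Finset.sum_insert ha, omegaFun_add, ih]

end generic

section grp

variable (M : Ideal AlgInt) [M.IsMaximal] {G : Type u} [Group G] [Fintype G]

theorem redFun_zero : redFun M (0 : G → ℂ) = 0 := by
  apply MonoidAlgebra.ext
  apply Finsupp.ext
  intro g
  rw [coeff_redFun]
  simpa using redC_zero M

theorem redFun_finset_sum {ι : Type*} (s : Finset ι) (f : ι → G → ℂ)
    (hf : ∀ i ∈ s, ∀ g, MemLocalRing M (f i g)) :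
    redFun M (∑ i ∈ s, f i) = ∑ i ∈ s, redFun M (f i) := by
  classical
  induction s using Finset.induction_on with
  | empty => simpa using redFun_zero M (G := G)
  | insert a s ha ih =>
    rw [Finset.sum_insert ha, Finset.sum_insert ha,
      redFun_add M (hf a (Finset.mem_insert_self a s)) (fun g => by
        rw [Finset.sum_apply]
        exact memLocalRing_sum M s _ fun i hi => hf i (Finset.mem_insert_of_mem hi) g),
      ih fun i hi => hf i (Finset.mem_insert_of_mem hi)]

variable {p : ℕ} [Fact p.Prime]

/-- LEAF B3a (Osima `memLocalRing_blockCoeff_blockOf` + `conv_blockCoeff_self` + B2c). -/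
theorem ebar_mul_self (hM : IsPModular p M) {B : Set (IrrCharacter G)} (hB : IsPBlock M B) :
    ebar M B * ebar M B = ebar M B := by
  obtain ⟨χ₀, rfl⟩ := hB
  unfold ebar
  rw [← redFun_conv M (fun g => memLocalRing_blockCoeff_blockOf χ₀ g)
    (fun g => memLocalRing_blockCoeff_blockOf χ₀ g), conv_blockCoeff_self]

/-- LEAF B3b: the reduced block idempotent is central (its coefficient function is a class function). -/
theorem ebar_comm (B : Set (IrrCharacter G)) (x : MonoidAlgebra (ResField M) G) :
    ebar M B * x = x * ebar M B := by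
  apply mul_comm_of_coeff_conj
  intro g h
  unfold ebar
  rw [coeff_redFun, coeff_redFun, blockCoeff_isClassFunction B g h]

/-- LEAF B3c: distinct blocks are orthogonal (`eq_of_omegaFun_eq`, `omegaFun_conv`,
`omegaFun_blockCoeff`: `conv e_B e_B' = 0`). -/
theorem ebar_mul_of_ne (hM : IsPModular p M) {B B' : Set (IrrCharacter G)} (hB : IsPBlock M B)
    (hB' : IsPBlock M B') (hne : B ≠ B') : ebar M B * ebar M B' = 0 := by
  classical
  have hconv : conv (blockCoeff B) (blockCoeff B') = 0 := by
    apply eq_of_omegaFun_eq (conv_isClassFunction (blockCoeff_isClassFunction B)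
      (blockCoeff_isClassFunction B')) isClassFunction_zero
    intro χ
    rw [omegaFun_conv χ (blockCoeff_isClassFunction B) (blockCoeff_isClassFunction B'),
      omegaFun_blockCoeff, omegaFun_blockCoeff, omegaFun_zero]
    by_cases h1 : χ ∈ B
    · by_cases h2 : χ ∈ B'
      · exact absurd (isPBlock_eq_of_mem hB hB' h1 h2) hne
      · rw [if_neg h2, mul_zero]
    · rw [if_neg h1, zero_mul]
  obtain ⟨χ₀, rfl⟩ := hB
  obtain ⟨χ₁, rfl⟩ := hB'
  unfold ebar
  rw [← redFun_conv M (fun g => memLocalRing_blockCoeff_blockOf χ₀ g)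
    (fun g => memLocalRing_blockCoeff_blockOf χ₁ g), hconv, redFun_zero]

/-- LEAF B3d: the block idempotents sum to 1 (`∑_χ χ(1) conj χ(g) / |G| = δ_{g,1}`). -/
theorem sum_ebar [Fintype (IrrCharacter G)] (hM : IsPModular p M) :
    ∑ B ∈ blocks M G, ebar M B = 1 := by
  classical
  have hsum : ∑ B ∈ blocks M G, blockCoeff B = fun g : G => if g = 1 then (1 : ℂ) else 0 := by
    have hδ : IsClassFunction G (fun g : G => if g = 1 then (1 : ℂ) else 0) := by
      intro g h
      have : h * g * h⁻¹ = 1 ↔ g = 1 := by
        constructor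
        · intro hh
          have := congrArg (fun z => h⁻¹ * z * h) hh
          simpa [mul_assoc] using this
        · rintro rfl
          simp
      simp only [this]
    apply eq_of_omegaFun_eq
      (IsClassFunction.sum _ fun B _ => blockCoeff_isClassFunction B) hδ
    intro χ
    rw [omegaFun_finset_sum]
    simp only [omegaFun_blockCoeff]
    have h1 : omegaFun (χ : G → ℂ) (fun g : G => if g = 1 then (1 : ℂ) else 0) = 1 := by
      obtain ⟨d, hdpos, hd⟩ := IsIrrCharacter.apply_one_pos χ.2
      have hd0 : (χ : G → ℂ) 1 ≠ 0 := by rw [hd]; exact Nat.cast_ne_zero.mpr hdpos.ne'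
      unfold omegaFun
      rw [Finset.sum_eq_single (1 : G)]
      · beta_reduce
        rw [if_pos rfl, one_mul, div_self hd0]
      · intro g _ hg
        beta_reduce
        rw [if_neg hg, zero_mul]
      · intro h
        exact absurd (Finset.mem_univ _) h
    rw [h1, Finset.sum_eq_single (blockOf M (χ : G → ℂ))]
    · rw [if_pos (mem_blockOf_self χ)]
    · intro B hB hne
      rw [if_neg]
      intro hχ
      exact hne (isPBlock_eq_of_mem ((mem_blocks M B).mp hB) ⟨χ, rfl⟩ hχ (mem_blockOf_self χ))
    · intro h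
      exact absurd ((mem_blocks M _).mpr ⟨χ, rfl⟩) h
  unfold ebar
  rw [← redFun_finset_sum M _ _ (fun B hB g => by
    obtain ⟨χ₀, rfl⟩ := (mem_blocks M B).mp hB
    exact memLocalRing_blockCoeff_blockOf χ₀ g), hsum]
  convert redFun_delta M (G := G)

end grp

end Cfsg.Agent.Lib.Helper18.BlkAlgB3
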