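import Mathlib
import Cfsg.Prelude.Def_ClassicalGeometry
import Cfsg.Prelude.Def_GeometricClasses
import Cfsg.Agent.Lib.Helper15.QuadClass

/-!
# S5683 leaf GF: `k` mutually orthogonal hyperbolic pairs inside a nondegenerate subspace of dimension `≥ 2k+1`
-/

set_option autoImplicit false
set_option linter.unusedSectionVars false
set_option linter.unusedVariables false

namespace Cfsg.Agent.Lib.Helper18.OSubLeaf
open Cfsg Matrix QuadraticMap Module Cfsg.Agent.Lib.Helper15

/-- GF (generic, any finite field, no rational structure): `k` mutually orthogonal hyperbolic pairs inside a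
nondegenerate subspace of dimension at least `2k+1` -/
theorem exists_frame_in {K V : Type*} [Field K] [Finite K] [AddCommGroup V] [Module K V]
    [FiniteDimensional K V] (D : QuadraticForm K V) (k : ℕ) (W : Submodule K V)
    (hW : Cfsg.Agent.Lib.Helper15.NdOn D W) (hk : 2 * k + 1 ≤ finrank K W) :
    ∃ e f : Fin k → V, (∀ i, e i ∈ W) ∧ (∀ i, f i ∈ W) ∧ (∀ i, D (e i) = 0) ∧ (∀ i, D (f i) = 0) ∧
      (∀ i j, polar D (e i) (e j) = 0) ∧ (∀ i j, polar D (f i) (f j) = 0) ∧
      (∀ i j, polar D (e i) (f j) = if i = j then 1 else 0) := by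
  induction k generalizing W with
  | zero =>
    exact ⟨Fin.elim0, Fin.elim0, fun i => i.elim0, fun i => i.elim0, fun i => i.elim0,
      fun i => i.elim0, fun i => i.elim0, fun i => i.elim0, fun i => i.elim0⟩
  | succ k ih =>
    obtain ⟨e₀, he₀W, he₀0, he₀⟩ := exists_singular_in D W (by omega)
    obtain ⟨f₀, hf₀W, hf₀, hef₀⟩ := exists_hyp_partner D W hW he₀W he₀0 he₀
    have hnd := perpPair_nd D W hW he₀W hf₀W he₀ hf₀ hef₀
    have hfr := perpPair_finrank D W he₀W hf₀W he₀ hf₀ hef₀
    obtain ⟨e, f, heW, hfW, he, hf, hee, hff, hef⟩ := ih (perpPair D W e₀ f₀) hnd (by omega)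
    have hee₀ : ∀ i, polar D e₀ (e i) = 0 := fun i => ((mem_perpPair D W e₀ f₀ _).mp (heW i)).2.1
    have hfe₀ : ∀ i, polar D f₀ (e i) = 0 := fun i => ((mem_perpPair D W e₀ f₀ _).mp (heW i)).2.2
    have hef₀' : ∀ i, polar D e₀ (f i) = 0 := fun i => ((mem_perpPair D W e₀ f₀ _).mp (hfW i)).2.1
    have hff₀ : ∀ i, polar D f₀ (f i) = 0 := fun i => ((mem_perpPair D W e₀ f₀ _).mp (hfW i)).2.2
    refine ⟨Fin.cons e₀ e, Fin.cons f₀ f, ?_, ?_, ?_, ?_, ?_, ?_, ?_⟩
    · intro i
      refine Fin.cases ?_ (fun i => ?_) i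
      · simpa using he₀W
      · simpa using perpPair_le D W e₀ f₀ (heW i)
    · intro i
      refine Fin.cases ?_ (fun i => ?_) i
      · simpa using hf₀W
      · simpa using perpPair_le D W e₀ f₀ (hfW i)
    · intro i
      refine Fin.cases ?_ (fun i => ?_) i
      · simpa using he₀
      · simpa using he i
    · intro i
      refine Fin.cases ?_ (fun i => ?_) i
      · simpa using hf₀
      · simpa using hf i
    · intro i j
      refine Fin.cases ?_ (fun i => ?_) i <;> refine Fin.cases ?_ (fun j => ?_) j
      · simpa using polar_self_of_singular D he₀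
      · simpa using hee₀ j
      · simp only [Fin.cons_succ, Fin.cons_zero]
        rw [polar_comm]; exact hee₀ i
      · simpa using hee i j
    · intro i j
      refine Fin.cases ?_ (fun i => ?_) i <;> refine Fin.cases ?_ (fun j => ?_) j
      · simpa using polar_self_of_singular D hf₀
      · simpa using hff₀ j
      · simp only [Fin.cons_succ, Fin.cons_zero]
        rw [polar_comm]; exact hff₀ i
      · simpa using hff i j
    · intro i j
      refine Fin.cases ?_ (fun i => ?_) i <;> refine Fin.cases ?_ (fun j => ?_) j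
      · simpa using hef₀
      · simp only [Fin.cons_succ, Fin.cons_zero]
        rw [hef₀' j, if_neg (Fin.succ_ne_zero j).symm]
      · simp only [Fin.cons_succ, Fin.cons_zero]
        rw [polar_comm, hfe₀ i, if_neg (Fin.succ_ne_zero i)]
      · simp only [Fin.cons_succ]
        rw [hef i j]
        simp only [Fin.succ_inj]

end Cfsg.Agent.Lib.Helper18.OSubLeaf
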