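import Mathlib
import Cfsg.Agent.Lib.Helper18.UniqueInvolution

set_option autoImplicit false

/-!
# 2-groups with an involution whose centralizer has order 4

Such a group of order at least 8 has a cyclic subgroup `⟨a⟩` of index 2 not containing the
involution `x`, and `x a x⁻¹ = a⁻¹` or `x a x⁻¹ = a^(N/2 - 1)`.
-/

namespace Cfsg.Agent.Lib.Helper18

open Subgroup

/-- elements of a group of order two generated by `u` -/
theorem eq_one_or_eq_of_mem_zpowers_of_orderOf_two {G : Type*} [Group G] (u y : G)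
    (hu : orderOf u = 2) (hy : y ∈ Subgroup.zpowers u) : y = 1 ∨ y = u := by
  obtain ⟨k, rfl⟩ := Subgroup.mem_zpowers_iff.mp hy
  rw [← zpow_mod_orderOf, hu]
  rcases Int.emod_two_eq_zero_or_one k with h | h
  · left; rw [show (k % ((2 : ℕ) : ℤ)) = 0 from by simpa using h, zpow_zero]
  · right; rw [show (k % ((2 : ℕ) : ℤ)) = 1 from by simpa using h, zpow_one]

/-- The centralizer in `G ⧸ Z(G)` of the image of `x` has order at most `|C_G(x)| * |Z(G)| / |Z(G)|`;
we give the form: `|C_{G/Z}(x̄)| * |Z| ≤ |C_G(x)| * |Z|`. -/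
theorem card_centralizer_quotient_center_le {G : Type*} [Group G] [Finite G] (x : G)
    (Z : Subgroup G) [Z.Normal] (hZ : Z ≤ Subgroup.center G) :
    Nat.card (Subgroup.centralizer ({(QuotientGroup.mk' Z) x} : Set (G ⧸ Z)))
      ≤ Nat.card (Subgroup.centralizer ({x} : Set G)) := by
  set π := QuotientGroup.mk' Z with hπ
  set Cbar := Subgroup.centralizer ({π x} : Set (G ⧸ Z)) with hCbar
  set W := Cbar.comap π with hW
  have hsurj : Function.Surjective π := QuotientGroup.mk'_surjective Z
  -- |W| = |Cbar| * |Z|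
  have hWcard : Nat.card W = Nat.card Cbar * Nat.card Z := by
    have h1 : W.index = Cbar.index := Subgroup.index_comap_of_surjective Cbar hsurj
    have h2 := Subgroup.index_mul_card W
    have h3 := Subgroup.index_mul_card Cbar
    have h4 := Subgroup.card_eq_card_quotient_mul_card_subgroup Z
    have hpos : 0 < Cbar.index := Nat.pos_of_ne_zero Subgroup.index_ne_zero_of_finite
    rw [h1] at h2
    rw [← h2, ← h3] at h4
    have : Cbar.index * Nat.card W = Cbar.index * (Nat.card Cbar * Nat.card Z) := by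
      rw [h4]; ring
    exact Nat.eq_of_mul_eq_mul_left hpos this
  -- the commutator hom W → Z
  have hmemZ : ∀ g : W, (g : G) * x * (g : G)⁻¹ * x⁻¹ ∈ Z := by
    intro g
    have hg : π g ∈ Cbar := g.2
    rw [hCbar, Subgroup.mem_centralizer_iff] at hg
    have := hg (π x) rfl
    rw [← QuotientGroup.eq_one_iff (N := Z)]
    show π ((g : G) * x * (g : G)⁻¹ * x⁻¹) = 1
    rw [map_mul, map_mul, map_mul, map_inv, map_inv, ← this]
    group
  let φ : W →* Z :=
    { toFun := fun g => ⟨(g : G) * x * (g : G)⁻¹ * x⁻¹, hmemZ g⟩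
      map_one' := by
        apply Subtype.ext
        simp
      map_mul' := fun g h => by
        apply Subtype.ext
        have hc := hZ (hmemZ h)
        rw [Subgroup.mem_center_iff] at hc
        show ((g : G) * (h : G)) * x * ((g : G) * (h : G))⁻¹ * x⁻¹
          = ((g : G) * x * (g : G)⁻¹ * x⁻¹) * ((h : G) * x * (h : G)⁻¹ * x⁻¹)
        obtain ⟨c, hcdef⟩ : ∃ c, c = (h : G) * x * (h : G)⁻¹ * x⁻¹ := ⟨_, rfl⟩
        rw [← hcdef] at hc ⊢
        have e1 : ((g : G) * (h : G)) * x * ((g : G) * (h : G))⁻¹ * x⁻¹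
            = (g : G) * (c * x) * (g : G)⁻¹ * x⁻¹ := by rw [hcdef]; group
        rw [e1]
        calc (g : G) * (c * x) * (g : G)⁻¹ * x⁻¹ = ((g : G) * c) * x * (g : G)⁻¹ * x⁻¹ := by group
          _ = (c * (g : G)) * x * (g : G)⁻¹ * x⁻¹ := by rw [hc (g : G)]
          _ = c * ((g : G) * x * (g : G)⁻¹ * x⁻¹) := by group
          _ = _ := (hc _).symm }
  -- kernel injects into C(x)
  have hker : Nat.card φ.ker ≤ Nat.card (Subgroup.centralizer ({x} : Set G)) := by
    have hmem : ∀ k : φ.ker, ((k : W) : G) ∈ Subgroup.centralizer ({x} : Set G) := by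
      intro k
      have hk : φ (k : W) = 1 := k.2
      have hk' : ((k : W) : G) * x * ((k : W) : G)⁻¹ * x⁻¹ = 1 := congrArg Subtype.val hk
      rw [Subgroup.mem_centralizer_iff]
      intro y hy
      rw [Set.mem_singleton_iff] at hy
      subst hy
      have := mul_inv_eq_one.mp hk'
      exact (mul_inv_eq_iff_eq_mul.mp this).symm
    apply Nat.card_le_card_of_injective (fun k : φ.ker => (⟨((k : W) : G), hmem k⟩ :
      Subgroup.centralizer ({x} : Set G)))
    intro k1 k2 h
    have h' := congrArg Subtype.val h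
    apply Subtype.ext; apply Subtype.ext
    exact h'
  have hrange : Nat.card φ.range ≤ Nat.card Z := Subgroup.card_le_card_group _
  have hW2 : Nat.card W = Nat.card φ.range * Nat.card φ.ker := by
    rw [← Subgroup.index_ker, Subgroup.index_mul_card]
  have hZpos : 0 < Nat.card Z := Nat.card_pos
  have : Nat.card Cbar * Nat.card Z ≤ Nat.card (Subgroup.centralizer ({x} : Set G)) * Nat.card Z := by
    rw [← hWcard, hW2, mul_comm]
    exact Nat.mul_le_mul hker hrange
  exact Nat.le_of_mul_le_mul_right this hZpos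


universe u

/-- basic facts: centre of order two, `x` non-central -/
theorem centralizer_four_basic {S : Type*} [Group S] [Finite S] (hS : IsPGroup 2 S)
    (x : S) (hC : Nat.card (Subgroup.centralizer ({x} : Set S)) = 4) (h8 : 8 ≤ Nat.card S) :
    x ∉ Subgroup.center S ∧ Nat.card (Subgroup.center S) = 2 := by
  haveI : Fact (Nat.Prime 2) := ⟨Nat.prime_two⟩
  have hZC : Subgroup.center S ≤ Subgroup.centralizer ({x} : Set S) :=
    Subgroup.center_le_centralizer _
  have hxC : x ∈ Subgroup.centralizer ({x} : Set S) := by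
    rw [Subgroup.mem_centralizer_iff]
    intro y hy
    rw [Set.mem_singleton_iff] at hy
    rw [hy]
  have hxZ : x ∉ Subgroup.center S := by
    intro h
    have : Subgroup.centralizer ({x} : Set S) = ⊤ := by
      rw [eq_top_iff]
      intro g _
      rw [Subgroup.mem_centralizer_iff]
      intro y hy
      rw [Set.mem_singleton_iff] at hy
      subst hy
      exact (Subgroup.mem_center_iff.mp h g).symm
    rw [this, Subgroup.card_top] at hC
    omega
  refine ⟨hxZ, ?_⟩
  haveI : Nontrivial S := Finite.one_lt_card_iff_nontrivial.mp (by omega)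
  haveI := IsPGroup.center_nontrivial hS
  have hne1 : Nat.card (Subgroup.center S) ≠ 1 := by
    intro h
    rw [Subgroup.card_eq_one] at h
    exact (Subgroup.nontrivial_iff_ne_bot _).mp inferInstance h
  have hdvd : Nat.card (Subgroup.center S) ∣ 4 := hC ▸ Subgroup.card_dvd_of_le hZC
  have hne4 : Nat.card (Subgroup.center S) ≠ 4 := by
    intro h4
    have : Subgroup.center S = Subgroup.centralizer ({x} : Set S) :=
      Subgroup.eq_of_le_of_card_ge hZC (by rw [h4, hC])
    exact hxZ (this ▸ hxC)
  have hle : Nat.card (Subgroup.center S) ≤ 4 := Nat.le_of_dvd (by norm_num) hdvd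
  have hpos : 0 < Nat.card (Subgroup.center S) := Nat.card_pos
  interval_cases h : Nat.card (Subgroup.center S)
  · exact absurd rfl hne1
  · rfl
  · omega
  · exact absurd rfl hne4


/-- the case of order eight -/
theorem exists_cyclic_index_two_of_card_eight {S : Type*} [Group S] [Finite S]
    (x : S) (hx : orderOf x = 2) (hC : Nat.card (Subgroup.centralizer ({x} : Set S)) = 4)
    (h8 : Nat.card S = 8) (hxZ : x ∉ Subgroup.center S) (hZ2 : Nat.card (Subgroup.center S) = 2) :
    ∃ a : S, (Subgroup.zpowers a).index = 2 ∧ x ∉ Subgroup.zpowers a := by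
  haveI : Fact (Nat.Prime 2) := ⟨Nat.prime_two⟩
  have hex : ∃ a : S, a ^ 2 ≠ 1 := by
    by_contra hcon
    push Not at hcon
    apply hxZ
    rw [Subgroup.mem_center_iff]
    intro g
    have h1 := hcon g
    have h2 := hcon x
    have h3 := hcon (g * x)
    have hg : g⁻¹ = g := by rw [inv_eq_iff_mul_eq_one, ← sq]; exact h1
    have hxi : x⁻¹ = x := by rw [inv_eq_iff_mul_eq_one, ← sq]; exact h2
    have hgx : (g * x)⁻¹ = g * x := by rw [inv_eq_iff_mul_eq_one, ← sq]; exact h3
    rw [mul_inv_rev, hg, hxi] at hgx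
    exact hgx.symm
  obtain ⟨a, ha⟩ := hex
  have hdvd : orderOf a ∣ 2 ^ 3 := by
    have := orderOf_dvd_natCard a
    rw [h8] at this
    exact this
  obtain ⟨m, hm, hord⟩ := (Nat.dvd_prime_pow Nat.prime_two).mp hdvd
  have hm2 : m = 2 := by
    interval_cases m
    · exfalso; apply ha
      rw [pow_zero, orderOf_eq_one_iff] at hord
      rw [hord, one_pow]
    · exfalso; apply ha
      rw [pow_one] at hord
      rw [← hord]; exact pow_orderOf_eq_one a
    · rfl
    · exfalso
      -- S cyclic, so commutative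
      have htop : Subgroup.zpowers a = ⊤ := by
        apply Subgroup.eq_top_of_card_eq
        rw [Nat.card_zpowers, hord, h8]; norm_num
      apply hxZ
      rw [Subgroup.mem_center_iff]
      intro g
      have hg : g ∈ Subgroup.zpowers a := htop ▸ Subgroup.mem_top g
      have hx' : x ∈ Subgroup.zpowers a := htop ▸ Subgroup.mem_top x
      obtain ⟨i, rfl⟩ := Subgroup.mem_zpowers_iff.mp hg
      obtain ⟨j, rfl⟩ := Subgroup.mem_zpowers_iff.mp hx'
      exact zpow_mul_comm a i j
  subst hm2
  have hord4 : orderOf a = 4 := by rw [hord]; norm_num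
  refine ⟨a, ?_, ?_⟩
  · have := Subgroup.index_mul_card (Subgroup.zpowers a)
    rw [Nat.card_zpowers, hord4, h8] at this
    omega
  · intro hxa
    -- a commutes with x
    have haC : Subgroup.zpowers a ≤ Subgroup.centralizer ({x} : Set S) := by
      rw [Subgroup.zpowers_le, Subgroup.mem_centralizer_iff]
      intro y hy
      rw [Set.mem_singleton_iff] at hy
      subst hy
      obtain ⟨j, rfl⟩ := Subgroup.mem_zpowers_iff.mp hxa
      have := zpow_mul_comm a j 1
      rw [zpow_one] at this
      exact this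
    have heq : Subgroup.zpowers a = Subgroup.centralizer ({x} : Set S) :=
      Subgroup.eq_of_le_of_card_ge haC (by rw [hC, Nat.card_zpowers, hord4])
    have hZle : Subgroup.center S ≤ Subgroup.zpowers a := heq ▸ Subgroup.center_le_centralizer _
    -- nontrivial central element
    have hZne : Subgroup.center S ≠ ⊥ := by
      intro h
      rw [← Subgroup.card_eq_one, hZ2] at h
      omega
    obtain ⟨z, hzZ, hz1⟩ := (Subgroup.ne_bot_iff_exists_ne_one (H := Subgroup.center S)).mp hZne |>.elim
      (fun z hz => (⟨(z : S), z.2, fun h => hz (Subtype.ext h)⟩ :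
        ∃ z : S, z ∈ Subgroup.center S ∧ z ≠ 1))
    have hz2 : z ^ 2 = 1 := by
      have := pow_card_eq_one' (G := Subgroup.center S) (x := ⟨z, hzZ⟩)
      rw [hZ2] at this
      exact congrArg Subtype.val this
    have hzord : orderOf z = 2 := orderOf_eq_prime hz2 hz1
    have : x ∈ Subgroup.zpowers z :=
      mem_zpowers_of_orderOf_dvd a x z (by rw [hord4]; norm_num) hxa (hZle hzZ)
        (by rw [hx, hzord])
    exact hxZ ((Subgroup.zpowers_le.mpr hzZ) this)


/-- A 2-group of order at least 8 with an involution `x` whose centralizer has order 4 has a cyclic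
subgroup of index 2 not containing `x`. -/
theorem exists_cyclic_index_two_aux : ∀ (n : ℕ) (S : Type u) [Group S] [Finite S],
    Nat.card S = n → IsPGroup 2 S → ∀ x : S, orderOf x = 2 →
    Nat.card (Subgroup.centralizer ({x} : Set S)) = 4 → 8 ≤ n →
    ∃ a : S, (Subgroup.zpowers a).index = 2 ∧ x ∉ Subgroup.zpowers a := by
  intro n
  induction n using Nat.strong_induction_on with
  | _ n ih =>
  intro S _ _ hcard hS x hx hC h8
  haveI : Fact (Nat.Prime 2) := ⟨Nat.prime_two⟩
  obtain ⟨hxZ, hZ2⟩ := centralizer_four_basic hS x hC (hcard ▸ h8)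
  obtain ⟨m, hm⟩ := (IsPGroup.iff_card (p := 2)).mp hS
  have hm3 : 3 ≤ m := by
    by_contra hlt
    have : m ≤ 2 := by omega
    have : 2 ^ m ≤ 2 ^ 2 := Nat.pow_le_pow_right (by norm_num) this
    omega
  rcases Nat.eq_or_lt_of_le hm3 with hm3' | hm4
  · -- order eight
    refine exists_cyclic_index_two_of_card_eight x hx hC ?_ hxZ hZ2
    rw [hm, ← hm3']; norm_num
  -- order at least 16
  have h16 : 16 ≤ Nat.card S := by
    rw [hm]
    calc 16 = 2 ^ 4 := by norm_num
      _ ≤ 2 ^ m := Nat.pow_le_pow_right (by norm_num) hm4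
  obtain ⟨Z, hZdef⟩ : ∃ Z : Subgroup S, Z = Subgroup.center S := ⟨_, rfl⟩
  haveI hZn : Z.Normal := by rw [hZdef]; infer_instance
  rw [← hZdef] at hxZ hZ2
  obtain ⟨π, hπdef⟩ : ∃ π : S →* S ⧸ Z, π = QuotientGroup.mk' Z := ⟨_, rfl⟩
  have hsurj : Function.Surjective π := by rw [hπdef]; exact QuotientGroup.mk'_surjective Z
  have hπ1 : ∀ g : S, π g = 1 ↔ g ∈ Z := by
    intro g; rw [hπdef]; exact QuotientGroup.eq_one_iff g
  have hQcard : Nat.card S = Nat.card (S ⧸ Z) * 2 := by
    rw [← hZ2]; exact Subgroup.card_eq_card_quotient_mul_card_subgroup Z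
  have hQ8 : 8 ≤ Nat.card (S ⧸ Z) := by omega
  have hQp : IsPGroup 2 (S ⧸ Z) := hS.to_quotient Z
  have hxbar1 : π x ≠ 1 := fun h => hxZ ((hπ1 x).mp h)
  have hxbar2 : orderOf (π x) = 2 := by
    apply orderOf_eq_prime _ hxbar1
    rw [← map_pow, ← hx, pow_orderOf_eq_one, map_one]
  -- the centralizer of the image has order 4
  have hCbar : Nat.card (Subgroup.centralizer ({π x} : Set (S ⧸ Z))) = 4 := by
    have hle : Nat.card (Subgroup.centralizer ({π x} : Set (S ⧸ Z))) ≤ 4 := by
      have := card_centralizer_quotient_center_le x Z hZdef.le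
      rw [hC] at this
      rw [hπdef]
      exact this
    have hxmem : π x ∈ Subgroup.centralizer ({π x} : Set (S ⧸ Z)) := by
      rw [Subgroup.mem_centralizer_iff]
      intro y hy
      rw [Set.mem_singleton_iff] at hy
      rw [hy]
    have h2dvd : 2 ∣ Nat.card (Subgroup.centralizer ({π x} : Set (S ⧸ Z))) := by
      have := orderOf_dvd_natCard (⟨π x, hxmem⟩ : Subgroup.centralizer ({π x} : Set (S ⧸ Z)))
      rwa [Subgroup.orderOf_mk, hxbar2] at this
    have hCp : IsPGroup 2 (Subgroup.centralizer ({π x} : Set (S ⧸ Z))) := hQp.to_subgroup _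
    obtain ⟨k, hk⟩ := (IsPGroup.iff_card (p := 2)).mp hCp
    have hk2 : k ≤ 2 := by
      by_contra hlt
      have : 2 ^ 3 ≤ 2 ^ k := Nat.pow_le_pow_right (by norm_num) (by omega)
      omega
    interval_cases k
    · rw [hk] at h2dvd; norm_num at h2dvd
    · exfalso
      -- the centralizer has order two, so it equals the centre of the quotient
      haveI : Nontrivial (S ⧸ Z) := Finite.one_lt_card_iff_nontrivial.mp (by omega)
      haveI := IsPGroup.center_nontrivial hQp
      have hcle : Subgroup.center (S ⧸ Z) ≤ Subgroup.centralizer ({π x} : Set (S ⧸ Z)) :=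
        Subgroup.center_le_centralizer _
      have hc1 : Nat.card (Subgroup.center (S ⧸ Z)) ≠ 1 := by
        intro h
        rw [Subgroup.card_eq_one] at h
        exact (Subgroup.nontrivial_iff_ne_bot _).mp inferInstance h
      have hcd : Nat.card (Subgroup.center (S ⧸ Z)) ∣ 2 := by
        have := Subgroup.card_dvd_of_le hcle
        rwa [hk, pow_one] at this
      have hc2 : Nat.card (Subgroup.center (S ⧸ Z)) = 2 := by
        rcases (Nat.dvd_prime Nat.prime_two).mp hcd with h | h
        · exact absurd h hc1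
        · exact h
      have heq : Subgroup.center (S ⧸ Z) = Subgroup.centralizer ({π x} : Set (S ⧸ Z)) :=
        Subgroup.eq_of_le_of_card_ge hcle (by rw [hk, hc2, pow_one])
      have hxc : π x ∈ Subgroup.center (S ⧸ Z) := heq ▸ hxmem
      have htop : Subgroup.centralizer ({π x} : Set (S ⧸ Z)) = ⊤ := by
        rw [eq_top_iff]
        intro g _
        rw [Subgroup.mem_centralizer_iff]
        intro y hy
        rw [Set.mem_singleton_iff] at hy
        subst hy
        exact (Subgroup.mem_center_iff.mp hxc g).symm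
      rw [htop, Subgroup.card_top] at hk
      omega
    · rw [hk]; norm_num
  -- induction hypothesis
  obtain ⟨abar, habar_idx, hxabar⟩ := ih (Nat.card (S ⧸ Z)) (by omega) (S ⧸ Z) rfl hQp (π x)
    hxbar2 hCbar hQ8
  obtain ⟨a, rfl⟩ := hsurj abar
  obtain ⟨A, hAdef⟩ : ∃ A : Subgroup S, A = (Subgroup.zpowers (π a)).comap π := ⟨_, rfl⟩
  have hAidx : A.index = 2 := by
    rw [hAdef, Subgroup.index_comap_of_surjective _ hsurj]; exact habar_idx
  have hxA : x ∉ A := by
    rw [hAdef, Subgroup.mem_comap]; exact hxabar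
  have hZA : Z ≤ A := by
    intro g hg
    rw [hAdef, Subgroup.mem_comap, (hπ1 g).mpr hg]
    exact Subgroup.one_mem _
  have haA : a ∈ A := by
    rw [hAdef, Subgroup.mem_comap]; exact Subgroup.mem_zpowers _
  have hAelem : ∀ g ∈ A, ∃ k : ℤ, ∃ c ∈ Z, g = a ^ k * c := by
    intro g hg
    rw [hAdef, Subgroup.mem_comap] at hg
    obtain ⟨k, hk⟩ := Subgroup.mem_zpowers_iff.mp hg
    refine ⟨k, (a ^ k)⁻¹ * g, ?_, by group⟩
    rw [← hπ1, map_mul, map_inv, map_zpow, hk]
    group
  haveI hAn : A.Normal := Subgroup.normal_of_index_eq_two hAidx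
  by_cases hcyc : Z ≤ Subgroup.zpowers a
  · -- A is cyclic
    refine ⟨a, ?_, ?_⟩
    · have : Subgroup.zpowers a = A := by
        apply le_antisymm
        · rw [Subgroup.zpowers_le]; exact haA
        · intro g hg
          obtain ⟨k, c, hc, rfl⟩ := hAelem g hg
          exact Subgroup.mul_mem _ (Subgroup.zpow_mem_zpowers a k) (hcyc hc)
      rw [this]; exact hAidx
    · intro hxa
      exact hxA ((Subgroup.zpowers_le.mpr haA) hxa)
  · exfalso
    -- Z ⊓ ⟨a⟩ = ⊥
    have hdisj : ∀ g, g ∈ Z → g ∈ Subgroup.zpowers a → g = 1 := by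
      intro g hgZ hga
      by_contra hg1
      apply hcyc
      have hcard : Nat.card (Z ⊓ Subgroup.zpowers a : Subgroup S) = 2 := by
        have hd : Nat.card (Z ⊓ Subgroup.zpowers a : Subgroup S) ∣ 2 := by
          rw [← hZ2]; exact Subgroup.card_dvd_of_le inf_le_left
        rcases (Nat.dvd_prime Nat.prime_two).mp hd with h | h
        · exfalso
          rw [Subgroup.card_eq_one] at h
          have : g ∈ (Z ⊓ Subgroup.zpowers a : Subgroup S) := ⟨hgZ, hga⟩
          rw [h, Subgroup.mem_bot] at this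
          exact hg1 this
        · exact h
      have : (Z ⊓ Subgroup.zpowers a : Subgroup S) = Z :=
        Subgroup.eq_of_le_of_card_ge inf_le_left (by rw [hcard, hZ2])
      rw [← this]; exact inf_le_right
    -- 4 ∣ orderOf a
    have hord_bar : orderOf (π a) * 2 = Nat.card (S ⧸ Z) := by
      have := Subgroup.index_mul_card (Subgroup.zpowers (π a))
      rw [habar_idx, Nat.card_zpowers] at this
      omega
    have h4dvd : 4 ∣ orderOf a := by
      have h1 : orderOf (π a) ∣ orderOf a := orderOf_map_dvd π a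
      obtain ⟨j, hj⟩ := (IsPGroup.iff_card (p := 2)).mp hQp
      have hdvd : orderOf (π a) ∣ 2 ^ j := hj ▸ orderOf_dvd_natCard (π a)
      obtain ⟨i, hi, hio⟩ := (Nat.dvd_prime_pow Nat.prime_two).mp hdvd
      have hi2 : 2 ≤ i := by
        by_contra hlt
        have : i ≤ 1 := by omega
        have : 2 ^ i ≤ 2 ^ 1 := Nat.pow_le_pow_right (by norm_num) this
        omega
      have : 4 ∣ orderOf (π a) := by
        rw [hio]
        exact (show (4 : ℕ) = 2 ^ 2 by norm_num) ▸ pow_dvd_pow 2 hi2
      exact this.trans h1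
    obtain ⟨N', hN'⟩ := h4dvd
    have hN'0 : N' ≠ 0 := by
      rintro rfl
      rw [mul_zero] at hN'
      exact (orderOf_pos a).ne' hN'
    obtain ⟨v, hvdef⟩ : ∃ v, v = a ^ N' := ⟨_, rfl⟩
    obtain ⟨w, hwdef⟩ : ∃ w, w = v ^ 2 := ⟨_, rfl⟩
    have hwa : w = a ^ (N' * 2) := by rw [hwdef, hvdef, pow_mul]
    have hword : orderOf w = 2 := by
      rw [hwa, orderOf_pow_of_dvd (by omega) ⟨2, by rw [hN']; ring⟩, hN']
      rw [show 4 * N' = 2 * (N' * 2) by ring]
      exact Nat.mul_div_cancel _ (by omega)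
    have hwmem : w ∈ Subgroup.zpowers a := by
      rw [hwa]; exact Subgroup.npow_mem_zpowers a _
    have hvA : v ∈ A := by
      rw [hvdef]; exact Subgroup.pow_mem _ haA _
    -- x w x⁻¹ ∈ ⟨a⟩
    have hconj_mem : x * w * x⁻¹ ∈ Subgroup.zpowers a := by
      have hv' : x * v * x⁻¹ ∈ A := hAn.conj_mem v hvA x
      obtain ⟨k, c, hc, hkc⟩ := hAelem _ hv'
      have hc2 : c ^ 2 = 1 := by
        have := pow_card_eq_one' (G := Z) (x := ⟨c, hc⟩)
        rw [hZ2] at this
        exact congrArg Subtype.val this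
      have hcc : ∀ g : S, g * c = c * g := by
        intro g
        rw [hZdef, Subgroup.mem_center_iff] at hc
        exact hc g
      have : x * w * x⁻¹ = (a ^ k) ^ 2 := by
        rw [hwdef, ← conj_pow, hkc, sq, sq]
        calc a ^ k * c * (a ^ k * c) = a ^ k * (c * a ^ k) * c := by group
          _ = a ^ k * (a ^ k * c) * c := by rw [hcc (a ^ k)]
          _ = a ^ k * a ^ k * (c * c) := by group
          _ = a ^ k * a ^ k := by rw [← sq c, hc2, mul_one]
      rw [this]
      exact Subgroup.pow_mem _ (Subgroup.zpow_mem_zpowers a k) 2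
    have hconj_ord : orderOf (x * w * x⁻¹) = 2 := by
      rw [← MulAut.conj_apply, MulEquiv.orderOf_eq]; exact hword
    have ha0 : orderOf a ≠ 0 := (orderOf_pos a).ne'
    have hmemw : x * w * x⁻¹ ∈ Subgroup.zpowers w :=
      mem_zpowers_of_orderOf_dvd a (x * w * x⁻¹) w ha0 hconj_mem hwmem (by rw [hconj_ord, hword])
    have hfix : x * w * x⁻¹ = w := by
      rcases eq_one_or_eq_of_mem_zpowers_of_orderOf_two w _ hword hmemw with h | h
      · exfalso
        rw [h, orderOf_one] at hconj_ord
        omega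
      · exact h
    have hwC : w ∈ Subgroup.centralizer ({x} : Set S) := by
      rw [Subgroup.mem_centralizer_iff]
      intro y hy
      rw [Set.mem_singleton_iff] at hy
      subst hy
      exact mul_inv_eq_iff_eq_mul.mp hfix
    have hwA : w ∈ A := (Subgroup.zpowers_le.mpr haA) hwmem
    have hxC : x ∈ Subgroup.centralizer ({x} : Set S) := by
      rw [Subgroup.mem_centralizer_iff]
      intro y hy
      rw [Set.mem_singleton_iff] at hy
      rw [hy]
    have hZCA : Z ≤ Subgroup.centralizer ({x} : Set S) ⊓ A :=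
      le_inf (hZdef ▸ Subgroup.center_le_centralizer _) hZA
    have hCAcard : Nat.card (Subgroup.centralizer ({x} : Set S) ⊓ A : Subgroup S) ≤ 2 := by
      have hd : Nat.card (Subgroup.centralizer ({x} : Set S) ⊓ A : Subgroup S) ∣ 2 ^ 2 := by
        have := Subgroup.card_dvd_of_le
          (inf_le_left : Subgroup.centralizer ({x} : Set S) ⊓ A ≤ Subgroup.centralizer ({x} : Set S))
        rw [hC] at this
        exact this
      obtain ⟨i, hi, hio⟩ := (Nat.dvd_prime_pow Nat.prime_two).mp hd
      interval_cases i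
      · rw [hio]; norm_num
      · rw [hio]; norm_num
      · exfalso
        have : Subgroup.centralizer ({x} : Set S) ⊓ A = Subgroup.centralizer ({x} : Set S) :=
          Subgroup.eq_of_le_of_card_ge inf_le_left (by rw [hio, hC]; norm_num)
        apply hxA
        have hx' : x ∈ Subgroup.centralizer ({x} : Set S) ⊓ A := by rw [this]; exact hxC
        exact hx'.2
    have hZeq : Z = Subgroup.centralizer ({x} : Set S) ⊓ A :=
      Subgroup.eq_of_le_of_card_ge hZCA (by rw [hZ2]; exact hCAcard)
    have hwZ : w ∈ Z := by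
      rw [hZeq]; exact ⟨hwC, hwA⟩
    have := hdisj w hwZ hwmem
    rw [this, orderOf_one] at hword
    omega

/-- A 2-group of order at least 8 with an involution `x` whose centralizer has order 4 has a cyclic
subgroup of index 2 not containing `x`. -/
theorem exists_cyclic_index_two_of_centralizer_four {S : Type*} [Group S] [Finite S]
    (hS : IsPGroup 2 S) (x : S) (hx : orderOf x = 2)
    (hC : Nat.card (Subgroup.centralizer ({x} : Set S)) = 4) (h8 : 8 ≤ Nat.card S) :
    ∃ a : S, (Subgroup.zpowers a).index = 2 ∧ x ∉ Subgroup.zpowers a :=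
  exists_cyclic_index_two_aux (Nat.card S) S rfl hS x hx hC h8


/-- Structure of a 2-group of order at least 8 with an involution whose centralizer has order 4:
dihedral or semidihedral relations. -/
theorem dihedral_or_quasidihedral_data {S : Type*} [Group S] [Finite S]
    (hS : IsPGroup 2 S) (x : S) (hx : orderOf x = 2)
    (hC : Nat.card (Subgroup.centralizer ({x} : Set S)) = 4) (h8 : 8 ≤ Nat.card S) :
    ∃ (a : S) (n : ℕ), 2 ≤ n ∧ orderOf a = 2 ^ n ∧ Nat.card S = 2 ^ (n + 1) ∧
      x ∉ Subgroup.zpowers a ∧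
      (x * a * x⁻¹ = a⁻¹ ∨ (3 ≤ n ∧ x * a * x⁻¹ = a ^ (2 ^ (n - 1) - 1))) := by
  haveI : Fact (Nat.Prime 2) := ⟨Nat.prime_two⟩
  obtain ⟨a, hidx, hxa⟩ := exists_cyclic_index_two_of_centralizer_four hS x hx hC h8
  obtain ⟨m, hm⟩ := (IsPGroup.iff_card (p := 2)).mp hS
  have hm3 : 3 ≤ m := by
    by_contra hlt
    have : m ≤ 2 := by omega
    have : 2 ^ m ≤ 2 ^ 2 := Nat.pow_le_pow_right (by norm_num) this
    omega
  obtain ⟨n, rfl⟩ : ∃ n, m = n + 1 := ⟨m - 1, by omega⟩
  have hn2 : 2 ≤ n := by omega
  have horda : orderOf a = 2 ^ n := by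
    have := Subgroup.index_mul_card (Subgroup.zpowers a)
    rw [hidx, Nat.card_zpowers, hm, pow_succ] at this
    omega
  have ha0 : orderOf a ≠ 0 := by rw [horda]; positivity
  refine ⟨a, n, hn2, horda, hm, hxa, ?_⟩
  haveI hAn : (Subgroup.zpowers a).Normal := Subgroup.normal_of_index_eq_two hidx
  have hconj : x * a * x⁻¹ ∈ Subgroup.zpowers a := hAn.conj_mem a (Subgroup.mem_zpowers a) x
  have hxx : x * x = 1 := by rw [← sq, ← hx]; exact pow_orderOf_eq_one x
  have hxi : x⁻¹ = x := inv_eq_of_mul_eq_one_left hxx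
  obtain ⟨c, hcdef⟩ : ∃ c, c = x * a * x⁻¹ * a := ⟨_, rfl⟩
  have hcmem : c ∈ Subgroup.zpowers a := by
    rw [hcdef]; exact Subgroup.mul_mem _ hconj (Subgroup.mem_zpowers a)
  have hcomm : a * (x * a * x⁻¹) = (x * a * x⁻¹) * a := by
    obtain ⟨k, hk⟩ := Subgroup.mem_zpowers_iff.mp hconj
    rw [← hk]
    have := zpow_mul_comm a 1 k
    rw [zpow_one] at this
    exact this
  have hcfix : x * c * x⁻¹ = c := by
    rw [hcdef]
    have e : x * (x * a * x⁻¹ * a) * x⁻¹ = (x * x) * (a * (x⁻¹ * a * x⁻¹)) := by group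
    have h2 : x⁻¹ * a * x⁻¹ = x * a * x⁻¹ := by rw [hxi]
    rw [e, hxx, one_mul, h2]
    exact hcomm
  have hxC : x ∈ Subgroup.centralizer ({x} : Set S) := by
    rw [Subgroup.mem_centralizer_iff]
    intro y hy
    rw [Set.mem_singleton_iff] at hy
    rw [hy]
  have hcC : c ∈ Subgroup.centralizer ({x} : Set S) := by
    rw [Subgroup.mem_centralizer_iff]
    intro y hy
    rw [Set.mem_singleton_iff] at hy
    subst hy
    exact mul_inv_eq_iff_eq_mul.mp hcfix
  -- C ⊓ ⟨a⟩ has order dividing 2
  have hCAcard : Nat.card (Subgroup.centralizer ({x} : Set S) ⊓ Subgroup.zpowers a : Subgroup S)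
      ∣ 2 := by
    have hd : Nat.card (Subgroup.centralizer ({x} : Set S) ⊓ Subgroup.zpowers a : Subgroup S)
        ∣ 2 ^ 2 := by
      have := Subgroup.card_dvd_of_le
        (inf_le_left : Subgroup.centralizer ({x} : Set S) ⊓ Subgroup.zpowers a
          ≤ Subgroup.centralizer ({x} : Set S))
      rw [hC] at this
      exact this
    obtain ⟨i, hi, hio⟩ := (Nat.dvd_prime_pow Nat.prime_two).mp hd
    interval_cases i
    · rw [hio]; norm_num
    · rw [hio]; norm_num
    · exfalso
      have : Subgroup.centralizer ({x} : Set S) ⊓ Subgroup.zpowers a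
          = Subgroup.centralizer ({x} : Set S) :=
        Subgroup.eq_of_le_of_card_ge inf_le_left (by rw [hio, hC]; norm_num)
      apply hxa
      have hx' : x ∈ Subgroup.centralizer ({x} : Set S) ⊓ Subgroup.zpowers a := by
        rw [this]; exact hxC
      exact hx'.2
  have hcord : orderOf c ∣ 2 := by
    obtain ⟨c', hc'⟩ : ∃ c' : (Subgroup.centralizer ({x} : Set S) ⊓ Subgroup.zpowers a : Subgroup S),
        (c' : S) = c := ⟨⟨c, hcC, hcmem⟩, rfl⟩
    have h1 := orderOf_dvd_natCard c'
    rw [← Subgroup.orderOf_coe, hc'] at h1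
    exact h1.trans hCAcard
  obtain ⟨w, hwdef⟩ : ∃ w, w = a ^ (2 ^ (n - 1)) := ⟨_, rfl⟩
  have hpow : 2 ^ n = 2 ^ (n - 1) * 2 := by
    rw [← pow_succ]; congr 1; omega
  have hword : orderOf w = 2 := by
    rw [hwdef, orderOf_pow_of_dvd (by positivity) ⟨2, by rw [horda, hpow]⟩, horda, hpow]
    exact Nat.mul_div_cancel_left _ (by positivity)
  have hwmem : w ∈ Subgroup.zpowers a := by
    rw [hwdef]; exact Subgroup.npow_mem_zpowers a _
  have hcw : c ∈ Subgroup.zpowers w :=
    mem_zpowers_of_orderOf_dvd a c w ha0 hcmem hwmem (by rw [hword]; exact hcord)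
  rcases eq_one_or_eq_of_mem_zpowers_of_orderOf_two w c hword hcw with hc1 | hcw'
  · left
    rw [hcdef] at hc1
    exact eq_inv_of_mul_eq_one_left hc1
  · right
    have hform : x * a * x⁻¹ = a ^ (2 ^ (n - 1) - 1) := by
      have h1 : x * a * x⁻¹ = w * a⁻¹ := by
        rw [← hcw', hcdef]; group
      rw [h1, hwdef, pow_sub a (Nat.one_le_two_pow), pow_one]
    refine ⟨?_, hform⟩
    by_contra hlt
    have hn : n = 2 := by omega
    subst hn
    -- then x centralizes a
    norm_num at hform
    have haC : Subgroup.zpowers a ≤ Subgroup.centralizer ({x} : Set S) := by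
      rw [Subgroup.zpowers_le, Subgroup.mem_centralizer_iff]
      intro y hy
      rw [Set.mem_singleton_iff] at hy
      subst hy
      exact mul_inv_eq_iff_eq_mul.mp hform
    have heq : Subgroup.zpowers a = Subgroup.centralizer ({x} : Set S) :=
      Subgroup.eq_of_le_of_card_ge haC (by rw [hC, Nat.card_zpowers, horda]; norm_num)
    exact hxa (heq ▸ hxC)

end Cfsg.Agent.Lib.Helper18
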