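import Mathlib
import Cfsg.Prelude.Def_CaseTheorems
import Cfsg.Agent.Lib.Helper18.UniqueInvolution
import Cfsg.Agent.Lib.Helper18.CentralizerFour
import Cfsg.Agent.Lib.Helper14.DihedralCrit
import Cfsg.Agent.Lib.Helper1.PGroup

set_option autoImplicit false

/-!
# Quasi-dihedral (semidihedral) 2-groups: normal forms and basic computations

`IsQD S m x y`: `|S| = 2^(m+4)`, `x` of order `2^(m+3)`, `y` an involution, `y x y⁻¹ = x^(2^(m+2)-1)`.
We write `z = x^(2^(m+2))` for the central involution.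
-/

namespace Cfsg.Agent.Lib.Helper18

open Subgroup
open scoped commutatorElement

/-- Quasi-dihedral data. -/
structure IsQD (S : Type*) [Group S] (m : ℕ) (x y : S) : Prop where
  card : Nat.card S = 2 ^ (m + 4)
  hx : orderOf x = 2 ^ (m + 3)
  hy : orderOf y = 2
  rel : y * x * y⁻¹ = x ^ (2 ^ (m + 2) - 1)

theorem exists_isQD {S : Type*} [Group S] (hS : Cfsg.IsQuasiDihedral S) :
    ∃ (m : ℕ) (x y : S), IsQD S m x y := by
  obtain ⟨n, hn, hc, x, y, hx, hy, hr⟩ := hS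
  obtain ⟨m, rfl⟩ : ∃ m, n = m + 3 := ⟨n - 3, by omega⟩
  exact ⟨m, x, y, hc, hx, hy, by simpa using hr⟩

namespace IsQD

variable {S : Type*} [Group S] {m : ℕ} {x y : S}

theorem finite (h : IsQD S m x y) : Finite S := by
  apply Nat.finite_of_card_ne_zero
  rw [h.card]; positivity

theorem isPGroup (h : IsQD S m x y) : IsPGroup 2 S := by
  have := h.finite
  exact IsPGroup.of_card h.card

theorem y_mul_self (h : IsQD S m x y) : y * y = 1 := by
  have := pow_orderOf_eq_one y; rw [h.hy, pow_two] at this; exact this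

theorem y_inv (h : IsQD S m x y) : y⁻¹ = y := inv_eq_of_mul_eq_one_right h.y_mul_self

theorem x_pow_card (h : IsQD S m x y) : x ^ (2 ^ (m + 3)) = 1 := by
  rw [← h.hx]; exact pow_orderOf_eq_one x

/-- the central involution -/
theorem z_mul_self (h : IsQD S m x y) : x ^ (2 ^ (m + 2)) * x ^ (2 ^ (m + 2)) = 1 := by
  rw [← pow_add, ← h.x_pow_card]; congr 1; ring

theorem z_orderOf (h : IsQD S m x y) : orderOf (x ^ (2 ^ (m + 2))) = 2 := by
  rw [orderOf_pow_of_dvd (by positivity) (by rw [h.hx]; exact pow_dvd_pow 2 (by omega)), h.hx]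
  rw [show m + 3 = (m + 2) + 1 from rfl, pow_succ]
  exact Nat.mul_div_cancel_left 2 (by positivity)

theorem z_ne_one (h : IsQD S m x y) : x ^ (2 ^ (m + 2)) ≠ 1 := by
  intro h1
  have := h.z_orderOf
  rw [h1, orderOf_one] at this; omega

/-- `y x y⁻¹ = x⁻¹ z` -/
theorem rel' (h : IsQD S m x y) : y * x * y⁻¹ = x⁻¹ * x ^ (2 ^ (m + 2)) := by
  rw [h.rel]
  obtain ⟨a, ha⟩ : ∃ a, 2 ^ (m + 2) = a + 1 := ⟨2 ^ (m + 2) - 1, by
    have : 1 ≤ 2 ^ (m + 2) := Nat.one_le_two_pow; omega⟩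
  rw [ha, Nat.add_sub_cancel, pow_succ']
  group

/-- powers of `z` -/
theorem z_pow_even (h : IsQD S m x y) (k : ℕ) : (x ^ (2 ^ (m + 2))) ^ (2 * k) = 1 := by
  rw [pow_mul, pow_two, h.z_mul_self, one_pow]

theorem z_pow_odd (h : IsQD S m x y) (k : ℕ) :
    (x ^ (2 ^ (m + 2))) ^ (2 * k + 1) = x ^ (2 ^ (m + 2)) := by
  rw [pow_succ, h.z_pow_even, one_mul]

/-- `y x^i y⁻¹ = x^(-i) z^i` -/
theorem conj_pow_eq (h : IsQD S m x y) (i : ℕ) :
    y * x ^ i * y⁻¹ = (x ^ i)⁻¹ * (x ^ (2 ^ (m + 2))) ^ i := by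
  rw [← conj_pow, h.rel', Commute.mul_pow, inv_pow]
  exact (Commute.pow_right (Commute.refl x) _).inv_left

theorem conj_pow_even (h : IsQD S m x y) (k : ℕ) :
    y * x ^ (2 * k) * y⁻¹ = (x ^ (2 * k))⁻¹ := by
  rw [h.conj_pow_eq, h.z_pow_even, mul_one]

theorem conj_pow_odd (h : IsQD S m x y) (k : ℕ) :
    y * x ^ (2 * k + 1) * y⁻¹ = (x ^ (2 * k + 1))⁻¹ * x ^ (2 ^ (m + 2)) := by
  rw [h.conj_pow_eq, h.z_pow_odd]

/-- `z` is central -/
theorem z_comm_y (h : IsQD S m x y) : y * x ^ (2 ^ (m + 2)) = x ^ (2 ^ (m + 2)) * y := by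
  have h1 := h.conj_pow_even (2 ^ (m + 1))
  rw [show 2 * 2 ^ (m + 1) = 2 ^ (m + 2) by ring] at h1
  have h2 : (x ^ (2 ^ (m + 2)))⁻¹ = x ^ (2 ^ (m + 2)) := inv_eq_of_mul_eq_one_right h.z_mul_self
  rw [h2] at h1
  calc y * x ^ (2 ^ (m + 2)) = (y * x ^ (2 ^ (m + 2)) * y⁻¹) * y := by group
    _ = _ := by rw [h1]

theorem y_not_mem (h : IsQD S m x y) : y ∉ zpowers x := by
  intro hy
  obtain ⟨k, hk⟩ := mem_zpowers_iff.mp hy
  have hc : y * x = x * y := by rw [← hk]; group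
  have h1 : y * x * y⁻¹ = x := by rw [hc]; group
  rw [h.rel'] at h1
  -- x⁻¹ z = x → z = x^2
  have h2 : x ^ (2 ^ (m + 2)) = x ^ 2 := by
    calc x ^ (2 ^ (m + 2)) = x * (x⁻¹ * x ^ (2 ^ (m + 2))) := by group
      _ = x ^ 2 := by rw [h1, pow_two]
  rw [pow_eq_pow_iff_modEq, h.hx] at h2
  unfold Nat.ModEq at h2
  have e1 : (2 : ℕ) ^ (m + 2) < 2 ^ (m + 3) := Nat.pow_lt_pow_right (by norm_num) (by omega)
  have e2 : (2 : ℕ) ^ 2 ≤ 2 ^ (m + 2) := Nat.pow_le_pow_right (by norm_num) (by omega)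
  rw [Nat.mod_eq_of_lt e1, Nat.mod_eq_of_lt (by omega)] at h2
  omega

theorem index_zpowers (h : IsQD S m x y) : (zpowers x).index = 2 := by
  have := h.finite
  have h1 := (zpowers x).card_mul_index
  rw [Nat.card_zpowers, h.hx, h.card, show m + 4 = (m + 3) + 1 from rfl, pow_succ] at h1
  exact Nat.eq_of_mul_eq_mul_left (by positivity) h1

theorem normal_zpowers (h : IsQD S m x y) : (zpowers x).Normal :=
  normal_of_index_eq_two h.index_zpowers

theorem mem_zpowers_iff_pow (h : IsQD S m x y) (g : S) : g ∈ zpowers x ↔ ∃ i : ℕ, g = x ^ i := by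
  have hfin : IsOfFinOrder x := by rw [← orderOf_pos_iff, h.hx]; positivity
  rw [← hfin.mem_powers_iff_mem_zpowers, Submonoid.mem_powers_iff]
  constructor
  · rintro ⟨i, hi⟩; exact ⟨i, hi.symm⟩
  · rintro ⟨i, hi⟩; exact ⟨i, hi.symm⟩

theorem cover (h : IsQD S m x y) (g : S) : ∃ i : ℕ, g = x ^ i ∨ g = x ^ i * y := by
  by_cases hg : g ∈ zpowers x
  · obtain ⟨i, hi⟩ := (h.mem_zpowers_iff_pow g).mp hg
    exact ⟨i, Or.inl hi⟩
  · have h1 : g * y ∈ zpowers x := by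
      rw [mul_mem_iff_of_index_two h.index_zpowers]
      exact ⟨fun h' => absurd h' hg, fun h' => absurd h' h.y_not_mem⟩
    obtain ⟨i, hi⟩ := (h.mem_zpowers_iff_pow _).mp h1
    refine ⟨i, Or.inr ?_⟩
    rw [← hi, mul_assoc, h.y_mul_self, mul_one]

theorem xy_not_mem (h : IsQD S m x y) (i : ℕ) : x ^ i * y ∉ zpowers x := by
  intro h1
  apply h.y_not_mem
  have := (zpowers x).mul_mem (inv_mem (pow_mem (mem_zpowers x) i)) h1
  simpa using this

/-- `(x^i y)^2 = z^i` -/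
theorem sq_xy (h : IsQD S m x y) (i : ℕ) :
    (x ^ i * y) * (x ^ i * y) = (x ^ (2 ^ (m + 2))) ^ i := by
  calc (x ^ i * y) * (x ^ i * y) = x ^ i * (y * x ^ i * y⁻¹) * (y * y) := by group
    _ = _ := by rw [h.conj_pow_eq, h.y_mul_self]; group

theorem orderOf_xy_even (h : IsQD S m x y) (k : ℕ) : orderOf (x ^ (2 * k) * y) = 2 := by
  have : Fact (Nat.Prime 2) := ⟨Nat.prime_two⟩
  apply orderOf_eq_prime
  · rw [pow_two, h.sq_xy, h.z_pow_even]
  · intro h1
    apply h.xy_not_mem (2 * k)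
    rw [h1]; exact one_mem _

theorem orderOf_xy_odd (h : IsQD S m x y) (k : ℕ) : orderOf (x ^ (2 * k + 1) * y) = 4 := by
  have : Fact (Nat.Prime 2) := ⟨Nat.prime_two⟩
  have h2 : (x ^ (2 * k + 1) * y) ^ 2 = x ^ (2 ^ (m + 2)) := by
    rw [pow_two, h.sq_xy, h.z_pow_odd]
  have := orderOf_eq_prime_pow (x := x ^ (2 * k + 1) * y) (p := 2) (n := 1)
    (by rw [pow_one, h2]; exact h.z_ne_one)
    (by rw [show 2 ^ (1 + 1) = 2 * 2 from rfl, pow_mul, h2, pow_two, h.z_mul_self])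
  simpa using this

/-- conjugating `x^i y` by `x^j` -/
theorem conj_xy (h : IsQD S m x y) (i j : ℕ) :
    x ^ j * (x ^ i * y) * (x ^ j)⁻¹ = x ^ (i + 2 * j) * (x ^ (2 ^ (m + 2))) ^ j * y := by
  have hz : ((x ^ (2 ^ (m + 2))) ^ j)⁻¹ = (x ^ (2 ^ (m + 2))) ^ j := by
    rw [← inv_pow, inv_eq_of_mul_eq_one_right h.z_mul_self]
  calc x ^ j * (x ^ i * y) * (x ^ j)⁻¹ = x ^ j * x ^ i * (y * x ^ j * y⁻¹)⁻¹ * y := by group
    _ = x ^ j * x ^ i * (x ^ j * (x ^ (2 ^ (m + 2))) ^ j) * y := by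
        rw [h.conj_pow_eq, mul_inv_rev, inv_inv, hz]
        have : Commute ((x ^ (2 ^ (m + 2))) ^ j) (x ^ j) :=
          ((Commute.refl x).pow_pow _ _).pow_left _
        rw [this.eq]
    _ = _ := by
        have e : x ^ (i + 2 * j) = x ^ j * x ^ i * x ^ j := by
          rw [← pow_add, ← pow_add]; congr 1; ring
        rw [e]; simp only [mul_assoc]

/-- conjugating by `x^(1+2^(m+1))` shifts the exponent by two -/
theorem conj_shift_two (h : IsQD S m x y) (i : ℕ) :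
    x ^ (1 + 2 ^ (m + 1)) * (x ^ i * y) * (x ^ (1 + 2 ^ (m + 1)))⁻¹ = x ^ (i + 2) * y := by
  rw [h.conj_xy, show 1 + 2 ^ (m + 1) = 2 * 2 ^ m + 1 by ring, h.z_pow_odd,
    show i + 2 * (2 * 2 ^ m + 1) = i + 2 + 2 ^ (m + 2) by ring, pow_add (x) (i + 2), mul_assoc (x ^ (i + 2)),
    h.z_mul_self, mul_one]

theorem conj_shift (h : IsQD S m x y) (i k : ℕ) :
    ∃ g : S, g * (x ^ i * y) * g⁻¹ = x ^ (i + 2 * k) * y := by
  induction k with
  | zero => exact ⟨1, by simp⟩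
  | succ k ih =>
    obtain ⟨g, hg⟩ := ih
    refine ⟨x ^ (1 + 2 ^ (m + 1)) * g, ?_⟩
    rw [mul_inv_rev, show i + 2 * (k + 1) = (i + 2 * k) + 2 by ring, ← h.conj_shift_two, ← hg]
    group

theorem isConj_y (h : IsQD S m x y) (k : ℕ) : IsConj y (x ^ (2 * k) * y) := by
  obtain ⟨g, hg⟩ := h.conj_shift 0 k
  rw [isConj_iff]
  exact ⟨g, by simpa using hg⟩

theorem isConj_xy (h : IsQD S m x y) (k : ℕ) : IsConj (x * y) (x ^ (2 * k + 1) * y) := by
  obtain ⟨g, hg⟩ := h.conj_shift 1 k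
  rw [isConj_iff]
  exact ⟨g, by rw [pow_one] at hg; rw [hg]; congr 2; ring⟩

/-- the unique involution of `⟨x⟩` -/
theorem eq_z_of_orderOf_two (h : IsQD S m x y) (t : S) (ht : t ∈ zpowers x) (h2 : orderOf t = 2) :
    t = x ^ (2 ^ (m + 2)) := by
  have h1 : t ∈ zpowers (x ^ (2 ^ (m + 2))) := by
    apply mem_zpowers_of_orderOf_dvd x t _ (by rw [h.hx]; positivity) ht
      (pow_mem (mem_zpowers x) _)
    rw [h2, h.z_orderOf]
  rcases eq_one_or_eq_of_mem_zpowers_of_orderOf_two _ _ h.z_orderOf h1 with h3 | h3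
  · rw [h3, orderOf_one] at h2; omega
  · exact h3

theorem v_orderOf (h : IsQD S m x y) : orderOf (x ^ (2 ^ (m + 1))) = 4 := by
  rw [orderOf_pow_of_dvd (by positivity) (by rw [h.hx]; exact pow_dvd_pow 2 (by omega)), h.hx]
  rw [show m + 3 = (m + 1) + 2 from rfl, pow_add]
  exact Nat.mul_div_cancel_left 4 (by positivity)

/-- elements of order four of `⟨x⟩` -/
theorem eq_v_of_orderOf_four (h : IsQD S m x y) (t : S) (ht : t ∈ zpowers x) (h4 : orderOf t = 4) :
    t = x ^ (2 ^ (m + 1)) ∨ t = (x ^ (2 ^ (m + 1)))⁻¹ := by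
  have h1 : t ∈ zpowers (x ^ (2 ^ (m + 1))) := by
    apply mem_zpowers_of_orderOf_dvd x t _ (by rw [h.hx]; positivity) ht
      (pow_mem (mem_zpowers x) _)
    rw [h4, h.v_orderOf]
  obtain ⟨k, rfl⟩ := mem_zpowers_iff.mp h1
  rw [← zpow_mod_orderOf, h.v_orderOf] at h4 ⊢
  have hk1 : 0 ≤ k % ((4 : ℕ) : ℤ) := Int.emod_nonneg _ (by norm_num)
  have hk2 : k % ((4 : ℕ) : ℤ) < 4 := Int.emod_lt_of_pos _ (by norm_num)
  obtain ⟨j, hj⟩ : ∃ j : ℕ, k % ((4 : ℕ) : ℤ) = j := ⟨(k % ((4 : ℕ) : ℤ)).toNat, by omega⟩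
  rw [hj] at h4 ⊢
  rw [zpow_natCast] at h4 ⊢
  have hj4 : j < 4 := by omega
  have hv4 : (x ^ (2 ^ (m + 1))) ^ 4 = 1 := by rw [← h.v_orderOf]; exact pow_orderOf_eq_one _
  interval_cases j
  · rw [pow_zero, orderOf_one] at h4; omega
  · left; rw [pow_one]
  · exfalso
    have : ((x ^ (2 ^ (m + 1))) ^ 2) ^ 2 = 1 := by rw [← pow_mul]; exact hv4
    have := orderOf_dvd_of_pow_eq_one this
    rw [h4] at this; omega
  · right
    exact eq_inv_of_mul_eq_one_left (by rw [← pow_succ]; exact hv4)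

theorem conj_v (h : IsQD S m x y) :
    y * x ^ (2 ^ (m + 1)) * y⁻¹ = (x ^ (2 ^ (m + 1)))⁻¹ := by
  have := h.conj_pow_even (2 ^ m)
  rwa [show 2 * 2 ^ m = 2 ^ (m + 1) by ring] at this

theorem z_central (h : IsQD S m x y) (g : S) :
    g * x ^ (2 ^ (m + 2)) = x ^ (2 ^ (m + 2)) * g := by
  obtain ⟨i, rfl | rfl⟩ := h.cover g
  · rw [← pow_add, ← pow_add, add_comm]
  · rw [mul_assoc, h.z_comm_y, ← mul_assoc, ← mul_assoc, ← pow_add, ← pow_add, add_comm]

theorem y_ne_z (h : IsQD S m x y) : y ≠ x ^ (2 ^ (m + 2)) := by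
  intro h1
  apply h.y_not_mem
  rw [h1]; exact pow_mem (mem_zpowers x) _

/-- counting a two-element family of classes -/
theorem card_subtype_eq_two {α : Type*} (P : α → Prop) (a b : α) (hab : a ≠ b)
    (hP : ∀ C, P C ↔ C = a ∨ C = b) : Nat.card {C : α // P C} = 2 := by
  have h1 : {C | P C} = ({a, b} : Set α) := by
    ext C; simp [hP]
  rw [show Nat.card {C : α // P C} = Nat.card ({C | P C} : Set α) from rfl, h1,
    Nat.card_coe_set_eq, Set.ncard_pair hab]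

theorem isCoatom_of_index_two {G : Type*} [Group G] (M : Subgroup G) (hM : M.index = 2) :
    IsCoatom M := by
  refine ⟨fun h => by rw [h, index_top] at hM; omega, fun K hK => ?_⟩
  have h1 := relIndex_mul_index hK.le
  rw [hM] at h1
  have h2 : K.index ∣ 2 := Dvd.intro_left _ h1
  rcases (Nat.dvd_prime Nat.prime_two).mp h2 with h3 | h3
  · exact index_eq_one.mp h3
  · exfalso
    rw [h3] at h1
    have : M.relIndex K = 1 := by omega
    exact hK.not_ge (relIndex_eq_one.mp this)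

theorem sq_orderOf (h : IsQD S m x y) : orderOf (x ^ 2) = 2 ^ (m + 2) := by
  rw [orderOf_pow_of_dvd (by norm_num) (by rw [h.hx]; exact dvd_pow_self 2 (by omega)), h.hx]
  rw [show m + 3 = (m + 2) + 1 from rfl, pow_succ]
  exact Nat.mul_div_cancel _ (by norm_num)

theorem index_sq (h : IsQD S m x y) : (zpowers (x ^ 2)).index = 4 := by
  have := h.finite
  have h1 := (zpowers (x ^ 2)).card_mul_index
  rw [Nat.card_zpowers, h.sq_orderOf, h.card, show m + 4 = (m + 2) + 2 from rfl,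
    pow_add 2 (m + 2) 2] at h1
  exact Nat.eq_of_mul_eq_mul_left (by positivity) h1

/-- a subgroup strictly between `⟨x²⟩` and `⊤` has index two -/
theorem index_eq_two_of_sq_le (h : IsQD S m x y) (N : Subgroup S) (h1 : zpowers (x ^ 2) ≤ N)
    (h2 : ¬ N ≤ zpowers (x ^ 2)) (h3 : N ≠ ⊤) : N.index = 2 := by
  have e1 := relIndex_mul_index h1
  rw [h.index_sq] at e1
  have e2 : (zpowers (x ^ 2)).relIndex N ≠ 1 := fun e => h2 (relIndex_eq_one.mp e)
  have e3 : N.index ≠ 1 := fun e => h3 (index_eq_one.mp e)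
  have e4 : (zpowers (x ^ 2)).relIndex N ∣ 4 := Dvd.intro _ e1
  have e5 := Nat.le_of_dvd (by norm_num) e4
  generalize (zpowers (x ^ 2)).relIndex N = a at *
  generalize N.index = b at *
  interval_cases a <;> omega

/-- the commutator subgroup contains `x²` -/
theorem sq_mem_commutator (h : IsQD S m x y) : x ^ 2 ∈ commutator S := by
  have hc : (x ^ 2)⁻¹ * x ^ (2 ^ (m + 2)) ∈ commutator S := by
    have : ⁅y, x⁆ = (x ^ 2)⁻¹ * x ^ (2 ^ (m + 2)) := by
      rw [commutatorElement_def, h.rel']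
      have : Commute (x ^ (2 ^ (m + 2))) x⁻¹ := ((Commute.refl x).pow_left _).inv_right
      rw [mul_assoc, this.eq, pow_two]; group
    rw [← this]
    exact commutator_mem_commutator (mem_top y) (mem_top x)
  have hz : x ^ (2 ^ (m + 2)) ∈ commutator S := by
    have e := pow_mem hc (2 ^ (m + 1))
    have hcomm : Commute ((x ^ 2)⁻¹) (x ^ (2 ^ (m + 2))) :=
      ((Commute.refl x).pow_pow _ _).inv_left
    rw [hcomm.mul_pow, show 2 ^ (m + 1) = 2 * 2 ^ m by ring, h.z_pow_even, mul_one, inv_pow,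
      ← pow_mul, show 2 * (2 * 2 ^ m) = 2 ^ (m + 2) by ring] at e
    have := inv_mem e
    rwa [inv_inv] at this
  have := mul_mem (mul_mem hc (inv_mem hz)) (one_mem _)
  have e2 : (x ^ 2)⁻¹ * x ^ (2 ^ (m + 2)) * (x ^ (2 ^ (m + 2)))⁻¹ * 1 = (x ^ 2)⁻¹ := by group
  rw [e2] at this
  have := inv_mem this
  rwa [inv_inv] at this

/-- general: `H` normal, `g² ∈ H`: `H ⊔ ⟨g⟩ = H ∪ gH` -/
theorem mem_sup_zpowers_iff {G : Type*} [Group G] (H : Subgroup G) [hH : H.Normal] (g : G)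
    (hg : g * g ∈ H) (a : G) : a ∈ H ⊔ zpowers g ↔ a ∈ H ∨ g⁻¹ * a ∈ H := by
  constructor
  · intro ha
    rw [← SetLike.mem_coe, Subgroup.normal_mul] at ha
    obtain ⟨b, hb, c, hc, rfl⟩ := Set.mem_mul.mp ha
    obtain ⟨k, rfl⟩ := mem_zpowers_iff.mp hc
    rcases Int.even_or_odd' k with ⟨j, rfl | rfl⟩
    · left
      apply H.mul_mem hb
      rw [zpow_mul, zpow_two]; exact H.zpow_mem hg j
    · right
      have e : g⁻¹ * (b * g ^ (2 * j + 1)) = (g⁻¹ * b * g⁻¹⁻¹) * g ^ (2 * j) := by group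
      rw [e, zpow_mul, zpow_two]
      exact H.mul_mem (hH.conj_mem _ hb _) (H.zpow_mem hg j)
  · rintro (ha | ha)
    · exact mem_sup_left ha
    · have : a = g * (g⁻¹ * a) := by group
      rw [this]; exact mul_mem (mem_sup_right (mem_zpowers g)) (mem_sup_left ha)

theorem normal_sq (h : IsQD S m x y) : (zpowers (x ^ 2)).Normal := by
  constructor
  intro a ha g
  obtain ⟨k, rfl⟩ := mem_zpowers_iff.mp ha
  have key : g * x ^ 2 * g⁻¹ ∈ zpowers (x ^ 2) := by
    obtain ⟨i, rfl | rfl⟩ := h.cover g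
    · have : x ^ i * x ^ 2 * (x ^ i)⁻¹ = x ^ 2 := by group
      rw [this]; exact mem_zpowers _
    · have e1 : x ^ i * y * x ^ 2 * (x ^ i * y)⁻¹ = x ^ i * (y * x ^ (2 * 1) * y⁻¹) * (x ^ i)⁻¹ := by
        group
      have e2 : x ^ i * (x ^ (2 * 1))⁻¹ * (x ^ i)⁻¹ = (x ^ 2)⁻¹ := by group
      rw [e1, h.conj_pow_even 1, e2]
      exact inv_mem (mem_zpowers _)
  have : g * (x ^ 2) ^ k * g⁻¹ = (g * x ^ 2 * g⁻¹) ^ k := by rw [conj_zpow]
  rw [this]; exact zpow_mem key k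

theorem sq_le_zpowers (h : IsQD S m x y) : zpowers (x ^ 2) ≤ zpowers x :=
  zpowers_le.mpr (pow_mem (mem_zpowers x) 2)

theorem x_not_mem_sq (h : IsQD S m x y) : x ∉ zpowers (x ^ 2) := by
  intro h1
  have := h.finite
  have h2 := Subgroup.card_le_of_le (zpowers_le.mpr h1)
  rw [Nat.card_zpowers, Nat.card_zpowers, h.hx, h.sq_orderOf] at h2
  have : (2 : ℕ) ^ (m + 2) < 2 ^ (m + 3) := Nat.pow_lt_pow_right (by norm_num) (by omega)
  omega

theorem y_not_mem_sq (h : IsQD S m x y) : y ∉ zpowers (x ^ 2) :=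
  fun h1 => h.y_not_mem (h.sq_le_zpowers h1)

theorem z_mem_sq (h : IsQD S m x y) : x ^ (2 ^ (m + 2)) ∈ zpowers (x ^ 2) := by
  rw [show 2 ^ (m + 2) = 2 * 2 ^ (m + 1) by ring, pow_mul]
  exact pow_mem (mem_zpowers _) _

theorem xy_mul_self (h : IsQD S m x y) : (x * y) * (x * y) = x ^ (2 ^ (m + 2)) := by
  have := h.sq_xy 1
  rwa [pow_one, pow_one] at this

/-- membership in the dihedral maximal subgroup -/
theorem mem_D_iff (h : IsQD S m x y) (a : S) :
    a ∈ zpowers (x ^ 2) ⊔ zpowers y ↔ a ∈ zpowers (x ^ 2) ∨ y⁻¹ * a ∈ zpowers (x ^ 2) := by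
  have := h.normal_sq
  exact mem_sup_zpowers_iff _ y (by rw [h.y_mul_self]; exact one_mem _) a

/-- membership in the quaternion maximal subgroup -/
theorem mem_Q_iff (h : IsQD S m x y) (a : S) :
    a ∈ zpowers (x ^ 2) ⊔ zpowers (x * y) ↔
      a ∈ zpowers (x ^ 2) ∨ (x * y)⁻¹ * a ∈ zpowers (x ^ 2) := by
  have := h.normal_sq
  exact mem_sup_zpowers_iff _ (x * y) (by rw [h.xy_mul_self]; exact h.z_mem_sq) a

theorem x_not_mem_D (h : IsQD S m x y) : x ∉ zpowers (x ^ 2) ⊔ zpowers y := by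
  rw [h.mem_D_iff]
  rintro (h1 | h1)
  · exact h.x_not_mem_sq h1
  · apply h.y_not_mem
    have h2 := (zpowers x).mul_mem (h.sq_le_zpowers h1) (inv_mem (mem_zpowers x))
    have e : y⁻¹ * x * x⁻¹ = y⁻¹ := by group
    rw [e] at h2
    have := inv_mem h2
    rwa [inv_inv] at this

theorem x_not_mem_Q (h : IsQD S m x y) : x ∉ zpowers (x ^ 2) ⊔ zpowers (x * y) := by
  rw [h.mem_Q_iff]
  rintro (h1 | h1)
  · exact h.x_not_mem_sq h1
  · apply h.y_not_mem
    have e : (x * y)⁻¹ * x = y⁻¹ := by group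
    rw [e] at h1
    have := inv_mem (h.sq_le_zpowers h1)
    rwa [inv_inv] at this

theorem y_not_mem_Q (h : IsQD S m x y) : y ∉ zpowers (x ^ 2) ⊔ zpowers (x * y) := by
  rw [h.mem_Q_iff]
  rintro (h1 | h1)
  · exact h.y_not_mem_sq h1
  · apply h.x_not_mem_sq
    have e : (x * y)⁻¹ * y = y⁻¹ * x⁻¹ * y⁻¹⁻¹ := by group
    rw [e] at h1
    have h2 := h.normal_sq.conj_mem _ h1 y
    have e2 : y * (y⁻¹ * x⁻¹ * y⁻¹⁻¹) * y⁻¹ = x⁻¹ := by group
    rw [e2] at h2
    have := inv_mem h2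
    rwa [inv_inv] at this

theorem index_D (h : IsQD S m x y) : (zpowers (x ^ 2) ⊔ zpowers y).index = 2 := by
  apply h.index_eq_two_of_sq_le _ le_sup_left
  · intro hle
    exact h.y_not_mem_sq (hle (mem_sup_right (mem_zpowers y)))
  · intro htop
    apply h.x_not_mem_D
    rw [htop]; exact mem_top x

theorem index_Q (h : IsQD S m x y) : (zpowers (x ^ 2) ⊔ zpowers (x * y)).index = 2 := by
  apply h.index_eq_two_of_sq_le _ le_sup_left
  · intro hle
    have := h.xy_not_mem 1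
    rw [pow_one] at this
    exact this (h.sq_le_zpowers (hle (mem_sup_right (mem_zpowers (x * y)))))
  · intro htop
    apply h.x_not_mem_Q
    rw [htop]; exact mem_top x

theorem card_of_index_two (h : IsQD S m x y) (M : Subgroup S) (hM : M.index = 2) :
    Nat.card M = 2 ^ (m + 3) := by
  have h1 := M.card_mul_index
  rw [hM, h.card, show m + 4 = (m + 3) + 1 from rfl, pow_succ] at h1
  exact Nat.eq_of_mul_eq_mul_right (by norm_num) h1

theorem dihedral_iso (h : IsQD S m x y) :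
    Nonempty (↥(zpowers (x ^ 2) ⊔ zpowers y) ≃* DihedralGroup (2 ^ (m + 2))) := by
  have := h.finite
  have hxD : x ^ 2 ∈ zpowers (x ^ 2) ⊔ zpowers y := mem_sup_left (mem_zpowers _)
  have hyD : y ∈ zpowers (x ^ 2) ⊔ zpowers y := mem_sup_right (mem_zpowers _)
  apply Cfsg.Agent.Lib.Helper14.nonempty_mulEquiv_dihedral (2 ^ (m + 2)) _ ⟨x ^ 2, hxD⟩ ⟨y, hyD⟩
  · apply Subtype.ext
    simp only [Subgroup.coe_pow, Subgroup.coe_one]
    rw [← pow_mul, show 2 * 2 ^ (m + 2) = 2 ^ (m + 3) by ring, h.x_pow_card]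
  · apply Subtype.ext
    simp only [Subgroup.coe_mul, Subgroup.coe_one]
    exact h.y_mul_self
  · apply Subtype.ext
    simp only [Subgroup.coe_mul, Subgroup.coe_inv]
    have := h.conj_pow_even 1
    rw [h.y_inv] at this
    exact this
  · rw [Subgroup.orderOf_mk, h.sq_orderOf]
  · intro h1
    obtain ⟨k, hk⟩ := mem_zpowers_iff.mp h1
    have := congrArg Subtype.val hk
    simp only [Subgroup.coe_zpow] at this
    apply h.y_not_mem_sq
    rw [← this]
    exact zpow_mem (mem_zpowers _) k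
  · rw [h.card_of_index_two _ h.index_D]; ring

theorem quaternion_iso (h : IsQD S m x y) :
    Nonempty (↥(zpowers (x ^ 2) ⊔ zpowers (x * y)) ≃* QuaternionGroup (2 ^ (m + 1))) := by
  have hxD : x ^ 2 ∈ zpowers (x ^ 2) ⊔ zpowers (x * y) := mem_sup_left (mem_zpowers _)
  have hyD : x * y ∈ zpowers (x ^ 2) ⊔ zpowers (x * y) := mem_sup_right (mem_zpowers _)
  apply nonempty_mulEquiv_quaternionGroup ⟨x ^ 2, hxD⟩ ⟨x * y, hyD⟩ (2 ^ (m + 1))
  · rw [Subgroup.orderOf_mk, h.sq_orderOf]; ring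
  · apply Subtype.ext
    simp only [Subgroup.coe_pow]
    rw [pow_two, h.xy_mul_self, ← pow_mul]
    congr 1; ring
  · apply Subtype.ext
    simp only [Subgroup.coe_mul, Subgroup.coe_inv]
    have e1 : x * y * x ^ 2 * (x * y)⁻¹ = x * (y * x ^ (2 * 1) * y⁻¹) * x⁻¹ := by group
    rw [e1, h.conj_pow_even 1]
    group
  · intro h1
    obtain ⟨k, hk⟩ := mem_zpowers_iff.mp h1
    have := congrArg Subtype.val hk
    simp only [Subgroup.coe_zpow] at this
    have h2 := h.xy_not_mem 1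
    rw [pow_one] at h2
    apply h2
    rw [← this]
    exact h.sq_le_zpowers (zpow_mem (mem_zpowers _) k)
  · rintro ⟨g, hg⟩
    rcases (h.mem_Q_iff g).mp hg with h1 | h1
    · left
      obtain ⟨k, hk⟩ := mem_zpowers_iff.mp h1
      exact mem_zpowers_iff.mpr ⟨k, Subtype.ext (by simpa using hk)⟩
    · right
      obtain ⟨k, hk⟩ := mem_zpowers_iff.mp h1
      refine ⟨⟨(x * y)⁻¹ * g, le_sup_left (a := zpowers (x ^ 2)) h1⟩,
        mem_zpowers_iff.mpr ⟨k, Subtype.ext (by simpa using hk)⟩, ?_⟩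
      apply Subtype.ext
      simp only [Subgroup.coe_mul]
      group

theorem commutator_eq (h : IsQD S m x y) : commutator S = zpowers (x ^ 2) := by
  apply le_antisymm
  · have hn := h.normal_sq
    have hcard : Nat.card (S ⧸ zpowers (x ^ 2)) = 2 ^ 2 := by
      rw [← index_eq_card, h.index_sq]; norm_num
    have : Fact (Nat.Prime 2) := ⟨Nat.prime_two⟩
    have hcomm := IsPGroup.commutative_of_card_eq_prime_sq hcard
    rw [commutator_def, Subgroup.commutator_le]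
    intro a _ b _
    have e : (QuotientGroup.mk' (zpowers (x ^ 2))) ⁅a, b⁆ = 1 := by
      rw [map_commutatorElement, commutatorElement_eq_one_iff_mul_comm]
      exact hcomm _ _
    exact (QuotientGroup.eq_one_iff _).mp e
  · exact zpowers_le.mpr h.sq_mem_commutator

theorem frattini_eq (h : IsQD S m x y) : frattini S = zpowers (x ^ 2) := by
  have := h.finite
  have : Fact (Nat.Prime 2) := ⟨Nat.prime_two⟩
  apply le_antisymm
  · intro g hg
    have h1 := frattini_le_coatom (isCoatom_of_index_two _ h.index_zpowers) hg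
    have h2 := frattini_le_coatom (isCoatom_of_index_two _ h.index_D) hg
    rcases (h.mem_D_iff g).mp h2 with h3 | h3
    · exact h3
    · exfalso
      apply h.y_not_mem
      have h4 := (zpowers x).mul_mem (h.sq_le_zpowers h3) (inv_mem h1)
      have e : y⁻¹ * g * g⁻¹ = y⁻¹ := by group
      rw [e] at h4
      have := inv_mem h4
      rwa [inv_inv] at this
  · exact zpowers_le.mpr (Cfsg.Agent.Lib.Helper1.IsPGroup.pow_mem_frattini h.isPGroup x)

theorem not_comm (h : IsQD S m x y) : y * x ≠ x * y := by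
  intro hc
  apply h.y_not_mem
  have h1 : y * x * y⁻¹ = x := by rw [hc]; group
  rw [h.rel'] at h1
  have h2 : x ^ (2 ^ (m + 2)) = x ^ 2 := by
    calc x ^ (2 ^ (m + 2)) = x * (x⁻¹ * x ^ (2 ^ (m + 2))) := by group
      _ = x ^ 2 := by rw [h1, pow_two]
  rw [pow_eq_pow_iff_modEq, h.hx] at h2
  exfalso
  unfold Nat.ModEq at h2
  have e1 : (2 : ℕ) ^ (m + 2) < 2 ^ (m + 3) := Nat.pow_lt_pow_right (by norm_num) (by omega)
  have e2 : (2 : ℕ) ^ 2 ≤ 2 ^ (m + 2) := Nat.pow_le_pow_right (by norm_num) (by omega)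
  rw [Nat.mod_eq_of_lt e1, Nat.mod_eq_of_lt (by omega)] at h2
  omega

/-- elements of a cyclic group of order four -/
theorem mem_zpowers_four {G : Type*} [Group G] (v g : G) (hv : orderOf v = 4)
    (hg : g ∈ zpowers v) : g = 1 ∨ g = v ∨ g = v ^ 2 ∨ g = v⁻¹ := by
  obtain ⟨k, rfl⟩ := mem_zpowers_iff.mp hg
  rw [← zpow_mod_orderOf, hv]
  have hk1 : 0 ≤ k % ((4 : ℕ) : ℤ) := Int.emod_nonneg _ (by norm_num)
  have hk2 : k % ((4 : ℕ) : ℤ) < 4 := Int.emod_lt_of_pos _ (by norm_num)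
  obtain ⟨j, hj⟩ : ∃ j : ℕ, k % ((4 : ℕ) : ℤ) = j := ⟨(k % ((4 : ℕ) : ℤ)).toNat, by omega⟩
  rw [hj, zpow_natCast]
  have hj4 : j < 4 := by omega
  have hv4 : v ^ 4 = 1 := by rw [← hv]; exact pow_orderOf_eq_one _
  interval_cases j
  · left; rw [pow_zero]
  · right; left; rw [pow_one]
  · right; right; left; rfl
  · right; right; right
    exact eq_inv_of_mul_eq_one_left (by rw [← pow_succ]; exact hv4)

theorem v_sq (h : IsQD S m x y) : (x ^ (2 ^ (m + 1))) ^ 2 = x ^ (2 ^ (m + 2)) := by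
  rw [← pow_mul]; congr 1

theorem eq_one_or_z_of_comm_y (h : IsQD S m x y) (g : S) (hg : g ∈ zpowers x)
    (hc : y * g = g * y) : g = 1 ∨ g = x ^ (2 ^ (m + 2)) := by
  obtain ⟨i, rfl⟩ := (h.mem_zpowers_iff_pow g).mp hg
  have h1 : y * x ^ i * y⁻¹ = x ^ i := by rw [hc]; group
  rw [h.conj_pow_eq] at h1
  have h2 : (x ^ (2 ^ (m + 2))) ^ i = x ^ i * x ^ i := by
    calc (x ^ (2 ^ (m + 2))) ^ i = x ^ i * ((x ^ i)⁻¹ * (x ^ (2 ^ (m + 2))) ^ i) := by group
      _ = x ^ i * x ^ i := by rw [h1]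
  have h3 : (x ^ i) ^ 4 = 1 := by
    rw [show 4 = 2 * 2 from rfl, pow_mul, pow_two (x ^ i), ← h2, ← pow_mul, mul_comm i 2, h.z_pow_even]
  have h4 : x ^ i ∈ zpowers (x ^ (2 ^ (m + 1))) := by
    apply mem_zpowers_of_orderOf_dvd x _ _ (by rw [h.hx]; positivity) hg
      (pow_mem (mem_zpowers x) _)
    rw [h.v_orderOf]
    exact orderOf_dvd_of_pow_eq_one h3
  have hv2 : x ^ (2 ^ (m + 1)) ≠ (x ^ (2 ^ (m + 1)))⁻¹ := by
    intro e
    have e2 : (x ^ (2 ^ (m + 1))) ^ 2 = 1 := by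
      rw [pow_two]; nth_rewrite 2 [e]; exact mul_inv_cancel _
    have := orderOf_dvd_of_pow_eq_one e2
    rw [h.v_orderOf] at this; omega
  rcases mem_zpowers_four _ _ h.v_orderOf h4 with h5 | h5 | h5 | h5
  · left; exact h5
  · exfalso
    rw [h5] at hc
    apply hv2
    rw [← h.conj_v, hc]; group
  · right; rw [h5, h.v_sq]
  · exfalso
    rw [h5] at hc
    apply hv2
    have hc' : y * x ^ (2 ^ (m + 1)) = x ^ (2 ^ (m + 1)) * y := by
      calc y * x ^ (2 ^ (m + 1))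
          = x ^ (2 ^ (m + 1)) * ((x ^ (2 ^ (m + 1)))⁻¹ * y) * x ^ (2 ^ (m + 1)) := by group
        _ = x ^ (2 ^ (m + 1)) * (y * (x ^ (2 ^ (m + 1)))⁻¹) * x ^ (2 ^ (m + 1)) := by rw [hc]
        _ = _ := by group
    rw [← h.conj_v, hc']; group

theorem center_eq (h : IsQD S m x y) : center S = zpowers (x ^ (2 ^ (m + 2))) := by
  ext g
  constructor
  · intro hg
    rw [mem_center_iff] at hg
    obtain ⟨i, rfl | rfl⟩ := h.cover g
    · rcases h.eq_one_or_z_of_comm_y _ (pow_mem (mem_zpowers x) i) (hg y) with h1 | h1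
      · rw [h1]; exact one_mem _
      · rw [h1]; exact mem_zpowers _
    · exfalso
      apply h.not_comm
      calc y * x = (x ^ i)⁻¹ * (x ^ i * y * x) := by group
        _ = (x ^ i)⁻¹ * (x * (x ^ i * y)) := by rw [hg x]
        _ = x * y := by group
  · intro hg
    obtain ⟨k, rfl⟩ := mem_zpowers_iff.mp hg
    rw [mem_center_iff]
    intro a
    have : Commute a (x ^ (2 ^ (m + 2))) := h.z_central a
    exact (this.zpow_right k).eq

theorem closure_involutions_eq (h : IsQD S m x y) :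
    closure {t : S | orderOf t = 2} = zpowers (x ^ 2) ⊔ zpowers y := by
  apply le_antisymm
  · rw [closure_le]
    intro t ht
    obtain ⟨i, rfl | rfl⟩ := h.cover t
    · rw [h.eq_z_of_orderOf_two _ (pow_mem (mem_zpowers x) i) ht]
      exact mem_sup_left h.z_mem_sq
    · rcases Nat.even_or_odd' i with ⟨k, rfl | rfl⟩
      · rw [pow_mul]
        exact mul_mem (mem_sup_left (pow_mem (mem_zpowers _) k)) (mem_sup_right (mem_zpowers y))
      · rw [Set.mem_setOf_eq, h.orderOf_xy_odd] at ht; omega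
  · rw [sup_le_iff, zpowers_le, zpowers_le]
    have hy : y ∈ closure {t : S | orderOf t = 2} := subset_closure h.hy
    refine ⟨?_, hy⟩
    have h1 : x ^ 2 * y ∈ closure {t : S | orderOf t = 2} :=
      subset_closure (by have := h.orderOf_xy_even 1; simpa using this)
    have := mul_mem h1 (inv_mem hy)
    rwa [mul_inv_cancel_right] at this

end IsQD

end Cfsg.Agent.Lib.Helper18
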