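import Mathlib
import Cfsg.Agent.Lib.Helper18.QuasiDihedral

set_option autoImplicit false

/-!
# Klein four-subgroups of quasi-dihedral groups
-/

namespace Cfsg.Agent.Lib.Helper18

open Subgroup

namespace IsQD

variable {S : Type*} [Group S] {m : ℕ} {x y : S}

theorem normal_z (h : IsQD S m x y) : (zpowers (x ^ (2 ^ (m + 2)))).Normal := by
  constructor
  intro a ha g
  obtain ⟨j, rfl⟩ := mem_zpowers_iff.mp ha
  have hc : Commute g (x ^ (2 ^ (m + 2))) := h.z_central g
  have e : g * (x ^ (2 ^ (m + 2))) ^ j * g⁻¹ = (x ^ (2 ^ (m + 2))) ^ j := by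
    rw [(hc.zpow_right j).eq]; group
  rw [e]; exact zpow_mem (mem_zpowers _) j

theorem t_mul_self (h : IsQD S m x y) (k : ℕ) : (x ^ (2 * k) * y) * (x ^ (2 * k) * y) = 1 := by
  rw [h.sq_xy, h.z_pow_even]

theorem t_inv (h : IsQD S m x y) (k : ℕ) : (x ^ (2 * k) * y)⁻¹ = x ^ (2 * k) * y :=
  inv_eq_of_mul_eq_one_right (h.t_mul_self k)

theorem mem_K_iff (h : IsQD S m x y) (k : ℕ) (a : S) :
    a ∈ zpowers (x ^ (2 ^ (m + 2))) ⊔ zpowers (x ^ (2 * k) * y) ↔
      a = 1 ∨ a = x ^ (2 ^ (m + 2)) ∨ a = x ^ (2 * k) * y ∨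
        a = x ^ (2 * k) * y * x ^ (2 ^ (m + 2)) := by
  have := h.normal_z
  rw [mem_sup_zpowers_iff _ _ (by rw [h.t_mul_self]; exact one_mem _), h.t_inv]
  constructor
  · rintro (h1 | h1)
    · rcases eq_one_or_eq_of_mem_zpowers_of_orderOf_two _ _ h.z_orderOf h1 with e | e
      · left; exact e
      · right; left; exact e
    · rcases eq_one_or_eq_of_mem_zpowers_of_orderOf_two _ _ h.z_orderOf h1 with e | e
      · right; right; left
        rw [eq_inv_of_mul_eq_one_right e, h.t_inv]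
      · right; right; right
        calc a = (x ^ (2 * k) * y)⁻¹ * (x ^ (2 * k) * y * a) := by group
          _ = _ := by rw [e, h.t_inv]
  · rintro (rfl | rfl | rfl | rfl)
    · left; exact one_mem _
    · left; exact mem_zpowers _
    · right; rw [h.t_mul_self]; exact one_mem _
    · right; rw [← mul_assoc, h.t_mul_self, one_mul]; exact mem_zpowers _

theorem eq_one_or_z_of_comm_t (h : IsQD S m x y) (k : ℕ) (g : S) (hg : g ∈ zpowers x)
    (hc : (x ^ (2 * k) * y) * g = g * (x ^ (2 * k) * y)) : g = 1 ∨ g = x ^ (2 ^ (m + 2)) := by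
  apply h.eq_one_or_z_of_comm_y g hg
  obtain ⟨i, rfl⟩ := (h.mem_zpowers_iff_pow g).mp hg
  have hcm : x ^ (2 * k) * x ^ i = x ^ i * x ^ (2 * k) := by
    rw [← pow_add, ← pow_add, add_comm]
  calc y * x ^ i = (x ^ (2 * k))⁻¹ * (x ^ (2 * k) * y * x ^ i) := by group
    _ = (x ^ (2 * k))⁻¹ * (x ^ i * (x ^ (2 * k) * y)) := by rw [hc]
    _ = (x ^ (2 * k))⁻¹ * (x ^ (2 * k) * x ^ i) * y := by rw [hcm]; group
    _ = x ^ i * y := by group

theorem comm_t_iff (h : IsQD S m x y) (k : ℕ) (g : S) :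
    (x ^ (2 * k) * y) * g = g * (x ^ (2 * k) * y) ↔
      g ∈ zpowers (x ^ (2 ^ (m + 2))) ⊔ zpowers (x ^ (2 * k) * y) := by
  rw [h.mem_K_iff]
  constructor
  · intro hc
    by_cases hg : g ∈ zpowers x
    · rcases h.eq_one_or_z_of_comm_t k g hg hc with e | e
      · left; exact e
      · right; left; exact e
    · have h1 : (x ^ (2 * k) * y) * g ∈ zpowers x := by
        rw [mul_mem_iff_of_index_two h.index_zpowers]
        exact ⟨fun a => absurd a (h.xy_not_mem _), fun a => absurd a hg⟩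
      have h2 : (x ^ (2 * k) * y) * ((x ^ (2 * k) * y) * g) =
          ((x ^ (2 * k) * y) * g) * (x ^ (2 * k) * y) := by
        rw [mul_assoc ((x ^ (2 * k) * y)) g, ← hc]
      rcases h.eq_one_or_z_of_comm_t k _ h1 h2 with e | e
      · right; right; left
        rw [eq_inv_of_mul_eq_one_right e, h.t_inv]
      · right; right; right
        calc g = (x ^ (2 * k) * y)⁻¹ * (x ^ (2 * k) * y * g) := by group
          _ = _ := by rw [e, h.t_inv]
  · rintro (rfl | rfl | rfl | rfl)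
    · simp
    · exact h.z_central _
    · rfl
    · have e := h.z_central (x ^ (2 * k) * y)
      rw [mul_assoc (x ^ (2 * k) * y) (x ^ 2 ^ (m + 2)), ← e]

theorem t_mem_K (h : IsQD S m x y) (k : ℕ) :
    x ^ (2 * k) * y ∈ zpowers (x ^ (2 ^ (m + 2))) ⊔ zpowers (x ^ (2 * k) * y) :=
  mem_sup_right (mem_zpowers _)

theorem z_mem_K (h : IsQD S m x y) (k : ℕ) :
    x ^ (2 ^ (m + 2)) ∈ zpowers (x ^ (2 ^ (m + 2))) ⊔ zpowers (x ^ (2 * k) * y) :=
  mem_sup_left (mem_zpowers _)

/-- every Klein four-subgroup is `⟨z, x^(2k) y⟩` -/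
theorem klein_eq (h : IsQD S m x y) (T : Subgroup S) (hT : IsKleinFour T) :
    ∃ k : ℕ, T = zpowers (x ^ (2 ^ (m + 2))) ⊔ zpowers (x ^ (2 * k) * y) := by
  have := h.finite
  have hsq : ∀ g ∈ T, g * g = 1 := by
    intro g hg
    have := IsKleinFour.mul_self (⟨g, hg⟩ : T)
    exact congrArg Subtype.val this
  have hTx : ∀ g ∈ T, g ∈ zpowers x → g = 1 ∨ g = x ^ (2 ^ (m + 2)) := by
    intro g hg hgx
    by_cases h1 : g = 1
    · left; exact h1
    · right
      have : Fact (Nat.Prime 2) := ⟨Nat.prime_two⟩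
      exact h.eq_z_of_orderOf_two g hgx (orderOf_eq_prime (by rw [pow_two]; exact hsq g hg) h1)
  have hcard : Nat.card T = 4 := hT.card_four
  obtain ⟨t, htT, htx⟩ : ∃ t ∈ T, t ∉ zpowers x := by
    by_contra hcon
    push Not at hcon
    have hle : T ≤ zpowers (x ^ (2 ^ (m + 2))) := by
      intro g hg
      rcases hTx g hg (hcon g hg) with e | e
      · rw [e]; exact one_mem _
      · rw [e]; exact mem_zpowers _
    have := Subgroup.card_le_of_le hle
    rw [hcard, Nat.card_zpowers, h.z_orderOf] at this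
    omega
  obtain ⟨i, rfl | rfl⟩ := h.cover t
  · exact absurd (pow_mem (mem_zpowers x) i) htx
  rcases Nat.even_or_odd' i with ⟨k, rfl | rfl⟩
  swap
  · exfalso
    have h1 := h.orderOf_xy_odd k
    have h2 := orderOf_dvd_of_pow_eq_one (show (x ^ (2 * k + 1) * y) ^ 2 = 1 by
      rw [pow_two]; exact hsq _ htT)
    rw [h1] at h2; omega
  refine ⟨k, ?_⟩
  obtain ⟨a, haT, hat⟩ : ∃ a ∈ T, a ∉ zpowers (x ^ (2 * k) * y) := by
    by_contra hcon
    push Not at hcon
    have := Subgroup.card_le_of_le (show T ≤ zpowers (x ^ (2 * k) * y) from hcon)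
    rw [hcard, Nat.card_zpowers, h.orderOf_xy_even] at this
    omega
  have hzT : x ^ (2 ^ (m + 2)) ∈ T := by
    by_cases hax : a ∈ zpowers x
    · rcases hTx a haT hax with e | e
      · exact absurd (e ▸ one_mem _) hat
      · rw [← e]; exact haT
    · have h1 : (x ^ (2 * k) * y) * a ∈ zpowers x := by
        rw [mul_mem_iff_of_index_two h.index_zpowers]
        exact ⟨fun a => absurd a (h.xy_not_mem _), fun a' => absurd a' hax⟩
      rcases hTx _ (T.mul_mem htT haT) h1 with e | e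
      · exfalso
        apply hat
        rw [eq_inv_of_mul_eq_one_right e]
        exact inv_mem (mem_zpowers _)
      · rw [← e]; exact T.mul_mem htT haT
  ext g
  rw [h.mem_K_iff]
  constructor
  · intro hg
    by_cases hgx : g ∈ zpowers x
    · rcases hTx g hg hgx with e | e
      · left; exact e
      · right; left; exact e
    · have h1 : (x ^ (2 * k) * y) * g ∈ zpowers x := by
        rw [mul_mem_iff_of_index_two h.index_zpowers]
        exact ⟨fun a => absurd a (h.xy_not_mem _), fun a' => absurd a' hgx⟩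
      rcases hTx _ (T.mul_mem htT hg) h1 with e | e
      · right; right; left
        rw [eq_inv_of_mul_eq_one_right e, h.t_inv]
      · right; right; right
        calc g = (x ^ (2 * k) * y)⁻¹ * (x ^ (2 * k) * y * g) := by group
          _ = _ := by rw [e, h.t_inv]
  · rintro (rfl | rfl | rfl | rfl)
    · exact one_mem _
    · exact hzT
    · exact htT
    · exact T.mul_mem htT hzT

theorem conj_K (h : IsQD S m x y) (k k' : ℕ) :
    ∃ s : S, (zpowers (x ^ (2 ^ (m + 2))) ⊔ zpowers (x ^ (2 * k) * y)).map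
        (MulAut.conj s).toMonoidHom =
      zpowers (x ^ (2 ^ (m + 2))) ⊔ zpowers (x ^ (2 * k') * y) := by
  obtain ⟨s, hs⟩ := isConj_iff.mp ((h.isConj_y k).symm.trans (h.isConj_y k'))
  refine ⟨s, ?_⟩
  rw [Subgroup.map_sup, MonoidHom.map_zpowers, MonoidHom.map_zpowers]
  simp only [MulEquiv.coe_toMonoidHom, MulAut.conj_apply]
  rw [hs, h.z_central s, mul_inv_cancel_right]

theorem centralizer_K (h : IsQD S m x y) (k : ℕ) :
    centralizer ((zpowers (x ^ (2 ^ (m + 2))) ⊔ zpowers (x ^ (2 * k) * y) : Subgroup S) : Set S) =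
      zpowers (x ^ (2 ^ (m + 2))) ⊔ zpowers (x ^ (2 * k) * y) := by
  ext g
  constructor
  · intro hg
    rw [mem_centralizer_iff] at hg
    rw [← h.comm_t_iff]
    exact hg _ (h.t_mem_K k)
  · intro hg
    rw [mem_centralizer_iff]
    intro a ha
    rcases (h.mem_K_iff k a).mp ha with rfl | rfl | rfl | rfl
    · simp
    · exact (h.z_central g).symm
    · exact (h.comm_t_iff k g).mpr hg
    · rw [mul_assoc, ← h.z_central g, ← mul_assoc, (h.comm_t_iff k g).mpr hg, mul_assoc]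

theorem mem_K_iff_conj (h : IsQD S m x y) (k : ℕ) (g : S) :
    g ∈ zpowers (x ^ (2 ^ (m + 2))) ⊔ zpowers (x ^ (2 * k) * y) ↔
      g * (x ^ (2 * k) * y) * g⁻¹ = x ^ (2 * k) * y := by
  rw [← h.comm_t_iff, mul_inv_eq_iff_eq_mul, eq_comm]

theorem t_ne_tz (h : IsQD S m x y) (k : ℕ) :
    x ^ (2 * k) * y * x ^ (2 ^ (m + 2)) ≠ x ^ (2 * k) * y := by
  intro e
  exact h.z_ne_one (mul_left_cancel (e.trans (mul_one _).symm))

theorem relIndex_normalizer_K (h : IsQD S m x y) (k : ℕ) :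
    (zpowers (x ^ (2 ^ (m + 2))) ⊔ zpowers (x ^ (2 * k) * y)).relIndex
      (normalizer ((zpowers (x ^ (2 ^ (m + 2))) ⊔ zpowers (x ^ (2 * k) * y) : Subgroup S) : Set S))
      = 2 := by
  obtain ⟨s, hs⟩ := h.conj_shift (2 * k) (2 ^ (m + 1))
  have hs' : s * (x ^ (2 * k) * y) * s⁻¹ = x ^ (2 * k) * y * x ^ (2 ^ (m + 2)) := by
    rw [hs, pow_add, show 2 * 2 ^ (m + 1) = 2 ^ (m + 2) by ring, mul_assoc, mul_assoc, h.z_comm_y]
  have hsN : s ∈ normalizer
      ((zpowers (x ^ (2 ^ (m + 2))) ⊔ zpowers (x ^ (2 * k) * y) : Subgroup S) : Set S) := by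
    rw [mem_normalizer_iff_map_conj_eq, Subgroup.map_sup, MonoidHom.map_zpowers,
      MonoidHom.map_zpowers]
    simp only [MonoidHom.coe_coe, MulAut.conj_apply]
    rw [hs', h.z_central s, mul_inv_cancel_right]
    apply le_antisymm
    · rw [sup_le_iff, zpowers_le, zpowers_le]
      exact ⟨h.z_mem_K k, mul_mem (h.t_mem_K k) (h.z_mem_K k)⟩
    · rw [sup_le_iff, zpowers_le, zpowers_le]
      refine ⟨mem_sup_left (mem_zpowers _), ?_⟩
      have h1 : x ^ (2 * k) * y * x ^ (2 ^ (m + 2)) ∈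
          zpowers (x ^ (2 ^ (m + 2))) ⊔ zpowers (x ^ (2 * k) * y * x ^ (2 ^ (m + 2))) :=
        mem_sup_right (mem_zpowers _)
      have h2 : x ^ (2 ^ (m + 2)) ∈
          zpowers (x ^ (2 ^ (m + 2))) ⊔ zpowers (x ^ (2 * k) * y * x ^ (2 ^ (m + 2))) :=
        mem_sup_left (mem_zpowers _)
      have := mul_mem h1 h2
      have e : x ^ (2 * k) * y * x ^ (2 ^ (m + 2)) * x ^ (2 ^ (m + 2)) = x ^ (2 * k) * y := by
        rw [mul_assoc (x ^ (2 * k) * y), h.z_mul_self, mul_one]
      rwa [e] at this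
  have hconj : ∀ b : S, (b * s) * (x ^ (2 * k) * y) * (b * s)⁻¹ =
      b * (x ^ (2 * k) * y) * b⁻¹ * x ^ (2 ^ (m + 2)) := by
    intro b
    calc (b * s) * (x ^ (2 * k) * y) * (b * s)⁻¹
        = b * (s * (x ^ (2 * k) * y) * s⁻¹) * b⁻¹ := by group
      _ = b * (x ^ (2 * k) * y) * (x ^ (2 ^ (m + 2)) * b⁻¹) := by
          rw [hs']; simp only [mul_assoc]
      _ = b * (x ^ (2 * k) * y) * (b⁻¹ * x ^ (2 ^ (m + 2))) := by rw [h.z_central b⁻¹]
      _ = _ := by simp only [mul_assoc]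
  rw [relIndex, index_eq_two_iff_exists_notMem_and]
  refine ⟨⟨s, hsN⟩, ?_, ?_⟩
  · rw [mem_subgroupOf]
    simp only
    rw [h.mem_K_iff_conj, hs']
    exact h.t_ne_tz k
  · rintro ⟨b, hb⟩
    rw [mem_subgroupOf, mem_subgroupOf]
    simp only [Subgroup.coe_mul]
    have hbt : b * (x ^ (2 * k) * y) * b⁻¹ ∈
        zpowers (x ^ (2 ^ (m + 2))) ⊔ zpowers (x ^ (2 * k) * y) :=
      (mem_normalizer_iff.mp hb _).mp (h.t_mem_K k)
    have hnx : b * (x ^ (2 * k) * y) * b⁻¹ ∉ zpowers x := by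
      intro h1
      have h2 := h.normal_zpowers.conj_mem _ h1 b⁻¹
      have e : b⁻¹ * (b * (x ^ (2 * k) * y) * b⁻¹) * b⁻¹⁻¹ = x ^ (2 * k) * y := by group
      rw [e] at h2
      exact h.xy_not_mem _ h2
    rw [h.mem_K_iff_conj, h.mem_K_iff_conj, hconj b]
    rcases (h.mem_K_iff k _).mp hbt with e | e | e | e
    · exfalso; apply hnx; rw [e]; exact one_mem _
    · exfalso; apply hnx; rw [e]; exact pow_mem (mem_zpowers x) _
    · right; exact e
    · left
      rw [e, mul_assoc, h.z_mul_self, mul_one]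

end IsQD

end Cfsg.Agent.Lib.Helper18
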