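import Mathlib
import Cfsg.Prelude.Def_CaseTheorems
import Cfsg.Agent.Lib.Helper18.QuasiDihedral
import Cfsg.Agent.Lib.Helper14.DihedralCrit

set_option autoImplicit false

/-!
# Wreathed 2-groups `Z_{2^n} ≀ Z_2`: normal forms and basic computations

`IsWr S m x y z`: `|S| = 2^(2(m+2)+1)`, `x, y` commuting of order `2^(m+2)` with `⟨x⟩ ∩ ⟨y⟩ = 1`,
`z` an involution with `z x z⁻¹ = y`.
-/

namespace Cfsg.Agent.Lib.Helper18

open Subgroup
open scoped commutatorElement

/-- Wreathed data. -/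
structure IsWr (S : Type*) [Group S] (m : ℕ) (x y z : S) : Prop where
  card : Nat.card S = 2 ^ (2 * (m + 2) + 1)
  hx : orderOf x = 2 ^ (m + 2)
  comm : x * y = y * x
  disj : zpowers x ⊓ zpowers y = ⊥
  hz : orderOf z = 2
  rel : z * x * z⁻¹ = y

theorem exists_isWr {S : Type*} [Group S] (hS : Cfsg.IsWreathed S) :
    ∃ (m : ℕ) (x y z : S), IsWr S m x y z := by
  obtain ⟨n, hn, hc, x, y, z, hx, hxy, hd, hz, hr⟩ := hS
  obtain ⟨m, rfl⟩ : ∃ m, n = m + 2 := ⟨n - 2, by omega⟩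
  exact ⟨m, x, y, z, hc, hx, hxy, hd, hz, hr⟩

namespace IsWr

variable {S : Type*} [Group S] {m : ℕ} {x y z : S}

theorem finite (h : IsWr S m x y z) : Finite S := by
  apply Nat.finite_of_card_ne_zero
  rw [h.card]; positivity

theorem isPGroup (h : IsWr S m x y z) : IsPGroup 2 S := by
  have := h.finite
  exact IsPGroup.of_card h.card

theorem z_mul_self (h : IsWr S m x y z) : z * z = 1 := by
  have := pow_orderOf_eq_one z; rw [h.hz, pow_two] at this; exact this

theorem z_inv (h : IsWr S m x y z) : z⁻¹ = z := inv_eq_of_mul_eq_one_right h.z_mul_self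

theorem rel_y (h : IsWr S m x y z) : z * y * z⁻¹ = x := by
  rw [← h.rel, h.z_inv]
  calc z * (z * x * z) * z = (z * z) * x * (z * z) := by group
    _ = x := by rw [h.z_mul_self, one_mul, mul_one]

theorem hy (h : IsWr S m x y z) : orderOf y = 2 ^ (m + 2) := by
  rw [← h.rel, ← MulAut.conj_apply, MulEquiv.orderOf_eq, h.hx]

theorem x_pow_card (h : IsWr S m x y z) : x ^ (2 ^ (m + 2)) = 1 := by
  rw [← h.hx]; exact pow_orderOf_eq_one x

theorem y_pow_card (h : IsWr S m x y z) : y ^ (2 ^ (m + 2)) = 1 := by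
  rw [← h.hy]; exact pow_orderOf_eq_one y

theorem commute_xy (h : IsWr S m x y z) (i j : ℤ) : Commute (x ^ i) (y ^ j) :=
  (show Commute x y from h.comm).zpow_zpow i j

/-- `z x^i = y^i z` -/
theorem z_mul_x (h : IsWr S m x y z) (i : ℤ) : z * x ^ i = y ^ i * z := by
  have : z * x ^ i * z⁻¹ = y ^ i := by rw [← conj_zpow, h.rel]
  rw [← this]; group

theorem z_mul_y (h : IsWr S m x y z) (i : ℤ) : z * y ^ i = x ^ i * z := by
  have : z * y ^ i * z⁻¹ = x ^ i := by rw [← conj_zpow, h.rel_y]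
  rw [← this]; group

/-- `z (x^i y^j) = (x^j y^i) z` -/
theorem z_mul_xy (h : IsWr S m x y z) (i j : ℤ) : z * (x ^ i * y ^ j) = x ^ j * y ^ i * z := by
  rw [← mul_assoc, h.z_mul_x, mul_assoc, h.z_mul_y, ← mul_assoc, (h.commute_xy j i).eq]

theorem disj' (h : IsWr S m x y z) (i j : ℤ) (e : x ^ i = y ^ j) : x ^ i = 1 := by
  have h1 : x ^ i ∈ zpowers x ⊓ zpowers y :=
    ⟨zpow_mem (mem_zpowers x) i, e ▸ zpow_mem (mem_zpowers y) j⟩
  rw [h.disj] at h1
  exact mem_bot.mp h1

theorem eq_of_eq (h : IsWr S m x y z) (i j k l : ℤ) (e : x ^ i * y ^ j = x ^ k * y ^ l) :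
    x ^ i = x ^ k ∧ y ^ j = y ^ l := by
  have e1 : x ^ (i - k) = y ^ (l - j) := by
    rw [zpow_sub, zpow_sub]
    calc x ^ i * (x ^ k)⁻¹ = (x ^ k)⁻¹ * (x ^ i * y ^ j) * (y ^ j)⁻¹ := by group
      _ = y ^ l * (y ^ j)⁻¹ := by rw [e]; group
  have e2 := h.disj' _ _ e1
  have e3 : y ^ (l - j) = 1 := by rw [← e1, e2]
  constructor
  · rw [zpow_sub, mul_inv_eq_one] at e2; exact e2
  · rw [zpow_sub, mul_inv_eq_one] at e3; exact e3.symm

/-- the base subgroup `⟨x⟩ × ⟨y⟩` -/
def base (h : IsWr S m x y z) : Subgroup S where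
  carrier := {g | ∃ i j : ℤ, g = x ^ i * y ^ j}
  one_mem' := ⟨0, 0, by simp⟩
  mul_mem' := by
    rintro _ _ ⟨i, j, rfl⟩ ⟨k, l, rfl⟩
    refine ⟨i + k, j + l, ?_⟩
    rw [zpow_add, zpow_add]
    calc x ^ i * y ^ j * (x ^ k * y ^ l) = x ^ i * (y ^ j * x ^ k) * y ^ l := by group
      _ = x ^ i * (x ^ k * y ^ j) * y ^ l := by rw [(h.commute_xy k j).eq]
      _ = _ := by group
  inv_mem' := by
    rintro _ ⟨i, j, rfl⟩
    refine ⟨-i, -j, ?_⟩
    rw [mul_inv_rev, zpow_neg, zpow_neg, ← zpow_neg, ← zpow_neg, (h.commute_xy (-i) (-j)).eq]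

theorem mem_base_iff (h : IsWr S m x y z) (g : S) : g ∈ h.base ↔ ∃ i j : ℤ, g = x ^ i * y ^ j :=
  Iff.rfl

theorem xy_mem_base (h : IsWr S m x y z) (i j : ℤ) : x ^ i * y ^ j ∈ h.base := ⟨i, j, rfl⟩

theorem x_mem_base (h : IsWr S m x y z) : x ∈ h.base := ⟨1, 0, by simp⟩

theorem y_mem_base (h : IsWr S m x y z) : y ∈ h.base := ⟨0, 1, by simp⟩

theorem base_comm (h : IsWr S m x y z) (a b : S) (ha : a ∈ h.base) (hb : b ∈ h.base) :
    a * b = b * a := by
  obtain ⟨i, j, rfl⟩ := ha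
  obtain ⟨k, l, rfl⟩ := hb
  have c1 : Commute (x ^ i) (x ^ k) := (Commute.refl x).zpow_zpow i k
  have c2 : Commute (x ^ i) (y ^ l) := h.commute_xy i l
  have c3 : Commute (y ^ j) (x ^ k) := (h.commute_xy k j).symm
  have c4 : Commute (y ^ j) (y ^ l) := (Commute.refl y).zpow_zpow j l
  exact ((c1.mul_right c2).mul_left (c3.mul_right c4)).eq

theorem card_base (h : IsWr S m x y z) : Nat.card h.base = 2 ^ (m + 2) * 2 ^ (m + 2) := by
  have hinj := mul_injective_of_disjoint (disjoint_iff.mpr h.disj)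
  have hrange : (h.base : Set S) =
      Set.range (fun g : zpowers x × zpowers y => ((g.1 : S) * (g.2 : S))) := by
    ext g
    constructor
    · rintro ⟨i, j, rfl⟩
      exact ⟨(⟨x ^ i, zpow_mem (mem_zpowers x) i⟩, ⟨y ^ j, zpow_mem (mem_zpowers y) j⟩), rfl⟩
    · rintro ⟨⟨⟨a, ha⟩, ⟨b, hb⟩⟩, rfl⟩
      obtain ⟨i, rfl⟩ := mem_zpowers_iff.mp ha
      obtain ⟨j, rfl⟩ := mem_zpowers_iff.mp hb
      exact ⟨i, j, rfl⟩
  rw [show Nat.card h.base = Nat.card ((h.base : Set S)) from rfl, hrange,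
    Nat.card_range_of_injective hinj, Nat.card_prod, Nat.card_zpowers, Nat.card_zpowers, h.hx, h.hy]

theorem index_base (h : IsWr S m x y z) : h.base.index = 2 := by
  have := h.finite
  have h1 := h.base.card_mul_index
  have e : 2 ^ (2 * (m + 2) + 1) = 2 ^ (m + 2) * 2 ^ (m + 2) * 2 := by ring
  rw [h.card_base, h.card, e] at h1
  exact Nat.eq_of_mul_eq_mul_left (by positivity) h1

theorem normal_base (h : IsWr S m x y z) : h.base.Normal :=
  normal_of_index_eq_two h.index_base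

theorem x_ne_y (h : IsWr S m x y z) : x ≠ y := by
  intro e
  have h1 := h.disj' 1 1 (by simpa using e)
  rw [zpow_one] at h1
  have := h.hx
  rw [h1, orderOf_one] at this
  have : 1 < 2 ^ (m + 2) := Nat.one_lt_two_pow (by omega)
  omega

theorem z_not_mem (h : IsWr S m x y z) : z ∉ h.base := by
  intro hz
  apply h.x_ne_y
  rw [← h.rel, h.base_comm z x hz h.x_mem_base]; group

theorem cover (h : IsWr S m x y z) (g : S) :
    ∃ i j : ℤ, g = x ^ i * y ^ j ∨ g = x ^ i * y ^ j * z := by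
  by_cases hg : g ∈ h.base
  · obtain ⟨i, j, hij⟩ := hg
    exact ⟨i, j, Or.inl hij⟩
  · have h1 : g * z ∈ h.base := by
      rw [mul_mem_iff_of_index_two h.index_base]
      exact ⟨fun h' => absurd h' hg, fun h' => absurd h' h.z_not_mem⟩
    obtain ⟨i, j, hij⟩ := h1
    refine ⟨i, j, Or.inr ?_⟩
    rw [← hij, mul_assoc, h.z_mul_self, mul_one]

theorem xyz_not_mem (h : IsWr S m x y z) (i j : ℤ) : x ^ i * y ^ j * z ∉ h.base := by
  intro h1
  apply h.z_not_mem
  have := h.base.mul_mem (inv_mem (h.xy_mem_base i j)) h1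
  have e : (x ^ i * y ^ j)⁻¹ * (x ^ i * y ^ j * z) = z := by group
  rwa [e] at this

/-- conjugation by `z` swaps the coordinates -/
theorem conj_z_base (h : IsWr S m x y z) (i j : ℤ) :
    z * (x ^ i * y ^ j) * z⁻¹ = x ^ j * y ^ i := by
  rw [h.z_mul_xy, mul_assoc, mul_inv_cancel, mul_one]

theorem conj_z_mem_base (h : IsWr S m x y z) (a : S) (ha : a ∈ h.base) : z * a * z⁻¹ ∈ h.base :=
  h.normal_base.conj_mem a ha z

theorem xy_central (h : IsWr S m x y z) (g : S) : g * (x * y) = (x * y) * g := by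
  have hxy : x * y ∈ h.base := ⟨1, 1, by simp⟩
  have hz : z * (x * y) = x * y * z := by
    have := h.z_mul_xy 1 1
    simpa using this
  obtain ⟨i, j, rfl | rfl⟩ := h.cover g
  · exact h.base_comm _ _ (h.xy_mem_base i j) hxy
  · rw [mul_assoc, hz, ← mul_assoc, h.base_comm _ _ (h.xy_mem_base i j) hxy, mul_assoc]

theorem pow_eq_one_iff (h : IsWr S m x y z) (k : ℤ) : x ^ k = 1 ↔ y ^ k = 1 := by
  rw [← orderOf_dvd_iff_zpow_eq_one, ← orderOf_dvd_iff_zpow_eq_one, h.hx, h.hy]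

theorem orderOf_xy (h : IsWr S m x y z) : orderOf (x * y) = 2 ^ (m + 2) := by
  rw [← h.hx, orderOf_eq_orderOf_iff]
  intro k
  rw [(show Commute x y from h.comm).mul_pow]
  constructor
  · intro e
    have e1 : x ^ (k : ℤ) = y ^ (-(k : ℤ)) := by
      rw [zpow_neg, zpow_natCast, zpow_natCast]
      exact eq_inv_of_mul_eq_one_left e
    have := h.disj' _ _ e1
    rwa [zpow_natCast] at this
  · intro e
    have e2 : y ^ k = 1 := by
      have := (h.pow_eq_one_iff k).mp (by rw [zpow_natCast]; exact e)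
      rwa [zpow_natCast] at this
    rw [e, e2, one_mul]

theorem orderOf_xy_inv (h : IsWr S m x y z) : orderOf (x * y⁻¹) = 2 ^ (m + 2) := by
  rw [← h.hx, orderOf_eq_orderOf_iff]
  intro k
  rw [(show Commute x y⁻¹ from (show Commute x y from h.comm).inv_right).mul_pow]
  constructor
  · intro e
    have e1 : x ^ (k : ℤ) = y ^ ((k : ℤ)) := by
      rw [zpow_natCast, zpow_natCast]
      have := eq_inv_of_mul_eq_one_left e
      rwa [inv_pow, inv_inv] at this
    have := h.disj' _ _ e1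
    rwa [zpow_natCast] at this
  · intro e
    have e2 : y ^ k = 1 := by
      have := (h.pow_eq_one_iff k).mp (by rw [zpow_natCast]; exact e)
      rwa [zpow_natCast] at this
    rw [e, inv_pow, e2, inv_one, one_mul]

theorem center_eq (h : IsWr S m x y z) : center S = zpowers (x * y) := by
  ext g
  constructor
  · intro hg
    rw [mem_center_iff] at hg
    obtain ⟨i, j, rfl | rfl⟩ := h.cover g
    · have h1 := hg z
      rw [h.z_mul_xy] at h1
      have h2 := h.eq_of_eq _ _ _ _ (mul_right_cancel h1)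
      rw [← h2.1, ← (show Commute x y from h.comm).mul_zpow]
      exact zpow_mem (mem_zpowers _) j
    · exfalso
      apply h.x_ne_y
      have h1 := hg x
      have e1 : x * (x ^ i * y ^ j * z) = x ^ i * y ^ j * x * z := by
        rw [← mul_assoc, h.base_comm _ _ h.x_mem_base (h.xy_mem_base i j)]
      have e2 : x ^ i * y ^ j * z * x = x ^ i * y ^ j * y * z := by
        have := h.z_mul_x 1
        rw [zpow_one, zpow_one] at this
        rw [mul_assoc (x ^ i * y ^ j) z x, this]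
        simp only [mul_assoc]
      rw [e1, e2] at h1
      exact mul_left_cancel (mul_right_cancel h1)
  · intro hg
    obtain ⟨k, rfl⟩ := mem_zpowers_iff.mp hg
    rw [mem_center_iff]
    intro a
    have : Commute a (x * y) := h.xy_central a
    exact (this.zpow_right k).eq

theorem zpowers_xy_inv_le (h : IsWr S m x y z) : zpowers (x * y⁻¹) ≤ h.base :=
  zpowers_le.mpr ⟨1, -1, by simp⟩

/-- `a σ(a)⁻¹ ∈ ⟨x y⁻¹⟩` -/
theorem delta_mem (h : IsWr S m x y z) (a : S) (ha : a ∈ h.base) :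
    a * (z * a * z⁻¹)⁻¹ ∈ zpowers (x * y⁻¹) := by
  obtain ⟨i, j, rfl⟩ := ha
  rw [h.conj_z_base]
  have e : x ^ i * y ^ j * (x ^ j * y ^ i)⁻¹ = (x * y⁻¹) ^ (i - j) := by
    rw [(show Commute x y⁻¹ from (show Commute x y from h.comm).inv_right).mul_zpow, inv_zpow,
      ← zpow_neg, mul_inv_rev, ← zpow_neg, ← zpow_neg]
    have c := h.commute_xy
    calc x ^ i * y ^ j * (y ^ (-i) * x ^ (-j)) = x ^ i * (y ^ j * y ^ (-i)) * x ^ (-j) := by group
      _ = x ^ i * (x ^ (-j) * (y ^ j * y ^ (-i))) := by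
          rw [mul_assoc (x ^ i), ← zpow_add, (c (-j) (j + -i)).eq]
      _ = x ^ (i - j) * y ^ (-(i - j)) := by
          rw [← mul_assoc, ← zpow_add, ← zpow_add]; congr 2 <;> ring
  rw [e]; exact zpow_mem (mem_zpowers _) _

theorem normal_xy_inv (h : IsWr S m x y z) : (zpowers (x * y⁻¹)).Normal := by
  constructor
  intro a ha g
  obtain ⟨k, rfl⟩ := mem_zpowers_iff.mp ha
  have hxy : x * y⁻¹ ∈ h.base := ⟨1, -1, by simp⟩
  have key : g * (x * y⁻¹) * g⁻¹ ∈ zpowers (x * y⁻¹) := by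
    obtain ⟨i, j, rfl | rfl⟩ := h.cover g
    · rw [h.base_comm _ _ (h.xy_mem_base i j) hxy, mul_assoc, mul_inv_cancel, mul_one]
      exact mem_zpowers _
    · have e1 : x ^ i * y ^ j * z * (x * y⁻¹) * (x ^ i * y ^ j * z)⁻¹ =
          x ^ i * y ^ j * (z * (x * y⁻¹) * z⁻¹) * (x ^ i * y ^ j)⁻¹ := by group
      have e2 : z * (x * y⁻¹) * z⁻¹ = (x * y⁻¹)⁻¹ := by
        have := h.conj_z_base 1 (-1)
        simp only [zpow_one, zpow_neg] at this
        rw [this, mul_inv_rev, inv_inv,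
          (show Commute x⁻¹ y from (show Commute x y from h.comm).inv_left).eq]
      rw [e1, e2, h.base_comm _ _ (h.xy_mem_base i j) (h.base.inv_mem hxy), mul_assoc,
        mul_inv_cancel, mul_one]
      exact inv_mem (mem_zpowers _)
  have : g * (x * y⁻¹) ^ k * g⁻¹ = (g * (x * y⁻¹) * g⁻¹) ^ k := by rw [conj_zpow]
  rw [this]; exact zpow_mem key k

theorem commutator_eq (h : IsWr S m x y z) : commutator S = zpowers (x * y⁻¹) := by
  apply le_antisymm
  · rw [commutator_def, Subgroup.commutator_le]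
    have case2 : ∀ a b : S, a ∈ h.base → b ∈ h.base → ⁅a, b * z⁆ ∈ zpowers (x * y⁻¹) := by
      intro a b ha hb
      have e : ⁅a, b * z⁆ = a * (z * a * z⁻¹)⁻¹ := by
        rw [commutatorElement_def]
        calc a * (b * z) * a⁻¹ * (b * z)⁻¹ = a * (b * (z * a * z⁻¹)⁻¹) * b⁻¹ := by group
          _ = a * ((z * a * z⁻¹)⁻¹ * b) * b⁻¹ := by
              rw [h.base_comm _ _ hb (h.base.inv_mem (h.conj_z_mem_base a ha))]
          _ = _ := by group
      rw [e]; exact h.delta_mem a ha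
    intro g₁ _ g₂ _
    obtain ⟨i, j, rfl | rfl⟩ := h.cover g₁ <;> obtain ⟨k, l, rfl | rfl⟩ := h.cover g₂
    · rw [commutatorElement_eq_one_iff_mul_comm.mpr
        (h.base_comm _ _ (h.xy_mem_base i j) (h.xy_mem_base k l))]
      exact one_mem _
    · exact case2 _ _ (h.xy_mem_base i j) (h.xy_mem_base k l)
    · rw [← commutatorElement_inv]
      exact inv_mem (case2 _ _ (h.xy_mem_base k l) (h.xy_mem_base i j))
    · have hc : x ^ k * y ^ l * (x ^ i * y ^ j)⁻¹ ∈ h.base :=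
        h.base.mul_mem (h.xy_mem_base k l) (h.base.inv_mem (h.xy_mem_base i j))
      have e : ⁅x ^ i * y ^ j * z, x ^ k * y ^ l * z⁆ =
          (x ^ k * y ^ l * (x ^ i * y ^ j)⁻¹ *
            (z * (x ^ k * y ^ l * (x ^ i * y ^ j)⁻¹) * z⁻¹)⁻¹)⁻¹ := by
        rw [commutatorElement_def]
        have hs := h.conj_z_mem_base _ hc
        calc x ^ i * y ^ j * z * (x ^ k * y ^ l * z) * (x ^ i * y ^ j * z)⁻¹ * (x ^ k * y ^ l * z)⁻¹
            = x ^ i * y ^ j * (z * (x ^ k * y ^ l * (x ^ i * y ^ j)⁻¹) * z⁻¹) * (x ^ k * y ^ l)⁻¹ := by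
              group
          _ = (z * (x ^ k * y ^ l * (x ^ i * y ^ j)⁻¹) * z⁻¹) * (x ^ i * y ^ j) * (x ^ k * y ^ l)⁻¹ := by
              rw [h.base_comm _ _ (h.xy_mem_base i j) hs]
          _ = _ := by group
      rw [e]; exact inv_mem (h.delta_mem _ hc)
  · rw [zpowers_le]
    have e : ⁅z, x⁆ = (x * y⁻¹)⁻¹ := by
      rw [commutatorElement_def, h.rel, mul_inv_rev, inv_inv]
    have h1 : (x * y⁻¹)⁻¹ ∈ commutator S := by
      rw [← e]; exact commutator_mem_commutator (mem_top z) (mem_top x)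
    have := inv_mem h1
    rwa [inv_inv] at this

theorem center_le_base (h : IsWr S m x y z) : center S ≤ h.base := by
  rw [h.center_eq, zpowers_le]
  exact ⟨1, 1, by simp⟩

theorem card_center (h : IsWr S m x y z) : Nat.card (center S) = 2 ^ (m + 2) := by
  rw [h.center_eq, Nat.card_zpowers, h.orderOf_xy]

theorem quotient_center_iso (h : IsWr S m x y z) :
    Nonempty (S ⧸ center S ≃* DihedralGroup (2 ^ (m + 2))) := by
  have := h.finite
  apply Cfsg.Agent.Lib.Helper14.nonempty_mulEquiv_dihedral (2 ^ (m + 2)) _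
    (QuotientGroup.mk' (center S) x) (QuotientGroup.mk' (center S) z)
  · rw [← map_pow, h.x_pow_card, map_one]
  · rw [← map_mul, h.z_mul_self, map_one]
  · rw [← map_mul, ← map_mul, ← map_inv]
    have e : z * x * z = y := by
      have := h.rel
      rwa [h.z_inv] at this
    rw [e, QuotientGroup.mk'_apply, QuotientGroup.mk'_apply, QuotientGroup.eq, h.center_eq,
      ← mul_inv_rev]
    exact inv_mem (mem_zpowers _)
  · rw [← h.hx, orderOf_eq_orderOf_iff]
    intro k
    rw [← map_pow, QuotientGroup.mk'_apply, QuotientGroup.eq_one_iff, h.center_eq]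
    constructor
    · intro hk
      obtain ⟨l, hl⟩ := mem_zpowers_iff.mp hk
      rw [(show Commute x y from h.comm).mul_zpow] at hl
      have e1 := h.eq_of_eq l l k 0 (by rw [hl, zpow_zero, mul_one, zpow_natCast])
      have e2 : x ^ l = 1 := (h.pow_eq_one_iff l).mpr (by rw [e1.2, zpow_zero])
      rw [← zpow_natCast, ← e1.1, e2]
    · intro hk
      rw [hk]; exact one_mem _
  · intro hz
    obtain ⟨k, hk⟩ := mem_zpowers_iff.mp hz
    rw [← map_zpow, QuotientGroup.mk'_apply, QuotientGroup.mk'_apply, QuotientGroup.eq] at hk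
    apply h.z_not_mem
    have h1 := h.center_le_base hk
    have h2 := h.base.mul_mem (h.xy_mem_base k 0) h1
    have e : x ^ k * y ^ (0 : ℤ) * ((x ^ k)⁻¹ * z) = z := by group
    rwa [e] at h2
  · rw [← index_eq_card]
    have h1 := (center S).card_mul_index
    have e : 2 ^ (2 * (m + 2) + 1) = 2 ^ (m + 2) * (2 * 2 ^ (m + 2)) := by ring
    rw [h.card_center, h.card, e] at h1
    exact Nat.eq_of_mul_eq_mul_left (by positivity) h1

end IsWr

end Cfsg.Agent.Lib.Helper18
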