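import Mathlib
import Cfsg.Agent.Lib.Helper18.Wreathed

set_option autoImplicit false

/-!
# The base subgroup of a wreathed 2-group: structure and uniqueness
-/

namespace Cfsg.Agent.Lib.Helper18

open Subgroup

namespace IsWr

variable {S : Type*} [Group S] {m : ℕ} {x y z : S}

theorem base_iso (h : IsWr S m x y z) :
    Nonempty (h.base ≃* Multiplicative (ZMod (2 ^ (m + 2)) × ZMod (2 ^ (m + 2)))) := by
  let φ : zpowers x × zpowers y →* S :=
    MonoidHom.noncommCoprod (zpowers x).subtype (zpowers y).subtype (by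
      rintro ⟨a, ha⟩ ⟨b, hb⟩
      obtain ⟨i, rfl⟩ := mem_zpowers_iff.mp ha
      obtain ⟨j, rfl⟩ := mem_zpowers_iff.mp hb
      exact h.commute_xy i j)
  have hφ : ∀ p : zpowers x × zpowers y, φ p = (p.1 : S) * (p.2 : S) := fun p => rfl
  have hinj : Function.Injective φ := by
    have := mul_injective_of_disjoint (disjoint_iff.mpr h.disj)
    intro p q hpq
    apply this
    simpa [hφ] using hpq
  have hrange : φ.range = h.base := by
    ext g
    constructor
    · rintro ⟨⟨⟨a, ha⟩, ⟨b, hb⟩⟩, rfl⟩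
      obtain ⟨i, rfl⟩ := mem_zpowers_iff.mp ha
      obtain ⟨j, rfl⟩ := mem_zpowers_iff.mp hb
      exact ⟨i, j, rfl⟩
    · rintro ⟨i, j, rfl⟩
      exact ⟨(⟨x ^ i, zpow_mem (mem_zpowers x) i⟩, ⟨y ^ j, zpow_mem (mem_zpowers y) j⟩), rfl⟩
  have e1 : zpowers x × zpowers y ≃* h.base :=
    (MonoidHom.ofInjective hinj).trans (MulEquiv.subgroupCongr hrange)
  have hcx : Nat.card (zpowers x) = 2 ^ (m + 2) := by rw [Nat.card_zpowers, h.hx]
  have hcy : Nat.card (zpowers y) = 2 ^ (m + 2) := by rw [Nat.card_zpowers, h.hy]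
  obtain ⟨e2⟩ : Nonempty (Multiplicative (ZMod (2 ^ (m + 2))) ≃* zpowers x) := by
    rw [← hcx]; exact ⟨zmodCyclicMulEquiv inferInstance⟩
  obtain ⟨e3⟩ : Nonempty (Multiplicative (ZMod (2 ^ (m + 2))) ≃* zpowers y) := by
    rw [← hcy]; exact ⟨zmodCyclicMulEquiv inferInstance⟩
  exact ⟨(((MulEquiv.prodMultiplicative _ _).trans (MulEquiv.prodCongr e2 e3)).trans e1).symm⟩

theorem base_isMulCommutative (h : IsWr S m x y z) : IsMulCommutative h.base :=
  ⟨⟨fun a b => Subtype.ext (h.base_comm _ _ a.2 b.2)⟩⟩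

/-- an element of the base commuting with some element outside the base is central -/
theorem central_of_comm_outside (h : IsWr S m x y z) (c g : S) (hc : c ∈ h.base) (hg : g ∉ h.base)
    (hcg : g * c = c * g) : c ∈ center S := by
  have hzc : z * c = c * z := by
    obtain ⟨i, j, hg' | hg'⟩ := h.cover g
    · exact absurd (hg' ▸ h.xy_mem_base i j) hg
    · rw [hg'] at hcg
      have hs : z * c * z⁻¹ ∈ h.base := h.conj_z_mem_base c hc
      have h2 : x ^ i * y ^ j * (z * c * z⁻¹) = x ^ i * y ^ j * c := by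
        calc x ^ i * y ^ j * (z * c * z⁻¹) = (x ^ i * y ^ j * z * c) * z⁻¹ := by group
          _ = (c * (x ^ i * y ^ j * z)) * z⁻¹ := by rw [hcg]
          _ = c * (x ^ i * y ^ j) := by group
          _ = _ := h.base_comm _ _ hc (h.xy_mem_base i j)
      have h3 := mul_left_cancel h2
      calc z * c = (z * c * z⁻¹) * z := by group
        _ = c * z := by rw [h3]
  rw [mem_center_iff]
  intro s
  obtain ⟨i, j, rfl | rfl⟩ := h.cover s
  · exact h.base_comm _ _ (h.xy_mem_base i j) hc
  · rw [mul_assoc, hzc, ← mul_assoc, h.base_comm _ _ (h.xy_mem_base i j) hc, mul_assoc]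

/-- the base is the only commutative subgroup of index two -/
theorem eq_base_of_comm (h : IsWr S m x y z) (U : Subgroup S) (hU : IsMulCommutative U)
    (hcard : Nat.card U = 2 ^ (2 * (m + 2))) : U = h.base := by
  have := h.finite
  by_contra hne
  have hcb : Nat.card h.base = 2 ^ (2 * (m + 2)) := by rw [h.card_base]; ring
  obtain ⟨g, hgU, hgb⟩ : ∃ g ∈ U, g ∉ h.base := by
    by_contra hcon
    push Not at hcon
    exact hne (Subgroup.eq_of_le_of_card_ge hcon (by rw [hcard, hcb]))
  have hle : U ⊓ h.base ≤ center S := by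
    intro c hc
    apply h.central_of_comm_outside c g hc.2 hgb
    have := hU.is_comm.comm ⟨g, hgU⟩ ⟨c, hc.1⟩
    exact congrArg Subtype.val this
  have hUi : U.index = 2 := by
    have h1 := U.card_mul_index
    rw [hcard, h.card, pow_succ] at h1
    exact Nat.eq_of_mul_eq_mul_left (by positivity) h1
  have h1 := Subgroup.index_inf_le (H := U) (K := h.base)
  rw [hUi, h.index_base] at h1
  have h2 := Subgroup.card_le_of_le hle
  rw [h.card_center] at h2
  have h3 := (U ⊓ h.base).card_mul_index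
  rw [h.card] at h3
  have h4 : 2 ^ (2 * (m + 2) + 1) ≤ 2 ^ (m + 2) * 4 := by
    rw [← h3]; exact Nat.mul_le_mul h2 h1
  have e : 2 ^ (2 * (m + 2) + 1) = 2 ^ (m + 2) * (2 ^ (m + 2) * 2) := by ring
  rw [e] at h4
  have h5 := Nat.le_of_mul_le_mul_left h4 (by positivity)
  have h6 : 2 ^ 2 ≤ 2 ^ (m + 2) := Nat.pow_le_pow_right (by norm_num) (by omega)
  omega

end IsWr

end Cfsg.Agent.Lib.Helper18
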