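import Mathlib
import Cfsg.Agent.Lib.Helper18.Wreathed

set_option autoImplicit false

/-!
# Involutions of wreathed 2-groups
-/

namespace Cfsg.Agent.Lib.Helper18

open Subgroup
open scoped commutatorElement

/-- a subgroup containing the commutator subgroup is normal -/
theorem normal_of_commutator_le' {G : Type*} [Group G] (H : Subgroup G) (hH : commutator G ≤ H) :
    H.Normal := by
  constructor
  intro a ha g
  have h1 : ⁅g, a⁆ ∈ H := hH (commutator_mem_commutator (mem_top g) (mem_top a))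
  have e : g * a * g⁻¹ = ⁅g, a⁆ * a := by rw [commutatorElement_def]; group
  rw [e]; exact H.mul_mem h1 ha

/-- `|H ⊔ ⟨g⟩| = 2 |H|` for `H` normal, `g² ∈ H`, `g ∉ H` -/
theorem card_sup_zpowers_of_sq_mem {G : Type*} [Group G] (H : Subgroup G) [hH : H.Normal] (g : G)
    (hg : g * g ∈ H) (hgH : g ∉ H) : Nat.card ↥(H ⊔ zpowers g) = 2 * Nat.card H := by
  have hle : H ≤ H ⊔ zpowers g := le_sup_left
  have hgm : g ∈ H ⊔ zpowers g := mem_sup_right (mem_zpowers g)
  have h2 : H.relIndex (H ⊔ zpowers g) = 2 := by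
    rw [relIndex, index_eq_two_iff_exists_notMem_and]
    refine ⟨⟨g, hgm⟩, ?_, ?_⟩
    · rw [mem_subgroupOf]; exact hgH
    · rintro ⟨b, hb⟩
      rw [mem_subgroupOf, mem_subgroupOf]
      simp only [Subgroup.coe_mul]
      rcases (IsQD.mem_sup_zpowers_iff H g hg b).mp hb with h1 | h1
      · right; exact h1
      · left
        have h3 := hH.conj_mem _ h1 g
        have e : b * g = g * (g⁻¹ * b) * g⁻¹ * (g * g) := by group
        rw [e]; exact H.mul_mem h3 hg
  have h1 := Subgroup.card_mul_index (H.subgroupOf (H ⊔ zpowers g))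
  rw [Nat.card_congr (Subgroup.subgroupOfEquivOfLe hle).toEquiv] at h1
  rw [relIndex] at h2
  rw [← h1, h2, mul_comm]

namespace IsWr

variable {S : Type*} [Group S] {m : ℕ} {x y z : S}

theorem u_mul_self (h : IsWr S m x y z) : x ^ (2 ^ (m + 1)) * x ^ (2 ^ (m + 1)) = 1 := by
  rw [← pow_add, ← h.x_pow_card]; congr 1; ring

theorem u'_mul_self (h : IsWr S m x y z) : y ^ (2 ^ (m + 1)) * y ^ (2 ^ (m + 1)) = 1 := by
  rw [← pow_add, ← h.y_pow_card]; congr 1; ring

theorem u_orderOf (h : IsWr S m x y z) : orderOf (x ^ (2 ^ (m + 1))) = 2 := by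
  rw [orderOf_pow_of_dvd (by positivity) (by rw [h.hx]; exact pow_dvd_pow 2 (by omega)), h.hx]
  rw [show m + 2 = (m + 1) + 1 from rfl, pow_succ]
  exact Nat.mul_div_cancel_left 2 (by positivity)

theorem u'_orderOf (h : IsWr S m x y z) : orderOf (y ^ (2 ^ (m + 1))) = 2 := by
  rw [orderOf_pow_of_dvd (by positivity) (by rw [h.hy]; exact pow_dvd_pow 2 (by omega)), h.hy]
  rw [show m + 2 = (m + 1) + 1 from rfl, pow_succ]
  exact Nat.mul_div_cancel_left 2 (by positivity)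

theorem conj_u (h : IsWr S m x y z) : z * x ^ (2 ^ (m + 1)) * z⁻¹ = y ^ (2 ^ (m + 1)) := by
  rw [← conj_pow, h.rel]

/-- elements of `⟨x⟩` with trivial square -/
theorem x_pow_cases (h : IsWr S m x y z) (i : ℤ) (e : x ^ i * x ^ i = 1) :
    x ^ i = 1 ∨ x ^ i = x ^ (2 ^ (m + 1)) := by
  have h1 : x ^ i ∈ zpowers (x ^ (2 ^ (m + 1))) := by
    apply mem_zpowers_of_orderOf_dvd x _ _ (by rw [h.hx]; positivity)
      (zpow_mem (mem_zpowers x) i) (pow_mem (mem_zpowers x) _)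
    rw [h.u_orderOf]
    exact orderOf_dvd_of_pow_eq_one (by rw [pow_two]; exact e)
  exact eq_one_or_eq_of_mem_zpowers_of_orderOf_two _ _ h.u_orderOf h1

theorem y_pow_cases (h : IsWr S m x y z) (i : ℤ) (e : y ^ i * y ^ i = 1) :
    y ^ i = 1 ∨ y ^ i = y ^ (2 ^ (m + 1)) := by
  have h1 : y ^ i ∈ zpowers (y ^ (2 ^ (m + 1))) := by
    apply mem_zpowers_of_orderOf_dvd y _ _ (by rw [h.hy]; positivity)
      (zpow_mem (mem_zpowers y) i) (pow_mem (mem_zpowers y) _)
    rw [h.u'_orderOf]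
    exact orderOf_dvd_of_pow_eq_one (by rw [pow_two]; exact e)
  exact eq_one_or_eq_of_mem_zpowers_of_orderOf_two _ _ h.u'_orderOf h1

/-- squares of elements outside the base -/
theorem sq_xyz (h : IsWr S m x y z) (i j : ℤ) :
    (x ^ i * y ^ j * z) * (x ^ i * y ^ j * z) = x ^ (i + j) * y ^ (i + j) := by
  calc (x ^ i * y ^ j * z) * (x ^ i * y ^ j * z)
      = x ^ i * y ^ j * (z * (x ^ i * y ^ j)) * z := by group
    _ = x ^ i * y ^ j * (x ^ j * y ^ i) * (z * z) := by rw [h.z_mul_xy]; group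
    _ = _ := by
        rw [h.z_mul_self, mul_one, zpow_add, zpow_add]
        have c := (h.commute_xy j j).eq
        calc x ^ i * y ^ j * (x ^ j * y ^ i) = x ^ i * (y ^ j * x ^ j) * y ^ i := by group
          _ = x ^ i * (x ^ j * y ^ j) * y ^ i := by rw [c]
          _ = x ^ i * x ^ j * (y ^ j * y ^ i) := by group
          _ = _ := by rw [← zpow_add y, add_comm j i, zpow_add]

/-- `c^k z` where `c = x y⁻¹` -/
theorem c_zpow (h : IsWr S m x y z) (k : ℤ) : (x * y⁻¹) ^ k = x ^ k * y ^ (-k) := by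
  rw [(show Commute x y⁻¹ from (show Commute x y from h.comm).inv_right).mul_zpow, inv_zpow,
    zpow_neg]

/-- classification of the involutions -/
theorem involution_cases (h : IsWr S m x y z) (t : S) (ht : orderOf t = 2) :
    t = x ^ (2 ^ (m + 1)) ∨ t = y ^ (2 ^ (m + 1)) ∨ t = x ^ (2 ^ (m + 1)) * y ^ (2 ^ (m + 1)) ∨
      ∃ k : ℤ, t = (x * y⁻¹) ^ k * z := by
  have ht2 : t * t = 1 := by
    have := pow_orderOf_eq_one t; rwa [ht, pow_two] at this
  have ht1 : t ≠ 1 := by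
    intro e; rw [e, orderOf_one] at ht; omega
  obtain ⟨i, j, rfl | rfl⟩ := h.cover t
  · have e1 : x ^ (2 * i) * y ^ (2 * j) = x ^ (0 : ℤ) * y ^ (0 : ℤ) := by
      rw [zpow_zero, zpow_zero, one_mul, ← ht2, two_mul, two_mul, zpow_add, zpow_add]
      have c := (h.commute_xy i j).eq
      calc x ^ i * x ^ i * (y ^ j * y ^ j) = x ^ i * (x ^ i * y ^ j) * y ^ j := by group
        _ = x ^ i * (y ^ j * x ^ i) * y ^ j := by rw [c]
        _ = _ := by group
    have e2 := h.eq_of_eq _ _ _ _ e1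
    have e2x : x ^ i * x ^ i = 1 := by
      have := e2.1; rwa [zpow_zero, two_mul, zpow_add] at this
    have e2y : y ^ j * y ^ j = 1 := by
      have := e2.2; rwa [zpow_zero, two_mul, zpow_add] at this
    rcases h.x_pow_cases i e2x with hx | hx <;> rcases h.y_pow_cases j e2y with hy | hy
    · exfalso; apply ht1; rw [hx, hy, one_mul]
    · right; left; rw [hx, hy, one_mul]
    · left; rw [hx, hy, mul_one]
    · right; right; left; rw [hx, hy]
  · right; right; right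
    rw [h.sq_xyz] at ht2
    have e1 : x ^ (i + j) = 1 := by
      apply h.disj' (i + j) (-(i + j))
      rw [zpow_neg]; exact eq_inv_of_mul_eq_one_left ht2
    refine ⟨i, ?_⟩
    rw [h.c_zpow]
    have e2 : y ^ (i + j) = 1 := (h.pow_eq_one_iff _).mp e1
    have e3 : y ^ j = y ^ (-i) := by
      rw [zpow_add] at e2
      rw [zpow_neg]; exact eq_inv_of_mul_eq_one_right e2
    rw [e3]

theorem u_not_mem_c (h : IsWr S m x y z) : x ^ (2 ^ (m + 1)) ∉ zpowers (x * y⁻¹) := by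
  intro hu
  obtain ⟨k, hk⟩ := mem_zpowers_iff.mp hu
  rw [h.c_zpow] at hk
  have e := h.eq_of_eq k (-k) ((2 ^ (m + 1) : ℕ) : ℤ) 0 (by
    rw [hk, zpow_zero, mul_one, zpow_natCast])
  have e1 : y ^ k = 1 := by
    have := e.2
    rw [zpow_zero, zpow_neg, inv_eq_one] at this
    exact this
  have e2 : x ^ k = 1 := (h.pow_eq_one_iff k).mpr e1
  have e3 := e.1
  rw [e2, zpow_natCast] at e3
  have := h.u_orderOf
  rw [← e3, orderOf_one] at this
  omega

theorem normal_B (h : IsWr S m x y z) :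
    (zpowers (x * y⁻¹) ⊔ zpowers (x ^ (2 ^ (m + 1)))).Normal := by
  apply normal_of_commutator_le'
  rw [h.commutator_eq]
  exact le_sup_left

theorem B_le_base (h : IsWr S m x y z) :
    zpowers (x * y⁻¹) ⊔ zpowers (x ^ (2 ^ (m + 1))) ≤ h.base := by
  rw [sup_le_iff]
  exact ⟨h.zpowers_xy_inv_le, zpowers_le.mpr (h.base.pow_mem h.x_mem_base _)⟩

theorem card_B (h : IsWr S m x y z) :
    Nat.card ↥(zpowers (x * y⁻¹) ⊔ zpowers (x ^ (2 ^ (m + 1)))) = 2 * 2 ^ (m + 2) := by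
  have := h.normal_xy_inv
  rw [card_sup_zpowers_of_sq_mem _ _ (by rw [h.u_mul_self]; exact one_mem _) h.u_not_mem_c,
    Nat.card_zpowers, h.orderOf_xy_inv]

theorem card_omega (h : IsWr S m x y z) :
    Nat.card ↥(zpowers (x * y⁻¹) ⊔ zpowers (x ^ (2 ^ (m + 1))) ⊔ zpowers z) = 2 ^ (m + 4) := by
  have := h.normal_B
  rw [card_sup_zpowers_of_sq_mem _ _ (by rw [h.z_mul_self]; exact one_mem _)
    (fun hz => h.z_not_mem (h.B_le_base hz)), h.card_B]
  ring

theorem cz_orderOf (h : IsWr S m x y z) (k : ℤ) : orderOf ((x * y⁻¹) ^ k * z) = 2 := by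
  have : Fact (Nat.Prime 2) := ⟨Nat.prime_two⟩
  apply orderOf_eq_prime
  · rw [pow_two, h.c_zpow, h.sq_xyz]
    simp
  · intro e
    apply h.z_not_mem
    have : z = ((x * y⁻¹) ^ k)⁻¹ := eq_inv_of_mul_eq_one_right e
    have hm : ((x * y⁻¹) ^ k)⁻¹ ∈ h.base := h.base.inv_mem (h.base.zpow_mem ⟨1, -1, by simp⟩ k)
    rwa [← this] at hm

theorem closure_involutions_eq (h : IsWr S m x y z) :
    closure {t : S | orderOf t = 2} =
      zpowers (x * y⁻¹) ⊔ zpowers (x ^ (2 ^ (m + 1))) ⊔ zpowers z := by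
  have hu : x ^ (2 ^ (m + 1)) ∈ zpowers (x * y⁻¹) ⊔ zpowers (x ^ (2 ^ (m + 1))) :=
    mem_sup_right (mem_zpowers _)
  have hu' : y ^ (2 ^ (m + 1)) ∈ zpowers (x * y⁻¹) ⊔ zpowers (x ^ (2 ^ (m + 1))) := by
    rw [← h.conj_u]
    exact h.normal_B.conj_mem _ hu z
  apply le_antisymm
  · rw [closure_le]
    intro t ht
    rcases h.involution_cases t ht with rfl | rfl | rfl | ⟨k, rfl⟩
    · exact mem_sup_left hu
    · exact mem_sup_left hu'
    · exact mem_sup_left (mul_mem hu hu')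
    · exact mul_mem (mem_sup_left (mem_sup_left (zpow_mem (mem_zpowers _) k)))
        (mem_sup_right (mem_zpowers z))
  · rw [sup_le_iff, sup_le_iff, zpowers_le, zpowers_le, zpowers_le]
    have hz : z ∈ closure {t : S | orderOf t = 2} := subset_closure h.hz
    refine ⟨⟨?_, subset_closure h.u_orderOf⟩, hz⟩
    have h1 : (x * y⁻¹) * z ∈ closure {t : S | orderOf t = 2} :=
      subset_closure (by have := h.cz_orderOf 1; rwa [zpow_one] at this)
    have := mul_mem h1 (inv_mem hz)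
    rwa [mul_inv_cancel_right] at this

theorem omega_sup_x (h : IsWr S m x y z) :
    zpowers (x * y⁻¹) ⊔ zpowers (x ^ (2 ^ (m + 1))) ⊔ zpowers z ⊔ zpowers x = ⊤ := by
  rw [eq_top_iff]
  intro g _
  have hx : x ∈ zpowers (x * y⁻¹) ⊔ zpowers (x ^ (2 ^ (m + 1))) ⊔ zpowers z ⊔ zpowers x :=
    mem_sup_right (mem_zpowers x)
  have hc : x * y⁻¹ ∈ zpowers (x * y⁻¹) ⊔ zpowers (x ^ (2 ^ (m + 1))) ⊔ zpowers z ⊔ zpowers x :=
    mem_sup_left (mem_sup_left (mem_sup_left (mem_zpowers _)))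
  have hz : z ∈ zpowers (x * y⁻¹) ⊔ zpowers (x ^ (2 ^ (m + 1))) ⊔ zpowers z ⊔ zpowers x :=
    mem_sup_left (mem_sup_right (mem_zpowers _))
  have hy : y ∈ zpowers (x * y⁻¹) ⊔ zpowers (x ^ (2 ^ (m + 1))) ⊔ zpowers z ⊔ zpowers x := by
    have := mul_mem (inv_mem hc) hx
    have e : (x * y⁻¹)⁻¹ * x = y := by
      rw [mul_inv_rev, inv_inv, mul_assoc, inv_mul_cancel, mul_one]
    rwa [e] at this
  obtain ⟨i, j, rfl | rfl⟩ := h.cover g
  · exact mul_mem (zpow_mem hx i) (zpow_mem hy j)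
  · exact mul_mem (mul_mem (zpow_mem hx i) (zpow_mem hy j)) hz

/-- counting a three-element family -/
theorem card_subtype_eq_three {α : Type*} (P : α → Prop) (a b c : α) (hab : a ≠ b) (hac : a ≠ c)
    (hbc : b ≠ c) (hP : ∀ C, P C ↔ C = a ∨ C = b ∨ C = c) : Nat.card {C : α // P C} = 3 := by
  have h1 : {C | P C} = ({a, b, c} : Set α) := by
    ext C; simp [hP]
  rw [show Nat.card {C : α // P C} = Nat.card ({C | P C} : Set α) from rfl, h1,
    Nat.card_coe_set_eq, Set.ncard_eq_three]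
  exact ⟨a, b, c, hab, hac, hbc, rfl⟩

theorem uu'_eq (h : IsWr S m x y z) :
    x ^ (2 ^ (m + 1)) * y ^ (2 ^ (m + 1)) = (x * y) ^ (2 ^ (m + 1)) := by
  rw [(show Commute x y from h.comm).mul_pow]

theorem uu'_central (h : IsWr S m x y z) (g : S) :
    g * (x ^ (2 ^ (m + 1)) * y ^ (2 ^ (m + 1))) = x ^ (2 ^ (m + 1)) * y ^ (2 ^ (m + 1)) * g := by
  rw [h.uu'_eq]
  have : Commute g (x * y) := h.xy_central g
  exact (this.pow_right _).eq

theorem u'_ne_one (h : IsWr S m x y z) : y ^ (2 ^ (m + 1)) ≠ 1 := by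
  intro e
  have := h.u'_orderOf
  rw [e, orderOf_one] at this; omega

theorem isConj_z_cz (h : IsWr S m x y z) (k : ℤ) : IsConj z ((x * y⁻¹) ^ k * z) := by
  rw [isConj_iff]
  refine ⟨x ^ k, ?_⟩
  rw [h.c_zpow]
  calc x ^ k * z * (x ^ k)⁻¹ = x ^ k * (z * x ^ (-k)) := by group
    _ = x ^ k * (y ^ (-k) * z) := by rw [h.z_mul_x]
    _ = _ := by group

end IsWr

end Cfsg.Agent.Lib.Helper18
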