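import Mathlib
import Cfsg.Agent.Lib.Helper18.WreathedInvol
import Cfsg.Agent.Lib.Helper18.WreathedBase

set_option autoImplicit false

/-!
# Klein four-subgroups of wreathed 2-groups
-/

namespace Cfsg.Agent.Lib.Helper18

open Subgroup

/-- `⟨w⟩` is normal for central `w` -/
theorem normal_zpowers_of_central {G : Type*} [Group G] (w : G) (hw : ∀ a : G, a * w = w * a) :
    (zpowers w).Normal := by
  constructor
  intro a ha g
  obtain ⟨j, rfl⟩ := mem_zpowers_iff.mp ha
  have hc : Commute g w := hw g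
  have e : g * w ^ j * g⁻¹ = w ^ j := by rw [(hc.zpow_right j).eq]; group
  rw [e]; exact zpow_mem (mem_zpowers _) j

/-- elements of `⟨w⟩ ⊔ ⟨g⟩` for a central involution `w` and an involution `g` -/
theorem mem_sup_involutions_iff {G : Type*} [Group G] (w g : G) (hw : ∀ a : G, a * w = w * a)
    (hw2 : orderOf w = 2) (hg2 : g * g = 1) (a : G) :
    a ∈ zpowers w ⊔ zpowers g ↔ a = 1 ∨ a = w ∨ a = g ∨ a = g * w := by
  have := normal_zpowers_of_central w hw
  have hginv : g⁻¹ = g := inv_eq_of_mul_eq_one_right hg2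
  rw [IsQD.mem_sup_zpowers_iff _ _ (by rw [hg2]; exact one_mem _), hginv]
  constructor
  · rintro (h1 | h1)
    · rcases eq_one_or_eq_of_mem_zpowers_of_orderOf_two _ _ hw2 h1 with e | e
      · left; exact e
      · right; left; exact e
    · rcases eq_one_or_eq_of_mem_zpowers_of_orderOf_two _ _ hw2 h1 with e | e
      · right; right; left
        rw [eq_inv_of_mul_eq_one_right e, hginv]
      · right; right; right
        calc a = g⁻¹ * (g * a) := by group
          _ = _ := by rw [e, hginv]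
  · rintro (rfl | rfl | rfl | rfl)
    · left; exact one_mem _
    · left; exact mem_zpowers _
    · right; rw [hg2]; exact one_mem _
    · right; rw [← mul_assoc, hg2, one_mul]; exact mem_zpowers _

/-- `⟨w⟩ ⊔ ⟨g⟩` is a four-group -/
theorem isKleinFour_sup {G : Type*} [Group G] (w g : G) (hw : ∀ a : G, a * w = w * a)
    (hw2 : orderOf w = 2) (hg2 : g * g = 1) (hg1 : g ≠ 1) (hgw : g ≠ w) :
    IsKleinFour ↥(zpowers w ⊔ zpowers g) := by
  have hn := normal_zpowers_of_central w hw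
  have hww : w * w = 1 := by
    have := pow_orderOf_eq_one w; rwa [hw2, pow_two] at this
  have hgnot : g ∉ zpowers w := by
    intro h1
    rcases eq_one_or_eq_of_mem_zpowers_of_orderOf_two _ _ hw2 h1 with e | e
    · exact hg1 e
    · exact hgw e
  constructor
  · rw [card_sup_zpowers_of_sq_mem _ _ (by rw [hg2]; exact one_mem _) hgnot, Nat.card_zpowers, hw2]
  · have hsq : ∀ a : ↥(zpowers w ⊔ zpowers g), a ^ 2 = 1 := by
      rintro ⟨a, ha⟩
      apply Subtype.ext
      simp only [Subgroup.coe_pow, Subgroup.coe_one]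
      rcases (mem_sup_involutions_iff w g hw hw2 hg2 a).mp ha with rfl | rfl | rfl | rfl
      · simp
      · rw [pow_two, hww]
      · rw [pow_two, hg2]
      · rw [pow_two, mul_assoc, ← mul_assoc w, ← hw g, mul_assoc, hww, mul_one, hg2]
    have h1 : Monoid.exponent ↥(zpowers w ⊔ zpowers g) ∣ 2 :=
      Monoid.exponent_dvd_of_forall_pow_eq_one hsq
    rcases (Nat.dvd_prime Nat.prime_two).mp h1 with h2 | h2
    · exfalso
      rw [Monoid.exp_eq_one_iff] at h2
      have := h2.elim (⟨g, mem_sup_right (mem_zpowers g)⟩ : ↥(zpowers w ⊔ zpowers g)) 1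
      exact hg1 (congrArg Subtype.val this)
    · exact h2

namespace IsWr

variable {S : Type*} [Group S] {m : ℕ} {x y z : S}

theorem uu'_orderOf (h : IsWr S m x y z) :
    orderOf (x ^ (2 ^ (m + 1)) * y ^ (2 ^ (m + 1))) = 2 := by
  have : Fact (Nat.Prime 2) := ⟨Nat.prime_two⟩
  apply orderOf_eq_prime
  · rw [h.uu'_eq, ← pow_mul, show 2 ^ (m + 1) * 2 = 2 ^ (m + 2) by ring, ← h.orderOf_xy]
    exact pow_orderOf_eq_one _
  · intro e
    have e1 : x ^ ((2 ^ (m + 1) : ℕ) : ℤ) = y ^ (-((2 ^ (m + 1) : ℕ) : ℤ)) := by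
      rw [zpow_neg, zpow_natCast, zpow_natCast]
      exact eq_inv_of_mul_eq_one_left e
    have e2 := h.disj' _ _ e1
    rw [zpow_natCast] at e2
    have := h.u_orderOf
    rw [e2, orderOf_one] at this; omega

theorem u_ne_one (h : IsWr S m x y z) : x ^ (2 ^ (m + 1)) ≠ 1 := by
  intro e
  have := h.u_orderOf
  rw [e, orderOf_one] at this; omega

theorem u_ne_u' (h : IsWr S m x y z) : x ^ (2 ^ (m + 1)) ≠ y ^ (2 ^ (m + 1)) := by
  intro e
  have e1 : x ^ ((2 ^ (m + 1) : ℕ) : ℤ) = y ^ (((2 ^ (m + 1) : ℕ) : ℤ)) := by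
    rw [zpow_natCast, zpow_natCast]; exact e
  have e2 := h.disj' _ _ e1
  rw [zpow_natCast] at e2
  exact h.u_ne_one e2

/-- central involutions are `u u'` -/
theorem central_involution (h : IsWr S m x y z) (w : S) (hw : orderOf w = 2) (hc : w ∈ center S) :
    w = x ^ (2 ^ (m + 1)) * y ^ (2 ^ (m + 1)) := by
  rw [mem_center_iff] at hc
  rcases h.involution_cases w hw with rfl | rfl | e | ⟨k, rfl⟩
  · exfalso
    apply h.u_ne_u'
    rw [← h.conj_u, hc z, mul_inv_cancel_right]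
  · exfalso
    apply h.u_ne_u'
    have e1 : z * y ^ (2 ^ (m + 1)) * z⁻¹ = x ^ (2 ^ (m + 1)) := by rw [← conj_pow, h.rel_y]
    rw [hc z, mul_inv_cancel_right] at e1
    exact e1.symm
  · exact e
  · exfalso
    apply h.z_not_mem
    have h1 : (x * y⁻¹) ^ k * z ∈ h.base := h.center_le_base (mem_center_iff.mpr hc)
    have h2 : (x * y⁻¹) ^ k ∈ h.base := h.base.zpow_mem ⟨1, -1, by simp⟩ k
    have := h.base.mul_mem (h.base.inv_mem h2) h1
    rwa [inv_mul_cancel_left] at this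

theorem u_ne_uu' (h : IsWr S m x y z) :
    x ^ (2 ^ (m + 1)) ≠ x ^ (2 ^ (m + 1)) * y ^ (2 ^ (m + 1)) := by
  intro e
  exact h.u'_ne_one (mul_left_cancel (e.symm.trans (mul_one _).symm))

theorem T_klein (h : IsWr S m x y z) :
    IsKleinFour ↥(zpowers (x ^ (2 ^ (m + 1)) * y ^ (2 ^ (m + 1))) ⊔ zpowers (x ^ (2 ^ (m + 1)))) :=
  isKleinFour_sup _ _ h.uu'_central h.uu'_orderOf h.u_mul_self h.u_ne_one h.u_ne_uu'

theorem u_mul_uu' (h : IsWr S m x y z) :
    x ^ (2 ^ (m + 1)) * (x ^ (2 ^ (m + 1)) * y ^ (2 ^ (m + 1))) = y ^ (2 ^ (m + 1)) := by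
  rw [← mul_assoc, h.u_mul_self, one_mul]

theorem mem_T_iff (h : IsWr S m x y z) (a : S) :
    a ∈ zpowers (x ^ (2 ^ (m + 1)) * y ^ (2 ^ (m + 1))) ⊔ zpowers (x ^ (2 ^ (m + 1))) ↔
      a ∈ h.base ∧ a * a = 1 := by
  have hub : x ^ (2 ^ (m + 1)) ∈ h.base := h.base.pow_mem h.x_mem_base _
  have hu'b : y ^ (2 ^ (m + 1)) ∈ h.base := h.base.pow_mem h.y_mem_base _
  rw [mem_sup_involutions_iff _ _ h.uu'_central h.uu'_orderOf h.u_mul_self, h.u_mul_uu']
  constructor
  · rintro (rfl | rfl | rfl | rfl)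
    · exact ⟨one_mem _, by simp⟩
    · refine ⟨h.base.mul_mem hub hu'b, ?_⟩
      have := pow_orderOf_eq_one (x ^ (2 ^ (m + 1)) * y ^ (2 ^ (m + 1)))
      rwa [h.uu'_orderOf, pow_two] at this
    · exact ⟨hub, h.u_mul_self⟩
    · exact ⟨hu'b, h.u'_mul_self⟩
  · rintro ⟨hab, haa⟩
    by_cases ha1 : a = 1
    · left; exact ha1
    · have : Fact (Nat.Prime 2) := ⟨Nat.prime_two⟩
      have ho : orderOf a = 2 := orderOf_eq_prime (by rw [pow_two]; exact haa) ha1
      rcases h.involution_cases a ho with e | e | e | ⟨k, e⟩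
      · right; right; left; exact e
      · right; right; right; exact e
      · right; left; exact e
      · exfalso
        apply h.z_not_mem
        rw [e] at hab
        have h2 : (x * y⁻¹) ^ k ∈ h.base := h.base.zpow_mem ⟨1, -1, by simp⟩ k
        have := h.base.mul_mem (h.base.inv_mem h2) hab
        rwa [inv_mul_cancel_left] at this

theorem T_normal (h : IsWr S m x y z) :
    (zpowers (x ^ (2 ^ (m + 1)) * y ^ (2 ^ (m + 1))) ⊔ zpowers (x ^ (2 ^ (m + 1)))).Normal := by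
  constructor
  intro a ha g
  rw [h.mem_T_iff] at ha ⊢
  refine ⟨h.normal_base.conj_mem a ha.1 g, ?_⟩
  calc g * a * g⁻¹ * (g * a * g⁻¹) = g * (a * a) * g⁻¹ := by group
    _ = 1 := by rw [ha.2]; group

theorem T_le_base (h : IsWr S m x y z) :
    zpowers (x ^ (2 ^ (m + 1)) * y ^ (2 ^ (m + 1))) ⊔ zpowers (x ^ (2 ^ (m + 1))) ≤ h.base :=
  fun a ha => ((h.mem_T_iff a).mp ha).1

theorem z_ne_uu' (h : IsWr S m x y z) : z ≠ x ^ (2 ^ (m + 1)) * y ^ (2 ^ (m + 1)) := by
  intro e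
  apply h.z_not_mem
  have : x ^ (2 ^ (m + 1)) * y ^ (2 ^ (m + 1)) ∈ h.base :=
    h.base.mul_mem (h.base.pow_mem h.x_mem_base _) (h.base.pow_mem h.y_mem_base _)
  rwa [← e] at this

theorem T0_klein (h : IsWr S m x y z) :
    IsKleinFour ↥(zpowers (x ^ (2 ^ (m + 1)) * y ^ (2 ^ (m + 1))) ⊔ zpowers z) :=
  isKleinFour_sup _ _ h.uu'_central h.uu'_orderOf h.z_mul_self
    (fun e => by have := h.hz; rw [e, orderOf_one] at this; omega) h.z_ne_uu'

/-- the other four-groups -/
theorem klein_eq' (h : IsWr S m x y z) (T₁ : Subgroup S) (hT : IsKleinFour T₁)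
    (hne : T₁ ≠ zpowers (x ^ (2 ^ (m + 1)) * y ^ (2 ^ (m + 1))) ⊔ zpowers (x ^ (2 ^ (m + 1)))) :
    ∃ k : ℤ, T₁ = zpowers (x ^ (2 ^ (m + 1)) * y ^ (2 ^ (m + 1))) ⊔ zpowers ((x * y⁻¹) ^ k * z) := by
  have := h.finite
  have : Fact (Nat.Prime 2) := ⟨Nat.prime_two⟩
  have hsq : ∀ g ∈ T₁, g * g = 1 := by
    intro g hg
    have := IsKleinFour.mul_self (⟨g, hg⟩ : T₁)
    exact congrArg Subtype.val this
  have hcomm : ∀ a ∈ T₁, ∀ b ∈ T₁, a * b = b * a := by
    intro a ha b hb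
    have := mul_comm_of_exponent_two hT.exponent_two (⟨a, ha⟩ : T₁) ⟨b, hb⟩
    exact congrArg Subtype.val this
  have hcard : Nat.card T₁ = 4 := hT.card_four
  -- an element outside the base
  obtain ⟨t, htT, htb⟩ : ∃ t ∈ T₁, t ∉ h.base := by
    by_contra hcon
    push Not at hcon
    apply hne
    apply Subgroup.eq_of_le_of_card_ge
    · intro a ha
      exact (h.mem_T_iff a).mpr ⟨hcon a ha, hsq a ha⟩
    · rw [hcard, h.T_klein.card_four]
  have ht1 : t ≠ 1 := fun e => htb (e ▸ one_mem _)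
  have hto : orderOf t = 2 := orderOf_eq_prime (by rw [pow_two]; exact hsq t htT) ht1
  have hub : x ^ (2 ^ (m + 1)) ∈ h.base := h.base.pow_mem h.x_mem_base _
  have hu'b : y ^ (2 ^ (m + 1)) ∈ h.base := h.base.pow_mem h.y_mem_base _
  obtain ⟨k, rfl⟩ : ∃ k : ℤ, t = (x * y⁻¹) ^ k * z := by
    rcases h.involution_cases t hto with e | e | e | ⟨k, e⟩
    · exact absurd (e ▸ hub) htb
    · exact absurd (e ▸ hu'b) htb
    · exact absurd (e ▸ h.base.mul_mem hub hu'b) htb
    · exact ⟨k, e⟩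
  refine ⟨k, ?_⟩
  -- elements of `T₁` in the base are `1` or `u u'`
  have hbase : ∀ g ∈ T₁, g ∈ h.base → g = 1 ∨ g = x ^ (2 ^ (m + 1)) * y ^ (2 ^ (m + 1)) := by
    intro g hg hgb
    by_cases hg1 : g = 1
    · left; exact hg1
    · right
      have hgo : orderOf g = 2 := orderOf_eq_prime (by rw [pow_two]; exact hsq g hg) hg1
      apply h.central_involution g hgo
      exact h.central_of_comm_outside g _ hgb htb (hcomm _ htT _ hg)
  have ht2 : (x * y⁻¹) ^ k * z * ((x * y⁻¹) ^ k * z) = 1 := hsq _ htT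
  -- `u u' ∈ T₁`
  have hwT : x ^ (2 ^ (m + 1)) * y ^ (2 ^ (m + 1)) ∈ T₁ := by
    obtain ⟨a, haT, hat⟩ : ∃ a ∈ T₁, a ∉ zpowers ((x * y⁻¹) ^ k * z) := by
      by_contra hcon
      push Not at hcon
      have := Subgroup.card_le_of_le (show T₁ ≤ zpowers ((x * y⁻¹) ^ k * z) from hcon)
      rw [hcard, Nat.card_zpowers, hto] at this
      omega
    by_cases hab : a ∈ h.base
    · rcases hbase a haT hab with e | e
      · exact absurd (e ▸ one_mem _) hat
      · rw [← e]; exact haT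
    · have h1 : (x * y⁻¹) ^ k * z * a ∈ h.base := by
        rw [mul_mem_iff_of_index_two h.index_base]
        exact ⟨fun a' => absurd a' htb, fun a' => absurd a' hab⟩
      rcases hbase _ (T₁.mul_mem htT haT) h1 with e | e
      · exfalso
        apply hat
        rw [eq_inv_of_mul_eq_one_right e]
        exact inv_mem (mem_zpowers _)
      · rw [← e]; exact T₁.mul_mem htT haT
  ext g
  rw [mem_sup_involutions_iff _ _ h.uu'_central h.uu'_orderOf ht2]
  have htinv : ((x * y⁻¹) ^ k * z)⁻¹ = (x * y⁻¹) ^ k * z := inv_eq_of_mul_eq_one_right ht2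
  constructor
  · intro hg
    by_cases hgb : g ∈ h.base
    · rcases hbase g hg hgb with e | e
      · left; exact e
      · right; left; exact e
    · have h1 : (x * y⁻¹) ^ k * z * g ∈ h.base := by
        rw [mul_mem_iff_of_index_two h.index_base]
        exact ⟨fun a' => absurd a' htb, fun a' => absurd a' hgb⟩
      rcases hbase _ (T₁.mul_mem htT hg) h1 with e | e
      · right; right; left
        rw [eq_inv_of_mul_eq_one_right e, htinv]
      · right; right; right
        calc g = ((x * y⁻¹) ^ k * z)⁻¹ * ((x * y⁻¹) ^ k * z * g) := by group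
          _ = _ := by rw [e, htinv]
  · rintro (rfl | rfl | rfl | rfl)
    · exact one_mem _
    · exact hwT
    · exact htT
    · exact T₁.mul_mem htT hwT

theorem conj_T1 (h : IsWr S m x y z) (k k' : ℤ) :
    ∃ s : S, (zpowers (x ^ (2 ^ (m + 1)) * y ^ (2 ^ (m + 1))) ⊔ zpowers ((x * y⁻¹) ^ k * z)).map
        (MulAut.conj s).toMonoidHom =
      zpowers (x ^ (2 ^ (m + 1)) * y ^ (2 ^ (m + 1))) ⊔ zpowers ((x * y⁻¹) ^ k' * z) := by
  obtain ⟨s, hs⟩ := isConj_iff.mp ((h.isConj_z_cz k).symm.trans (h.isConj_z_cz k'))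
  refine ⟨s, ?_⟩
  rw [Subgroup.map_sup, MonoidHom.map_zpowers, MonoidHom.map_zpowers]
  simp only [MulEquiv.coe_toMonoidHom, MulAut.conj_apply]
  rw [hs, h.uu'_central s, mul_inv_cancel_right]

end IsWr

end Cfsg.Agent.Lib.Helper18
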