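import Mathlib
import Cfsg.Agent.Lib.Helper18.WreathedKlein

set_option autoImplicit false

/-!
# The generalized quaternion subgroup of a wreathed 2-group
-/

namespace Cfsg.Agent.Lib.Helper18

open Subgroup

/-- the unique involution of a generalized quaternion group -/
theorem quaternionGroup_involution (k : ℕ) [NeZero k] (g : QuaternionGroup k)
    (hg : orderOf g = 2) : g = QuaternionGroup.a (k : ZMod (2 * k)) := by
  have hk : k ≠ 0 := NeZero.ne k
  haveI : NeZero (2 * k) := ⟨by omega⟩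
  cases g with
  | a i =>
    have h1 : (QuaternionGroup.a i : QuaternionGroup k) ^ 2 = 1 := by
      rw [← hg]; exact pow_orderOf_eq_one _
    rw [pow_two, QuaternionGroup.a_mul_a, QuaternionGroup.one_def] at h1
    have h2 : i + i = 0 := QuaternionGroup.a.inj h1
    have h3 : (i.val + i.val) % (2 * k) = 0 := by
      rw [← ZMod.val_add, h2, ZMod.val_zero]
    have h4 : i.val < 2 * k := ZMod.val_lt i
    have h5 : i.val = 0 ∨ i.val = k := by
      have h6 : 2 * k ∣ i.val + i.val := Nat.dvd_of_mod_eq_zero h3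
      obtain ⟨c, hc⟩ := h6
      have : c = 0 ∨ c = 1 := by
        rcases c with _ | _ | c
        · left; rfl
        · right; rfl
        · exfalso; nlinarith
      rcases this with rfl | rfl
      · left; omega
      · right; omega
    rcases h5 with h5 | h5
    · exfalso
      have : i = 0 := (ZMod.val_eq_zero i).mp h5
      rw [this, ← QuaternionGroup.one_def, orderOf_one] at hg
      omega
    · congr 1
      rw [← ZMod.natCast_zmod_val i, h5]
  | xa i => rw [QuaternionGroup.orderOf_xa] at hg; omega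

/-- generalized quaternion groups of order at least 8 are non-commutative -/
theorem quaternionGroup_not_comm (k : ℕ) (hk : 2 ≤ k) :
    (QuaternionGroup.a 1 : QuaternionGroup k) * QuaternionGroup.xa 0 ≠
      QuaternionGroup.xa 0 * QuaternionGroup.a 1 := by
  rw [QuaternionGroup.a_mul_xa, QuaternionGroup.xa_mul_a]
  intro h
  have h1 : (0 : ZMod (2 * k)) - 1 = 0 + 1 := QuaternionGroup.xa.inj h
  have h2 : (2 : ZMod (2 * k)) = 0 := by
    have : (0 : ZMod (2 * k)) = 0 + 1 + 1 := by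
      calc (0 : ZMod (2 * k)) = (0 - 1) + 1 := by ring
        _ = 0 + 1 + 1 := by rw [h1]
    rw [this]; ring
  have h3 : ((2 : ℕ) : ZMod (2 * k)) = 0 := by exact_mod_cast h2
  rw [ZMod.natCast_eq_zero_iff] at h3
  have := Nat.le_of_dvd (by norm_num) h3
  omega

namespace IsWr

variable {S : Type*} [Group S] {m : ℕ} {x y z : S}

theorem u'_inv (h : IsWr S m x y z) : (y ^ (2 ^ (m + 1)))⁻¹ = y ^ (2 ^ (m + 1)) :=
  inv_eq_of_mul_eq_one_right h.u'_mul_self

theorem c_pow_half (h : IsWr S m x y z) :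
    (x * y⁻¹) ^ (2 ^ (m + 1)) = x ^ (2 ^ (m + 1)) * y ^ (2 ^ (m + 1)) := by
  rw [(show Commute x y⁻¹ from (show Commute x y from h.comm).inv_right).mul_pow, inv_pow, h.u'_inv]

theorem uz_sq (h : IsWr S m x y z) :
    (x ^ (2 ^ (m + 1)) * z) * (x ^ (2 ^ (m + 1)) * z) = (x * y⁻¹) ^ (2 ^ (m + 1)) := by
  rw [h.c_pow_half, ← h.conj_u]
  calc x ^ (2 ^ (m + 1)) * z * (x ^ (2 ^ (m + 1)) * z)
      = x ^ (2 ^ (m + 1)) * (z * x ^ (2 ^ (m + 1)) * z⁻¹) * (z * z) := by group
    _ = _ := by rw [h.z_mul_self, mul_one]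

theorem uz_not_mem (h : IsWr S m x y z) : x ^ (2 ^ (m + 1)) * z ∉ h.base := by
  intro h1
  apply h.z_not_mem
  have := h.base.mul_mem (h.base.inv_mem (h.base.pow_mem h.x_mem_base (2 ^ (m + 1)))) h1
  rwa [inv_mul_cancel_left] at this

theorem c_mem_base (h : IsWr S m x y z) : x * y⁻¹ ∈ h.base := ⟨1, -1, by simp⟩

theorem conj_z_c (h : IsWr S m x y z) : z * (x * y⁻¹) * z⁻¹ = (x * y⁻¹)⁻¹ := by
  have := h.conj_z_base 1 (-1)
  simp only [zpow_one, zpow_neg] at this
  rw [this, mul_inv_rev, inv_inv,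
    (show Commute x⁻¹ y from (show Commute x y from h.comm).inv_left).eq]

theorem conj_uz_c (h : IsWr S m x y z) :
    (x ^ (2 ^ (m + 1)) * z) * (x * y⁻¹) * (x ^ (2 ^ (m + 1)) * z)⁻¹ = (x * y⁻¹)⁻¹ := by
  have hub : x ^ (2 ^ (m + 1)) ∈ h.base := h.base.pow_mem h.x_mem_base _
  calc (x ^ (2 ^ (m + 1)) * z) * (x * y⁻¹) * (x ^ (2 ^ (m + 1)) * z)⁻¹
      = x ^ (2 ^ (m + 1)) * (z * (x * y⁻¹) * z⁻¹) * (x ^ (2 ^ (m + 1)))⁻¹ := by group
    _ = x ^ (2 ^ (m + 1)) * (x * y⁻¹)⁻¹ * (x ^ (2 ^ (m + 1)))⁻¹ := by rw [h.conj_z_c]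
    _ = _ := by
        rw [h.base_comm _ _ hub (h.base.inv_mem h.c_mem_base), mul_assoc, mul_inv_cancel, mul_one]

theorem uz_sq_mem (h : IsWr S m x y z) :
    (x ^ (2 ^ (m + 1)) * z) * (x ^ (2 ^ (m + 1)) * z) ∈ zpowers (x * y⁻¹) := by
  rw [h.uz_sq]; exact pow_mem (mem_zpowers _) _

theorem uz_not_mem_c (h : IsWr S m x y z) : x ^ (2 ^ (m + 1)) * z ∉ zpowers (x * y⁻¹) :=
  fun h1 => h.uz_not_mem (h.zpowers_xy_inv_le h1)

theorem mem_Y0_iff (h : IsWr S m x y z) (a : S) :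
    a ∈ zpowers (x * y⁻¹) ⊔ zpowers (x ^ (2 ^ (m + 1)) * z) ↔
      a ∈ zpowers (x * y⁻¹) ∨ (x ^ (2 ^ (m + 1)) * z)⁻¹ * a ∈ zpowers (x * y⁻¹) := by
  have := h.normal_xy_inv
  exact IsQD.mem_sup_zpowers_iff _ _ h.uz_sq_mem a

theorem card_Y0 (h : IsWr S m x y z) :
    Nat.card ↥(zpowers (x * y⁻¹) ⊔ zpowers (x ^ (2 ^ (m + 1)) * z)) = 2 ^ (m + 3) := by
  have := h.normal_xy_inv
  rw [card_sup_zpowers_of_sq_mem _ _ h.uz_sq_mem h.uz_not_mem_c, Nat.card_zpowers,
    h.orderOf_xy_inv]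
  ring

theorem Y0_normal (h : IsWr S m x y z) :
    (zpowers (x * y⁻¹) ⊔ zpowers (x ^ (2 ^ (m + 1)) * z)).Normal := by
  apply normal_of_commutator_le'
  rw [h.commutator_eq]
  exact le_sup_left

theorem Y0_iso (h : IsWr S m x y z) :
    Nonempty (↥(zpowers (x * y⁻¹) ⊔ zpowers (x ^ (2 ^ (m + 1)) * z)) ≃*
      QuaternionGroup (2 ^ (m + 1))) := by
  have hcY : x * y⁻¹ ∈ zpowers (x * y⁻¹) ⊔ zpowers (x ^ (2 ^ (m + 1)) * z) :=
    mem_sup_left (mem_zpowers _)
  have hgY : x ^ (2 ^ (m + 1)) * z ∈ zpowers (x * y⁻¹) ⊔ zpowers (x ^ (2 ^ (m + 1)) * z) :=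
    mem_sup_right (mem_zpowers _)
  apply nonempty_mulEquiv_quaternionGroup ⟨x * y⁻¹, hcY⟩ ⟨x ^ (2 ^ (m + 1)) * z, hgY⟩ (2 ^ (m + 1))
  · rw [Subgroup.orderOf_mk, h.orderOf_xy_inv]; ring
  · apply Subtype.ext
    simp only [Subgroup.coe_pow]
    rw [pow_two, h.uz_sq]
  · apply Subtype.ext
    simp only [Subgroup.coe_mul, Subgroup.coe_inv]
    exact h.conj_uz_c
  · intro h1
    obtain ⟨k, hk⟩ := mem_zpowers_iff.mp h1
    have := congrArg Subtype.val hk
    simp only [Subgroup.coe_zpow] at this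
    apply h.uz_not_mem_c
    rw [← this]
    exact zpow_mem (mem_zpowers _) k
  · rintro ⟨g, hg⟩
    rcases (h.mem_Y0_iff g).mp hg with h1 | h1
    · left
      obtain ⟨k, hk⟩ := mem_zpowers_iff.mp h1
      exact mem_zpowers_iff.mpr ⟨k, Subtype.ext (by simpa using hk)⟩
    · right
      obtain ⟨k, hk⟩ := mem_zpowers_iff.mp h1
      refine ⟨⟨(x ^ (2 ^ (m + 1)) * z)⁻¹ * g, le_sup_left (a := zpowers (x * y⁻¹)) h1⟩,
        mem_zpowers_iff.mpr ⟨k, Subtype.ext (by simpa using hk)⟩, ?_⟩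
      apply Subtype.ext
      simp only [Subgroup.coe_mul]
      group

/-- uniqueness of the generalized quaternion subgroup -/
theorem eq_Y0 (h : IsWr S m x y z) (Y : Subgroup S) (hcard : Nat.card Y = 2 ^ (m + 3))
    (e : Y ≃* QuaternionGroup (2 ^ (m + 1))) :
    Y = zpowers (x * y⁻¹) ⊔ zpowers (x ^ (2 ^ (m + 1)) * z) := by
  have := h.finite
  haveI : NeZero (2 ^ (m + 1)) := ⟨by positivity⟩
  have hnb := h.normal_base
  have hk2 : 2 ≤ 2 ^ (m + 1) := by
    calc 2 = 2 ^ 1 := rfl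
      _ ≤ 2 ^ (m + 1) := Nat.pow_le_pow_right (by norm_num) (by omega)
  -- unique involution
  have huniq : ∀ s t : Y, orderOf s = 2 → orderOf t = 2 → s = t := by
    intro s t hs ht
    apply e.injective
    rw [quaternionGroup_involution _ (e s) (by rw [MulEquiv.orderOf_eq]; exact hs),
      quaternionGroup_involution _ (e t) (by rw [MulEquiv.orderOf_eq]; exact ht)]
  -- non-commutative
  have hnc : ¬ ∀ s t : S, s ∈ Y → t ∈ Y → s * t = t * s := by
    intro hc
    apply quaternionGroup_not_comm (2 ^ (m + 1)) hk2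
    have := hc _ _ (e.symm (QuaternionGroup.a 1)).2 (e.symm (QuaternionGroup.xa 0)).2
    have h2 : e.symm (QuaternionGroup.a 1) * e.symm (QuaternionGroup.xa 0) =
        e.symm (QuaternionGroup.xa 0) * e.symm (QuaternionGroup.a 1) := Subtype.ext this
    have h3 := congrArg e h2
    simpa using h3
  -- an element outside the base
  obtain ⟨g, hgY, hgb⟩ : ∃ g ∈ Y, g ∉ h.base := by
    by_contra hcon
    push Not at hcon
    exact hnc fun s t hs ht => h.base_comm _ _ (hcon s hs) (hcon t ht)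
  -- the intersection with the base is cyclic
  have hMc : IsMulCommutative (h.base.subgroupOf Y) :=
    ⟨⟨fun a b => Subtype.ext (Subtype.ext (h.base_comm _ _ a.2 b.2))⟩⟩
  have hcyc := isCyclic_of_comm_of_unique_involution (h.isPGroup.to_subgroup Y) huniq
    (h.base.subgroupOf Y) hMc
  obtain ⟨b₀, hb₀⟩ := hcyc.exists_generator
  have hMidx : (h.base.subgroupOf Y).index = 2 := by
    have h1 : h.base.relIndex Y ∣ 2 := by
      rw [← h.index_base]; exact Subgroup.relIndex_dvd_index_of_normal h.base Y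
    rcases (Nat.dvd_prime Nat.prime_two).mp h1 with h2 | h2
    · exfalso
      exact hgb (relIndex_eq_one.mp h2 hgY)
    · exact h2
  have hMcard : Nat.card (h.base.subgroupOf Y) = 2 ^ (m + 2) := by
    have h1 := (h.base.subgroupOf Y).card_mul_index
    rw [hMidx, hcard, show m + 3 = (m + 2) + 1 from rfl, pow_succ] at h1
    exact Nat.eq_of_mul_eq_mul_right (by norm_num) h1
  have hb₀ord : orderOf (((b₀ : Y) : S)) = 2 ^ (m + 2) := by
    rw [Subgroup.orderOf_coe, Subgroup.orderOf_coe, orderOf_eq_card_of_forall_mem_zpowers hb₀,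
      hMcard]
  have hb₀b : ((b₀ : Y) : S) ∈ h.base := b₀.2
  have hMz : ∀ w : S, w ∈ Y → w ∈ h.base → w ∈ zpowers (((b₀ : Y) : S)) := by
    intro w hwY hwb
    obtain ⟨k, hk⟩ := mem_zpowers_iff.mp (hb₀ ⟨⟨w, hwY⟩, hwb⟩)
    refine mem_zpowers_iff.mpr ⟨k, ?_⟩
    have := congrArg (fun t : h.base.subgroupOf Y => ((t : Y) : S)) hk
    simpa using this
  have hMzY : ∀ w : Y, (w : S) ∈ h.base → w ∈ zpowers (b₀ : Y) := by
    intro w hwb
    obtain ⟨k, hk⟩ := mem_zpowers_iff.mp (hb₀ ⟨w, hwb⟩)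
    refine mem_zpowers_iff.mpr ⟨k, ?_⟩
    have := congrArg (fun t : h.base.subgroupOf Y => (t : Y)) hk
    simpa using this
  -- `g` does not commute with the generator
  have hgb₀ : g * ((b₀ : Y) : S) ≠ ((b₀ : Y) : S) * g := by
    intro hc
    have hcen := h.central_of_comm_outside _ g hb₀b hgb hc
    apply hnc
    have hcenM : ∀ w : S, w ∈ Y → w ∈ h.base → w ∈ center S := by
      intro w hwY hwb
      obtain ⟨k, rfl⟩ := mem_zpowers_iff.mp (hMz w hwY hwb)
      exact zpow_mem hcen k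
    have hform : ∀ s ∈ Y, s ∉ h.base → s * g⁻¹ ∈ center S := by
      intro s hs hsb
      apply hcenM _ (Y.mul_mem hs (Y.inv_mem hgY))
      rw [mul_mem_iff_of_index_two h.index_base]
      exact ⟨fun a => absurd a hsb, fun a => absurd (by simpa using h.base.inv_mem a) hgb⟩
    have hc1 : ∀ s ∈ Y, s * g = g * s := by
      intro s hs
      by_cases hsb : s ∈ h.base
      · exact (mem_center_iff.mp (hcenM s hs hsb) g).symm
      · have h1 := mem_center_iff.mp (hform s hs hsb) g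
        calc s * g = (s * g⁻¹) * g * g := by group
          _ = g * (s * g⁻¹) * g := by rw [← h1]
          _ = g * s := by group
    intro s t hs ht
    by_cases hsb : s ∈ h.base
    · exact (mem_center_iff.mp (hcenM s hs hsb) t).symm
    · have h1 := mem_center_iff.mp (hform s hs hsb)
      calc s * t = (s * g⁻¹) * (g * t) := by group
        _ = (s * g⁻¹) * (t * g) := by rw [hc1 t ht]
        _ = t * (s * g⁻¹) * g := by rw [← mul_assoc, h1 t]
        _ = t * s := by group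
  -- `g` inverts the generator
  have hinv := inverts_of_unique_involution huniq (b₀ : Y) ⟨g, hgY⟩ (m + 2)
    ((Subgroup.orderOf_coe (b₀ : Y)).symm.trans hb₀ord)
    (by
      apply hMzY
      simp only [Subgroup.coe_mul, Subgroup.coe_inv]
      exact hnb.conj_mem _ hb₀b g)
    (by
      apply hMzY
      simp only [Subgroup.coe_pow]
      rw [pow_two]
      exact (mul_mem_iff_of_index_two h.index_base).mpr Iff.rfl)
    (by
      intro hc
      apply hgb₀
      have := congrArg Subtype.val hc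
      simpa using this)
  obtain ⟨hinv1, hinv2⟩ := hinv
  have hinv1' : g * ((b₀ : Y) : S) * g⁻¹ = (((b₀ : Y) : S))⁻¹ := by
    have := congrArg Subtype.val hinv1
    simpa using this
  have hgord : orderOf g = 4 := by
    rw [← hinv2]; exact (Subgroup.orderOf_mk g hgY).symm
  -- forms
  obtain ⟨k, l, hg | hg⟩ := h.cover g
  · exact absurd (hg ▸ h.xy_mem_base k l) hgb
  obtain ⟨i, j, hbij⟩ := hb₀b
  -- the generator lies in `⟨c⟩`
  have hb₀c : ((b₀ : Y) : S) ∈ zpowers (x * y⁻¹) := by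
    have h1 : g * ((b₀ : Y) : S) * g⁻¹ = x ^ j * y ^ i := by
      rw [hg, hbij]
      calc x ^ k * y ^ l * z * (x ^ i * y ^ j) * (x ^ k * y ^ l * z)⁻¹
          = x ^ k * y ^ l * (z * (x ^ i * y ^ j) * z⁻¹) * (x ^ k * y ^ l)⁻¹ := by group
        _ = x ^ k * y ^ l * (x ^ j * y ^ i) * (x ^ k * y ^ l)⁻¹ := by rw [h.conj_z_base]
        _ = _ := by
            rw [h.base_comm _ _ (h.xy_mem_base k l) (h.xy_mem_base j i), mul_assoc,
              mul_inv_cancel, mul_one]
    rw [hinv1', hbij] at h1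
    have h2 : x ^ (-i) * y ^ (-j) = x ^ j * y ^ i := by
      rw [← h1, mul_inv_rev, zpow_neg, zpow_neg, ← zpow_neg, ← zpow_neg,
        (h.commute_xy (-i) (-j)).eq]
    have h3 := h.eq_of_eq _ _ _ _ h2
    have h4 : y ^ j = y ^ (-i) := by
      have e1 : x ^ (j + i) = 1 := by
        rw [zpow_add, ← h3.1, ← zpow_add]; simp
      have e2 := (h.pow_eq_one_iff _).mp e1
      rw [zpow_add] at e2
      rw [zpow_neg]; exact eq_inv_of_mul_eq_one_left e2
    rw [hbij, h4, ← h.c_zpow]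
    exact zpow_mem (mem_zpowers _) i
  have hzle : zpowers (((b₀ : Y) : S)) ≤ zpowers (x * y⁻¹) := zpowers_le.mpr hb₀c
  have hzeq : zpowers (((b₀ : Y) : S)) = zpowers (x * y⁻¹) := by
    apply Subgroup.eq_of_le_of_card_ge hzle
    rw [Nat.card_zpowers, Nat.card_zpowers, hb₀ord, h.orderOf_xy_inv]
  have hcY : zpowers (x * y⁻¹) ≤ Y := by
    rw [← hzeq, zpowers_le]; exact (b₀ : Y).2
  -- `g * g = u u'`
  have hgg : g * g = x ^ (2 ^ (m + 1)) * y ^ (2 ^ (m + 1)) := by
    have : Fact (Nat.Prime 2) := ⟨Nat.prime_two⟩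
    have h1 : orderOf (g * g) = 2 := by
      apply orderOf_eq_prime
      · have e4 : g ^ 4 = 1 := by rw [← hgord]; exact pow_orderOf_eq_one g
        calc (g * g) ^ 2 = g ^ 4 := by rw [← pow_two, ← pow_mul]
          _ = 1 := e4
      · intro e1
        have := orderOf_dvd_of_pow_eq_one (show g ^ 2 = 1 by rw [pow_two]; exact e1)
        rw [hgord] at this; omega
    have h2 : x ^ (2 ^ (m + 1)) * y ^ (2 ^ (m + 1)) ∈ Y := by
      rw [← h.c_pow_half]; exact hcY (pow_mem (mem_zpowers _) _)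
    have := huniq ⟨g * g, Y.mul_mem hgY hgY⟩ ⟨_, h2⟩
      ((Subgroup.orderOf_mk _ _).trans h1)
      ((Subgroup.orderOf_mk _ _).trans h.uu'_orderOf)
    exact congrArg Subtype.val this
  -- `g ∈ Y₀`
  have hgY0 : g ∈ zpowers (x * y⁻¹) ⊔ zpowers (x ^ (2 ^ (m + 1)) * z) := by
    rw [hg, h.sq_xyz] at hgg
    have h1 := h.eq_of_eq (k + l) (k + l) ((2 ^ (m + 1) : ℕ) : ℤ) ((2 ^ (m + 1) : ℕ) : ℤ)
      (by rw [hgg, zpow_natCast, zpow_natCast])
    have h2 : x ^ k = x ^ (-l) * x ^ (2 ^ (m + 1)) := by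
      have := h1.1
      rw [zpow_natCast] at this
      rw [← this, ← zpow_add]; congr 1; ring
    have h3 : g = (x * y⁻¹) ^ (-l) * (x ^ (2 ^ (m + 1)) * z) := by
      rw [hg, h.c_zpow, h2, neg_neg]
      have hub : x ^ (2 ^ (m + 1)) ∈ h.base := h.base.pow_mem h.x_mem_base _
      have hyb : y ^ l ∈ h.base := h.base.zpow_mem h.y_mem_base l
      calc x ^ (-l) * x ^ (2 ^ (m + 1)) * y ^ l * z
          = x ^ (-l) * (x ^ (2 ^ (m + 1)) * y ^ l) * z := by group
        _ = x ^ (-l) * (y ^ l * x ^ (2 ^ (m + 1))) * z := by rw [h.base_comm _ _ hub hyb]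
        _ = _ := by group
    rw [h3]
    exact mul_mem (mem_sup_left (zpow_mem (mem_zpowers _) _)) (mem_sup_right (mem_zpowers _))
  -- conclusion
  apply Subgroup.eq_of_le_of_card_ge
  · intro s hs
    by_cases hsb : s ∈ h.base
    · exact mem_sup_left (hzle (hMz s hs hsb))
    · have h1 : s * g ∈ h.base := by
        rw [mul_mem_iff_of_index_two h.index_base]
        exact ⟨fun a => absurd a hsb, fun a => absurd a hgb⟩
      have h2 := hzle (hMz _ (Y.mul_mem hs hgY) h1)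
      have h3 : s = (s * g) * g⁻¹ := by group
      rw [h3]
      exact mul_mem (mem_sup_left h2) (inv_mem hgY0)
  · rw [hcard, h.card_Y0]

end IsWr

end Cfsg.Agent.Lib.Helper18
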