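import Mathlib
import Cfsg.Agent.Lib.Helper18.QuasiDihedralKlein
import Cfsg.Agent.Lib.Helper18.WreathedQuat
import Cfsg.Agent.Lib.Helper18.Basic

set_option autoImplicit false

/-!
# Quaternion subgroups of order 8 of quasi-dihedral groups
-/

namespace Cfsg.Agent.Lib.Helper18

open Subgroup

namespace IsQD

variable {S : Type*} [Group S] {m : ℕ} {x y : S}

theorem conj_v_cases (h : IsQD S m x y) (g : S) :
    g * x ^ (2 ^ (m + 1)) * g⁻¹ = x ^ (2 ^ (m + 1)) ∨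
      g * x ^ (2 ^ (m + 1)) * g⁻¹ = (x ^ (2 ^ (m + 1)))⁻¹ := by
  obtain ⟨i, rfl | rfl⟩ := h.cover g
  · left; group
  · right
    have e1 : x ^ i * y * x ^ (2 ^ (m + 1)) * (x ^ i * y)⁻¹ =
        x ^ i * (y * x ^ (2 ^ (m + 1)) * y⁻¹) * (x ^ i)⁻¹ := by group
    rw [e1, h.conj_v]; group

theorem normal_v (h : IsQD S m x y) : (zpowers (x ^ (2 ^ (m + 1)))).Normal := by
  constructor
  intro a ha g
  obtain ⟨k, rfl⟩ := mem_zpowers_iff.mp ha
  have key : g * x ^ (2 ^ (m + 1)) * g⁻¹ ∈ zpowers (x ^ (2 ^ (m + 1))) := by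
    rcases h.conj_v_cases g with e | e
    · rw [e]; exact mem_zpowers _
    · rw [e]; exact inv_mem (mem_zpowers _)
  have : g * (x ^ (2 ^ (m + 1))) ^ k * g⁻¹ = (g * x ^ (2 ^ (m + 1)) * g⁻¹) ^ k := by
    rw [conj_zpow]
  rw [this]; exact zpow_mem key k

theorem v_le_zpowers (h : IsQD S m x y) : zpowers (x ^ (2 ^ (m + 1))) ≤ zpowers x :=
  zpowers_le.mpr (pow_mem (mem_zpowers x) _)

theorem z_mem_v (h : IsQD S m x y) : x ^ (2 ^ (m + 2)) ∈ zpowers (x ^ (2 ^ (m + 1))) := by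
  rw [← h.v_sq]; exact pow_mem (mem_zpowers _) 2

/-- elements of `⟨x⟩` with trivial fourth power -/
theorem mem_v_of_pow_four (h : IsQD S m x y) (g : S) (hg : g ∈ zpowers x) (h4 : g ^ 4 = 1) :
    g ∈ zpowers (x ^ (2 ^ (m + 1))) := by
  apply mem_zpowers_of_orderOf_dvd x _ _ (by rw [h.hx]; positivity) hg
    (pow_mem (mem_zpowers x) _)
  rw [h.v_orderOf]
  exact orderOf_dvd_of_pow_eq_one h4

theorem q_mul_self (h : IsQD S m x y) (k : ℕ) :
    (x ^ (2 * k + 1) * y) * (x ^ (2 * k + 1) * y) = x ^ (2 ^ (m + 2)) := by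
  rw [h.sq_xy, h.z_pow_odd]

theorem q_sq_mem (h : IsQD S m x y) (k : ℕ) :
    (x ^ (2 * k + 1) * y) * (x ^ (2 * k + 1) * y) ∈ zpowers (x ^ (2 ^ (m + 1))) := by
  rw [h.q_mul_self]; exact h.z_mem_v

theorem mem_Q8_iff (h : IsQD S m x y) (k : ℕ) (a : S) :
    a ∈ zpowers (x ^ (2 ^ (m + 1))) ⊔ zpowers (x ^ (2 * k + 1) * y) ↔
      a ∈ zpowers (x ^ (2 ^ (m + 1))) ∨
        (x ^ (2 * k + 1) * y)⁻¹ * a ∈ zpowers (x ^ (2 ^ (m + 1))) := by
  have := h.normal_v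
  exact mem_sup_zpowers_iff _ _ (h.q_sq_mem k) a

/-- the part of `Q_k` inside `⟨x⟩` -/
theorem mem_v_of_mem_Q8 (h : IsQD S m x y) (k : ℕ) (a : S)
    (ha : a ∈ zpowers (x ^ (2 ^ (m + 1))) ⊔ zpowers (x ^ (2 * k + 1) * y)) (hax : a ∈ zpowers x) :
    a ∈ zpowers (x ^ (2 ^ (m + 1))) := by
  rcases (h.mem_Q8_iff k a).mp ha with h1 | h1
  · exact h1
  · exfalso
    apply h.xy_not_mem (2 * k + 1)
    have h2 := (zpowers x).mul_mem hax (inv_mem (h.v_le_zpowers h1))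
    have e : a * ((x ^ (2 * k + 1) * y)⁻¹ * a)⁻¹ = x ^ (2 * k + 1) * y := by group
    rwa [e] at h2

/-- every quaternion subgroup of order 8 is `⟨v, x^(2k+1) y⟩` -/
theorem q8_eq (h : IsQD S m x y) (Q : Subgroup S) (e : Q ≃* QuaternionGroup 2) :
    ∃ k : ℕ, Q = zpowers (x ^ (2 ^ (m + 1))) ⊔ zpowers (x ^ (2 * k + 1) * y) := by
  classical
  have := h.finite
  have hcard : Nat.card Q = 8 := by
    rw [Nat.card_congr e.toEquiv, Nat.card_eq_fintype_card, QuaternionGroup.card]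
  have h4 : ∀ g ∈ Q, g ^ 4 = 1 := by
    intro g hg
    have h1 : ∀ w : QuaternionGroup 2, w ^ 4 = 1 := by decide
    have h2 := h1 (e ⟨g, hg⟩)
    rw [← map_pow] at h2
    have h3 : (⟨g, hg⟩ : Q) ^ 4 = 1 := e.injective (by rw [h2, map_one])
    exact congrArg Subtype.val h3
  have huniq : ∀ s ∈ Q, ∀ t ∈ Q, orderOf s = 2 → orderOf t = 2 → s = t := by
    intro s hs t ht hso hto
    have e1 := quaternionGroup_involution 2 (e ⟨s, hs⟩)
      (by rw [MulEquiv.orderOf_eq, Subgroup.orderOf_mk]; exact hso)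
    have e2 := quaternionGroup_involution 2 (e ⟨t, ht⟩)
      (by rw [MulEquiv.orderOf_eq, Subgroup.orderOf_mk]; exact hto)
    have := e.injective (e1.trans e2.symm)
    exact congrArg Subtype.val this
  have hQx : ∀ g ∈ Q, g ∈ zpowers x → g ∈ zpowers (x ^ (2 ^ (m + 1))) :=
    fun g hg hgx => h.mem_v_of_pow_four g hgx (h4 g hg)
  -- an element outside `⟨x⟩`
  obtain ⟨q, hqQ, hqx⟩ : ∃ q ∈ Q, q ∉ zpowers x := by
    by_contra hcon
    push Not at hcon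
    have hle : Q ≤ zpowers (x ^ (2 ^ (m + 1))) := fun g hg => hQx g hg (hcon g hg)
    have := Subgroup.card_le_of_le hle
    rw [hcard, Nat.card_zpowers, h.v_orderOf] at this
    omega
  have hform : ∀ g ∈ Q, g ∉ zpowers x → q⁻¹ * g ∈ zpowers (x ^ (2 ^ (m + 1))) := by
    intro g hg hgx
    apply hQx _ (Q.mul_mem (Q.inv_mem hqQ) hg)
    rw [mul_mem_iff_of_index_two h.index_zpowers]
    exact ⟨fun a => absurd (by simpa using (zpowers x).inv_mem a) hqx, fun a => absurd a hgx⟩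
  -- `v ∈ Q`
  have hvQ : x ^ (2 ^ (m + 1)) ∈ Q := by
    by_contra hv
    have hv' : (x ^ (2 ^ (m + 1)))⁻¹ ∉ Q := fun a => hv (by simpa using Q.inv_mem a)
    have hsmall : ∀ g ∈ Q, g ∈ zpowers (x ^ (2 ^ (m + 1))) → g = 1 ∨ g = x ^ (2 ^ (m + 2)) := by
      intro g hg hgv
      rcases mem_zpowers_four _ _ h.v_orderOf hgv with e1 | e1 | e1 | e1
      · left; exact e1
      · exact absurd (e1 ▸ hg) hv
      · right; rw [e1, h.v_sq]
      · exact absurd (e1 ▸ hg) hv'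
    have hsub : (Q : Set S) ⊆
        ↑({1, x ^ (2 ^ (m + 2)), q, q * x ^ (2 ^ (m + 2))} : Finset S) := by
      intro g hg
      simp only [Finset.coe_insert, Finset.coe_singleton, Set.mem_insert_iff,
        Set.mem_singleton_iff]
      by_cases hgx : g ∈ zpowers x
      · rcases hsmall g hg (hQx g hg hgx) with e1 | e1
        · left; exact e1
        · right; left; exact e1
      · rcases hsmall _ (Q.mul_mem (Q.inv_mem hqQ) hg) (hform g hg hgx) with e1 | e1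
        · right; right; left
          have : g = q * (q⁻¹ * g) := by group
          rw [this, e1, mul_one]
        · right; right; right
          have : g = q * (q⁻¹ * g) := by group
          rw [this, e1]
    have h1 : Nat.card Q ≤ 4 := by
      rw [show Nat.card Q = (Q : Set S).ncard from rfl]
      calc (Q : Set S).ncard
          ≤ (↑({1, x ^ (2 ^ (m + 2)), q, q * x ^ (2 ^ (m + 2))} : Finset S) : Set S).ncard :=
            Set.ncard_le_ncard hsub (Finset.finite_toSet _)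
        _ = ({1, x ^ (2 ^ (m + 2)), q, q * x ^ (2 ^ (m + 2))} : Finset S).card :=
            Set.ncard_coe_finset _
        _ ≤ 4 := Finset.card_le_four
    omega
  have hzQ : x ^ (2 ^ (m + 2)) ∈ Q := by
    rw [← h.v_sq]; exact Q.pow_mem hvQ 2
  obtain ⟨i, rfl | rfl⟩ := h.cover q
  · exact absurd (pow_mem (mem_zpowers x) i) hqx
  rcases Nat.even_or_odd' i with ⟨k, rfl | rfl⟩
  · exfalso
    have := huniq _ hqQ _ hzQ (h.orderOf_xy_even k) h.z_orderOf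
    rw [this] at hqx
    exact hqx (pow_mem (mem_zpowers x) _)
  refine ⟨k, le_antisymm ?_ ?_⟩
  · intro g hg
    rw [h.mem_Q8_iff]
    by_cases hgx : g ∈ zpowers x
    · left; exact hQx g hg hgx
    · right; exact hform g hg hgx
  · rw [sup_le_iff, zpowers_le, zpowers_le]
    exact ⟨hvQ, hqQ⟩

theorem conj_Q8 (h : IsQD S m x y) (k k' : ℕ) :
    ∃ s : S, (zpowers (x ^ (2 ^ (m + 1))) ⊔ zpowers (x ^ (2 * k + 1) * y)).map
        (MulAut.conj s).toMonoidHom =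
      zpowers (x ^ (2 ^ (m + 1))) ⊔ zpowers (x ^ (2 * k' + 1) * y) := by
  obtain ⟨s, hs⟩ := isConj_iff.mp ((h.isConj_xy k).symm.trans (h.isConj_xy k'))
  refine ⟨s, ?_⟩
  rw [Subgroup.map_sup, MonoidHom.map_zpowers, MonoidHom.map_zpowers]
  simp only [MulEquiv.coe_toMonoidHom, MulAut.conj_apply]
  rw [hs]
  rcases h.conj_v_cases s with e | e
  · rw [e]
  · rw [e, zpowers_inv]

/-- elements of `⟨x⟩` commuting with `x^i y` -/
theorem eq_one_or_z_of_comm_xy (h : IsQD S m x y) (i : ℕ) (g : S) (hg : g ∈ zpowers x)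
    (hc : (x ^ i * y) * g = g * (x ^ i * y)) : g = 1 ∨ g = x ^ (2 ^ (m + 2)) := by
  apply h.eq_one_or_z_of_comm_y g hg
  obtain ⟨j, rfl⟩ := (h.mem_zpowers_iff_pow g).mp hg
  have hcm : x ^ i * x ^ j = x ^ j * x ^ i := by
    rw [← pow_add, ← pow_add, add_comm]
  calc y * x ^ j = (x ^ i)⁻¹ * (x ^ i * y * x ^ j) := by group
    _ = (x ^ i)⁻¹ * (x ^ j * (x ^ i * y)) := by rw [hc]
    _ = (x ^ i)⁻¹ * (x ^ i * x ^ j) * y := by rw [hcm]; group
    _ = x ^ j * y := by group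

theorem v_ne_inv (h : IsQD S m x y) : x ^ (2 ^ (m + 1)) ≠ (x ^ (2 ^ (m + 1)))⁻¹ := by
  intro e
  have e2 : (x ^ (2 ^ (m + 1))) ^ 2 = 1 := by
    rw [pow_two]; nth_rewrite 2 [e]; exact mul_inv_cancel _
  have := orderOf_dvd_of_pow_eq_one e2
  rw [h.v_orderOf] at this; omega

theorem centralizer_Q8 (h : IsQD S m x y) (k : ℕ) :
    centralizer ((zpowers (x ^ (2 ^ (m + 1))) ⊔ zpowers (x ^ (2 * k + 1) * y) : Subgroup S) : Set S)
      = zpowers (x ^ (2 ^ (m + 2))) := by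
  ext g
  constructor
  · intro hg
    rw [mem_centralizer_iff] at hg
    have hgv := hg _ (mem_sup_left (mem_zpowers (x ^ (2 ^ (m + 1)))))
    have hgq := hg _ (mem_sup_right (mem_zpowers (x ^ (2 * k + 1) * y)))
    have hgx : g ∈ zpowers x := by
      obtain ⟨i, rfl | rfl⟩ := h.cover g
      · exact pow_mem (mem_zpowers x) i
      · exfalso
        apply h.v_ne_inv
        have e1 : x ^ i * y * x ^ (2 ^ (m + 1)) * (x ^ i * y)⁻¹ =
            x ^ i * (y * x ^ (2 ^ (m + 1)) * y⁻¹) * (x ^ i)⁻¹ := by group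
        have e2 : x ^ i * y * x ^ (2 ^ (m + 1)) * (x ^ i * y)⁻¹ = x ^ (2 ^ (m + 1)) := by
          rw [← hgv]; group
        rw [e2, h.conj_v] at e1
        calc x ^ (2 ^ (m + 1)) = x ^ i * (x ^ (2 ^ (m + 1)))⁻¹ * (x ^ i)⁻¹ := e1
          _ = (x ^ (2 ^ (m + 1)))⁻¹ := by group
    rcases h.eq_one_or_z_of_comm_xy _ g hgx hgq with e | e
    · rw [e]; exact one_mem _
    · rw [e]; exact mem_zpowers _
  · intro hg
    obtain ⟨j, rfl⟩ := mem_zpowers_iff.mp hg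
    rw [mem_centralizer_iff]
    intro a _
    have : Commute a (x ^ (2 ^ (m + 2))) := h.z_central a
    exact (this.zpow_right j).eq

theorem map_center_Q8 (h : IsQD S m x y) (k : ℕ) :
    (center ↥(zpowers (x ^ (2 ^ (m + 1))) ⊔ zpowers (x ^ (2 * k + 1) * y))).map
        (zpowers (x ^ (2 ^ (m + 1))) ⊔ zpowers (x ^ (2 * k + 1) * y)).subtype =
      zpowers (x ^ (2 ^ (m + 2))) := by
  ext g
  rw [mem_map_center_iff]
  constructor
  · rintro ⟨_, hc⟩
    rw [← h.centralizer_Q8 k, mem_centralizer_iff]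
    intro a ha
    exact hc a ha
  · intro hg
    refine ⟨le_sup_left (a := zpowers (x ^ (2 ^ (m + 1)))) (zpowers_le.mpr h.z_mem_v hg), ?_⟩
    intro a _
    obtain ⟨j, rfl⟩ := mem_zpowers_iff.mp hg
    have : Commute a (x ^ (2 ^ (m + 2))) := h.z_central a
    exact (this.zpow_right j).eq

theorem r_orderOf (h : IsQD S m x y) : orderOf (x ^ (2 ^ m)) = 8 := by
  rw [orderOf_pow_of_dvd (by positivity) (by rw [h.hx]; exact pow_dvd_pow 2 (by omega)), h.hx]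
  rw [show m + 3 = m + 3 from rfl, pow_add]
  exact Nat.mul_div_cancel_left 8 (by positivity)

theorem z_mem_r (h : IsQD S m x y) : x ^ (2 ^ (m + 2)) ∈ zpowers (x ^ (2 ^ m)) := by
  rw [show 2 ^ (m + 2) = 2 ^ m * 4 by ring, pow_mul]
  exact pow_mem (mem_zpowers _) 4

theorem v_mem_r (h : IsQD S m x y) : x ^ (2 ^ (m + 1)) ∈ zpowers (x ^ (2 ^ m)) := by
  rw [show 2 ^ (m + 1) = 2 ^ m * 2 by ring, pow_mul]
  exact pow_mem (mem_zpowers _) 2

theorem normal_r (h : IsQD S m x y) : (zpowers (x ^ (2 ^ m))).Normal := by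
  constructor
  intro a ha g
  obtain ⟨k, rfl⟩ := mem_zpowers_iff.mp ha
  have key : g * x ^ (2 ^ m) * g⁻¹ ∈ zpowers (x ^ (2 ^ m)) := by
    obtain ⟨i, rfl | rfl⟩ := h.cover g
    · have : x ^ i * x ^ (2 ^ m) * (x ^ i)⁻¹ = x ^ (2 ^ m) := by group
      rw [this]; exact mem_zpowers _
    · have e1 : x ^ i * y * x ^ (2 ^ m) * (x ^ i * y)⁻¹ =
          x ^ i * (y * x ^ (2 ^ m) * y⁻¹) * (x ^ i)⁻¹ := by group
      rw [e1, h.conj_pow_eq]
      have e2 : x ^ i * ((x ^ (2 ^ m))⁻¹ * (x ^ (2 ^ (m + 2))) ^ (2 ^ m)) * (x ^ i)⁻¹ =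
          (x ^ (2 ^ m))⁻¹ * (x ^ (2 ^ (m + 2))) ^ (2 ^ m) := by
        have c1 : Commute (x ^ i) ((x ^ (2 ^ m))⁻¹ * (x ^ (2 ^ (m + 2))) ^ (2 ^ m)) :=
          (((Commute.refl x).pow_pow _ _).inv_right).mul_right
            (((Commute.refl x).pow_pow _ _).pow_right _)
        rw [c1.eq, mul_assoc, mul_inv_cancel, mul_one]
      rw [e2]
      exact mul_mem (inv_mem (mem_zpowers _)) (pow_mem h.z_mem_r _)
  have : g * (x ^ (2 ^ m)) ^ k * g⁻¹ = (g * x ^ (2 ^ m) * g⁻¹) ^ k := by rw [conj_zpow]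
  rw [this]; exact zpow_mem key k

theorem q_not_mem_r (h : IsQD S m x y) (k : ℕ) : x ^ (2 * k + 1) * y ∉ zpowers (x ^ (2 ^ m)) :=
  fun h1 => h.xy_not_mem _ ((zpowers_le.mpr (pow_mem (mem_zpowers x) _)) h1)

theorem q_not_mem_v (h : IsQD S m x y) (k : ℕ) :
    x ^ (2 * k + 1) * y ∉ zpowers (x ^ (2 ^ (m + 1))) :=
  fun h1 => h.xy_not_mem _ (h.v_le_zpowers h1)

theorem card_Q8 (h : IsQD S m x y) (k : ℕ) :
    Nat.card ↥(zpowers (x ^ (2 ^ (m + 1))) ⊔ zpowers (x ^ (2 * k + 1) * y)) = 8 := by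
  have := h.normal_v
  rw [card_sup_zpowers_of_sq_mem _ _ (h.q_sq_mem k) (h.q_not_mem_v k), Nat.card_zpowers,
    h.v_orderOf]

theorem card_R16 (h : IsQD S m x y) (k : ℕ) :
    Nat.card ↥(zpowers (x ^ (2 ^ m)) ⊔ zpowers (x ^ (2 * k + 1) * y)) = 16 := by
  have := h.normal_r
  rw [card_sup_zpowers_of_sq_mem _ _ (by rw [h.q_mul_self]; exact h.z_mem_r) (h.q_not_mem_r k),
    Nat.card_zpowers, h.r_orderOf]

/-- the normalizer of `Q_k` -/
theorem normalizer_Q8 (h : IsQD S m x y) (k : ℕ) :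
    normalizer ((zpowers (x ^ (2 ^ (m + 1))) ⊔ zpowers (x ^ (2 * k + 1) * y) : Subgroup S) : Set S)
      = zpowers (x ^ (2 ^ m)) ⊔ zpowers (x ^ (2 * k + 1) * y) := by
  have hqQ : x ^ (2 * k + 1) * y ∈
      zpowers (x ^ (2 ^ (m + 1))) ⊔ zpowers (x ^ (2 * k + 1) * y) :=
    mem_sup_right (mem_zpowers _)
  have hzpow : ∀ j : ℕ, (x ^ (2 ^ (m + 2))) ^ j ∈ zpowers (x ^ (2 ^ (m + 1))) :=
    fun j => pow_mem h.z_mem_v j
  -- `r` normalizes
  have hrN : x ^ (2 ^ m) ∈ normalizer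
      ((zpowers (x ^ (2 ^ (m + 1))) ⊔ zpowers (x ^ (2 * k + 1) * y) : Subgroup S) : Set S) := by
    rw [mem_normalizer_iff_map_conj_eq, Subgroup.map_sup, MonoidHom.map_zpowers,
      MonoidHom.map_zpowers]
    simp only [MonoidHom.coe_coe, MulAut.conj_apply]
    have e1 : x ^ (2 ^ m) * x ^ (2 ^ (m + 1)) * (x ^ (2 ^ m))⁻¹ = x ^ (2 ^ (m + 1)) := by group
    have e2 : x ^ (2 ^ m) * (x ^ (2 * k + 1) * y) * (x ^ (2 ^ m))⁻¹ =
        (x ^ (2 ^ (m + 1)) * (x ^ (2 ^ (m + 2))) ^ (2 ^ m)) * (x ^ (2 * k + 1) * y) := by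
      rw [h.conj_xy, show 2 * k + 1 + 2 * 2 ^ m = 2 ^ (m + 1) + (2 * k + 1) by ring, pow_add]
      have c1 : Commute (x ^ (2 * k + 1)) ((x ^ (2 ^ (m + 2))) ^ (2 ^ m)) :=
        ((Commute.refl x).pow_pow _ _).pow_right _
      rw [mul_assoc (x ^ (2 ^ (m + 1))), c1.eq]
      simp only [mul_assoc]
    rw [e1, e2]
    have hw : x ^ (2 ^ (m + 1)) * (x ^ (2 ^ (m + 2))) ^ (2 ^ m) ∈ zpowers (x ^ (2 ^ (m + 1))) :=
      mul_mem (mem_zpowers _) (hzpow _)
    apply le_antisymm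
    · rw [sup_le_iff, zpowers_le, zpowers_le]
      exact ⟨mem_sup_left (mem_zpowers _), mul_mem (mem_sup_left hw) hqQ⟩
    · rw [sup_le_iff, zpowers_le, zpowers_le]
      refine ⟨mem_sup_left (mem_zpowers _), ?_⟩
      have h1 : (x ^ (2 ^ (m + 1)) * (x ^ (2 ^ (m + 2))) ^ (2 ^ m)) * (x ^ (2 * k + 1) * y) ∈
          zpowers (x ^ (2 ^ (m + 1))) ⊔ zpowers
            ((x ^ (2 ^ (m + 1)) * (x ^ (2 ^ (m + 2))) ^ (2 ^ m)) * (x ^ (2 * k + 1) * y)) :=
        mem_sup_right (mem_zpowers _)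
      have h2 := mul_mem (mem_sup_left (inv_mem hw)) h1
      rwa [inv_mul_cancel_left] at h2
  -- the part of the normalizer inside `⟨x⟩`
  have hNx : ∀ b ∈ normalizer
      ((zpowers (x ^ (2 ^ (m + 1))) ⊔ zpowers (x ^ (2 * k + 1) * y) : Subgroup S) : Set S),
      b ∈ zpowers x → b ∈ zpowers (x ^ (2 ^ m)) := by
    intro b hbN hbx
    obtain ⟨j, rfl⟩ := (h.mem_zpowers_iff_pow b).mp hbx
    have h1 := (mem_normalizer_iff.mp hbN _).mp hqQ
    have h2 := mul_mem h1 (inv_mem hqQ)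
    have e1 : x ^ j * (x ^ (2 * k + 1) * y) * (x ^ j)⁻¹ * (x ^ (2 * k + 1) * y)⁻¹ =
        x ^ (2 * j) * (x ^ (2 ^ (m + 2))) ^ j := by
      rw [h.conj_xy, show 2 * k + 1 + 2 * j = 2 * j + (2 * k + 1) by ring, pow_add]
      have c1 : Commute (x ^ (2 * k + 1)) ((x ^ (2 ^ (m + 2))) ^ j) :=
        ((Commute.refl x).pow_pow _ _).pow_right _
      rw [mul_assoc (x ^ (2 * j)), c1.eq]
      group
    rw [e1] at h2
    have h3 := h.mem_v_of_mem_Q8 k _ h2
      (mul_mem (pow_mem (mem_zpowers x) _) (pow_mem (pow_mem (mem_zpowers x) _) _))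
    have h4 : x ^ (2 * j) ∈ zpowers (x ^ (2 ^ (m + 1))) := by
      have := mul_mem h3 (inv_mem (hzpow j))
      rwa [mul_inv_cancel_right] at this
    have h5 : (x ^ j) ^ 8 = 1 := by
      have e4 : (x ^ (2 * j)) ^ 4 = 1 := by
        obtain ⟨l, hl⟩ := mem_zpowers_iff.mp h4
        rw [← hl, ← zpow_natCast, ← zpow_mul, mul_comm, zpow_mul, zpow_natCast]
        have : (x ^ (2 ^ (m + 1))) ^ 4 = 1 := by
          rw [← h.v_orderOf]; exact pow_orderOf_eq_one _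
        rw [this, one_zpow]
      rw [← e4, ← pow_mul, ← pow_mul]; congr 1; ring
    apply mem_zpowers_of_orderOf_dvd x _ _ (by rw [h.hx]; positivity)
      (pow_mem (mem_zpowers x) j) (pow_mem (mem_zpowers x) _)
    rw [h.r_orderOf]
    exact orderOf_dvd_of_pow_eq_one h5
  apply le_antisymm
  · intro b hbN
    by_cases hbx : b ∈ zpowers x
    · exact mem_sup_left (hNx b hbN hbx)
    · have h1 : b * (x ^ (2 * k + 1) * y) ∈ zpowers x := by
        rw [mul_mem_iff_of_index_two h.index_zpowers]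
        exact ⟨fun a => absurd a hbx, fun a => absurd a (h.xy_not_mem _)⟩
      have h2 := hNx _ (mul_mem hbN (le_normalizer hqQ)) h1
      have e : b = (b * (x ^ (2 * k + 1) * y)) * (x ^ (2 * k + 1) * y)⁻¹ := by group
      rw [e]
      exact mul_mem (mem_sup_left h2) (inv_mem (mem_sup_right (mem_zpowers _)))
  · rw [sup_le_iff, zpowers_le, zpowers_le]
    exact ⟨hrN, le_normalizer hqQ⟩

theorem relIndex_normalizer_Q8 (h : IsQD S m x y) (k : ℕ) :
    (zpowers (x ^ (2 ^ (m + 1))) ⊔ zpowers (x ^ (2 * k + 1) * y)).relIndex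
      (normalizer ((zpowers (x ^ (2 ^ (m + 1))) ⊔ zpowers (x ^ (2 * k + 1) * y) : Subgroup S) :
        Set S)) = 2 := by
  have hle : zpowers (x ^ (2 ^ (m + 1))) ⊔ zpowers (x ^ (2 * k + 1) * y) ≤
      normalizer ((zpowers (x ^ (2 ^ (m + 1))) ⊔ zpowers (x ^ (2 * k + 1) * y) : Subgroup S) :
        Set S) := le_normalizer
  have h1 := Subgroup.card_mul_index
    ((zpowers (x ^ (2 ^ (m + 1))) ⊔ zpowers (x ^ (2 * k + 1) * y)).subgroupOf
      (normalizer ((zpowers (x ^ (2 ^ (m + 1))) ⊔ zpowers (x ^ (2 * k + 1) * y) : Subgroup S) :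
        Set S)))
  rw [Nat.card_congr (Subgroup.subgroupOfEquivOfLe hle).toEquiv, h.card_Q8] at h1
  rw [relIndex]
  have h2 : Nat.card ↥(normalizer
      ((zpowers (x ^ (2 ^ (m + 1))) ⊔ zpowers (x ^ (2 * k + 1) * y) : Subgroup S) : Set S)) = 16 := by
    rw [h.normalizer_Q8, h.card_R16]
  rw [h2] at h1
  omega

end IsQD

end Cfsg.Agent.Lib.Helper18
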