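import Mathlib
import Cfsg.Agent.Lib.Helper18.QuasiDihedralQuat
import Cfsg.Agent.Lib.Helper18.QuasiDihedralKlein
import Cfsg.Agent.Lib.Helper12.Basic

set_option autoImplicit false

/-!
# Fusion in groups with quasi-dihedral Sylow 2-subgroups: elementary part

Transfer of the quasi-dihedral normal forms from `↥P` to the ambient group, the "index at most two"
lemmas for `N_G(T)/C_G(T)` (Klein four) and `N_G(Q)/Q C_G(Q)` (quaternion of order 8), and the
resulting fusion statements.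
-/

namespace Cfsg.Agent.Lib.Helper18

open Subgroup

section abstract

variable {G : Type*} [Group G]

/-- index at most two from "product of two non-members is a member" -/
theorem relIndex_eq_one_or_two (C N : Subgroup G)
    (hmul : ∀ a ∈ N, ∀ b ∈ N, a ∉ C → b ∉ C → b * a ∈ C) :
    C.relIndex N = 1 ∨ C.relIndex N = 2 := by
  by_cases hall : ∀ a ∈ N, a ∈ C
  · left
    rw [relIndex_eq_one]; exact hall
  · right
    push Not at hall
    obtain ⟨a, haN, haC⟩ := hall
    rw [relIndex, index_eq_two_iff_exists_notMem_and]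
    refine ⟨⟨a, haN⟩, by simpa [mem_subgroupOf] using haC, ?_⟩
    intro b
    by_cases hb : b ∈ C.subgroupOf N
    · right; exact hb
    · left
      rw [mem_subgroupOf]
      exact hmul a haN b b.2 haC (by simpa [mem_subgroupOf] using hb)

/-- an element commuting with `a` and `b` centralizes `⟨a⟩ ⊔ ⟨b⟩` -/
theorem mem_centralizer_sup_zpowers (d a b : G) (ha : d * a = a * d) (hb : d * b = b * d) :
    d ∈ centralizer ((zpowers a ⊔ zpowers b : Subgroup G) : Set G) := by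
  have h1 : zpowers a ⊔ zpowers b ≤ centralizer ((zpowers d : Subgroup G) : Set G) := by
    refine sup_le (zpowers_le.mpr ?_) (zpowers_le.mpr ?_)
    · rw [mem_centralizer_iff]
      intro g hg
      obtain ⟨j, rfl⟩ := mem_zpowers_iff.mp hg
      exact ((Commute.zpow_left (show Commute d a from ha) j)).eq
    · rw [mem_centralizer_iff]
      intro g hg
      obtain ⟨j, rfl⟩ := mem_zpowers_iff.mp hg
      exact ((Commute.zpow_left (show Commute d b from hb) j)).eq
  have h2 := (le_centralizer_iff).mp h1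
  exact h2 (mem_zpowers d)

/-- Klein four-group `T = {1, Z, t, tZ}`: if `N_G(T)` fixes `Z`, then `|N_G(T) : C_G(T)| ≤ 2`. -/
theorem klein_relIndex_le_two (Z t : G) (hZ : Z * Z = 1) (htZ : t ≠ Z)
    (T : Subgroup G) (hmem : ∀ a, a ∈ T ↔ a = 1 ∨ a = Z ∨ a = t ∨ a = t * Z)
    (hfix : ∀ g ∈ normalizer (T : Set G), g * Z * g⁻¹ = Z) :
    (centralizer (T : Set G)).relIndex (normalizer (T : Set G)) = 1 ∨
      (centralizer (T : Set G)).relIndex (normalizer (T : Set G)) = 2 := by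
  have htT : t ∈ T := (hmem t).mpr (Or.inr (Or.inr (Or.inl rfl)))
  have key : ∀ g ∈ normalizer (T : Set G), g * t * g⁻¹ = t ∨ g * t * g⁻¹ = t * Z := by
    intro g hg
    have h1 : g * t * g⁻¹ ∈ T := (mem_normalizer_iff.mp hg t).mp htT
    rcases (hmem _).mp h1 with e | e | e | e
    · left
      have : t = 1 := by
        have := congrArg (fun u => g⁻¹ * u * g) e
        simpa [mul_assoc] using this
      rw [this]; group
    · exfalso
      apply htZ
      have e2 := hfix g hg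
      have : g * t * g⁻¹ = g * Z * g⁻¹ := e.trans e2.symm
      exact mul_left_cancel (mul_right_cancel this)
    · left; exact e
    · right; exact e
  have hcent : ∀ g ∈ normalizer (T : Set G), g * t * g⁻¹ = t → g ∈ centralizer (T : Set G) := by
    intro g hg e
    have eZ := hfix g hg
    have c1 : g * t = t * g := by
      have : g * t = (g * t * g⁻¹) * g := by group
      rw [this, e]
    have c2 : g * Z = Z * g := by
      have : g * Z = (g * Z * g⁻¹) * g := by group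
      rw [this, eZ]
    rw [mem_centralizer_iff]
    intro a ha
    rcases (hmem a).mp ha with rfl | rfl | rfl | rfl
    · simp
    · exact c2.symm
    · exact c1.symm
    · rw [mul_assoc, ← c2, ← mul_assoc, ← c1, mul_assoc]
  apply relIndex_eq_one_or_two
  intro a ha b hb haC hbC
  have ea : a * t * a⁻¹ = t * Z := by
    rcases key a ha with e | e
    · exact absurd (hcent a ha e) haC
    · exact e
  have eb : b * t * b⁻¹ = t * Z := by
    rcases key b hb with e | e
    · exact absurd (hcent b hb e) hbC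
    · exact e
  apply hcent _ (mul_mem hb ha)
  have : b * a * t * (b * a)⁻¹ = b * (a * t * a⁻¹) * b⁻¹ := by group
  rw [this, ea]
  have : b * (t * Z) * b⁻¹ = (b * t * b⁻¹) * (b * Z * b⁻¹) := by group
  rw [this, eb, hfix b hb, mul_assoc, hZ, mul_one]

/-- `Q = ⟨V⟩ ∪ q⟨V⟩` quaternion of order 8; if `N_G(Q)` normalizes `⟨V⟩` then
`|N_G(Q) : Q C_G(Q)| ≤ 2`. -/
theorem quat_relIndex_le_two (V q : G) (hV : orderOf V = 4) (hqV : q * V * q⁻¹ = V⁻¹)
    (hqn : q ∉ zpowers V) (Q : Subgroup G) (hQ : Q = zpowers V ⊔ zpowers q)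
    (hmem : ∀ a, a ∈ Q ↔ a ∈ zpowers V ∨ q⁻¹ * a ∈ zpowers V)
    (hfix : ∀ g ∈ normalizer (Q : Set G), g * V * g⁻¹ ∈ zpowers V) :
    (Q ⊔ centralizer (Q : Set G)).relIndex (normalizer (Q : Set G)) = 1 ∨
      (Q ⊔ centralizer (Q : Set G)).relIndex (normalizer (Q : Set G)) = 2 := by
  have hV4 : V ^ 4 = 1 := by rw [← hV]; exact pow_orderOf_eq_one V
  have hVQ : V ∈ Q := by rw [hQ]; exact mem_sup_left (mem_zpowers V)
  have hqQ : q ∈ Q := by rw [hQ]; exact mem_sup_right (mem_zpowers q)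
  have hconjV : ∀ g ∈ normalizer (Q : Set G), g * V * g⁻¹ = V ∨ g * V * g⁻¹ = V⁻¹ := by
    intro g hg
    have ho : orderOf (g * V * g⁻¹) = 4 := by
      have := (MulAut.conj g).orderOf_eq V
      rw [MulAut.conj_apply] at this
      rw [this, hV]
    rcases IsQD.mem_zpowers_four V _ hV (hfix g hg) with e | e | e | e
    · rw [e, orderOf_one] at ho; omega
    · left; exact e
    · exfalso
      rw [e] at ho
      have h2 : (V ^ 2) ^ 2 = 1 := by rw [← pow_mul]; exact hV4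
      have := Nat.le_of_dvd (by norm_num) (orderOf_dvd_of_pow_eq_one h2)
      omega
    · right; exact e
  have hw : ∀ b ∈ normalizer (Q : Set G), q⁻¹ * (b * q * b⁻¹) ∈ zpowers V := by
    intro b hb
    have h1 : b * q * b⁻¹ ∈ Q := (mem_normalizer_iff.mp hb q).mp hqQ
    rcases (hmem _).mp h1 with h2 | h2
    · exfalso; apply hqn
      obtain ⟨j, hj⟩ := mem_zpowers_iff.mp h2
      have hb' : b⁻¹ ∈ normalizer (Q : Set G) := inv_mem hb
      have h3 := hfix b⁻¹ hb'
      have : q = (b⁻¹ * V * b⁻¹⁻¹) ^ j := by rw [conj_zpow, hj]; group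
      rw [this]; exact zpow_mem h3 j
    · exact h2
  have r1 : q * V = V⁻¹ * q := by
    have : q * V = (q * V * q⁻¹) * q := by group
    rw [this, hqV]
  have r2 : q * V⁻¹ = V * q := by
    have : q * V⁻¹ = (q * V * q⁻¹)⁻¹ * q := by group
    rw [this, hqV, inv_inv]
  have hcen : ∀ d : G, d * V = V * d → d * q = q * d → d ∈ centralizer (Q : Set G) := by
    intro d h1 h2
    rw [hQ]; exact mem_centralizer_sup_zpowers d V q h1 h2
  have hEvenMem : ∀ b ∈ normalizer (Q : Set G),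
      (q⁻¹ * (b * q * b⁻¹) = 1 ∨ q⁻¹ * (b * q * b⁻¹) = V ^ 2) →
        b ∈ Q ⊔ centralizer (Q : Set G) := by
    intro b hb hwb
    have hbq : b * q = q * b ∨ b * q = q * V ^ 2 * b := by
      rcases hwb with e | e
      · left
        have : b * q = q * (q⁻¹ * (b * q * b⁻¹)) * b := by group
        rw [this, e, mul_one]
      · right
        have : b * q = q * (q⁻¹ * (b * q * b⁻¹)) * b := by group
        rw [this, e]
    have hbV : b * V = V * b ∨ b * V = V⁻¹ * b := by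
      rcases hconjV b hb with e | e
      · left
        have : b * V = (b * V * b⁻¹) * b := by group
        rw [this, e]
      · right
        have : b * V = (b * V * b⁻¹) * b := by group
        rw [this, e]
    rcases hbV with hb1 | hb1 <;> rcases hbq with hb2 | hb2
    · exact mem_sup_right (hcen b hb1 hb2)
    · -- d = V⁻¹ b
      have hd : V⁻¹ * b ∈ centralizer (Q : Set G) := by
        apply hcen
        · calc V⁻¹ * b * V = V⁻¹ * (b * V) := by group
            _ = V⁻¹ * (V * b) := by rw [hb1]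
            _ = V * (V⁻¹ * b) := by group
        · calc V⁻¹ * b * q = V⁻¹ * (b * q) := by group
            _ = V⁻¹ * (q * V ^ 2 * b) := by rw [hb2]
            _ = (V⁻¹ * q) * V ^ 2 * b := by group
            _ = q * V * V ^ 2 * b := by rw [← r1]
            _ = q * (V ^ 4 * V⁻¹) * b := by group
            _ = q * (V⁻¹ * b) := by rw [hV4]; group
      have : b = V * (V⁻¹ * b) := by group
      rw [this]
      exact mul_mem (mem_sup_left hVQ) (mem_sup_right hd)
    · -- d = q⁻¹ b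
      have hd : q⁻¹ * b ∈ centralizer (Q : Set G) := by
        apply hcen
        · calc q⁻¹ * b * V = q⁻¹ * (b * V) := by group
            _ = q⁻¹ * (V⁻¹ * b) := by rw [hb1]
            _ = q⁻¹ * (V⁻¹ * q) * q⁻¹ * b := by group
            _ = q⁻¹ * (q * V) * q⁻¹ * b := by rw [← r1]
            _ = V * (q⁻¹ * b) := by group
        · calc q⁻¹ * b * q = q⁻¹ * (b * q) := by group
            _ = q⁻¹ * (q * b) := by rw [hb2]
            _ = q * (q⁻¹ * b) := by group
      have : b = q * (q⁻¹ * b) := by group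
      rw [this]
      exact mul_mem (mem_sup_left hqQ) (mem_sup_right hd)
    · -- d = V⁻¹ q⁻¹ b
      have hd : V⁻¹ * q⁻¹ * b ∈ centralizer (Q : Set G) := by
        apply hcen
        · calc V⁻¹ * q⁻¹ * b * V = V⁻¹ * q⁻¹ * (b * V) := by group
            _ = V⁻¹ * q⁻¹ * (V⁻¹ * b) := by rw [hb1]
            _ = V⁻¹ * q⁻¹ * (V⁻¹ * q) * q⁻¹ * b := by group
            _ = V⁻¹ * q⁻¹ * (q * V) * q⁻¹ * b := by rw [← r1]
            _ = V * (V⁻¹ * q⁻¹ * b) := by group
        · calc V⁻¹ * q⁻¹ * b * q = V⁻¹ * q⁻¹ * (b * q) := by group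
            _ = V⁻¹ * q⁻¹ * (q * V ^ 2 * b) := by rw [hb2]
            _ = (V * q) * q⁻¹ * b := by group
            _ = (q * V⁻¹) * q⁻¹ * b := by rw [← r2]
            _ = q * (V⁻¹ * q⁻¹ * b) := by group
      have : b = q * V * (V⁻¹ * q⁻¹ * b) := by group
      rw [this]
      exact mul_mem (mem_sup_left (mul_mem hqQ hVQ)) (mem_sup_right hd)
  have hOdd : ∀ b ∈ normalizer (Q : Set G), b ∉ Q ⊔ centralizer (Q : Set G) →
      (q⁻¹ * (b * q * b⁻¹) = V ∨ q⁻¹ * (b * q * b⁻¹) = V⁻¹) := by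
    intro b hb hbM
    rcases IsQD.mem_zpowers_four V _ hV (hw b hb) with e | e | e | e
    · exact absurd (hEvenMem b hb (Or.inl e)) hbM
    · left; exact e
    · exact absurd (hEvenMem b hb (Or.inr e)) hbM
    · right; exact e
  apply relIndex_eq_one_or_two
  intro a ha b hb haM hbM
  apply hEvenMem _ (mul_mem hb ha)
  have e1 : q⁻¹ * (b * a * q * (b * a)⁻¹) =
      (q⁻¹ * (b * q * b⁻¹)) * (b * (q⁻¹ * (a * q * a⁻¹)) * b⁻¹) := by group
  rw [e1]
  have hinv : b * V⁻¹ * b⁻¹ = (b * V * b⁻¹)⁻¹ := by group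
  have hbwa : b * (q⁻¹ * (a * q * a⁻¹)) * b⁻¹ = V ∨ b * (q⁻¹ * (a * q * a⁻¹)) * b⁻¹ = V⁻¹ := by
    rcases hOdd a ha haM with e | e <;> rcases hconjV b hb with e' | e'
    · rw [e, e']; left; rfl
    · rw [e, e']; right; rfl
    · rw [e, hinv, e']; right; rfl
    · rw [e, hinv, e', inv_inv]; left; rfl
  have hVV : V⁻¹ * V⁻¹ = V ^ 2 := by
    calc V⁻¹ * V⁻¹ = V⁻¹ * V⁻¹ * V ^ 4 := by rw [hV4, mul_one]
      _ = V ^ 2 := by group
  rcases hOdd b hb hbM with e | e <;> rcases hbwa with e' | e'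
  · rw [e, e']; right; rw [pow_two]
  · rw [e, e']; left; exact mul_inv_cancel V
  · rw [e, e']; left; exact inv_mul_cancel V
  · rw [e, e']; right; exact hVV

end abstract

theorem sup_zpowers_val {G : Type*} [Group G] (P : Subgroup G) (a b : ↥P) :
    zpowers (a : G) ⊔ zpowers (b : G) = (zpowers a ⊔ zpowers b).map P.subtype := by
  rw [Subgroup.map_sup, MonoidHom.map_zpowers, MonoidHom.map_zpowers]; rfl

theorem zpowers_val {G : Type*} [Group G] (P : Subgroup G) (a : ↥P) :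
    zpowers (a : G) = (zpowers a).map P.subtype := by
  rw [MonoidHom.map_zpowers]; rfl

namespace IsQD

variable {G : Type*} [Group G] {P : Subgroup G} {m : ℕ} {x y : ↥P}

theorem cover_val (h : IsQD ↥P m x y) (g : G) (hg : g ∈ P) :
    ∃ i : ℕ, g = (x : G) ^ i ∨ g = (x : G) ^ i * y := by
  obtain ⟨i, hi | hi⟩ := h.cover ⟨g, hg⟩
  · exact ⟨i, Or.inl (by simpa using congrArg Subtype.val hi)⟩
  · exact ⟨i, Or.inr (by simpa using congrArg Subtype.val hi)⟩

theorem invol_cases_val (h : IsQD ↥P m x y) (g : G) (hg : g ∈ P) (h2 : orderOf g = 2) :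
    g = (x : G) ^ (2 ^ (m + 2)) ∨ ∃ k : ℕ, g = (x : G) ^ (2 * k) * y := by
  have h2' : orderOf (⟨g, hg⟩ : ↥P) = 2 := by rw [← Subgroup.orderOf_coe]; exact h2
  obtain ⟨i, hi | hi⟩ := h.cover ⟨g, hg⟩
  · left
    have h3 := h.eq_z_of_orderOf_two _ (hi ▸ pow_mem (mem_zpowers x) i) h2'
    simpa using congrArg Subtype.val h3
  · right
    rcases Nat.even_or_odd' i with ⟨k, rfl | rfl⟩
    · exact ⟨k, by simpa using congrArg Subtype.val hi⟩
    · exfalso
      have := h.orderOf_xy_odd k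
      rw [← hi, h2'] at this
      omega

theorem four_cases_val (h : IsQD ↥P m x y) (g : G) (hg : g ∈ P) (h4 : orderOf g = 4) :
    g = (x : G) ^ (2 ^ (m + 1)) ∨ g = ((x : G) ^ (2 ^ (m + 1)))⁻¹ ∨
      ∃ k : ℕ, g = (x : G) ^ (2 * k + 1) * y := by
  have h4' : orderOf (⟨g, hg⟩ : ↥P) = 4 := by rw [← Subgroup.orderOf_coe]; exact h4
  obtain ⟨i, hi | hi⟩ := h.cover ⟨g, hg⟩
  · rcases h.eq_v_of_orderOf_four _ (hi ▸ pow_mem (mem_zpowers x) i) h4' with h3 | h3
    · left; simpa using congrArg Subtype.val h3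
    · right; left; simpa using congrArg Subtype.val h3
  · right; right
    rcases Nat.even_or_odd' i with ⟨k, rfl | rfl⟩
    · exfalso
      have := h.orderOf_xy_even k
      rw [← hi, h4'] at this
      omega
    · exact ⟨k, by simpa using congrArg Subtype.val hi⟩

theorem isConj_y_val (h : IsQD ↥P m x y) (k : ℕ) : IsConj (y : G) ((x : G) ^ (2 * k) * y) := by
  have := P.subtype.map_isConj (h.isConj_y k)
  simpa using this

theorem isConj_xy_val (h : IsQD ↥P m x y) (k : ℕ) :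
    IsConj ((x : G) * y) ((x : G) ^ (2 * k + 1) * y) := by
  have := P.subtype.map_isConj (h.isConj_xy k)
  simpa using this

theorem isConj_v_inv_val (h : IsQD ↥P m x y) :
    IsConj ((x : G) ^ (2 ^ (m + 1))) (((x : G) ^ (2 ^ (m + 1)))⁻¹) := by
  rw [isConj_iff]
  refine ⟨(y : G), ?_⟩
  have := congrArg Subtype.val h.conj_v
  simpa using this

theorem mem_K_iff_val (h : IsQD ↥P m x y) (k : ℕ) (a : G) :
    a ∈ zpowers ((x : G) ^ (2 ^ (m + 2))) ⊔ zpowers ((x : G) ^ (2 * k) * y) ↔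
      a = 1 ∨ a = (x : G) ^ (2 ^ (m + 2)) ∨ a = (x : G) ^ (2 * k) * y ∨
        a = (x : G) ^ (2 * k) * y * (x : G) ^ (2 ^ (m + 2)) := by
  rw [show ((x : G) ^ (2 ^ (m + 2))) = ((x ^ (2 ^ (m + 2)) : ↥P) : G) by simp,
    show (x : G) ^ (2 * k) * y = ((x ^ (2 * k) * y : ↥P) : G) by simp, sup_zpowers_val, mem_map]
  constructor
  · rintro ⟨b, hb, rfl⟩
    rcases (h.mem_K_iff k b).mp hb with rfl | rfl | rfl | rfl <;> simp
  · rintro (rfl | rfl | rfl | rfl)
    · exact ⟨1, one_mem _, rfl⟩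
    · exact ⟨_, (h.mem_K_iff k _).mpr (Or.inr (Or.inl rfl)), rfl⟩
    · exact ⟨_, (h.mem_K_iff k _).mpr (Or.inr (Or.inr (Or.inl rfl))), rfl⟩
    · exact ⟨_, (h.mem_K_iff k _).mpr (Or.inr (Or.inr (Or.inr rfl))), rfl⟩

theorem mem_Q8_iff_val (h : IsQD ↥P m x y) (k : ℕ) (a : G) :
    a ∈ zpowers ((x : G) ^ (2 ^ (m + 1))) ⊔ zpowers ((x : G) ^ (2 * k + 1) * y) ↔
      a ∈ zpowers ((x : G) ^ (2 ^ (m + 1))) ∨
        ((x : G) ^ (2 * k + 1) * y)⁻¹ * a ∈ zpowers ((x : G) ^ (2 ^ (m + 1))) := by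
  rw [show ((x : G) ^ (2 ^ (m + 1))) = ((x ^ (2 ^ (m + 1)) : ↥P) : G) by simp,
    show (x : G) ^ (2 * k + 1) * y = ((x ^ (2 * k + 1) * y : ↥P) : G) by simp, sup_zpowers_val,
    zpowers_val, mem_map, mem_map, mem_map]
  constructor
  · rintro ⟨b, hb, rfl⟩
    rcases (h.mem_Q8_iff k b).mp hb with h1 | h1
    · exact Or.inl ⟨b, h1, rfl⟩
    · exact Or.inr ⟨_, h1, by simp⟩
  · rintro (⟨b, hb, rfl⟩ | ⟨b, hb, hb'⟩)
    · exact ⟨b, (h.mem_Q8_iff k b).mpr (Or.inl hb), rfl⟩
    · refine ⟨(x ^ (2 * k + 1) * y) * b, (h.mem_Q8_iff k _).mpr (Or.inr ?_), ?_⟩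
      · rw [inv_mul_cancel_left]; exact hb
      · have : (P.subtype b : G) = ((x ^ (2 * k + 1) * y : ↥P) : G)⁻¹ * a := hb'
        rw [map_mul, this]; simp only [Subgroup.subtype_apply, Subgroup.coe_mul, SubgroupClass.coe_pow]; group

theorem klein_eq_val (h : IsQD ↥P m x y) (T : Subgroup G) (hT : IsKleinFour T) (hTP : T ≤ P) :
    ∃ k : ℕ, T = zpowers ((x : G) ^ (2 ^ (m + 2))) ⊔ zpowers ((x : G) ^ (2 * k) * y) := by
  have e := Subgroup.subgroupOfEquivOfLe hTP
  have hT' : IsKleinFour (T.subgroupOf P) :=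
    ⟨by rw [Nat.card_congr e.toEquiv]; exact hT.card_four,
      by rw [Monoid.exponent_eq_of_mulEquiv e]; exact hT.exponent_two⟩
  obtain ⟨k, hk⟩ := h.klein_eq (T.subgroupOf P) hT'
  refine ⟨k, ?_⟩
  rw [show ((x : G) ^ (2 ^ (m + 2))) = ((x ^ (2 ^ (m + 2)) : ↥P) : G) by simp,
    show (x : G) ^ (2 * k) * y = ((x ^ (2 * k) * y : ↥P) : G) by simp, sup_zpowers_val, ← hk,
    Subgroup.map_subgroupOf_eq_of_le hTP]

theorem q8_eq_val (h : IsQD ↥P m x y) (Q : Subgroup G) (hQP : Q ≤ P)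
    (eQ : Q ≃* QuaternionGroup 2) :
    ∃ k : ℕ, Q = zpowers ((x : G) ^ (2 ^ (m + 1))) ⊔ zpowers ((x : G) ^ (2 * k + 1) * y) := by
  have e := Subgroup.subgroupOfEquivOfLe hQP
  obtain ⟨k, hk⟩ := h.q8_eq (Q.subgroupOf P) (e.trans eQ)
  refine ⟨k, ?_⟩
  rw [show ((x : G) ^ (2 ^ (m + 1))) = ((x ^ (2 ^ (m + 1)) : ↥P) : G) by simp,
    show (x : G) ^ (2 * k + 1) * y = ((x ^ (2 * k + 1) * y : ↥P) : G) by simp, sup_zpowers_val,
    ← hk, Subgroup.map_subgroupOf_eq_of_le hQP]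

end IsQD

theorem card_subtype_eq_one {α : Type*} (p : α → Prop) (a : α) (ha : p a)
    (hall : ∀ c, p c → c = a) : Nat.card {c // p c} = 1 := by
  rw [Nat.card_eq_one_iff_unique]
  refine ⟨⟨fun c d => Subtype.ext ((hall c.1 c.2).trans (hall d.1 d.2).symm)⟩, ⟨⟨a, ha⟩⟩⟩

/-- an element of `2`-power order is conjugate into a given Sylow `2`-subgroup -/
theorem exists_conj_mem_sylow_two_of_orderOf {G : Type*} [Group G] [Finite G] (S : Sylow 2 G) (t : G)
    (n : ℕ) (ht : orderOf t = 2 ^ n) : ∃ g : G, g * t * g⁻¹ ∈ (S : Subgroup G) := by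
  have : Fact (Nat.Prime 2) := ⟨Nat.prime_two⟩
  have hp : IsPGroup 2 (zpowers t) := IsPGroup.of_card (n := n) (by rw [Nat.card_zpowers, ht])
  obtain ⟨g, -, hg⟩ := Cfsg.Agent.Lib.Helper12.exists_conj_mem_sylow S ⊤ (zpowers t) le_top le_top hp
  exact ⟨g, hg t (mem_zpowers t)⟩

namespace IsQD

theorem conj_v_q {S : Type*} [Group S] {m : ℕ} {x y : S} (h : IsQD S m x y) (i : ℕ) :
    (x ^ i * y) * x ^ (2 ^ (m + 1)) * (x ^ i * y)⁻¹ = (x ^ (2 ^ (m + 1)))⁻¹ := by
  have e1 : x ^ i * y * x ^ (2 ^ (m + 1)) * (x ^ i * y)⁻¹ =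
      x ^ i * (y * x ^ (2 ^ (m + 1)) * y⁻¹) * (x ^ i)⁻¹ := by group
  rw [e1, h.conj_v]; group

variable {G : Type*} [Group G] {P : Subgroup G} {m : ℕ} {x y : ↥P}

theorem z_orderOf_val (h : IsQD ↥P m x y) : orderOf ((x : G) ^ (2 ^ (m + 2))) = 2 := by
  have := h.z_orderOf
  rw [← Subgroup.orderOf_coe] at this
  simpa using this

theorem v_orderOf_val (h : IsQD ↥P m x y) : orderOf ((x : G) ^ (2 ^ (m + 1))) = 4 := by
  have := h.v_orderOf
  rw [← Subgroup.orderOf_coe] at this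
  simpa using this

/-- if `|N_G(T) : C_G(T)| ∉ {1, 2}` then the central involution is `G`-conjugate to `y` -/
theorem isConj_z_y_of_relIndex (h : IsQD ↥P m x y) (T : Subgroup G) (hT : IsKleinFour T)
    (hTP : T ≤ P)
    (h₁ : ¬ ((centralizer (T : Set G)).relIndex (normalizer (T : Set G)) = 1 ∨
      (centralizer (T : Set G)).relIndex (normalizer (T : Set G)) = 2)) :
    IsConj ((x : G) ^ (2 ^ (m + 2))) (y : G) := by
  obtain ⟨k, hk⟩ := h.klein_eq_val T hT hTP
  by_contra hcon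
  apply h₁
  have hZZ : (x : G) ^ (2 ^ (m + 2)) * (x : G) ^ (2 ^ (m + 2)) = 1 := by
    have := congrArg Subtype.val h.z_mul_self
    simpa using this
  have htZ : (x : G) ^ (2 * k) * y ≠ (x : G) ^ (2 ^ (m + 2)) := by
    intro e
    apply h.xy_not_mem (2 * k)
    have : x ^ (2 * k) * y = x ^ (2 ^ (m + 2)) := Subtype.ext (by simpa using e)
    rw [this]; exact pow_mem (mem_zpowers x) _
  have hZ1 : (x : G) ^ (2 ^ (m + 2)) ≠ 1 := by
    intro e
    have := h.z_orderOf_val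
    rw [e, orderOf_one] at this; omega
  apply klein_relIndex_le_two ((x : G) ^ (2 ^ (m + 2))) ((x : G) ^ (2 * k) * y) hZZ htZ T
    (fun a => by rw [hk]; exact h.mem_K_iff_val k a)
  intro g hg
  by_contra hne
  apply hcon
  have hZT : (x : G) ^ (2 ^ (m + 2)) ∈ T := by
    rw [hk]; exact mem_sup_left (mem_zpowers _)
  have h1 : g * (x : G) ^ (2 ^ (m + 2)) * g⁻¹ ∈ T := (mem_normalizer_iff.mp hg _).mp hZT
  rw [hk, h.mem_K_iff_val] at h1
  rcases h1 with e | e | e | e
  · exfalso; apply hZ1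
    have := congrArg (fun u => g⁻¹ * u * g) e
    simpa [mul_assoc] using this
  · exact absurd e hne
  · exact (isConj_iff.mpr ⟨g, e⟩).trans (h.isConj_y_val k).symm
  · have e2 : (x : G) ^ (2 * k) * y * (x : G) ^ (2 ^ (m + 2)) =
        (x : G) ^ (2 * (k + 2 ^ (m + 1))) * y := by
      have : x ^ (2 * k) * y * x ^ (2 ^ (m + 2)) = x ^ (2 * (k + 2 ^ (m + 1))) * y := by
        rw [mul_assoc, h.z_comm_y, ← mul_assoc, ← pow_add]
        congr 2; ring
      simpa using congrArg Subtype.val this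
    exact (isConj_iff.mpr ⟨g, e.trans e2⟩).trans (h.isConj_y_val _).symm

/-- if `|N_G(Q) : Q C_G(Q)| ∉ {1, 2}` then `v = x^(2^(m+1))` is `G`-conjugate to `x y` -/
theorem isConj_v_xy_of_relIndex (h : IsQD ↥P m x y) (Q : Subgroup G) (hQP : Q ≤ P)
    (eQ : Q ≃* QuaternionGroup 2)
    (h₂ : ¬ ((Q ⊔ centralizer (Q : Set G)).relIndex (normalizer (Q : Set G)) = 1 ∨
      (Q ⊔ centralizer (Q : Set G)).relIndex (normalizer (Q : Set G)) = 2)) :
    IsConj ((x : G) ^ (2 ^ (m + 1))) ((x : G) * y) := by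
  obtain ⟨k, hk⟩ := h.q8_eq_val Q hQP eQ
  by_contra hcon
  apply h₂
  have hqV : ((x : G) ^ (2 * k + 1) * y) * (x : G) ^ (2 ^ (m + 1)) * ((x : G) ^ (2 * k + 1) * y)⁻¹ =
      ((x : G) ^ (2 ^ (m + 1)))⁻¹ := by
    simpa using congrArg Subtype.val (h.conj_v_q (2 * k + 1))
  have hqn : (x : G) ^ (2 * k + 1) * y ∉ zpowers ((x : G) ^ (2 ^ (m + 1))) := by
    intro hq
    apply h.q_not_mem_v k
    rw [show ((x : G) ^ (2 ^ (m + 1))) = ((x ^ (2 ^ (m + 1)) : ↥P) : G) by simp, zpowers_val,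
      mem_map] at hq
    obtain ⟨b, hb, hb'⟩ := hq
    have : b = x ^ (2 * k + 1) * y := Subtype.ext (by simpa using hb')
    rw [← this]; exact hb
  apply quat_relIndex_le_two ((x : G) ^ (2 ^ (m + 1))) ((x : G) ^ (2 * k + 1) * y) h.v_orderOf_val
    hqV hqn Q hk (fun a => by rw [hk]; exact h.mem_Q8_iff_val k a)
  intro g hg
  by_contra hne
  apply hcon
  have hVQ : (x : G) ^ (2 ^ (m + 1)) ∈ Q := by
    rw [hk]; exact mem_sup_left (mem_zpowers _)
  have h1 : g * (x : G) ^ (2 ^ (m + 1)) * g⁻¹ ∈ Q := (mem_normalizer_iff.mp hg _).mp hVQ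
  have ho : orderOf (g * (x : G) ^ (2 ^ (m + 1)) * g⁻¹) = 4 := by
    have := (MulAut.conj g).orderOf_eq ((x : G) ^ (2 ^ (m + 1)))
    rw [MulAut.conj_apply] at this
    rw [this, h.v_orderOf_val]
  rcases h.four_cases_val _ (hQP h1) ho with e | e | ⟨k', e⟩
  · exact absurd (by rw [e]; exact mem_zpowers _) hne
  · exact absurd (by rw [e]; exact inv_mem (mem_zpowers _)) hne
  · exact (isConj_iff.mpr ⟨g, e⟩).trans (h.isConj_xy_val k').symm

end IsQD

section sylow

variable {G : Type*} [Group G] [Finite G] {S : Sylow 2 G} {m : ℕ} {x y : ↥(S : Subgroup G)}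

/-- all involutions are conjugate to the central involution of `S` -/
theorem IsQD.invol_isConj_z (h : IsQD ↥(S : Subgroup G) m x y)
    (hc : IsConj ((x : G) ^ (2 ^ (m + 2))) (y : G)) (t : G) (ht : orderOf t = 2) :
    IsConj t ((x : G) ^ (2 ^ (m + 2))) := by
  obtain ⟨g, hg⟩ := exists_conj_mem_sylow_two_of_orderOf S t 1 (by rw [ht, pow_one])
  have ho : orderOf (g * t * g⁻¹) = 2 := by
    have := (MulAut.conj g).orderOf_eq t
    rw [MulAut.conj_apply] at this
    rw [this, ht]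
  have h0 : IsConj t (g * t * g⁻¹) := isConj_iff.mpr ⟨g, rfl⟩
  rcases h.invol_cases_val _ hg ho with e | ⟨k, e⟩
  · rw [e] at h0; exact h0
  · rw [e] at h0
    exact h0.trans ((h.isConj_y_val k).symm.trans hc.symm)

/-- all elements of order 4 are conjugate to `v` -/
theorem IsQD.four_isConj_v (h : IsQD ↥(S : Subgroup G) m x y)
    (hc : IsConj ((x : G) ^ (2 ^ (m + 1))) ((x : G) * y)) (t : G) (ht : orderOf t = 4) :
    IsConj t ((x : G) ^ (2 ^ (m + 1))) := by
  obtain ⟨g, hg⟩ := exists_conj_mem_sylow_two_of_orderOf S t 2 (by rw [ht]; norm_num)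
  have ho : orderOf (g * t * g⁻¹) = 4 := by
    have := (MulAut.conj g).orderOf_eq t
    rw [MulAut.conj_apply] at this
    rw [this, ht]
  have h0 : IsConj t (g * t * g⁻¹) := isConj_iff.mpr ⟨g, rfl⟩
  rcases h.four_cases_val _ hg ho with e | e | ⟨k, e⟩
  · rw [e] at h0; exact h0
  · rw [e] at h0; exact h0.trans h.isConj_v_inv_val.symm
  · rw [e] at h0
    exact h0.trans ((h.isConj_xy_val k).symm.trans hc.symm)

theorem IsQD.card_classes_invol_eq_one (h : IsQD ↥(S : Subgroup G) m x y)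
    (hc : IsConj ((x : G) ^ (2 ^ (m + 2))) (y : G)) :
    Nat.card {C : ConjClasses G // ∃ t : G, orderOf t = 2 ∧ ConjClasses.mk t = C} = 1 := by
  apply card_subtype_eq_one _ (ConjClasses.mk ((x : G) ^ (2 ^ (m + 2))))
    ⟨_, h.z_orderOf_val, rfl⟩
  rintro C ⟨t, ht, rfl⟩
  exact ConjClasses.mk_eq_mk_iff_isConj.mpr (h.invol_isConj_z hc t ht)

theorem IsQD.card_classes_four_eq_one (h : IsQD ↥(S : Subgroup G) m x y)
    (hc : IsConj ((x : G) ^ (2 ^ (m + 1))) ((x : G) * y)) :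
    Nat.card {C : ConjClasses G // ∃ t : G, orderOf t = 4 ∧ ConjClasses.mk t = C} = 1 := by
  apply card_subtype_eq_one _ (ConjClasses.mk ((x : G) ^ (2 ^ (m + 1))))
    ⟨_, h.v_orderOf_val, rfl⟩
  rintro C ⟨t, ht, rfl⟩
  exact ConjClasses.mk_eq_mk_iff_isConj.mpr (h.four_isConj_v hc t ht)

/-- with both fusions, there is no subgroup of index 2 -/
theorem IsQD.no_index_two (h : IsQD ↥(S : Subgroup G) m x y)
    (hc1 : IsConj ((x : G) ^ (2 ^ (m + 2))) (y : G))
    (hc2 : IsConj ((x : G) ^ (2 ^ (m + 1))) ((x : G) * y)) (H : Subgroup G) : H.index ≠ 2 := by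
  have : Fact (Nat.Prime 2) := ⟨Nat.prime_two⟩
  intro hH
  have hn : H.Normal := normal_of_index_eq_two hH
  have hZ : (x : G) ^ (2 ^ (m + 2)) ∈ H := by
    have := sq_mem_of_index_two hH ((x : G) ^ (2 ^ (m + 1)))
    rwa [← pow_mul, show 2 ^ (m + 1) * 2 = 2 ^ (m + 2) by ring] at this
  have hV : (x : G) ^ (2 ^ (m + 1)) ∈ H := by
    have := sq_mem_of_index_two hH ((x : G) ^ (2 ^ m))
    rwa [← pow_mul, show 2 ^ m * 2 = 2 ^ (m + 1) by ring] at this
  have hY : (y : G) ∈ H := by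
    obtain ⟨c, hc⟩ := isConj_iff.mp hc1
    rw [← hc]; exact hn.conj_mem _ hZ c
  have hXY : (x : G) * y ∈ H := by
    obtain ⟨c, hc⟩ := isConj_iff.mp hc2
    rw [← hc]; exact hn.conj_mem _ hV c
  have hX : (x : G) ∈ H := by
    have := H.mul_mem hXY (H.inv_mem hY)
    simpa using this
  have hle : (S : Subgroup G) ≤ H := by
    intro g hg
    obtain ⟨i, rfl | rfl⟩ := h.cover_val g hg
    · exact pow_mem hX i
    · exact mul_mem (pow_mem hX i) hY
  have hd : H.index ∣ (S : Subgroup G).index := index_dvd_of_le hle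
  rw [hH] at hd
  exact S.not_dvd_index hd

end sylow

end Cfsg.Agent.Lib.Helper18
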