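import Mathlib
import Cfsg.Agent.Lib.Helper18.QuasiDihedralQuat
import Cfsg.Agent.Lib.Helper18.QuasiDihedralKlein
import Cfsg.Agent.Lib.Helper18.WreathedKlein
import Cfsg.Agent.Lib.Helper18.OddAut
import Cfsg.Agent.Lib.Helper18.QDFusion

set_option autoImplicit false

/-!
# Subgroups of a quasi-dihedral group and their automorphisms of odd order

Every subgroup of a quasi-dihedral 2-group either has no nontrivial automorphism of odd order, or is a
four-group, or is quaternion of order 8.
-/

namespace Cfsg.Agent.Lib.Helper18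

open Subgroup

/-- no nontrivial automorphisms of odd order -/
def OddAutTrivial (X : Type*) [Group X] : Prop :=
  ∀ (φ : MulAut X) (n : ℕ), Odd n → φ ^ n = 1 → φ = 1

theorem OddAutTrivial.of_mulEquiv {X Y : Type*} [Group X] [Group Y] (e : X ≃* Y)
    (h : OddAutTrivial X) : OddAutTrivial Y := by
  intro φ n hn hφ
  have h1 := h ((MulAut.congr e).symm φ) n hn (by rw [← map_pow, hφ, map_one])
  have h2 : (MulAut.congr e).symm φ = (MulAut.congr e).symm 1 := by rw [h1, map_one]
  exact (MulAut.congr e).symm.injective h2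

theorem oddAutTrivial_of_cyclic {X : Type*} [Group X] [Finite X] (g : X)
    (hg : ∀ u : X, u ∈ zpowers g) (k : ℕ) (ho : orderOf g = 2 ^ k) : OddAutTrivial X := by
  intro φ n hn hφ
  have hfix := aut_fixes_of_odd_of_mem_zpowers φ n hn hφ g k ho (hg _)
  ext u
  obtain ⟨i, rfl⟩ := mem_zpowers_iff.mp (hg u)
  rw [map_zpow, hfix]; rfl

namespace IsQD

variable {S : Type*} [Group S] {m : ℕ} {x y : S}

/-- elements of the dihedral maximal subgroup outside `⟨x⟩` are `x^(2k) y` -/
theorem even_of_mem_D (h : IsQD S m x y) (j : ℕ) (hu : x ^ j * y ∈ zpowers (x ^ 2) ⊔ zpowers y) :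
    Even j := by
  by_contra hodd
  rw [Nat.not_even_iff_odd] at hodd
  obtain ⟨l, rfl⟩ := hodd
  have hn := h.normal_sq
  have hy : y ∈ zpowers (x ^ 2) ⊔ zpowers y := mem_sup_right (mem_zpowers y)
  have h1 : x ^ (2 * l + 1) ∈ zpowers (x ^ 2) ⊔ zpowers y := by
    have := mul_mem hu (inv_mem hy)
    simpa using this
  have h2 : x ∈ zpowers (x ^ 2) ⊔ zpowers y := by
    have h3 : (x ^ 2) ^ l ∈ zpowers (x ^ 2) ⊔ zpowers y := mem_sup_left (pow_mem (mem_zpowers _) l)
    have := mul_mem (inv_mem h3) h1
    have e : ((x ^ 2) ^ l)⁻¹ * x ^ (2 * l + 1) = x := by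
      rw [← pow_mul, pow_succ, ← mul_assoc, inv_mul_cancel, one_mul]
    rwa [e] at this
  exact h.x_not_mem_D h2

theorem order_cases_of_not_mem (h : IsQD S m x y) (u : S) (hu : u ∉ zpowers x) :
    orderOf u = 2 ∨ orderOf u = 4 := by
  obtain ⟨j, rfl | rfl⟩ := h.cover u
  · exact absurd (pow_mem (mem_zpowers x) j) hu
  · rcases Nat.even_or_odd' j with ⟨l, rfl | rfl⟩
    · left; exact h.orderOf_xy_even l
    · right; exact h.orderOf_xy_odd l

/-- **Subgroups of a quasi-dihedral group**: no odd automorphisms, or four-group, or `Q₈`. -/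
theorem subgroup_trichotomy (h : IsQD S m x y) (X : Subgroup S) :
    OddAutTrivial X ∨ IsKleinFour X ∨ Nonempty (X ≃* QuaternionGroup 2) := by
  have := h.finite
  have hx0 : orderOf x ≠ 0 := by rw [h.hx]; positivity
  have hpow : ∀ u ∈ zpowers x, ∃ a, orderOf u = 2 ^ a := by
    intro u hu
    have hd : orderOf u ∣ 2 ^ (m + 3) := by rw [← h.hx]; exact orderOf_dvd_of_mem_zpowers hu
    obtain ⟨a, -, ha⟩ := (Nat.dvd_prime_pow Nat.prime_two).mp hd
    exact ⟨a, ha⟩
  obtain ⟨⟨r, hr⟩, hmax⟩ := Finite.exists_max (fun u : ↥(X ⊓ zpowers x) => orderOf (u : S))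
  have hrX : r ∈ X := hr.1
  have hrx : r ∈ zpowers x := hr.2
  obtain ⟨k, hk⟩ := hpow r hrx
  have hA : ∀ u ∈ X, u ∈ zpowers x → u ∈ zpowers r := by
    intro u huX hux
    obtain ⟨a, ha⟩ := hpow u hux
    have hle : orderOf u ≤ orderOf r := hmax ⟨u, huX, hux⟩
    apply mem_zpowers_of_orderOf_dvd x u r hx0 hux hrx
    rw [ha, hk] at hle ⊢
    exact pow_dvd_pow 2 ((Nat.pow_le_pow_iff_right (by norm_num)).mp hle)
  have hzp : ∀ (a u : X), (u : S) ∈ zpowers (a : S) → u ∈ zpowers a := by
    intro a u h1
    obtain ⟨i, hi⟩ := mem_zpowers_iff.mp h1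
    exact mem_zpowers_iff.mpr ⟨i, Subtype.ext (by simpa using hi)⟩
  have hzp' : ∀ (a u : X), u ∈ zpowers a → (u : S) ∈ zpowers (a : S) := by
    intro a u h1
    obtain ⟨i, hi⟩ := mem_zpowers_iff.mp h1
    exact mem_zpowers_iff.mpr ⟨i, by simpa using congrArg Subtype.val hi⟩
  by_cases hX : X ≤ zpowers x
  · left
    apply oddAutTrivial_of_cyclic (⟨r, hrX⟩ : X) _ k (by rw [Subgroup.orderOf_mk]; exact hk)
    intro u
    exact hzp _ _ (hA u u.2 (hX u.2))
  · obtain ⟨s, hsX, hsx⟩ := SetLike.not_le_iff_exists.mp hX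
    have hidx := h.index_zpowers
    have hcov : ∀ u ∈ X, u ∈ zpowers r ∨ ∃ i : ℤ, u = s * r ^ i := by
      intro u huX
      by_cases hux : u ∈ zpowers x
      · exact Or.inl (hA u huX hux)
      · right
        have h1 : s⁻¹ * u ∈ zpowers x := by
          rw [mul_mem_iff_of_index_two hidx]
          constructor
          · intro h2; exact absurd (inv_mem_iff.mp h2) hsx
          · intro h2; exact absurd h2 hux
        obtain ⟨i, hi⟩ := mem_zpowers_iff.mp (hA _ (mul_mem (inv_mem hsX) huX) h1)
        exact ⟨i, by rw [hi]; group⟩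
    have hsr : s ∉ zpowers r := fun h1 => hsx (zpowers_le.mpr hrx h1)
    have hs1 : s ≠ 1 := by
      intro e; apply hsx; rw [e]; exact one_mem _
    have hcovX : ∀ u : X, u ∈ zpowers (⟨r, hrX⟩ : X) ∨ ∃ i : ℤ, u = (⟨s, hsX⟩ : X) * ⟨r, hrX⟩ ^ i := by
      intro u
      rcases hcov u u.2 with h1 | ⟨i, hi⟩
      · exact Or.inl (hzp ⟨r, hrX⟩ u h1)
      · exact Or.inr ⟨i, Subtype.ext (by simpa using hi)⟩
    have hsrX : (⟨s, hsX⟩ : X) ∉ zpowers (⟨r, hrX⟩ : X) := fun h1 => hsr (hzp' _ _ h1)
    rcases Nat.lt_or_ge k 3 with hk3 | hk3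
    swap
    · left
      intro φ n hn hφ
      apply aut_eq_one_of_odd (⟨r, hrX⟩ : X) ⟨s, hsX⟩ k (by rw [Subgroup.orderOf_mk]; exact hk)
        hsrX hcovX _ φ n hn hφ
      intro u hu
      have hux : (u : S) ∉ zpowers x := fun h1 => hu (hzp ⟨r, hrX⟩ u (hA u u.2 h1))
      have h8 : 8 ≤ 2 ^ k := by
        calc 8 = 2 ^ 3 := by norm_num
          _ ≤ 2 ^ k := Nat.pow_le_pow_right (by norm_num) hk3
      rw [← Subgroup.orderOf_coe]
      rcases h.order_cases_of_not_mem u hux with e | e <;> rw [e] <;> omega
    · interval_cases k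
      · -- `r = 1`
        have hr1 : r = 1 := by rwa [pow_zero, orderOf_eq_one_iff] at hk
        have hss : s * s = 1 := by
          have h1 : s * s ∈ zpowers x := by
            rw [mul_mem_iff_of_index_two hidx]
          have := hA _ (mul_mem hsX hsX) h1
          rw [hr1, zpowers_one_eq_bot, mem_bot] at this
          exact this
        left
        apply oddAutTrivial_of_cyclic (⟨s, hsX⟩ : X) _ 1 _
        · intro u
          apply hzp
          rcases hcov u u.2 with h1 | ⟨i, hi⟩
          · rw [hr1, zpowers_one_eq_bot, mem_bot] at h1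
            rw [h1]; exact one_mem _
          · rw [hi, hr1, one_zpow, mul_one]; exact mem_zpowers s
        · rw [Subgroup.orderOf_mk, pow_one]
          exact orderOf_eq_prime (by rw [pow_two]; exact hss) hs1
      · -- `r = z`
        have hrz : r = x ^ (2 ^ (m + 2)) := h.eq_z_of_orderOf_two r hrx (by simpa using hk)
        obtain ⟨i, hi | hi⟩ := h.cover s
        · exact absurd (hi ▸ pow_mem (mem_zpowers x) i) hsx
        · rcases Nat.even_or_odd' i with ⟨l, rfl | rfl⟩
          · right; left
            have hXeq : X = zpowers (x ^ (2 ^ (m + 2))) ⊔ zpowers s := by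
              apply le_antisymm
              · intro u hu
                rcases hcov u hu with h1 | ⟨j, hj⟩
                · rw [hrz] at h1; exact mem_sup_left h1
                · rw [hj]
                  exact mul_mem (mem_sup_right (mem_zpowers s))
                    (mem_sup_left (by rw [← hrz]; exact zpow_mem (mem_zpowers r) j))
              · exact sup_le (zpowers_le.mpr (hrz ▸ hrX)) (zpowers_le.mpr hsX)
            rw [hXeq]
            apply isKleinFour_sup _ _ (fun a => h.z_central a) h.z_orderOf _ hs1 _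
            · rw [hi]; exact h.t_mul_self l
            · intro e; apply hsx; rw [e]; exact pow_mem (mem_zpowers x) _
          · left
            have hs2 : s * s = r := by rw [hi, hrz]; exact h.q_mul_self l
            have hrs : zpowers r ≤ zpowers s :=
              zpowers_le.mpr (hs2 ▸ mul_mem (mem_zpowers s) (mem_zpowers s))
            apply oddAutTrivial_of_cyclic (⟨s, hsX⟩ : X) _ 2 _
            · intro u
              apply hzp
              rcases hcov u u.2 with h1 | ⟨j, hj⟩
              · exact hrs h1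
              · rw [hj]
                exact mul_mem (mem_zpowers s) (hrs (zpow_mem (mem_zpowers r) j))
            · rw [Subgroup.orderOf_mk, hi]; exact h.orderOf_xy_odd l
      · -- `⟨r⟩ = ⟨v⟩`
        have hv : zpowers r = zpowers (x ^ (2 ^ (m + 1))) := by
          rcases h.eq_v_of_orderOf_four r hrx (by simpa using hk) with e | e
          · rw [e]
          · rw [e, zpowers_inv]
        have hvX : x ^ (2 ^ (m + 1)) ∈ X := by
          have : x ^ (2 ^ (m + 1)) ∈ zpowers r := by rw [hv]; exact mem_zpowers _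
          exact zpowers_le.mpr hrX this
        obtain ⟨i, hi | hi⟩ := h.cover s
        · exact absurd (hi ▸ pow_mem (mem_zpowers x) i) hsx
        · rcases Nat.even_or_odd' i with ⟨l, rfl | rfl⟩
          · left
            intro φ n hn hφ
            apply aut_eq_one_of_odd (⟨r, hrX⟩ : X) ⟨s, hsX⟩ 2
              (by rw [Subgroup.orderOf_mk]; exact hk) hsrX hcovX _ φ n hn hφ
            intro u hu
            have hux : (u : S) ∉ zpowers x := fun h1 => hu (hzp ⟨r, hrX⟩ u (hA u u.2 h1))
            have hur : (u : S) ∉ zpowers r := fun h1 => hu (hzp ⟨r, hrX⟩ u h1)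
            have hsD : s ∈ zpowers (x ^ 2) ⊔ zpowers y := by
              rw [hi, pow_mul]
              exact mul_mem (mem_sup_left (pow_mem (mem_zpowers _) l)) (mem_sup_right (mem_zpowers y))
            have hvD : zpowers r ≤ zpowers (x ^ 2) ⊔ zpowers y := by
              rw [hv]
              apply zpowers_le.mpr
              rw [show 2 ^ (m + 1) = 2 * 2 ^ m by ring, pow_mul]
              exact mem_sup_left (pow_mem (mem_zpowers _) _)
            have huD : (u : S) ∈ zpowers (x ^ 2) ⊔ zpowers y := by
              rcases hcov u u.2 with h1 | ⟨j, hj⟩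
              · exact absurd h1 hur
              · rw [hj]; exact mul_mem hsD (hvD (zpow_mem (mem_zpowers r) j))
            rw [← Subgroup.orderOf_coe]
            obtain ⟨j, hj | hj⟩ := h.cover (u : S)
            · exact absurd (hj ▸ pow_mem (mem_zpowers x) j) hux
            · rw [hj] at huD
              obtain ⟨l', rfl⟩ := h.even_of_mem_D j huD
              rw [hj, ← two_mul, h.orderOf_xy_even l']
              norm_num
          · right; right
            have hcovV : ∀ u ∈ X, u ∈ zpowers (x ^ (2 ^ (m + 1))) ∨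
                ∃ w ∈ zpowers (x ^ (2 ^ (m + 1))), u = s * w := by
              intro u hu
              rcases hcov u hu with h1 | ⟨j, hj⟩
              · left; rw [← hv]; exact h1
              · right; exact ⟨r ^ j, by rw [← hv]; exact zpow_mem (mem_zpowers r) j, hj⟩
            apply nonempty_mulEquiv_quaternionGroup (⟨x ^ (2 ^ (m + 1)), hvX⟩ : X) ⟨s, hsX⟩ 2
            · rw [Subgroup.orderOf_mk, h.v_orderOf]
            · apply Subtype.ext
              simp only [SubgroupClass.coe_pow]
              rw [pow_two s, hi, h.q_mul_self, h.v_sq]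
            · apply Subtype.ext
              simp only [Subgroup.coe_mul, Subgroup.coe_inv]
              rw [hi]; exact h.conj_v_q _
            · intro h1
              have := hzp' _ _ h1
              apply hsx
              exact h.v_le_zpowers this
            · intro u
              rcases hcovV u u.2 with h1 | ⟨w, hw, hu⟩
              · exact Or.inl (hzp ⟨_, hvX⟩ u h1)
              · right
                have hwX : w ∈ X := (zpowers_le.mpr hvX) hw
                exact ⟨⟨w, hwX⟩, hzp ⟨_, hvX⟩ ⟨w, hwX⟩ hw, Subtype.ext (by simpa using hu)⟩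

end IsQD

end Cfsg.Agent.Lib.Helper18
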