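import Mathlib
import Cfsg.Prelude.Def_Solvable

/-! Basic facts on `Cfsg.IsFrobeniusComplement` / `Cfsg.frobeniusKernel`. -/

set_option autoImplicit false

namespace Cfsg.Agent.Lib.Helper18

open scoped Pointwise

variable {G : Type*} [Group G]

theorem mem_conj_smul_iff (H : Subgroup G) (g x : G) :
    x ∈ MulAut.conj g • H ↔ g⁻¹ * x * g ∈ H := by
  rw [Subgroup.mem_pointwise_smul_iff_inv_smul_mem, MulAut.smul_def, ← map_inv,
    MulAut.conj_apply, inv_inv]

theorem mem_frobeniusKernel_iff (H : Subgroup G) (x : G) :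
    x ∈ Cfsg.frobeniusKernel H ↔ (x = 1 ∨ ∀ g : G, g⁻¹ * x * g ∉ H) := by
  unfold Cfsg.frobeniusKernel
  simp only [Set.mem_ofPred_eq, mem_conj_smul_iff]

/-- The Frobenius kernel (as a set) is closed under conjugation. -/
theorem conj_mem_frobeniusKernel (H : Subgroup G) (c x : G)
    (hx : x ∈ Cfsg.frobeniusKernel H) : c * x * c⁻¹ ∈ Cfsg.frobeniusKernel H := by
  rw [mem_frobeniusKernel_iff] at hx ⊢
  rcases hx with rfl | hx
  · left; group
  · right
    intro g hg
    apply hx (c⁻¹ * g)
    have : (c⁻¹ * g)⁻¹ * x * (c⁻¹ * g) = g⁻¹ * (c * x * c⁻¹) * g := by group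
    rw [this]; exact hg

/-- A non-identity element of the Frobenius kernel does not lie in the complement. -/
theorem not_mem_of_mem_frobeniusKernel (H : Subgroup G) (x : G)
    (hx : x ∈ Cfsg.frobeniusKernel H) (hx1 : x ≠ 1) : x ∉ H := by
  rw [mem_frobeniusKernel_iff] at hx
  rcases hx with rfl | hx
  · exact absurd rfl hx1
  · intro h
    apply hx 1
    simpa using h

/-- Non-identity elements of a Frobenius complement commute with no non-identity element of the
kernel. -/
theorem eq_one_of_commute_of_mem_frobeniusKernel (H : Subgroup G)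
    (hH : Cfsg.IsFrobeniusComplement H) (h : G) (hh : h ∈ H) (hh1 : h ≠ 1) (k : G)
    (hk : k ∈ Cfsg.frobeniusKernel H) (hcomm : k * h = h * k) : k = 1 := by
  by_contra hk1
  have hkH : k ∉ H := not_mem_of_mem_frobeniusKernel H k hk hk1
  have hbot := hH.2.2 k hkH
  have : h ∈ H ⊓ (MulAut.conj k • H) := by
    rw [Subgroup.mem_inf, mem_conj_smul_iff]
    refine ⟨hh, ?_⟩
    have : k⁻¹ * h * k = h := by
      rw [mul_assoc, ← hcomm]; group
    rw [this]; exact hh
  rw [hbot, Subgroup.mem_bot] at this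
  exact hh1 this

end Cfsg.Agent.Lib.Helper18
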