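import Mathlib
import Cfsg.Prelude.Def_GeometricClasses

/-!
REINDEX / TRANSPORT block (shared by S5662 and S5673; sub-planner helper18): definitions.

All block theorems of S5630 (Aschbacher, linear case) live on `Fin n`, whereas `InSymplecticClass` lives on `Fin m ⊕ Fin m` and
`InOrthogonalOddClass` on `Unit ⊕ (Fin m ⊕ Fin m)`.  For a bijection `e : ι ≃ κ` of index types everything is pushed forward from
`F^ι` to `F^κ`: vectors (`rv`), subspaces (`rs`), matrices (`rm`), subgroups of `GL` (`rg`, along the prelude's `glReindex e`),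
two-argument forms (`rf`), one-argument forms (`rq`), subalgebras of the matrix algebra (`ra`).  Pulling back is pushing along
`e.symm`.
-/

set_option autoImplicit false
set_option linter.unusedSectionVars false
set_option linter.unusedVariables false

namespace Cfsg.Agent.Lib.Helper18.Reidx
open Matrix Cfsg Cfsg.Geo

variable {F : Type*} [Field F] {ι κ : Type} [Fintype ι] [DecidableEq ι] [Fintype κ] [DecidableEq κ]

/-- push a vector along `e`: `(rv e v) k = v (e.symm k)` -/
def rv (e : ι ≃ κ) : (ι → F) ≃ₗ[F] (κ → F) := LinearEquiv.funCongrLeft F F e.symm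

@[simp] lemma rv_apply (e : ι ≃ κ) (v : ι → F) (k : κ) : rv e v k = v (e.symm k) := rfl

@[simp] lemma rv_symm_apply (e : ι ≃ κ) (w : κ → F) (i : ι) : (rv (F := F) e).symm w i = w (e i) := by
  change (LinearEquiv.funCongrLeft F F e.symm).symm w i = w (e i)
  rw [LinearEquiv.funCongrLeft_symm]
  rfl

/-- push a subspace -/
def rs (e : ι ≃ κ) (W : Submodule F (ι → F)) : Submodule F (κ → F) :=
  W.map ((rv e : (ι → F) ≃ₗ[F] (κ → F)) : (ι → F) →ₗ[F] (κ → F))

lemma mem_rs {e : ι ≃ κ} {W : Submodule F (ι → F)} {w : κ → F} :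
    w ∈ rs e W ↔ ∃ v ∈ W, rv e v = w := by
  unfold rs
  rw [Submodule.mem_map]
  rfl

/-- push a matrix: `(rm e M) k l = M (e.symm k) (e.symm l)` -/
def rm (e : ι ≃ κ) (M : Matrix ι ι F) : Matrix κ κ F := Matrix.reindex e e M

@[simp] lemma rm_apply (e : ι ≃ κ) (M : Matrix ι ι F) (k l : κ) : rm e M k l = M (e.symm k) (e.symm l) := rfl

lemma glReindex_val (e : ι ≃ κ) (g : GL ι F) :
    ((glReindex e g : GL κ F) : Matrix κ κ F) = rm e (g : Matrix ι ι F) := rfl

lemma rm_mulVec (e : ι ≃ κ) (M : Matrix ι ι F) (v : ι → F) : rm e M *ᵥ rv e v = rv e (M *ᵥ v) := by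
  ext k
  simp only [Matrix.mulVec, dotProduct, rm_apply, rv_apply]
  exact (Equiv.sum_comp e.symm fun i => M (e.symm k) i * v i)

/-- push a subgroup of `GL` along the prelude's `glReindex e` -/
def rg (e : ι ≃ κ) (H : Subgroup (GL ι F)) : Subgroup (GL κ F) := H.map (glReindex e).toMonoidHom

lemma mem_rg {e : ι ≃ κ} {H : Subgroup (GL ι F)} {g : GL κ F} :
    g ∈ rg e H ↔ ∃ h ∈ H, glReindex e h = g := by
  unfold rg
  rw [Subgroup.mem_map]
  rfl

/-- push a two-argument form -/
def rf (e : ι ≃ κ) (f : (ι → F) → (ι → F) → F) : (κ → F) → (κ → F) → F :=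
  fun u v => f ((rv e).symm u) ((rv e).symm v)

lemma rf_rv (e : ι ≃ κ) (f : (ι → F) → (ι → F) → F) (u v : ι → F) : rf e f (rv e u) (rv e v) = f u v := by
  unfold rf
  rw [LinearEquiv.symm_apply_apply, LinearEquiv.symm_apply_apply]

/-- push a one-argument form -/
def rq (e : ι ≃ κ) (Q : (ι → F) → F) : (κ → F) → F := fun v => Q ((rv e).symm v)

lemma rq_rv (e : ι ≃ κ) (Q : (ι → F) → F) (v : ι → F) : rq e Q (rv e v) = Q v := by
  unfold rq
  rw [LinearEquiv.symm_apply_apply]

/-- push a subalgebra of the matrix algebra -/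
def ra (e : ι ≃ κ) (K : Subalgebra F (Matrix ι ι F)) : Subalgebra F (Matrix κ κ F) :=
  K.map (Matrix.reindexAlgEquiv F F e).toAlgHom

lemma mem_ra {e : ι ≃ κ} {K : Subalgebra F (Matrix ι ι F)} {M : Matrix κ κ F} :
    M ∈ ra e K ↔ ∃ k ∈ K, rm e k = M := by
  unfold ra
  rw [Subalgebra.mem_map]
  rfl

end Cfsg.Agent.Lib.Helper18.Reidx
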