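import Mathlib
import Cfsg.Prelude.Def_GeometricClasses
import Cfsg.Agent.Lib.Helper20.AschDefs

/-!
S5673 (Aschbacher's theorem for the odd-dimensional orthogonal groups, `q` odd; planner helper18): shared definitions.

`InOClass Q M` is `InOrthogonalOddClass` for an arbitrary quadratic form `Q` on `F^κ` (`κ` any finite index type): the eight clauses
of the prelude with `Unit ⊕ (Fin m ⊕ Fin m)` replaced by `κ` and `2 * m + 1` by `Fintype.card κ`.  `GeoO Q H`: `H` lies in a member.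
`OCtx Q`: the standing hypotheses on `Q` for the generic theorem on `Fin n`.
-/

set_option autoImplicit false
set_option linter.unusedSectionVars false
set_option linter.unusedVariables false

namespace Cfsg.Agent.Lib.Helper18.OAsch
open Matrix Cfsg Cfsg.Geo Cfsg.Agent.Lib.Helper20.Asch
open scoped Kronecker

variable {F : Type*} [Field F] [Fintype F] {κ : Type} [Fintype κ] [DecidableEq κ]

/-- `InOrthogonalOddClass` for an arbitrary quadratic form `Q` on `F^κ` -/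
def InOClass (Q : (κ → F) → F) (M : Subgroup (GL κ F)) : Prop :=
  let f := QuadraticMap.polar Q
  let I := isometryGroup F Q
  (∃ W : Submodule F (κ → F), W ≠ ⊥ ∧ IsTotallySingularQuad Q W ∧ M = subspaceStabilizer W ⊓ I) ∨
  (∃ W : Submodule F (κ → F), W ≠ ⊥ ∧ W ≠ ⊤ ∧ IsNondegenerateOn f W ∧ M = subspaceStabilizer W ⊓ I) ∨
  (∃ (t k : ℕ) (D : Fin t → Submodule F (κ → F)), 1 < k ∧ IsOrthogonalMDecomposition Q k D ∧
      M = decompositionStabilizer D ⊓ I) ∨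
  (∃ (t : ℕ) (D : Fin t → Submodule F (κ → F)), (Fintype.card F).Prime ∧ IsOrthogonalMDecomposition Q 1 D ∧
      M = decompositionStabilizer D ⊓ I) ∨
  (∃ (r : ℕ) (K : Subalgebra F (Matrix κ κ F)), r.Prime ∧ Fintype.card κ ≠ r ∧
      IsFieldSubalgebra r K ∧ IsSelfAdjointFor f K ∧ M = subalgebraNormalizer K ⊓ I) ∨
  (∃ (n₁ n₂ : ℕ) (e : κ ≃ Fin n₁ × Fin n₂) (P : GL κ F)
      (f₁ : (Fin n₁ → F) → (Fin n₁ → F) → F) (f₂ : (Fin n₂ → F) → (Fin n₂ → F) → F),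
      3 ≤ n₁ ∧ n₁ < n₂ ∧ IsSymmetricForm f₁ ∧ IsSymmetricForm f₂ ∧ IsTensorFormStructure id f f₁ f₂ e P ∧
      M = tensorProductSubgroup n₁ n₂ e P ⊓ I) ∨
  (∃ (F₀ : Subfield F) (r : ℕ) (P : GL κ F), r.Prime ∧ Fintype.card F = Nat.card F₀ ^ r ∧
      IsQuadFormRationalStructure Q F₀ P ∧ M = subfieldSubgroup F₀ P ⊓ I) ∨
  (∃ (k t : ℕ) (e : κ ≃ (Fin t → Fin k)) (P : GL κ F)
      (f₁ : (Fin k → F) → (Fin k → F) → F), 3 ≤ k ∧ 2 ≤ t ∧ ¬ (Fintype.card F = 3 ∧ k = 3) ∧ IsSymmetricForm f₁ ∧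
      IsTensorPowerFormStructure id f f₁ e P ∧ M = tensorWreathSubgroup k t e P ⊓ I)

/-- the prelude's predicate is the instance `κ = Unit ⊕ (Fin m ⊕ Fin m)`, `Q = quadFormOdd m F` -/
lemma inOClass_iff (m : ℕ) (M : Subgroup (GL (Unit ⊕ (Fin m ⊕ Fin m)) F)) :
    InOrthogonalOddClass m F M ↔ InOClass (quadFormOdd m F) M := by
  have hcard : Fintype.card (Unit ⊕ (Fin m ⊕ Fin m)) = 2 * m + 1 := by
    simp only [Fintype.card_sum, Fintype.card_fin, Fintype.card_unit]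
    omega
  unfold InOrthogonalOddClass InOClass
  rw [hcard]

/-- `H` lies in a member of one of the geometric classes for the isometry group of `Q` -/
def GeoO (Q : (κ → F) → F) (H : Subgroup (GL κ F)) : Prop :=
  ∃ M : Subgroup (GL κ F), InOClass Q M ∧ H ≤ M

variable {Q : (κ → F) → F} {H : Subgroup (GL κ F)}

lemma GeoO.of_ts (hI : H ≤ isometryGroup F Q) (W : Submodule F (κ → F)) (h0 : W ≠ ⊥)
    (hts : IsTotallySingularQuad Q W) (hH : H ≤ subspaceStabilizer W) : GeoO Q H :=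
  ⟨_, Or.inl ⟨W, h0, hts, rfl⟩, le_inf hH hI⟩

lemma GeoO.of_nd (hI : H ≤ isometryGroup F Q) (W : Submodule F (κ → F)) (h0 : W ≠ ⊥) (h1 : W ≠ ⊤)
    (hnd : IsNondegenerateOn (QuadraticMap.polar Q) W) (hH : H ≤ subspaceStabilizer W) : GeoO Q H :=
  ⟨_, Or.inr (Or.inl ⟨W, h0, h1, hnd, rfl⟩), le_inf hH hI⟩

lemma GeoO.of_dec (hI : H ≤ isometryGroup F Q) {t k : ℕ} (D : Fin t → Submodule F (κ → F)) (hk : 1 < k)
    (hD : IsOrthogonalMDecomposition Q k D) (hH : H ≤ decompositionStabilizer D) : GeoO Q H :=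
  ⟨_, Or.inr (Or.inr (Or.inl ⟨t, k, D, hk, hD, rfl⟩)), le_inf hH hI⟩

lemma GeoO.of_frame (hI : H ≤ isometryGroup F Q) {t : ℕ} (D : Fin t → Submodule F (κ → F))
    (hp : (Fintype.card F).Prime) (hD : IsOrthogonalMDecomposition Q 1 D)
    (hH : H ≤ decompositionStabilizer D) : GeoO Q H :=
  ⟨_, Or.inr (Or.inr (Or.inr (Or.inl ⟨t, D, hp, hD, rfl⟩))), le_inf hH hI⟩

lemma GeoO.of_field (hI : H ≤ isometryGroup F Q) (r : ℕ) (K : Subalgebra F (Matrix κ κ F)) (hr : r.Prime)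
    (hne : Fintype.card κ ≠ r) (hK : IsFieldSubalgebra r K)
    (hsa : IsSelfAdjointFor (QuadraticMap.polar Q) K) (hH : H ≤ subalgebraNormalizer K) : GeoO Q H :=
  ⟨_, Or.inr (Or.inr (Or.inr (Or.inr (Or.inl ⟨r, K, hr, hne, hK, hsa, rfl⟩)))), le_inf hH hI⟩

lemma GeoO.of_tensor (hI : H ≤ isometryGroup F Q) (n₁ n₂ : ℕ) (e : κ ≃ Fin n₁ × Fin n₂) (P : GL κ F)
    (f₁ : (Fin n₁ → F) → (Fin n₁ → F) → F) (f₂ : (Fin n₂ → F) → (Fin n₂ → F) → F) (h1 : 3 ≤ n₁)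
    (h12 : n₁ < n₂) (hf₁ : IsSymmetricForm f₁) (hf₂ : IsSymmetricForm f₂)
    (hT : IsTensorFormStructure id (QuadraticMap.polar Q) f₁ f₂ e P)
    (hH : H ≤ tensorProductSubgroup n₁ n₂ e P) : GeoO Q H :=
  ⟨_, Or.inr (Or.inr (Or.inr (Or.inr (Or.inr (Or.inl ⟨n₁, n₂, e, P, f₁, f₂, h1, h12, hf₁, hf₂, hT, rfl⟩))))),
    le_inf hH hI⟩

lemma GeoO.of_subfield (hI : H ≤ isometryGroup F Q) (F₀ : Subfield F) (r : ℕ) (P : GL κ F) (hr : r.Prime)
    (hcard : Fintype.card F = Nat.card F₀ ^ r) (hrat : IsQuadFormRationalStructure Q F₀ P)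
    (hH : H ≤ subfieldSubgroup F₀ P) : GeoO Q H :=
  ⟨_, Or.inr (Or.inr (Or.inr (Or.inr (Or.inr (Or.inr (Or.inl ⟨F₀, r, P, hr, hcard, hrat, rfl⟩)))))),
    le_inf hH hI⟩

lemma GeoO.of_wreath (hI : H ≤ isometryGroup F Q) (k t : ℕ) (e : κ ≃ (Fin t → Fin k)) (P : GL κ F)
    (f₁ : (Fin k → F) → (Fin k → F) → F) (hk : 3 ≤ k) (ht : 2 ≤ t) (h33 : ¬ (Fintype.card F = 3 ∧ k = 3))
    (hf₁ : IsSymmetricForm f₁) (hT : IsTensorPowerFormStructure id (QuadraticMap.polar Q) f₁ e P)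
    (hH : H ≤ tensorWreathSubgroup k t e P) : GeoO Q H :=
  ⟨_, Or.inr (Or.inr (Or.inr (Or.inr (Or.inr (Or.inr (Or.inr ⟨k, t, e, P, f₁, hk, ht, h33, hf₁, hT, rfl⟩)))))),
    le_inf hH hI⟩

/-- the standing hypotheses of the generic theorem: `Q` is a non-degenerate quadratic form on `F^n`, `n ≥ 3` odd, `|F|` odd, and
the discriminant of `Q` lies in the prime field modulo squares (used for the subfield class: the rational structure has to carry
`Q` itself, not a multiple). -/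
structure OCtx {n : ℕ} (Q : (Fin n → F) → F) : Prop where
  nd : IsNondegenerateQuadraticForm Q
  oddq : Odd (Fintype.card F)
  oddn : Odd n
  three : 3 ≤ n
  disc : ∃ c : F, c ∈ (⊥ : Subfield F) ∧ c ≠ 0 ∧
    IsSquare (c * (gramMatrix (QuadraticMap.polar Q)).det)

end Cfsg.Agent.Lib.Helper18.OAsch
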