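import Mathlib
import Cfsg.Prelude.Def_GeometricClasses
import Cfsg.Agent.Lib.Helper20.AschDefs
import Cfsg.Agent.Lib.Helper18.OAschDefs
import Cfsg.Agent.Lib.Helper18.ReidxDefs
import Cfsg.Agent.Lib.Helper7.ReidxP0c
import Cfsg.Agent.Lib.Helper7.ReidxP1
import Cfsg.Agent.Lib.Helper9.ReidxP0b
import Cfsg.Agent.Lib.Helper9.ReidxP2
import Cfsg.Agent.Lib.Helper23.ReidxP3
import Cfsg.Agent.Lib.Helper23.ReidxP8
import Cfsg.Agent.Lib.Helper12.ReidxP5
import Cfsg.Agent.Lib.Helper12.ReidxP7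
import Cfsg.Agent.Lib.Helper5.ReidxP6
import Cfsg.Agent.Lib.Helper14.ReidxP9

/-!
S5673 (Aschbacher for `Ω_{2m+1}(q)`), block TR (helper18): the geometric classes are transported along a bijection of index types
(`geoO_rg`, from the REINDEX leaves), `omegaGL_le`, and the restated Reidx inputs of `notes/S5673_leaves.lean`.
-/

set_option autoImplicit false
set_option linter.unusedSectionVars false
set_option linter.unusedVariables false

namespace Cfsg.Agent.Lib.Helper18.OAschLeaf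
open Matrix Cfsg Cfsg.Geo Cfsg.Agent.Lib.Helper20.Asch Cfsg.Agent.Lib.Helper18.OAsch Cfsg.Agent.Lib.Helper18.Reidx

variable {F : Type*} [Field F] [Fintype F]

theorem rg_symm' {ι κ : Type} [Fintype ι] [DecidableEq ι] [Fintype κ] [DecidableEq κ] (e : ι ≃ κ)
    (H : Subgroup (GL ι F)) : rg e.symm (rg e H) = H :=
  Cfsg.Agent.Lib.Helper7.ReidxLeaf.rg_symm e H

theorem rq_symm' {ι κ : Type} [Fintype ι] [DecidableEq ι] [Fintype κ] [DecidableEq κ] (e : ι ≃ κ)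
    (Q : (ι → F) → F) : rq e.symm (rq e Q) = Q :=
  Cfsg.Agent.Lib.Helper7.ReidxLeaf.rq_symm e Q

theorem rg_mono' {ι κ : Type} [Fintype ι] [DecidableEq ι] [Fintype κ] [DecidableEq κ] (e : ι ≃ κ)
    {H K : Subgroup (GL ι F)} (h : H ≤ K) : rg e H ≤ rg e K :=
  Cfsg.Agent.Lib.Helper7.ReidxLeaf.rg_mono e h

theorem rg_isometryGroup' {ι κ : Type} [Fintype ι] [DecidableEq ι] [Fintype κ] [DecidableEq κ] (e : ι ≃ κ)
    (Q : (ι → F) → F) : rg e (isometryGroup F Q) = isometryGroup F (rq e Q) :=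
  Cfsg.Agent.Lib.Helper12.ReidxLeaf.rg_isometryGroup e Q

theorem inOrthogonalResidualClass_rg' {ι κ : Type} [Fintype ι] [DecidableEq ι] [Fintype κ] [DecidableEq κ]
    (e : ι ≃ κ) {H : Subgroup (GL ι F)} (h : InOrthogonalResidualClass H) :
    InOrthogonalResidualClass (rg e H) :=
  Cfsg.Agent.Lib.Helper14.ReidxLeaf.inOrthogonalResidualClass_rg e h

/-- (T3) `Ω` lies in the isometry group -/
theorem omegaGL_le {ι : Type} [Fintype ι] [DecidableEq ι] (Q : (ι → F) → F) : omegaGL Q ≤ isometryGroup F Q := by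
  unfold omegaGL
  exact Subgroup.map_subtype_le _

/-- (T1) the geometric classes are transported along a bijection of index types -/
theorem geoO_rg {ι κ : Type} [Fintype ι] [DecidableEq ι] [Fintype κ] [DecidableEq κ] (e : ι ≃ κ)
    {Q : (ι → F) → F} {H : Subgroup (GL ι F)} (h : GeoO Q H) : GeoO (rq e Q) (rg e H) := by
  obtain ⟨M, hM, hHM⟩ := h
  have hHM' : rg e H ≤ rg e M := Cfsg.Agent.Lib.Helper7.ReidxLeaf.rg_mono e hHM
  have hpol : QuadraticMap.polar (rq e Q) = rf e (QuadraticMap.polar Q) :=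
    Cfsg.Agent.Lib.Helper7.ReidxLeaf.polar_rq e Q
  have hI : ∀ X : Subgroup (GL ι F), rg e (X ⊓ isometryGroup F Q) = rg e X ⊓ isometryGroup F (rq e Q) := by
    intro X
    rw [Cfsg.Agent.Lib.Helper7.ReidxLeaf.rg_inf, Cfsg.Agent.Lib.Helper12.ReidxLeaf.rg_isometryGroup]
  refine ⟨rg e M, ?_, hHM'⟩
  unfold InOClass at hM ⊢
  simp only at hM ⊢
  rcases hM with ⟨W, h0, hts, rfl⟩ | ⟨W, h0, h1, hnd, rfl⟩ | ⟨t, k, D, hk, hD, rfl⟩ | ⟨t, D, hp, hD, rfl⟩ |
    ⟨r, K, hr, hne, hK, hsa, rfl⟩ | ⟨n₁, n₂, e₁, P, f₁, f₂, h1, h12, hf₁, hf₂, hT, rfl⟩ |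
    ⟨F₀, r, P, hr, hcard, hrat, rfl⟩ | ⟨k, t, e₁, P, f₁, hk, ht, h33, hf₁, hT, rfl⟩
  · left
    refine ⟨rs e W, ?_, Cfsg.Agent.Lib.Helper5.ReidxLeaf.isTotallySingularQuad_rs e hts, ?_⟩
    · rw [Ne, Cfsg.Agent.Lib.Helper9.ReidxLeaf.rs_eq_bot_iff]; exact h0
    · rw [hI, Cfsg.Agent.Lib.Helper7.ReidxLeaf.rg_subspaceStabilizer]
  · right; left
    refine ⟨rs e W, ?_, ?_, ?_, ?_⟩
    · rw [Ne, Cfsg.Agent.Lib.Helper9.ReidxLeaf.rs_eq_bot_iff]; exact h0
    · rw [Ne, Cfsg.Agent.Lib.Helper9.ReidxLeaf.rs_eq_top_iff]; exact h1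
    · rw [hpol]; exact Cfsg.Agent.Lib.Helper5.ReidxLeaf.isNondegenerateOn_rs e hnd
    · rw [hI, Cfsg.Agent.Lib.Helper7.ReidxLeaf.rg_subspaceStabilizer]
  · right; right; left
    refine ⟨t, k, fun i => rs e (D i), hk, Cfsg.Agent.Lib.Helper5.ReidxLeaf.isOrthogonalMDecomposition_rs e hD, ?_⟩
    rw [hI, Cfsg.Agent.Lib.Helper7.ReidxLeaf.rg_decompositionStabilizer]
  · right; right; right; left
    refine ⟨t, fun i => rs e (D i), hp, Cfsg.Agent.Lib.Helper5.ReidxLeaf.isOrthogonalMDecomposition_rs e hD, ?_⟩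
    rw [hI, Cfsg.Agent.Lib.Helper7.ReidxLeaf.rg_decompositionStabilizer]
  · right; right; right; right; left
    refine ⟨r, ra e K, hr, ?_, Cfsg.Agent.Lib.Helper9.ReidxLeaf.isFieldSubalgebra_ra e hK, ?_, ?_⟩
    · rw [← Fintype.card_congr e]; exact hne
    · rw [hpol]; exact Cfsg.Agent.Lib.Helper12.ReidxLeaf.isSelfAdjointFor_ra e hsa
    · rw [hI, Cfsg.Agent.Lib.Helper9.ReidxLeaf.rg_subalgebraNormalizer]
  · right; right; right; right; right; left
    refine ⟨n₁, n₂, e.symm.trans e₁, glReindex e P, f₁, f₂, h1, h12, hf₁, hf₂, ?_, ?_⟩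
    · rw [hpol]; exact Cfsg.Agent.Lib.Helper23.ReidxLeaf.isTensorFormStructure_r e hT
    · rw [hI, Cfsg.Agent.Lib.Helper23.ReidxLeaf.rg_tensorProductSubgroup]
  · right; right; right; right; right; right; left
    refine ⟨F₀, r, glReindex e P, hr, hcard, Cfsg.Agent.Lib.Helper23.ReidxLeaf.isQuadFormRationalStructure_r e hrat, ?_⟩
    rw [hI, Cfsg.Agent.Lib.Helper23.ReidxLeaf.rg_subfieldSubgroup]
  · right; right; right; right; right; right; right
    refine ⟨k, t, e.symm.trans e₁, glReindex e P, f₁, hk, ht, h33, hf₁, ?_, ?_⟩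
    · rw [hpol]; exact Cfsg.Agent.Lib.Helper23.ReidxLeaf.isTensorPowerFormStructure_r e hT
    · rw [hI, Cfsg.Agent.Lib.Helper23.ReidxLeaf.rg_tensorWreathSubgroup]

end Cfsg.Agent.Lib.Helper18.OAschLeaf
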