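import Mathlib
import Cfsg.Prelude.Def_GeometricClasses
import Cfsg.Agent.Lib.Lead.OEQF

/-!
OMEGA-EVEN rows market (planner lead), leaf OE-T3 `typeOn_one_iff_plus`
(exact signature of `notes/OmEven_rows_leaves.lean`).
-/

set_option autoImplicit false
set_option linter.unusedSectionVars false
set_option linter.unusedVariables false

namespace Cfsg.Agent.Lib.Helper18.OELeaf

open Cfsg Cfsg.Geo Matrix Module QuadraticMap Cfsg.Agent.Lib.Lead.OE

section generic
variable {ι : Type} [Fintype ι] [DecidableEq ι] {F : Type*} [Field F] [Fintype F]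
  (Q : QuadraticForm F (ι → F))

/-- the restriction of `Q` to `W` as a quadratic form on `W` -/
noncomputable def t3Res (W : Submodule F (ι → F)) : QuadraticForm F W := Q.comp W.subtype

lemma t3Res_apply (W : Submodule F (ι → F)) (w : W) : t3Res Q W w = Q (w : ι → F) := rfl

lemma t3Res_polar (W : Submodule F (ι → F)) (w w' : W) :
    polar (t3Res Q W) w w' = polar ⇑Q (w : ι → F) (w' : ι → F) := rfl

lemma t3Res_nondeg {W : Submodule F (ι → F)} (hW : IsNondegenerateOn (polar ⇑Q) W) :
    (polarBilin (t3Res Q W)).Nondegenerate := by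
  constructor
  · intro x hx
    by_contra hx0
    have hx0' : (x : ι → F) ≠ 0 := fun h => hx0 (Subtype.ext h)
    obtain ⟨-, ⟨y, hy, hxy⟩⟩ := hW x x.2 hx0'
    apply hxy
    have := hx ⟨y, hy⟩
    rwa [polarBilin_apply_apply, t3Res_polar] at this
  · intro x hx
    by_contra hx0
    have hx0' : (x : ι → F) ≠ 0 := fun h => hx0 (Subtype.ext h)
    obtain ⟨⟨y, hy, hxy⟩, -⟩ := hW x x.2 hx0'
    apply hxy
    have := hx ⟨y, hy⟩
    rwa [polarBilin_apply_apply, t3Res_polar] at this

/-- `TypeOn` in terms of the restricted form -/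
lemma t3_typeOn_iff (W : Submodule F (ι → F)) (ε : ℤ) :
    TypeOn Q W ε ↔ ∃ m : ℕ, finrank F W = 2 * m ∧
      Cfsg.Agent.Lib.Helper15.QuadType.HasType ε m (t3Res Q W) := Iff.rfl

/-- T3. -/
theorem typeOn_one_iff_plus {W : Submodule F (ι → F)} (hW : IsNondegenerateOn (polar ⇑Q) W)
    (hev : Even (finrank F W)) : TypeOn Q W 1 ↔ IsPlusTypeOn ⇑Q W := by
  classical
  have hnd := t3Res_nondeg Q hW
  obtain ⟨n, hn⟩ := hev
  rcases Nat.eq_zero_or_pos n with rfl | hnpos
  · -- dimension zero: both sides hold
    have hdim0 : finrank F W = 0 := by omega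
    have hsub : Subsingleton W := Module.finrank_zero_iff.1 hdim0
    constructor
    · intro _
      refine ⟨⊥, bot_le, ?_, ?_⟩
      · intro w hw
        rw [Submodule.mem_bot] at hw
        rw [hw]
        exact QuadraticMap.map_zero Q
      · rw [finrank_bot, hdim0]
    · intro _
      refine ⟨0, by omega, ?_⟩
      constructor
      · have : Nat.card {v : W // Q (v : ι → F) = 0} = 1 := by
          rw [Nat.card_eq_one_iff_unique]
          refine ⟨⟨fun x y => Subtype.ext (Subsingleton.elim _ _)⟩, ⟨⟨0, QuadraticMap.map_zero Q⟩⟩⟩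
        rw [this]
        simp
      · intro c hc
        have : Nat.card {v : W // Q (v : ι → F) = c} = 0 := by
          rw [Nat.card_eq_zero]
          left
          constructor
          rintro ⟨v, hv⟩
          rw [Subsingleton.elim v 0] at hv
          have h0 : Q ((0 : W) : ι → F) = 0 := QuadraticMap.map_zero Q
          rw [h0] at hv
          exact hc hv.symm
        rw [this]
        simp
  · obtain ⟨k, rfl⟩ : ∃ k, n = k + 1 := ⟨n - 1, by omega⟩
    have hdim : finrank F W = 2 * (k + 1) := by omega
    obtain ⟨a, c, hac⟩ := Cfsg.Agent.Lib.Helper15.QuadType.exists_aniso (F := F)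
    rcases Cfsg.Agent.Lib.Helper15.QuadType.classify (t3Res Q W) hnd k hdim hac with ⟨b, hb⟩ | ⟨b, hb⟩
    · -- plus coordinates: both sides hold
      have hT : TypeOn Q W 1 := by
        rw [t3_typeOn_iff]
        refine ⟨k + 1, hdim, ?_⟩
        apply (Cfsg.Agent.Lib.Helper15.QuadType.hasType_plus (F := F) (k + 1)).congr
          b.equivFun.symm.toEquiv
        intro v
        show t3Res Q W (b.equivFun.symm v) = _
        rw [← hb, LinearEquiv.apply_symm_apply]
      have hP : IsPlusTypeOn ⇑Q W := by
        obtain ⟨hts, hfr⟩ := Cfsg.Agent.Lib.Helper15.plus_std_ts (F := F) (k + 1)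
        set K := LinearMap.ker (LinearMap.funLeft F F (Sum.inr : Fin (k + 1) → Fin (k + 1) ⊕ Fin (k + 1)))
          with hK
        refine ⟨(K.map (b.equivFun.symm : (Fin (k + 1) ⊕ Fin (k + 1) → F) →ₗ[F] W)).map W.subtype,
          ?_, ?_, ?_⟩
        · intro u hu
          obtain ⟨w, -, rfl⟩ := Submodule.mem_map.1 hu
          exact w.2
        · intro u hu
          obtain ⟨w, hw, rfl⟩ := Submodule.mem_map.1 hu
          obtain ⟨x, hx, rfl⟩ := Submodule.mem_map.1 hw
          have h1 := hb (b.equivFun.symm x)
          rw [LinearEquiv.apply_symm_apply] at h1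
          have h2 := hts x hx
          rw [h1] at h2
          exact h2
        · rw [Submodule.finrank_map_subtype_eq]
          have := LinearEquiv.finrank_map_eq b.equivFun.symm K
          rw [hdim]
          have h3 : finrank F ↥(K.map (b.equivFun.symm : (Fin (k + 1) ⊕ Fin (k + 1) → F) →ₗ[F] W)) =
              finrank F K := this
          rw [h3, hfr]
      exact ⟨fun _ => hP, fun _ => hT⟩
    · -- minus coordinates: both sides fail
      have hTm : Cfsg.Agent.Lib.Helper15.QuadType.HasType (-1) (k + 1) (t3Res Q W) := by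
        apply (Cfsg.Agent.Lib.Helper15.QuadType.hasType_minus hac k).congr b.equivFun.symm.toEquiv
        intro v
        show t3Res Q W (b.equivFun.symm v) = _
        rw [← hb, LinearEquiv.apply_symm_apply]
      constructor
      · intro hT
        exfalso
        rw [t3_typeOn_iff] at hT
        obtain ⟨m, hm, hT⟩ := hT
        have hmk : m = k + 1 := by omega
        subst hmk
        have := hT.unique hTm
        omega
      · rintro ⟨U, hUW, hts, hdimU⟩
        exfalso
        set U' : Submodule F W := U.comap W.subtype with hU'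
        have hU'map : U'.map W.subtype = U := by
          rw [hU', Submodule.map_comap_subtype]
          exact inf_eq_right.2 hUW
        have hfr1 : finrank F U' = finrank F U := by
          rw [← Submodule.finrank_map_subtype_eq W U', hU'map]
        have hfr2 : finrank F ↥(U'.map (b.equivFun : W →ₗ[F] ((Fin k ⊕ Fin k) ⊕ Fin 2 → F))) =
            finrank F U' := LinearEquiv.finrank_map_eq b.equivFun U'
        have hle := Cfsg.Agent.Lib.Helper15.ts_minus_le k a c hac
          (U'.map (b.equivFun : W →ₗ[F] ((Fin k ⊕ Fin k) ⊕ Fin 2 → F))) (by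
            intro u hu
            obtain ⟨w, hw, rfl⟩ := Submodule.mem_map.1 hu
            have h1 := hb w
            have h2 : t3Res Q W w = 0 := hts w.1 hw
            rw [h2] at h1
            exact h1)
        rw [hfr2, hfr1] at hle
        omega

end generic

end Cfsg.Agent.Lib.Helper18.OELeaf
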