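import Mathlib
import Cfsg.Prelude.Def_LieTypeDatum
import Cfsg.Prelude.Def_StandardType

/-!
Automorphisms of `PSL_n(F)`: the quotient map, equality in `PSL_n`, and the three standard kinds
of automorphisms (conjugation by `GL_n`, field automorphisms, inverse transpose) (helper18).
-/

set_option autoImplicit false

namespace Cfsg.Agent.Lib.Helper18.PSLnAut

open Matrix

variable {n : ℕ} {F : Type*} [Field F]

/-- the quotient map `SL_n(F) → PSL_n(F)` -/
def pi : SpecialLinearGroup (Fin n) F →* ProjectiveSpecialLinearGroup (Fin n) F :=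
  QuotientGroup.mk' _

theorem pi_surjective : Function.Surjective (pi (n := n) (F := F)) :=
  QuotientGroup.mk'_surjective _

theorem pi_eq_one_iff (x : SpecialLinearGroup (Fin n) F) :
    pi x = 1 ↔ x ∈ Subgroup.center (SpecialLinearGroup (Fin n) F) :=
  QuotientGroup.eq_one_iff x

/-- the scalar matrix `r`, `r ^ n = 1` -/
def scalS (r : F) (hr : r ^ n = 1) : SpecialLinearGroup (Fin n) F :=
  ⟨scalar (Fin n) r, by simp [hr]⟩

theorem scalS_coe (r : F) (hr : r ^ n = 1) :
    ((scalS r hr : SpecialLinearGroup (Fin n) F) : Matrix (Fin n) (Fin n) F) = scalar (Fin n) r :=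
  rfl

theorem scalS_mem_center (r : F) (hr : r ^ n = 1) :
    scalS r hr ∈ Subgroup.center (SpecialLinearGroup (Fin n) F) := by
  rw [Matrix.SpecialLinearGroup.mem_center_iff]
  exact ⟨r, by simpa using hr, rfl⟩

/-- equality in `PSL_n`: the matrices differ by a scalar -/
theorem pi_eq_iff (x y : SpecialLinearGroup (Fin n) F) :
    pi x = pi y ↔ ∃ r : F, r ^ n = 1 ∧
      (y : Matrix (Fin n) (Fin n) F) = r • (x : Matrix (Fin n) (Fin n) F) := by
  constructor
  · intro h
    have h1 : x⁻¹ * y ∈ Subgroup.center (SpecialLinearGroup (Fin n) F) := QuotientGroup.eq.mp h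
    rw [Matrix.SpecialLinearGroup.mem_center_iff] at h1
    obtain ⟨r, hr, hs⟩ := h1
    refine ⟨r, by simpa using hr, ?_⟩
    have h2 : y = x * (x⁻¹ * y) := by group
    have h3 : (y : Matrix (Fin n) (Fin n) F) =
        (x : Matrix (Fin n) (Fin n) F) * scalar (Fin n) r := by
      rw [hs]
      conv_lhs => rw [h2]
      rfl
    rw [h3]
    ext i j
    simp [Matrix.mul_apply, Matrix.diagonal_apply, mul_comm]
  · rintro ⟨r, hr, h⟩
    have h1 : y = scalS r hr * x := by
      apply Subtype.ext
      rw [h, Matrix.SpecialLinearGroup.coe_mul, scalS_coe]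
      ext i j
      simp [Matrix.mul_apply, Matrix.diagonal_apply]
    rw [h1, map_mul, (pi_eq_one_iff _).mpr (scalS_mem_center r hr), one_mul]

/-- an automorphism of `SL_n` induces an automorphism of `PSL_n` -/
noncomputable def liftAut (e : SpecialLinearGroup (Fin n) F ≃* SpecialLinearGroup (Fin n) F) :
    ProjectiveSpecialLinearGroup (Fin n) F ≃* ProjectiveSpecialLinearGroup (Fin n) F :=
  QuotientGroup.congr _ _ e
    (Subgroup.characteristic_iff_map_eq.mp Subgroup.centerCharacteristic e)

theorem liftAut_pi (e : SpecialLinearGroup (Fin n) F ≃* SpecialLinearGroup (Fin n) F)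
    (x : SpecialLinearGroup (Fin n) F) : liftAut e (pi x) = pi (e x) := rfl

/-- conjugation by an invertible matrix, on matrices of determinant one -/
def conjMat (g : GL (Fin n) F) (s : SpecialLinearGroup (Fin n) F) :
    SpecialLinearGroup (Fin n) F :=
  ⟨(g : Matrix (Fin n) (Fin n) F) * (s : Matrix (Fin n) (Fin n) F) *
    ((g⁻¹ : GL (Fin n) F) : Matrix (Fin n) (Fin n) F), by
    rw [Matrix.det_units_conj, s.2]⟩

theorem conjMat_coe (g : GL (Fin n) F) (s : SpecialLinearGroup (Fin n) F) :
    (conjMat g s : Matrix (Fin n) (Fin n) F) = (g : Matrix (Fin n) (Fin n) F) *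
      (s : Matrix (Fin n) (Fin n) F) * ((g⁻¹ : GL (Fin n) F) : Matrix (Fin n) (Fin n) F) := rfl

theorem gl_inv_mul (g : GL (Fin n) F) :
    ((g⁻¹ : GL (Fin n) F) : Matrix (Fin n) (Fin n) F) * (g : Matrix (Fin n) (Fin n) F) = 1 := by
  rw [← Units.val_mul, inv_mul_cancel, Units.val_one]

theorem gl_mul_inv (g : GL (Fin n) F) :
    (g : Matrix (Fin n) (Fin n) F) * ((g⁻¹ : GL (Fin n) F) : Matrix (Fin n) (Fin n) F) = 1 := by
  rw [← Units.val_mul, mul_inv_cancel, Units.val_one]

theorem conjMat_mul (g : GL (Fin n) F) (s t : SpecialLinearGroup (Fin n) F) :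
    conjMat g (s * t) = conjMat g s * conjMat g t := by
  apply Subtype.ext
  rw [Matrix.SpecialLinearGroup.coe_mul, conjMat_coe, conjMat_coe, conjMat_coe,
    Matrix.SpecialLinearGroup.coe_mul]
  calc (g : Matrix (Fin n) (Fin n) F) * ((s : Matrix (Fin n) (Fin n) F) * t) * (g⁻¹ : GL (Fin n) F)
      = (g : Matrix (Fin n) (Fin n) F) * s * 1 * t * (g⁻¹ : GL (Fin n) F) := by
        simp only [Matrix.mul_assoc, Matrix.one_mul]
    _ = _ := by
        rw [← gl_inv_mul g]
        simp only [Matrix.mul_assoc]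

theorem conjMat_conjMat (g h : GL (Fin n) F) (s : SpecialLinearGroup (Fin n) F) :
    conjMat g (conjMat h s) = conjMat (g * h) s := by
  apply Subtype.ext
  rw [conjMat_coe, conjMat_coe, conjMat_coe, _root_.mul_inv_rev, Units.val_mul, Units.val_mul]
  simp only [Matrix.mul_assoc]

theorem conjMat_one (s : SpecialLinearGroup (Fin n) F) : conjMat 1 s = s := by
  apply Subtype.ext
  rw [conjMat_coe, inv_one, Units.val_one, Matrix.one_mul, Matrix.mul_one]

/-- conjugation by an invertible matrix as an automorphism of `SL_n` -/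
def conjS (g : GL (Fin n) F) : SpecialLinearGroup (Fin n) F ≃* SpecialLinearGroup (Fin n) F where
  toFun := conjMat g
  invFun := conjMat g⁻¹
  left_inv s := by rw [conjMat_conjMat, inv_mul_cancel, conjMat_one]
  right_inv s := by rw [conjMat_conjMat, mul_inv_cancel, conjMat_one]
  map_mul' := conjMat_mul g

/-- conjugation by an invertible matrix as an automorphism of `PSL_n` -/
noncomputable def conjA (g : GL (Fin n) F) :
    ProjectiveSpecialLinearGroup (Fin n) F ≃* ProjectiveSpecialLinearGroup (Fin n) F :=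
  liftAut (conjS g)

theorem conjA_pi (g : GL (Fin n) F) (x : SpecialLinearGroup (Fin n) F) :
    conjA g (pi x) = pi (conjMat g x) := rfl

theorem conjA_mul (g h : GL (Fin n) F) (x : ProjectiveSpecialLinearGroup (Fin n) F) :
    conjA (g * h) x = conjA g (conjA h x) := by
  obtain ⟨x, rfl⟩ := pi_surjective x
  rw [conjA_pi, conjA_pi, conjA_pi, conjMat_conjMat]

theorem conjA_one (x : ProjectiveSpecialLinearGroup (Fin n) F) : conjA 1 x = x := by
  obtain ⟨x, rfl⟩ := pi_surjective x
  rw [conjA_pi, conjMat_one]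

theorem conjA_symm (g : GL (Fin n) F) : (conjA g).symm = conjA g⁻¹ := by
  ext x
  apply (conjA g).injective
  rw [MulEquiv.apply_symm_apply, ← conjA_mul, mul_inv_cancel, conjA_one]

theorem isInnerDiagonal_conjA (g : GL (Fin n) F) : Cfsg.IsInnerDiagonalAutPSL (conjA g) := by
  refine ⟨g, fun s s' h => ?_⟩
  change conjA g (pi s) = pi s'
  rw [conjA_pi]
  congr 1
  apply Subtype.ext
  rw [h, conjMat_coe]

/-- the field automorphism of `SL_n` -/
def fieldS (κ : F ≃+* F) : SpecialLinearGroup (Fin n) F ≃* SpecialLinearGroup (Fin n) F where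
  toFun := Matrix.SpecialLinearGroup.map (κ : F →+* F)
  invFun := Matrix.SpecialLinearGroup.map (κ.symm : F →+* F)
  left_inv g := by
    apply Subtype.ext
    ext i j
    show κ.symm (κ ((g : Matrix (Fin n) (Fin n) F) i j)) = _
    rw [RingEquiv.symm_apply_apply]
  right_inv g := by
    apply Subtype.ext
    ext i j
    show κ (κ.symm ((g : Matrix (Fin n) (Fin n) F) i j)) = _
    rw [RingEquiv.apply_symm_apply]
  map_mul' := map_mul _

theorem fieldS_apply (κ : F ≃+* F) (g : SpecialLinearGroup (Fin n) F) (i j : Fin n) :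
    ((fieldS κ g : SpecialLinearGroup (Fin n) F) : Matrix (Fin n) (Fin n) F) i j =
      κ ((g : Matrix (Fin n) (Fin n) F) i j) := rfl

theorem fieldS_coe (κ : F ≃+* F) (g : SpecialLinearGroup (Fin n) F) :
    ((fieldS κ g : SpecialLinearGroup (Fin n) F) : Matrix (Fin n) (Fin n) F) =
      (g : Matrix (Fin n) (Fin n) F).map κ := rfl

/-- the field automorphism of `PSL_n` -/
noncomputable def fieldA (κ : F ≃+* F) :
    ProjectiveSpecialLinearGroup (Fin n) F ≃* ProjectiveSpecialLinearGroup (Fin n) F :=
  liftAut (fieldS κ)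

theorem fieldA_pi (κ : F ≃+* F) (x : SpecialLinearGroup (Fin n) F) :
    fieldA κ (pi x) = pi (fieldS κ x) := rfl

theorem isStdField_fieldA (κ : F ≃+* F) : Cfsg.IsStdFieldAutPSL κ (fieldA (n := n) κ) := by
  intro s s' h
  change fieldA κ (pi s) = pi s'
  rw [fieldA_pi]
  congr 1
  apply Subtype.ext
  rw [h, fieldS_coe]

/-- the inverse transpose automorphism of `SL_n` -/
def itS : SpecialLinearGroup (Fin n) F ≃* SpecialLinearGroup (Fin n) F where
  toFun s := (s⁻¹).transpose
  invFun s := (s⁻¹).transpose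
  left_inv s := by
    apply Subtype.ext
    show (((s⁻¹).transpose)⁻¹ : SpecialLinearGroup (Fin n) F).1.transpose = s.1
    have h : ((s⁻¹).transpose)⁻¹ = s.transpose := by
      rw [inv_eq_iff_mul_eq_one]
      apply Subtype.ext
      show (s⁻¹).1.transpose * s.1.transpose = 1
      rw [← Matrix.transpose_mul, ← Matrix.SpecialLinearGroup.coe_mul, mul_inv_cancel,
        Matrix.SpecialLinearGroup.coe_one, Matrix.transpose_one]
    rw [h]
    exact Matrix.transpose_transpose _
  right_inv s := by
    apply Subtype.ext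
    show (((s⁻¹).transpose)⁻¹ : SpecialLinearGroup (Fin n) F).1.transpose = s.1
    have h : ((s⁻¹).transpose)⁻¹ = s.transpose := by
      rw [inv_eq_iff_mul_eq_one]
      apply Subtype.ext
      show (s⁻¹).1.transpose * s.1.transpose = 1
      rw [← Matrix.transpose_mul, ← Matrix.SpecialLinearGroup.coe_mul, mul_inv_cancel,
        Matrix.SpecialLinearGroup.coe_one, Matrix.transpose_one]
    rw [h]
    exact Matrix.transpose_transpose _
  map_mul' s t := by
    apply Subtype.ext
    show ((s * t)⁻¹).1.transpose = (s⁻¹).1.transpose * (t⁻¹).1.transpose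
    rw [_root_.mul_inv_rev, Matrix.SpecialLinearGroup.coe_mul, Matrix.transpose_mul]

theorem itS_coe (s : SpecialLinearGroup (Fin n) F) :
    ((itS s : SpecialLinearGroup (Fin n) F) : Matrix (Fin n) (Fin n) F) =
      ((s⁻¹ : SpecialLinearGroup (Fin n) F) : Matrix (Fin n) (Fin n) F).transpose := rfl

theorem itS_itS (s : SpecialLinearGroup (Fin n) F) : itS (itS s) = s :=
  (itS (n := n) (F := F)).left_inv s

/-- the inverse transpose automorphism of `PSL_n` -/
noncomputable def itA :
    ProjectiveSpecialLinearGroup (Fin n) F ≃* ProjectiveSpecialLinearGroup (Fin n) F :=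
  liftAut itS

theorem itA_pi (x : SpecialLinearGroup (Fin n) F) : itA (pi x) = pi (itS x) := rfl

theorem itA_itA (x : ProjectiveSpecialLinearGroup (Fin n) F) : itA (itA x) = x := by
  obtain ⟨x, rfl⟩ := pi_surjective x
  rw [itA_pi, itA_pi, itS_itS]

theorem isInverseTranspose_itA : Cfsg.IsInverseTransposeAutPSL (itA (n := n) (F := F)) := by
  intro s s' h
  change itA (pi s) = pi s'
  rw [itA_pi]
  congr 1
  apply Subtype.ext
  rw [h, itS_coe]

end Cfsg.Agent.Lib.Helper18.PSLnAut
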