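import Mathlib
import Cfsg.Agent.Lib.Helper18.PSLnBasic
import Cfsg.Agent.Lib.Helper13.SL2

/-!
The upper unitriangular subgroup of `SL_n(F)`, `F` finite of characteristic `p`: order, Sylow
property, centre; normalisation of automorphisms of `PSL_n` (helper18).
-/

set_option autoImplicit false

namespace Cfsg.Agent.Lib.Helper18.PSLnAut

open Matrix

variable {n : ℕ} {F : Type*} [Field F]

/-- upper unitriangular matrices -/
def IsUni (M : Matrix (Fin n) (Fin n) F) : Prop :=
  (∀ i j, j < i → M i j = 0) ∧ ∀ i, M i i = 1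

theorem IsUni.one : IsUni (1 : Matrix (Fin n) (Fin n) F) :=
  ⟨fun _ _ h => Matrix.one_apply_ne (ne_of_gt h), fun i => Matrix.one_apply_eq i⟩

theorem IsUni.mul {A B : Matrix (Fin n) (Fin n) F} (hA : IsUni A) (hB : IsUni B) :
    IsUni (A * B) := by
  constructor
  · intro i j hji
    rw [Matrix.mul_apply]
    apply Finset.sum_eq_zero
    intro k _
    by_cases hk : k < i
    · rw [hA.1 i k hk, zero_mul]
    · rw [hB.1 k j (lt_of_lt_of_le hji (not_lt.mp hk)), mul_zero]
  · intro i
    rw [Matrix.mul_apply, Finset.sum_eq_single i]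
    · rw [hA.2, hB.2, one_mul]
    · intro k _ hk
      rcases lt_or_gt_of_ne hk with h | h
      · rw [hA.1 i k h, zero_mul]
      · rw [hB.1 k i h, mul_zero]
    · intro h
      exact absurd (Finset.mem_univ i) h

theorem IsUni.pow {A : Matrix (Fin n) (Fin n) F} (hA : IsUni A) (k : ℕ) : IsUni (A ^ k) := by
  induction k with
  | zero => rw [pow_zero]; exact IsUni.one
  | succ k ih => rw [pow_succ]; exact ih.mul hA

theorem IsUni.det {A : Matrix (Fin n) (Fin n) F} (hA : IsUni A) : A.det = 1 := by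
  have h : A.IsUpperTriangular := by
    intro i j hji
    exact hA.1 i j hji
  rw [Matrix.det_of_isUpperTriangular h]
  exact Finset.prod_eq_one fun i _ => hA.2 i

/-- the upper unitriangular subgroup -/
def unitri (n : ℕ) (F : Type*) [Field F] [Finite F] : Subgroup (SpecialLinearGroup (Fin n) F) where
  carrier := {s | IsUni (s : Matrix (Fin n) (Fin n) F)}
  mul_mem' ha hb := IsUni.mul ha hb
  one_mem' := IsUni.one
  inv_mem' := by
    intro x hx
    have h1 : x⁻¹ = x ^ (orderOf x - 1) := by
      rw [inv_eq_iff_mul_eq_one, ← pow_succ']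
      have : orderOf x - 1 + 1 = orderOf x := Nat.sub_add_cancel (orderOf_pos x)
      rw [this, pow_orderOf_eq_one]
    show IsUni ((x⁻¹ : SpecialLinearGroup (Fin n) F) : Matrix (Fin n) (Fin n) F)
    rw [h1, Matrix.SpecialLinearGroup.coe_pow]
    exact IsUni.pow hx _

theorem mem_unitri [Finite F] {s : SpecialLinearGroup (Fin n) F} :
    s ∈ unitri n F ↔ IsUni (s : Matrix (Fin n) (Fin n) F) := Iff.rfl

/-- the matrix attached to a family of columns above the diagonal -/
def uniMat (f : (j : Fin n) → Fin j → F) : Matrix (Fin n) (Fin n) F :=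
  Matrix.of fun i j => if h : i < j then f j ⟨i.1, h⟩ else if i = j then 1 else 0

theorem isUni_uniMat (f : (j : Fin n) → Fin j → F) : IsUni (uniMat f) := by
  constructor
  · intro i j hji
    simp only [uniMat, Matrix.of_apply]
    rw [dif_neg (not_lt.mpr (le_of_lt hji)), if_neg (ne_of_gt hji)]
  · intro i
    simp only [uniMat, Matrix.of_apply]
    rw [dif_neg (lt_irrefl i)]
    simp

theorem uniMat_entries {M : Matrix (Fin n) (Fin n) F} (hu : IsUni M) :
    uniMat (fun (j : Fin n) (i : Fin j) => M ⟨i.1, i.2.trans j.2⟩ j) = M := by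
  ext i j
  simp only [uniMat, Matrix.of_apply]
  by_cases h : i < j
  · rw [dif_pos h]
  · rw [dif_neg h]
    by_cases h2 : i = j
    · rw [if_pos h2, h2, hu.2]
    · rw [if_neg h2, hu.1 i j (lt_of_le_of_ne (not_lt.mp h) (Ne.symm h2))]

/-- unitriangular matrices are parametrised by their entries above the diagonal -/
def uniEquiv [Finite F] : unitri n F ≃ ((j : Fin n) → Fin j → F) where
  toFun u j i := (u.1 : Matrix (Fin n) (Fin n) F) ⟨i.1, i.2.trans j.2⟩ j
  invFun f := ⟨⟨uniMat f, (isUni_uniMat f).det⟩, isUni_uniMat f⟩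
  left_inv u := by
    apply Subtype.ext
    apply Subtype.ext
    exact uniMat_entries u.2
  right_inv f := by
    funext j i
    show uniMat f ⟨i.1, i.2.trans j.2⟩ j = f j i
    simp only [uniMat, Matrix.of_apply]
    have h : (⟨i.1, i.2.trans j.2⟩ : Fin n) < j := i.2
    rw [dif_pos h]

theorem card_unitri [Fintype F] :
    Nat.card (unitri n F) = ∏ j : Fin n, Fintype.card F ^ (j : ℕ) := by
  rw [Nat.card_congr uniEquiv, Nat.card_pi]
  apply Finset.prod_congr rfl
  intro j _
  rw [Nat.card_fun, Nat.card_eq_fintype_card, Nat.card_eq_fintype_card, Fintype.card_fin]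

/-- the image of the unitriangular subgroup in `PSL_n` -/
def Ub (n : ℕ) (F : Type*) [Field F] [Finite F] :
    Subgroup (ProjectiveSpecialLinearGroup (Fin n) F) :=
  (unitri n F).map pi

section centre

variable [Finite F]

/-- elementary transvections above the diagonal are unitriangular -/
theorem transvection_mem_unitri {i j : Fin n} (hij : i < j) (c : F) :
    SpecialLinearGroup.transvection (ne_of_lt hij) c ∈ unitri n F := by
  rw [mem_unitri, SpecialLinearGroup.transvection_coe]
  constructor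
  · intro k l hlk
    rw [Matrix.add_apply, Matrix.one_apply_ne (ne_of_gt hlk), zero_add, Matrix.single_apply,
      if_neg]
    rintro ⟨rfl, rfl⟩
    exact absurd hij (not_lt.mpr (le_of_lt hlk))
  · intro k
    rw [Matrix.add_apply, Matrix.one_apply_eq, Matrix.single_apply, if_neg, add_zero]
    rintro ⟨rfl, rfl⟩
    exact lt_irrefl _ hij

omit [Finite F] in
theorem isUni_row_last {u : Matrix (Fin n) (Fin n) F} (hu : IsUni u) {il : Fin n}
    (hl : ∀ k, k ≤ il) (l : Fin n) : u il l = if l = il then 1 else 0 := by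
  by_cases h : l = il
  · rw [if_pos h, h, hu.2]
  · rw [if_neg h, hu.1 il l (lt_of_le_of_ne (hl l) h)]

omit [Finite F] in
theorem isUni_col_first {u : Matrix (Fin n) (Fin n) F} (hu : IsUni u) {i0 : Fin n}
    (h0 : ∀ k, i0 ≤ k) (k : Fin n) : u k i0 = if k = i0 then 1 else 0 := by
  by_cases h : k = i0
  · rw [if_pos h, h, hu.2]
  · rw [if_neg h, hu.1 k i0 (lt_of_le_of_ne (h0 k) (Ne.symm h))]

/-- the centre of `Ub` is the image of the root subgroup of the highest root -/
theorem mem_cen_Ub_iff {i0 il : Fin n} (h0 : ∀ k, i0 ≤ k) (hl : ∀ k, k ≤ il) (h0l : i0 < il)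
    (x : ProjectiveSpecialLinearGroup (Fin n) F) :
    (x ∈ Ub n F ∧ ∀ y ∈ Ub n F, x * y = y * x) ↔
      ∃ c : F, x = pi (SpecialLinearGroup.transvection (ne_of_lt h0l) c) := by
  constructor
  · rintro ⟨⟨u, hu, rfl⟩, hcomm⟩
    have hu' : IsUni (u : Matrix (Fin n) (Fin n) F) := hu
    have key : ∀ i j : Fin n, i < j → Matrix.single i j (1 : F) * (u : Matrix (Fin n) (Fin n) F) =
        (u : Matrix (Fin n) (Fin n) F) * Matrix.single i j (1 : F) := by
      intro i j hij
      have ht := transvection_mem_unitri (F := F) hij 1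
      have h1 := hcomm (pi (SpecialLinearGroup.transvection (ne_of_lt hij) 1)) ⟨_, ht, rfl⟩
      rw [← map_mul, ← map_mul, pi_eq_iff] at h1
      obtain ⟨r, -, hr⟩ := h1
      have hA : IsUni ((SpecialLinearGroup.transvection (ne_of_lt hij) (1 : F) * u :
          SpecialLinearGroup (Fin n) F) : Matrix (Fin n) (Fin n) F) :=
        (unitri n F).mul_mem ht hu
      have hB : IsUni ((u * SpecialLinearGroup.transvection (ne_of_lt hij) (1 : F) :
          SpecialLinearGroup (Fin n) F) : Matrix (Fin n) (Fin n) F) :=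
        (unitri n F).mul_mem hu ht
      have h2 := congrFun (congrFun hr i0) i0
      rw [Matrix.smul_apply, hA.2, hB.2, smul_eq_mul, mul_one] at h2
      rw [← h2, one_smul, Matrix.SpecialLinearGroup.coe_mul, Matrix.SpecialLinearGroup.coe_mul,
        SpecialLinearGroup.transvection_coe, add_mul, mul_add, one_mul, mul_one] at hr
      exact add_left_cancel hr
    have hrow : ∀ j l : Fin n, j ≠ i0 → (u : Matrix (Fin n) (Fin n) F) j l = if l = j then 1 else 0 := by
      intro j l hj
      have h1 := congrFun (congrFun (key i0 j (lt_of_le_of_ne (h0 j) (Ne.symm hj))) i0) l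
      rw [Matrix.single_mul_apply_same, one_mul] at h1
      rw [h1]
      by_cases hlj : l = j
      · rw [if_pos hlj, hlj, Matrix.mul_single_apply_same, hu'.2, mul_one]
      · rw [if_neg hlj, Matrix.mul_single_apply_of_ne _ _ _ _ _ hlj]
    have hcol : ∀ k i : Fin n, i ≠ il → (u : Matrix (Fin n) (Fin n) F) k i = if k = i then 1 else 0 := by
      intro k i hi
      have h1 := congrFun (congrFun (key i il (lt_of_le_of_ne (hl i) hi)) k) il
      rw [Matrix.mul_single_apply_same, mul_one] at h1
      rw [← h1]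
      by_cases hki : k = i
      · rw [if_pos hki, hki, Matrix.single_mul_apply_same, hu'.2, mul_one]
      · rw [if_neg hki, Matrix.single_mul_apply_of_ne _ _ _ _ _ hki]
    refine ⟨(u : Matrix (Fin n) (Fin n) F) i0 il, ?_⟩
    congr 1
    apply Subtype.ext
    rw [SpecialLinearGroup.transvection_coe]
    ext k l
    rw [Matrix.add_apply, Matrix.one_apply, Matrix.single_apply]
    by_cases hk : k = i0
    · by_cases hll : l = il
      · rw [hk, hll, if_neg (ne_of_lt h0l), if_pos ⟨rfl, rfl⟩, zero_add]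
      · have h3 : ¬ (i0 = k ∧ il = l) := fun h => hll h.2.symm
        rw [hcol k l hll, if_neg h3, add_zero]
    · have h3 : ¬ (i0 = k ∧ il = l) := fun h => hk h.1.symm
      rw [hrow k l hk, if_neg h3, add_zero]
      by_cases hkl : k = l
      · rw [if_pos hkl, if_pos hkl.symm]
      · rw [if_neg hkl, if_neg (Ne.symm hkl)]
  · rintro ⟨c, rfl⟩
    refine ⟨⟨_, transvection_mem_unitri h0l c, rfl⟩, ?_⟩
    rintro _ ⟨u, hu, rfl⟩
    have hu' : IsUni (u : Matrix (Fin n) (Fin n) F) := hu
    rw [← map_mul, ← map_mul]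
    congr 1
    apply Subtype.ext
    rw [Matrix.SpecialLinearGroup.coe_mul, Matrix.SpecialLinearGroup.coe_mul,
      SpecialLinearGroup.transvection_coe, add_mul, mul_add, one_mul, mul_one]
    congr 1
    ext k l
    by_cases hk : k = i0
    · rw [hk, Matrix.single_mul_apply_same, isUni_row_last hu' hl]
      by_cases hll : l = il
      · rw [if_pos hll, hll, Matrix.mul_single_apply_same, hu'.2, mul_one, one_mul]
      · rw [if_neg hll, mul_zero, Matrix.mul_single_apply_of_ne _ _ _ _ _ hll]
    · rw [Matrix.single_mul_apply_of_ne _ _ _ _ _ hk]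
      by_cases hll : l = il
      · rw [hll, Matrix.mul_single_apply_same, isUni_col_first hu' h0, if_neg hk, zero_mul]
      · rw [Matrix.mul_single_apply_of_ne _ _ _ _ _ hll]

end centre

variable [Fintype F] (p : ℕ) [Fact p.Prime] [CharP F p]

omit [Fact p.Prime] in
theorem isPGroup_unitri : IsPGroup p (unitri n F) := by
  obtain ⟨k, -, hk⟩ := FiniteField.card F p
  have h : Nat.card (unitri n F) = p ^ (∑ j : Fin n, (k : ℕ) * (j : ℕ)) := by
    rw [card_unitri, ← Finset.prod_pow_eq_pow_sum]
    apply Finset.prod_congr rfl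
    intro j _
    rw [hk, pow_mul]
  exact IsPGroup.of_card h

theorem not_dvd_index_unitri (hn : 1 ≤ n) : ¬ p ∣ (unitri n F).index := by
  intro hdvd
  obtain ⟨k, -, hk⟩ := FiniteField.card F p
  have hp : p.Prime := Fact.out
  have hq : 0 < Fintype.card F := Fintype.card_pos
  have hpq : p ∣ Fintype.card F := by
    rw [hk]
    exact dvd_pow_self p k.ne_zero
  have h1 := Cfsg.Agent.Lib.Helper13.card_SL_mul (F := F) n hn
  rw [Matrix.card_GL_field, ← Subgroup.card_mul_index (unitri n F), card_unitri] at h1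
  have h2 : ∀ i : Fin n, Fintype.card F ^ n - Fintype.card F ^ (i : ℕ) =
      Fintype.card F ^ (i : ℕ) * (Fintype.card F ^ (n - (i : ℕ)) - 1) := by
    intro i
    rw [Nat.mul_sub, mul_one, ← pow_add, Nat.add_sub_cancel' (le_of_lt i.2)]
  rw [Finset.prod_congr rfl (fun i _ => h2 i), Finset.prod_mul_distrib, mul_assoc] at h1
  have h3 : 0 < ∏ j : Fin n, Fintype.card F ^ (j : ℕ) :=
    Finset.prod_pos fun j _ => pow_pos hq _
  have h4 := Nat.eq_of_mul_eq_mul_left h3 h1
  have h5 : p ∣ ∏ i : Fin n, (Fintype.card F ^ (n - (i : ℕ)) - 1) := by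
    rw [← h4]
    exact Dvd.dvd.mul_right hdvd _
  rw [Prime.dvd_finsetProd_iff (Nat.prime_iff.mp hp)] at h5
  obtain ⟨i, -, hi⟩ := h5
  have h6 : p ∣ Fintype.card F ^ (n - (i : ℕ)) :=
    dvd_trans hpq (dvd_pow_self _ (Nat.sub_ne_zero_of_lt i.2))
  have h7 : 1 ≤ Fintype.card F ^ (n - (i : ℕ)) := Nat.one_le_pow _ _ hq
  have h8 : p ∣ 1 := by
    have := Nat.dvd_sub h6 hi
    rwa [Nat.sub_sub_self h7] at this
  exact hp.one_lt.ne' (Nat.dvd_one.mp h8)

/-- the unitriangular subgroup as a Sylow subgroup of `SL_n` -/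
noncomputable def sylowUni (hn : 1 ≤ n) : Sylow p (SpecialLinearGroup (Fin n) F) :=
  (isPGroup_unitri (n := n) (F := F) p).toSylow (not_dvd_index_unitri p hn)

theorem coe_sylowUni (hn : 1 ≤ n) :
    ((sylowUni (F := F) p hn : Sylow p (SpecialLinearGroup (Fin n) F)) :
      Subgroup (SpecialLinearGroup (Fin n) F)) = unitri n F :=
  IsPGroup.toSylow_coe _ _

/-- `Ub` as a Sylow subgroup -/
noncomputable def sylowUb (hn : 1 ≤ n) : Sylow p (ProjectiveSpecialLinearGroup (Fin n) F) :=
  (sylowUni (F := F) p hn).mapSurjective pi_surjective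

theorem coe_sylowUb (hn : 1 ≤ n) :
    ((sylowUb (F := F) p hn : Sylow p (ProjectiveSpecialLinearGroup (Fin n) F)) :
      Subgroup (ProjectiveSpecialLinearGroup (Fin n) F)) = Ub n F := by
  rw [sylowUb, Sylow.coe_mapSurjective, coe_sylowUni]
  rfl

include p in
/-- up to an inner automorphism, an automorphism normalises `Ub` -/
theorem exists_conj_Ub (hn : 1 ≤ n)
    (α : ProjectiveSpecialLinearGroup (Fin n) F ≃* ProjectiveSpecialLinearGroup (Fin n) F) :
    ∃ y : ProjectiveSpecialLinearGroup (Fin n) F, ∀ g, g ∈ Ub n F ↔ y * α g * y⁻¹ ∈ Ub n F := by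
  have hcard : Nat.card ((Ub n F).map α.toMonoidHom) =
      p ^ (Nat.card (ProjectiveSpecialLinearGroup (Fin n) F)).factorization p := by
    rw [Subgroup.card_map_of_injective α.injective, ← coe_sylowUb p hn]
    exact Sylow.card_eq_multiplicity _
  obtain ⟨y, hy⟩ := MulAction.exists_smul_eq (ProjectiveSpecialLinearGroup (Fin n) F)
    (Sylow.ofCard _ hcard) (sylowUb (F := F) p hn)
  refine ⟨y, fun g => ?_⟩
  have h1 : ((y • (Sylow.ofCard _ hcard) : Sylow p (ProjectiveSpecialLinearGroup (Fin n) F)) :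
      Subgroup (ProjectiveSpecialLinearGroup (Fin n) F)) = Ub n F := by
    rw [hy, coe_sylowUb]
  have h2 : y * α g * y⁻¹ = MulAut.conj y • α g := by
    rw [MulAut.smul_def, MulAut.conj_apply]
  rw [h2]
  conv_rhs => rw [← h1]
  rw [Sylow.coe_subgroup_smul, Subgroup.smul_mem_pointwise_smul_iff]
  show g ∈ Ub n F ↔ α g ∈ (Ub n F).map α.toMonoidHom
  constructor
  · intro hg
    exact ⟨g, hg, rfl⟩
  · rintro ⟨g', hg', h⟩
    have : g' = g := α.injective h
    rwa [← this]


end Cfsg.Agent.Lib.Helper18.PSLnAut
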