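import Mathlib
import Cfsg.Agent.Lib.Helper29.TWPairE
import Cfsg.Agent.Lib.Helper29.TWPerm

set_option autoImplicit false

/-!
Helper18 library: vocabulary for Sims' theorem on primitive groups with a suborbit of length 3
(S3385): the Tutte-Sims setting `TS A B` (two adjacent point stabilizers `A`, `B` whose intersection
is a 2-group of index 3 in both, with cores of index 2), the chain of conjugates `Dn`, `Fc`, and the
abstract generator data `TSData g x n` (involutions `x i` shifted by `g`, interval subgroups `Hx`).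
-/

namespace Cfsg.Agent.Lib.Helper18.Sims3

open Cfsg Cfsg.Agent.Lib.Helper29.TWPair

variable {G : Type*} [Group G]

/-- the conjugate subgroup `g S g⁻¹`. -/
abbrev cj (g : G) (S : Subgroup G) : Subgroup G := S.map (MulAut.conj g).toMonoidHom

/-- The Tutte-Sims setting: a pair of distinct conjugate maximal core-free subgroups `A`, `B`
whose intersection `D` is a 2-group of index 3 in both, with `core_A(D)`, `core_B(D)` of index 2
in `D`. -/
structure TS (A B : Subgroup G) : Prop where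
  pair : Pair A B
  two : IsPGroup 2 ↥(A ⊓ B)
  idxA : (A ⊓ B).relIndex A = 3
  idxB : (A ⊓ B).relIndex B = 3
  coreA : (coreIn A (A ⊓ B)).relIndex (A ⊓ B) = 2
  coreB : (coreIn B (A ⊓ B)).relIndex (A ⊓ B) = 2

/-- the `i`-th conjugate `g^i D g^{-i}`. -/
def Dn (g : G) (D : Subgroup G) (i : ℕ) : Subgroup G := cj (g ^ i) D

/-- the intersection `D_i ⊓ D_{i+1} ⊓ ... ⊓ D_{i+k}`. -/
def Fc (g : G) (D : Subgroup G) (i k : ℕ) : Subgroup G := ⨅ l : Fin (k + 1), Dn g D (i + (l : ℕ))

/-- the subgroup generated by `x i, ..., x j`. -/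
def Hx (x : ℕ → G) (i j : ℕ) : Subgroup G := Subgroup.closure (x '' Set.Icc i j)

/-- Abstract Tutte-Sims generator data. -/
structure TSData (g : G) (x : ℕ → G) (n : ℕ) : Prop where
  shift : ∀ i, g * x i * g⁻¹ = x (i + 1)
  card : ∀ i j, i ≤ j → j < i + n → Nat.card ↥(Hx x i j) = 2 ^ (j - i + 1)
  notTwo : ¬ IsPGroup 2 ↥(Hx x 0 n)
  core : ∀ N : Subgroup G, N ≤ Hx x 0 n →
    (∀ j, j ≤ n + 1 → x j ∈ Subgroup.normalizer (N : Set G)) → N = ⊥

/-- the generator sequence with seed `x0`: `xs g x0 i = g^i x0 g^{-i}`. -/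
def xs (g x0 : G) (i : ℕ) : G := g ^ i * x0 * (g ^ i)⁻¹

/-- `x i` commutes with `x j` whenever `|i - j| < l`. -/
def CommLt (x : ℕ → G) (l : ℕ) : Prop := ∀ i k, k < l → Commute (x i) (x (i + k))

/-- the commutator `a b a⁻¹ b⁻¹`. -/
def cm (a b : G) : G := a * b * a⁻¹ * b⁻¹

end Cfsg.Agent.Lib.Helper18.Sims3
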