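import Mathlib
import Cfsg.Prelude.Def_ClassicalGeometry
import Cfsg.Prelude.Def_GeometricClasses
import Cfsg.Agent.Lib.Helper5.SpMax
import Cfsg.Agent.Lib.Helper2.SpSubDefs

/-!
helper18: S5789 (`Sp_4(q)`, `q ≥ 4` even, geometric maximal subgroups): common definition for the subfield
conjunct.  `Dag F₀ M` = "(†)": `M` contains a transvection with rational centre and irrational parameter.
See `notes/S5789_plan.md`.
-/

set_option autoImplicit false

namespace Cfsg.Agent.Lib.Helper18.Sp4E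
open Cfsg Matrix Cfsg.Agent.Lib.Helper5 Cfsg.Agent.Lib.Helper5.SpMax Cfsg.Agent.Lib.Helper2.SpSub

variable {F : Type*} [Field F]

/-- (†): a transvection `x ↦ x + c f(x,a) a` with `a ≠ 0` rational and `c ∉ F₀` lies in `M`. -/
def Dag (F₀ : Subfield F) (M : Subgroup (GL (Fin 2 ⊕ Fin 2) F)) : Prop :=
  ∃ a : Fin 2 ⊕ Fin 2 → F, RatV F₀ a ∧ a ≠ 0 ∧ ∃ c : F, c ∉ F₀ ∧ tvc a c ∈ M

end Cfsg.Agent.Lib.Helper18.Sp4E
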