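import Mathlib
import Cfsg.Prelude.Def_Solvable
import Cfsg.Prelude.Def_SolvableStructure
import Cfsg.Agent.Lib.Helper1.SqfDefs
import Cfsg.Agent.Lib.Helper1.CoprimeAbelian

/-!
# S4130 leaf D1 (helper18): abstract small-orbit lemma
An abelian `p`-group acting faithfully on an abelian `p'`-group with all orbits of size `≤ p`
has order `≤ p`.
-/

set_option autoImplicit false

namespace Cfsg.Agent.Lib.Helper18.SqfLeaf

open Subgroup Cfsg.Agent.Lib.Helper1.Sqf
open scoped commutatorElement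

theorem card_inf_mul_relIndex {G : Type*} [Group G] (H K : Subgroup G) :
    Nat.card (H ⊓ K : Subgroup G) * H.relIndex K = Nat.card K := by
  have h := Subgroup.relIndex_mul_relIndex (⊥ : Subgroup G) (H ⊓ K) K bot_le inf_le_right
  rw [Subgroup.relIndex_bot_left, Subgroup.relIndex_bot_left, Subgroup.inf_relIndex_right] at h
  exact h

theorem conj_mem_commutator_of {G : Type*} [Group G] (H K : Subgroup G) (g : G)
    (hH : ∀ x ∈ H, g * x * g⁻¹ ∈ H) (hK : ∀ x ∈ K, g * x * g⁻¹ ∈ K) :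
    ∀ x ∈ ⁅H, K⁆, g * x * g⁻¹ ∈ ⁅H, K⁆ := by
  have hle : ⁅H, K⁆ ≤ (⁅H, K⁆).comap (MulAut.conj g).toMonoidHom := by
    rw [Subgroup.commutator_le]
    intro a ha b hb
    rw [Subgroup.mem_comap, map_commutatorElement]
    exact Subgroup.commutator_mem_commutator (hH a ha) (hK b hb)
  intro x hx
  exact hle hx

theorem card_le_of_small_orbits {Y : Type*} [Group Y] [Finite Y] (p : ℕ) [Fact p.Prime]
    (V P : Subgroup Y) [V.Normal] (hVab : ∀ a ∈ V, ∀ b ∈ V, a * b = b * a)
    (hVp : (Nat.card V).Coprime p) (hP : IsPGroup p P) (hPab : ∀ a ∈ P, ∀ b ∈ P, a * b = b * a)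
    (hfaith : ∀ u ∈ P, (∀ v ∈ V, u * v = v * u) → u = 1)
    (horb : ∀ v ∈ V, (centralizer ({v} : Set Y)).relIndex P ≤ p) : Nat.card P ≤ p := by
  classical
  have hp : p.Prime := Fact.out
  by_contra hlt
  push Not at hlt
  obtain ⟨n, hn⟩ := IsPGroup.iff_card.mp hP
  -- a nontrivial element of P and a vector it moves
  have hP1 : P ≠ ⊥ := by
    intro hb
    rw [hb, Subgroup.card_bot] at hlt
    have := hp.one_lt
    omega
  obtain ⟨⟨u, huP⟩, hu1'⟩ := (Subgroup.ne_bot_iff_exists_ne_one).mp hP1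
  have hu1 : u ≠ 1 := fun h => hu1' (Subtype.ext h)
  obtain ⟨v₁, hv₁V, hv₁⟩ : ∃ v ∈ V, u * v ≠ v * u := by
    by_contra hcon
    push Not at hcon
    exact hu1 (hfaith u huP hcon)
  set B : Subgroup Y := centralizer ({v₁} : Set Y) ⊓ P with hB
  have hBP : B ≤ P := inf_le_right
  have hBv : ∀ c ∈ B, c * v₁ = v₁ * c := by
    intro c hc
    exact (Subgroup.mem_centralizer_singleton_iff.mp hc.1)
  -- the index of B is p
  have hidx : (centralizer ({v₁} : Set Y)).relIndex P = p := by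
    obtain ⟨j, -, hj⟩ := (Nat.dvd_prime_pow hp).mp
      (hn ▸ Subgroup.relIndex_dvd_card (centralizer ({v₁} : Set Y)) P)
    have hle := horb v₁ hv₁V
    rw [hj] at hle ⊢
    rcases j with _ | _ | j
    · exfalso
      rw [pow_zero] at hj
      have := (Subgroup.relIndex_eq_one.mp hj) huP
      exact hv₁ (Subgroup.mem_centralizer_singleton_iff.mp this)
    · rw [zero_add, pow_one]
    · exfalso
      have h1 : p ^ 2 ≤ p ^ (j + 1 + 1) := Nat.pow_le_pow_right hp.pos (by omega)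
      have h2 : p * 2 ≤ p * p := Nat.mul_le_mul_left p hp.two_le
      have := hp.pos
      nlinarith
  have hcardB : Nat.card B * p = Nat.card P := by
    rw [← hidx]
    exact card_inf_mul_relIndex _ _
  have hB1 : B ≠ ⊥ := by
    intro hb
    rw [hb, Subgroup.card_bot, one_mul] at hcardB
    omega
  obtain ⟨⟨b, hbB⟩, hb1'⟩ := (Subgroup.ne_bot_iff_exists_ne_one).mp hB1
  have hb1 : b ≠ 1 := fun h => hb1' (Subtype.ext h)
  obtain ⟨w₀, hw₀V, hw₀⟩ : ∃ v ∈ V, b * v ≠ v * b := by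
    by_contra hcon
    push Not at hcon
    exact hb1 (hfaith b (hBP hbB) hcon)
  -- the commutator [V, B]
  set W : Subgroup Y := ⁅V, B⁆ with hW
  have hWV : W ≤ V := Subgroup.commutator_le_left V B
  have hVnorm : ∀ g : Y, ∀ x ∈ V, g * x * g⁻¹ ∈ V := fun g x hx => ‹V.Normal›.conj_mem x hx g
  have hPB : ∀ g ∈ P, ∀ x ∈ B, g * x * g⁻¹ ∈ B := by
    intro g hg x hx
    rw [hPab g hg x (hBP hx), mul_inv_cancel_right]
    exact hx
  have hPW : ∀ g ∈ P, ∀ x ∈ W, g * x * g⁻¹ ∈ W := fun g hg =>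
    conj_mem_commutator_of V B g (hVnorm g) (hPB g hg)
  have hBW : B ≤ normalizer (W : Set Y) := fun c hc =>
    Cfsg.Agent.Lib.Helper1.mem_normalizer_of_forall_conj_mem W c (hPW c (hBP hc))
  have hcardBp : ∃ i, Nat.card B = p ^ i := by
    obtain ⟨i, -, hi⟩ := (Nat.dvd_prime_pow hp).mp (hn ▸ Subgroup.card_dvd_of_le hBP)
    exact ⟨i, hi⟩
  have hcopBV : (Nat.card B).Coprime (Nat.card V) := by
    obtain ⟨i, hi⟩ := hcardBp
    rw [hi]
    exact Nat.Coprime.pow_left i hVp.symm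
  have hcopBW : (Nat.card B).Coprime (Nat.card W) :=
    Nat.Coprime.coprime_dvd_right (Subgroup.card_dvd_of_le hWV) hcopBV
  have hBnil : Group.IsNilpotent B := (hP.to_le hBP).isNilpotent
  have hBsol : Group.IsSolvable B := inferInstance
  have hx0 : ∀ c ∈ B, w₀⁻¹ * c * w₀ * c⁻¹ ∈ W := by
    intro c hc
    have := Subgroup.commutator_mem_commutator (inv_mem hw₀V) hc
    rw [commutatorElement_def, inv_inv] at this
    exact this
  obtain ⟨m, hmW, hmc⟩ := Cfsg.Agent.Lib.Helper1.exists_mul_mem_centralizer hBW hcopBW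
    (Or.inl hBsol) w₀ hx0
  -- w := m⁻¹ is moved by b
  have hbm : b * m ≠ m * b := by
    intro hcomm
    apply hw₀
    have h1 : b * (w₀ * m) = w₀ * m * b := Subgroup.mem_centralizer_iff.mp hmc b hbB
    have e : w₀ = (w₀ * m) * m⁻¹ := by group
    have hcomm' : b * m⁻¹ = m⁻¹ * b := by
      have : m⁻¹ * (b * m) * m⁻¹ = m⁻¹ * (m * b) * m⁻¹ := by rw [hcomm]
      simpa [mul_assoc] using this.symm
    calc b * w₀ = b * ((w₀ * m) * m⁻¹) := by rw [← e]
      _ = (b * (w₀ * m)) * m⁻¹ := by group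
      _ = (w₀ * m * b) * m⁻¹ := by rw [h1]
      _ = w₀ * m * (b * m⁻¹) := by group
      _ = w₀ * m * (m⁻¹ * b) := by rw [hcomm']
      _ = w₀ * b := by group
  -- the vector x = v₁ * m
  have hmV : m ∈ V := hWV hmW
  have : IsMulCommutative V := ⟨⟨fun a b => Subtype.ext (hVab a a.2 b b.2)⟩⟩
  have hBnV : B ≤ normalizer (V : Set Y) := by
    rw [Subgroup.normalizer_eq_top]
    exact le_top
  have hbot := Cfsg.Agent.Lib.Helper1.centralizer_inf_commutator_eq_bot B V hBnV hcopBV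
  have hkey : ∀ g ∈ P, g * (v₁ * m) = v₁ * m * g → g * v₁ = v₁ * g ∧ g * m = m * g := by
    intro g hg hgx
    set d : Y := v₁⁻¹ * (g * v₁ * g⁻¹) with hd
    have hd2 : d = m * (g * m * g⁻¹)⁻¹ := by
      have h1 : g * v₁ * g⁻¹ * (g * m * g⁻¹) = v₁ * m := by
        have : g * (v₁ * m) * g⁻¹ = v₁ * m := by rw [hgx, mul_inv_cancel_right]
        rw [← this]
        group
      rw [hd, eq_mul_inv_iff_mul_eq, mul_assoc, h1, inv_mul_cancel_left]
    have hdV : d ∈ V := mul_mem (inv_mem hv₁V) (hVnorm g v₁ hv₁V)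
    have hdC : d ∈ centralizer (B : Set Y) := by
      rw [Subgroup.mem_centralizer_iff]
      intro c hc
      have h1 : c * v₁ = v₁ * c := hBv c hc
      have h1' : c * v₁⁻¹ = v₁⁻¹ * c := by
        have : v₁⁻¹ * (c * v₁) * v₁⁻¹ = v₁⁻¹ * (v₁ * c) * v₁⁻¹ := by rw [h1]
        simpa [mul_assoc] using this.symm
      have h2 : c * g = g * c := hPab c (hBP hc) g hg
      have h2' : c * g⁻¹ = g⁻¹ * c := by
        have : g⁻¹ * (c * g) * g⁻¹ = g⁻¹ * (g * c) * g⁻¹ := by rw [h2]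
        simpa [mul_assoc] using this.symm
      show c * d = d * c
      rw [hd]
      calc c * (v₁⁻¹ * (g * v₁ * g⁻¹)) = (c * v₁⁻¹) * (g * v₁ * g⁻¹) := by group
        _ = v₁⁻¹ * c * (g * v₁ * g⁻¹) := by rw [h1']
        _ = v₁⁻¹ * ((c * g) * v₁ * g⁻¹) := by group
        _ = v₁⁻¹ * (g * (c * v₁) * g⁻¹) := by rw [h2]; group
        _ = v₁⁻¹ * (g * v₁ * (c * g⁻¹)) := by rw [h1]; group
        _ = v₁⁻¹ * (g * v₁ * g⁻¹) * c := by rw [h2']; group
    have hdW : d ∈ ⁅V, B⁆ := by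
      rw [hd2]
      exact mul_mem hmW (inv_mem (hPW g hg m hmW))
    have hd1 : d = 1 := by
      have : d ∈ (V ⊓ centralizer (B : Set Y)) ⊓ ⁅V, B⁆ := ⟨⟨hdV, hdC⟩, hdW⟩
      rw [hbot] at this
      exact Subgroup.mem_bot.mp this
    constructor
    · have h1 : g * v₁ * g⁻¹ = v₁ := by
        have := hd1
        rw [hd, inv_mul_eq_one] at this
        exact this.symm
      calc g * v₁ = g * v₁ * g⁻¹ * g := by group
        _ = v₁ * g := by rw [h1]
    · have h1 : g * m * g⁻¹ = m := by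
        have := hd1
        rw [hd2, mul_inv_eq_one] at this
        exact this.symm
      calc g * m = g * m * g⁻¹ * g := by group
        _ = m * g := by rw [h1]
  -- the centralizer of x in P is properly contained in B
  set C : Subgroup Y := centralizer ({v₁ * m} : Set Y) ⊓ P with hC
  have hCB : C ≤ B := by
    intro g hg
    have hgP : g ∈ P := hg.2
    have hgx : g * (v₁ * m) = v₁ * m * g := (Subgroup.mem_centralizer_singleton_iff.mp hg.1)
    exact ⟨Subgroup.mem_centralizer_singleton_iff.mpr (hkey g hgP hgx).1, hgP⟩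
  have hbC : b ∉ C := by
    intro hb
    have hgx : b * (v₁ * m) = v₁ * m * b := (Subgroup.mem_centralizer_singleton_iff.mp hb.1)
    exact hbm (hkey b (hBP hbB) hgx).2
  have hcardC : Nat.card C * (centralizer ({v₁ * m} : Set Y)).relIndex P = Nat.card P :=
    card_inf_mul_relIndex _ _
  have hle := horb (v₁ * m) (mul_mem hv₁V hmV)
  have hcardle : Nat.card B ≤ Nat.card C := by
    have h1 : Nat.card B * p ≤ Nat.card C * p := by
      rw [hcardB, ← hcardC]
      exact Nat.mul_le_mul_left _ hle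
    exact Nat.le_of_mul_le_mul_right h1 hp.pos
  have hCeq : C = B := Subgroup.eq_of_le_of_card_ge hCB hcardle
  exact hbC (hCeq ▸ hbB)

end Cfsg.Agent.Lib.Helper18.SqfLeaf
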