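import Mathlib
import Cfsg.Agent.Lib.Helper5.TWS.Defs
import Cfsg.Agent.Lib.Helper9.TWST2
import Cfsg.Agent.Lib.Helper22.TWExtBasic
import Cfsg.Agent.Lib.Helper22.TWExtMore
import Cfsg.Agent.Lib.Helper26.TWFibA
import Cfsg.Agent.Lib.Helper26.TWFibB
import Cfsg.Agent.Lib.Helper16.TWImg
import Cfsg.Agent.Lib.Helper14.TWIIDefs
import Cfsg.Agent.Lib.Helper14.TWSIIDefs

/-!
S5668 (C7 symplectic; owner helper5) Stage II-B (the descent; sub-planner helper14), leaves
T0 `two_ne_zero_S`, U5 `InUS_ker`, U6 `InUS_mem_GSV`, U7 `InUS_R` (helper18).  Exact signatures of `notes/S5668_II_leaves.lean`.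
-/

set_option autoImplicit false
set_option linter.unusedSectionVars false
set_option linter.unusedVariables false

namespace Cfsg.Agent.Lib.Helper18.TWSIILeaf
open Matrix Cfsg.Geo Cfsg.Agent.Lib.Helper18.AschA89 Cfsg.Agent.Lib.Helper8.TW Cfsg.Agent.Lib.Helper5.TWS
  Cfsg.Agent.Lib.Helper14.TWII Cfsg.Agent.Lib.Helper14.TWSII
open Cfsg.Agent.Lib.Helper25.SpT (sf Jm sfv)
open Cfsg.Agent.Lib.Helper23.TWUQ (NSp)
open Cfsg.Agent.Lib.Helper22.TWLeaf

variable {F : Type*} [Field F] [Fintype F] {t k : ℕ}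

/-- T0 (S) -/
theorem two_ne_zero_S (hodd : Odd (Fintype.card F)) : (2 : F) ≠ 0 := by
  intro h
  have h1 : ringChar F ∣ 2 := by
    apply ringChar.dvd
    exact_mod_cast h
  have h2 : ringChar F = 2 := by
    have hp := CharP.char_is_prime F (ringChar F)
    exact (Nat.prime_dvd_prime_iff_eq hp Nat.prime_two).1 h1
  have := FiniteField.even_card_of_char_two h2
  obtain ⟨m, hm⟩ := hodd
  omega

/-- U6 (S) a unipotent similitude is an isometry -/
theorem InUS_mem_GSV (hk : Even k) (hk2 : 2 ≤ k) (i : Fin t) (y : Fin k → F) (hy0 : y ≠ 0) (u : GL (Idx t k) F)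
    (huD : u ∈ DSV t k F) (hu : InUS i y u) : u ∈ GSV t k F := by
  classical
  obtain ⟨c, hc⟩ := mem_DSV.1 huD
  obtain ⟨h1, h2, h3⟩ := hu
  -- a non-zero vector of `W`
  have hfr : Module.finrank F (Wf i y : Submodule F (Idx t k → F)) = k ^ (t - 1) := by
    unfold Wf
    rw [Cfsg.Agent.Lib.Helper26.TWLeaf.finrank_fib, finrank_span_singleton hy0, mul_one]
  have hWne : (Wf i y : Submodule F (Idx t k → F)) ≠ ⊥ := by
    intro h
    rw [h, finrank_bot] at hfr
    have : 0 < k ^ (t - 1) := Nat.pow_pos (by omega)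
    omega
  obtain ⟨v, hvW, hv0⟩ := Submodule.exists_mem_ne_zero_of_ne_bot hWne
  obtain ⟨w, hw⟩ : ∃ w, sfT v w ≠ 0 := by
    by_contra hcon
    push Not at hcon
    exact hv0 (Cfsg.Agent.Lib.Helper9.TWST.sfT_nondeg_left hk hcon)
  have hperp : sfT v (mv u w - w) = 0 := by
    have hC : mv u w - w ∈ perpT (Wf i y) := by
      rw [Cfsg.Agent.Lib.Helper9.TWST.perpT_Wf hk i y hy0]
      exact h3 w
    exact Cfsg.Agent.Lib.Helper9.TWST.sfT_symm_zero hk (hC v hvW)
  have e1 : sfT v (mv u w) = sfT v w := by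
    rw [sfT_sub_right] at hperp
    exact sub_eq_zero.1 hperp
  have e2 := hc v w
  rw [h1 v hvW, e1] at e2
  have hc1 : (c : F) = 1 := by
    have : ((c : F) - 1) * sfT v w = 0 := by rw [sub_mul, one_mul, ← e2, sub_self]
    rcases mul_eq_zero.1 this with h | h
    · exact sub_eq_zero.1 h
    · exact absurd h hw
  rw [mem_GSV]
  intro a b
  rw [hc a b, hc1, one_mul]

/-- U5 (M) an ISOMETRY in `U^W` which is trivial on `C = W^⊥` lies in `Z_W` -/
theorem InUS_ker (hk : Even k) (i : Fin t) (y : Fin k → F) (hy0 : y ≠ 0) (u : GL (Idx t k) F) (huS : u ∈ GSV t k F)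
    (hu : InUS i y u) (h : ∀ v ∈ Cf i (sfv y), mv u v = v) : InZ i y u := by
  obtain ⟨h1, h2, h3⟩ := hu
  refine ⟨?_, h1⟩
  intro v
  rw [← Cfsg.Agent.Lib.Helper9.TWST.perpT_Cf hk i y hy0, mem_perpT]
  intro c' hc'
  rw [sfT_sub_left]
  have e := (mem_GSV.1 huS) v c'
  rw [h c' hc'] at e
  rw [e, sub_self]

/-- `b ⊗ w` lies in `C(i, y†)` for `w ⊥ y` -/
lemma tens_mem_Cf18 (i : Fin (t + 1)) (y w : Fin k → F) (hw : sf w y = 0) (b : Idx t k → F) :
    tens i b w ∈ Cf i (sfv y) := by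
  rw [mem_Cf_iff_ctr, ctr_tens, Cfsg.Agent.Lib.Helper25.SpT.sfv_dot, hw, zero_smul]

lemma tens_add_left18' (i : Fin (t + 1)) (b b' : Idx t k → F) (a : Fin k → F) :
    tens i (b + b') a = tens i b a + tens i b' a := by
  funext z
  simp only [tens, Pi.add_apply]
  ring

lemma tens_smul_left18' (i : Fin (t + 1)) (d : F) (b : Idx t k → F) (a : Fin k → F) :
    tens i (d • b) a = d • tens i b a := by
  funext z
  simp only [tens, Pi.smul_apply, smul_eq_mul]
  ring

/-- U7 (M) the `C → W` part of `u ∈ U^W` at a vector `w ⊥ y` -/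
theorem InUS_R (i : Fin (t + 1)) (y : Fin k → F) (hy0 : y ≠ 0) (u : GL (Idx (t + 1) k) F) (hu : InUS i y u)
    (w : Fin k → F) (hw : sf w y = 0) :
    ∃ ρ : Matrix (Idx t k) (Idx t k) F, ∀ b : Idx t k → F, mv u (tens i b w) = tens i b w + tens i (ρ *ᵥ b) y := by
  classical
  obtain ⟨h1, h2, h3⟩ := hu
  obtain ⟨ψ, hψ⟩ := Cfsg.Agent.Lib.Helper26.TWLeaf.exists_dot_one26 y hy0
  rw [dotProduct_comm] at hψ
  let L : (Idx t k → F) →ₗ[F] (Idx t k → F) :=
    { toFun := fun b => ctr i ψ (mv u (tens i b w) - tens i b w)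
      map_add' := by
        intro b b'
        have e : mv u (tens i (b + b') w) - tens i (b + b') w =
            (mv u (tens i b w) - tens i b w) + (mv u (tens i b' w) - tens i b' w) := by
          rw [tens_add_left18']
          unfold mv
          rw [Matrix.mulVec_add]
          abel
        rw [e, Cfsg.Agent.Lib.Helper22.TWLeaf.ctr_add]
      map_smul' := by
        intro d b
        have e : mv u (tens i (d • b) w) - tens i (d • b) w = d • (mv u (tens i b w) - tens i b w) := by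
          rw [tens_smul_left18']
          unfold mv
          rw [Matrix.mulVec_smul, smul_sub]
        rw [e, Cfsg.Agent.Lib.Helper22.TWLeaf.ctr_smul]
        rfl }
  refine ⟨LinearMap.toMatrix' L, fun b => ?_⟩
  have hL : LinearMap.toMatrix' L *ᵥ b = ctr i ψ (mv u (tens i b w) - tens i b w) := by
    rw [← Matrix.toLin'_apply, Matrix.toLin'_toMatrix']
    rfl
  have hmem := h2 (tens i b w) (tens_mem_Cf18 i y w hw b)
  obtain ⟨b', hb'⟩ := (mem_Wf_iff_tens i y hy0 _).1 hmem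
  have hb'' : LinearMap.toMatrix' L *ᵥ b = b' := by
    rw [hL, hb', ctr_tens, hψ, one_smul]
  rw [hb'', ← hb']
  abel

end Cfsg.Agent.Lib.Helper18.TWSIILeaf
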