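import Mathlib
import Cfsg.Agent.Lib.Helper18.TWSIIU567
import Cfsg.Agent.Lib.Helper29.TWSOneSlot

/-!
S5668 (C7 symplectic; owner helper5) Stage II-B (the descent; sub-planner helper14), leaf B3 `B1S_torus` (helper18).
Exact signature of `notes/S5668_II_leaves.lean`.
-/

set_option autoImplicit false
set_option linter.unusedSectionVars false
set_option linter.unusedVariables false

namespace Cfsg.Agent.Lib.Helper18.TWSIILeaf
open Matrix Cfsg.Geo Cfsg.Agent.Lib.Helper18.AschA89 Cfsg.Agent.Lib.Helper8.TW Cfsg.Agent.Lib.Helper5.TWS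
  Cfsg.Agent.Lib.Helper14.TWII Cfsg.Agent.Lib.Helper14.TWSII
open Cfsg.Agent.Lib.Helper25.SpT (sf Jm sfv)
open Cfsg.Agent.Lib.Helper23.TWUQ (NSp)
open Cfsg.Agent.Lib.Helper22.TWLeaf

variable {F : Type*} [Field F] [Fintype F] {t k : ℕ}

lemma mv_one18' {ι : Type} [Fintype ι] [DecidableEq ι] (v : ι → F) : mv (1 : GL ι F) v = v := by
  unfold mv
  rw [Units.val_one, Matrix.one_mulVec]

lemma mv_inv_mv18 {ι : Type} [Fintype ι] [DecidableEq ι] (g : GL ι F) (v : ι → F) : mv g⁻¹ (mv g v) = v := by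
  rw [← Cfsg.Agent.Lib.Helper16.TWLeaf.mv_mul, inv_mul_cancel, mv_one18']

lemma mv_inv_of_fix18 {ι : Type} [Fintype ι] [DecidableEq ι] (g : GL ι F) (v : ι → F) (h : mv g v = v) :
    mv g⁻¹ v = v := by
  have := mv_inv_mv18 g v
  rwa [h] at this

/-- the action of the torus matrix -/
lemma torS_mulVec18 (y y' : Fin k → F) (l : F) (a : Fin k → F) :
    torS y y' l *ᵥ a = a + ((l - 1) * sf a y') • y - ((l⁻¹ - 1) * sf a y) • y' := by
  have e1 : Matrix.vecMulVec y (sfv y') *ᵥ a = sf a y' • y := Cfsg.Agent.Lib.Helper29.TWSOne.dy_mulVec y y' a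
  have e2 : Matrix.vecMulVec y' (sfv y) *ᵥ a = sf a y • y' := Cfsg.Agent.Lib.Helper29.TWSOne.dy_mulVec y' y a
  unfold torS
  rw [Matrix.sub_mulVec, Matrix.add_mulVec, Matrix.one_mulVec, Matrix.smul_mulVec, Matrix.smul_mulVec, e1, e2,
    smul_smul, smul_smul]

lemma mv_slotGL_tens18 (i : Fin (t + 1)) (d : GL (Fin k) F) (b : Idx t k → F) (a : Fin k → F) :
    mv (slotGL i d) (tens i b a) = tens i b ((d : Matrix (Fin k) (Fin k) F) *ᵥ a) := by
  unfold mv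
  rw [slotGL_val, slot_mulVec_tens]

lemma tens_smul_right18 (i : Fin (t + 1)) (b : Idx t k → F) (d : F) (a : Fin k → F) :
    tens i b (d • a) = d • tens i b a := by
  funext z
  simp only [tens, Pi.smul_apply, smul_eq_mul]
  ring

/-- B3 (M) the TORUS commutator makes the `C → W` part of `u` scalar -/
theorem B1S_torus (i : Fin (t + 1)) (y y' : Fin k → F) (hyy' : sf y y' = 1) (u : GL (Idx (t + 1) k) F) (hu : InUS i y u)
    (l : F) (hl0 : l ≠ 0) (hl1 : l ≠ 1) (d : GL (Fin k) F) (hd : (d : Matrix (Fin k) (Fin k) F) = torS y y' l)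
    (M : GL (Fin k) F) (hM : u * slotGL i d * u⁻¹ * (slotGL i d)⁻¹ = slotGL i M) :
    ∀ v : Fin k → F, sf v y = 0 → sf v y' = 0 → ∃ c : F, ∀ b : Idx t k → F,
      mv u (tens i b v) = tens i b v + c • tens i b y := by
  classical
  intro v hvy hvy'
  have hy0 : y ≠ 0 := by
    rintro rfl
    rw [Cfsg.Agent.Lib.Helper25.SpT.sf_zero_left] at hyy'
    exact zero_ne_one hyy'
  obtain ⟨ρ, hρ⟩ := InUS_R i y hy0 u hu v hvy
  obtain ⟨h1, h2, h3⟩ := hu
  obtain ⟨ψ, hψ⟩ := Cfsg.Agent.Lib.Helper26.TWLeaf.exists_dot_one26 y hy0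
  rw [dotProduct_comm] at hψ
  have hdv : (d : Matrix (Fin k) (Fin k) F) *ᵥ v = v := by
    rw [hd, torS_mulVec18, hvy, hvy', mul_zero, mul_zero, zero_smul, zero_smul, add_zero, sub_zero]
  have hdy : (d : Matrix (Fin k) (Fin k) F) *ᵥ y = l • y := by
    rw [hd, torS_mulVec18, hyy', Cfsg.Agent.Lib.Helper25.SpT.sf_self, mul_zero, zero_smul, sub_zero, mul_one]
    rw [sub_smul, one_smul]
    abel
  have hl1' : (1 - l) ≠ 0 := fun h => hl1 (sub_eq_zero.1 h).symm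
  -- the commutator on `b ⊗ v`
  have hcomm : ∀ b : Idx t k → F, mv (u * slotGL i d * u⁻¹ * (slotGL i d)⁻¹) (tens i b v) =
      tens i b v + (1 - l) • tens i (ρ *ᵥ b) y := by
    intro b
    have hWmem : tens i (ρ *ᵥ b) y ∈ Wf i y := (mem_Wf_iff_tens i y hy0 _).mpr ⟨_, rfl⟩
    have ha1 : mv (slotGL i d)⁻¹ (tens i b v) = tens i b v := by
      apply mv_inv_of_fix18
      rw [mv_slotGL_tens18, hdv]
    have hu1 : mv u⁻¹ (tens i b v) = tens i b v - tens i (ρ *ᵥ b) y := by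
      have e : mv u (tens i b v - tens i (ρ *ᵥ b) y) = tens i b v := by
        unfold mv
        rw [Matrix.mulVec_sub]
        have e1 := hρ b
        have e2 := h1 _ hWmem
        unfold mv at e1 e2
        rw [e1, e2]
        abel
      have := mv_inv_mv18 u (tens i b v - tens i (ρ *ᵥ b) y)
      rw [e] at this
      exact this
    have ha2 : mv (slotGL i d) (tens i b v - tens i (ρ *ᵥ b) y) = tens i b v - l • tens i (ρ *ᵥ b) y := by
      have e1 := mv_slotGL_tens18 i d b v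
      have e2 := mv_slotGL_tens18 i d (ρ *ᵥ b) y
      rw [hdv] at e1
      rw [hdy, tens_smul_right18] at e2
      unfold mv at e1 e2 ⊢
      rw [Matrix.mulVec_sub, e1, e2]
    have hu2 : mv u (tens i b v - l • tens i (ρ *ᵥ b) y) = tens i b v + (1 - l) • tens i (ρ *ᵥ b) y := by
      have e1 := hρ b
      have e2 := h1 _ hWmem
      unfold mv at e1 e2 ⊢
      rw [Matrix.mulVec_sub, Matrix.mulVec_smul, e1, e2, sub_smul, one_smul]
      abel
    rw [Cfsg.Agent.Lib.Helper16.TWLeaf.mv_mul, Cfsg.Agent.Lib.Helper16.TWLeaf.mv_mul,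
      Cfsg.Agent.Lib.Helper16.TWLeaf.mv_mul, ha1, hu1, ha2, hu2]
  -- read off `ρ`
  refine ⟨(1 - l)⁻¹ * (ψ ⬝ᵥ ((M : Matrix (Fin k) (Fin k) F) *ᵥ v) - ψ ⬝ᵥ v), fun b => ?_⟩
  have e := hcomm b
  rw [hM, mv_slotGL_tens18] at e
  have e2 := congrArg (ctr i ψ) e
  rw [ctr_tens, Cfsg.Agent.Lib.Helper22.TWLeaf.ctr_add, ctr_tens, Cfsg.Agent.Lib.Helper22.TWLeaf.ctr_smul, ctr_tens,
    hψ, one_smul] at e2
  have hρb : ρ *ᵥ b = ((1 - l)⁻¹ * (ψ ⬝ᵥ ((M : Matrix (Fin k) (Fin k) F) *ᵥ v) - ψ ⬝ᵥ v)) • b := by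
    have e3 : (1 - l) • (ρ *ᵥ b) = (ψ ⬝ᵥ ((M : Matrix (Fin k) (Fin k) F) *ᵥ v)) • b - (ψ ⬝ᵥ v) • b := by
      rw [e2]
      abel
    rw [mul_smul, sub_smul, ← e3, smul_smul, inv_mul_cancel₀ hl1', one_smul]
  rw [hρ b, hρb, tens_smul_left18']

end Cfsg.Agent.Lib.Helper18.TWSIILeaf
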