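import Mathlib
import Cfsg.Agent.Lib.Helper18.TWSIIU567
import Cfsg.Agent.Lib.Helper18.TWSIIB3
import Cfsg.Agent.Lib.Helper1.TWST2
import Cfsg.Agent.Lib.Helper29.TWSOneSlot

/-!
S5668 (C7 symplectic; owner helper5) Stage II-B (the descent; sub-planner helper14), the LINEAR-ALGEBRA part of leaf U8 `InUS_split`
(main taker helper26): `exists_w0` (the scalars `c(v)`, `v ∈ A₀ = ⟨y,y'⟩^⊥`, are `sf v w₀` for one `w₀ ∈ A₀`) and the decomposition
lemma `fib_le_of_tens` (a subspace containing all pure tensors `b ⊗ a`, `a ∈ S`, contains `fib i S`).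
-/

set_option autoImplicit false
set_option linter.unusedSectionVars false
set_option linter.unusedVariables false

namespace Cfsg.Agent.Lib.Helper18.TWSIILeaf
open Matrix Cfsg.Geo Cfsg.Agent.Lib.Helper18.AschA89 Cfsg.Agent.Lib.Helper8.TW Cfsg.Agent.Lib.Helper5.TWS
  Cfsg.Agent.Lib.Helper14.TWII Cfsg.Agent.Lib.Helper14.TWSII
open Cfsg.Agent.Lib.Helper25.SpT (sf Jm sfv)
open Cfsg.Agent.Lib.Helper25.SpT (sf_add_left sf_add_right sf_smul_left sf_smul_right sf_sub_left sf_sub_right sf_skew sf_self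
  sf_zero_left)
open Cfsg.Agent.Lib.Helper22.TWLeaf

variable {F : Type*} [Field F] [Fintype F] {t k : ℕ}

/-- every element of `fib i S` is a sum of pure tensors `e_w ⊗ a_w`, `a_w ∈ S` -/
theorem fib_le_of_tens (i : Fin (t + 1)) (S : Submodule F (Fin k → F)) (P : Submodule F (Idx (t + 1) k → F))
    (h : ∀ (b : Idx t k → F), ∀ a ∈ S, tens i b a ∈ P) : fib i S ≤ P := by
  classical
  intro x hx
  have hdec : x = ∑ w : Idx t k, tens i (Pi.single w (1 : F)) (fun c => x (ins i c w)) := by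
    apply vec_ext_ins i
    intro c w₀
    rw [Finset.sum_apply, Finset.sum_eq_single w₀]
    · simp only [tens, ins_same, ins_comp, Pi.single_eq_same, one_mul]
    · intro w _ hw
      simp only [tens, ins_same, ins_comp]
      rw [Pi.single_eq_of_ne (Ne.symm hw), zero_mul]
    · intro h'
      exact absurd (Finset.mem_univ _) h'
  rw [hdec]
  apply Submodule.sum_mem
  intro w _
  apply h
  by_cases hk0 : k = 0
  · subst hk0
    have : (fun c : Fin 0 => x (ins i c w)) = 0 := by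
      funext c
      exact c.elim0
    rw [this]
    exact S.zero_mem
  · have hpos : 0 < k := Nat.pos_of_ne_zero hk0
    have hs := (mem_fib i S x).1 hx (ins i ⟨0, hpos⟩ w)
    have e : slice i (ins i ⟨0, hpos⟩ w) x = fun c => x (ins i c w) := by
      funext c
      unfold slice
      rw [update_ins]
    rw [e] at hs
    exact hs

lemma tens_add_right18 (i : Fin (t + 1)) (b : Idx t k → F) (a a' : Fin k → F) :
    tens i b (a + a') = tens i b a + tens i b a' := by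
  funext z
  simp only [tens, Pi.add_apply]
  ring

lemma tens_zero_right18 (i : Fin (t + 1)) (b : Idx t k → F) : tens i b (0 : Fin k → F) = 0 := by
  funext z
  simp [tens]

/-- the projection onto `A₀ = ⟨y,y'⟩^⊥` along `⟨y,y'⟩` -/
def projA0 (y y' : Fin k → F) : Matrix (Fin k) (Fin k) F :=
  1 - Matrix.vecMulVec y (sfv y') + Matrix.vecMulVec y' (sfv y)

lemma projA0_mulVec (y y' a : Fin k → F) : projA0 y y' *ᵥ a = a - sf a y' • y + sf a y • y' := by
  have e1 : Matrix.vecMulVec y (sfv y') *ᵥ a = sf a y' • y := Cfsg.Agent.Lib.Helper29.TWSOne.dy_mulVec y y' a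
  have e2 : Matrix.vecMulVec y' (sfv y) *ᵥ a = sf a y • y' := Cfsg.Agent.Lib.Helper29.TWSOne.dy_mulVec y' y a
  unfold projA0
  rw [Matrix.add_mulVec, Matrix.sub_mulVec, Matrix.one_mulVec, e1, e2]

/-- the functional `a ↦ (b₀ ⊗ y)-coefficient of (u - 1)(b₀ ⊗ Π a)` is `sf · w₀` -/
theorem exists_w0 (hk : Even k) (hk2 : 2 ≤ k) (i : Fin (t + 1)) (y y' : Fin k → F) (hyy' : sf y y' = 1)
    (u : GL (Idx (t + 1) k) F)
    (hsc : ∀ v : Fin k → F, sf v y = 0 → sf v y' = 0 → ∃ c : F, ∀ b : Idx t k → F,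
      mv u (tens i b v) = tens i b v + c • tens i b y) :
    ∃ w₀ : Fin k → F, sf w₀ y = 0 ∧ sf w₀ y' = 0 ∧ ∀ v : Fin k → F, sf v y = 0 → sf v y' = 0 →
      ∀ b : Idx t k → F, mv u (tens i b v) = tens i b v + sf v w₀ • tens i b y := by
  classical
  have hk0 : 0 < k := by omega
  have hy0 : y ≠ 0 := by
    rintro rfl
    rw [sf_zero_left] at hyy'
    exact zero_ne_one hyy'
  have hy'y : sf y' y = -1 := by rw [sf_skew, hyy']
  obtain ⟨ψ, hψ⟩ := Cfsg.Agent.Lib.Helper26.TWLeaf.exists_dot_one26 y hy0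
  rw [dotProduct_comm] at hψ
  obtain ⟨u₀⟩ : Nonempty (Idx t k) := ⟨fun _ => ⟨0, hk0⟩⟩
  obtain ⟨b₀, hb₀⟩ : ∃ b₀ : Idx t k → F, b₀ = Pi.single u₀ 1 := ⟨_, rfl⟩
  have hb₀u : b₀ u₀ = 1 := by rw [hb₀, Pi.single_eq_same]
  -- the functional
  let L : (Fin k → F) →ₗ[F] F :=
    { toFun := fun a => ctr i ψ (mv u (tens i b₀ (projA0 y y' *ᵥ a)) - tens i b₀ (projA0 y y' *ᵥ a)) u₀
      map_add' := by
        intro a a'
        have e : mv u (tens i b₀ (projA0 y y' *ᵥ (a + a'))) - tens i b₀ (projA0 y y' *ᵥ (a + a')) =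
            (mv u (tens i b₀ (projA0 y y' *ᵥ a)) - tens i b₀ (projA0 y y' *ᵥ a)) +
              (mv u (tens i b₀ (projA0 y y' *ᵥ a')) - tens i b₀ (projA0 y y' *ᵥ a')) := by
          rw [Matrix.mulVec_add, tens_add_right18]
          unfold mv
          rw [Matrix.mulVec_add]
          abel
        rw [e, Cfsg.Agent.Lib.Helper22.TWLeaf.ctr_add]
        rfl
      map_smul' := by
        intro d a
        have e : mv u (tens i b₀ (projA0 y y' *ᵥ (d • a))) - tens i b₀ (projA0 y y' *ᵥ (d • a)) =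
            d • (mv u (tens i b₀ (projA0 y y' *ᵥ a)) - tens i b₀ (projA0 y y' *ᵥ a)) := by
          rw [Matrix.mulVec_smul, tens_smul_right18]
          unfold mv
          rw [Matrix.mulVec_smul, smul_sub]
        rw [e, Cfsg.Agent.Lib.Helper22.TWLeaf.ctr_smul]
        rfl }
  have hLdef : ∀ a, L a = ctr i ψ (mv u (tens i b₀ (projA0 y y' *ᵥ a)) - tens i b₀ (projA0 y y' *ᵥ a)) u₀ :=
    fun a => rfl
  obtain ⟨ξ, hξ⟩ : ∃ ξ : Fin k → F, ξ = fun j => L (Pi.single j 1) := ⟨_, rfl⟩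
  have hLξ : ∀ a : Fin k → F, L a = ξ ⬝ᵥ a := by
    intro a
    rw [LinearMap.pi_apply_eq_sum_univ L a, dotProduct]
    apply Finset.sum_congr rfl
    intro j _
    rw [hξ, smul_eq_mul, mul_comm]
    congr 2
    funext j'
    rw [Pi.single_apply]
    by_cases h : j' = j
    · rw [if_pos h, if_pos h.symm]
    · rw [if_neg h, if_neg (Ne.symm h)]
  -- `w₀`
  obtain ⟨w₀, hw₀⟩ : ∃ w₀ : Fin k → F, w₀ = -((Jm k : Matrix (Fin k) (Fin k) F) *ᵥ ξ) := ⟨_, rfl⟩
  have hsfv : sfv w₀ = ξ := by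
    unfold sfv
    rw [hw₀, Matrix.mulVec_neg, Matrix.mulVec_mulVec, Cfsg.Agent.Lib.Helper1.TWST2.Jm_mul_Jm hk, Matrix.neg_mulVec,
      Matrix.one_mulVec, neg_neg]
  have hsf : ∀ a : Fin k → F, sf a w₀ = L a := by
    intro a
    rw [hLξ, ← hsfv, Cfsg.Agent.Lib.Helper25.SpT.sfv_dot]
  -- `L` kills `y` and `y'`
  have hL0 : ∀ a : Fin k → F, projA0 y y' *ᵥ a = 0 → L a = 0 := by
    intro a ha
    rw [hLdef, ha, tens_zero_right18]
    unfold mv
    rw [Matrix.mulVec_zero, sub_zero]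
    simp [ctr]
  have hPy : projA0 y y' *ᵥ y = 0 := by
    rw [projA0_mulVec, hyy', sf_self, one_smul, zero_smul, sub_self, add_zero]
  have hPy' : projA0 y y' *ᵥ y' = 0 := by
    rw [projA0_mulVec, sf_self, hy'y, zero_smul, sub_zero, neg_smul, one_smul, add_neg_cancel]
  refine ⟨w₀, ?_, ?_, ?_⟩
  · rw [sf_skew, hsf, hL0 y hPy, neg_zero]
  · rw [sf_skew, hsf, hL0 y' hPy', neg_zero]
  · intro v hvy hvy' b
    obtain ⟨c, hc⟩ := hsc v hvy hvy'
    have hPv : projA0 y y' *ᵥ v = v := by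
      rw [projA0_mulVec, hvy, hvy', zero_smul, zero_smul, sub_zero, add_zero]
    have hLv : L v = c := by
      rw [hLdef, hPv, hc b₀, add_sub_cancel_left, Cfsg.Agent.Lib.Helper22.TWLeaf.ctr_smul, ctr_tens, hψ, one_smul,
        Pi.smul_apply, hb₀u, smul_eq_mul, mul_one]
    rw [hsf, hLv]
    exact hc b

end Cfsg.Agent.Lib.Helper18.TWSIILeaf
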