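import Mathlib
import Cfsg.Agent.Lib.Helper11.MonoBasic
import Cfsg.Agent.Lib.Helper15.MonoWa1

/-!
S5655 (k = 1), dense case: shared definitions.  Form-free (no hermitian form is used).
`ColDense L` is property (D): every non-monomial element of `L` has at most one zero in each column.
`HasTorus Θ L`: the torus elements `diag(ε at c, ε⁻¹ at c')`, `ε ∈ Θ`, lie in `L`.
Paper proof: notes/S5655_dense_helper18.md.
-/

set_option autoImplicit false

namespace Cfsg.Agent.Lib.Helper18.UDense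
open Matrix Cfsg.Agent.Lib.Helper11.Mono Cfsg.Agent.Lib.Helper15.MonoLeaf

variable {F : Type*} [Field F] {ι : Type} [Fintype ι] [DecidableEq ι]

/-- property (D): a non-monomial element of `L` has at most one zero in each column -/
def ColDense (L : Subgroup (GL ι F)) : Prop :=
  ∀ y ∈ L, ¬ IsMono (y : Matrix ι ι F) → ∀ j c c', c ≠ c' →
    (y : Matrix ι ι F) c j = 0 → (y : Matrix ι ι F) c' j = 0 → False

/-- the torus elements `diag(ε at c, ε⁻¹ at c')`, `ε ∈ Θ`, lie in `L` -/
def HasTorus (Θ : Subgroup Fˣ) (L : Subgroup (GL ι F)) : Prop :=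
  ∀ c c' : ι, c ≠ c' → ∀ ε ∈ Θ, dg (tcc c c' ε) ∈ L

lemma tcc_val_mulVec (c c' : ι) (ε : Fˣ) (v : ι → F) :
    ((dg (tcc c c' ε) : GL ι F) : Matrix ι ι F) *ᵥ v = fun i => ((tcc c c' ε i : Fˣ) : F) * v i :=
  dg_mulVec _ v

end Cfsg.Agent.Lib.Helper18.UDense
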