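import Mathlib
import Cfsg.Agent.Lib.Helper18.UDenseDefs

/-!
S5655 (k = 1), dense case, step K2cd: for every 2-set `{k,l}` the column `c` of `g ∈ L` is, off three rows
`{k, l, i}`, a linear combination of the columns `a, b`.  The fusion-control lemma (K2a) and the coset lemma (K2b) enter as
hypotheses `hfus`, `hsyl`, so that this file does not depend on the market leaves.
-/

set_option autoImplicit false

namespace Cfsg.Agent.Lib.Helper18.UDense
open Matrix Cfsg.Agent.Lib.Helper11.Mono Cfsg.Agent.Lib.Helper15.MonoLeaf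

variable {F : Type*} [Field F] [Fintype F] {ι : Type} [Fintype ι] [DecidableEq ι]

lemma dg_pow (s : ι → Fˣ) (m : ℕ) : (dg s : GL ι F) ^ m = dg (s ^ m) := by
  induction m with
  | zero => rw [pow_zero, pow_zero, dg_one]
  | succ m ih => rw [pow_succ, ih, dg_mul, pow_succ]

lemma tcc_pow (c c' : ι) (ε : Fˣ) (m : ℕ) : (tcc c c' ε) ^ m = tcc c c' (ε ^ m) := by
  funext x
  rw [Pi.pow_apply]
  unfold tcc
  split_ifs
  · rfl
  · rw [inv_pow]
  · rw [one_pow]

lemma tcc_one (c c' : ι) : tcc c c' (1 : Fˣ) = 1 := by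
  funext x
  unfold tcc
  split_ifs <;> simp

/-- the torus element `z_K` has order dividing the order of `ζ` -/
lemma dg_tcc_pow_eq_one (c c' : ι) (ζ : Fˣ) (r : ℕ) (h : ζ ^ r = 1) :
    (dg (tcc c c' ζ) : GL ι F) ^ r = 1 := by
  rw [dg_pow, tcc_pow, h, tcc_one, dg_one]

/-- `z_K w - w` lies in the span of `e_k, e_l` -/
lemma tcc_mulVec_sub (k l : ι) (hkl : k ≠ l) (ζ : Fˣ) (w : ι → F) :
    ((dg (tcc k l ζ) : GL ι F) : Matrix ι ι F) *ᵥ w - w =
      (((ζ : F) - 1) * w k) • (Pi.single k (1 : F) : ι → F) +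
        ((((ζ⁻¹ : Fˣ) : F) - 1) * w l) • (Pi.single l (1 : F) : ι → F) := by
  rw [dg_mulVec]
  ext i
  by_cases hik : i = k
  · subst hik
    simp [tcc_same, hkl]
    ring
  · by_cases hil : i = l
    · subst hil
      simp [tcc_other hkl, hik]
      ring
    · simp [tcc_off hik hil, hik, hil]

/-- the monomial elements of `L`, as a subgroup of `L` -/
def monoSub (L : Subgroup (GL ι F)) : Subgroup L where
  carrier := {y | IsMono ((y : GL ι F) : Matrix ι ι F)}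
  mul_mem' {x y} hx hy := by
    change IsMono (((x * y : L) : GL ι F) : Matrix ι ι F)
    rw [Subgroup.coe_mul, Units.val_mul]
    exact IsMono.mul hx hy
  one_mem' := by
    change IsMono (((1 : L) : GL ι F) : Matrix ι ι F)
    rw [Subgroup.coe_one, Units.val_one]
    exact isMono_one
  inv_mem' {x} hx := by
    change IsMono (((x⁻¹ : L) : GL ι F) : Matrix ι ι F)
    rw [Subgroup.coe_inv]
    exact isMono_inv _ hx

lemma mem_monoSub {L : Subgroup (GL ι F)} (y : L) :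
    y ∈ monoSub L ↔ IsMono ((y : GL ι F) : Matrix ι ι F) := Iff.rfl

/-- K2cd with the two leaves as hypotheses. -/
theorem exists_comb_core (L : Subgroup (GL ι F))
    (ζ : Fˣ) (r : ℕ) (hζr : ζ ^ r = 1)
    (hz : ∀ k l : ι, k ≠ l → dg (tcc k l ζ) ∈ L)
    (hfus : ∀ k l : ι, k ≠ l → ∀ h : GL ι F, h ∈ L →
      IsMono ((h⁻¹ * dg (tcc k l ζ) * h : GL ι F) : Matrix ι ι F) → IsMono (h : Matrix ι ι F))
    (hsyl : ∀ (N : Subgroup L) (z z' g : L), z ^ r = 1 → z' ^ r = 1 → z ∈ N →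
      (∀ h : L, h⁻¹ * z * h ∈ N → h ∈ N) → (∀ h : L, h⁻¹ * z' * h ∈ N → g⁻¹ * h ∈ N) →
      ∃ x ∈ Subgroup.closure ({z, z'} : Set L), g⁻¹ * x ∈ N)
    (g : GL ι F) (hg : g ∈ L)
    (a b c : ι) (hab : a ≠ b) (k l : ι) (hkl : k ≠ l) :
    ∃ (α β : F) (i : ι), ∀ x, x ≠ k → x ≠ l → x ≠ i →
      (g : Matrix ι ι F) x c = α * (g : Matrix ι ι F) x a + β * (g : Matrix ι ι F) x b := by
  classical
  -- the elements
  set zK : L := ⟨dg (tcc k l ζ), hz k l hkl⟩ with hzK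
  set zA : L := ⟨dg (tcc a b ζ), hz a b hab⟩ with hzA
  set gL : L := ⟨g, hg⟩ with hgL
  set z' : L := gL * zA * gL⁻¹ with hz'
  have hzKr : zK ^ r = 1 := by
    apply Subtype.ext
    rw [Subgroup.coe_pow, Subgroup.coe_one]
    exact dg_tcc_pow_eq_one k l ζ r hζr
  have hzAr : zA ^ r = 1 := by
    apply Subtype.ext
    rw [Subgroup.coe_pow, Subgroup.coe_one]
    exact dg_tcc_pow_eq_one a b ζ r hζr
  have hz'r : z' ^ r = 1 := by
    rw [hz', conj_pow, hzAr, mul_one, mul_inv_cancel]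
  have h1 : ∀ h : L, h⁻¹ * zK * h ∈ monoSub L → h ∈ monoSub L := by
    intro h hh
    rw [mem_monoSub] at hh ⊢
    apply hfus k l hkl (h : GL ι F) h.2
    have : ((h⁻¹ * zK * h : L) : GL ι F) = (h : GL ι F)⁻¹ * dg (tcc k l ζ) * (h : GL ι F) := by
      rw [Subgroup.coe_mul, Subgroup.coe_mul, Subgroup.coe_inv]
    rw [← this]
    exact hh
  have h2 : ∀ h : L, h⁻¹ * z' * h ∈ monoSub L → gL⁻¹ * h ∈ monoSub L := by
    intro h hh
    have e : h⁻¹ * z' * h = (gL⁻¹ * h)⁻¹ * zA * (gL⁻¹ * h) := by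
      rw [hz']; group
    rw [e] at hh
    rw [mem_monoSub] at hh ⊢
    apply hfus a b hab ((gL⁻¹ * h : L) : GL ι F) (gL⁻¹ * h).2
    have : (((gL⁻¹ * h)⁻¹ * zA * (gL⁻¹ * h) : L) : GL ι F) =
        ((gL⁻¹ * h : L) : GL ι F)⁻¹ * dg (tcc a b ζ) * ((gL⁻¹ * h : L) : GL ι F) := by
      rw [Subgroup.coe_mul, Subgroup.coe_mul, Subgroup.coe_inv]
    rw [← this]
    exact hh
  have hzKN : zK ∈ monoSub L := by
    rw [mem_monoSub]
    exact dg_isMono _
  obtain ⟨x, hxcl, hxN⟩ := hsyl (monoSub L) zK z' gL hzKr hz'r hzKN h1 h2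
  -- the invariance property
  have hP : ∀ y ∈ Subgroup.closure ({zK, z'} : Set L), ∀ w : ι → F, ∃ c1 c2 c3 c4 : F,
      ((y : GL ι F) : Matrix ι ι F) *ᵥ w - w =
        c1 • (Pi.single k (1 : F) : ι → F) + c2 • (Pi.single l (1 : F) : ι → F) +
          c3 • (g : Matrix ι ι F).col a + c4 • (g : Matrix ι ι F).col b := by
    intro y hy
    induction hy using Subgroup.closure_induction with
    | mem y hy =>
      intro w
      rcases hy with rfl | hy
      · refine ⟨((ζ : F) - 1) * w k, (((ζ⁻¹ : Fˣ) : F) - 1) * w l, 0, 0, ?_⟩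
        rw [zero_smul, zero_smul, add_zero, add_zero]
        exact tcc_mulVec_sub k l hkl ζ w
      · rw [Set.mem_singleton_iff] at hy
        subst hy
        obtain ⟨v, hv⟩ : ∃ v, v = ((g⁻¹ : GL ι F) : Matrix ι ι F) *ᵥ w := ⟨_, rfl⟩
        refine ⟨0, 0, ((ζ : F) - 1) * v a, (((ζ⁻¹ : Fˣ) : F) - 1) * v b, ?_⟩
        rw [zero_smul, zero_smul, zero_add, zero_add]
        have e1 : ((z' : GL ι F) : Matrix ι ι F) = (g : Matrix ι ι F) *
            ((dg (tcc a b ζ) : GL ι F) : Matrix ι ι F) * ((g⁻¹ : GL ι F) : Matrix ι ι F) := by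
          rw [hz', Subgroup.coe_mul, Subgroup.coe_mul, Subgroup.coe_inv, Units.val_mul, Units.val_mul]
        have e2 : w = (g : Matrix ι ι F) *ᵥ v := by rw [hv, mulVec_inv_mulVec]
        calc ((z' : GL ι F) : Matrix ι ι F) *ᵥ w - w
            = (g : Matrix ι ι F) *ᵥ (((dg (tcc a b ζ) : GL ι F) : Matrix ι ι F) *ᵥ v) -
                (g : Matrix ι ι F) *ᵥ v := by
              rw [e1, ← Matrix.mulVec_mulVec, ← Matrix.mulVec_mulVec, ← hv, ← e2]
          _ = (g : Matrix ι ι F) *ᵥ (((dg (tcc a b ζ) : GL ι F) : Matrix ι ι F) *ᵥ v - v) := by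
              rw [Matrix.mulVec_sub]
          _ = _ := by
              rw [tcc_mulVec_sub a b hab ζ v, Matrix.mulVec_add, Matrix.mulVec_smul,
                Matrix.mulVec_smul, Matrix.mulVec_single_one, Matrix.mulVec_single_one]
    | one =>
      intro w
      refine ⟨0, 0, 0, 0, ?_⟩
      rw [Subgroup.coe_one, Units.val_one, Matrix.one_mulVec, sub_self]
      simp
    | mul y1 y2 _ _ ih1 ih2 =>
      intro w
      obtain ⟨d1, d2, d3, d4, hd⟩ := ih2 w
      obtain ⟨c1, c2, c3, c4, hc⟩ := ih1 (((y2 : GL ι F) : Matrix ι ι F) *ᵥ w)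
      refine ⟨c1 + d1, c2 + d2, c3 + d3, c4 + d4, ?_⟩
      rw [Subgroup.coe_mul, Units.val_mul, ← Matrix.mulVec_mulVec]
      have : ((y1 : GL ι F) : Matrix ι ι F) *ᵥ (((y2 : GL ι F) : Matrix ι ι F) *ᵥ w) - w =
          (((y1 : GL ι F) : Matrix ι ι F) *ᵥ (((y2 : GL ι F) : Matrix ι ι F) *ᵥ w) -
            ((y2 : GL ι F) : Matrix ι ι F) *ᵥ w) + (((y2 : GL ι F) : Matrix ι ι F) *ᵥ w - w) := by
        abel
      rw [this, hc, hd]
      simp only [add_smul]
      abel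
    | inv y _ ih =>
      intro w
      obtain ⟨c1, c2, c3, c4, hc⟩ := ih ((((y : GL ι F)⁻¹ : GL ι F) : Matrix ι ι F) *ᵥ w)
      refine ⟨-c1, -c2, -c3, -c4, ?_⟩
      rw [mulVec_inv_mulVec] at hc
      rw [Subgroup.coe_inv]
      have : (((y : GL ι F)⁻¹ : GL ι F) : Matrix ι ι F) *ᵥ w - w =
          -(w - (((y : GL ι F)⁻¹ : GL ι F) : Matrix ι ι F) *ᵥ w) := by abel
      rw [this, hc]
      simp only [neg_smul]
      abel
  -- `x = g h` with `h` monomial
  obtain ⟨h, hh⟩ : ∃ h : GL ι F, h = ((gL⁻¹ * x : L) : GL ι F) := ⟨_, rfl⟩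
  have hmono : IsMono (h : Matrix ι ι F) := by rw [hh]; exact hxN
  have hxg : (x : GL ι F) = g * h := by
    rw [hh, Subgroup.coe_mul, Subgroup.coe_inv]
    change (x : GL ι F) = g * (g⁻¹ * (x : GL ι F))
    rw [mul_inv_cancel_left]
  -- the column of `h` hitting row `c`
  obtain ⟨i, hi⟩ := isMono_inv h hmono c
  have hψ := entry_ne_zero_of_colAt (h⁻¹) hi
  obtain ⟨ψ, hψdef⟩ : ∃ ψ, ψ = ((h⁻¹ : GL ι F) : Matrix ι ι F) i c := ⟨_, rfl⟩
  rw [← hψdef] at hψ
  have e1 : ((h⁻¹ : GL ι F) : Matrix ι ι F) *ᵥ (Pi.single c (1 : F)) =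
      ψ • (Pi.single i (1 : F) : ι → F) := by
    rw [hψdef]; exact mulVec_single_of_colAt hi
  have e2 : (h : Matrix ι ι F) *ᵥ (Pi.single i (1 : F)) = ψ⁻¹ • (Pi.single c (1 : F) : ι → F) := by
    have : (Pi.single i (1 : F) : ι → F) =
        ψ⁻¹ • (((h⁻¹ : GL ι F) : Matrix ι ι F) *ᵥ (Pi.single c (1 : F))) := by
      rw [e1, smul_smul, inv_mul_cancel₀ hψ, one_smul]
    rw [this, Matrix.mulVec_smul, mulVec_inv_mulVec]
  have e3 : ((x : GL ι F) : Matrix ι ι F) *ᵥ (Pi.single i (1 : F)) =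
      ψ⁻¹ • (g : Matrix ι ι F).col c := by
    rw [hxg, Units.val_mul, ← Matrix.mulVec_mulVec, e2, Matrix.mulVec_smul,
      Matrix.mulVec_single_one]
  obtain ⟨c1, c2, c3, c4, hc⟩ := hP x hxcl (Pi.single i (1 : F))
  rw [e3] at hc
  refine ⟨ψ * c3, ψ * c4, i, fun y hyk hyl hyi => ?_⟩
  have := congrFun hc y
  simp only [Pi.sub_apply, Pi.add_apply, Pi.smul_apply, Pi.single_apply, if_neg hyk, if_neg hyl,
    if_neg hyi, smul_eq_mul, mul_zero, sub_zero, zero_add, Matrix.col_apply] at this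
  have h5 : (g : Matrix ι ι F) y c = ψ * (ψ⁻¹ * (g : Matrix ι ι F) y c) := by
    rw [← mul_assoc, mul_inv_cancel₀ hψ, one_mul]
  rw [h5, this]
  ring

end Cfsg.Agent.Lib.Helper18.UDense
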