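import Mathlib
import Cfsg.Agent.Lib.Helper18.Sims3Defs

set_option autoImplicit false

/-!
SIMS market (S3385), leaf L1: basic consequences of `TSData`: the generators are involutions,
commutators of generators lie in the interior interval subgroup, conjugation by `g` shifts the
interval subgroups.
-/

namespace Cfsg.Agent.Lib.Helper18.SIMSL1

open Cfsg Cfsg.Agent.Lib.Helper29.TWPair Cfsg.Agent.Lib.Helper18.Sims3 MulAction

variable {G : Type*} [Group G]

theorem Hx_mono (x : ℕ → G) {i j i' j' : ℕ} (hi : i' ≤ i) (hj : j ≤ j') : Hx x i j ≤ Hx x i' j' := by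
  unfold Hx
  exact Subgroup.closure_mono (Set.image_mono (Set.Icc_subset_Icc hi hj))

theorem mem_Hx (x : ℕ → G) {i j k : ℕ} (hi : i ≤ k) (hj : k ≤ j) : x k ∈ Hx x i j :=
  Subgroup.subset_closure ⟨k, ⟨hi, hj⟩, rfl⟩

theorem Hx_empty (x : ℕ → G) {i j : ℕ} (h : j < i) : Hx x i j = ⊥ := by
  unfold Hx
  rw [Set.Icc_eq_empty (by omega), Set.image_empty, Subgroup.closure_empty]

theorem Hx_self (x : ℕ → G) (i : ℕ) : Hx x i i = Subgroup.zpowers (x i) := by
  unfold Hx
  rw [Set.Icc_self, Set.image_singleton, Subgroup.zpowers_eq_closure]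

/-- index 2 gives normality (ambient form). -/
theorem le_normalizer_of_card {K M : Subgroup G} (hKM : K ≤ M) [Finite M]
    (hc : Nat.card ↥M = 2 * Nat.card ↥K) : M ≤ Subgroup.normalizer (K : Set G) := by
  have h1 := Helper4.card_mul_relIndex hKM
  have hpos : 0 < Nat.card ↥K := by
    haveI : Finite ↥K := Finite.of_injective (Subgroup.inclusion hKM) (Subgroup.inclusion_injective hKM)
    exact Nat.card_pos
  have h2 : K.relIndex M = 2 := by
    rw [hc, mul_comm 2] at h1
    exact Nat.eq_of_mul_eq_mul_left hpos h1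
  have h3 : (K.subgroupOf M).Normal := Subgroup.normal_of_index_eq_two h2
  exact (Subgroup.normal_subgroupOf_iff_le_normalizer hKM).mp h3

theorem card_Hx_gen {g : G} {x : ℕ → G} {n : ℕ} (h : TSData g x n) (i j : ℕ) (hij : i ≤ j + 1)
    (hjn : j < i + n) : Nat.card ↥(Hx x i j) = 2 ^ (j + 1 - i) := by
  rcases Nat.lt_or_ge j i with hlt | hge
  · have : j + 1 - i = 0 := by omega
    rw [Hx_empty x hlt, this, Subgroup.card_bot, pow_zero]
  · rw [h.card i j hge hjn]
    congr 1
    omega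

/-- LEAF L1 (involutions, commutator containment, shift of interval subgroups). -/
theorem tsdata_basic {g : G} {x : ℕ → G} {n : ℕ} (h : TSData g x n) (h1 : 1 ≤ n) :
    (∀ i, x i * x i = 1) ∧ (∀ i, x i ≠ 1) ∧
    (∀ i j, i < j → j < i + n → cm (x i) (x j) ∈ Hx x (i + 1) (j - 1)) ∧
    (∀ i j, cj g (Hx x i j) = Hx x (i + 1) (j + 1)) := by
  have hord : ∀ i, orderOf (x i) = 2 := by
    intro i
    have hc := h.card i i le_rfl (by omega)
    rw [Hx_self, Nat.card_zpowers] at hc
    simpa using hc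
  refine ⟨?_, ?_, ?_, ?_⟩
  · intro i
    have := pow_orderOf_eq_one (x i)
    rw [hord i, pow_two] at this
    exact this
  · intro i hi
    have := hord i
    rw [hi, orderOf_one] at this
    omega
  · intro i j hij hjn
    have hM := h.card i j hij.le hjn
    have hK := card_Hx_gen h (i + 1) j (by omega) (by omega)
    have hL := card_Hx_gen h i (j - 1) (by omega) (by omega)
    have hI := card_Hx_gen h (i + 1) (j - 1) (by omega) (by omega)
    have hKM : Hx x (i + 1) j ≤ Hx x i j := Hx_mono x (by omega) le_rfl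
    have hLM : Hx x i (j - 1) ≤ Hx x i j := Hx_mono x le_rfl (by omega)
    have hIK : Hx x (i + 1) (j - 1) ≤ Hx x (i + 1) j := Hx_mono x le_rfl (by omega)
    have hIL : Hx x (i + 1) (j - 1) ≤ Hx x i (j - 1) := Hx_mono x (by omega) le_rfl
    haveI : Finite ↥(Hx x i j) := Nat.finite_of_card_ne_zero (by rw [hM]; positivity)
    have e1 : j - i + 1 = (j + 1 - (i + 1)) + 1 := by omega
    have e2 : j - i + 1 = (j - 1 + 1 - i) + 1 := by omega
    have hnK : Hx x i j ≤ Subgroup.normalizer ((Hx x (i + 1) j : Subgroup G) : Set G) :=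
      le_normalizer_of_card hKM (by rw [hM, hK, e1, pow_succ]; ring)
    have hnL : Hx x i j ≤ Subgroup.normalizer ((Hx x i (j - 1) : Subgroup G) : Set G) :=
      le_normalizer_of_card hLM (by rw [hM, hL, e2, pow_succ]; ring)
    have hxi : x i ∈ Hx x i j := mem_Hx x le_rfl hij.le
    have hxj : x j ∈ Hx x i j := mem_Hx x hij.le le_rfl
    have hxjK : x j ∈ Hx x (i + 1) j := mem_Hx x (by omega) le_rfl
    have hxiL : x i ∈ Hx x i (j - 1) := mem_Hx x le_rfl (by omega)
    have hcK : cm (x i) (x j) ∈ Hx x (i + 1) j := by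
      unfold cm
      have := (Subgroup.mem_normalizer_iff.mp (hnK hxi) (x j)).mp hxjK
      exact Subgroup.mul_mem _ this (Subgroup.inv_mem _ hxjK)
    have hcL : cm (x i) (x j) ∈ Hx x i (j - 1) := by
      unfold cm
      have := (Subgroup.mem_normalizer_iff.mp (hnL hxj) (x i)⁻¹).mp (Subgroup.inv_mem _ hxiL)
      have e : x i * x j * (x i)⁻¹ * (x j)⁻¹ = x i * (x j * (x i)⁻¹ * (x j)⁻¹) := by group
      rw [e]
      exact Subgroup.mul_mem _ hxiL this
    -- the intersection is the interior subgroup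
    have hsup : Hx x (i + 1) j ⊔ Hx x i (j - 1) = Hx x i j := by
      apply le_antisymm (sup_le hKM hLM)
      unfold Hx
      rw [Subgroup.closure_le]
      rintro _ ⟨k, ⟨hk1, hk2⟩, rfl⟩
      rcases Nat.eq_or_lt_of_le hk1 with rfl | hlt
      · exact (le_sup_right : _ ≤ Hx x (i + 1) j ⊔ Hx x i (j - 1)) hxiL
      · exact (le_sup_left : _ ≤ Hx x (i + 1) j ⊔ Hx x i (j - 1)) (mem_Hx x (by omega) hk2)
    have hprod := Helper4.card_sup_mul_card_inf (Hx x (i + 1) j) (Hx x i (j - 1)) (hKM.trans hnL)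
    rw [hsup, hM, hK, hL] at hprod
    have hinf : Nat.card ↥(Hx x (i + 1) j ⊓ Hx x i (j - 1)) = 2 ^ (j - 1 + 1 - (i + 1)) := by
      have e3 : 2 ^ (j + 1 - (i + 1)) * 2 ^ (j - 1 + 1 - i) =
          2 ^ (j - i + 1) * 2 ^ (j - 1 + 1 - (i + 1)) := by
        rw [← pow_add, ← pow_add]
        congr 1
        omega
      rw [e3] at hprod
      exact Nat.eq_of_mul_eq_mul_left (by positivity) hprod
    haveI : Finite ↥(Hx x (i + 1) j ⊓ Hx x i (j - 1)) :=
      Nat.finite_of_card_ne_zero (by rw [hinf]; positivity)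
    have heq : Hx x (i + 1) (j - 1) = Hx x (i + 1) j ⊓ Hx x i (j - 1) :=
      Subgroup.eq_of_le_of_card_ge (le_inf hIK hIL) (by rw [hinf, hI])
    rw [heq]
    exact ⟨hcK, hcL⟩
  · intro i j
    unfold Hx
    show (Subgroup.closure (x '' Set.Icc i j)).map (MulAut.conj g).toMonoidHom = _
    rw [MonoidHom.map_closure]
    congr 1
    ext y
    constructor
    · rintro ⟨_, ⟨k, ⟨hk1, hk2⟩, rfl⟩, rfl⟩
      refine ⟨k + 1, ⟨by omega, by omega⟩, ?_⟩
      rw [← h.shift k]
      simp [MulAut.conj_apply]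
    · rintro ⟨m, ⟨hm1, hm2⟩, rfl⟩
      refine ⟨x (m - 1), ⟨m - 1, ⟨by omega, by omega⟩, rfl⟩, ?_⟩
      have := h.shift (m - 1)
      have e : m - 1 + 1 = m := by omega
      rw [e] at this
      rw [← this]
      simp [MulAut.conj_apply]

end Cfsg.Agent.Lib.Helper18.SIMSL1
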