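import Mathlib

/-!
# S3713 (helper18): partial homomorphisms as total functions

`HomOn S φ` says that the function `φ : G → H` is multiplicative on the subgroup `S`.  All the `H`-side leaves of S3713
are stated with such functions (no subtypes).
-/

set_option autoImplicit false

namespace Cfsg.Agent.Lib.Helper18.SP

/-- `φ` is multiplicative on the subgroup `S` -/
def HomOn {G H : Type*} [Group G] [Group H] (S : Subgroup G) (φ : G → H) : Prop :=
  ∀ a ∈ S, ∀ b ∈ S, φ (a * b) = φ a * φ b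

namespace HomOn

variable {G H : Type*} [Group G] [Group H] {S T : Subgroup G} {φ ψ : G → H}

theorem map_mul (h : HomOn S φ) {a b : G} (ha : a ∈ S) (hb : b ∈ S) : φ (a * b) = φ a * φ b := h a ha b hb

theorem map_one (h : HomOn S φ) : φ 1 = 1 := by
  have h1 := h 1 S.one_mem 1 S.one_mem
  rw [mul_one] at h1
  exact (mul_eq_left.mp h1.symm)

theorem map_inv (h : HomOn S φ) {a : G} (ha : a ∈ S) : φ a⁻¹ = (φ a)⁻¹ := by
  have h1 := h a ha a⁻¹ (S.inv_mem ha)
  rw [mul_inv_cancel, h.map_one] at h1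
  exact (inv_eq_of_mul_eq_one_right h1.symm).symm

theorem map_conj (h : HomOn S φ) {a b : G} (ha : a ∈ S) (hb : b ∈ S) :
    φ (a * b * a⁻¹) = φ a * φ b * (φ a)⁻¹ := by
  rw [h.map_mul (S.mul_mem ha hb) (S.inv_mem ha), h.map_mul ha hb, h.map_inv ha]

theorem mono (h : HomOn S φ) (hTS : T ≤ S) : HomOn T φ := fun a ha b hb => h a (hTS ha) b (hTS hb)

theorem congr (h : HomOn S φ) (hψ : ∀ g ∈ S, ψ g = φ g) : HomOn S ψ := by
  intro a ha b hb
  rw [hψ _ (S.mul_mem ha hb), hψ a ha, hψ b hb, h a ha b hb]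

/-- the honest homomorphism on the subtype -/
def toHom (h : HomOn S φ) : S →* H where
  toFun s := φ s
  map_one' := h.map_one
  map_mul' a b := h a a.2 b b.2

@[simp] theorem toHom_apply (h : HomOn S φ) (s : S) : h.toHom s = φ s := rfl

theorem eqOn_closure (hφ : HomOn S φ) (hψ : HomOn S ψ) {X : Set G} (hX : X ⊆ S)
    (h : ∀ x ∈ X, φ x = ψ x) : ∀ g ∈ Subgroup.closure X, φ g = ψ g := by
  have hXS : Subgroup.closure X ≤ S := (Subgroup.closure_le S).mpr hX
  intro g hg
  induction hg using Subgroup.closure_induction with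
  | mem x hx => exact h x hx
  | one => rw [hφ.map_one, hψ.map_one]
  | mul x y hx hy ihx ihy => rw [hφ.map_mul (hXS hx) (hXS hy), hψ.map_mul (hXS hx) (hXS hy), ihx, ihy]
  | inv x hx ihx => rw [hφ.map_inv (hXS hx), hψ.map_inv (hXS hx), ihx]

theorem commute_closure (hφ : HomOn S φ) {X : Set G} (hX : X ⊆ S) (z : H)
    (h : ∀ x ∈ X, Commute (φ x) z) : ∀ g ∈ Subgroup.closure X, Commute (φ g) z := by
  have hXS : Subgroup.closure X ≤ S := (Subgroup.closure_le S).mpr hX
  intro g hg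
  induction hg using Subgroup.closure_induction with
  | mem x hx => exact h x hx
  | one => rw [hφ.map_one]; exact Commute.one_left z
  | mul x y hx hy ihx ihy => rw [hφ.map_mul (hXS hx) (hXS hy)]; exact ihx.mul_left ihy
  | inv x hx ihx => rw [hφ.map_inv (hXS hx)]; exact ihx.inv_left

theorem conj_closure (hφ : HomOn S φ) {X : Set G} (hX : X ⊆ S) (b : G) (hb : ∀ x ∈ S, b * x * b⁻¹ ∈ S) (z : H)
    (h : ∀ x ∈ X, φ (b * x * b⁻¹) = z * φ x * z⁻¹) :
    ∀ x ∈ Subgroup.closure X, φ (b * x * b⁻¹) = z * φ x * z⁻¹ := by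
  have hXS : Subgroup.closure X ≤ S := (Subgroup.closure_le S).mpr hX
  intro g hg
  induction hg using Subgroup.closure_induction with
  | mem x hx => exact h x hx
  | one => rw [mul_one, mul_inv_cancel, hφ.map_one, mul_one, mul_inv_cancel]
  | mul x y hx hy ihx ihy =>
    have e : b * (x * y) * b⁻¹ = (b * x * b⁻¹) * (b * y * b⁻¹) := by group
    rw [e, hφ.map_mul (hb x (hXS hx)) (hb y (hXS hy)), ihx, ihy, hφ.map_mul (hXS hx) (hXS hy)]
    group
  | inv x hx ihx =>
    have e : b * x⁻¹ * b⁻¹ = (b * x * b⁻¹)⁻¹ := by group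
    rw [e, hφ.map_inv (hb x (hXS hx)), ihx, hφ.map_inv (hXS hx)]
    group

theorem map_commutator (h : HomOn S φ) {a b : G} (ha : a ∈ S) (hb : b ∈ S) :
    φ (a * b * a⁻¹ * b⁻¹) = φ a * φ b * (φ a)⁻¹ * (φ b)⁻¹ := by
  rw [h.map_mul (S.mul_mem (S.mul_mem ha hb) (S.inv_mem ha)) (S.inv_mem hb),
    h.map_mul (S.mul_mem ha hb) (S.inv_mem ha), h.map_mul ha hb, h.map_inv ha, h.map_inv hb]

theorem map_conj' (h : HomOn S φ) {a b : G} (ha : a ∈ S) (hb : b ∈ S) :
    φ (a⁻¹ * b * a) = (φ a)⁻¹ * φ b * φ a := by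
  rw [h.map_mul (S.mul_mem (S.inv_mem ha) hb) ha, h.map_mul (S.inv_mem ha) hb, h.map_inv ha]

/-- if `a ∈ A` and `b ∈ B` commute and `ψ` is multiplicative on `A ⊔ B`, the images commute -/
theorem commute_of_sup {A B : Subgroup G} (h : HomOn (A ⊔ B) ψ) {a b : G} (ha : a ∈ A) (hb : b ∈ B)
    (hab : Commute a b) : Commute (ψ a) (ψ b) := by
  have ha' : a ∈ A ⊔ B := Subgroup.mem_sup_left ha
  have hb' : b ∈ A ⊔ B := Subgroup.mem_sup_right hb
  show ψ a * ψ b = ψ b * ψ a
  rw [← h.map_mul ha' hb', ← h.map_mul hb' ha', hab.eq]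

end HomOn

section extend
variable {G H : Type*} [Group G] [Group H]

open Classical in
/-- a homomorphism on a subgroup, extended by `1` to a total function -/
noncomputable def extendHom {S : Subgroup G} (Φ : S →* H) : G → H :=
  fun g => if h : g ∈ S then Φ ⟨g, h⟩ else 1

theorem extendHom_apply {S : Subgroup G} (Φ : S →* H) {g : G} (hg : g ∈ S) : extendHom Φ g = Φ ⟨g, hg⟩ := by
  unfold extendHom
  rw [dif_pos hg]

theorem extendHom_homOn {S : Subgroup G} (Φ : S →* H) : HomOn S (extendHom Φ) := by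
  intro a ha b hb
  rw [extendHom_apply Φ (S.mul_mem ha hb), extendHom_apply Φ ha, extendHom_apply Φ hb, ← map_mul]
  rfl

end extend

end Cfsg.Agent.Lib.Helper18.SP
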