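import Mathlib
import Cfsg.Agent.S4220

/-!
# Jordan's theorem on primitive groups containing a cycle of prime length (helper18)

* `multTrans_of_prime_cycle`: a primitive group of degree `p + r` (`r ≥ 1`) containing a
  `p`-cycle is `(r+1)`-fold transitive (Mathlib's Jordan criterion).
* `jordan_prime_cycle` (Wielandt 13.9): a primitive group of degree `≥ p + 3` containing a
  `p`-cycle contains the alternating group (via helper20's Miller theorem, `k = 1`).
* `isPreprimitive_of_prime_cycle`: a group containing a cycle of prime length `q > n/2` such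
  that every point can be moved into the support of that cycle is primitive.
-/

set_option autoImplicit false

namespace Cfsg.Agent.Lib.Helper18.AGen

open Equiv Equiv.Perm MulAction
open scoped Pointwise

variable {α : Type*} [Fintype α] [DecidableEq α]

theorem multTrans_of_prime_cycle {G : Subgroup (Perm α)} (hG : IsPreprimitive G α)
    {p r : ℕ} (hp : p.Prime) (hr : 1 ≤ r) (hn : Fintype.card α = p + r)
    {g : Perm α} (hgc : g.IsCycle) (hgp : g.support.card = p) (hg : g ∈ G) :
    IsMultiplyPretransitive G α (r + 1) := by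
  classical
  have hsc : Set.ncard ((g.support : Set α)ᶜ) = (r - 1) + 1 := by
    apply Nat.add_left_cancel (n := (g.support : Set α).ncard)
    rw [Set.ncard_add_ncard_compl, Set.ncard_coe_finset, hgp, Nat.card_eq_fintype_card, hn]
    omega
  have hmp : IsMultiplyPreprimitive G α ((r - 1) + 2) := by
    apply hG.isMultiplyPreprimitive hsc
    · rw [Nat.card_eq_fintype_card, hn]; have := hp.two_le; omega
    have := isPretransitive_of_isCycle_mem hgc hg
    apply IsPreprimitive.of_prime_card
    convert hp
    rw [Nat.card_eq_fintype_card, Fintype.card_subtype, ← hgp]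
    apply congr_arg
    ext x
    simp [SubMulAction.mem_ofFixingSubgroup_iff]
  have h1 : IsMultiplyPretransitive G α ((r - 1) + 2) :=
    IsMultiplyPreprimitive.isMultiplyPretransitive ..
  rwa [show r - 1 + 2 = r + 1 by omega] at h1

/-- **Jordan** (Wielandt 13.9). -/
theorem jordan_prime_cycle {G : Subgroup (Perm α)} (hG : IsPreprimitive G α)
    {p : ℕ} (hp : p.Prime) (hp' : p + 3 ≤ Fintype.card α)
    {g : Perm α} (hgc : g.IsCycle) (hgp : g.support.card = p) (hg : g ∈ G) :
    alternatingGroup α ≤ G := by
  obtain ⟨r, hr⟩ : ∃ r, Fintype.card α = p + r := ⟨Fintype.card α - p, by omega⟩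
  have hmt := multTrans_of_prime_cycle hG hp (by omega) hr hgc hgp hg
  exact Cfsg.Agent.S4220.miller_main 1 G hp (by rw [hr]; ring) le_rfl hp.one_lt (by omega)
    (by omega) hmt

/-- A group containing a cycle `y` of prime length `q > n/2`, such that every point can be
moved into the support of `y`, is primitive. -/
theorem isPreprimitive_of_prime_cycle {G : Subgroup (Perm α)} {q : ℕ} (hq : q.Prime)
    {y : Perm α} (hyc : y.IsCycle) (hyq : y.support.card = q) (hy : y ∈ G)
    (h2q : Fintype.card α < 2 * q)
    (hmove : ∀ a : α, ∃ g ∈ G, g a ∈ y.support) : IsPreprimitive G α := by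
  classical
  obtain ⟨a, ha⟩ := hyc.nonempty_support
  have hsame : ∀ b ∈ y.support, ∃ i : ℤ, (y ^ i) a = b := by
    intro b hb
    exact hyc.sameCycle (mem_support.mp ha) (mem_support.mp hb)
  have hypow : ∀ i : ℤ, y ^ i ∈ G := fun i => G.zpow_mem hy i
  have htr : IsPretransitive G α := by
    refine ⟨fun b c => ?_⟩
    obtain ⟨g, hg, hgb⟩ := hmove b
    obtain ⟨h, hh, hhc⟩ := hmove c
    obtain ⟨i, hi⟩ := hsame _ hgb
    obtain ⟨j, hj⟩ := hsame _ hhc
    refine ⟨⟨h⁻¹ * y ^ j * (y ^ i)⁻¹ * g, ?_⟩, ?_⟩
    · exact G.mul_mem (G.mul_mem (G.mul_mem (G.inv_mem hh) (hypow j)) (G.inv_mem (hypow i))) hg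
    · show (h⁻¹ * y ^ j * (y ^ i)⁻¹ * g) b = c
      simp only [Perm.mul_apply]
      rw [← hi]
      simp [hj]
  apply IsPreprimitive.of_isTrivialBlock_base a
  intro B haB hB
  set Y : G := ⟨y, hy⟩ with hY
  have hYsmul : ∀ (i : ℕ) (b : α), (Y ^ i) • b = (y ^ i) b := by
    intro i b
    rfl
  have hord : orderOf Y = q := by
    rw [← hyq, ← hyc.orderOf, hY]
    exact (Subgroup.orderOf_mk y hy)
  rcases hB.smul_eq_or_disjoint Y with hfix | hdisj
  · -- `y` stabilizes `B`: then `supp y ⊆ B`
    right
    have hstab : ∀ i : ℤ, (Y ^ i) • B = B := by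
      intro i
      have : Y ∈ stabilizer G B := hfix
      exact (stabilizer G B).zpow_mem this i
    have hsub : (y.support : Set α) ⊆ B := by
      intro b hb
      obtain ⟨i, hi⟩ := hsame b hb
      have : (Y ^ i) • a ∈ (Y ^ i) • B := Set.smul_mem_smul_set haB
      rw [hstab i] at this
      have h2 : (Y ^ i) • a = (y ^ i) a := rfl
      rw [h2, hi] at this
      exact this
    apply hB.eq_univ_of_card_lt
    have h1 : q ≤ B.ncard := by
      rw [← hyq, ← Set.ncard_coe_finset]
      exact Set.ncard_le_ncard hsub (Set.toFinite B)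
    rw [Nat.card_eq_fintype_card]
    omega
  · -- `y B` disjoint from `B`: then `B = {a}`
    left
    intro b hb c hc
    -- every point of `B` is moved by `y`
    have hmoved : ∀ b ∈ B, b ∈ y.support := by
      intro b hb
      rw [mem_support]
      intro hfixb
      have h1 : Y • b ∈ Y • B := Set.smul_mem_smul_set hb
      have h2 : Y • b = b := hfixb
      rw [h2] at h1
      exact (Set.disjoint_left.mp hdisj h1) hb
    -- two points of `B` coincide
    have key : ∀ b ∈ B, b = a := by
      intro b hb
      obtain ⟨i, hi⟩ := hsame b (hmoved b hb)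
      by_contra hne
      -- `Y ^ i` stabilizes `B`
      have h1 : (Y ^ i) • B = B := by
        rcases hB.smul_eq_or_disjoint (Y ^ i) with h | h
        · exact h
        · exfalso
          have h3 : (Y ^ i) • a ∈ (Y ^ i) • B := Set.smul_mem_smul_set haB
          have h4 : (Y ^ i) • a = (y ^ i) a := rfl
          rw [h4, hi] at h3
          exact (Set.disjoint_left.mp h h3) hb
      -- `i` is not divisible by `q`
      have hqi : ¬ (q : ℤ) ∣ i := by
        intro hdvd
        apply hne
        rw [← hi]
        have : y ^ i = 1 := by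
          rw [← hyq, ← hyc.orderOf] at hdvd
          exact orderOf_dvd_iff_zpow_eq_one.mp hdvd
        rw [this]; rfl
      -- then `Y` is a power of `Y ^ i`
      have hcop : IsCoprime i (q : ℤ) := by
        rw [isCoprime_comm]
        exact (Nat.prime_iff_prime_int.mp hq).coprime_iff_not_dvd.mpr hqi
      obtain ⟨u, v, huv⟩ := hcop
      have hYmem : Y ∈ stabilizer G B := by
        have h5 : Y = (Y ^ i) ^ u := by
          have h6 : Y ^ (u * i + v * (q : ℤ)) = Y := by rw [huv, zpow_one]
          rw [zpow_add, zpow_mul' Y v, zpow_natCast, ← hord, pow_orderOf_eq_one, one_zpow,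
            mul_one, mul_comm u i, zpow_mul] at h6
          exact h6.symm
        rw [h5]
        exact (stabilizer G B).zpow_mem h1 u
      have h7 : Y • B = B := hYmem
      rw [h7] at hdisj
      exact (Set.disjoint_left.mp hdisj haB) haB
    rw [key b hb, key c hc]

end Cfsg.Agent.Lib.Helper18.AGen
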