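import Mathlib
import Cfsg.Agent.Lib.Helper18.AGenA

/-!
# Groups generated by two cycles of prime lengths (helper18): generic case
-/

set_option autoImplicit false

namespace Cfsg.Agent.Lib.Helper18.AGen

open Equiv Equiv.Perm MulAction

variable {β : Type*} [Fintype β] [DecidableEq β]

/-- primitivity of `⟨X, Y⟩` when `Y` is a cycle of prime length `q > n/2` and every `X`-orbit
meets the support of `Y`. -/
theorem isPreprimitive_closure_of_orbits {q : ℕ} (hq : q.Prime) {X Y : Perm β}
    (hY : Y.IsCycle) (hYq : Y.support.card = q) (h2q : Fintype.card β < 2 * q)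
    (hmove : ∀ a : β, ∃ i : ℤ, (X ^ i) a ∈ Y.support) :
    IsPreprimitive (Subgroup.closure ({X, Y} : Set (Perm β))) β := by
  have hXm : X ∈ Subgroup.closure ({X, Y} : Set (Perm β)) :=
    Subgroup.subset_closure (by simp)
  have hYm : Y ∈ Subgroup.closure ({X, Y} : Set (Perm β)) :=
    Subgroup.subset_closure (by simp)
  apply isPreprimitive_of_prime_cycle hq hY hYq hYm h2q
  intro a
  obtain ⟨i, hi⟩ := hmove a
  exact ⟨X ^ i, Subgroup.zpow_mem _ hXm i, hi⟩

/-- every point can be moved into `supp Y` by a power of the cycle `X`, when the supports of the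
cycles `X`, `Y` cover everything and meet. -/
theorem move_of_cover {X Y : Perm β} (hX : X.IsCycle)
    (hcover : ∀ a, a ∈ X.support ∨ a ∈ Y.support) (hint : ∃ c, c ∈ X.support ∧ c ∈ Y.support) :
    ∀ a : β, ∃ i : ℤ, (X ^ i) a ∈ Y.support := by
  intro a
  obtain ⟨c, hcX, hcY⟩ := hint
  rcases hcover a with ha | ha
  · obtain ⟨i, hi⟩ := hX.sameCycle (mem_support.mp ha) (mem_support.mp hcX)
    exact ⟨i, by rw [hi]; exact hcY⟩
  · exact ⟨0, by simpa using ha⟩

/-- the generic case: one of the two cycles satisfies Jordan's condition. -/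
theorem alt_le_closure_of_jordan {p q : ℕ} (hp : p.Prime) (hq : q.Prime) {X Y : Perm β}
    (hX : X.IsCycle) (hXp : X.support.card = p) (hY : Y.IsCycle) (hYq : Y.support.card = q)
    (h2q : Fintype.card β < 2 * q)
    (hmove : ∀ a : β, ∃ i : ℤ, (X ^ i) a ∈ Y.support)
    (hJ : p = 3 ∨ p + 3 ≤ Fintype.card β ∨ q + 3 ≤ Fintype.card β) :
    alternatingGroup β ≤ Subgroup.closure ({X, Y} : Set (Perm β)) := by
  have hprim := isPreprimitive_closure_of_orbits hq hY hYq h2q hmove
  have hXm : X ∈ Subgroup.closure ({X, Y} : Set (Perm β)) :=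
    Subgroup.subset_closure (by simp)
  have hYm : Y ∈ Subgroup.closure ({X, Y} : Set (Perm β)) :=
    Subgroup.subset_closure (by simp)
  rcases hJ with h3 | h | h
  · have h3c : X.IsThreeCycle := by
      rw [← card_support_eq_three_iff, hXp, h3]
    exact alternatingGroup_le_of_isPreprimitive_of_isThreeCycle_mem hprim h3c hXm
  · exact jordan_prime_cycle hprim hp h hX hXp hXm
  · exact jordan_prime_cycle hprim hq h hY hYq hYm

/-- the case where `X` is arbitrary and `Y` satisfies Jordan's condition. -/
theorem alt_le_closure_of_jordan' {q : ℕ} (hq : q.Prime) {X Y : Perm β}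
    (hY : Y.IsCycle) (hYq : Y.support.card = q)
    (h2q : Fintype.card β < 2 * q)
    (hmove : ∀ a : β, ∃ i : ℤ, (X ^ i) a ∈ Y.support)
    (hJ : q + 3 ≤ Fintype.card β) :
    alternatingGroup β ≤ Subgroup.closure ({X, Y} : Set (Perm β)) := by
  have hprim := isPreprimitive_closure_of_orbits hq hY hYq h2q hmove
  have hYm : Y ∈ Subgroup.closure ({X, Y} : Set (Perm β)) :=
    Subgroup.subset_closure (by simp)
  exact jordan_prime_cycle hprim hq hJ hY hYq hYm

/-- a subgroup generated by even permutations and containing the alternating group is the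
alternating group. -/
theorem closure_eq_alt {X Y : Perm β} (hsX : Perm.sign X = 1) (hsY : Perm.sign Y = 1)
    (h : alternatingGroup β ≤ Subgroup.closure ({X, Y} : Set (Perm β))) :
    Subgroup.closure ({X, Y} : Set (Perm β)) = alternatingGroup β := by
  apply le_antisymm _ h
  rw [Subgroup.closure_le]
  intro z hz
  rcases hz with rfl | hz
  · exact mem_alternatingGroup.mpr hsX
  · rw [Set.mem_singleton_iff] at hz
    subst hz
    exact mem_alternatingGroup.mpr hsY

end Cfsg.Agent.Lib.Helper18.AGen
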