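import Mathlib
import Cfsg.Agent.Lib.Helper18.AGenB
import Cfsg.Agent.Lib.Helper19.Sharp2Even
import Cfsg.Agent.Lib.Helper9.Sharp3

/-!
# Groups generated by two cycles of prime lengths (helper18): tools for the special cases

* `card_dvd_factorial_index`: a finite simple group embeds in `Sym(G/H)` for proper `H`.
* `not_sharp3`, `not_sharp2`: no sharply 3- (2-)transitive actions of degree `n+1` (`n`) with
  `n` even and not a power of `2`.
* `alt_le_of_seven`: a primitive subgroup of `A₇` containing a `5`-cycle is `A₇`.
-/

set_option autoImplicit false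

namespace Cfsg.Agent.Lib.Helper18.AGen

open Equiv Equiv.Perm MulAction
open Cfsg.Agent.Lib.Helper9

/-- a finite simple group embeds into the symmetric group on the cosets of a proper subgroup. -/
theorem card_dvd_factorial_index {A : Type*} [Group A] [Finite A] [IsSimpleGroup A]
    (H : Subgroup A) (hH : H ≠ ⊤) : Nat.card A ∣ (H.index).factorial := by
  classical
  let ρ : A →* Perm (A ⧸ H) := MulAction.toPermHom A (A ⧸ H)
  have hker : ρ.ker = ⊥ := by
    rcases ρ.normal_ker.eq_bot_or_eq_top with h | h
    · exact h
    · exfalso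
      apply hH
      rw [eq_top_iff]
      intro g _
      have hg : g ∈ ρ.ker := by rw [h]; trivial
      rw [MonoidHom.mem_ker] at hg
      have h1 : ρ g ((1 : A) : A ⧸ H) = ((1 : A) : A ⧸ H) := by rw [hg]; rfl
      have h2 : ρ g ((1 : A) : A ⧸ H) = ((g * 1 : A) : A ⧸ H) := rfl
      rw [h2, mul_one] at h1
      have h3 := QuotientGroup.eq.mp h1
      have h4 : g⁻¹ ∈ H := by simpa using h3
      simpa using H.inv_mem h4
  have hρ : Function.Injective ρ := (MonoidHom.ker_eq_bot_iff ρ).mp hker
  have h1 : Nat.card ρ.range ∣ Nat.card (Perm (A ⧸ H)) := Subgroup.card_subgroup_dvd_card _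
  rw [Nat.card_perm, ← Subgroup.index_eq_card] at h1
  have h2 : Nat.card A = Nat.card ρ.range :=
    Nat.card_congr (MonoidHom.ofInjective hρ).toEquiv
  rw [h2]
  exact h1

theorem not_two_pow_of {n : ℕ} (h : n = 6 ∨ n = 12) (a : ℕ) : n ≠ 2 ^ a := by
  intro hn
  rcases Nat.lt_or_ge a 4 with ha | ha
  · interval_cases a <;> omega
  · have : 2 ^ 4 ≤ 2 ^ a := Nat.pow_le_pow_right (by norm_num) ha
    omega

/-- no sharply 2-transitive action of degree `6` or `12`. -/
theorem not_sharp2 {K X : Type*} [Group K] [MulAction K X] [Finite X] (h : Sharp2 K X)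
    (hn : Nat.card X = 6 ∨ Nat.card X = 12) : False := by
  have heven : Even (Nat.card X) := by
    rcases hn with h | h <;> rw [h] <;> decide
  obtain ⟨a, _, ha⟩ := Cfsg.Agent.Lib.Helper19.Sharp2Even.card_eq_two_pow h heven (by omega)
  exact not_two_pow_of hn a ha

/-- no sharply 3-transitive action of degree `7` or `13`. -/
theorem not_sharp3 {G α : Type*} [Group G] [MulAction G α] [Finite α] (h : Sharp3 G α)
    (hn : Nat.card α = 7 ∨ Nat.card α = 13) : False := by
  have : Nonempty α := by
    rw [← Finite.card_pos_iff]; omega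
  obtain ⟨a⟩ := this
  have h2 := h.sharp2_stabilizer a
  apply not_sharp2 h2
  have := SubMulAction.nat_card_ofStabilizer_add_one_eq G a
  omega

section Seven

variable {β : Type*} [Fintype β] [DecidableEq β]

/-- A primitive group of even permutations of degree `7` containing a `5`-cycle is `A₇`. -/
theorem alt_le_of_seven {K : Subgroup (Perm β)} (hcard : Fintype.card β = 7)
    (hKalt : K ≤ alternatingGroup β) (hprim : IsPreprimitive K β) {X : Perm β}
    (hX : X.IsCycle) (hX5 : X.support.card = 5) (hXK : X ∈ K) : alternatingGroup β ≤ K := by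
  classical
  have hncard : Nat.card β = 7 := by rw [Nat.card_eq_fintype_card, hcard]
  have h3 : IsMultiplyPretransitive K β 3 :=
    multTrans_of_prime_cycle hprim Nat.prime_five (r := 2) (by norm_num) (by rw [hcard]) hX hX5 hXK
  have hne : Fintype.card (Fin 3) ≤ Fintype.card β := by rw [Fintype.card_fin, hcard]; norm_num
  obtain ⟨x⟩ := Function.Embedding.nonempty_of_card_le hne
  have hc := Cfsg.Agent.Lib.Helper20.Miller.card_stab_mul h3 x
  rw [hncard] at hc
  have hc' : Nat.card (stabilizer ↥K x) * 5040 = Nat.card K * 24 := by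
    have e1 : Nat.factorial 7 = 5040 := by decide
    have e2 : Nat.factorial (7 - 3) = 24 := by decide
    rw [e1, e2] at hc
    exact hc
  have : Nontrivial β := by
    rw [← Fintype.one_lt_card_iff_nontrivial, hcard]; norm_num
  have hA : Nat.card (alternatingGroup β) = 2520 := by
    have := two_mul_nat_card_alternatingGroup (α := β)
    rw [Nat.card_perm, hncard] at this
    have e1 : Nat.factorial 7 = 5040 := by decide
    omega
  have : IsSimpleGroup (alternatingGroup β) := alternatingGroup.isSimpleGroup (by omega)
  set K' : Subgroup (alternatingGroup β) := K.subgroupOf (alternatingGroup β) with hK'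
  have hcardK' : Nat.card K' = Nat.card K :=
    Nat.card_congr (Subgroup.subgroupOfEquivOfLe hKalt).toEquiv
  by_cases htop : K' = ⊤
  · exact Subgroup.subgroupOf_eq_top.mp htop
  · exfalso
    have hdvd := card_dvd_factorial_index K' htop
    have hidx := K'.index_mul_card
    rw [hcardK', hA] at hidx
    rw [hA] at hdvd
    -- index ≥ 7
    have h7 : 7 ≤ K'.index := by
      by_contra hlt
      push Not at hlt
      have h1 : (K'.index).factorial ≤ Nat.factorial 6 := Nat.factorial_le (by omega)
      have h2 : Nat.factorial 6 = 720 := by decide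
      have h3 : 0 < (K'.index).factorial := Nat.factorial_pos _
      have := Nat.le_of_dvd h3 hdvd
      omega
    -- the stabilizer of three points is trivial
    have hc1 : Nat.card (stabilizer ↥K x) = 1 := by
      have hpos : 0 < Nat.card (stabilizer ↥K x) := Nat.card_pos
      by_contra hne1
      have h2 : 2 ≤ Nat.card (stabilizer ↥K x) := by omega
      nlinarith
    have hsharp : ∀ x' : Fin 3 ↪ β, stabilizer ↥K x' = ⊥ := by
      intro x'
      have := Cfsg.Agent.Lib.Helper20.Miller.card_stab_eq h3 x' x
      exact Subgroup.card_eq_one.mp (this.trans hc1)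
    have hS : Sharp3 K β := sharp3_of_isMultiplyPretransitive h3 hsharp
    exact not_sharp3 hS (Or.inl hncard)

end Seven

end Cfsg.Agent.Lib.Helper18.AGen
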