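import Mathlib
import Cfsg.Agent.Lib.Helper11.LSDefs

/-!
# S2333 leaf LSA2 (helper18): the order of `GL(V)` for a finite vector space `V`
-/

set_option autoImplicit false
open QuadraticMap Module Cfsg.Agent.Lib.Helper11.LS

namespace Cfsg.Agent.Lib.Helper18.LSLeaf

universe u
variable {F : Type*} [Field F] {V : Type u} [AddCommGroup V] [Module F V]

theorem card_linearEquiv [Fintype F] [Finite V] :
    Nat.card (V ≃ₗ[F] V) = gl (Fintype.card F) (finrank F V) := by
  classical
  have : Module.Finite F V := Module.Finite.of_finite
  let b := Module.finBasis F V
  have e : (V ≃ₗ[F] V) ≃ {s : Fin (finrank F V) → V // LinearIndependent F s} :=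
    { toFun := fun g => ⟨fun i => g (b i), by
        have h := b.linearIndependent.map' g.toLinearMap g.ker
        exact h⟩
      invFun := fun s =>
        b.equiv (basisOfLinearIndependentOfCardEqFinrank' s.1 s.2 (by simp)) (Equiv.refl _)
      left_inv := by
        intro g
        apply b.ext'
        intro i
        simp
      right_inv := by
        intro s
        apply Subtype.ext
        funext i
        simp }
  rw [Nat.card_congr e, card_linearIndependent le_rfl, gl, Finset.prod_range]

end Cfsg.Agent.Lib.Helper18.LSLeaf
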