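import Mathlib
import Cfsg.Agent.Lib.Helper11.LSDefs
import Cfsg.Agent.Lib.Helper18.LSA2

/-!
# S2333 leaf LSO (helper18): the orbit count

`orbit_bound_of` is the orbit count with the three facts it needs (`gl_eq`, `Bb_pos` of leaf A1 and the key
lemma `card_isoGroup_le_Bb`) as hypotheses.
-/

set_option autoImplicit false
open QuadraticMap Module Cfsg.Agent.Lib.Helper11.LS

namespace Cfsg.Agent.Lib.Helper18.LSLeaf

universe u
variable {F : Type*} [Field F] {V : Type u} [AddCommGroup V] [Module F V]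

/-- a family of quadratic forms closed under `GL(V)` has at least `|GL(V)| / |O(Q)|` members -/
theorem card_linearEquiv_le_mul [Finite V] {W : Type*} [Finite W]
    (Φ : W → QuadraticForm F V) (hΦ : Function.Injective Φ)
    (hcl : ∀ (a : W) (g : V ≃ₗ[F] V), ∃ b : W, Φ b = (Φ a).comp g.toLinearMap) (a₀ : W) :
    Nat.card (V ≃ₗ[F] V) ≤ Nat.card W * Nat.card (isoGroup (Φ a₀)) := by
  classical
  have : Finite (V ≃ₗ[F] V) := Finite.of_injective (fun g => (g : V → V)) (fun g h hgh => by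
    ext x; exact congrFun hgh x)
  choose ψ hψ using hcl a₀
  -- a representative for every element of `W` in the image
  have hrep : ∀ g : V ≃ₗ[F] V, ∃ g' : V ≃ₗ[F] V, ψ g' = ψ g := fun g => ⟨g, rfl⟩
  let rep : W → (V ≃ₗ[F] V) := fun b => if h : ∃ g', ψ g' = b then h.choose else 1
  have hrepb : ∀ g : V ≃ₗ[F] V, ψ (rep (ψ g)) = ψ g := by
    intro g
    have h : ∃ g', ψ g' = ψ g := ⟨g, rfl⟩
    simp only [rep, dif_pos h]
    exact h.choose_spec
  have hmem : ∀ g : V ≃ₗ[F] V, g * (rep (ψ g))⁻¹ ∈ isoGroup (Φ a₀) := by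
    intro g x
    have h1 := hψ g
    have h2 := hψ (rep (ψ g))
    rw [hrepb g, h1] at h2
    have h3 := congrArg (fun Q : QuadraticForm F V => Q ((rep (ψ g))⁻¹ x)) h2
    simp only [QuadraticMap.comp_apply] at h3
    have h4 : (rep (ψ g)) ((rep (ψ g))⁻¹ x) = x := LinearEquiv.apply_symm_apply _ x
    show (Φ a₀) (g ((rep (ψ g))⁻¹ x)) = (Φ a₀) x
    have h5 : (rep (ψ g)).toLinearMap ((rep (ψ g))⁻¹ x) = x := h4
    have h6 : g.toLinearMap ((rep (ψ g))⁻¹ x) = g ((rep (ψ g))⁻¹ x) := rfl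
    rw [h5, h6] at h3
    exact h3
  let f : (V ≃ₗ[F] V) → W × isoGroup (Φ a₀) := fun g => (ψ g, ⟨g * (rep (ψ g))⁻¹, hmem g⟩)
  have hf : Function.Injective f := by
    intro g g' hgg
    have h1 : ψ g = ψ g' := congrArg Prod.fst hgg
    have h2 : g * (rep (ψ g))⁻¹ = g' * (rep (ψ g'))⁻¹ := congrArg (fun p => (p.2 : V ≃ₗ[F] V)) hgg
    rw [h1] at h2
    exact mul_right_cancel h2
  have := Nat.card_le_card_of_injective f hf
  rwa [Nat.card_prod] at this

theorem orbit_bound_of [Fintype F] {n : ℕ} {W : Type*} [Fintype W]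
    (Φ : W → QuadraticForm F (Fin n → F)) (hΦ : Function.Injective Φ)
    (hcl : ∀ (a : W) (g : (Fin n → F) ≃ₗ[F] (Fin n → F)),
      ∃ b : W, Φ b = (Φ a).comp g.toLinearMap)
    (a₀ : W)
    (hgl : (Fintype.card F ^ n - 1) * (Fintype.card F ^ n - Fintype.card F) * Bb (Fintype.card F) n =
      2 * (Fintype.card F + 1) * gl (Fintype.card F) n)
    (hpos : 0 < Bb (Fintype.card F) n)
    (hT : Nat.card (isoGroup (Φ a₀)) ≤ Bb (Fintype.card F) n) :
    (Fintype.card F ^ n - 1) * (Fintype.card F ^ n - Fintype.card F) ≤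
      2 * (Fintype.card F + 1) * Fintype.card W := by
  have h1 := card_linearEquiv_le_mul Φ hΦ hcl a₀
  rw [card_linearEquiv, Module.finrank_fin_fun, Nat.card_eq_fintype_card] at h1
  have h2 : (Fintype.card F ^ n - 1) * (Fintype.card F ^ n - Fintype.card F) * Bb (Fintype.card F) n ≤
      2 * (Fintype.card F + 1) * Fintype.card W * Bb (Fintype.card F) n := by
    rw [hgl]
    calc 2 * (Fintype.card F + 1) * gl (Fintype.card F) n
        ≤ 2 * (Fintype.card F + 1) * (Fintype.card W * Nat.card (isoGroup (Φ a₀))) :=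
          Nat.mul_le_mul_left _ h1
      _ ≤ 2 * (Fintype.card F + 1) * (Fintype.card W * Bb (Fintype.card F) n) :=
          Nat.mul_le_mul_left _ (Nat.mul_le_mul_left _ hT)
      _ = 2 * (Fintype.card F + 1) * Fintype.card W * Bb (Fintype.card F) n := by ring
  exact Nat.le_of_mul_le_mul_right h2 hpos

end Cfsg.Agent.Lib.Helper18.LSLeaf
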