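import Mathlib
import Cfsg.Agent.S0051

set_option autoImplicit false

/-!
# S2347 leaf WK: a projective representation of `G` on a space of dimension `p ^ a`, given as a
subgroup `Γ ≤ G × GL(M)` with scalar kernel, which splits over a Sylow `p`-subgroup, splits
(det-normalised finite central extension + Gaschütz)
-/

namespace Cfsg.Agent.Lib.Helper18.WeilLeaf

open Module

variable {M : Type*} [AddCommGroup M] [Module ℂ M]

/-- WK -/
theorem exists_hom_of_projective {G : Type*} [Group G] [Finite G] [FiniteDimensional ℂ M]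
    (p : ℕ) [Fact p.Prime] (a : ℕ) (hM : finrank ℂ M = p ^ a)
    (Γ : Subgroup (G × (Module.End ℂ M)ˣ))
    (hsurj : ∀ g : G, ∃ T, (g, T) ∈ Γ)
    (hscal : ∀ (c : ℂˣ) (g : G) (T : (Module.End ℂ M)ˣ), (g, T) ∈ Γ → (g, c • T) ∈ Γ)
    (hker : ∀ T : (Module.End ℂ M)ˣ, ((1 : G), T) ∈ Γ → ∃ c : ℂ, (T : Module.End ℂ M) = c • 1)
    (P : Subgroup G) (hP : IsPGroup p P) (hidx : ¬ p ∣ P.index)
    (τ : P →* (Module.End ℂ M)ˣ) (hτ : ∀ g : P, ((g : G), τ g) ∈ Γ) :
    ∃ ω : G →* (Module.End ℂ M)ˣ, ∀ g, (g, ω g) ∈ Γ := by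
  classical
  have hp : p.Prime := Fact.out
  have hNpos : 0 < finrank ℂ M := by rw [hM]; exact pow_pos hp.pos a
  obtain ⟨b, hb⟩ : ∃ b, Nat.card P = p ^ b := IsPGroup.iff_card.mp hP
  have hnpos : 0 < Nat.card P := Nat.card_pos
  let δ : (Module.End ℂ M)ˣ →* ℂˣ := Units.map (LinearMap.det : Module.End ℂ M →* ℂ)
  have hδval : ∀ T : (Module.End ℂ M)ˣ, ((δ T : ℂˣ) : ℂ) = LinearMap.det (T : Module.End ℂ M) :=
    fun T => rfl
  have hδsmul : ∀ (c : ℂˣ) (T : (Module.End ℂ M)ˣ), δ (c • T) = c ^ finrank ℂ M * δ T := by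
    intro c T
    apply Units.ext
    rw [hδval, Units.val_smul, Units.smul_def, LinearMap.det_smul, Units.val_mul,
      Units.val_pow_eq_pow_val, hδval]
  let φ : G × (Module.End ℂ M)ˣ →* ℂˣ :=
    (powMonoidHom (Nat.card P)).comp (δ.comp (MonoidHom.snd G _))
  have hφ : ∀ x, φ x = (δ x.2) ^ Nat.card P := fun x => rfl
  let Γ₁ : Subgroup (G × (Module.End ℂ M)ˣ) := Γ ⊓ φ.ker
  have hΓ₁ : ∀ x, x ∈ Γ₁ ↔ x ∈ Γ ∧ (δ x.2) ^ Nat.card P = 1 := by
    intro x
    rw [Subgroup.mem_inf, MonoidHom.mem_ker, hφ]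
  let π₁ : Γ₁ →* G := (MonoidHom.fst G _).comp Γ₁.subtype
  have hπ₁ : ∀ x : Γ₁, π₁ x = x.1.1 := fun x => rfl
  -- surjectivity
  have hπsurj : Function.Surjective π₁ := by
    intro g
    obtain ⟨T, hT⟩ := hsurj g
    obtain ⟨z, hz⟩ := IsAlgClosed.exists_pow_nat_eq (((δ T)⁻¹ : ℂˣ) : ℂ) hNpos
    have hz0 : z ≠ 0 := by
      rintro rfl
      rw [zero_pow hNpos.ne'] at hz
      exact (Units.ne_zero _) hz.symm
    have hc : (Units.mk0 z hz0) ^ finrank ℂ M = (δ T)⁻¹ := by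
      apply Units.ext
      rw [Units.val_pow_eq_pow_val, Units.val_mk0, hz]
    refine ⟨⟨(g, (Units.mk0 z hz0) • T), (hΓ₁ _).mpr ⟨hscal _ g T hT, ?_⟩⟩, rfl⟩
    show (δ ((Units.mk0 z hz0) • T)) ^ Nat.card P = 1
    rw [hδsmul, hc, inv_mul_cancel, one_pow]
  -- the kernel
  have hKmem : ∀ k : Γ₁, k ∈ π₁.ker ↔ k.1.1 = 1 := fun k => MonoidHom.mem_ker
  have hKelem : ∀ k : Γ₁, k ∈ π₁.ker → ∃ c : ℂ, c ^ (finrank ℂ M * Nat.card P) = 1 ∧
      ((k.1.2 : (Module.End ℂ M)ˣ) : Module.End ℂ M) = c • 1 := by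
    intro k hk
    have hk1 : k.1.1 = 1 := (hKmem k).mp hk
    have hkΓ := (hΓ₁ k.1).mp k.2
    have hmem : ((1 : G), k.1.2) ∈ Γ := by
      have := hkΓ.1
      rwa [show k.1 = (1, k.1.2) from Prod.ext hk1 rfl] at this
    obtain ⟨c, hc⟩ := hker k.1.2 hmem
    refine ⟨c, ?_, hc⟩
    have hdet : ((δ k.1.2 : ℂˣ) : ℂ) = c ^ finrank ℂ M := by
      rw [hδval, hc, LinearMap.det_smul, map_one, mul_one]
    have := congrArg Units.val hkΓ.2
    rw [Units.val_pow_eq_pow_val, hdet, ← pow_mul, Units.val_one] at this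
    exact this
  have hKext : ∀ k k' : Γ₁, k ∈ π₁.ker → k' ∈ π₁.ker →
      ((k.1.2 : (Module.End ℂ M)ˣ) : Module.End ℂ M) =
        ((k'.1.2 : (Module.End ℂ M)ˣ) : Module.End ℂ M) → k = k' := by
    intro k k' hk hk' h
    apply Subtype.ext
    apply Prod.ext
    · rw [(hKmem k).mp hk, (hKmem k').mp hk']
    · exact Units.ext h
  -- the kernel is commutative
  have hKcomm : IsMulCommutative π₁.ker := by
    refine ⟨⟨fun x y => ?_⟩⟩
    apply Subtype.ext
    apply hKext _ _ (π₁.ker.mul_mem x.2 y.2) (π₁.ker.mul_mem y.2 x.2)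
    obtain ⟨c, -, hc⟩ := hKelem x.1 x.2
    obtain ⟨c', -, hc'⟩ := hKelem y.1 y.2
    show ((x.1.1.2 * y.1.1.2 : (Module.End ℂ M)ˣ) : Module.End ℂ M) =
      ((y.1.1.2 * x.1.1.2 : (Module.End ℂ M)ˣ) : Module.End ℂ M)
    rw [Units.val_mul, Units.val_mul, hc, hc']
    rw [smul_mul_smul_comm, smul_mul_smul_comm, mul_comm c c']
  -- the kernel is finite
  have hKfin : Finite π₁.ker := by
    have hmpos : 0 < finrank ℂ M * Nat.card P := Nat.mul_pos hNpos hnpos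
    have hRfin : {c : ℂ | c ^ (finrank ℂ M * Nat.card P) = 1}.Finite :=
      (Polynomial.nthRootsFinset (finrank ℂ M * Nat.card P) (1 : ℂ)).finite_toSet.subset
        fun c hc => Finset.mem_coe.mpr ((Polynomial.mem_nthRootsFinset hmpos 1).mpr hc)
    have hSfin : ((fun c : ℂ => c • (1 : Module.End ℂ M)) ''
        {c : ℂ | c ^ (finrank ℂ M * Nat.card P) = 1}).Finite := hRfin.image _
    haveI := hSfin.to_subtype
    let f : π₁.ker → ((fun c : ℂ => c • (1 : Module.End ℂ M)) ''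
        {c : ℂ | c ^ (finrank ℂ M * Nat.card P) = 1}) := fun k =>
      ⟨((k.1.1.2 : (Module.End ℂ M)ˣ) : Module.End ℂ M), by
        obtain ⟨c, hc1, hc2⟩ := hKelem k.1 k.2
        exact ⟨c, hc1, hc2.symm⟩⟩
    have hf : Function.Injective f := by
      intro k k' h
      apply Subtype.ext
      exact hKext _ _ k.2 k'.2 (congrArg Subtype.val h)
    exact Finite.of_injective f hf
  -- the kernel is a `p`-group
  have hKp : IsPGroup p π₁.ker := by
    intro k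
    refine ⟨a + b, ?_⟩
    apply Subtype.ext
    apply hKext _ _ (π₁.ker.pow_mem k.2 _) π₁.ker.one_mem
    obtain ⟨c, hc1, hc2⟩ := hKelem k.1 k.2
    show (((k.1.1.2 ^ p ^ (a + b) : (Module.End ℂ M)ˣ)) : Module.End ℂ M) =
      ((1 : (Module.End ℂ M)ˣ) : Module.End ℂ M)
    rw [Units.val_pow_eq_pow_val, hc2, smul_pow, one_pow, Units.val_one, pow_add, ← hM, ← hb, hc1,
      one_smul]
  -- `Γ₁` is finite
  have hXfin : Finite Γ₁ := by
    apply Nat.finite_of_card_ne_zero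
    rw [← Subgroup.card_mul_index π₁.ker]
    apply Nat.mul_ne_zero
    · exact Nat.card_pos.ne'
    · rw [Subgroup.index_ker, MonoidHom.range_eq_top.mpr hπsurj]
      rw [Nat.card_congr Subgroup.topEquiv.toEquiv]
      exact Nat.card_pos.ne'
  -- the preimage of `P` and the complement of the kernel inside it
  have hτdet : ∀ g : P, (δ (τ g)) ^ Nat.card P = 1 := by
    intro g
    rw [← map_pow, ← map_pow, pow_card_eq_one', map_one, map_one]
  let σ : P →* Γ₁ :=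
    { toFun := fun g => ⟨((g : G), τ g), (hΓ₁ _).mpr ⟨hτ g, hτdet g⟩⟩
      map_one' := by
        apply Subtype.ext
        show (((1 : P) : G), τ 1) = 1
        rw [map_one]
        rfl
      map_mul' := fun g h => by
        apply Subtype.ext
        show (((g * h : P) : G), τ (g * h)) = ((g : G), τ g) * ((h : G), τ h)
        rw [map_mul]
        rfl }
  have hσ : ∀ g : P, π₁ (σ g) = (g : G) := fun g => rfl
  have hKU : π₁.ker ≤ P.comap π₁ := by
    intro k hk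
    rw [Subgroup.mem_comap, MonoidHom.mem_ker.mp hk]
    exact P.one_mem
  have hcop : (Nat.card π₁.ker).Coprime (P.comap π₁).index := by
    rw [Subgroup.index_comap_of_surjective _ hπsurj]
    obtain ⟨k, hk⟩ := IsPGroup.iff_card.mp hKp
    rw [hk]
    exact Nat.Coprime.pow_left k ((Nat.Prime.coprime_iff_not_dvd hp).mpr hidx)
  have hAU : σ.range ≤ P.comap π₁ := by
    rintro _ ⟨g, rfl⟩
    rw [Subgroup.mem_comap, hσ]
    exact g.2
  have hAK : σ.range ⊓ π₁.ker = ⊥ := by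
    rw [eq_bot_iff]
    rintro _ ⟨⟨g, rfl⟩, hk⟩
    have hk' : σ g ∈ π₁.ker := hk
    rw [MonoidHom.mem_ker, hσ] at hk'
    have : g = 1 := Subtype.ext hk'
    rw [this, map_one, Subgroup.mem_bot]
  have hKA : π₁.ker ⊔ σ.range = P.comap π₁ := by
    apply le_antisymm (sup_le hKU hAU)
    intro x hx
    rw [Subgroup.mem_comap] at hx
    have h1 : x * (σ ⟨π₁ x, hx⟩)⁻¹ ∈ π₁.ker := by
      rw [MonoidHom.mem_ker, map_mul, map_inv, hσ, mul_inv_cancel]
    have h2 : x = (x * (σ ⟨π₁ x, hx⟩)⁻¹) * σ ⟨π₁ x, hx⟩ := by group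
    rw [h2]
    exact Subgroup.mul_mem_sup h1 ⟨_, rfl⟩
  obtain ⟨H, hH⟩ := Cfsg.Agent.S0051.result π₁.ker (P.comap π₁) hKU hcop σ.range hAU hAK hKA
  -- `H ≅ G`
  have hinj : Function.Injective (π₁.comp H.subtype) := by
    rw [injective_iff_map_eq_one]
    intro h hh
    have h1 : (h : Γ₁) ∈ π₁.ker ⊓ H := ⟨MonoidHom.mem_ker.mpr hh, h.2⟩
    rw [hH.disjoint.eq_bot, Subgroup.mem_bot] at h1
    exact Subtype.ext h1
  have hsurjH : Function.Surjective (π₁.comp H.subtype) := by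
    intro g
    obtain ⟨x, hx⟩ := hπsurj g
    have hx' : x ∈ ((π₁.ker ⊔ H : Subgroup Γ₁) : Set Γ₁) := by
      rw [hH.sup_eq_top]
      exact Set.mem_univ x
    rw [Subgroup.normal_mul] at hx'
    obtain ⟨k, hk, h, hh, rfl⟩ := Set.mem_mul.mp hx'
    refine ⟨⟨h, hh⟩, ?_⟩
    rw [← hx, map_mul, MonoidHom.mem_ker.mp hk, one_mul]
    rfl
  let e : H ≃* G := MulEquiv.ofBijective (π₁.comp H.subtype) ⟨hinj, hsurjH⟩
  refine ⟨((MonoidHom.snd G _).comp (Γ₁.subtype.comp H.subtype)).comp e.symm.toMonoidHom, ?_⟩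
  intro g
  have h1 : π₁ ((e.symm g : H) : Γ₁) = g := e.apply_symm_apply g
  have h2 : (((e.symm g : H) : Γ₁) : G × (Module.End ℂ M)ˣ) ∈ Γ :=
    ((hΓ₁ _).mp ((e.symm g : H) : Γ₁).2).1
  have h3 : (((e.symm g : H) : Γ₁) : G × (Module.End ℂ M)ˣ) =
      (g, (((MonoidHom.snd G _).comp (Γ₁.subtype.comp H.subtype)).comp e.symm.toMonoidHom) g) :=
    Prod.ext h1 rfl
  rw [← h3]
  exact h2

end Cfsg.Agent.Lib.Helper18.WeilLeaf
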