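import Mathlib
import Cfsg.Agent.Lib.Helper13.SL2Gen

/-!
Automorphisms of `PSL₂(F)`: basic API for the images of unipotent and diagonal elements
(helper18).
-/

set_option autoImplicit false

namespace Cfsg.Agent.Lib.Helper18.PSL2Aut

open Matrix Cfsg.Agent.Lib.Helper13

variable {F : Type*} [Field F]

/-- the quotient map `SL₂(F) → PSL₂(F)` -/
def pi : SpecialLinearGroup (Fin 2) F →* ProjectiveSpecialLinearGroup (Fin 2) F :=
  QuotientGroup.mk' _

theorem pi_surjective : Function.Surjective (pi (F := F)) := QuotientGroup.mk'_surjective _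

theorem pi_eq_one_iff (x : SpecialLinearGroup (Fin 2) F) :
    pi x = 1 ↔ x ∈ Subgroup.center (SpecialLinearGroup (Fin 2) F) :=
  QuotientGroup.eq_one_iff x

/-- the scalar matrix `r`, `r ^ 2 = 1` -/
def zS (r : F) (hr : r ^ 2 = 1) : SpecialLinearGroup (Fin 2) F :=
  ⟨!![r, 0; 0, r], by rw [Matrix.det_fin_two_of]; linear_combination hr⟩

theorem zS_mem_center (r : F) (hr : r ^ 2 = 1) :
    zS r hr ∈ Subgroup.center (SpecialLinearGroup (Fin 2) F) := by
  rw [Matrix.SpecialLinearGroup.mem_center_iff]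
  refine ⟨r, by simpa using hr, ?_⟩
  ext i j
  fin_cases i <;> fin_cases j <;> simp [zS]

theorem pi_zS (r : F) (hr : r ^ 2 = 1) : pi (zS r hr) = 1 :=
  (pi_eq_one_iff _).mpr (zS_mem_center r hr)

/-- equality in `PSL₂`: the matrices differ by a scalar `r` with `r ^ 2 = 1` -/
theorem pi_eq_iff (x y : SpecialLinearGroup (Fin 2) F) :
    pi x = pi y ↔ ∃ r : F, r ^ 2 = 1 ∧
      ∀ i j, (y : Matrix (Fin 2) (Fin 2) F) i j = r * (x : Matrix (Fin 2) (Fin 2) F) i j := by
  constructor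
  · intro h
    have h1 : x⁻¹ * y ∈ Subgroup.center (SpecialLinearGroup (Fin 2) F) := QuotientGroup.eq.mp h
    rw [Matrix.SpecialLinearGroup.mem_center_iff] at h1
    obtain ⟨r, hr, hs⟩ := h1
    refine ⟨r, by simpa using hr, fun i j => ?_⟩
    have h2 : y = x * (x⁻¹ * y) := by group
    have h3 : (y : Matrix (Fin 2) (Fin 2) F) = (x : Matrix (Fin 2) (Fin 2) F) * scalar (Fin 2) r := by
      rw [hs]
      conv_lhs => rw [h2]
      rfl
    rw [h3]
    simp [Matrix.mul_apply, Fin.sum_univ_two, Matrix.diagonal_apply]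
    fin_cases j <;> simp [mul_comm]
  · rintro ⟨r, hr, h⟩
    have h1 : y = zS r hr * x := by
      apply Subtype.ext
      ext i j
      rw [h i j]
      change _ = (!![r, 0; 0, r] * (x : Matrix (Fin 2) (Fin 2) F)) i j
      fin_cases i <;> fin_cases j <;> simp [Matrix.mul_apply, Fin.sum_univ_two]
    rw [h1, map_mul, pi_zS, one_mul]

/-- images of the upper unitriangular matrices -/
def ub (t : F) : ProjectiveSpecialLinearGroup (Fin 2) F := pi (tSL t)

/-- images of the lower unitriangular matrices -/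
def lb (s : F) : ProjectiveSpecialLinearGroup (Fin 2) F := pi (lSL s)

/-- images of the diagonal matrices -/
def hb (μ : Fˣ) : ProjectiveSpecialLinearGroup (Fin 2) F := pi (dSL (μ : F) μ.ne_zero)

theorem ub_add (a b : F) : ub (a + b) = ub a * ub b := by
  rw [ub, ub, ub, ← map_mul, tSL_mul]

theorem ub_zero : ub (0 : F) = 1 := by rw [ub, tSL_zero, map_one]

theorem ub_neg (a : F) : ub (-a) = (ub a)⁻¹ := by
  rw [eq_inv_iff_mul_eq_one, ← ub_add, neg_add_cancel, ub_zero]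

theorem lSL_mul (a b : F) : lSL a * lSL b = lSL (a + b) := by
  apply Subtype.ext
  change (!![1, 0; a, 1] * !![1, 0; b, 1] : Matrix (Fin 2) (Fin 2) F) = !![1, 0; a + b, 1]
  ext i j
  fin_cases i <;> fin_cases j <;> simp [Matrix.mul_apply, Fin.sum_univ_two, add_comm]

theorem lSL_zero : lSL (0 : F) = 1 := by
  apply Subtype.ext
  change (!![1, 0; 0, 1] : Matrix (Fin 2) (Fin 2) F) = 1
  ext i j
  fin_cases i <;> fin_cases j <;> simp

theorem lb_add (a b : F) : lb (a + b) = lb a * lb b := by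
  rw [lb, lb, lb, ← map_mul, lSL_mul]

theorem lb_zero : lb (0 : F) = 1 := by rw [lb, lSL_zero, map_one]

theorem lb_neg (a : F) : lb (-a) = (lb a)⁻¹ := by
  rw [eq_inv_iff_mul_eq_one, ← lb_add, neg_add_cancel, lb_zero]

theorem ub_injective : Function.Injective (ub (F := F)) := by
  intro a b h
  obtain ⟨r, -, hr⟩ := (pi_eq_iff _ _).mp h
  have h00 := hr 0 0
  have h01 := hr 0 1
  simp [tSL] at h00 h01
  rw [← h00, one_mul] at h01
  exact h01.symm

theorem lb_injective : Function.Injective (lb (F := F)) := by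
  intro a b h
  obtain ⟨r, -, hr⟩ := (pi_eq_iff _ _).mp h
  have h00 := hr 0 0
  have h10 := hr 1 0
  simp [lSL] at h00 h10
  rw [← h00, one_mul] at h10
  exact h10.symm

theorem hb_eq_iff (μ ν : Fˣ) : hb μ = hb ν ↔ ((ν : F) = μ ∨ (ν : F) = -μ) := by
  constructor
  · intro h
    obtain ⟨r, hr, hh⟩ := (pi_eq_iff _ _).mp h
    have h00 := hh 0 0
    simp [dSL] at h00
    have h2 : (r - 1) * (r + 1) = 0 := by linear_combination hr
    rcases mul_eq_zero.mp h2 with h3 | h3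
    · left; rw [h00, sub_eq_zero.mp h3, one_mul]
    · right; rw [h00, eq_neg_of_add_eq_zero_left h3]; ring
  · rintro (h | h)
    · have : ν = μ := Units.ext h
      rw [this]
    · symm
      rw [hb, hb, pi_eq_iff]
      refine ⟨-1, by ring, fun i j => ?_⟩
      fin_cases i <;> fin_cases j <;> simp [dSL, h, inv_neg]

theorem hb_mul (μ ν : Fˣ) : hb (μ * ν) = hb μ * hb ν := by
  rw [hb, hb, hb, ← map_mul]
  congr 1
  apply Subtype.ext
  change (!![((μ * ν : Fˣ) : F), 0; 0, ((μ * ν : Fˣ) : F)⁻¹] : Matrix (Fin 2) (Fin 2) F) =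
    !![(μ : F), 0; 0, (μ : F)⁻¹] * !![(ν : F), 0; 0, (ν : F)⁻¹]
  ext i j
  fin_cases i <;> fin_cases j <;> simp [Matrix.mul_apply, Fin.sum_univ_two, mul_comm]

theorem hb_one : hb (1 : Fˣ) = 1 := by
  rw [hb, ← map_one pi]
  congr 1
  apply Subtype.ext
  change (!![((1 : Fˣ) : F), 0; 0, ((1 : Fˣ) : F)⁻¹] : Matrix (Fin 2) (Fin 2) F) = 1
  ext i j
  fin_cases i <;> fin_cases j <;> simp

theorem hb_inv (μ : Fˣ) : hb μ⁻¹ = (hb μ)⁻¹ := by
  rw [eq_inv_iff_mul_eq_one, ← hb_mul, inv_mul_cancel, hb_one]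

/-- the torus acts on the upper unipotent subgroup by squares -/
theorem hb_conj_ub (μ : Fˣ) (t : F) : hb μ * ub t * (hb μ)⁻¹ = ub ((μ : F) ^ 2 * t) := by
  rw [mul_inv_eq_iff_eq_mul, hb, ub, ub, ← map_mul, ← map_mul, dSL_mul_tSL]

theorem dSL_mul_lSL (s : F) (hs : s ≠ 0) (t : F) :
    dSL s hs * lSL (s ^ 2 * t) = lSL t * dSL s hs := by
  apply Subtype.ext
  change (!![s, 0; 0, s⁻¹] * !![1, 0; s ^ 2 * t, 1] : Matrix (Fin 2) (Fin 2) F) =
    !![1, 0; t, 1] * !![s, 0; 0, s⁻¹]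
  ext i j
  fin_cases i <;> fin_cases j <;>
    simp [Matrix.mul_apply, Fin.sum_univ_two]
  field_simp

/-- the torus acts on the lower unipotent subgroup by inverse squares -/
theorem hb_conj_lb (μ : Fˣ) (t : F) : hb μ * lb ((μ : F) ^ 2 * t) * (hb μ)⁻¹ = lb t := by
  rw [mul_inv_eq_iff_eq_mul, hb, lb, lb, ← map_mul, ← map_mul, dSL_mul_lSL]

/-- `PSL₂` is generated by the two unipotent subgroups -/
theorem mem_of_ub_lb_mem (H : Subgroup (ProjectiveSpecialLinearGroup (Fin 2) F))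
    (hU : ∀ t : F, ub t ∈ H) (hL : ∀ s : F, lb s ∈ H) (g : ProjectiveSpecialLinearGroup (Fin 2) F) :
    g ∈ H := by
  obtain ⟨x, rfl⟩ := pi_surjective g
  exact mem_of_tSL_lSL_mem (H.comap pi) hU hL x

/-- the square of the trace, a class function on `PSL₂` -/
def trsq (g : ProjectiveSpecialLinearGroup (Fin 2) F) : F :=
  Quotient.liftOn' g (fun x : SpecialLinearGroup (Fin 2) F =>
    ((x : Matrix (Fin 2) (Fin 2) F) 0 0 + (x : Matrix (Fin 2) (Fin 2) F) 1 1) ^ 2) (by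
    intro x y h
    have h1 : pi x = pi y := Quotient.sound' h
    obtain ⟨r, hr, hh⟩ := (pi_eq_iff x y).mp h1
    show (_ : F) = _
    rw [hh 0 0, hh 1 1]
    linear_combination (-(((x : Matrix (Fin 2) (Fin 2) F) 0 0 +
      (x : Matrix (Fin 2) (Fin 2) F) 1 1) ^ 2)) * hr)

theorem trsq_pi (x : SpecialLinearGroup (Fin 2) F) :
    trsq (pi x) = ((x : Matrix (Fin 2) (Fin 2) F) 0 0 + (x : Matrix (Fin 2) (Fin 2) F) 1 1) ^ 2 :=
  rfl

theorem trsq_conj (g h : ProjectiveSpecialLinearGroup (Fin 2) F) :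
    trsq (g * h * g⁻¹) = trsq h := by
  obtain ⟨x, rfl⟩ := pi_surjective g
  obtain ⟨y, rfl⟩ := pi_surjective h
  rw [← map_inv, ← map_mul, ← map_mul, trsq_pi, trsq_pi]
  have h1 := Matrix.trace_mul_cycle (x : Matrix (Fin 2) (Fin 2) F) (y : Matrix (Fin 2) (Fin 2) F)
    ((x⁻¹ : SpecialLinearGroup (Fin 2) F) : Matrix (Fin 2) (Fin 2) F)
  have h2 : ((x⁻¹ : SpecialLinearGroup (Fin 2) F) : Matrix (Fin 2) (Fin 2) F) *
      (x : Matrix (Fin 2) (Fin 2) F) = 1 := by
    rw [← Matrix.SpecialLinearGroup.coe_mul, inv_mul_cancel, Matrix.SpecialLinearGroup.coe_one]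
  rw [h2, one_mul, Matrix.trace_fin_two, Matrix.trace_fin_two] at h1
  rw [Matrix.SpecialLinearGroup.coe_mul, Matrix.SpecialLinearGroup.coe_mul, h1]

end Cfsg.Agent.Lib.Helper18.PSL2Aut
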