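import Mathlib
import Cfsg.Agent.Lib.Helper18.PSL2AutBasic

/-!
Automorphisms of `PSL₂(F)`: diagonal and field automorphisms (helper18).
-/

set_option autoImplicit false

namespace Cfsg.Agent.Lib.Helper18.PSL2Aut

open Matrix Cfsg.Agent.Lib.Helper13

variable {F : Type*} [Field F]

/-- an automorphism of `SL₂` induces an automorphism of `PSL₂` -/
noncomputable def liftAut (e : SpecialLinearGroup (Fin 2) F ≃* SpecialLinearGroup (Fin 2) F) :
    ProjectiveSpecialLinearGroup (Fin 2) F ≃* ProjectiveSpecialLinearGroup (Fin 2) F :=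
  QuotientGroup.congr _ _ e
    (Subgroup.characteristic_iff_map_eq.mp Subgroup.centerCharacteristic e)

theorem liftAut_pi (e : SpecialLinearGroup (Fin 2) F ≃* SpecialLinearGroup (Fin 2) F)
    (x : SpecialLinearGroup (Fin 2) F) : liftAut e (pi x) = pi (e x) := rfl

theorem det_eq (g : SpecialLinearGroup (Fin 2) F) :
    (g : Matrix (Fin 2) (Fin 2) F) 0 0 * (g : Matrix (Fin 2) (Fin 2) F) 1 1 -
      (g : Matrix (Fin 2) (Fin 2) F) 0 1 * (g : Matrix (Fin 2) (Fin 2) F) 1 0 = 1 := by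
  have := g.2
  rwa [Matrix.det_fin_two] at this

/-- conjugation by `diag (a, 1)` on `SL₂`, entrywise -/
def dMat (a : Fˣ) (g : SpecialLinearGroup (Fin 2) F) : SpecialLinearGroup (Fin 2) F :=
  ⟨!![(g : Matrix (Fin 2) (Fin 2) F) 0 0, (a : F) * (g : Matrix (Fin 2) (Fin 2) F) 0 1;
      (a : F)⁻¹ * (g : Matrix (Fin 2) (Fin 2) F) 1 0, (g : Matrix (Fin 2) (Fin 2) F) 1 1], by
    rw [Matrix.det_fin_two_of]
    have h := det_eq g
    have ha : (a : F) ≠ 0 := a.ne_zero
    field_simp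
    linear_combination h⟩

theorem dMat_coe (a : Fˣ) (g : SpecialLinearGroup (Fin 2) F) :
    ((dMat a g : SpecialLinearGroup (Fin 2) F) : Matrix (Fin 2) (Fin 2) F) =
      !![(g : Matrix (Fin 2) (Fin 2) F) 0 0, (a : F) * (g : Matrix (Fin 2) (Fin 2) F) 0 1;
      (a : F)⁻¹ * (g : Matrix (Fin 2) (Fin 2) F) 1 0, (g : Matrix (Fin 2) (Fin 2) F) 1 1] := rfl

theorem dMat_mul (a : Fˣ) (g h : SpecialLinearGroup (Fin 2) F) :
    dMat a (g * h) = dMat a g * dMat a h := by
  apply Subtype.ext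
  rw [Matrix.SpecialLinearGroup.coe_mul, dMat_coe, dMat_coe, dMat_coe,
    Matrix.SpecialLinearGroup.coe_mul]
  have ha : (a : F) ≠ 0 := a.ne_zero
  ext i j
  fin_cases i <;> fin_cases j <;> simp [Matrix.mul_apply, Fin.sum_univ_two] <;> field_simp

theorem dMat_dMat (a b : Fˣ) (g : SpecialLinearGroup (Fin 2) F) :
    dMat a (dMat b g) = dMat (a * b) g := by
  apply Subtype.ext
  rw [dMat_coe, dMat_coe, dMat_coe]
  ext i j
  fin_cases i <;> fin_cases j <;> simp [mul_assoc, mul_comm]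

theorem dMat_one (g : SpecialLinearGroup (Fin 2) F) : dMat 1 g = g := by
  apply Subtype.ext
  rw [dMat_coe]
  ext i j
  fin_cases i <;> fin_cases j <;> simp

/-- the diagonal automorphism of `SL₂` -/
def dAutS (a : Fˣ) : SpecialLinearGroup (Fin 2) F ≃* SpecialLinearGroup (Fin 2) F where
  toFun := dMat a
  invFun := dMat a⁻¹
  left_inv g := by rw [dMat_dMat, inv_mul_cancel, dMat_one]
  right_inv g := by rw [dMat_dMat, mul_inv_cancel, dMat_one]
  map_mul' := dMat_mul a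

/-- the diagonal automorphism of `PSL₂` -/
noncomputable def dAut (a : Fˣ) :
    ProjectiveSpecialLinearGroup (Fin 2) F ≃* ProjectiveSpecialLinearGroup (Fin 2) F :=
  liftAut (dAutS a)

theorem dAut_pi (a : Fˣ) (x : SpecialLinearGroup (Fin 2) F) : dAut a (pi x) = pi (dMat a x) := rfl

theorem dAut_mul (a b : Fˣ) (g : ProjectiveSpecialLinearGroup (Fin 2) F) :
    dAut (a * b) g = dAut a (dAut b g) := by
  obtain ⟨x, rfl⟩ := pi_surjective g
  rw [dAut_pi, dAut_pi, dAut_pi, dMat_dMat]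

theorem dAut_one (g : ProjectiveSpecialLinearGroup (Fin 2) F) : dAut 1 g = g := by
  obtain ⟨x, rfl⟩ := pi_surjective g
  rw [dAut_pi, dMat_one]

theorem dAut_ub (a : Fˣ) (t : F) : dAut a (ub t) = ub ((a : F) * t) := by
  rw [ub, dAut_pi, ub]
  congr 1
  apply Subtype.ext
  rw [dMat_coe]
  ext i j
  fin_cases i <;> fin_cases j <;> simp [tSL]

theorem dAut_lb (a : Fˣ) (t : F) : dAut a (lb t) = lb ((a : F)⁻¹ * t) := by
  rw [lb, dAut_pi, lb]
  congr 1
  apply Subtype.ext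
  rw [dMat_coe]
  ext i j
  fin_cases i <;> fin_cases j <;> simp [lSL]

theorem trsq_dAut (a : Fˣ) (g : ProjectiveSpecialLinearGroup (Fin 2) F) :
    trsq (dAut a g) = trsq g := by
  obtain ⟨x, rfl⟩ := pi_surjective g
  rw [dAut_pi, trsq_pi, trsq_pi, dMat_coe]
  simp

/-- a square diagonal automorphism is inner -/
theorem dAut_sq (b : Fˣ) (g : ProjectiveSpecialLinearGroup (Fin 2) F) :
    dAut (b ^ 2) g = hb b * g * (hb b)⁻¹ := by
  obtain ⟨x, rfl⟩ := pi_surjective g
  rw [eq_mul_inv_iff_mul_eq, dAut_pi, hb, ← map_mul, ← map_mul]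
  congr 1
  apply Subtype.ext
  rw [Matrix.SpecialLinearGroup.coe_mul, Matrix.SpecialLinearGroup.coe_mul, dMat_coe]
  have hb0 : (b : F) ≠ 0 := b.ne_zero
  change _ * (!![(b : F), 0; 0, (b : F)⁻¹] : Matrix (Fin 2) (Fin 2) F) =
    (!![(b : F), 0; 0, (b : F)⁻¹] : Matrix (Fin 2) (Fin 2) F) * _
  ext i j
  fin_cases i <;> fin_cases j <;> simp [Matrix.mul_apply, Fin.sum_univ_two] <;> field_simp

/-- the field automorphism of `SL₂` -/
def fAutS (κ : F ≃+* F) : SpecialLinearGroup (Fin 2) F ≃* SpecialLinearGroup (Fin 2) F where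
  toFun := Matrix.SpecialLinearGroup.map (κ : F →+* F)
  invFun := Matrix.SpecialLinearGroup.map (κ.symm : F →+* F)
  left_inv g := by
    apply Subtype.ext
    ext i j
    show κ.symm (κ ((g : Matrix (Fin 2) (Fin 2) F) i j)) = _
    rw [RingEquiv.symm_apply_apply]
  right_inv g := by
    apply Subtype.ext
    ext i j
    show κ (κ.symm ((g : Matrix (Fin 2) (Fin 2) F) i j)) = _
    rw [RingEquiv.apply_symm_apply]
  map_mul' := map_mul _

theorem fAutS_apply (κ : F ≃+* F) (g : SpecialLinearGroup (Fin 2) F) (i j : Fin 2) :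
    ((fAutS κ g : SpecialLinearGroup (Fin 2) F) : Matrix (Fin 2) (Fin 2) F) i j =
      κ ((g : Matrix (Fin 2) (Fin 2) F) i j) := rfl

/-- the field automorphism of `PSL₂` -/
noncomputable def fAut (κ : F ≃+* F) :
    ProjectiveSpecialLinearGroup (Fin 2) F ≃* ProjectiveSpecialLinearGroup (Fin 2) F :=
  liftAut (fAutS κ)

theorem fAut_pi (κ : F ≃+* F) (x : SpecialLinearGroup (Fin 2) F) :
    fAut κ (pi x) = pi (fAutS κ x) := rfl

theorem fAut_ub (κ : F ≃+* F) (t : F) : fAut κ (ub t) = ub (κ t) := by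
  rw [ub, fAut_pi, ub]
  congr 1
  apply Subtype.ext
  ext i j
  rw [fAutS_apply]
  fin_cases i <;> fin_cases j <;> simp [tSL]

theorem fAut_lb (κ : F ≃+* F) (t : F) : fAut κ (lb t) = lb (κ t) := by
  rw [lb, fAut_pi, lb]
  congr 1
  apply Subtype.ext
  ext i j
  rw [fAutS_apply]
  fin_cases i <;> fin_cases j <;> simp [lSL]

theorem trsq_fAut (κ : F ≃+* F) (g : ProjectiveSpecialLinearGroup (Fin 2) F) :
    trsq (fAut κ g) = κ (trsq g) := by
  obtain ⟨x, rfl⟩ := pi_surjective g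
  rw [fAut_pi, trsq_pi, trsq_pi, fAutS_apply, fAutS_apply, map_pow, map_add]

end Cfsg.Agent.Lib.Helper18.PSL2Aut
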