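import Mathlib
import Cfsg.Agent.Lib.Helper11.LSDefs

/-!
# S2333 leaf LSD1 (helper18): a complement of the radical carries a non-defective form
-/

set_option autoImplicit false
open QuadraticMap Module Cfsg.Agent.Lib.Helper11.LS

namespace Cfsg.Agent.Lib.Helper18.LSLeaf

universe u
variable {F : Type*} [Field F] {V : Type u} [AddCommGroup V] [Module F V]

theorem mem_radical_iff_polar (Q : QuadraticForm F V) (x : V) :
    x ∈ Q.radical ↔ Q x = 0 ∧ ∀ y, polar Q x y = 0 := by
  rw [QuadraticMap.mem_radical_iff']
  constructor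
  · rintro ⟨h0, h⟩
    refine ⟨h0, fun y => ?_⟩
    unfold polar
    rw [h y, h0]
    simp
  · rintro ⟨h0, h⟩
    refine ⟨h0, fun y => ?_⟩
    have := h y
    unfold polar at this
    rw [h0] at this
    have h2 : Q (x + y) = Q y + (Q (x + y) - 0 - Q y) := by abel
    rw [h2, this, add_zero]

theorem polar_comp_subtype (Q : QuadraticForm F V) (W : Submodule F V) (x y : W) :
    polar (Q.comp W.subtype) x y = polar Q (x : V) (y : V) := by
  unfold polar
  simp

theorem exists_compl_radical [Fintype F] [CharP F 2] [Finite V] (Q : QuadraticForm F V)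
    (hb : ∃ v w, polar Q v w ≠ 0) :
    ∃ V₁ : Submodule F V, IsCompl V₁ Q.radical ∧ 2 ≤ finrank F V₁ ∧
      Nondef (Q.comp V₁.subtype) := by
  classical
  have : Module.Finite F V := Module.Finite.of_finite
  obtain ⟨V₁, hc⟩ := Submodule.exists_isCompl Q.radical
  have hc' : IsCompl V₁ Q.radical := hc.symm
  -- decomposition of vectors
  have hdec : ∀ y : V, ∃ y₁ ∈ V₁, ∃ r ∈ Q.radical, y = y₁ + r := by
    intro y
    have hy : y ∈ V₁ ⊔ Q.radical := by
      rw [hc'.sup_eq_top]; exact Submodule.mem_top
    obtain ⟨y₁, hy₁, r, hr, rfl⟩ := Submodule.mem_sup.1 hy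
    exact ⟨y₁, hy₁, r, hr, rfl⟩
  have hrad : ∀ r ∈ Q.radical, ∀ y, polar Q r y = 0 := fun r hr =>
    ((mem_radical_iff_polar Q r).1 hr).2
  have hrad' : ∀ r ∈ Q.radical, ∀ y, polar Q y r = 0 := fun r hr y => by
    rw [polar_comm]; exact hrad r hr y
  have h2 : (2 : F) = 0 := CharTwo.two_eq_zero
  have hself : ∀ x : V, polar Q x x = 0 := by
    intro x
    rw [polar_self]
    simp [two_smul]
    rw [← two_smul F (Q x), h2, zero_smul]
  refine ⟨V₁, hc', ?_, ?_⟩
  · obtain ⟨v, w, hvw⟩ := hb
    obtain ⟨v₁, hv₁, r, hr, rfl⟩ := hdec v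
    obtain ⟨w₁, hw₁, r', hr', rfl⟩ := hdec w
    have hp : polar Q v₁ w₁ ≠ 0 := by
      intro h0
      apply hvw
      rw [polar_add_left, polar_add_right, polar_add_right, h0, hrad' r' hr', hrad r hr,
        hrad r hr]
      simp
    have hli : LinearIndependent F ![(⟨v₁, hv₁⟩ : V₁), ⟨w₁, hw₁⟩] := by
      rw [LinearIndependent.pair_iff]
      intro s t hst
      have hst' : s • v₁ + t • w₁ = 0 := by
        have := congrArg Subtype.val hst
        simpa using this
      constructor
      · have := congrArg (fun z => polar Q z w₁) hst'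
        simp only [polar_add_left, polar_smul_left, hself, smul_zero, add_zero] at this
        have h0 : polar Q (0 : V) w₁ = 0 := by simp [polar]
        rw [h0] at this
        rcases smul_eq_zero.1 this with h | h
        · exact h
        · exact absurd h hp
      · have := congrArg (fun z => polar Q v₁ z) hst'
        simp only [polar_add_right, polar_smul_right, hself, smul_zero, zero_add] at this
        have h0 : polar Q v₁ (0 : V) = 0 := by simp [polar]
        rw [h0] at this
        rcases smul_eq_zero.1 this with h | h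
        · exact h
        · exact absurd h hp
    have := hli.fintype_card_le_finrank
    simpa using this
  · intro x hx hQx
    have hxV : ∀ y : V, polar Q (x : V) y = 0 := by
      intro y
      obtain ⟨y₁, hy₁, r, hr, rfl⟩ := hdec y
      rw [polar_add_right, hrad' r hr, add_zero]
      have := hx ⟨y₁, hy₁⟩
      rwa [polar_comp_subtype] at this
    have hQ : Q (x : V) = 0 := by simpa using hQx
    have hxr : (x : V) ∈ Q.radical := (mem_radical_iff_polar Q _).2 ⟨hQ, hxV⟩
    have : (x : V) ∈ V₁ ⊓ Q.radical := ⟨x.2, hxr⟩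
    rw [hc'.inf_eq_bot, Submodule.mem_bot] at this
    exact Subtype.ext this

end Cfsg.Agent.Lib.Helper18.LSLeaf
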