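import Mathlib
import Cfsg.Agent.Lib.Helper11.LSDefs
import Cfsg.Agent.Lib.Helper11.LSSp

/-!
# S2333 leaf LSR2 (helper18): weights on the upper triangle as quadratic forms
-/

set_option autoImplicit false
open QuadraticMap Module Matrix Cfsg.Agent.Lib.Helper11.LS

namespace Cfsg.Agent.Lib.Helper18.LSLeaf

variable {F : Type*} [Field F] {n : ℕ}

/-- the matrix of the form `qf u` -/
def qfMat (u : UT n → F) : Matrix (Fin n) (Fin n) F :=
  fun i j => if h : i ≤ j then u ⟨(i, j), h⟩ else 0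

theorem qf_eq (u : UT n → F) : qf u = Matrix.toQuadraticForm' (qfMat u) := rfl

theorem qfMat_of_le (u : UT n → F) {i j : Fin n} (h : i ≤ j) : qfMat u i j = u ⟨(i, j), h⟩ :=
  dif_pos h

theorem qfMat_of_not_le (u : UT n → F) {i j : Fin n} (h : ¬ i ≤ j) : qfMat u i j = 0 :=
  dif_neg h

theorem qf_apply (u : UT n → F) (ℓ : Fin n → F) : qf u ℓ = u ⬝ᵥ sq ℓ := by
  classical
  rw [qf_eq, Matrix.toQuadraticForm', LinearMap.BilinMap.toQuadraticMap_apply,
    Matrix.toLinearMap₂'_apply]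
  let G : Fin n × Fin n → F := fun p => ℓ p.1 • ℓ p.2 • qfMat u p.1 p.2
  have h1 : (∑ i, ∑ j, ℓ i • ℓ j • qfMat u i j) = ∑ p : Fin n × Fin n, G p := by
    rw [Fintype.sum_prod_type]
  rw [h1]
  have h2 : ∑ p : Fin n × Fin n, G p =
      ∑ p ∈ Finset.univ.filter (fun p : Fin n × Fin n => p.1 ≤ p.2), G p := by
    symm
    apply Finset.sum_filter_of_ne
    intro p _ hp
    by_contra hle
    apply hp
    show ℓ p.1 • ℓ p.2 • qfMat u p.1 p.2 = 0
    rw [qfMat_of_not_le u hle, smul_zero, smul_zero]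
  rw [h2, Finset.sum_subtype (Finset.univ.filter (fun p : Fin n × Fin n => p.1 ≤ p.2))
    (p := fun p : Fin n × Fin n => p.1 ≤ p.2) (fun x => by simp) G]
  unfold dotProduct
  apply Finset.sum_congr rfl
  rintro ⟨⟨i, j⟩, h⟩ _
  show ℓ i • ℓ j • qfMat u i j = u ⟨(i, j), h⟩ * sq ℓ ⟨(i, j), h⟩
  rw [qfMat_of_le u h]
  show ℓ i * (ℓ j * u ⟨(i, j), h⟩) = u ⟨(i, j), h⟩ * (ℓ i * ℓ j)
  ring

theorem toQF_single (M : Matrix (Fin n) (Fin n) F) (a : Fin n) :
    Matrix.toQuadraticForm' M (Pi.single a 1) = M a a := by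
  rw [Matrix.toQuadraticForm', LinearMap.BilinMap.toQuadraticMap_apply,
    Matrix.toLinearMap₂'_apply']
  simp

theorem polar_toQF_single (M : Matrix (Fin n) (Fin n) F) (a b : Fin n) :
    polar (Matrix.toQuadraticForm' M) (Pi.single a 1) (Pi.single b 1) = M a b + M b a := by
  rw [Matrix.toQuadraticForm', LinearMap.BilinMap.polar_toQuadraticMap,
    Matrix.toLinearMap₂'_apply', Matrix.toLinearMap₂'_apply']
  simp

theorem qf_single (u : UT n → F) (a : Fin n) :
    qf u (Pi.single a 1) = u ⟨(a, a), le_rfl⟩ := by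
  rw [qf_eq, toQF_single, qfMat_of_le u le_rfl]

theorem polar_qf_single (u : UT n → F) {a b : Fin n} (h : a < b) :
    polar (qf u) (Pi.single a 1) (Pi.single b 1) = u ⟨(a, b), h.le⟩ := by
  rw [qf_eq, polar_toQF_single, qfMat_of_le u h.le,
    qfMat_of_not_le u (not_le.2 h), add_zero]

theorem qf_injective : Function.Injective (qf : (UT n → F) → QuadraticForm F (Fin n → F)) := by
  intro u u' huu
  funext p
  obtain ⟨⟨a, b⟩, hab⟩ := p
  rcases eq_or_lt_of_le hab with h | h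
  · have h' : a = b := h
    subst h'
    have := congrArg (fun Q : QuadraticForm F (Fin n → F) => Q (Pi.single a 1)) huu
    simp only [qf_single] at this
    exact this
  · have h' : a < b := h
    have := congrArg (fun Q : QuadraticForm F (Fin n → F) =>
      polar Q (Pi.single a 1) (Pi.single b 1)) huu
    simp only [polar_qf_single _ h'] at this
    exact this

theorem qf_of_dual (u u' : UT n → F) (M : Matrix (Fin n) (Fin n) F)
    (hd : ∀ v, u ⬝ᵥ v = u' ⬝ᵥ Nmap M v) (ℓ : Fin n → F) : qf u' (M *ᵥ ℓ) = qf u ℓ := by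
  rw [qf_apply, qf_apply, ← Nmap_sq, ← hd]

theorem exists_dual {ι : Type*} [Fintype ι] [DecidableEq ι] (N : (ι → F) ≃ₗ[F] (ι → F))
    (u : ι → F) : ∃ u' : ι → F, ∀ v, u ⬝ᵥ v = u' ⬝ᵥ N v := by
  let φ : (ι → F) →ₗ[F] F :=
    { toFun := fun v => u ⬝ᵥ N.symm v
      map_add' := by intro v w; rw [map_add, dotProduct_add]
      map_smul' := by intro c v; rw [map_smul, dotProduct_smul]; rfl }
  refine ⟨fun p => φ (fun j => if p = j then 1 else 0), fun v => ?_⟩
  have h1 := LinearMap.pi_apply_eq_sum_univ φ (N v)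
  have h2 : φ (N v) = u ⬝ᵥ v := by
    show u ⬝ᵥ N.symm (N v) = u ⬝ᵥ v
    rw [LinearEquiv.symm_apply_apply]
  rw [← h2, h1]
  unfold dotProduct
  apply Finset.sum_congr rfl
  intro p _
  rw [smul_eq_mul, mul_comm]

end Cfsg.Agent.Lib.Helper18.LSLeaf
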