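import Cfsg.Agent.Lib.Helper18.OrthAutJ

set_option autoImplicit false

/-!
helper18: `Ω` is generated by the root subgroups of the two members of a hyperbolic pair.
-/

namespace Cfsg.Agent.Lib.Helper18.OrthAut

open Module QuadraticMap Matrix Cfsg.Agent.Lib.Helper25.CD Cfsg.Agent.Lib.Helper25.Siegel
  Cfsg.Agent.Lib.Helper25.PS Cfsg.Agent.Lib.Helper25.PAut Cfsg.Agent.Lib.Helper15

variable {ι : Type} [Fintype ι] [DecidableEq ι] {F : Type*} [Field F] [Fintype F]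
  (Q : QuadraticForm F (ι → F)) (hQ : (polarBilin Q).Nondegenerate) (hn : 7 ≤ Fintype.card ι)

omit [Fintype F] in
theorem RU_congr {u u' : ι → F} (hu : Q u = 0) (hu' : Q u' = 0) (h : u = u') :
    RU Q u hu = RU Q u' hu' := by
  subst h
  rfl

omit [Fintype F] in
theorem RU_smul {u : ι → F} (hu : Q u = 0) {c : F} (hc : c ≠ 0) :
    RU Q (c • u) (by rw [QuadraticMap.map_smul, hu, smul_zero]) = RU Q u hu := by
  unfold RU
  rw [RI_smul Q hu hc]

omit [Fintype F] in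
/-- conjugates of root subgroups -/
theorem conj_mem_RU (k : ↥(Cfsg.Omega F ⇑Q)) {u : ι → F} (hu : Q u = 0)
    {g : ↥(Cfsg.Omega F ⇑Q)} (hg : g ∈ RU Q u hu) :
    k * g * k⁻¹ ∈ RU Q (toOG Q k.1 u) (by rw [Q_toOG, hu]) :=
  conj_mem_RI Q k.1 hu hg

omit [Fintype F] in
theorem RU_le_of_conj (H : Subgroup ↥(Cfsg.Omega F ⇑Q)) (k : ↥(Cfsg.Omega F ⇑Q)) (hk : k ∈ H)
    {u : ι → F} (hu : Q u = 0)
    (hle : RU Q (toOG Q k.1 u) (by rw [Q_toOG, hu]) ≤ H) : RU Q u hu ≤ H := by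
  intro g hg
  have h1 := hle (conj_mem_RU Q k hu hg)
  have h2 : g = k⁻¹ * (k * g * k⁻¹) * k := by group
  rw [h2]
  exact H.mul_mem (H.mul_mem (H.inv_mem hk) h1) hk

section gen

variable {e f : ι → F} (h : HypPair Q e f) (H : Subgroup ↥(Cfsg.Omega F ⇑Q))
  (hHe : RU Q e h.he ≤ H) (hHf : RU Q f h.hf ≤ H)

include hQ hn hHe hHf in
/-- points not orthogonal to `f` -/
theorem RU_le_of_not_perp_f {u : ι → F} (hu : Q u = 0) (hfu : polar Q f u ≠ 0) :
    RU Q u hu ≤ H := by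
  obtain ⟨u', hu'⟩ : ∃ u', u' = (polar Q f u)⁻¹ • u := ⟨_, rfl⟩
  have hQu' : Q u' = 0 := by rw [hu', QuadraticMap.map_smul, hu, smul_zero]
  have hfu' : polar Q f u' = 1 := by
    rw [hu', polar_smul_right, smul_eq_mul, inv_mul_cancel₀ hfu]
  have e1 : RU Q u hu = RU Q u' hQu' := by
    rw [← RU_smul Q hu (inv_ne_zero hfu)]
    exact RU_congr Q _ _ hu'.symm
  rw [e1]
  -- `u' = T_{f,w} e`
  obtain ⟨w, hw⟩ : ∃ w, w = u' - polar Q f u' • e - polar Q e u' • f := ⟨_, rfl⟩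
  have hwW : InW Q e f w := by
    rw [hw]
    exact h.inW_proj u'
  have hQw : Q w = -polar Q e u' := by
    have h1 : u' = w + (1 : F) • e + polar Q e u' • f := by
      rw [hw, hfu']
      module
    have h2 := Q_decomp Q h.he h.hf (by rw [polar_comm]; exact hwW.1)
      (by rw [polar_comm]; exact hwW.2) (1 : F) (polar Q e u')
    rw [← h1, hQu', h.hef] at h2
    linear_combination -h2
  have hk : TO Q hQ hn f w h.hf hwW.2 ∈ H := hHf (TO_mem_RU Q hQ hn h.hf hwW.2)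
  have e2 : toOG Q (TO Q hQ hn f w h.hf hwW.2).1 e = u' := by
    rw [TO_val, toOG_TG, siegT_f h.symm hwW.symm, hQw, hw, hfu']
    module
  have h3 : RU Q (toOG Q (TO Q hQ hn f w h.hf hwW.2).1 e) (by rw [Q_toOG, h.he]) ≤ H := by
    intro g hg
    have h4 := conj_mem_RU Q (TO Q hQ hn f w h.hf hwW.2)⁻¹
      (u := toOG Q (TO Q hQ hn f w h.hf hwW.2).1 e) (by rw [Q_toOG, h.he]) hg
    have e3 : toOG Q ((TO Q hQ hn f w h.hf hwW.2)⁻¹ : ↥(Cfsg.Omega F ⇑Q)).1
        (toOG Q (TO Q hQ hn f w h.hf hwW.2).1 e) = e := by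
      rw [← LinearEquiv.mul_apply, ← map_mul]
      have : ((TO Q hQ hn f w h.hf hwW.2)⁻¹ : ↥(Cfsg.Omega F ⇑Q)).1 *
          (TO Q hQ hn f w h.hf hwW.2).1 = 1 := by
        rw [← Subgroup.coe_mul, inv_mul_cancel]
        rfl
      rw [this, map_one]
      rfl
    rw [RU_congr Q _ h.he e3] at h4
    have h5 := hHe h4
    have h6 : g = TO Q hQ hn f w h.hf hwW.2 *
        ((TO Q hQ hn f w h.hf hwW.2)⁻¹ * g * ((TO Q hQ hn f w h.hf hwW.2)⁻¹)⁻¹) *
        (TO Q hQ hn f w h.hf hwW.2)⁻¹ := by group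
    rw [h6]
    exact H.mul_mem (H.mul_mem hk h5) (H.inv_mem hk)
  rw [RU_congr Q hQu' _ e2.symm]
  exact h3

end gen

section gen2

variable {e f : ι → F} (h : HypPair Q e f) (H : Subgroup ↥(Cfsg.Omega F ⇑Q))
  (hHe : RU Q e h.he ≤ H) (hHf : RU Q f h.hf ≤ H)

include hQ hn hHe hHf in
/-- all root subgroups lie in `H` -/
theorem RU_le_all {u : ι → F} (hu0 : u ≠ 0) (hu : Q u = 0) : RU Q u hu ≤ H := by
  by_cases hfu : polar Q f u = 0
  swap
  · exact RU_le_of_not_perp_f Q hQ hn h H hHe hHf hu hfu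
  by_cases heu : polar Q e u = 0
  swap
  · exact RU_le_of_not_perp_f Q hQ hn h.symm H hHf hHe hu heu
  -- `u` lies in `W`
  have huW : InW Q e f u := ⟨heu, hfu⟩
  have hW := Wsub_nd Q hQ h
  obtain ⟨w, hwW, hwu⟩ : ∃ w ∈ Wsub Q e f, polar Q u w ≠ 0 := by
    by_contra hcon
    push Not at hcon
    exact hu0 (hW u ((mem_Wsub Q).2 huW) hcon)
  have hwW' := (mem_Wsub Q).1 hwW
  have hk : TO Q hQ hn e w h.he hwW'.1 ∈ H := hHe (TO_mem_RU Q hQ hn h.he hwW'.1)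
  apply RU_le_of_conj Q H _ hk hu
  apply RU_le_of_not_perp_f Q hQ hn h H hHe hHf
  rw [TO_val, toOG_TG, siegT_w heu, polar_sub_right, polar_smul_right, hfu, h.hfe,
    polar_comm Q w u]
  simpa using hwu

include hQ hn hHe hHf in
/-- `Ω` is generated by the root subgroups of `e` and `f` -/
theorem gen_top : H = ⊤ := by
  rw [eq_top_iff]
  intro g _
  have hg : g.1 ∈ Subgroup.closure (rootSet Q) := by
    rw [← omega_eq_root' Q hQ hn]
    exact g.2
  have hroot : rootSet Q ⊆ (H.map (Cfsg.Omega F ⇑Q).subtype : Set ↥(Cfsg.isometryGroup F ⇑Q)) := by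
    rintro k ⟨u, v, c, hu, hv, huv, hk⟩
    rw [eq_siegG_of_coe Q hu hv huv hk, ← TG_eq_siegG Q hu hv huv c]
    by_cases hu0 : u = 0
    · refine ⟨1, H.one_mem, ?_⟩
      rw [map_one]
      apply eq_TG_of_apply
      intro x
      rw [map_one, hu0]
      unfold siegT
      simp
    · refine ⟨TO Q hQ hn u (c • v) hu (by rw [polar_smul_right, huv, smul_zero]), ?_, rfl⟩
      exact RU_le_all Q hQ hn h H hHe hHf hu0 hu (TO_mem_RU Q hQ hn hu _)
  obtain ⟨g', hg', hgg'⟩ := (Subgroup.closure_le _).2 hroot hg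
  have e : g' = g := Subtype.ext hgg'
  rw [← e]
  exact hg'

end gen2

end Cfsg.Agent.Lib.Helper18.OrthAut
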