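import Mathlib

/-!
**Fundamental theorem of projective geometry**, vector form (helper18).

`Coll P`: `P : (ι → F) → (ι → F)` induces a bijection of the points of the projective space of
`ι → F` that maps collinear points to collinear points.  For `3 ≤ card ι` and `F` finite such a map
is induced by a semilinear bijection `v ↦ g (σ v)`.
-/

set_option autoImplicit false
set_option linter.unusedSectionVars false

namespace Cfsg.Agent.Lib.Helper18.FTPG

open Matrix

variable {F : Type*} [Field F] {ι : Type*} [Fintype ι] [DecidableEq ι]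

/-- proportional vectors -/
def Par (u v : ι → F) : Prop := ∃ c : F, c ≠ 0 ∧ u = c • v

theorem Par.refl (u : ι → F) : Par u u := ⟨1, one_ne_zero, (one_smul _ _).symm⟩

theorem Par.symm {u v : ι → F} (h : Par u v) : Par v u := by
  obtain ⟨c, hc, rfl⟩ := h
  exact ⟨c⁻¹, inv_ne_zero hc, by rw [smul_smul, inv_mul_cancel₀ hc, one_smul]⟩

theorem Par.trans {u v w : ι → F} (h1 : Par u v) (h2 : Par v w) : Par u w := by
  obtain ⟨c, hc, rfl⟩ := h1
  obtain ⟨d, hd, rfl⟩ := h2
  exact ⟨c * d, mul_ne_zero hc hd, by rw [smul_smul]⟩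

theorem Par.ne_zero {u v : ι → F} (h : Par u v) (hv : v ≠ 0) : u ≠ 0 := by
  obtain ⟨c, hc, rfl⟩ := h
  exact smul_ne_zero hc hv

theorem Par.ne_zero' {u v : ι → F} (h : Par u v) (hu : u ≠ 0) : v ≠ 0 := h.symm.ne_zero hu

theorem par_smul (v : ι → F) {c : F} (hc : c ≠ 0) : Par (c • v) v := ⟨c, hc, rfl⟩

theorem Par.smul_right {u v : ι → F} (h : Par u v) {c : F} (hc : c ≠ 0) : Par u (c • v) :=
  h.trans (par_smul v hc).symm

theorem Par.mulVec {u v : ι → F} (h : Par u v) (M : Matrix ι ι F) : Par (M *ᵥ u) (M *ᵥ v) := by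
  obtain ⟨c, hc, rfl⟩ := h
  exact ⟨c, hc, Matrix.mulVec_smul _ _ _⟩

/-- `P` induces a collineation of the projective space -/
structure Coll (P : (ι → F) → (ι → F)) : Prop where
  ne : ∀ v, v ≠ 0 → P v ≠ 0
  inj : ∀ u v, u ≠ 0 → v ≠ 0 → Par (P u) (P v) → Par u v
  surj : ∀ y, y ≠ 0 → ∃ v, v ≠ 0 ∧ Par (P v) y
  col : ∀ u v : ι → F, u ≠ 0 → v ≠ 0 → ∀ a b : F, a • u + b • v ≠ 0 →
    ∃ a' b' : F, P (a • u + b • v) = a' • P u + b' • P v

namespace Coll

variable {P : (ι → F) → (ι → F)}

theorem par_smul' (hP : Coll P) {v : ι → F} (hv : v ≠ 0) {c : F} (hc : c ≠ 0) :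
    Par (P (c • v)) (P v) := by
  have h0 : c • v + (0 : F) • v = c • v := by rw [zero_smul, add_zero]
  have h1 : c • v + (0 : F) • v ≠ 0 := by rw [h0]; exact smul_ne_zero hc hv
  obtain ⟨a, b, hab⟩ := hP.col v v hv hv c 0 h1
  rw [h0, ← add_smul] at hab
  refine ⟨a + b, ?_, hab⟩
  intro h
  rw [h, zero_smul] at hab
  exact hP.ne _ (smul_ne_zero hc hv) hab

theorem par_congr (hP : Coll P) {u v : ι → F} (hu : u ≠ 0) (h : Par u v) : Par (P u) (P v) := by
  obtain ⟨c, hc, rfl⟩ := h
  exact hP.par_smul' (fun h0 => hu (by rw [h0, smul_zero])) hc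

/-- images of spans -/
theorem span_map (hP : Coll P) (S : Set (ι → F)) {w : ι → F}
    (hw : w ∈ Submodule.span F S) (hw0 : w ≠ 0) : P w ∈ Submodule.span F (P '' S) := by
  have key : ∀ w (hw : w ∈ Submodule.span F S), w = 0 ∨ P w ∈ Submodule.span F (P '' S) := by
    intro w hw
    induction hw using Submodule.span_induction with
    | mem x hx => exact Or.inr (Submodule.subset_span ⟨x, hx, rfl⟩)
    | zero => exact Or.inl rfl
    | add x y _ _ hx hy =>
      rcases hx with rfl | hx
      · rw [zero_add]; exact hy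
      rcases hy with rfl | hy
      · rw [add_zero]; exact Or.inr hx
      by_cases hxy : x + y = 0
      · exact Or.inl hxy
      by_cases hx0 : x = 0
      · rw [hx0, zero_add]; exact Or.inr hy
      by_cases hy0 : y = 0
      · rw [hy0, add_zero]; exact Or.inr hx
      have h1 : (1 : F) • x + (1 : F) • y ≠ 0 := by rwa [one_smul, one_smul]
      obtain ⟨a, b, hab⟩ := hP.col x y hx0 hy0 1 1 h1
      rw [one_smul, one_smul] at hab
      rw [hab]
      exact Or.inr (add_mem (Submodule.smul_mem _ _ hx) (Submodule.smul_mem _ _ hy))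
    | smul a x _ hx =>
      rcases hx with rfl | hx
      · rw [smul_zero]; exact Or.inl rfl
      by_cases ha : a = 0
      · rw [ha, zero_smul]; exact Or.inl rfl
      by_cases hx0 : x = 0
      · rw [hx0, smul_zero]; exact Or.inl rfl
      obtain ⟨c, _, hc⟩ := hP.par_smul' hx0 ha
      rw [hc]
      exact Or.inr (Submodule.smul_mem _ _ hx)
  rcases key w hw with h | h
  · exact absurd h hw0
  · exact h

/-- composing with an invertible matrix -/
theorem mulVec (hP : Coll P) (g : GL ι F) : Coll fun v => (g : Matrix ι ι F) *ᵥ P v := by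
  have hinj : Function.Injective ((g : Matrix ι ι F).mulVec) :=
    Matrix.mulVec_injective_iff_isUnit.2 g.isUnit
  have hback : ∀ y : ι → F, ((g⁻¹ : GL ι F) : Matrix ι ι F) *ᵥ ((g : Matrix ι ι F) *ᵥ y) = y := by
    intro y
    rw [Matrix.mulVec_mulVec, ← Units.val_mul, inv_mul_cancel, Units.val_one, Matrix.one_mulVec]
  have hforth : ∀ y : ι → F, (g : Matrix ι ι F) *ᵥ (((g⁻¹ : GL ι F) : Matrix ι ι F) *ᵥ y) = y := by
    intro y
    rw [Matrix.mulVec_mulVec, ← Units.val_mul, mul_inv_cancel, Units.val_one, Matrix.one_mulVec]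
  refine ⟨fun v hv h => hP.ne v hv ?_, fun u v hu hv h => hP.inj u v hu hv ?_, fun y hy => ?_,
    fun u v hu hv a b hab => ?_⟩
  · have := congrArg (fun y => ((g⁻¹ : GL ι F) : Matrix ι ι F) *ᵥ y) h
    simpa [hback] using this
  · have := h.mulVec ((g⁻¹ : GL ι F) : Matrix ι ι F)
    rwa [hback, hback] at this
  · have hy' : ((g⁻¹ : GL ι F) : Matrix ι ι F) *ᵥ y ≠ 0 := by
      intro h
      apply hy
      rw [← hforth y, h, Matrix.mulVec_zero]
    obtain ⟨v, hv, hpar⟩ := hP.surj _ hy'
    refine ⟨v, hv, ?_⟩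
    have := hpar.mulVec (g : Matrix ι ι F)
    rwa [hforth] at this
  · obtain ⟨a', b', h⟩ := hP.col u v hu hv a b hab
    refine ⟨a', b', ?_⟩
    show (g : Matrix ι ι F) *ᵥ P (a • u + b • v) = _
    rw [h, Matrix.mulVec_add, Matrix.mulVec_smul, Matrix.mulVec_smul]


/-- absorb proportionality in the collinearity axiom -/
theorem col_par (hP : Coll P) {u v u' v' : ι → F} (hu : u ≠ 0) (hv : v ≠ 0)
    (hu' : Par (P u) u') (hv' : Par (P v) v') (a b : F) (hab : a • u + b • v ≠ 0) :
    ∃ a' b' : F, P (a • u + b • v) = a' • u' + b' • v' := by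
  obtain ⟨a', b', h⟩ := hP.col u v hu hv a b hab
  obtain ⟨c, _, hc⟩ := hu'
  obtain ⟨d, _, hd⟩ := hv'
  exact ⟨a' * c, b' * d, by rw [h, hc, hd, smul_smul, smul_smul]⟩

end Coll

section normalized

variable {P : (ι → F) → (ι → F)} (hP : Coll P) (i0 : ι)

local notation "e" => fun i : ι => (Pi.single i (1 : F) : ι → F)

theorem e_ne_zero (i : ι) : (Pi.single i (1 : F) : ι → F) ≠ 0 := by
  intro h
  have := congrFun h i
  simp at this

include hP in
theorem exists_sg (he : ∀ i, Par (P (Pi.single i (1 : F))) (Pi.single i (1 : F))) {j : ι}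
    (hj : j ≠ i0) (x : F) :
    ∃ t : F, Par (P (Pi.single i0 (1 : F) + x • Pi.single j (1 : F)))
      (Pi.single i0 (1 : F) + t • Pi.single j (1 : F)) := by
  have hne : (1 : F) • (Pi.single i0 (1 : F) : ι → F) + x • Pi.single j (1 : F) ≠ 0 := by
    intro h
    have := congrFun h i0
    simp [hj.symm] at this
  obtain ⟨a, b, hab⟩ := hP.col_par (e_ne_zero i0) (e_ne_zero j) (he i0) (he j) 1 x hne
  rw [one_smul] at hab hne
  have ha : a ≠ 0 := by
    intro ha
    rw [ha, zero_smul, zero_add] at hab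
    have hb : b ≠ 0 := by
      intro hb
      rw [hb, zero_smul] at hab
      exact hP.ne _ hne hab
    have h2 : Par (P (Pi.single i0 (1 : F) + x • Pi.single j (1 : F))) (Pi.single j (1 : F)) :=
      ⟨b, hb, hab⟩
    have h1 : Par (P (Pi.single i0 (1 : F) + x • Pi.single j (1 : F))) (P (Pi.single j (1 : F))) :=
      h2.trans (he j).symm
    obtain ⟨c, _, hc⟩ := hP.inj _ _ hne (e_ne_zero j) h1
    have := congrFun hc i0
    simp [hj.symm] at this
  refine ⟨b / a, a, ha, ?_⟩
  rw [hab, smul_add, smul_smul, mul_div_cancel₀ _ ha]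

theorem sg_unique {j : ι} (hj : j ≠ i0) {t t' : F}
    (h : Par (Pi.single i0 (1 : F) + t • Pi.single j (1 : F) : ι → F)
      (Pi.single i0 (1 : F) + t' • Pi.single j (1 : F))) : t = t' := by
  obtain ⟨c, _, hc⟩ := h
  have h0 := congrFun hc i0
  have h1 := congrFun hc j
  simp [hj.symm, hj] at h0 h1
  rw [← h0, one_mul] at h1
  exact h1


end normalized

theorem base_ne_zero {i0 : ι} (w : ι → F) (hw : w i0 = 0) :
    (Pi.single i0 (1 : F) : ι → F) + w ≠ 0 := by
  intro h
  have := congrFun h i0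
  simp [hw] at this

/-- normalised data: the base points and the unit points are fixed -/
structure NData (P : (ι → F) → (ι → F)) (i0 : ι) : Prop where
  coll : Coll P
  he : ∀ i, Par (P (Pi.single i (1 : F))) (Pi.single i (1 : F))
  h1 : ∀ j, j ≠ i0 → Par (P (Pi.single i0 (1 : F) + Pi.single j (1 : F)))
    (Pi.single i0 (1 : F) + Pi.single j (1 : F))

namespace NData

variable {P : (ι → F) → (ι → F)} {i0 : ι} (D : NData P i0)

include D

/-- the coordinate maps -/
noncomputable def sg (j : ι) (x : F) : F :=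
  if hj : j = i0 then 0 else Classical.choose (exists_sg D.coll i0 D.he hj x)

theorem sg_spec {j : ι} (hj : j ≠ i0) (x : F) :
    Par (P (Pi.single i0 (1 : F) + x • Pi.single j (1 : F)))
      (Pi.single i0 (1 : F) + D.sg j x • Pi.single j (1 : F)) := by
  unfold sg
  rw [dif_neg hj]
  exact Classical.choose_spec (exists_sg D.coll i0 D.he hj x)

theorem sg_i0 (x : F) : D.sg i0 x = 0 := by
  unfold sg
  rw [dif_pos rfl]

theorem sg_eq_of_par {j : ι} (hj : j ≠ i0) {x t : F}
    (h : Par (P (Pi.single i0 (1 : F) + x • Pi.single j (1 : F)))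
      (Pi.single i0 (1 : F) + t • Pi.single j (1 : F))) : D.sg j x = t :=
  sg_unique i0 hj ((D.sg_spec hj x).symm.trans h)

theorem sg_zero (j : ι) : D.sg j 0 = 0 := by
  by_cases hj : j = i0
  · rw [hj, sg_i0]
  · apply D.sg_eq_of_par hj
    rw [zero_smul, add_zero]
    exact D.he i0

theorem sg_one {j : ι} (hj : j ≠ i0) : D.sg j 1 = 1 := by
  apply D.sg_eq_of_par hj
  rw [one_smul]
  exact D.h1 j hj

theorem eq_zero_of_sg {j : ι} (hj : j ≠ i0) {x : F} (h : D.sg j x = 0) : x = 0 := by
  have h1 := D.sg_spec hj x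
  rw [h, zero_smul, add_zero] at h1
  have h2 := h1.trans (D.he i0).symm
  have hne : (Pi.single i0 (1 : F) : ι → F) + x • Pi.single j (1 : F) ≠ 0 :=
    base_ne_zero _ (by simp [hj.symm])
  obtain ⟨c, _, hc⟩ := D.coll.inj _ _ hne (e_ne_zero i0) h2
  have := congrFun hc j
  simpa [hj] using this

/-- the coordinatewise map -/
noncomputable def Sg (w : ι → F) : ι → F := fun i => D.sg i (w i)

theorem Sg_apply (w : ι → F) (i : ι) : D.Sg w i = D.sg i (w i) := rfl

theorem Sg_i0 (w : ι → F) : D.Sg w i0 = 0 := D.sg_i0 _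

theorem Sg_zero : D.Sg 0 = 0 := by
  ext i
  exact D.sg_zero i

theorem Sg_ne_zero {w : ι → F} (hw : w ≠ 0) (hw0 : w i0 = 0) : D.Sg w ≠ 0 := by
  intro h
  apply hw
  ext i
  by_cases hi : i = i0
  · rw [hi, hw0]; rfl
  · exact D.eq_zero_of_sg hi (congrFun h i)

/-- the hyperplane at infinity is preserved -/
theorem hyper {w : ι → F} (hw : w ≠ 0) (hw0 : w i0 = 0) : P w i0 = 0 := by
  let S : Set (ι → F) := (fun i => (Pi.single i (1 : F) : ι → F)) '' {i | i ≠ i0}
  have h1 : w ∈ Submodule.span F S := by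
    have : w = ∑ i, w i • (Pi.single i (1 : F) : ι → F) := by
      ext k
      simp [Finset.sum_apply, Pi.single_apply]
    rw [this]
    refine Submodule.sum_mem _ fun i _ => ?_
    by_cases hi : i = i0
    · rw [hi, hw0, zero_smul]; exact zero_mem _
    · exact Submodule.smul_mem _ _ (Submodule.subset_span ⟨i, hi, rfl⟩)
  have h2 := D.coll.span_map S h1 hw
  have h3 : Submodule.span F (P '' S) ≤ LinearMap.ker (LinearMap.proj (R := F) (φ := fun _ : ι => F) i0) := by
    rw [Submodule.span_le]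
    rintro _ ⟨_, ⟨i, hi, rfl⟩, rfl⟩
    obtain ⟨c, _, hc⟩ := D.he i
    show P (Pi.single i (1 : F)) i0 = 0
    rw [hc]
    simp [Ne.symm hi]
  exact h3 h2

/-- from the affine part to the hyperplane at infinity -/
theorem par_of_add {w s : ι → F} (hw : w ≠ 0) (hw0 : w i0 = 0) (hs0 : s i0 = 0)
    (h : Par (P (Pi.single i0 (1 : F) + w)) (Pi.single i0 (1 : F) + s)) : Par (P w) s := by
  have hne := base_ne_zero (F := F) w hw0
  have hw' : (-1 : F) • (Pi.single i0 (1 : F) : ι → F) + (1 : F) • (Pi.single i0 (1 : F) + w) = w := by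
    rw [one_smul, neg_one_smul, neg_add_cancel_left]
  have hne' : (-1 : F) • (Pi.single i0 (1 : F) : ι → F) + (1 : F) • (Pi.single i0 (1 : F) + w) ≠ 0 := by
    rwa [hw']
  obtain ⟨a, b, hab⟩ := D.coll.col_par (e_ne_zero i0) hne (D.he i0) h (-1) 1 hne'
  rw [hw'] at hab
  have h0 := congrFun hab i0
  rw [D.hyper hw hw0] at h0
  simp [hs0] at h0
  have ha : a = -b := by linear_combination -h0
  refine ⟨b, ?_, ?_⟩
  · intro hb
    rw [ha, hb] at hab
    simp at hab
    exact D.coll.ne w hw hab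
  · rw [hab, ha]
    ext k
    simp


open Classical in
/-- the affine part: induction on the size of the support -/
theorem main_ind : ∀ (n : ℕ) (w : ι → F), w i0 = 0 →
    (Finset.univ.filter fun i => w i ≠ 0).card = n →
    Par (P (Pi.single i0 (1 : F) + w)) (Pi.single i0 (1 : F) + D.Sg w) := by
  intro n
  induction n using Nat.strong_induction_on with
  | _ n ih =>
    intro w hw0 hcard
    by_cases hw : w = 0
    · rw [hw, D.Sg_zero, add_zero]
      exact D.he i0
    obtain ⟨k, hk⟩ : ∃ k, w k ≠ 0 := by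
      by_contra h
      push Not at h
      exact hw (funext h)
    have hki : k ≠ i0 := fun h => hk (h ▸ hw0)
    have hw'0 : Function.update w k 0 i0 = 0 := by
      rw [Function.update_of_ne (Ne.symm hki), hw0]
    have hw'k : Function.update w k 0 k = 0 := Function.update_self ..
    have hdec : w = Function.update w k 0 + w k • (Pi.single k (1 : F) : ι → F) := by
      ext i
      by_cases hi : i = k
      · subst hi
        simp
      · simp [hi]
    have hSg : D.Sg w = D.Sg (Function.update w k 0) + D.sg k (w k) • (Pi.single k (1 : F) : ι → F) := by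
      ext i
      by_cases hi : i = k
      · subst hi
        simp [Sg_apply, D.sg_zero]
      · simp [Sg_apply, hi]
    by_cases hw'z : Function.update w k 0 = 0
    · rw [hSg]
      conv_lhs => rw [hdec]
      rw [hw'z, D.Sg_zero, zero_add, zero_add]
      exact D.sg_spec hki (w k)
    · have hcard' : (Finset.univ.filter fun i => Function.update w k 0 i ≠ 0).card < n := by
        rw [← hcard]
        apply Finset.card_lt_card
        rw [Finset.ssubset_iff_of_subset]
        · refine ⟨k, by simp [hk], by simp⟩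
        · intro i hi
          rw [Finset.mem_filter] at hi ⊢
          refine ⟨hi.1, ?_⟩
          by_cases hik : i = k
          · rw [hik] at hi
            exact absurd hw'k hi.2
          · rw [Function.update_of_ne hik] at hi
            exact hi.2
      have ih' := ih _ hcard' (Function.update w k 0) hw'0 rfl
      have hpw' := D.par_of_add hw'z hw'0 (D.Sg_i0 _) ih'
      have e1 : (Pi.single i0 (1 : F) : ι → F) + w = (1 : F) • (Pi.single i0 (1 : F) + Function.update w k 0)
          + w k • (Pi.single k (1 : F) : ι → F) := by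
        rw [one_smul, add_assoc, ← hdec]
      have e2 : (Pi.single i0 (1 : F) : ι → F) + w = (1 : F) • (Pi.single i0 (1 : F) +
          w k • (Pi.single k (1 : F) : ι → F)) + (1 : F) • Function.update w k 0 := by
        rw [one_smul, one_smul, add_assoc, add_comm (w k • _), ← hdec]
      have hne := base_ne_zero (F := F) w hw0
      have hne1 := hne
      have hne2 := hne
      rw [e1] at hne1
      rw [e2] at hne2
      have hbk : ((Pi.single i0 (1 : F) : ι → F) + w k • (Pi.single k (1 : F) : ι → F)) ≠ 0 :=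
        base_ne_zero _ (by simp [hki.symm])
      obtain ⟨a, b, hab⟩ := D.coll.col_par (base_ne_zero _ hw'0) (e_ne_zero k) ih' (D.he k) 1 (w k) hne1
      obtain ⟨c, d, hcd⟩ := D.coll.col_par hbk hw'z (D.sg_spec hki (w k)) hpw' 1 1 hne2
      rw [← e1] at hab
      rw [← e2] at hcd
      have hSk : D.Sg (Function.update w k 0) k = 0 := by
        rw [Sg_apply, hw'k, D.sg_zero]
      have a0 := congrFun hab i0
      have ak := congrFun hab k
      have c0 := congrFun hcd i0
      have ck := congrFun hcd k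
      simp [D.Sg_i0, hki.symm] at a0 c0
      simp [hSk, hki] at ak ck
      have hac : a = c := by rw [← a0, c0]
      have hb : b = a * D.sg k (w k) := by rw [← ak, ck, hac]
      refine ⟨a, ?_, ?_⟩
      · intro ha
        rw [ha] at hb
        rw [ha, hb] at hab
        simp at hab
        exact D.coll.ne _ hne hab
      · rw [hab, hSg, hb]
        ext i
        simp
        ring

/-- the affine part -/
theorem par_affine (w : ι → F) (hw0 : w i0 = 0) :
    Par (P (Pi.single i0 (1 : F) + w)) (Pi.single i0 (1 : F) + D.Sg w) :=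
  D.main_ind _ w hw0 rfl

/-- the hyperplane at infinity -/
theorem par_infinity {w : ι → F} (hw : w ≠ 0) (hw0 : w i0 = 0) : Par (P w) (D.Sg w) :=
  D.par_of_add hw hw0 (D.Sg_i0 w) (D.par_affine w hw0)


/-- the auxiliary point `y e_j - e_k` at infinity -/
theorem par_aux {j k : ι} (hj : j ≠ i0) (hk : k ≠ i0) (hjk : j ≠ k) (y : F) :
    (y • (Pi.single j (1 : F) : ι → F) - Pi.single k (1 : F)) ≠ 0 ∧
    Par (P (y • (Pi.single j (1 : F) : ι → F) - Pi.single k (1 : F)))
      (D.sg j y • (Pi.single j (1 : F) : ι → F) + D.sg k (-1) • Pi.single k (1 : F)) := by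
  have hne : (y • (Pi.single j (1 : F) : ι → F) - Pi.single k (1 : F)) ≠ 0 := by
    intro h
    have := congrFun h k
    simp [hjk.symm] at this
  have h0 : (y • (Pi.single j (1 : F) : ι → F) - Pi.single k (1 : F) : ι → F) i0 = 0 := by
    simp [hj.symm, hk.symm]
  refine ⟨hne, ?_⟩
  have h := D.par_infinity hne h0
  have hS : D.Sg (y • (Pi.single j (1 : F) : ι → F) - Pi.single k (1 : F)) =
      D.sg j y • (Pi.single j (1 : F) : ι → F) + D.sg k (-1) • Pi.single k (1 : F) := by
    ext i
    rw [Sg_apply]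
    by_cases hij : i = j
    · subst hij
      simp [hjk]
    · by_cases hik : i = k
      · subst hik
        simp [hij]
      · simp [hij, hik, D.sg_zero]
  rwa [hS] at h

theorem relM {j k : ι} (hj : j ≠ i0) (hk : k ≠ i0) (hjk : j ≠ k) (x y : F) :
    D.sg j (x * y) * D.sg k (-1) = -(D.sg k x * D.sg j y) := by
  obtain ⟨hne2, hp2⟩ := D.par_aux hj hk hjk y
  have hne1 : ((Pi.single i0 (1 : F) : ι → F) + x • (Pi.single k (1 : F) : ι → F)) ≠ 0 :=
    base_ne_zero _ (by simp [hk.symm])
  have hv : (Pi.single i0 (1 : F) : ι → F) + (x * y) • (Pi.single j (1 : F) : ι → F) =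
      (1 : F) • ((Pi.single i0 (1 : F) : ι → F) + x • (Pi.single k (1 : F) : ι → F)) +
        x • (y • (Pi.single j (1 : F) : ι → F) - Pi.single k (1 : F)) := by
    rw [one_smul, smul_sub, smul_smul]
    abel
  have hne : (Pi.single i0 (1 : F) : ι → F) + (x * y) • (Pi.single j (1 : F) : ι → F) ≠ 0 :=
    base_ne_zero _ (by simp [hj.symm])
  have hne' := hne
  rw [hv] at hne'
  obtain ⟨a, b, hab⟩ := D.coll.col_par hne1 hne2 (D.sg_spec hk x) hp2 1 x hne'
  rw [← hv] at hab
  obtain ⟨c, hc, hcd⟩ := D.sg_spec hj (x * y)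
  rw [hcd] at hab
  have a0 := congrFun hab i0
  have ak := congrFun hab k
  have aj := congrFun hab j
  simp [hj.symm, hk.symm] at a0
  simp [hk, hjk.symm] at ak
  simp [hj, hjk] at aj
  have h1 : c * (D.sg j (x * y) * D.sg k (-1)) = c * -(D.sg k x * D.sg j y) := by
    linear_combination D.sg k (-1) * aj - D.sg j y * ak + (D.sg k x * D.sg j y) * a0
  exact mul_left_cancel₀ hc h1

theorem relA {j k : ι} (hj : j ≠ i0) (hk : k ≠ i0) (hjk : j ≠ k) (x y : F) :
    D.sg j (x + y) * D.sg k (-1) = D.sg j x * D.sg k (-1) - D.sg j y := by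
  obtain ⟨hne2, hp2⟩ := D.par_aux hj hk hjk y
  have hw0 : (x • (Pi.single j (1 : F) : ι → F) + Pi.single k (1 : F) : ι → F) i0 = 0 := by
    simp [hj.symm, hk.symm]
  have hne1 : ((Pi.single i0 (1 : F) : ι → F) + (x • (Pi.single j (1 : F) : ι → F) + Pi.single k (1 : F))) ≠ 0 :=
    base_ne_zero _ hw0
  have hp1 := D.par_affine _ hw0
  have hS : D.Sg (x • (Pi.single j (1 : F) : ι → F) + Pi.single k (1 : F)) =
      D.sg j x • (Pi.single j (1 : F) : ι → F) + Pi.single k (1 : F) := by
    ext i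
    rw [Sg_apply]
    by_cases hij : i = j
    · subst hij
      simp [hjk]
    · by_cases hik : i = k
      · subst hik
        simp [hij, D.sg_one hk]
      · simp [hij, hik, D.sg_zero]
  rw [hS] at hp1
  have hv : (Pi.single i0 (1 : F) : ι → F) + (x + y) • (Pi.single j (1 : F) : ι → F) =
      (1 : F) • ((Pi.single i0 (1 : F) : ι → F) + (x • (Pi.single j (1 : F) : ι → F) + Pi.single k (1 : F))) +
        (1 : F) • (y • (Pi.single j (1 : F) : ι → F) - Pi.single k (1 : F)) := by
    rw [one_smul, one_smul, add_smul]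
    abel
  have hne : (Pi.single i0 (1 : F) : ι → F) + (x + y) • (Pi.single j (1 : F) : ι → F) ≠ 0 :=
    base_ne_zero _ (by simp [hj.symm])
  have hne' := hne
  rw [hv] at hne'
  obtain ⟨a, b, hab⟩ := D.coll.col_par hne1 hne2 hp1 hp2 1 1 hne'
  rw [← hv] at hab
  obtain ⟨c, hc, hcd⟩ := D.sg_spec hj (x + y)
  rw [hcd] at hab
  have a0 := congrFun hab i0
  have ak := congrFun hab k
  have aj := congrFun hab j
  simp [hj.symm, hk.symm] at a0
  simp [hk, hjk.symm] at ak
  simp [hj, hjk] at aj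
  have h1 : c * (D.sg j (x + y) * D.sg k (-1)) = c * (D.sg j x * D.sg k (-1) - D.sg j y) := by
    linear_combination D.sg k (-1) * aj - D.sg j y * ak + (D.sg j y - D.sg j x * D.sg k (-1)) * a0
  exact mul_left_cancel₀ hc h1

theorem sg_neg_one {j k : ι} (hj : j ≠ i0) (hk : k ≠ i0) (hjk : j ≠ k) : D.sg k (-1) = -1 := by
  have h := D.relA hj hk hjk 0 1
  rw [zero_add, D.sg_one hj, D.sg_zero] at h
  linear_combination h

theorem sg_add {j k : ι} (hj : j ≠ i0) (hk : k ≠ i0) (hjk : j ≠ k) (x y : F) :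
    D.sg j (x + y) = D.sg j x + D.sg j y := by
  have h := D.relA hj hk hjk x y
  rw [D.sg_neg_one hj hk hjk] at h
  linear_combination -h

theorem sg_mul {j k : ι} (hj : j ≠ i0) (hk : k ≠ i0) (hjk : j ≠ k) (x y : F) :
    D.sg j (x * y) = D.sg k x * D.sg j y := by
  have h := D.relM hj hk hjk x y
  rw [D.sg_neg_one hj hk hjk] at h
  linear_combination -h

theorem sg_eq {j k : ι} (hj : j ≠ i0) (hk : k ≠ i0) (hjk : j ≠ k) (x : F) :
    D.sg j x = D.sg k x := by
  have h := D.sg_mul hj hk hjk x 1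
  rwa [mul_one, D.sg_one hj, mul_one] at h


/-- the normalised fundamental theorem -/
theorem exists_ringEquiv [Finite F] (h3 : 3 ≤ Fintype.card ι) :
    ∃ σ : F ≃+* F, ∀ v : ι → F, v ≠ 0 → Par (P v) (fun i => σ (v i)) := by
  -- two further indices
  obtain ⟨j0, k0, hj0, hk0, hjk0⟩ : ∃ j k : ι, j ≠ i0 ∧ k ≠ i0 ∧ j ≠ k := by
    obtain ⟨a, b, c, hab, hac, hbc⟩ := Fintype.two_lt_card_iff.1 (by omega : 2 < Fintype.card ι)
    by_cases ha : a = i0
    · exact ⟨b, c, fun h => hab (ha.trans h.symm), fun h => hac (ha.trans h.symm), hbc⟩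
    · by_cases hb : b = i0
      · exact ⟨a, c, ha, fun h => hbc (hb.trans h.symm), hac⟩
      · exact ⟨a, b, ha, hb, hab⟩
  let τ : F →+* F :=
    { toFun := D.sg j0
      map_one' := D.sg_one hj0
      map_mul' := fun x y => by
        rw [D.sg_mul hj0 hk0 hjk0, D.sg_eq hk0 hj0 hjk0.symm]
      map_zero' := D.sg_zero j0
      map_add' := D.sg_add hj0 hk0 hjk0 }
  have hτ : Function.Bijective τ := by
    rw [← Finite.injective_iff_bijective]
    exact τ.injective
  let σ : F ≃+* F := RingEquiv.ofBijective τ hτ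
  have hσ : ∀ x, σ x = D.sg j0 x := fun x => rfl
  have hall : ∀ j, j ≠ i0 → ∀ x, D.sg j x = σ x := by
    intro j hj x
    by_cases hjj : j = j0
    · rw [hjj, hσ]
    · rw [hσ, D.sg_eq hj hj0 hjj]
  have hSg : ∀ w : ι → F, w i0 = 0 → D.Sg w = fun i => σ (w i) := by
    intro w hw0
    ext i
    rw [Sg_apply]
    by_cases hi : i = i0
    · rw [hi, D.sg_i0, hw0, map_zero]
    · exact hall i hi _
  refine ⟨σ, fun v hv => ?_⟩
  by_cases hv0 : v i0 = 0
  · have := D.par_infinity hv hv0
    rwa [hSg v hv0] at this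
  · -- rescale
    have hw0 : ((v i0)⁻¹ • v - Pi.single i0 (1 : F) : ι → F) i0 = 0 := by
      simp [hv0]
    have hvw : v = v i0 • ((Pi.single i0 (1 : F) : ι → F) + ((v i0)⁻¹ • v - Pi.single i0 (1 : F))) := by
      rw [add_sub_cancel, smul_smul, mul_inv_cancel₀ hv0, one_smul]
    have h1 := D.par_affine _ hw0
    rw [hSg _ hw0] at h1
    have h2 : Par (P v) (P ((Pi.single i0 (1 : F) : ι → F) + ((v i0)⁻¹ • v - Pi.single i0 (1 : F)))) := by
      conv_lhs => rw [hvw]
      exact D.coll.par_smul' (base_ne_zero _ hw0) hv0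
    refine (h2.trans h1).trans ⟨(σ (v i0))⁻¹, inv_ne_zero ?_, ?_⟩
    · rw [Ne, map_eq_zero]
      exact hv0
    · ext i
      by_cases hi : i = i0
      · subst hi
        simp [hv0]
      · simp [hi]

end NData

/-- invertible diagonal matrices -/
def dGL (d : ι → F) (hd : ∀ i, d i ≠ 0) : GL ι F :=
  ⟨Matrix.diagonal d, Matrix.diagonal fun j => (d j)⁻¹, by
    rw [Matrix.diagonal_mul_diagonal]
    simp [hd], by
    rw [Matrix.diagonal_mul_diagonal]
    simp [hd]⟩

theorem dGL_coe (d : ι → F) (hd : ∀ i, d i ≠ 0) :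
    ((dGL d hd : GL ι F) : Matrix ι ι F) = Matrix.diagonal d := rfl

theorem dGL_inv_coe (d : ι → F) (hd : ∀ i, d i ≠ 0) :
    (((dGL d hd)⁻¹ : GL ι F) : Matrix ι ι F) = Matrix.diagonal fun j => (d j)⁻¹ := rfl

theorem gl_inv_mulVec (g : GL ι F) (y : ι → F) :
    ((g⁻¹ : GL ι F) : Matrix ι ι F) *ᵥ ((g : Matrix ι ι F) *ᵥ y) = y := by
  rw [Matrix.mulVec_mulVec, ← Units.val_mul, inv_mul_cancel, Units.val_one, Matrix.one_mulVec]

theorem gl_mulVec_inv (g : GL ι F) (y : ι → F) :
    (g : Matrix ι ι F) *ᵥ (((g⁻¹ : GL ι F) : Matrix ι ι F) *ᵥ y) = y := by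
  rw [Matrix.mulVec_mulVec, ← Units.val_mul, mul_inv_cancel, Units.val_one, Matrix.one_mulVec]

/-- first normalisation: the base points -/
theorem exists_gl_base {P : (ι → F) → (ι → F)} (hP : Coll P) :
    ∃ g0 : GL ι F, ∀ i, ((g0⁻¹ : GL ι F) : Matrix ι ι F) *ᵥ P (Pi.single i (1 : F)) =
      Pi.single i (1 : F) := by
  have hspan : Submodule.span F (P '' Set.range fun i => (Pi.single i (1 : F) : ι → F)) = ⊤ := by
    rw [eq_top_iff]
    intro y _
    by_cases hy : y = 0
    · rw [hy]
      exact zero_mem _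
    obtain ⟨v, hv, c, hc, hvy⟩ := hP.surj y hy
    have h1 : v ∈ Submodule.span F (Set.range fun i => (Pi.single i (1 : F) : ι → F)) := by
      have := (Pi.basisFun F ι).span_eq
      have h2 : Set.range (Pi.basisFun F ι) = Set.range fun i => (Pi.single i (1 : F) : ι → F) := by
        congr 1
        ext i
        simp
      rw [h2] at this
      rw [this]
      trivial
    have h2 := hP.span_map _ h1 hv
    have h3 : y = c⁻¹ • P v := by
      rw [hvy, smul_smul, inv_mul_cancel₀ hc, one_smul]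
    rw [h3]
    exact Submodule.smul_mem _ _ h2
  let G0 : Matrix ι ι F := Matrix.of fun r i => P (Pi.single i (1 : F)) r
  have hG0 : ∀ i, G0 *ᵥ (Pi.single i (1 : F)) = P (Pi.single i (1 : F)) := by
    intro i
    rw [Matrix.mulVec_single_one]
    rfl
  have hG0u : IsUnit G0 := by
    rw [← Matrix.mulVec_surjective_iff_isUnit]
    intro y
    have hy : y ∈ Submodule.span F (P '' Set.range fun i => (Pi.single i (1 : F) : ι → F)) := by
      rw [hspan]
      trivial
    rw [← Set.range_comp, Submodule.mem_span_range_iff_exists_fun] at hy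
    obtain ⟨c, hc⟩ := hy
    refine ⟨c, ?_⟩
    rw [← hc]
    have : c = ∑ i, c i • (Pi.single i (1 : F) : ι → F) := by
      ext k
      simp [Finset.sum_apply, Pi.single_apply]
    conv_lhs => rw [this]
    rw [Matrix.mulVec_sum]
    refine Finset.sum_congr rfl fun i _ => ?_
    rw [Matrix.mulVec_smul, hG0]
    rfl
  obtain ⟨g0, hg0⟩ := hG0u
  refine ⟨g0, fun i => ?_⟩
  rw [← hG0 i, ← hg0, gl_inv_mulVec]

/-- the unit points, when the base points are fixed -/
theorem exists_unit_coeff {P : (ι → F) → (ι → F)} (hP : Coll P)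
    (he : ∀ i, P (Pi.single i (1 : F)) = Pi.single i (1 : F)) {i0 j : ι} (hj : j ≠ i0) :
    ∃ a b : F, a ≠ 0 ∧ b ≠ 0 ∧ P ((Pi.single i0 (1 : F) : ι → F) + Pi.single j (1 : F)) =
        a • (Pi.single i0 (1 : F) : ι → F) + b • (Pi.single j (1 : F) : ι → F) := by
  have hne : (1 : F) • (Pi.single i0 (1 : F) : ι → F) + (1 : F) • (Pi.single j (1 : F) : ι → F) ≠ 0 := by
    rw [one_smul]
    exact base_ne_zero _ (by simp [hj.symm])
  obtain ⟨a, b, hab⟩ := hP.col _ _ (e_ne_zero i0) (e_ne_zero j) 1 1 hne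
  rw [he, he] at hab
  rw [one_smul, one_smul] at hab hne
  have ha : a ≠ 0 := by
    intro ha
    rw [ha, zero_smul, zero_add] at hab
    have hb : b ≠ 0 := by
      intro hb
      rw [hb, zero_smul] at hab
      exact hP.ne _ hne hab
    have h1 : Par (P ((Pi.single i0 (1 : F) : ι → F) + Pi.single j (1 : F)))
        (P (Pi.single j (1 : F))) := by
      rw [he]
      exact ⟨b, hb, hab⟩
    obtain ⟨c, _, hc⟩ := hP.inj _ _ hne (e_ne_zero j) h1
    have := congrFun hc i0
    simp [hj.symm] at this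
  have hb : b ≠ 0 := by
    intro hb
    rw [hb, zero_smul, add_zero] at hab
    have h1 : Par (P ((Pi.single i0 (1 : F) : ι → F) + Pi.single j (1 : F)))
        (P (Pi.single i0 (1 : F))) := by
      rw [he]
      exact ⟨a, ha, hab⟩
    obtain ⟨c, _, hc⟩ := hP.inj _ _ hne (e_ne_zero i0) h1
    have := congrFun hc j
    simp [hj] at this
  exact ⟨a, b, ha, hb, hab⟩

/-- the theorem when the base points are fixed -/
theorem ftpg_of_base [Finite F] (h3 : 3 ≤ Fintype.card ι) {P : (ι → F) → (ι → F)} (hP : Coll P)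
    (he : ∀ i, P (Pi.single i (1 : F)) = Pi.single i (1 : F)) :
    ∃ (g : GL ι F) (σ : F ≃+* F), ∀ v : ι → F, v ≠ 0 →
      Par (P v) ((g : Matrix ι ι F) *ᵥ fun i => σ (v i)) := by
  have hne : Nonempty ι := by
    rw [← Fintype.card_pos_iff]
    omega
  obtain ⟨i0⟩ := hne
  have hunit := fun j (hj : j ≠ i0) => exists_unit_coeff hP he hj
  choose! a b ha hb hab using hunit
  let d : ι → F := fun j => if j = i0 then 1 else b j / a j
  have hd : ∀ j, d j ≠ 0 := by
    intro j
    by_cases hj : j = i0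
    · simp [d, hj]
    · simp only [d, if_neg hj]
      exact div_ne_zero (hb j hj) (ha j hj)
  have hd0 : d i0 = 1 := by simp [d]
  have hdj : ∀ j, j ≠ i0 → d j = b j / a j := fun j hj => by simp [d, hj]
  have hP2 := hP.mulVec (dGL d hd)⁻¹
  have D : NData (fun v => (((dGL d hd)⁻¹ : GL ι F) : Matrix ι ι F) *ᵥ P v) i0 := by
    refine ⟨hP2, fun i => ?_, fun j hj => ?_⟩
    · refine ⟨(d i)⁻¹, inv_ne_zero (hd i), ?_⟩
      show (((dGL d hd)⁻¹ : GL ι F) : Matrix ι ι F) *ᵥ P (Pi.single i (1 : F)) = _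
      rw [he, dGL_inv_coe]
      ext k
      rw [Matrix.mulVec_diagonal]
      by_cases hki : k = i
      · subst hki
        simp
      · simp [hki]
    · refine ⟨a j, ha j hj, ?_⟩
      show (((dGL d hd)⁻¹ : GL ι F) : Matrix ι ι F) *ᵥ
        P ((Pi.single i0 (1 : F) : ι → F) + Pi.single j (1 : F)) = _
      rw [hab j hj, dGL_inv_coe]
      ext k
      rw [Matrix.mulVec_diagonal]
      by_cases hk0 : k = i0
      · subst hk0
        simp [hd0, hj.symm]
      · by_cases hkj : k = j
        · subst hkj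
          have h1 := ha k hj
          have h2 := hb k hj
          simp [hdj k hj, hk0]
          field_simp
        · simp [hk0, hkj]
  obtain ⟨σ, hσ⟩ := D.exists_ringEquiv h3
  refine ⟨dGL d hd, σ, fun v hv => ?_⟩
  have h1 := (hσ v hv).mulVec ((dGL d hd : GL ι F) : Matrix ι ι F)
  rwa [gl_mulVec_inv] at h1

/-- **Fundamental theorem of projective geometry** (finite field, dimension at least three) -/
theorem ftpg [Finite F] (h3 : 3 ≤ Fintype.card ι) {P : (ι → F) → (ι → F)} (hP : Coll P) :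
    ∃ (g : GL ι F) (σ : F ≃+* F), ∀ v : ι → F, v ≠ 0 →
      Par (P v) ((g : Matrix ι ι F) *ᵥ fun i => σ (v i)) := by
  obtain ⟨g0, hg0⟩ := exists_gl_base hP
  obtain ⟨g, σ, hg⟩ := ftpg_of_base h3 (hP.mulVec g0⁻¹) hg0
  refine ⟨g0 * g, σ, fun v hv => ?_⟩
  have h1 := (hg v hv).mulVec (g0 : Matrix ι ι F)
  rw [gl_mulVec_inv, Matrix.mulVec_mulVec, ← Units.val_mul] at h1
  exact h1

end Cfsg.Agent.Lib.Helper18.FTPG
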