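import Mathlib
import Cfsg.Prelude.Def_LieTypeDatum
import Cfsg.Agent.Lib.Helper5.Symp
import Cfsg.Agent.Lib.Helper15.FieldExt
import Cfsg.Agent.S0246

/-!
Automorphisms of `PSp_{2m}(F)`: the quotient map, equality in `PSp`, conjugation by conformal
symplectic matrices and field automorphisms (helper18).
-/

set_option autoImplicit false
set_option linter.unusedSectionVars false

namespace Cfsg.Agent.Lib.Helper18.PSpAut

open Matrix Cfsg.Agent.Lib.Helper5

variable {m : ℕ} {F : Type*} [Field F]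

/-- the quotient map `Sp_{2m}(F) → PSp_{2m}(F)` -/
def pi : symplecticGroup (Fin m) F →* Cfsg.PSp m F :=
  QuotientGroup.mk' _

theorem pi_surjective : Function.Surjective (pi (m := m) (F := F)) :=
  QuotientGroup.mk'_surjective _

theorem pi_eq_one_iff (x : symplecticGroup (Fin m) F) :
    pi x = 1 ↔ x ∈ Subgroup.center (symplecticGroup (Fin m) F) :=
  QuotientGroup.eq_one_iff x

/-- minus the identity -/
def negOne : symplecticGroup (Fin m) F :=
  ⟨-1, SymplecticGroup.neg_mem (one_mem _)⟩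

theorem negOne_coe : ((negOne : symplecticGroup (Fin m) F) :
    Matrix (Fin m ⊕ Fin m) (Fin m ⊕ Fin m) F) = -1 := rfl

theorem negOne_mem_center : (negOne : symplecticGroup (Fin m) F) ∈
    Subgroup.center (symplecticGroup (Fin m) F) := by
  rw [Subgroup.mem_center_iff]
  intro g
  apply Subtype.ext
  show (g : Matrix (Fin m ⊕ Fin m) (Fin m ⊕ Fin m) F) * (-1) =
    (-1) * (g : Matrix (Fin m ⊕ Fin m) (Fin m ⊕ Fin m) F)
  rw [Matrix.mul_neg, Matrix.neg_mul, Matrix.mul_one, Matrix.one_mul]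

/-- equality in `PSp`: the matrices agree up to sign -/
theorem pi_eq_iff (hm : 1 ≤ m) (x y : symplecticGroup (Fin m) F) :
    pi x = pi y ↔ (y : Matrix (Fin m ⊕ Fin m) (Fin m ⊕ Fin m) F) = x ∨
      (y : Matrix (Fin m ⊕ Fin m) (Fin m ⊕ Fin m) F) = -(x : Matrix (Fin m ⊕ Fin m) (Fin m ⊕ Fin m) F) := by
  constructor
  · intro h
    have h1 : x⁻¹ * y ∈ Subgroup.center (symplecticGroup (Fin m) F) := QuotientGroup.eq.mp h
    have h2 : y = x * (x⁻¹ * y) := by group
    have h3 : (y : Matrix (Fin m ⊕ Fin m) (Fin m ⊕ Fin m) F) =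
        (x : Matrix (Fin m ⊕ Fin m) (Fin m ⊕ Fin m) F) *
          ((x⁻¹ * y : symplecticGroup (Fin m) F) : Matrix (Fin m ⊕ Fin m) (Fin m ⊕ Fin m) F) := by
      conv_lhs => rw [h2]
      rfl
    rcases Cfsg.Agent.S0246.center_scalar m hm _ h1 with h4 | h4
    · left
      rw [h3, h4, Matrix.mul_one]
    · right
      rw [h3, h4, Matrix.mul_neg, Matrix.mul_one]
  · rintro (h | h)
    · have : y = x := Subtype.ext h
      rw [this]
    · have h1 : y = negOne * x := by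
        apply Subtype.ext
        show (y : Matrix (Fin m ⊕ Fin m) (Fin m ⊕ Fin m) F) =
          (-1) * (x : Matrix (Fin m ⊕ Fin m) (Fin m ⊕ Fin m) F)
        rw [h, Matrix.neg_mul, Matrix.one_mul]
      rw [h1, map_mul, (pi_eq_one_iff _).mpr negOne_mem_center, one_mul]

/-- an automorphism of `Sp` induces an automorphism of `PSp` -/
noncomputable def liftAut (e : symplecticGroup (Fin m) F ≃* symplecticGroup (Fin m) F) :
    Cfsg.PSp m F ≃* Cfsg.PSp m F :=
  QuotientGroup.congr _ _ e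
    (Subgroup.characteristic_iff_map_eq.mp Subgroup.centerCharacteristic e)

theorem liftAut_pi (e : symplecticGroup (Fin m) F ≃* symplecticGroup (Fin m) F)
    (x : symplecticGroup (Fin m) F) : liftAut e (pi x) = pi (e x) := rfl

theorem gl_inv_mul (g : GL (Fin m ⊕ Fin m) F) :
    ((g⁻¹ : GL (Fin m ⊕ Fin m) F) : Matrix (Fin m ⊕ Fin m) (Fin m ⊕ Fin m) F) *
      (g : Matrix (Fin m ⊕ Fin m) (Fin m ⊕ Fin m) F) = 1 := by
  rw [← Units.val_mul, inv_mul_cancel, Units.val_one]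

theorem gl_mul_inv (g : GL (Fin m ⊕ Fin m) F) :
    (g : Matrix (Fin m ⊕ Fin m) (Fin m ⊕ Fin m) F) *
      ((g⁻¹ : GL (Fin m ⊕ Fin m) F) : Matrix (Fin m ⊕ Fin m) (Fin m ⊕ Fin m) F) = 1 := by
  rw [← Units.val_mul, mul_inv_cancel, Units.val_one]

/-- conjugates of symplectic matrices by conformal symplectic matrices are symplectic -/
theorem conj_mem {g : GL (Fin m ⊕ Fin m) F} (hg : g ∈ Cfsg.GSp m F)
    (s : symplecticGroup (Fin m) F) :
    (g : Matrix (Fin m ⊕ Fin m) (Fin m ⊕ Fin m) F) * (s : Matrix (Fin m ⊕ Fin m) (Fin m ⊕ Fin m) F) *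
      ((g⁻¹ : GL (Fin m ⊕ Fin m) F) : Matrix (Fin m ⊕ Fin m) (Fin m ⊕ Fin m) F) ∈
        symplecticGroup (Fin m) F := by
  apply Cfsg.Agent.Lib.Helper15.mem_symplectic_of_preserves
  intro u v
  obtain ⟨c, hc⟩ := hg
  have h1 := hc (((g⁻¹ : GL (Fin m ⊕ Fin m) F) : Matrix (Fin m ⊕ Fin m) (Fin m ⊕ Fin m) F) *ᵥ u)
    (((g⁻¹ : GL (Fin m ⊕ Fin m) F) : Matrix (Fin m ⊕ Fin m) (Fin m ⊕ Fin m) F) *ᵥ v)
  rw [Matrix.mulVec_mulVec, Matrix.mulVec_mulVec, gl_mul_inv, Matrix.one_mulVec,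
    Matrix.one_mulVec] at h1
  rw [← Matrix.mulVec_mulVec, ← Matrix.mulVec_mulVec, ← Matrix.mulVec_mulVec,
    ← Matrix.mulVec_mulVec, hc, sympForm_mulVec_of_mem s.2, ← h1]

/-- conjugation by a conformal symplectic matrix, on symplectic matrices -/
def conjMat (g : Cfsg.GSp m F) (s : symplecticGroup (Fin m) F) : symplecticGroup (Fin m) F :=
  ⟨_, conj_mem g.2 s⟩

theorem conjMat_coe (g : Cfsg.GSp m F) (s : symplecticGroup (Fin m) F) :
    (conjMat g s : Matrix (Fin m ⊕ Fin m) (Fin m ⊕ Fin m) F) =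
      ((g : GL (Fin m ⊕ Fin m) F) : Matrix (Fin m ⊕ Fin m) (Fin m ⊕ Fin m) F) *
      (s : Matrix (Fin m ⊕ Fin m) (Fin m ⊕ Fin m) F) *
      (((g : GL (Fin m ⊕ Fin m) F)⁻¹ : GL (Fin m ⊕ Fin m) F) :
        Matrix (Fin m ⊕ Fin m) (Fin m ⊕ Fin m) F) := rfl

theorem conjMat_mul (g : Cfsg.GSp m F) (s t : symplecticGroup (Fin m) F) :
    conjMat g (s * t) = conjMat g s * conjMat g t := by
  apply Subtype.ext
  show _ = (conjMat g s : Matrix (Fin m ⊕ Fin m) (Fin m ⊕ Fin m) F) *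
    (conjMat g t : Matrix (Fin m ⊕ Fin m) (Fin m ⊕ Fin m) F)
  rw [conjMat_coe, conjMat_coe, conjMat_coe]
  show ((g : GL (Fin m ⊕ Fin m) F) : Matrix (Fin m ⊕ Fin m) (Fin m ⊕ Fin m) F) *
    ((s : Matrix (Fin m ⊕ Fin m) (Fin m ⊕ Fin m) F) * (t : Matrix (Fin m ⊕ Fin m) (Fin m ⊕ Fin m) F)) *
    _ = _
  calc ((g : GL (Fin m ⊕ Fin m) F) : Matrix (Fin m ⊕ Fin m) (Fin m ⊕ Fin m) F) *
        ((s : Matrix (Fin m ⊕ Fin m) (Fin m ⊕ Fin m) F) * t) * ((g : GL (Fin m ⊕ Fin m) F)⁻¹ : GL (Fin m ⊕ Fin m) F)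
      = ((g : GL (Fin m ⊕ Fin m) F) : Matrix (Fin m ⊕ Fin m) (Fin m ⊕ Fin m) F) * s * 1 * t *
          ((g : GL (Fin m ⊕ Fin m) F)⁻¹ : GL (Fin m ⊕ Fin m) F) := by
        simp only [Matrix.mul_assoc, Matrix.one_mul]
    _ = _ := by
        rw [← gl_inv_mul (g : GL (Fin m ⊕ Fin m) F)]
        simp only [Matrix.mul_assoc]

theorem conjMat_conjMat (g h : Cfsg.GSp m F) (s : symplecticGroup (Fin m) F) :
    conjMat g (conjMat h s) = conjMat (g * h) s := by
  apply Subtype.ext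
  rw [conjMat_coe, conjMat_coe, conjMat_coe, Subgroup.coe_mul, _root_.mul_inv_rev, Units.val_mul,
    Units.val_mul]
  simp only [Matrix.mul_assoc]

theorem conjMat_one (s : symplecticGroup (Fin m) F) : conjMat 1 s = s := by
  apply Subtype.ext
  rw [conjMat_coe, Subgroup.coe_one, inv_one, Units.val_one, Matrix.one_mul, Matrix.mul_one]

/-- conjugation by a conformal symplectic matrix as an automorphism of `Sp` -/
def conjS (g : Cfsg.GSp m F) : symplecticGroup (Fin m) F ≃* symplecticGroup (Fin m) F where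
  toFun := conjMat g
  invFun := conjMat g⁻¹
  left_inv s := by rw [conjMat_conjMat, inv_mul_cancel, conjMat_one]
  right_inv s := by rw [conjMat_conjMat, mul_inv_cancel, conjMat_one]
  map_mul' := conjMat_mul g

/-- conjugation by a conformal symplectic matrix as an automorphism of `PSp` -/
noncomputable def conjA (g : Cfsg.GSp m F) : Cfsg.PSp m F ≃* Cfsg.PSp m F :=
  liftAut (conjS g)

theorem conjA_pi (g : Cfsg.GSp m F) (x : symplecticGroup (Fin m) F) :
    conjA g (pi x) = pi (conjMat g x) := rfl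

theorem conjA_mul (g h : Cfsg.GSp m F) (x : Cfsg.PSp m F) :
    conjA (g * h) x = conjA g (conjA h x) := by
  obtain ⟨x, rfl⟩ := pi_surjective x
  rw [conjA_pi, conjA_pi, conjA_pi, conjMat_conjMat]

theorem conjA_one (x : Cfsg.PSp m F) : conjA (1 : Cfsg.GSp m F) x = x := by
  obtain ⟨x, rfl⟩ := pi_surjective x
  rw [conjA_pi, conjMat_one]

theorem conjA_symm (g : Cfsg.GSp m F) : (conjA g).symm = conjA g⁻¹ := by
  ext x
  apply (conjA g).injective
  rw [MulEquiv.apply_symm_apply, ← conjA_mul, mul_inv_cancel, conjA_one]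

/-- conjugation as a homomorphism into the automorphism group -/
noncomputable def conjAHom : Cfsg.GSp m F →* MulAut (Cfsg.PSp m F) where
  toFun := conjA
  map_one' := by
    ext x
    exact conjA_one x
  map_mul' g h := by
    ext x
    exact conjA_mul g h x

theorem conjAHom_apply (g : Cfsg.GSp m F) : conjAHom g = conjA g := rfl

/-- the field automorphism of `Sp` -/
def fieldS (κ : F ≃+* F) : symplecticGroup (Fin m) F ≃* symplecticGroup (Fin m) F where
  toFun s := ⟨(s : Matrix (Fin m ⊕ Fin m) (Fin m ⊕ Fin m) F).map κ, SymplecticGroup.map_mem s.2 κ⟩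
  invFun s := ⟨(s : Matrix (Fin m ⊕ Fin m) (Fin m ⊕ Fin m) F).map κ.symm,
    SymplecticGroup.map_mem s.2 κ.symm⟩
  left_inv s := by
    apply Subtype.ext
    ext i j
    show κ.symm (κ ((s : Matrix (Fin m ⊕ Fin m) (Fin m ⊕ Fin m) F) i j)) = _
    rw [RingEquiv.symm_apply_apply]
  right_inv s := by
    apply Subtype.ext
    ext i j
    show κ (κ.symm ((s : Matrix (Fin m ⊕ Fin m) (Fin m ⊕ Fin m) F) i j)) = _
    rw [RingEquiv.apply_symm_apply]
  map_mul' s t := by
    apply Subtype.ext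
    show ((s : Matrix (Fin m ⊕ Fin m) (Fin m ⊕ Fin m) F) *
      (t : Matrix (Fin m ⊕ Fin m) (Fin m ⊕ Fin m) F)).map κ = _
    rw [Matrix.map_mul]
    rfl

theorem fieldS_coe (κ : F ≃+* F) (s : symplecticGroup (Fin m) F) :
    ((fieldS κ s : symplecticGroup (Fin m) F) : Matrix (Fin m ⊕ Fin m) (Fin m ⊕ Fin m) F) =
      (s : Matrix (Fin m ⊕ Fin m) (Fin m ⊕ Fin m) F).map κ := rfl

/-- the field automorphism of `PSp` -/
noncomputable def fieldA (κ : F ≃+* F) : Cfsg.PSp m F ≃* Cfsg.PSp m F :=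
  liftAut (fieldS κ)

theorem fieldA_pi (κ : F ≃+* F) (x : symplecticGroup (Fin m) F) :
    fieldA κ (pi x) = pi (fieldS κ x) := rfl

theorem isStdField_fieldA (κ : F ≃+* F) : Cfsg.IsStdFieldAutPSp κ (fieldA (m := m) κ) := by
  intro s s' h
  change fieldA κ (pi s) = pi s'
  rw [fieldA_pi]
  congr 1
  apply Subtype.ext
  rw [h, fieldS_coe]

/-- uniqueness of the standard field automorphism -/
theorem isStdField_iff (κ : F ≃+* F) (β : Cfsg.PSp m F ≃* Cfsg.PSp m F) :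
    Cfsg.IsStdFieldAutPSp κ β ↔ β = fieldA κ := by
  constructor
  · intro h
    ext x
    obtain ⟨x, rfl⟩ := pi_surjective x
    exact h x (fieldS κ x) (fieldS_coe κ x)
  · rintro rfl
    exact isStdField_fieldA κ

/-- the semilinear automorphisms -/
theorem isInduced_iff (g : Cfsg.GSp m F) (κ : F ≃+* F) (β : Cfsg.PSp m F ≃* Cfsg.PSp m F) :
    Cfsg.IsInducedBySemilinearPSp (g : GL (Fin m ⊕ Fin m) F) κ β ↔
      ∀ x, β x = conjA g (fieldA κ x) := by
  constructor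
  · intro h x
    obtain ⟨x, rfl⟩ := pi_surjective x
    exact h x (conjMat g (fieldS κ x)) (by rw [conjMat_coe, fieldS_coe])
  · intro h s s' hs
    change β (pi s) = pi s'
    rw [h, fieldA_pi, conjA_pi]
    congr 1
    apply Subtype.ext
    rw [hs, conjMat_coe, fieldS_coe]

theorem fieldA_refl (x : Cfsg.PSp m F) : fieldA (RingEquiv.refl F) x = x := by
  obtain ⟨x, rfl⟩ := pi_surjective x
  rw [fieldA_pi]
  congr 1

theorem isInnerDiagonal_conjA (g : Cfsg.GSp m F) : Cfsg.IsInnerDiagonalAutPSp (conjA g) := by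
  refine ⟨g, g.2, ?_⟩
  rw [isInduced_iff g]
  intro x
  rw [fieldA_refl]

theorem isInnerDiagonal_iff (β : Cfsg.PSp m F ≃* Cfsg.PSp m F) :
    Cfsg.IsInnerDiagonalAutPSp β ↔ ∃ g : Cfsg.GSp m F, β = conjA g := by
  constructor
  · rintro ⟨g, hg, h⟩
    refine ⟨⟨g, hg⟩, ?_⟩
    ext x
    have h1 := (isInduced_iff ⟨g, hg⟩ (RingEquiv.refl F) β).1 h x
    rw [h1, fieldA_refl]
  · rintro ⟨g, rfl⟩
    exact isInnerDiagonal_conjA g

end Cfsg.Agent.Lib.Helper18.PSpAut
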