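import Mathlib
import Cfsg.Agent.Lib.Helper18.PSpAutA
import Cfsg.Agent.Lib.Helper18.FTPG
import Cfsg.Agent.Lib.Helper14.PSpSimple

/-!
Transvection subgroups of `PSp_{2m}(F)`: equality, commuting, conjugation (helper18).
-/

set_option autoImplicit false
set_option linter.unusedSectionVars false

namespace Cfsg.Agent.Lib.Helper18.PSpAut

open Matrix Cfsg.Agent.Lib.Helper5 Cfsg.Agent.Lib.Helper14.SpPerfect
  Cfsg.Agent.Lib.Helper14.PSpSimple Cfsg.Agent.Lib.Helper18.FTPG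

variable {m : ℕ} {F : Type*} [Field F]

/-- a nonzero vector orthogonal to two given vectors -/
theorem exists_perp_pair (hm : 2 ≤ m) (u v : Fin m ⊕ Fin m → F) :
    ∃ x : Fin m ⊕ Fin m → F, x ≠ 0 ∧ Cfsg.sympForm m F x u = 0 ∧ Cfsg.sympForm m F x v = 0 := by
  let M : Matrix (Fin 2) (Fin m ⊕ Fin m) F := Matrix.of ![J (Fin m) F *ᵥ u, J (Fin m) F *ᵥ v]
  have hlt : Module.finrank F (Fin 2 → F) < Module.finrank F (Fin m ⊕ Fin m → F) := by
    rw [Module.finrank_fin_fun, Module.finrank_pi]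
    simp
    omega
  have hker := LinearMap.ker_ne_bot_of_finrank_lt (f := Matrix.mulVecLin M) hlt
  rw [Submodule.ne_bot_iff] at hker
  obtain ⟨x, hx, hx0⟩ := hker
  refine ⟨x, hx0, ?_, ?_⟩
  · have := congrFun (LinearMap.mem_ker.1 hx) 0
    rw [Matrix.mulVecLin_apply] at this
    have h0 : (M *ᵥ x) 0 = (J (Fin m) F *ᵥ u) ⬝ᵥ x := rfl
    unfold Cfsg.sympForm
    rw [dotProduct_comm, ← h0, this]
    rfl
  · have := congrFun (LinearMap.mem_ker.1 hx) 1
    rw [Matrix.mulVecLin_apply] at this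
    have h0 : (M *ᵥ x) 1 = (J (Fin m) F *ᵥ v) ⬝ᵥ x := rfl
    unfold Cfsg.sympForm
    rw [dotProduct_comm, ← h0, this]
    rfl

/-- the transvection subgroup of `PSp` with centre `v` -/
def TS (v : Fin m ⊕ Fin m → F) : Subgroup (Cfsg.PSp m F) := (rootSubgroup v).map pi

theorem mem_TS (v : Fin m ⊕ Fin m → F) (x : Cfsg.PSp m F) :
    x ∈ TS v ↔ ∃ c : F, x = pi (Tr v c) := by
  constructor
  · rintro ⟨_, ⟨c, rfl⟩, rfl⟩
    exact ⟨c, rfl⟩
  · rintro ⟨c, rfl⟩
    exact ⟨_, ⟨c, rfl⟩, rfl⟩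

theorem pi_Tr_mem (v : Fin m ⊕ Fin m → F) (c : F) : pi (Tr v c) ∈ TS v :=
  (mem_TS v _).2 ⟨c, rfl⟩

theorem TS_smul {a : F} (ha : a ≠ 0) (v : Fin m ⊕ Fin m → F) : TS (a • v) = TS v := by
  unfold TS
  rw [rootSubgroup_smul a ha]

theorem TS_par {u v : Fin m ⊕ Fin m → F} (h : Par u v) : TS u = TS v := by
  obtain ⟨c, hc, rfl⟩ := h
  exact TS_smul hc v

/-- a transvection determines its centre -/
theorem par_of_pi_Tr_eq (hm : 2 ≤ m) {w v : Fin m ⊕ Fin m → F} (hw : w ≠ 0) {a b : F} (ha : a ≠ 0)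
    (h : pi (Tr w a) = pi (Tr v b)) : Par w v := by
  have hplus : (Tr v b : Matrix (Fin m ⊕ Fin m) (Fin m ⊕ Fin m) F) = Tr w a → Par w v := by
    intro h1
    obtain ⟨x, hx⟩ := sympForm_nondeg w hw
    have hx' : Cfsg.sympForm m F x w ≠ 0 := by
      rw [sympForm_swap]
      exact neg_ne_zero.mpr hx
    have h2 := congrArg (fun M => M *ᵥ x) h1
    simp only [Tr_mulVec] at h2
    have h3 : (b * Cfsg.sympForm m F x v) • v = (a * Cfsg.sympForm m F x w) • w := add_left_cancel h2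
    have hne : a * Cfsg.sympForm m F x w ≠ 0 := mul_ne_zero ha hx'
    have h4 : w = ((a * Cfsg.sympForm m F x w)⁻¹ * (b * Cfsg.sympForm m F x v)) • v := by
      rw [mul_smul, h3, smul_smul, inv_mul_cancel₀ hne, one_smul]
    refine ⟨_, ?_, h4⟩
    intro h0
    rw [h0, zero_smul] at h4
    exact hw h4
  rcases (pi_eq_iff (by omega) _ _).1 h with h1 | h1
  · exact hplus h1
  · by_cases h2 : (2 : F) = 0
    · apply hplus
      rw [h1]
      have : ∀ M : Matrix (Fin m ⊕ Fin m) (Fin m ⊕ Fin m) F, -M = M := by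
        intro M
        rw [neg_eq_iff_add_eq_zero, ← two_smul F M, h2, zero_smul]
      exact this _
    · exfalso
      obtain ⟨x, hx0, hxw, hxv⟩ := exists_perp_pair hm w v
      have h3 := congrArg (fun M => M *ᵥ x) h1
      simp only [Matrix.neg_mulVec, Tr_mulVec, hxw, hxv, mul_zero, zero_smul, add_zero] at h3
      apply hx0
      have h4 : (2 : F) • x = 0 := by
        rw [two_smul]
        nth_rewrite 1 [h3]
        exact neg_add_cancel x
      rcases smul_eq_zero.1 h4 with h5 | h5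
      · exact absurd h5 h2
      · exact h5

theorem TS_eq_iff (hm : 2 ≤ m) {u v : Fin m ⊕ Fin m → F} (hu : u ≠ 0) :
    TS u = TS v ↔ Par u v := by
  constructor
  · intro h
    have h1 : pi (Tr u 1) ∈ TS v := h ▸ pi_Tr_mem u 1
    obtain ⟨c, hc⟩ := (mem_TS v _).1 h1
    exact par_of_pi_Tr_eq hm hu one_ne_zero hc
  · exact TS_par

/-- conjugation of transvection subgroups -/
theorem conj_mem_TS (g : symplecticGroup (Fin m) F) (v : Fin m ⊕ Fin m → F) (x : Cfsg.PSp m F) :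
    x ∈ TS v ↔ pi g * x * (pi g)⁻¹ ∈
      TS ((g : Matrix (Fin m ⊕ Fin m) (Fin m ⊕ Fin m) F) *ᵥ v) := by
  constructor
  · intro hx
    obtain ⟨c, rfl⟩ := (mem_TS v _).1 hx
    rw [← map_inv, ← map_mul, ← map_mul, conj_Tr]
    exact pi_Tr_mem _ c
  · intro hx
    obtain ⟨c, hc⟩ := (mem_TS _ _).1 hx
    rw [← conj_Tr, map_mul, map_mul, map_inv] at hc
    have h1 : x = pi (Tr v c) := by
      have := congrArg (fun y => (pi g)⁻¹ * y * pi g) hc
      rw [show (pi g)⁻¹ * (pi g * x * (pi g)⁻¹) * pi g = x by group,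
        show (pi g)⁻¹ * (pi g * pi (Tr v c) * (pi g)⁻¹) * pi g = pi (Tr v c) by group] at this
      exact this
    rw [h1]
    exact pi_Tr_mem v c

theorem TS_map_conj (g : symplecticGroup (Fin m) F) (v : Fin m ⊕ Fin m → F) :
    (TS v).map (MulAut.conj (pi g)).toMonoidHom =
      TS ((g : Matrix (Fin m ⊕ Fin m) (Fin m ⊕ Fin m) F) *ᵥ v) := by
  ext x
  constructor
  · rintro ⟨y, hy, rfl⟩
    exact (conj_mem_TS g v y).1 hy
  · intro hx
    refine ⟨(pi g)⁻¹ * x * pi g, ?_, ?_⟩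
    · rw [SetLike.mem_coe, conj_mem_TS g v]
      rw [show pi g * ((pi g)⁻¹ * x * pi g) * (pi g)⁻¹ = x by group]
      exact hx
    · show pi g * ((pi g)⁻¹ * x * pi g) * (pi g)⁻¹ = x
      group

/-- two transvection subgroups commute elementwise iff their centres are orthogonal -/
theorem TS_commute_iff (hm : 2 ≤ m) {u v : Fin m ⊕ Fin m → F} :
    (∀ x ∈ TS u, ∀ y ∈ TS v, x * y = y * x) ↔ Cfsg.sympForm m F u v = 0 := by
  constructor
  · intro h
    have h1 := h _ (pi_Tr_mem u 1) _ (pi_Tr_mem v 1)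
    have h2 : pi (Tr u 1 * Tr v 1 * (Tr u 1)⁻¹) = pi (Tr v 1) := by
      rw [map_mul, map_mul, map_inv, h1]
      group
    rw [conj_Tr, Tr_mulVec, one_mul] at h2
    by_contra hne
    have hvu : Cfsg.sympForm m F v u ≠ 0 := by
      rw [sympForm_swap]
      exact neg_ne_zero.mpr hne
    have hw : v + Cfsg.sympForm m F v u • u ≠ 0 := by
      intro h0
      have h3 : Cfsg.sympForm m F (v + Cfsg.sympForm m F v u • u) u = 0 := by
        rw [h0, sympForm_zero_left]
      rw [sympForm_add_left, sympForm_smul_left, sympForm_self, mul_zero, add_zero] at h3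
      exact hvu h3
    obtain ⟨c, hc, hcv⟩ := par_of_pi_Tr_eq hm hw one_ne_zero h2
    -- `sympForm v u • u = (c - 1) • v`, so `u` is proportional to `v`
    have h4 : Cfsg.sympForm m F v u • u = (c - 1) • v := by
      rw [sub_smul, one_smul, ← hcv]
      abel
    have h5 : Cfsg.sympForm m F v (Cfsg.sympForm m F v u • u) = 0 := by
      rw [h4, sympForm_smul_right, sympForm_self, mul_zero]
    rw [sympForm_smul_right] at h5
    rcases mul_eq_zero.1 h5 with h6 | h6 <;> exact hvu h6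
  · intro h x hx y hy
    obtain ⟨a, rfl⟩ := (mem_TS u _).1 hx
    obtain ⟨b, rfl⟩ := (mem_TS v _).1 hy
    have hvu : Cfsg.sympForm m F v u = 0 := by
      rw [sympForm_swap, h, neg_zero]
    have h1 : Tr u a * Tr v b * (Tr u a)⁻¹ = Tr v b := by
      rw [conj_Tr, Tr_mulVec, hvu, mul_zero, zero_smul, add_zero]
    rw [← map_mul, ← map_mul]
    congr 1
    calc Tr u a * Tr v b = (Tr u a * Tr v b * (Tr u a)⁻¹) * Tr u a := by group
      _ = Tr v b * Tr u a := by rw [h1]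

end Cfsg.Agent.Lib.Helper18.PSpAut
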