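import Mathlib
import Cfsg.Agent.Lib.Helper18.PSpAutB
import Cfsg.Agent.Lib.Helper15.SympChar2

/-!
Automorphisms of `PSp_{2m}(F)` permuting the transvection subgroups are induced by semilinear
conformal symplectic maps (helper18).
-/

set_option autoImplicit false
set_option linter.unusedSectionVars false

namespace Cfsg.Agent.Lib.Helper18.PSpAut

open Matrix Cfsg.Agent.Lib.Helper5 Cfsg.Agent.Lib.Helper14.SpPerfect
  Cfsg.Agent.Lib.Helper14.PSpSimple Cfsg.Agent.Lib.Helper18.FTPG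

open Cfsg.Agent.Lib.Helper15 (sympBilin sympBilin_apply)

variable {m : ℕ} {F : Type*} [Field F]

/-- double orthogonal complement of a pair of vectors -/
theorem mem_span_pair_of_perp (u v w : Fin m ⊕ Fin m → F)
    (h : ∀ y, Cfsg.sympForm m F y u = 0 → Cfsg.sympForm m F y v = 0 → Cfsg.sympForm m F y w = 0) :
    ∃ a b : F, w = a • u + b • v := by
  let L : Fin 2 → (Fin m ⊕ Fin m → F) →ₗ[F] F := ![(sympBilin m).flip u, (sympBilin m).flip v]
  have hL0 : ∀ y, L 0 y = Cfsg.sympForm m F y u := fun y => by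
    show (sympBilin m).flip u y = _
    rw [LinearMap.BilinForm.flip_apply, sympBilin_apply]
  have hL1 : ∀ y, L 1 y = Cfsg.sympForm m F y v := fun y => by
    show (sympBilin m).flip v y = _
    rw [LinearMap.BilinForm.flip_apply, sympBilin_apply]
  have hK : ∀ y, (sympBilin m).flip w y = Cfsg.sympForm m F y w := fun y => by
    rw [LinearMap.BilinForm.flip_apply, sympBilin_apply]
  have hle : ⨅ i, LinearMap.ker (L i) ≤ LinearMap.ker ((sympBilin m).flip w) := by
    intro y hy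
    rw [Submodule.mem_iInf] at hy
    have h0 := LinearMap.mem_ker.1 (hy 0)
    have h1 := LinearMap.mem_ker.1 (hy 1)
    rw [hL0] at h0
    rw [hL1] at h1
    rw [LinearMap.mem_ker, hK]
    exact h y h0 h1
  obtain ⟨c, hc⟩ := (Submodule.mem_span_range_iff_exists_fun F).1 (mem_span_of_iInf_ker_le_ker hle)
  refine ⟨c 0, c 1, ?_⟩
  rw [Fin.sum_univ_two] at hc
  by_contra hne
  have hne' : w - (c 0 • u + c 1 • v) ≠ 0 := sub_ne_zero.2 hne
  obtain ⟨a, ha⟩ := sympForm_nondeg _ hne'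
  apply ha
  rw [sympForm_swap, neg_eq_zero]
  have := congrArg (fun f => f a) hc
  simp only [LinearMap.add_apply, LinearMap.smul_apply, hL0, hL1, hK, smul_eq_mul] at this
  rw [sympForm_sub_right, sympForm_add_right, sympForm_smul_right, sympForm_smul_right, ← this,
    sub_self]

/-- two forms with the same orthogonality relation are proportional -/
theorem exists_multiplier (hm : 1 ≤ m) (g : Matrix (Fin m ⊕ Fin m) (Fin m ⊕ Fin m) F)
    (h : ∀ x y, Cfsg.sympForm m F (g *ᵥ x) (g *ᵥ y) = 0 ↔ Cfsg.sympForm m F x y = 0) :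
    ∃ c : F, ∀ x y, Cfsg.sympForm m F (g *ᵥ x) (g *ᵥ y) = c * Cfsg.sympForm m F x y := by
  -- for each `y` a constant
  have h1 : ∀ y : Fin m ⊕ Fin m → F, ∃ c : F, ∀ x,
      Cfsg.sympForm m F (g *ᵥ x) (g *ᵥ y) = c * Cfsg.sympForm m F x y := by
    intro y
    by_cases hy : y = 0
    · refine ⟨0, fun x => ?_⟩
      rw [hy, Matrix.mulVec_zero, zero_mul]
      unfold Cfsg.sympForm
      rw [Matrix.mulVec_zero, dotProduct_zero]
    obtain ⟨x0, hx0⟩ := sympForm_nondeg y hy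
    have hx0' : Cfsg.sympForm m F x0 y ≠ 0 := by
      rw [sympForm_swap]
      exact neg_ne_zero.mpr hx0
    refine ⟨Cfsg.sympForm m F (g *ᵥ x0) (g *ᵥ y) / Cfsg.sympForm m F x0 y, fun x => ?_⟩
    have h2 : Cfsg.sympForm m F (x - (Cfsg.sympForm m F x y / Cfsg.sympForm m F x0 y) • x0) y = 0 := by
      rw [sympForm_sub_left, sympForm_smul_left, div_mul_cancel₀ _ hx0', sub_self]
    have h3 := (h _ y).2 h2
    rw [Matrix.mulVec_sub, Matrix.mulVec_smul, sympForm_sub_left, sympForm_smul_left,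
      sub_eq_zero] at h3
    rw [h3]
    field_simp
  choose c hc using h1
  -- the constants agree on non-orthogonal pairs
  have h2 : ∀ x y, Cfsg.sympForm m F x y ≠ 0 → c x = c y := by
    intro x y hxy
    have h3 := hc y x
    have h4 := hc x y
    rw [sympForm_swap, h3, sympForm_swap m x y] at h4
    have h5 : c x * Cfsg.sympForm m F y x = c y * Cfsg.sympForm m F y x := by
      linear_combination -h4
    have hyx : Cfsg.sympForm m F y x ≠ 0 := by
      rw [sympForm_swap]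
      exact neg_ne_zero.mpr hxy
    exact mul_right_cancel₀ hyx h5
  -- a reference vector
  let v0 : Fin m ⊕ Fin m → F := Pi.single (Sum.inl ⟨0, by omega⟩) 1
  have hv0 : v0 ≠ 0 := by
    intro h0
    have := congrFun h0 (Sum.inl ⟨0, by omega⟩)
    simp [v0] at this
  have h3 : ∀ y, y ≠ 0 → c y = c v0 := by
    intro y hy
    by_cases hyv : Cfsg.sympForm m F y v0 ≠ 0
    · exact h2 y v0 hyv
    rw [not_not] at hyv
    obtain ⟨z1, hz1⟩ := sympForm_nondeg y hy
    obtain ⟨z2, hz2⟩ := sympForm_nondeg v0 hv0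
    obtain ⟨z, hzy, hzv⟩ : ∃ z, Cfsg.sympForm m F y z ≠ 0 ∧ Cfsg.sympForm m F v0 z ≠ 0 := by
      by_cases h4 : Cfsg.sympForm m F v0 z1 ≠ 0
      · exact ⟨z1, hz1, h4⟩
      rw [not_not] at h4
      by_cases h5 : Cfsg.sympForm m F y z2 ≠ 0
      · exact ⟨z2, h5, hz2⟩
      rw [not_not] at h5
      refine ⟨z1 + z2, ?_, ?_⟩
      · rw [sympForm_add_right, h5, add_zero]
        exact hz1
      · rw [sympForm_add_right, h4, zero_add]
        exact hz2
    rw [h2 y z hzy, ← h2 v0 z hzv]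
  refine ⟨c v0, fun x y => ?_⟩
  by_cases hy : y = 0
  · rw [hy, Matrix.mulVec_zero]
    unfold Cfsg.sympForm
    rw [Matrix.mulVec_zero, dotProduct_zero, dotProduct_zero, mul_zero]
  · rw [hc y x, h3 y hy]


/-- hypothesis: automorphisms permute the transvection subgroups -/
def PermTS (m : ℕ) (F : Type*) [Field F] : Prop :=
  ∀ (β : Cfsg.PSp m F ≃* Cfsg.PSp m F) (v : Fin m ⊕ Fin m → F), v ≠ 0 →
    ∃ w : Fin m ⊕ Fin m → F, w ≠ 0 ∧ (TS v).map β.toMonoidHom = TS w

section main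

variable (hA : PermTS m F) (β : Cfsg.PSp m F ≃* Cfsg.PSp m F)

open Classical in
/-- the induced map on points (on representatives) -/
noncomputable def ptMap (v : Fin m ⊕ Fin m → F) : Fin m ⊕ Fin m → F :=
  if h : v = 0 then 0 else Classical.choose (hA β v h)

theorem ptMap_ne {v : Fin m ⊕ Fin m → F} (hv : v ≠ 0) : ptMap hA β v ≠ 0 := by
  unfold ptMap
  rw [dif_neg hv]
  exact (Classical.choose_spec (hA β v hv)).1

theorem ptMap_spec {v : Fin m ⊕ Fin m → F} (hv : v ≠ 0) :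
    (TS v).map β.toMonoidHom = TS (ptMap hA β v) := by
  unfold ptMap
  rw [dif_neg hv]
  exact (Classical.choose_spec (hA β v hv)).2

theorem perp_iff (hm : 2 ≤ m) {u v : Fin m ⊕ Fin m → F} (hu : u ≠ 0) (hv : v ≠ 0) :
    Cfsg.sympForm m F (ptMap hA β u) (ptMap hA β v) = 0 ↔ Cfsg.sympForm m F u v = 0 := by
  rw [← TS_commute_iff hm, ← TS_commute_iff hm, ← ptMap_spec hA β hu, ← ptMap_spec hA β hv]
  constructor
  · intro h x hx y hy
    apply β.injective
    rw [map_mul, map_mul]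
    exact h _ ⟨x, hx, rfl⟩ _ ⟨y, hy, rfl⟩
  · rintro h _ ⟨x, hx, rfl⟩ _ ⟨y, hy, rfl⟩
    show β x * β y = β y * β x
    rw [← map_mul, ← map_mul, h x hx y hy]

theorem ptMap_surj (hm : 2 ≤ m) {y : Fin m ⊕ Fin m → F} (hy : y ≠ 0) :
    ∃ v, v ≠ 0 ∧ Par (ptMap hA β v) y := by
  obtain ⟨w, hw, hwy⟩ := hA β.symm y hy
  refine ⟨w, hw, ?_⟩
  rw [← TS_eq_iff hm (ptMap_ne hA β hw), ← ptMap_spec hA β hw, ← hwy]
  ext x
  constructor
  · rintro ⟨_, ⟨z, hz, rfl⟩, rfl⟩
    show β (β.symm z) ∈ TS y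
    rw [MulEquiv.apply_symm_apply]
    exact hz
  · intro hx
    exact ⟨β.symm x, ⟨x, hx, rfl⟩, MulEquiv.apply_symm_apply β x⟩

theorem coll_ptMap (hm : 2 ≤ m) : Coll (ptMap hA β) := by
  refine ⟨fun v hv => ptMap_ne hA β hv, fun u v hu hv h => ?_, fun y hy => ptMap_surj hA β hm hy,
    fun u v hu hv a b hab => ?_⟩
  · rw [← TS_eq_iff hm hu]
    have h1 := TS_par h
    rw [← ptMap_spec hA β hu, ← ptMap_spec hA β hv] at h1
    exact Subgroup.map_injective β.injective h1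
  · apply mem_span_pair_of_perp
    intro y hyu hyv
    by_cases hy : y = 0
    · rw [hy, sympForm_zero_left]
    obtain ⟨x, hx, c, hc, hxy⟩ := ptMap_surj hA β hm hy
    have hy' : y = c⁻¹ • ptMap hA β x := by
      rw [hxy, smul_smul, inv_mul_cancel₀ hc, one_smul]
    rw [hy', sympForm_smul_left] at hyu hyv ⊢
    have hci : c⁻¹ ≠ 0 := inv_ne_zero hc
    have h1 := (perp_iff hA β hm hx hu).1 ((mul_eq_zero.1 hyu).resolve_left hci)
    have h2 := (perp_iff hA β hm hx hv).1 ((mul_eq_zero.1 hyv).resolve_left hci)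
    have h3 : Cfsg.sympForm m F x (a • u + b • v) = 0 := by
      rw [sympForm_add_right, sympForm_smul_right, sympForm_smul_right, h1, h2, mul_zero, mul_zero,
        add_zero]
    rw [(perp_iff hA β hm hx hab).2 h3, mul_zero]

end main


theorem par_of_TS_le (hm : 2 ≤ m) {a b : Fin m ⊕ Fin m → F} (ha : a ≠ 0) (h : TS a ≤ TS b) :
    Par a b := by
  obtain ⟨c, hc⟩ := (mem_TS b _).1 (h (pi_Tr_mem a 1))
  exact par_of_pi_Tr_eq hm ha one_ne_zero hc

/-- the field automorphism applied to the form -/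
theorem sympForm_map (σ : F ≃+* F) (u v : Fin m ⊕ Fin m → F) :
    Cfsg.sympForm m F (fun i => σ (u i)) (fun i => σ (v i)) = σ (Cfsg.sympForm m F u v) := by
  rw [Cfsg.Agent.Lib.Helper15.sympForm_eq, Cfsg.Agent.Lib.Helper15.sympForm_eq, map_sum]
  refine Finset.sum_congr rfl fun i _ => ?_
  rw [map_sub, map_mul, map_mul]

/-- the field automorphism applied to a matrix-vector product -/
theorem map_mulVec' (σ : F ≃+* F) (M : Matrix (Fin m ⊕ Fin m) (Fin m ⊕ Fin m) F)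
    (v : Fin m ⊕ Fin m → F) :
    (fun i => σ ((M *ᵥ v) i)) = (M.map σ) *ᵥ fun i => σ (v i) := by
  funext i
  exact RingHom.map_mulVec (σ : F →+* F) M v i

/-- an element of `Sp` mapping every vector to a multiple of itself is central -/
theorem mem_center_of_par (hm : 1 ≤ m) (A : symplecticGroup (Fin m) F)
    (h : ∀ y : Fin m ⊕ Fin m → F, y ≠ 0 →
      Par ((A : Matrix (Fin m ⊕ Fin m) (Fin m ⊕ Fin m) F) *ᵥ y) y) :
    A ∈ Subgroup.center (symplecticGroup (Fin m) F) := by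
  apply mem_center_of_fixes hm
  intro p
  induction p using Projectivization.ind with
  | h v hv =>
    rw [smul_mk, Projectivization.mk_eq_mk_iff']
    obtain ⟨c, _, hc⟩ := h v hv
    exact ⟨c, hc.symm⟩

/-- **automorphisms permuting the transvection subgroups are semilinear** -/
theorem exists_semilinear [Finite F] (hm : 2 ≤ m) (hA : PermTS m F)
    (β : Cfsg.PSp m F ≃* Cfsg.PSp m F) :
    ∃ (g : Cfsg.GSp m F) (σ : F ≃+* F), ∀ x, β x = conjA g (fieldA σ x) := by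
  have hcard : 3 ≤ Fintype.card (Fin m ⊕ Fin m) := by
    simp
    omega
  obtain ⟨g, σ, hg⟩ := ftpg hcard (coll_ptMap hA β hm)
  -- the inverse of the semilinear map
  have hginv : ∀ y : Fin m ⊕ Fin m → F, (g : Matrix (Fin m ⊕ Fin m) (Fin m ⊕ Fin m) F) *ᵥ
      (((g⁻¹ : GL (Fin m ⊕ Fin m) F) : Matrix (Fin m ⊕ Fin m) (Fin m ⊕ Fin m) F) *ᵥ y) = y := by
    intro y
    rw [Matrix.mulVec_mulVec, gl_mul_inv, Matrix.one_mulVec]
  have hrep : ∀ y : Fin m ⊕ Fin m → F, y ≠ 0 → ∃ v : Fin m ⊕ Fin m → F, v ≠ 0 ∧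
      y = (g : Matrix (Fin m ⊕ Fin m) (Fin m ⊕ Fin m) F) *ᵥ fun i => σ (v i) := by
    intro y hy
    refine ⟨fun i => σ.symm ((((g⁻¹ : GL (Fin m ⊕ Fin m) F) :
      Matrix (Fin m ⊕ Fin m) (Fin m ⊕ Fin m) F) *ᵥ y) i), ?_, ?_⟩
    · intro h0
      apply hy
      rw [← hginv y]
      have : ((g⁻¹ : GL (Fin m ⊕ Fin m) F) : Matrix (Fin m ⊕ Fin m) (Fin m ⊕ Fin m) F) *ᵥ y = 0 := by
        funext i
        have := congrFun h0 i
        simpa using this
      rw [this, Matrix.mulVec_zero]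
    · simp only [RingEquiv.apply_symm_apply]
      exact (hginv y).symm
  -- orthogonality is preserved by `g`
  have hperp : ∀ x y : Fin m ⊕ Fin m → F,
      Cfsg.sympForm m F ((g : Matrix (Fin m ⊕ Fin m) (Fin m ⊕ Fin m) F) *ᵥ x)
        ((g : Matrix (Fin m ⊕ Fin m) (Fin m ⊕ Fin m) F) *ᵥ y) = 0 ↔ Cfsg.sympForm m F x y = 0 := by
    intro x y
    by_cases hx : x = 0
    · rw [hx, Matrix.mulVec_zero, sympForm_zero_left, sympForm_zero_left]
    by_cases hy : y = 0
    · rw [hy, Matrix.mulVec_zero, sympForm_swap, sympForm_zero_left, sympForm_swap,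
        sympForm_zero_left]
    -- write `x = σ u`, `y = σ v`
    have hxu : x = fun i => σ (σ.symm (x i)) := by
      funext i
      rw [RingEquiv.apply_symm_apply]
    have hyv : y = fun i => σ (σ.symm (y i)) := by
      funext i
      rw [RingEquiv.apply_symm_apply]
    have hu : (fun i => σ.symm (x i)) ≠ 0 := by
      intro h0
      apply hx
      funext i
      have := congrFun h0 i
      simpa using this
    have hv : (fun i => σ.symm (y i)) ≠ 0 := by
      intro h0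
      apply hy
      funext i
      have := congrFun h0 i
      simpa using this
    obtain ⟨c1, hc1, h1⟩ := hg _ hu
    obtain ⟨c2, hc2, h2⟩ := hg _ hv
    rw [← hxu] at h1
    rw [← hyv] at h2
    have h3 := perp_iff hA β hm hu hv
    rw [h1, h2, sympForm_smul_left, sympForm_smul_right] at h3
    have h4 : Cfsg.sympForm m F x y = σ (Cfsg.sympForm m F (fun i => σ.symm (x i))
        (fun i => σ.symm (y i))) := by
      rw [← sympForm_map, ← hxu, ← hyv]
    rw [h4, map_eq_zero_iff σ σ.injective, ← h3]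
    constructor
    · intro h
      rw [h, mul_zero, mul_zero]
    · intro h
      rcases mul_eq_zero.1 h with h | h
      · exact absurd h hc1
      · rcases mul_eq_zero.1 h with h | h
        · exact absurd h hc2
        · exact h
  obtain ⟨c, hc⟩ := exists_multiplier (by omega) _ hperp
  have hc0 : c ≠ 0 := by
    intro h0
    let v0 : Fin m ⊕ Fin m → F := Pi.single (Sum.inl ⟨0, by omega⟩) 1
    have hv0 : v0 ≠ 0 := by
      intro h1
      have := congrFun h1 (Sum.inl ⟨0, by omega⟩)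
      simp [v0] at this
    obtain ⟨a, ha⟩ := sympForm_nondeg v0 hv0
    apply ha
    rw [← hperp, hc, h0, zero_mul]
  have hgG : g ∈ Cfsg.GSp m F := ⟨Units.mk0 c hc0, hc⟩
  refine ⟨⟨g, hgG⟩, σ, fun x => ?_⟩
  obtain ⟨s, rfl⟩ := pi_surjective x
  obtain ⟨t, ht⟩ := pi_surjective (β (pi s))
  rw [fieldA_pi, conjA_pi, ← ht]
  -- `t` and the conjugate act in the same way on points
  have key : ∀ v : Fin m ⊕ Fin m → F, v ≠ 0 →
      Par ((t : Matrix (Fin m ⊕ Fin m) (Fin m ⊕ Fin m) F) *ᵥ ptMap hA β v)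
        (ptMap hA β ((s : Matrix (Fin m ⊕ Fin m) (Fin m ⊕ Fin m) F) *ᵥ v)) := by
    intro v hv
    have hsv := mulVec_ne_zero s hv
    apply par_of_TS_le hm (mulVec_ne_zero t (ptMap_ne hA β hv))
    rw [← TS_map_conj, ← ptMap_spec hA β hsv, ← ptMap_spec hA β hv, ← TS_map_conj]
    rintro _ ⟨_, ⟨w, hw, rfl⟩, rfl⟩
    refine ⟨pi s * w * (pi s)⁻¹, ⟨w, hw, rfl⟩, ?_⟩
    show β (pi s * w * (pi s)⁻¹) = pi t * β w * (pi t)⁻¹
    rw [map_mul, map_mul, map_inv, ht]
  have key2 : ∀ y : Fin m ⊕ Fin m → F, y ≠ 0 →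
      Par ((t : Matrix (Fin m ⊕ Fin m) (Fin m ⊕ Fin m) F) *ᵥ y)
        ((conjMat ⟨g, hgG⟩ (fieldS σ s) : Matrix (Fin m ⊕ Fin m) (Fin m ⊕ Fin m) F) *ᵥ y) := by
    intro y hy
    obtain ⟨v, hv, rfl⟩ := hrep y hy
    have hsv := mulVec_ne_zero s hv
    obtain ⟨c1, hc1, h1⟩ := hg v hv
    obtain ⟨c2, hc2, h2⟩ := hg _ hsv
    obtain ⟨c3, hc3, h3⟩ := key v hv
    rw [h1, h2, Matrix.mulVec_smul] at h3
    have h4 : (conjMat ⟨g, hgG⟩ (fieldS σ s) : Matrix (Fin m ⊕ Fin m) (Fin m ⊕ Fin m) F) *ᵥ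
        ((g : Matrix (Fin m ⊕ Fin m) (Fin m ⊕ Fin m) F) *ᵥ fun i => σ (v i)) =
        (g : Matrix (Fin m ⊕ Fin m) (Fin m ⊕ Fin m) F) *ᵥ fun i =>
          σ (((s : Matrix (Fin m ⊕ Fin m) (Fin m ⊕ Fin m) F) *ᵥ v) i) := by
      rw [conjMat_coe, fieldS_coe, map_mulVec']
      show ((g : Matrix (Fin m ⊕ Fin m) (Fin m ⊕ Fin m) F) *
        (s : Matrix (Fin m ⊕ Fin m) (Fin m ⊕ Fin m) F).map σ *
        ((g⁻¹ : GL (Fin m ⊕ Fin m) F) : Matrix (Fin m ⊕ Fin m) (Fin m ⊕ Fin m) F)) *ᵥ _ = _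
      rw [Matrix.mulVec_mulVec, Matrix.mul_assoc, Matrix.mul_assoc, gl_inv_mul, Matrix.mul_one,
        ← Matrix.mulVec_mulVec]
    rw [h4]
    refine ⟨c1⁻¹ * (c3 * c2), mul_ne_zero (inv_ne_zero hc1) (mul_ne_zero hc3 hc2), ?_⟩
    have h5 : (t : Matrix (Fin m ⊕ Fin m) (Fin m ⊕ Fin m) F) *ᵥ
        ((g : Matrix (Fin m ⊕ Fin m) (Fin m ⊕ Fin m) F) *ᵥ fun i => σ (v i)) =
        c1⁻¹ • (c1 • ((t : Matrix (Fin m ⊕ Fin m) (Fin m ⊕ Fin m) F) *ᵥ
          ((g : Matrix (Fin m ⊕ Fin m) (Fin m ⊕ Fin m) F) *ᵥ fun i => σ (v i)))) := by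
      rw [smul_smul, inv_mul_cancel₀ hc1, one_smul]
    rw [h5, h3, smul_smul, smul_smul, mul_assoc]
  -- hence they differ by a central element
  have hcen : (conjMat ⟨g, hgG⟩ (fieldS σ s))⁻¹ * t ∈
      Subgroup.center (symplecticGroup (Fin m) F) := by
    apply mem_center_of_par (by omega)
    intro y hy
    obtain ⟨c1, hc1, h1⟩ := key2 y hy
    refine ⟨c1, hc1, ?_⟩
    rw [coe_mul_mulVec, h1, Matrix.mulVec_smul, coe_inv_mulVec_cancel']
  have := (pi_eq_one_iff _).2 hcen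
  rw [map_mul, map_inv, inv_mul_eq_one] at this
  exact this.symm

end Cfsg.Agent.Lib.Helper18.PSpAut
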