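import Mathlib
import Cfsg.Agent.Lib.Helper18.PSpAutD
import Cfsg.Agent.Lib.Helper18.PSLnUnitri
import Cfsg.Agent.Lib.Helper14.SympCount
import Cfsg.Agent.Lib.Helper5.SympTrans

/-!
The standard maximal unipotent subgroup of `Sp_{2m}(F)`: order, Sylow property, centre in odd
characteristic; automorphisms of `PSp_{2m}(F)` permute the transvection subgroups (helper18).
-/

set_option autoImplicit false
set_option linter.unusedSectionVars false

namespace Cfsg.Agent.Lib.Helper18.PSpAut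

open Matrix Cfsg.Agent.Lib.Helper5 Cfsg.Agent.Lib.Helper14.SpPerfect
  Cfsg.Agent.Lib.Helper14.PSpSimple Cfsg.Agent.Lib.Helper18.FTPG

open Cfsg.Agent.Lib.Helper18.PSLnAut (IsUni uniMat isUni_uniMat uniMat_entries)

variable {m : ℕ} {F : Type*} [Field F]

/-- block upper triangular with unitriangular corner -/
def IsSpU (M : Matrix (Fin m ⊕ Fin m) (Fin m ⊕ Fin m) F) : Prop :=
  M.toBlocks₂₁ = 0 ∧ IsUni M.toBlocks₁₁

theorem isSpU_fromBlocks {A B C D : Matrix (Fin m) (Fin m) F} :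
    IsSpU (fromBlocks A B C D) ↔ C = 0 ∧ IsUni A := by
  unfold IsSpU
  rw [toBlocks_fromBlocks₂₁, toBlocks_fromBlocks₁₁]

theorem IsSpU.eq_fromBlocks {M : Matrix (Fin m ⊕ Fin m) (Fin m ⊕ Fin m) F} (h : IsSpU M) :
    M = fromBlocks M.toBlocks₁₁ M.toBlocks₁₂ 0 M.toBlocks₂₂ := by
  conv_lhs => rw [← fromBlocks_toBlocks M, h.1]

theorem IsSpU.one : IsSpU (1 : Matrix (Fin m ⊕ Fin m) (Fin m ⊕ Fin m) F) := by
  rw [← fromBlocks_one, isSpU_fromBlocks]
  exact ⟨rfl, IsUni.one⟩

theorem IsSpU.mul {M N : Matrix (Fin m ⊕ Fin m) (Fin m ⊕ Fin m) F} (hM : IsSpU M) (hN : IsSpU N) :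
    IsSpU (M * N) := by
  rw [hM.eq_fromBlocks, hN.eq_fromBlocks, fromBlocks_multiply, isSpU_fromBlocks]
  refine ⟨by rw [Matrix.zero_mul, Matrix.mul_zero, add_zero], ?_⟩
  rw [Matrix.mul_zero, add_zero]
  exact hM.2.mul hN.2

theorem IsSpU.pow {M : Matrix (Fin m ⊕ Fin m) (Fin m ⊕ Fin m) F} (hM : IsSpU M) (k : ℕ) :
    IsSpU (M ^ k) := by
  induction k with
  | zero => rw [pow_zero]; exact IsSpU.one
  | succ k ih => rw [pow_succ]; exact ih.mul hM

/-- the standard maximal unipotent subgroup -/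
def spU (m : ℕ) (F : Type*) [Field F] [Finite F] : Subgroup (symplecticGroup (Fin m) F) where
  carrier := {s | IsSpU (s : Matrix (Fin m ⊕ Fin m) (Fin m ⊕ Fin m) F)}
  mul_mem' ha hb := IsSpU.mul ha hb
  one_mem' := IsSpU.one
  inv_mem' := by
    intro x hx
    have h1 : x⁻¹ = x ^ (orderOf x - 1) := by
      rw [inv_eq_iff_mul_eq_one, ← pow_succ']
      have : orderOf x - 1 + 1 = orderOf x := Nat.sub_add_cancel (orderOf_pos x)
      rw [this, pow_orderOf_eq_one]
    show IsSpU ((x⁻¹ : symplecticGroup (Fin m) F) : Matrix (Fin m ⊕ Fin m) (Fin m ⊕ Fin m) F)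
    rw [h1, SubmonoidClass.coe_pow]
    exact IsSpU.pow hx _

theorem mem_spU [Finite F] {s : symplecticGroup (Fin m) F} :
    s ∈ spU m F ↔ IsSpU (s : Matrix (Fin m ⊕ Fin m) (Fin m ⊕ Fin m) F) := Iff.rfl

/-- the block shape of the elements of `spU` -/
theorem spU_blocks [Finite F] {g : symplecticGroup (Fin m) F} (hg : g ∈ spU m F) :
    ∃ A B D : Matrix (Fin m) (Fin m) F,
      (g : Matrix (Fin m ⊕ Fin m) (Fin m ⊕ Fin m) F) = fromBlocks A B 0 D ∧ IsUni A ∧
      Bᵀ * D = Dᵀ * B ∧ Aᵀ * D = 1 := by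
  have h := (mem_spU.1 hg).eq_fromBlocks
  refine ⟨_, _, _, h, (mem_spU.1 hg).2, ?_⟩
  have h2 := g.2
  rw [h, SymplecticGroup.fromBlocks_mem_iff] at h2
  obtain ⟨-, h3, h4⟩ := h2
  refine ⟨h3, ?_⟩
  rw [Matrix.transpose_zero, Matrix.zero_mul, sub_zero] at h4
  exact h4

/-- a symmetric matrix from its upper triangle -/
def symMat (s : (j : Fin m) → Fin ((j : ℕ) + 1) → F) : Matrix (Fin m) (Fin m) F :=
  Matrix.of fun a b => if h : a ≤ b then s b ⟨a.1, Nat.lt_succ_of_le h⟩
    else s a ⟨b.1, Nat.lt_succ_of_le (le_of_lt (not_le.mp h))⟩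

theorem symMat_transpose (s : (j : Fin m) → Fin ((j : ℕ) + 1) → F) : (symMat s)ᵀ = symMat s := by
  ext a b
  simp only [symMat, Matrix.transpose_apply, Matrix.of_apply]
  rcases lt_trichotomy a b with h | h | h
  · rw [dif_neg (not_le.mpr h), dif_pos (le_of_lt h)]
  · subst h
    rfl
  · rw [dif_pos (le_of_lt h), dif_neg (not_le.mpr h)]

/-- symmetric matrices are parametrised by their upper triangle -/
def symEquiv : {S : Matrix (Fin m) (Fin m) F // Sᵀ = S} ≃ ((j : Fin m) → Fin ((j : ℕ) + 1) → F) where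
  toFun S j i := S.1 ⟨i.1, by have := i.2; have := j.2; omega⟩ j
  invFun s := ⟨symMat s, symMat_transpose s⟩
  left_inv S := by
    apply Subtype.ext
    ext a b
    simp only [symMat, Matrix.of_apply]
    by_cases h : a ≤ b
    · rw [dif_pos h]
    · rw [dif_neg h]
      have := congrFun (congrFun S.2 a) b
      rw [Matrix.transpose_apply] at this
      exact this
  right_inv s := by
    funext j i
    show symMat s ⟨i.1, _⟩ j = s j i
    simp only [symMat, Matrix.of_apply]
    have h : (⟨i.1, by have := i.2; have := j.2; omega⟩ : Fin m) ≤ j := by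
      rw [Fin.le_def]
      have := i.2
      simp only
      omega
    rw [dif_pos h]

/-- unitriangular matrices are parametrised by their strict upper triangle -/
def uniEquiv' : {A : Matrix (Fin m) (Fin m) F // IsUni A} ≃ ((j : Fin m) → Fin j → F) where
  toFun A j i := A.1 ⟨i.1, i.2.trans j.2⟩ j
  invFun f := ⟨uniMat f, isUni_uniMat f⟩
  left_inv A := by
    apply Subtype.ext
    exact uniMat_entries A.2
  right_inv f := by
    funext j i
    show uniMat f ⟨i.1, i.2.trans j.2⟩ j = f j i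
    simp only [uniMat, Matrix.of_apply]
    have h : (⟨i.1, i.2.trans j.2⟩ : Fin m) < j := i.2
    rw [dif_pos h]

theorem IsUni.isUnit_det' {A : Matrix (Fin m) (Fin m) F} (hA : IsUni A) : IsUnit A.det := by
  rw [hA.det]
  exact isUnit_one

/-- the elements of `spU` are parametrised by a unitriangular and a symmetric matrix -/
noncomputable def spUEquiv [Finite F] :
    spU m F ≃ {A : Matrix (Fin m) (Fin m) F // IsUni A} × {S : Matrix (Fin m) (Fin m) F // Sᵀ = S} where
  toFun g := (⟨(g.1 : Matrix (Fin m ⊕ Fin m) (Fin m ⊕ Fin m) F).toBlocks₁₁, (mem_spU.1 g.2).2⟩,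
    ⟨(g.1 : Matrix (Fin m ⊕ Fin m) (Fin m ⊕ Fin m) F).toBlocks₂₂ᵀ *
      (g.1 : Matrix (Fin m ⊕ Fin m) (Fin m ⊕ Fin m) F).toBlocks₁₂, by
      obtain ⟨A, B, D, h, -, h1, -⟩ := spU_blocks g.2
      rw [h, toBlocks_fromBlocks₂₂, toBlocks_fromBlocks₁₂, Matrix.transpose_mul,
        Matrix.transpose_transpose, h1]⟩)
  invFun x := ⟨⟨fromBlocks x.1.1 (x.1.1 * x.2.1) 0 (x.1.1⁻¹)ᵀ, by
      rw [SymplecticGroup.fromBlocks_mem_iff]
      have hu := IsUni.isUnit_det' x.1.2
      refine ⟨by rw [Matrix.mul_zero, Matrix.transpose_zero, Matrix.zero_mul], ?_, ?_⟩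
      · rw [Matrix.transpose_mul, x.2.2, Matrix.transpose_transpose, Matrix.mul_assoc,
          ← Matrix.transpose_mul, Matrix.nonsing_inv_mul _ hu, Matrix.transpose_one, Matrix.mul_one,
          ← Matrix.mul_assoc, Matrix.nonsing_inv_mul _ hu, Matrix.one_mul]
      · rw [Matrix.transpose_zero, Matrix.zero_mul, sub_zero, ← Matrix.transpose_mul,
          Matrix.nonsing_inv_mul _ hu, Matrix.transpose_one]⟩, by
      rw [mem_spU, isSpU_fromBlocks]
      exact ⟨rfl, x.1.2⟩⟩
  left_inv g := by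
    obtain ⟨A, B, D, h, hA, h1, h2⟩ := spU_blocks g.2
    apply Subtype.ext
    apply Subtype.ext
    show fromBlocks _ _ 0 _ = (g.1 : Matrix (Fin m ⊕ Fin m) (Fin m ⊕ Fin m) F)
    simp only
    rw [h, toBlocks_fromBlocks₂₂, toBlocks_fromBlocks₁₂, toBlocks_fromBlocks₁₁]
    have h3 : A * Dᵀ = 1 := by
      have : Dᵀ * A = 1 := by
        rw [← Matrix.transpose_transpose A, ← Matrix.transpose_mul, h2, Matrix.transpose_one]
      exact mul_eq_one_comm.mp this
    have h4 : (A⁻¹)ᵀ = D := by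
      rw [Matrix.transpose_nonsing_inv]
      exact Matrix.inv_eq_right_inv h2
    rw [h4, ← Matrix.mul_assoc, h3, Matrix.one_mul]
  right_inv x := by
    have hu := IsUni.isUnit_det' x.1.2
    apply Prod.ext
    · apply Subtype.ext
      show (fromBlocks x.1.1 (x.1.1 * x.2.1) 0 (x.1.1⁻¹)ᵀ).toBlocks₁₁ = x.1.1
      rw [toBlocks_fromBlocks₁₁]
    · apply Subtype.ext
      show (fromBlocks x.1.1 (x.1.1 * x.2.1) 0 (x.1.1⁻¹)ᵀ).toBlocks₂₂ᵀ *
        (fromBlocks x.1.1 (x.1.1 * x.2.1) 0 (x.1.1⁻¹)ᵀ).toBlocks₁₂ = x.2.1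
      rw [toBlocks_fromBlocks₂₂, toBlocks_fromBlocks₁₂, Matrix.transpose_transpose,
        ← Matrix.mul_assoc, Matrix.nonsing_inv_mul _ hu, Matrix.one_mul]

theorem sum_odd (m : ℕ) : ∑ j ∈ Finset.range m, (2 * j + 1) = m ^ 2 := by
  induction m with
  | zero => simp
  | succ k ih => rw [Finset.sum_range_succ, ih]; ring

theorem card_spU [Fintype F] : Nat.card (spU m F) = Fintype.card F ^ (m ^ 2) := by
  rw [Nat.card_congr spUEquiv, Nat.card_prod, Nat.card_congr uniEquiv', Nat.card_congr symEquiv,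
    Nat.card_pi, Nat.card_pi, ← Finset.prod_mul_distrib, ← sum_odd m, ← Finset.prod_pow_eq_pow_sum,
    Finset.prod_range (fun j => Fintype.card F ^ (2 * j + 1))]
  apply Finset.prod_congr rfl
  intro j _
  rw [Nat.card_fun, Nat.card_fun, Nat.card_eq_fintype_card, Nat.card_eq_fintype_card,
    Nat.card_eq_fintype_card, Fintype.card_fin, Fintype.card_fin, ← pow_add]
  congr 1
  ring


/-- the image of `spU` in `PSp` -/
def Ubar (m : ℕ) (F : Type*) [Field F] [Finite F] : Subgroup (Cfsg.PSp m F) :=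
  (spU m F).map pi

section sylow

variable [Fintype F] (p : ℕ) [Fact p.Prime] [CharP F p]

omit [Fact p.Prime] in
theorem isPGroup_spU : IsPGroup p (spU m F) := by
  obtain ⟨k, -, hk⟩ := FiniteField.card F p
  have h : Nat.card (spU m F) = p ^ ((k : ℕ) * m ^ 2) := by
    rw [card_spU, hk, pow_mul]
  exact IsPGroup.of_card h

theorem not_dvd_index_spU : ¬ p ∣ (spU m F).index := by
  intro hdvd
  obtain ⟨k, -, hk⟩ := FiniteField.card F p
  have hp : p.Prime := Fact.out
  have hq : 0 < Fintype.card F := Fintype.card_pos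
  have hpq : p ∣ Fintype.card F := by
    rw [hk]
    exact dvd_pow_self p k.ne_zero
  have h1 := Cfsg.Agent.Lib.Helper14.card_symplectic (F := F) m
  rw [← Subgroup.card_mul_index (spU m F), card_spU] at h1
  have h3 : 0 < Fintype.card F ^ (m ^ 2) := pow_pos hq _
  have h4 := Nat.eq_of_mul_eq_mul_left h3 h1
  rw [h4, Prime.dvd_finsetProd_iff (Nat.prime_iff.mp hp)] at hdvd
  obtain ⟨i, -, hi⟩ := hdvd
  have h6 : p ∣ Fintype.card F ^ (2 * (i + 1)) :=
    dvd_trans hpq (dvd_pow_self _ (by omega))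
  have h7 : 1 ≤ Fintype.card F ^ (2 * (i + 1)) := Nat.one_le_pow _ _ hq
  have h8 : p ∣ 1 := by
    have := Nat.dvd_sub h6 hi
    rwa [Nat.sub_sub_self h7] at this
  exact hp.one_lt.ne' (Nat.dvd_one.mp h8)

/-- `spU` as a Sylow subgroup of `Sp` -/
noncomputable def sylowSpU : Sylow p (symplecticGroup (Fin m) F) :=
  (isPGroup_spU (m := m) (F := F) p).toSylow (not_dvd_index_spU p)

theorem coe_sylowSpU :
    ((sylowSpU (m := m) (F := F) p : Sylow p (symplecticGroup (Fin m) F)) :
      Subgroup (symplecticGroup (Fin m) F)) = spU m F :=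
  IsPGroup.toSylow_coe _ _

/-- `Ubar` as a Sylow subgroup -/
noncomputable def sylowUbar : Sylow p (Cfsg.PSp m F) :=
  (sylowSpU (m := m) (F := F) p).mapSurjective pi_surjective

theorem coe_sylowUbar :
    ((sylowUbar (m := m) (F := F) p : Sylow p (Cfsg.PSp m F)) : Subgroup (Cfsg.PSp m F)) =
      Ubar m F := by
  rw [sylowUbar, Sylow.coe_mapSurjective, coe_sylowSpU]
  rfl

include p in
/-- up to an inner automorphism, an automorphism normalises `Ubar` -/
theorem exists_conj_Ubar (α : Cfsg.PSp m F ≃* Cfsg.PSp m F) :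
    ∃ y : Cfsg.PSp m F, ∀ g, g ∈ Ubar m F ↔ y * α g * y⁻¹ ∈ Ubar m F := by
  have hcard : Nat.card ((Ubar m F).map α.toMonoidHom) =
      p ^ (Nat.card (Cfsg.PSp m F)).factorization p := by
    rw [Subgroup.card_map_of_injective α.injective, ← coe_sylowUbar p]
    exact Sylow.card_eq_multiplicity _
  obtain ⟨y, hy⟩ := MulAction.exists_smul_eq (Cfsg.PSp m F)
    (Sylow.ofCard _ hcard) (sylowUbar (m := m) (F := F) p)
  refine ⟨y, fun g => ?_⟩
  have h1 : ((y • (Sylow.ofCard _ hcard) : Sylow p (Cfsg.PSp m F)) :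
      Subgroup (Cfsg.PSp m F)) = Ubar m F := by
    rw [hy, coe_sylowUbar]
  have h2 : y * α g * y⁻¹ = MulAut.conj y • α g := by
    rw [MulAut.smul_def, MulAut.conj_apply]
  rw [h2]
  conv_rhs => rw [← h1]
  rw [Sylow.coe_subgroup_smul, Subgroup.smul_mem_pointwise_smul_iff]
  show g ∈ Ubar m F ↔ α g ∈ (Ubar m F).map α.toMonoidHom
  constructor
  · intro hg
    exact ⟨g, hg, rfl⟩
  · rintro ⟨g', hg', h⟩
    have : g' = g := α.injective h
    rwa [← this]

end sylow


section centre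

variable [Finite F]

/-- `[[1,S],[0,1]]` -/
def symU (S : Matrix (Fin m) (Fin m) F) (hS : Sᵀ = S) : symplecticGroup (Fin m) F :=
  ⟨fromBlocks 1 S 0 1, by
    rw [SymplecticGroup.fromBlocks_mem_iff]
    refine ⟨by simp, by simp [hS], by simp⟩⟩

theorem symU_mem (S : Matrix (Fin m) (Fin m) F) (hS : Sᵀ = S) : symU S hS ∈ spU m F := by
  rw [mem_spU]
  exact isSpU_fromBlocks.2 ⟨rfl, IsUni.one⟩

/-- `[[A,0],[0,D]]` -/
def levi (A D : Matrix (Fin m) (Fin m) F) (h : Aᵀ * D = 1) : symplecticGroup (Fin m) F :=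
  ⟨fromBlocks A 0 0 D, by
    rw [SymplecticGroup.fromBlocks_mem_iff]
    refine ⟨by simp, by simp, by simp [h]⟩⟩

theorem levi_mem {A D : Matrix (Fin m) (Fin m) F} (h : Aᵀ * D = 1) (hA : IsUni A) :
    levi A D h ∈ spU m F := by
  rw [mem_spU]
  exact isSpU_fromBlocks.2 ⟨rfl, hA⟩

omit [Finite F] in
theorem Tr_eL_coe (i : Fin m) (c : F) :
    ((Tr (eL m F i) c : symplecticGroup (Fin m) F) : Matrix (Fin m ⊕ Fin m) (Fin m ⊕ Fin m) F) =
      fromBlocks 1 (Matrix.single i i c) 0 1 := by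
  show Cfsg.sympTransvection m (eL m F i) c = _
  unfold Cfsg.sympTransvection
  ext a b
  rw [Matrix.add_apply, Matrix.smul_apply, Matrix.vecMulVec_apply, smul_eq_mul]
  rcases a with a | a <;> rcases b with b | b
  · rw [J_mulVec_inl, fromBlocks_apply₁₁]
    simp [eL, Matrix.one_apply]
  · rw [J_mulVec_inr, fromBlocks_apply₁₂, Matrix.single_apply]
    simp only [eL, Pi.single_apply, Sum.inl.injEq]
    by_cases h1 : a = i
    · by_cases h2 : b = i
      · subst h1; subst h2; simp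
      · simp [h1, h2, Ne.symm h2]
    · simp [h1, Ne.symm h1]
  · rw [J_mulVec_inl, fromBlocks_apply₂₁]
    simp [eL]
  · rw [J_mulVec_inr, fromBlocks_apply₂₂]
    simp [eL, Matrix.one_apply]

omit [Finite F] in
theorem comm_symU {z : symplecticGroup (Fin m) F} {A B D S : Matrix (Fin m) (Fin m) F}
    (hz : (z : Matrix (Fin m ⊕ Fin m) (Fin m ⊕ Fin m) F) = fromBlocks A B 0 D) (hS : Sᵀ = S)
    (h : z * symU S hS = symU S hS * z) : A * S = S * D := by
  have h1 : (z : Matrix (Fin m ⊕ Fin m) (Fin m ⊕ Fin m) F) * fromBlocks 1 S 0 1 =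
      fromBlocks 1 S 0 1 * (z : Matrix (Fin m ⊕ Fin m) (Fin m ⊕ Fin m) F) :=
    congrArg (fun M : symplecticGroup (Fin m) F =>
      (M : Matrix (Fin m ⊕ Fin m) (Fin m ⊕ Fin m) F)) h
  rw [hz, fromBlocks_multiply, fromBlocks_multiply, fromBlocks_inj] at h1
  have h2 := h1.2.1
  rw [Matrix.mul_one, Matrix.one_mul, add_comm] at h2
  exact add_left_cancel h2

omit [Finite F] in
theorem comm_levi {z : symplecticGroup (Fin m) F} {B A' D' : Matrix (Fin m) (Fin m) F}
    (hz : (z : Matrix (Fin m ⊕ Fin m) (Fin m ⊕ Fin m) F) = fromBlocks 1 B 0 1) (hAD : A'ᵀ * D' = 1)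
    (h : z * levi A' D' hAD = levi A' D' hAD * z) : B * D' = A' * B := by
  have h1 : (z : Matrix (Fin m ⊕ Fin m) (Fin m ⊕ Fin m) F) * fromBlocks A' 0 0 D' =
      fromBlocks A' 0 0 D' * (z : Matrix (Fin m ⊕ Fin m) (Fin m ⊕ Fin m) F) :=
    congrArg (fun M : symplecticGroup (Fin m) F =>
      (M : Matrix (Fin m ⊕ Fin m) (Fin m ⊕ Fin m) F)) h
  rw [hz, fromBlocks_multiply, fromBlocks_multiply, fromBlocks_inj] at h1
  have h2 := h1.2.1
  rw [Matrix.one_mul, Matrix.zero_mul, zero_add, add_zero] at h2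
  exact h2

theorem isUni_transvection {i j : Fin m} (hij : i < j) (c : F) :
    IsUni (Matrix.transvection i j c) := by
  have := Cfsg.Agent.Lib.Helper18.PSLnAut.transvection_mem_unitri (F := F) hij c
  rw [Cfsg.Agent.Lib.Helper18.PSLnAut.mem_unitri, SpecialLinearGroup.transvection_coe] at this
  exact this

omit [Finite F] in
theorem transvection_transpose_mul {i j : Fin m} (hij : i ≠ j) :
    (Matrix.transvection i j (1 : F))ᵀ * Matrix.transvection j i (-1 : F) = 1 := by
  have : (Matrix.transvection i j (1 : F))ᵀ = Matrix.transvection j i 1 := by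
    unfold Matrix.transvection
    rw [Matrix.transpose_add, Matrix.transpose_one, Matrix.transpose_single]
  rw [this, Matrix.transvection_mul_transvection_same _ _ (Ne.symm hij), add_neg_cancel,
    Matrix.transvection_zero]

/-- the centre of `spU` in odd characteristic consists of transvections -/
theorem mem_rootSubgroup_of_central {i0 : Fin m} (h0 : ∀ k, i0 ≤ k) (h2 : (2 : F) ≠ 0)
    {z : symplecticGroup (Fin m) F} (hz : z ∈ spU m F) (hc : ∀ u ∈ spU m F, z * u = u * z) :
    z ∈ rootSubgroup (eL m F i0) := by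
  obtain ⟨A, B, D, hzb, hA, hBD, hAD⟩ := spU_blocks hz
  have hA1 : A = 1 := by
    ext a i
    by_cases hai : a = i
    · subst hai
      rw [hA.2, Matrix.one_apply_eq]
    · rw [Matrix.one_apply_ne hai]
      have hS : (Matrix.single i i (1 : F))ᵀ = Matrix.single i i (1 : F) :=
        Matrix.transpose_single i i 1
      have h1 := comm_symU hzb hS (hc _ (symU_mem _ hS))
      have h3 := congrFun (congrFun h1 a) i
      rw [Matrix.mul_single_apply_same, Matrix.single_mul_apply_of_ne _ _ _ _ _ hai, mul_one] at h3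
      exact h3
  subst hA1
  have hD1 : D = 1 := by
    rw [Matrix.transpose_one, Matrix.one_mul] at hAD
    exact hAD
  subst hD1
  have hBs : Bᵀ = B := by
    rw [Matrix.mul_one, Matrix.transpose_one, Matrix.one_mul] at hBD
    exact hBD
  have hrow : ∀ j, j ≠ i0 → ∀ b, B j b = 0 := by
    intro j hj b
    have hij : i0 < j := lt_of_le_of_ne (h0 j) (Ne.symm hj)
    have hAD' := transvection_transpose_mul (F := F) (ne_of_lt hij)
    have h1 := comm_levi hzb hAD' (hc _ (levi_mem hAD' (isUni_transvection hij 1)))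
    unfold Matrix.transvection at h1
    rw [Matrix.mul_add, Matrix.add_mul, Matrix.mul_one, Matrix.one_mul] at h1
    have h3 := add_left_cancel h1
    have key : ∀ b, b ≠ i0 → B j b = 0 := by
      intro b hb
      have h4 := congrFun (congrFun h3 i0) b
      rw [Matrix.mul_single_apply_of_ne _ _ _ _ _ hb, Matrix.single_mul_apply_same, one_mul] at h4
      exact h4.symm
    by_cases hb : b = i0
    · subst hb
      have h4 := congrFun (congrFun h3 b) b
      rw [Matrix.mul_single_apply_same, Matrix.single_mul_apply_same, one_mul] at h4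
      have h5 : B b j = B j b := by
        have := congrFun (congrFun hBs j) b
        rw [Matrix.transpose_apply] at this
        exact this
      rw [h5] at h4
      have h6 : (2 : F) * B j b = 0 := by
        rw [two_mul]
        nth_rewrite 1 [← h4]
        ring
      rcases mul_eq_zero.mp h6 with h7 | h7
      · exact absurd h7 h2
      · exact h7
    · exact key b hb
  have hB : B = Matrix.single i0 i0 (B i0 i0) := by
    ext a b
    by_cases ha : a = i0
    · by_cases hb : b = i0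
      · subst ha
        subst hb
        rw [Matrix.single_apply_same]
      · rw [Matrix.single_apply_of_ne _ _ _ _ _ (fun h => hb h.2.symm)]
        have := congrFun (congrFun hBs a) b
        rw [Matrix.transpose_apply] at this
        rw [← this]
        exact hrow b hb a
    · rw [Matrix.single_apply_of_ne _ _ _ _ _ (fun h => ha h.1.symm)]
      exact hrow a ha b
  refine ⟨B i0 i0, ?_⟩
  apply Subtype.ext
  rw [Tr_eL_coe, hzb, ← hB]

/-- transvections with centre `e_{i0}` are central in `spU` -/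
theorem Tr_eL_central {i0 : Fin m} (h0 : ∀ k, i0 ≤ k) (c : F) :
    Tr (eL m F i0) c ∈ spU m F ∧ ∀ u ∈ spU m F, Tr (eL m F i0) c * u = u * Tr (eL m F i0) c := by
  constructor
  · rw [mem_spU, Tr_eL_coe]
    exact isSpU_fromBlocks.2 ⟨rfl, IsUni.one⟩
  · intro u hu
    obtain ⟨A, B, D, hub, hA, -, -⟩ := spU_blocks hu
    have h1 : (u : Matrix (Fin m ⊕ Fin m) (Fin m ⊕ Fin m) F) *ᵥ eL m F i0 = eL m F i0 := by
      unfold eL
      rw [Matrix.mulVec_single_one, hub]
      funext a
      rcases a with a | a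
      · show A a i0 = _
        by_cases ha : a = i0
        · subst ha
          rw [hA.2, Pi.single_eq_same]
        · rw [hA.1 a i0 (lt_of_le_of_ne (h0 a) (Ne.symm ha)), Pi.single_eq_of_ne]
          intro h
          exact ha (Sum.inl.inj h)
      · show (0 : Matrix (Fin m) (Fin m) F) a i0 = _
        rw [Pi.single_eq_of_ne (by simp)]
        rfl
    have h3 := conj_Tr u (eL m F i0) c
    rw [h1] at h3
    conv_lhs => rw [← h3]
    group

/-- in `PSp`: the transvection subgroup with centre `e_{i0}` is the centre of `Ubar` -/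
theorem mem_TS_eL_iff (hm : 1 ≤ m) {i0 : Fin m} (h0 : ∀ k, i0 ≤ k) (h2 : (2 : F) ≠ 0)
    (x : Cfsg.PSp m F) :
    x ∈ TS (eL m F i0) ↔ x ∈ Ubar m F ∧ ∀ u ∈ Ubar m F, x * u = u * x := by
  constructor
  · intro hx
    obtain ⟨c, rfl⟩ := (mem_TS _ _).1 hx
    obtain ⟨h1, h3⟩ := Tr_eL_central h0 c
    refine ⟨⟨_, h1, rfl⟩, ?_⟩
    rintro _ ⟨u, hu, rfl⟩
    rw [← map_mul, ← map_mul, h3 u hu]
  · rintro ⟨⟨z, hz, rfl⟩, hc⟩
    have hz' : z ∈ rootSubgroup (eL m F i0) := by
      apply mem_rootSubgroup_of_central h0 h2 hz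
      intro u hu
      have h1 := hc _ ⟨u, hu, rfl⟩
      rw [← map_mul, ← map_mul, pi_eq_iff hm] at h1
      rcases h1 with h1 | h1
      · exact (Subtype.ext h1).symm
      · exfalso
        have h3 := (mem_spU.1 ((spU m F).mul_mem hu hz)).2.2 i0
        have h4 := (mem_spU.1 ((spU m F).mul_mem hz hu)).2.2 i0
        have h5 := congrFun (congrFun h1 (Sum.inl i0)) (Sum.inl i0)
        rw [Matrix.neg_apply] at h5
        change ((u * z : symplecticGroup (Fin m) F) :
          Matrix (Fin m ⊕ Fin m) (Fin m ⊕ Fin m) F).toBlocks₁₁ i0 i0 =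
          -((z * u : symplecticGroup (Fin m) F) :
          Matrix (Fin m ⊕ Fin m) (Fin m ⊕ Fin m) F).toBlocks₁₁ i0 i0 at h5
        rw [h3, h4] at h5
        apply h2
        have : (2 : F) = 1 + 1 := by norm_num
        rw [this]
        nth_rewrite 1 [h5]
        ring
    exact ⟨z, hz', rfl⟩

end centre


/-- in odd characteristic, automorphisms of `PSp` permute the transvection subgroups -/
theorem permTS_of_odd [Fintype F] (p : ℕ) [Fact p.Prime] [CharP F p] (hm : 1 ≤ m)
    (h2 : (2 : F) ≠ 0) : PermTS m F := by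
  intro β v hv
  let i0 : Fin m := ⟨0, hm⟩
  have h0 : ∀ k : Fin m, i0 ≤ k := fun k => Fin.mk_le_of_le_val (Nat.zero_le _)
  obtain ⟨y, hy⟩ := exists_conj_Ubar p β
  obtain ⟨s, rfl⟩ := pi_surjective y
  have hγ : ∀ x, x ∈ TS (eL m F i0) ↔ pi s * β x * (pi s)⁻¹ ∈ TS (eL m F i0) := by
    intro x
    rw [mem_TS_eL_iff hm h0 h2, mem_TS_eL_iff hm h0 h2, ← hy]
    apply and_congr_right
    intro hx
    constructor
    · intro h u hu
      obtain ⟨u', rfl⟩ : ∃ u', pi s * β u' * (pi s)⁻¹ = u :=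
        ⟨β.symm ((pi s)⁻¹ * u * pi s), by rw [β.apply_symm_apply]; group⟩
      have hu' : u' ∈ Ubar m F := (hy u').2 hu
      have := h u' hu'
      calc pi s * β x * (pi s)⁻¹ * (pi s * β u' * (pi s)⁻¹)
          = pi s * β (x * u') * (pi s)⁻¹ := by rw [map_mul]; group
        _ = pi s * β (u' * x) * (pi s)⁻¹ := by rw [this]
        _ = _ := by rw [map_mul]; group
    · intro h u hu
      have := h _ ((hy u).1 hu)
      apply β.injective
      rw [map_mul, map_mul]
      have h3 : pi s * (β x * β u) * (pi s)⁻¹ = pi s * (β u * β x) * (pi s)⁻¹ := by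
        calc pi s * (β x * β u) * (pi s)⁻¹
            = pi s * β x * (pi s)⁻¹ * (pi s * β u * (pi s)⁻¹) := by group
          _ = pi s * β u * (pi s)⁻¹ * (pi s * β x * (pi s)⁻¹) := this
          _ = _ := by group
      exact mul_left_cancel (mul_right_cancel h3)
  have h1 : (TS (eL m F i0)).map β.toMonoidHom =
      TS (((s⁻¹ : symplecticGroup (Fin m) F) : Matrix (Fin m ⊕ Fin m) (Fin m ⊕ Fin m) F) *ᵥ
        eL m F i0) := by
    rw [← TS_map_conj]
    ext x
    constructor
    · rintro ⟨x', hx', rfl⟩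
      refine ⟨pi s * β x' * (pi s)⁻¹, (hγ x').1 hx', ?_⟩
      show pi s⁻¹ * (pi s * β x' * (pi s)⁻¹) * (pi s⁻¹)⁻¹ = β x'
      rw [map_inv]
      group
    · rintro ⟨x', hx', rfl⟩
      refine ⟨β.symm (pi s⁻¹ * x' * (pi s⁻¹)⁻¹), ?_, β.apply_symm_apply _⟩
      rw [SetLike.mem_coe, hγ, β.apply_symm_apply, map_inv]
      have h5 : pi s * ((pi s)⁻¹ * x' * (pi s)⁻¹⁻¹) * (pi s)⁻¹ = x' := by group
      rw [h5]
      exact hx'
  have he0 : eL m F i0 ≠ 0 := by
    intro h
    have := congrFun h (Sum.inl i0)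
    rw [eL_apply_self] at this
    exact one_ne_zero this
  obtain ⟨g, -, hg⟩ := transv_trans1 (eL m F i0) v he0 hv
  obtain ⟨t, ht⟩ := pi_surjective (β (pi g))
  refine ⟨(t : Matrix (Fin m ⊕ Fin m) (Fin m ⊕ Fin m) F) *ᵥ
    (((s⁻¹ : symplecticGroup (Fin m) F) : Matrix (Fin m ⊕ Fin m) (Fin m ⊕ Fin m) F) *ᵥ eL m F i0),
    mulVec_ne_zero t (mulVec_ne_zero s⁻¹ he0), ?_⟩
  rw [← hg, ← TS_map_conj, ← TS_map_conj t, ← h1, Subgroup.map_map, Subgroup.map_map]
  congr 1
  ext x
  show β (pi g * x * (pi g)⁻¹) = pi t * β x * (pi t)⁻¹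
  rw [map_mul, map_mul, map_inv, ht]

/-- every automorphism of `PSp_{2m}(F)`, `F` finite of odd characteristic, `m ≥ 2`, is induced
by a semilinear similitude -/
theorem exists_semilinear_of_odd [Fintype F] (p : ℕ) [Fact p.Prime] [CharP F p] (hm : 2 ≤ m)
    (h2 : (2 : F) ≠ 0) (β : Cfsg.PSp m F ≃* Cfsg.PSp m F) :
    ∃ (g : Cfsg.GSp m F) (σ : F ≃+* F), ∀ x, β x = conjA g (fieldA σ x) :=
  exists_semilinear hm (permTS_of_odd p (by omega) h2) β

end Cfsg.Agent.Lib.Helper18.PSpAut
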