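import Mathlib
import Cfsg.Agent.Lib.Helper18.PSpAutC

/-!
Characteristic 2: the centre of the standard Sylow 2-subgroup of `Sp_{2m}(F)`, squares, and
the permutation of the transvection subgroups by automorphisms of `PSp_{2m}(F)`, `m ≥ 3`
(helper18).
-/

set_option autoImplicit false
set_option linter.unusedSectionVars false

namespace Cfsg.Agent.Lib.Helper18.PSpAut

open Matrix Cfsg.Agent.Lib.Helper5 Cfsg.Agent.Lib.Helper14.SpPerfect
  Cfsg.Agent.Lib.Helper14.PSpSimple Cfsg.Agent.Lib.Helper18.FTPG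

open Cfsg.Agent.Lib.Helper18.PSLnAut (IsUni)

variable {m : ℕ} {F : Type*} [Field F]

section centre2

variable [Finite F]

/-- the shape of the central elements of `spU`, any characteristic -/
theorem central_blocks {z : symplecticGroup (Fin m) F} (hz : z ∈ spU m F)
    (hc : ∀ u ∈ spU m F, z * u = u * z) :
    ∃ B : Matrix (Fin m) (Fin m) F,
      (z : Matrix (Fin m ⊕ Fin m) (Fin m ⊕ Fin m) F) = fromBlocks 1 B 0 1 ∧ Bᵀ = B ∧
      ∀ i j : Fin m, i < j → ∀ b, b ≠ i → B j b = 0 := by
  obtain ⟨A, B, D, hzb, hA, hBD, hAD⟩ := spU_blocks hz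
  have hA1 : A = 1 := by
    ext a i
    by_cases hai : a = i
    · subst hai
      rw [hA.2, Matrix.one_apply_eq]
    · rw [Matrix.one_apply_ne hai]
      have hS : (Matrix.single i i (1 : F))ᵀ = Matrix.single i i (1 : F) :=
        Matrix.transpose_single i i 1
      have h1 := comm_symU hzb hS (hc _ (symU_mem _ hS))
      have h3 := congrFun (congrFun h1 a) i
      rw [Matrix.mul_single_apply_same, Matrix.single_mul_apply_of_ne _ _ _ _ _ hai, mul_one] at h3
      exact h3
  subst hA1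
  have hD1 : D = 1 := by
    rw [Matrix.transpose_one, Matrix.one_mul] at hAD
    exact hAD
  subst hD1
  have hBs : Bᵀ = B := by
    rw [Matrix.mul_one, Matrix.transpose_one, Matrix.one_mul] at hBD
    exact hBD
  refine ⟨B, hzb, hBs, ?_⟩
  intro i j hij b hb
  have hAD' := transvection_transpose_mul (F := F) (ne_of_lt hij)
  have h1 := comm_levi hzb hAD' (hc _ (levi_mem hAD' (isUni_transvection hij 1)))
  unfold Matrix.transvection at h1
  rw [Matrix.mul_add, Matrix.add_mul, Matrix.mul_one, Matrix.one_mul] at h1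
  have h3 := add_left_cancel h1
  have h4 := congrFun (congrFun h3 i) b
  rw [Matrix.mul_single_apply_of_ne _ _ _ _ _ hb, Matrix.single_mul_apply_same, one_mul] at h4
  exact h4.symm

/-- the central elements of `spU`: at most three nonzero entries -/
theorem central_three {i0 i1 : Fin m} (h0 : ∀ k, i0 ≤ k) (h01 : i0 < i1)
    (h1 : ∀ k, k ≠ i0 → i1 ≤ k)
    {z : symplecticGroup (Fin m) F} (hz : z ∈ spU m F) (hc : ∀ u ∈ spU m F, z * u = u * z) :
    ∃ a b : F, (z : Matrix (Fin m ⊕ Fin m) (Fin m ⊕ Fin m) F) =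
      fromBlocks 1 (Matrix.single i0 i0 a + (Matrix.single i0 i1 b + Matrix.single i1 i0 b)) 0 1 := by
  obtain ⟨B, hzb, hBs, hB⟩ := central_blocks hz hc
  have hsym : ∀ x y, B x y = B y x := by
    intro x y
    have := congrFun (congrFun hBs y) x
    rw [Matrix.transpose_apply] at this
    exact this
  -- rows beyond the first two vanish
  have hrow : ∀ j, j ≠ i0 → j ≠ i1 → ∀ b, B j b = 0 := by
    intro j hj0 hj1 b
    have h0j : i0 < j := lt_of_le_of_ne (h0 j) (Ne.symm hj0)
    have h1j : i1 < j := lt_of_le_of_ne (h1 j hj0) (Ne.symm hj1)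
    by_cases hb : b = i0
    · subst hb
      exact hB i1 j h1j b (ne_of_lt h01)
    · exact hB i0 j h0j b hb
  have hrow1 : ∀ b, b ≠ i0 → B i1 b = 0 := fun b hb => hB i0 i1 h01 b hb
  refine ⟨B i0 i0, B i0 i1, ?_⟩
  rw [hzb]
  congr 1
  ext x y
  rw [Matrix.add_apply, Matrix.add_apply, Matrix.single_apply, Matrix.single_apply,
    Matrix.single_apply]
  by_cases hx0 : x = i0
  · subst hx0
    by_cases hy0 : y = x
    · subst hy0
      have hne : y ≠ i1 := ne_of_lt h01
      simp [hne, Ne.symm hne]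
    · by_cases hy1 : y = i1
      · subst hy1
        simp [hy0, Ne.symm hy0]
      · rw [hsym, hrow y hy0 hy1]
        simp [Ne.symm hy0, Ne.symm hy1]
  · by_cases hx1 : x = i1
    · subst hx1
      by_cases hy0 : y = i0
      · subst hy0
        rw [hsym]
        simp [hx0, Ne.symm hx0]
      · rw [hrow1 y hy0]
        simp [Ne.symm hx0, Ne.symm hy0]
    · rw [hrow x hx0 hx1]
      simp [Ne.symm hx0, Ne.symm hx1]

end centre2

/-! ### squares -/

/-- an element whose square is `[[1, S + A S Aᵀ], [0, 1]]` -/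
def sqY (A S : Matrix (Fin m) (Fin m) F) (hA : A * A = 1) (hS : Sᵀ = S) :
    symplecticGroup (Fin m) F :=
  ⟨fromBlocks A (A * S) 0 Aᵀ, by
    rw [SymplecticGroup.fromBlocks_mem_iff]
    refine ⟨by simp, ?_, ?_⟩
    · rw [Matrix.transpose_mul, hS, Matrix.transpose_transpose, Matrix.mul_assoc,
        ← Matrix.transpose_mul, hA, Matrix.transpose_one, Matrix.mul_one, ← Matrix.mul_assoc, hA,
        Matrix.one_mul]
    · rw [Matrix.transpose_zero, Matrix.zero_mul, sub_zero, ← Matrix.transpose_mul, hA,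
        Matrix.transpose_one]⟩

theorem sqY_sq (A S : Matrix (Fin m) (Fin m) F) (hA : A * A = 1) (hS : Sᵀ = S) :
    ((sqY A S hA hS * sqY A S hA hS : symplecticGroup (Fin m) F) :
      Matrix (Fin m ⊕ Fin m) (Fin m ⊕ Fin m) F) = fromBlocks 1 (S + A * S * Aᵀ) 0 1 := by
  show fromBlocks A (A * S) 0 Aᵀ * fromBlocks A (A * S) 0 Aᵀ = _
  rw [fromBlocks_multiply, hA, ← Matrix.transpose_mul, hA, Matrix.transpose_one]
  congr 1
  · simp
  · rw [← Matrix.mul_assoc, hA, Matrix.one_mul]
  · simp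
  · simp

theorem single_eq_zero_of_two (h2 : (2 : F) = 0) (i j : Fin m) (c : F) :
    Matrix.single i j c + Matrix.single i j c = (0 : Matrix (Fin m) (Fin m) F) := by
  rw [← Matrix.single_add, ← two_mul, h2, zero_mul, Matrix.single_zero]

/-- in characteristic 2, the central elements with a short-root component are squares -/
theorem exists_sq_of_ne (h2 : (2 : F) = 0) {i0 i1 i2 : Fin m} (h01 : i0 ≠ i1) (h02 : i0 ≠ i2)
    (h12 : i1 ≠ i2) (a b : F) (hb : b ≠ 0) :
    ∃ y : symplecticGroup (Fin m) F,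
      ((y * y : symplecticGroup (Fin m) F) : Matrix (Fin m ⊕ Fin m) (Fin m ⊕ Fin m) F) =
      fromBlocks 1 (Matrix.single i0 i0 a + (Matrix.single i0 i1 b + Matrix.single i1 i0 b)) 0 1 := by
  by_cases ha : a = 0
  · -- pure short root element
    subst ha
    have hA : (Matrix.transvection i0 i2 (1 : F)) * Matrix.transvection i0 i2 (1 : F) = 1 := by
      rw [Matrix.transvection_mul_transvection_same _ _ h02, ← two_mul, h2, zero_mul,
        Matrix.transvection_zero]
    have hS : (Matrix.single i1 i2 b + Matrix.single i2 i1 b : Matrix (Fin m) (Fin m) F)ᵀ =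
        Matrix.single i1 i2 b + Matrix.single i2 i1 b := by
      rw [Matrix.transpose_add, Matrix.transpose_single, Matrix.transpose_single, add_comm]
    refine ⟨sqY _ _ hA hS, ?_⟩
    rw [sqY_sq]
    congr 1
    have hT : (Matrix.transvection i0 i2 (1 : F))ᵀ = Matrix.transvection i2 i0 1 := by
      unfold Matrix.transvection
      rw [Matrix.transpose_add, Matrix.transpose_one, Matrix.transpose_single]
    rw [hT]
    unfold Matrix.transvection
    simp only [Matrix.add_mul, Matrix.mul_add, Matrix.one_mul, Matrix.mul_one,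
      Matrix.single_mul_single_same, Matrix.single_mul_single_of_ne _ _ _ _ h12,
      Matrix.single_mul_single_of_ne _ _ _ _ (Ne.symm h12),
      Matrix.single_mul_single_of_ne _ _ _ _ h02, Matrix.single_mul_single_of_ne _ _ _ _ h01,
      Matrix.single_mul_single_of_ne _ _ _ _ (Ne.symm h01),
      Matrix.single_mul_single_of_ne _ _ _ _ (Ne.symm h02), Matrix.single_zero, add_zero,
      zero_add, Matrix.zero_mul, Matrix.mul_zero, one_mul, mul_one]
    have e1 := single_eq_zero_of_two h2 i1 i2 b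
    have e2 := single_eq_zero_of_two h2 i2 i1 b
    calc _ = (Matrix.single i1 i2 b + Matrix.single i1 i2 b) +
          (Matrix.single i2 i1 b + Matrix.single i2 i1 b) +
          (Matrix.single i0 i1 b + Matrix.single i1 i0 b) := by abel
      _ = _ := by rw [e1, e2, zero_add, zero_add]
  · -- mixed element
    set s : F := a / b with hs
    set t : F := b ^ 2 / a with ht
    have hst : s * t = b := by
      rw [hs, ht]
      field_simp
    have hbs : b * s = a := by
      rw [hs]
      field_simp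
    have hA : (Matrix.transvection i0 i1 s) * Matrix.transvection i0 i1 s = 1 := by
      rw [Matrix.transvection_mul_transvection_same _ _ h01, ← two_mul, h2, zero_mul,
        Matrix.transvection_zero]
    have hS : (Matrix.single i1 i1 t : Matrix (Fin m) (Fin m) F)ᵀ = Matrix.single i1 i1 t :=
      Matrix.transpose_single _ _ _
    refine ⟨sqY _ _ hA hS, ?_⟩
    rw [sqY_sq]
    congr 1
    have hT : (Matrix.transvection i0 i1 s)ᵀ = Matrix.transvection i1 i0 s := by
      unfold Matrix.transvection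
      rw [Matrix.transpose_add, Matrix.transpose_one, Matrix.transpose_single]
    rw [hT]
    unfold Matrix.transvection
    simp only [Matrix.add_mul, Matrix.mul_add, Matrix.one_mul, Matrix.mul_one,
      Matrix.single_mul_single_same, hst, hbs, mul_one, one_mul]
    have e1 := single_eq_zero_of_two h2 i1 i1 t
    have hts : t * s = b := by rw [mul_comm, hst]
    rw [hts]
    calc _ = (Matrix.single i1 i1 t + Matrix.single i1 i1 t) +
          (Matrix.single i0 i0 a + (Matrix.single i0 i1 b + Matrix.single i1 i0 b)) := by abel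
      _ = _ := by rw [e1, zero_add]


/-! ### transvections are not squares -/

theorem neg_eq_self_of_two (h2 : (2 : F) = 0) (a : F) : -a = a := by
  have : a + a = 0 := by rw [← two_mul, h2, zero_mul]
  exact neg_eq_of_add_eq_zero_left this

/-- in characteristic 2 a transvection is not a square in the symplectic group -/
theorem Tr_not_sq (h2 : (2 : F) = 0) {v : Fin m ⊕ Fin m → F} (hv : v ≠ 0) {c : F} (hc : c ≠ 0)
    (y : symplecticGroup (Fin m) F) (hy : y * y = Tr v c) : False := by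
  have hconj : y * Tr v c * y⁻¹ = Tr v c := by
    rw [← hy]
    group
  rw [conj_Tr] at hconj
  obtain ⟨x, hxv⟩ : ∃ x, Cfsg.sympForm m F x v = 1 := by
    obtain ⟨x0, hx0⟩ := sympForm_nondeg v hv
    have hx0' : Cfsg.sympForm m F x0 v ≠ 0 := by
      rw [sympForm_swap]
      exact neg_ne_zero.mpr hx0
    exact ⟨(Cfsg.sympForm m F x0 v)⁻¹ • x0, by rw [sympForm_smul_left, inv_mul_cancel₀ hx0']⟩
  obtain ⟨yv, hyv⟩ : ∃ yv, yv = (y : Matrix (Fin m ⊕ Fin m) (Fin m ⊕ Fin m) F) *ᵥ v := ⟨_, rfl⟩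
  rw [← hyv] at hconj
  have h1 := congrArg (fun M : symplecticGroup (Fin m) F =>
    (M : Matrix (Fin m ⊕ Fin m) (Fin m ⊕ Fin m) F) *ᵥ x) hconj
  simp only [Tr_mulVec] at h1
  rw [hxv, mul_one] at h1
  have h3 : (c * Cfsg.sympForm m F x yv) • yv = c • v := add_left_cancel h1
  obtain ⟨μ, hμ⟩ : ∃ μ, μ = Cfsg.sympForm m F x yv := ⟨_, rfl⟩
  rw [← hμ] at h3
  have h4 : μ • yv = v := by
    have : c⁻¹ • ((c * μ) • yv) = c⁻¹ • (c • v) := by rw [h3]
    rwa [smul_smul, smul_smul, ← mul_assoc, inv_mul_cancel₀ hc, one_mul, one_smul] at this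
  have hμ0 : μ ≠ 0 := by
    rintro h0
    rw [h0, zero_smul] at h4
    exact hv h4.symm
  have h5 : yv = μ⁻¹ • v := by
    rw [← h4, smul_smul, inv_mul_cancel₀ hμ0, one_smul]
  have h6 : μ = μ⁻¹ := by
    conv_lhs => rw [hμ, h5, sympForm_smul_right, hxv, mul_one]
  have h7 : μ = 1 := by
    have h8 : μ * μ = 1 := by
      nth_rewrite 1 [h6]
      exact inv_mul_cancel₀ hμ0
    have h9 : (μ + 1) * (μ + 1) = 0 := by
      have : (μ + 1) * (μ + 1) = μ * μ + 2 * μ + 1 := by ring
      rw [this, h8, h2, zero_mul, add_zero, ← two_mul, h2, zero_mul]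
    have h10 : μ + 1 = 0 := by
      rcases mul_eq_zero.mp h9 with h | h <;> exact h
    rw [← neg_eq_self_of_two h2 1]
    exact eq_neg_of_add_eq_zero_left h10
  have hyv1 : yv = v := by rw [h5, h7, inv_one, one_smul]
  -- now the contradiction
  obtain ⟨w, hw⟩ : ∃ w, w = (y : Matrix (Fin m ⊕ Fin m) (Fin m ⊕ Fin m) F) *ᵥ x := ⟨_, rfl⟩
  have hwv : Cfsg.sympForm m F w v = 1 := by
    conv_lhs => rw [← hyv1, hyv, hw, sympForm_mulVec_of_mem y.2]
    exact hxv
  have hyw : (y : Matrix (Fin m ⊕ Fin m) (Fin m ⊕ Fin m) F) *ᵥ w = x + c • v := by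
    rw [hw, ← coe_mul_mulVec, hy, Tr_mulVec, hxv, mul_one]
  have h11 : Cfsg.sympForm m F ((y : Matrix (Fin m ⊕ Fin m) (Fin m ⊕ Fin m) F) *ᵥ w) w =
      Cfsg.sympForm m F w x := by
    nth_rewrite 2 [hw]
    exact sympForm_mulVec_of_mem y.2 w x
  rw [hyw, sympForm_add_left, sympForm_smul_left, sympForm_swap m v w, hwv,
    sympForm_swap m x w] at h11
  have h12 : (2 : F) * Cfsg.sympForm m F w x = -c := by
    rw [two_mul]
    nth_rewrite 1 [← h11]
    ring
  rw [h2, zero_mul] at h12
  apply hc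
  rw [← neg_neg c, ← h12, neg_zero]

/-- in characteristic 2 the projection to `PSp` is injective -/
theorem pi_injective_of_two (hm : 1 ≤ m) (h2 : (2 : F) = 0) :
    Function.Injective (pi (m := m) (F := F)) := by
  intro x y h
  rcases (pi_eq_iff hm x y).1 h with h1 | h1
  · exact (Subtype.ext h1).symm
  · apply Subtype.ext
    rw [h1]
    ext a b
    rw [Matrix.neg_apply]
    exact (neg_eq_self_of_two h2 _).symm


/-! ### the characterisation of the transvection subgroup in characteristic 2 -/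

theorem mem_TS_eL_iff_two [Finite F] (hm : 3 ≤ m) (h2 : (2 : F) = 0) {i0 i1 i2 : Fin m}
    (h0 : ∀ k, i0 ≤ k) (h01 : i0 < i1) (h1 : ∀ k, k ≠ i0 → i1 ≤ k) (h02 : i0 ≠ i2) (h12 : i1 ≠ i2)
    (x : Cfsg.PSp m F) :
    x ∈ TS (eL m F i0) ↔
      (x ∈ Ubar m F ∧ ∀ u ∈ Ubar m F, x * u = u * x) ∧ (x = 1 ∨ ¬ ∃ y, y * y = x) := by
  have hm1 : 1 ≤ m := by omega
  have hinj := pi_injective_of_two (F := F) hm1 h2
  have he0 : eL m F i0 ≠ 0 := by
    intro h
    have := congrFun h (Sum.inl i0)
    rw [eL_apply_self] at this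
    exact one_ne_zero this
  constructor
  · intro hx
    obtain ⟨c, rfl⟩ := (mem_TS _ _).1 hx
    obtain ⟨h3, h4⟩ := Tr_eL_central h0 c
    refine ⟨⟨⟨_, h3, rfl⟩, ?_⟩, ?_⟩
    · rintro _ ⟨u, hu, rfl⟩
      rw [← map_mul, ← map_mul, h4 u hu]
    · by_cases hc : c = 0
      · left
        rw [hc, Tr_zero, map_one]
      · right
        rintro ⟨y, hy⟩
        obtain ⟨y', rfl⟩ := pi_surjective y
        rw [← map_mul] at hy
        exact Tr_not_sq h2 he0 hc y' (hinj hy)
  · rintro ⟨⟨⟨z, hz, rfl⟩, hc⟩, hsq⟩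
    have hc' : ∀ u ∈ spU m F, z * u = u * z := by
      intro u hu
      have := hc _ ⟨u, hu, rfl⟩
      rw [← map_mul, ← map_mul] at this
      exact hinj this
    obtain ⟨a, b, hzb⟩ := central_three h0 h01 h1 hz hc'
    have hb : b = 0 := by
      by_contra hb
      obtain ⟨y, hy⟩ := exists_sq_of_ne h2 (ne_of_lt h01) h02 h12 a b hb
      have hyz : y * y = z := Subtype.ext (hy.trans hzb.symm)
      rcases hsq with h | h
      · have hz1 : z = 1 := hinj (by rw [h, map_one])
        rw [hz1] at hzb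
        have h5 : (1 : Matrix (Fin m ⊕ Fin m) (Fin m ⊕ Fin m) F) (Sum.inl i0) (Sum.inr i1) =
            (fromBlocks 1 (Matrix.single i0 i0 a + (Matrix.single i0 i1 b + Matrix.single i1 i0 b))
              0 1 : Matrix (Fin m ⊕ Fin m) (Fin m ⊕ Fin m) F) (Sum.inl i0) (Sum.inr i1) :=
          congrFun (congrFun hzb (Sum.inl i0)) (Sum.inr i1)
        rw [Matrix.one_apply_ne (by simp), fromBlocks_apply₁₂, Matrix.add_apply, Matrix.add_apply,
          Matrix.single_apply_same,
          Matrix.single_apply_of_ne _ _ _ _ _ (fun h => (ne_of_lt h01) h.2),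
          Matrix.single_apply_of_ne _ _ _ _ _ (fun h => (ne_of_lt h01) h.1.symm), zero_add,
          add_zero] at h5
        exact hb h5.symm
      · exact h ⟨pi y, by rw [← map_mul, hyz]⟩
    rw [hb, Matrix.single_zero, Matrix.single_zero, add_zero, add_zero, ← Tr_eL_coe] at hzb
    have : z = Tr (eL m F i0) a := Subtype.ext hzb
    rw [this]
    exact pi_Tr_mem _ _

/-- invariance of the characterisation under an automorphism preserving the subgroup -/
theorem charac_invariant {G : Type*} [Group G] (γ : G ≃* G) (U : Subgroup G)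
    (hU : ∀ g, g ∈ U ↔ γ g ∈ U) (x : G) :
    ((x ∈ U ∧ ∀ u ∈ U, x * u = u * x) ∧ (x = 1 ∨ ¬ ∃ y, y * y = x)) ↔
    ((γ x ∈ U ∧ ∀ u ∈ U, γ x * u = u * γ x) ∧ (γ x = 1 ∨ ¬ ∃ y, y * y = γ x)) := by
  apply and_congr
  · apply and_congr (hU x)
    constructor
    · intro h u hu
      have hu' : γ.symm u ∈ U := by
        rw [hU, γ.apply_symm_apply]
        exact hu
      have := h _ hu'
      have h2 := congrArg γ this
      rwa [map_mul, map_mul, γ.apply_symm_apply] at h2
    · intro h u hu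
      have := h _ ((hU u).1 hu)
      apply γ.injective
      rw [map_mul, map_mul]
      exact this
  · apply or_congr
    · exact (map_eq_one_iff γ γ.injective).symm
    · apply not_congr
      constructor
      · rintro ⟨y, rfl⟩
        exact ⟨γ y, by rw [map_mul]⟩
      · rintro ⟨y, hy⟩
        refine ⟨γ.symm y, ?_⟩
        apply γ.injective
        rw [map_mul, γ.apply_symm_apply, hy]

/-- from the invariance of one transvection subgroup to all of them -/
theorem permTS_of_invariant (hm : 1 ≤ m) (β : Cfsg.PSp m F ≃* Cfsg.PSp m F) (i0 : Fin m)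
    (s : symplecticGroup (Fin m) F)
    (hγ : ∀ x, x ∈ TS (eL m F i0) ↔ pi s * β x * (pi s)⁻¹ ∈ TS (eL m F i0))
    (v : Fin m ⊕ Fin m → F) (hv : v ≠ 0) :
    ∃ w : Fin m ⊕ Fin m → F, w ≠ 0 ∧ (TS v).map β.toMonoidHom = TS w := by
  have h1 : (TS (eL m F i0)).map β.toMonoidHom =
      TS (((s⁻¹ : symplecticGroup (Fin m) F) : Matrix (Fin m ⊕ Fin m) (Fin m ⊕ Fin m) F) *ᵥ
        eL m F i0) := by
    rw [← TS_map_conj]
    ext x
    constructor
    · rintro ⟨x', hx', rfl⟩
      refine ⟨pi s * β x' * (pi s)⁻¹, (hγ x').1 hx', ?_⟩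
      show pi s⁻¹ * (pi s * β x' * (pi s)⁻¹) * (pi s⁻¹)⁻¹ = β x'
      rw [map_inv]
      group
    · rintro ⟨x', hx', rfl⟩
      refine ⟨β.symm (pi s⁻¹ * x' * (pi s⁻¹)⁻¹), ?_, β.apply_symm_apply _⟩
      rw [SetLike.mem_coe, hγ, β.apply_symm_apply, map_inv]
      have h5 : pi s * ((pi s)⁻¹ * x' * (pi s)⁻¹⁻¹) * (pi s)⁻¹ = x' := by group
      rw [h5]
      exact hx'
  have he0 : eL m F i0 ≠ 0 := by
    intro h
    have := congrFun h (Sum.inl i0)
    rw [eL_apply_self] at this
    exact one_ne_zero this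
  obtain ⟨g, -, hg⟩ := transv_trans1 (eL m F i0) v he0 hv
  obtain ⟨t, ht⟩ := pi_surjective (β (pi g))
  refine ⟨(t : Matrix (Fin m ⊕ Fin m) (Fin m ⊕ Fin m) F) *ᵥ
    (((s⁻¹ : symplecticGroup (Fin m) F) : Matrix (Fin m ⊕ Fin m) (Fin m ⊕ Fin m) F) *ᵥ eL m F i0),
    mulVec_ne_zero t (mulVec_ne_zero s⁻¹ he0), ?_⟩
  rw [← hg, ← TS_map_conj, ← TS_map_conj t, ← h1, Subgroup.map_map, Subgroup.map_map]
  congr 1
  ext x
  show β (pi g * x * (pi g)⁻¹) = pi t * β x * (pi t)⁻¹
  rw [map_mul, map_mul, map_inv, ht]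

/-- in characteristic 2 and rank at least 3, automorphisms of `PSp` permute the transvection
subgroups -/
theorem permTS_of_two [Fintype F] [CharP F 2] (hm : 3 ≤ m) : PermTS m F := by
  intro β v hv
  have h2 : (2 : F) = 0 := by
    have := CharP.cast_eq_zero F 2
    exact_mod_cast this
  let i0 : Fin m := ⟨0, by omega⟩
  let i1 : Fin m := ⟨1, by omega⟩
  let i2 : Fin m := ⟨2, by omega⟩
  have h0 : ∀ k : Fin m, i0 ≤ k := fun k => Fin.mk_le_of_le_val (Nat.zero_le _)
  have h01 : i0 < i1 := by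
    show (0 : ℕ) < 1
    omega
  have h1 : ∀ k : Fin m, k ≠ i0 → i1 ≤ k := by
    intro k hk
    rw [Fin.le_def]
    show 1 ≤ (k : ℕ)
    rcases Nat.eq_zero_or_pos (k : ℕ) with h | h
    · exact absurd (Fin.ext h) hk
    · exact h
  have h02 : i0 ≠ i2 := by
    intro h
    have := congrArg Fin.val h
    simp [i0, i2] at this
  have h12 : i1 ≠ i2 := by
    intro h
    have := congrArg Fin.val h
    simp [i1, i2] at this
  obtain ⟨y, hy⟩ := exists_conj_Ubar 2 β
  obtain ⟨s, rfl⟩ := pi_surjective y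
  let γ : Cfsg.PSp m F ≃* Cfsg.PSp m F := β.trans (MulAut.conj (pi s))
  have hγa : ∀ x, γ x = pi s * β x * (pi s)⁻¹ := fun x => rfl
  have hγ : ∀ x, x ∈ TS (eL m F i0) ↔ pi s * β x * (pi s)⁻¹ ∈ TS (eL m F i0) := by
    intro x
    rw [mem_TS_eL_iff_two hm h2 h0 h01 h1 h02 h12, mem_TS_eL_iff_two hm h2 h0 h01 h1 h02 h12,
      ← hγa]
    exact charac_invariant γ (Ubar m F) hy x
  exact permTS_of_invariant (by omega) β i0 s hγ v hv

/-- every automorphism of `PSp_{2m}(F)`, `F` finite of characteristic 2, `m ≥ 3`, is induced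
by a semilinear similitude -/
theorem exists_semilinear_of_two [Fintype F] [CharP F 2] (hm : 3 ≤ m)
    (β : Cfsg.PSp m F ≃* Cfsg.PSp m F) :
    ∃ (g : Cfsg.GSp m F) (σ : F ≃+* F), ∀ x, β x = conjA g (fieldA σ x) :=
  exists_semilinear (by omega) (permTS_of_two hm) β

end Cfsg.Agent.Lib.Helper18.PSpAut
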