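import Mathlib
import Cfsg.Agent.Lib.Helper15.HermSub

/-!
S5801 conjunct (8) (`GU_2 ⊗ GU_3 < SU_6(q)`), the hermitian twin of `Helper18.C4N5.core3`, in the
STRUCTURAL form needed for `q = 3`:

a similitude `B` (multiplier `ν`) of a nondegenerate hermitian 3-space which is `1` on a subspace `W`
(`0 ≠ W ≠ V`) and `ρ⁻¹` modulo `W` (`ρ ∈ F_q`, `ρ ≠ 0, 1`) forces
`ρ² = 1`, `ν = 1`, `W ∩ W^⊥ = 0` and `B = ρ⁻¹` on `W^⊥`.

For `q ≥ 4` one takes `ρ` with `ρ² ≠ 1` and gets a contradiction (non-opposite kill); for `q = 3`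
(`ρ = -1`) this is the structure statement "W nondegenerate, `β' = r_W`".
-/

set_option autoImplicit false
set_option linter.unusedSectionVars false
set_option linter.unusedVariables false

namespace Cfsg.Agent.Lib.Helper18.U23Core
open Module
open Cfsg.Agent.Lib.Helper14 Cfsg.Agent.Lib.Helper15.HermSub

variable {F V : Type*} [Field F] [Fintype F] [AddCommGroup V] [Module F V] {q : ℕ}

/-- some element of `F` is moved by `a ↦ a ^ q` -/
theorem exists_pow_q_ne (hF : Fintype.card F = q ^ 2) : ∃ a : F, a ^ q ≠ a := by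
  classical
  by_contra hall
  push Not at hall
  have hq := herm_two_le hF
  have h1 : fixStar F q = Finset.univ.erase (0 : F) := by
    ext c
    rw [mem_fixStar, Finset.mem_erase]
    constructor
    · intro h; exact ⟨h.1, Finset.mem_univ _⟩
    · intro h; exact ⟨h.1, hall c⟩
  have h2 := fixStar_card hF
  rw [h1, Finset.card_erase_of_mem (Finset.mem_univ _), Finset.card_univ, hF] at h2
  have : q ^ 2 = q := by
    have : 1 ≤ q ^ 2 := Nat.one_le_pow _ _ (by omega)
    omega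
  nlinarith

variable [FiniteDimensional F V] {h : V → V → F}

/-- all vectors of `C` isotropic ⟹ `C` totally isotropic (hermitian polarisation) -/
theorem ti_of_all_iso (hh : IsHerm q h) (hF : Fintype.card F = q ^ 2) (C : Submodule F V)
    (hC : ∀ c ∈ C, h c c = 0) : ∀ u ∈ C, ∀ v ∈ C, h u v = 0 := by
  intro u hu v hv
  obtain ⟨a, ha⟩ := exists_pow_q_ne hF
  have hexp : ∀ b : F, b ^ q * h u v + b * (h u v) ^ q = 0 := by
    intro b
    have h0 := hC (u + b • v) (C.add_mem hu (C.smul_mem b hv))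
    rw [hh.add_left, hh.add_right hF, hh.add_right hF, hh.smul_left, hh.smul_left,
      hh.smul_right hF, hh.smul_right hF, hC u hu, hC v hv] at h0
    have e : h v u = (h u v) ^ q := hh.herm v u
    rw [e] at h0
    linear_combination h0
  have e1 := hexp 1
  rw [one_pow, one_mul, one_mul] at e1
  have e2 := hexp a
  have e3 : (a ^ q - a) * h u v = 0 := by
    have : (h u v) ^ q = - h u v := by linear_combination e1
    rw [this] at e2
    linear_combination e2
  rcases mul_eq_zero.mp e3 with h3 | h3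
  · exact absurd (sub_eq_zero.mp h3) ha
  · exact h3

/-- a totally isotropic subspace of a nondegenerate hermitian space has `2 dim ≤ dim V` -/
theorem two_finrank_le_of_ti (hh : IsHerm q h) (hF : Fintype.card F = q ^ 2) (hnd : NdOn h ⊤)
    (C : Submodule F V) (hC : ∀ u ∈ C, ∀ v ∈ C, h u v = 0) :
    2 * finrank F C ≤ finrank F V := by
  have h1 := finrank_inf_perp hh hF ⊤ C hnd le_top
  rw [top_inf_eq, finrank_top] at h1
  have h2 : C ≤ perp hh C := fun u hu v hv => hC u hu v hv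
  have h3 := Submodule.finrank_mono h2
  omega

/-- **the core lemma** -/
theorem coreU3 (hh : IsHerm q h) (hF : Fintype.card F = q ^ 2) (hnd : NdOn h ⊤)
    (hdim : finrank F V = 3) (W : Submodule F V) (hW0 : W ≠ ⊥) (hWt : W ≠ ⊤)
    (B : V →ₗ[F] V) (ν ρ : F) (hsim : ∀ y y' : V, h (B y) (B y') = ν * h y y')
    (hfix : ∀ y ∈ W, B y = y) (hmod : ∀ y : V, B y - ρ⁻¹ • y ∈ W)
    (hρ0 : ρ ≠ 0) (hρq : ρ ^ q = ρ) (hρ1 : ρ ≠ 1) :
    ρ ^ 2 = 1 ∧ ν = 1 ∧ W ⊓ perp hh W = ⊥ ∧ ∀ y ∈ perp hh W, B y = ρ⁻¹ • y := by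
  classical
  have hρi1 : ρ⁻¹ ≠ 1 := fun e => hρ1 (by rw [← inv_inv ρ, e, inv_one])
  have hρiq : (ρ⁻¹) ^ q = ρ⁻¹ := by rw [inv_pow, hρq]
  -- the key relation
  have key : ∀ z ∈ W, ∀ y : V, h (B y - ρ⁻¹ • y) z = (ν - ρ⁻¹) * h y z := by
    intro z hz y
    have h1 := hsim y z
    rw [hfix z hz] at h1
    rw [hh.sub_left, hh.smul_left, h1]
    ring
  have hWW : ∀ y ∈ W, ∀ y' ∈ W, (1 - ν) * h y y' = 0 := by
    intro y hy y' hy'
    have h1 := hsim y y'
    rw [hfix y hy, hfix y' hy'] at h1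
    linear_combination h1
  have hdimC : finrank F (perp hh W) + finrank F W = 3 := by
    have h1 := finrank_inf_perp hh hF ⊤ W hnd le_top
    rw [top_inf_eq, finrank_top, hdim] at h1
    exact h1
  -- a nonzero vector of W
  obtain ⟨z, hzW, hz0⟩ := (Submodule.ne_bot_iff W).mp hW0
  obtain ⟨y₀, -, hzy⟩ := hnd z Submodule.mem_top hz0
  have hyz : h y₀ z ≠ 0 := fun e => hzy (hh.eq_zero_symm hF e)
  by_cases hν : ν = 1
  · -- isometry case
    subst hν
    have hBC : ∀ c ∈ perp hh W, B c ∈ perp hh W := by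
      intro c hc u hu
      have h1 := hsim c u
      rw [hfix u hu, one_mul] at h1
      rw [h1]
      exact hc u hu
    have hWC : W ⊓ perp hh W = ⊥ := by
      rw [Submodule.eq_bot_iff]
      intro z' hz'
      by_contra hz'0
      obtain ⟨hz'W, hz'C⟩ := Submodule.mem_inf.mp hz'
      obtain ⟨y₁, -, hz'y⟩ := hnd z' Submodule.mem_top hz'0
      have hyz' : h y₁ z' ≠ 0 := fun e => hz'y (hh.eq_zero_symm hF e)
      have h1 := key z' hz'W y₁
      have h2 : h (B y₁ - ρ⁻¹ • y₁) z' = 0 :=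
        hh.eq_zero_symm hF (hz'C _ (hmod y₁))
      rw [h2] at h1
      rcases mul_eq_zero.mp h1.symm with h3 | h3
      · exact hρi1 (by linear_combination -h3)
      · exact hyz' h3
    have hBc : ∀ c ∈ perp hh W, B c = ρ⁻¹ • c := by
      intro c hc
      have h1 : B c - ρ⁻¹ • c ∈ W ⊓ perp hh W :=
        Submodule.mem_inf.mpr ⟨hmod c, (perp hh W).sub_mem (hBC c hc) ((perp hh W).smul_mem _ hc)⟩
      rw [hWC, Submodule.mem_bot] at h1
      exact sub_eq_zero.mp h1
    refine ⟨?_, rfl, hWC, hBc⟩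
    -- C ≠ 0
    have hWlt : finrank F W < 3 := by
      rw [← hdim]
      exact Submodule.finrank_lt hWt
    have hCpos : 0 < finrank F (perp hh W) := by omega
    have hCne : perp hh W ≠ ⊥ := by
      intro e
      rw [e, finrank_bot] at hCpos
      exact lt_irrefl _ hCpos
    obtain ⟨c, hcC, hc0⟩ := (Submodule.ne_bot_iff _).mp hCne
    obtain ⟨y₁, -, hcy⟩ := hnd c Submodule.mem_top hc0
    have h1 := hsim c y₁
    rw [hBc c hcC, one_mul] at h1
    have e : B y₁ = ρ⁻¹ • y₁ + (B y₁ - ρ⁻¹ • y₁) := by abel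
    rw [e, hh.add_right hF, hh.smul_left, hh.smul_left, hh.smul_right hF, hρiq,
      hcC _ (hmod y₁), mul_zero, add_zero] at h1
    have h2 : (ρ⁻¹ * ρ⁻¹ - 1) * h c y₁ = 0 := by linear_combination h1
    rcases mul_eq_zero.mp h2 with h3 | h3
    · have : ρ ^ 2 * (ρ⁻¹ * ρ⁻¹) = 1 := by field_simp
      have h4 : ρ⁻¹ * ρ⁻¹ = 1 := by linear_combination h3
      rw [h4, mul_one] at this
      exact this
    · exact absurd h3 hcy
  · -- ν ≠ 1 : impossible
    exfalso
    have hWti : ∀ y ∈ W, ∀ y' ∈ W, h y y' = 0 := by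
      intro y hy y' hy'
      rcases mul_eq_zero.mp (hWW y hy y' hy') with h3 | h3
      · exact absurd (by linear_combination -h3 : ν = 1) hν
      · exact h3
    have hνρ : ν = ρ⁻¹ := by
      have h1 := key z hzW y₀
      rw [hWti _ (hmod y₀) z hzW] at h1
      rcases mul_eq_zero.mp h1.symm with h3 | h3
      · linear_combination h3
      · exact absurd h3 hyz
    -- a nonsingular vector of C
    have hex : ∃ y₁ ∈ perp hh W, h y₁ y₁ ≠ 0 := by
      by_contra hno
      push Not at hno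
      have hCti := ti_of_all_iso hh hF (perp hh W) hno
      have h1 := two_finrank_le_of_ti hh hF hnd (perp hh W) hCti
      have h2 := two_finrank_le_of_ti hh hF hnd W hWti
      rw [hdim] at h1 h2
      omega
    obtain ⟨y₁, hy₁C, hy₁⟩ := hex
    have h1 := hsim y₁ y₁
    have e : B y₁ = ρ⁻¹ • y₁ + (B y₁ - ρ⁻¹ • y₁) := by abel
    set k := B y₁ - ρ⁻¹ • y₁ with hk
    have hkW : k ∈ W := hmod y₁
    have e1 : h (ρ⁻¹ • y₁ + k) (ρ⁻¹ • y₁ + k) = ρ⁻¹ * ρ⁻¹ * h y₁ y₁ := by
      rw [hh.add_left, hh.add_right hF, hh.add_right hF, hh.smul_left, hh.smul_left,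
        hh.smul_right hF, hh.smul_right hF, hρiq, hy₁C k hkW, hh.eq_zero_symm hF (hy₁C k hkW),
        hWti k hkW k hkW]
      ring
    rw [e, e1] at h1
    have h2 : (ρ⁻¹ * ρ⁻¹ - ν) * h y₁ y₁ = 0 := by linear_combination h1
    rcases mul_eq_zero.mp h2 with h3 | h3
    · rw [hνρ] at h3
      have h4 : ρ⁻¹ * (ρ⁻¹ - 1) = 0 := by linear_combination h3
      rcases mul_eq_zero.mp h4 with h5 | h5
      · exact inv_ne_zero hρ0 h5
      · exact hρi1 (by linear_combination h5)
    · exact hy₁ h3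

end Cfsg.Agent.Lib.Helper18.U23Core
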