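import Mathlib
import Cfsg.Agent.Lib.Helper18.U23Core
import Cfsg.Agent.Lib.Helper11.T23UDefs

/-!
S5801 conjunct (8) (`GU_2 ⊗ GU_3 < SU_6(q)`), market C4U of helper11 (notes/S5801_C4_leaves.lean):
leaf **N5** `nonopp_false` (exact signature), together with the STRUCTURAL version `nonopp_struct`
needed for `q = 3` (twist `ρ = -1`): `ρ² = 1`, `T = α ⊗ β`, `α x = λ x`, `B := λ β` is an isometry,
`W = {y | x ⊗ y ∈ K₀}` is nondegenerate, `B = 1` on `W` and `B = ρ⁻¹` on `W^⊥`.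
-/

set_option autoImplicit false
set_option linter.unusedSectionVars false
set_option linter.unusedVariables false

namespace Cfsg.Agent.Lib.Helper18.C4UN5
open Matrix Module
open Cfsg.Agent.Lib.Helper25.Tens Cfsg.Agent.Lib.Helper25.TensLeaf
open Cfsg.Agent.Lib.Helper20.UT Cfsg.Agent.Lib.Helper11.T23U
open Cfsg.Agent.Lib.Helper15.HermSub
open scoped Kronecker

variable {F : Type*} [Field F] [Fintype F] {q : ℕ}

/-- `hv q` on `Fin n → F` is a hermitian form in the sense of `Helper15.HermSub` -/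
theorem isHerm_hv (hF : Fintype.card F = q ^ 2) (n : ℕ) :
    IsHerm q (hv q : (Fin n → F) → (Fin n → F) → F) where
  add_left := fun x y v => hv_add_left q x y v
  smul_left := fun c x v => hv_smul_left q c x v
  herm := fun v w => (hv_conj hF w v).symm

lemma pt_right_inj {x : Fin 2 → F} (hx0 : x ≠ 0) {y y' : Fin 3 → F} (h : pt x y = pt x y') : y = y' := by
  have h1 : pt x (y - y') = 0 := by
    have := (ptR (b := 3) x).map_sub y y'
    have e : pt x (y - y') = pt x y - pt x y' := this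
    rw [e, h, sub_self]
  rcases (pt_eq_zero_iff x (y - y')).mp h1 with h2 | h2
  · exact absurd h2 hx0
  · exact sub_eq_zero.mp h2

theorem ndOn_hv (hF : Fintype.card F = q ^ 2) (n : ℕ) :
    NdOn (hv q : (Fin n → F) → (Fin n → F) → F) ⊤ := by
  classical
  have hq2 := Cfsg.Agent.Lib.Helper14.herm_two_le hF
  intro u _ hu
  obtain ⟨i, hi⟩ := Function.ne_iff.mp hu
  refine ⟨Pi.single i 1, Submodule.mem_top, ?_⟩
  have : hv q u (Pi.single i 1) = u i := by
    unfold hv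
    rw [Finset.sum_eq_single i]
    · rw [Pi.single_eq_same, one_pow, mul_one]
    · intro j _ hji
      rw [Pi.single_eq_of_ne hji, zero_pow (by omega), mul_zero]
    · intro h; exact absurd (Finset.mem_univ i) h
  rw [this]
  exact hi

/-- the structural statement -/
theorem nonopp_struct (hF : Fintype.card F = q ^ 2) {x : Fin 2 → F} (hx0 : x ≠ 0) (hx : hv q x x = 0)
    (K₀ : Submodule F (Idx 2 3 → F)) (hK : K₀ ≤ FibA (b := 3) x) (hK0 : K₀ ≠ ⊥) (hKne : K₀ ≠ FibA (b := 3) x)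
    (ρ : F) (hρ0 : ρ ≠ 0) (hρ : ρ ^ q = ρ) (hρ1 : ρ ≠ 1) (T : GL (Idx 2 3) F) (hTK : T ∈ KG 2 3 F)
    (hTU : T ∈ GUI 2 3 q F) (hfix : ∀ v ∈ K₀, mv T v = v)
    (hb : ∀ v ∈ FibA (b := 3) x, mv T v - ρ⁻¹ • v ∈ K₀) :
    ρ ^ 2 = 1 ∧ ∃ (α : GL (Fin 2) F) (β : GL (Fin 3) F) (lam : F), T = kel α β ∧ lam ≠ 0 ∧
      mv α x = lam • x ∧
      (∀ y y' : Fin 3 → F, hv q (lam • mv β y) (lam • mv β y') = hv q y y') ∧
      (∀ z : Fin 3 → F, pt x z ∈ K₀ → (∀ z' : Fin 3 → F, pt x z' ∈ K₀ → hv q z z' = 0) → z = 0) ∧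
      (∀ y : Fin 3 → F, pt x y ∈ K₀ → lam • mv β y = y) ∧
      (∀ y : Fin 3 → F, (∀ z : Fin 3 → F, pt x z ∈ K₀ → hv q y z = 0) → lam • mv β y = ρ⁻¹ • y) := by
  classical
  have hq2 := Cfsg.Agent.Lib.Helper14.herm_two_le hF
  obtain ⟨α, β, hαβ⟩ := hTK
  have hTk : T = kel α β := Units.ext hαβ
  subst hTk
  have hmvpt : ∀ (a : Fin 2 → F) (y : Fin 3 → F),
      mv (kel α β : GL (Idx 2 3) F) (pt a y) = pt (mv α a) (mv β y) := fun a y => kel_mulVec_pt α β a y
  -- `α x = λ x`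
  obtain ⟨y₁, hy₁⟩ : ∃ y₁ : Fin 3 → F, mv β y₁ ≠ 0 := by
    refine ⟨mv β⁻¹ (Pi.single 0 1), ?_⟩
    rw [mv_mv_inv]
    intro h0
    have := congrFun h0 0
    simp at this
  have hαx0 : mv α x ≠ 0 := by
    rw [Ne, mv_eq_zero_iff]
    exact hx0
  obtain ⟨lam, hlam0, hlam⟩ : ∃ lam : F, lam ≠ 0 ∧ mv α x = lam • x := by
    have h1 : mv (kel α β : GL (Idx 2 3) F) (pt x y₁) ∈ FibA (b := 3) x := by
      have hmem : pt x y₁ ∈ FibA (b := 3) x := mem_FibA.mpr ⟨y₁, rfl⟩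
      have := Submodule.add_mem _ (hK (hb _ hmem)) (Submodule.smul_mem _ ρ⁻¹ hmem)
      rwa [sub_add_cancel] at this
    obtain ⟨y'', hy''⟩ := mem_FibA.mp h1
    rw [hmvpt] at hy''
    -- pt (α x) (β y₁) = pt x y''
    obtain ⟨l, hl⟩ := Function.ne_iff.mp hy₁
    have hl' : mv β y₁ l ≠ 0 := hl
    have hy''l : y'' l ≠ 0 := by
      intro h0
      obtain ⟨i, hi⟩ := Function.ne_iff.mp hαx0
      have := congrFun hy'' (i, l)
      simp only [pt] at this
      rw [h0, mul_zero] at this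
      exact mul_ne_zero hi hl' this
    refine ⟨y'' l / mv β y₁ l, div_ne_zero hy''l hl', ?_⟩
    funext i
    have := congrFun hy'' (i, l)
    simp only [pt] at this
    simp only [Pi.smul_apply, smul_eq_mul]
    field_simp
    linear_combination this
  -- the similitude
  obtain ⟨x', hx'⟩ : ∃ x' : Fin 2 → F, hv q x' x ≠ 0 := by
    obtain ⟨v, -, hv'⟩ := ndOn_hv hF 2 x Submodule.mem_top hx0
    exact ⟨v, fun e => hv' (hv_symm_zero hF e)⟩
  have hiso : ∀ (a a' : Fin 2 → F) (y y' : Fin 3 → F),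
      hv q (mv α a) (mv α a') * hv q (mv β y) (mv β y') = hv q a a' * hv q y y' := by
    intro a a' y y'
    have := (mem_GUI.mp hTU) (pt a y) (pt a' y')
    rw [hmvpt, hmvpt, hv_pt, hv_pt] at this
    exact this
  set m : F := hv q (mv α x') (mv α x) with hm
  have hm0 : m ≠ 0 := by
    intro h0
    have := hiso x' x (Pi.single 0 1) (Pi.single 0 1)
    rw [← hm, h0, zero_mul] at this
    have h1 : hv q (Pi.single (0 : Fin 3) (1 : F)) (Pi.single 0 1) ≠ 0 := by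
      obtain ⟨v, -, hv'⟩ := ndOn_hv hF 3 (Pi.single 0 1) Submodule.mem_top
        (by intro h; have := congrFun h 0; simp at this)
      intro h1
      unfold hv at h1
      rw [Finset.sum_eq_single 0] at h1
      · simp at h1
      · intro j _ hj
        rw [Pi.single_eq_of_ne hj, zero_mul]
      · intro h; exact absurd (Finset.mem_univ _) h
    exact mul_ne_zero hx' h1 this.symm
  have hβsim : ∀ y y' : Fin 3 → F, hv q (mv β y) (mv β y') = (hv q x' x / m) * hv q y y' := by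
    intro y y'
    have := hiso x' x y y'
    rw [← hm] at this
    field_simp
    linear_combination this
  -- `m = λ^q * hv (α x') x`, and the multiplier of `B = λ β`
  set ν : F := lam * lam ^ q * (hv q x' x / m) with hν
  have hBsim : ∀ y y' : Fin 3 → F, hv q (lam • mv β y) (lam • mv β y') = ν * hv q y y' := by
    intro y y'
    rw [hv_smul_left, hv_smul_right, hβsim, hν]
    ring
  have hmvT : ∀ y : Fin 3 → F, mv (kel α β : GL (Idx 2 3) F) (pt x y) = pt x (lam • mv β y) := by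
    intro y
    rw [hmvpt, hlam, pt_smul_left, pt_smul_right]
  -- the linear map `B`
  set B : (Fin 3 → F) →ₗ[F] (Fin 3 → F) :=
    lam • Matrix.toLin' (β : Matrix (Fin 3) (Fin 3) F) with hB
  have hBapp : ∀ y, B y = lam • mv β y := by
    intro y
    rw [hB, LinearMap.smul_apply, Matrix.toLin'_apply]
    rfl
  set W : Submodule F (Fin 3 → F) := K₀.comap (ptR x) with hW
  have hWmem : ∀ y, y ∈ W ↔ pt x y ∈ K₀ := fun y => Iff.rfl
  have hh := isHerm_hv (F := F) hF 3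
  have hcore := Cfsg.Agent.Lib.Helper18.U23Core.coreU3 hh hF (ndOn_hv hF 3) (Module.finrank_fin_fun F)
    W ?_ ?_ B ν ρ ?_ ?_ ?_ hρ0 hρ hρ1
  · obtain ⟨h1, h2, h3, h4⟩ := hcore
    refine ⟨h1, α, β, lam, rfl, hlam0, hlam, ?_, ?_, ?_, ?_⟩
    · intro y y'
      rw [hBsim, h2, one_mul]
    · intro z hz hz'
      have : z ∈ W ⊓ perp hh W := Submodule.mem_inf.mpr ⟨hz, fun u hu => hz' u hu⟩
      rw [h3, Submodule.mem_bot] at this
      exact this
    · intro y hy
      have h5 := hfix (pt x y) hy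
      rw [hmvT] at h5
      exact pt_right_inj hx0 h5
    · intro y hy
      rw [← hBapp]
      exact h4 y (fun u hu => hy u hu)
  · intro hW0
    apply hK0
    rw [Submodule.eq_bot_iff]
    intro v hv'
    obtain ⟨y, rfl⟩ := mem_FibA.mp (hK hv')
    have : y ∈ W := hv'
    rw [hW0, Submodule.mem_bot] at this
    rw [this, pt_zero_right]
  · intro hWt
    apply hKne
    apply le_antisymm hK
    intro v hv'
    obtain ⟨y, rfl⟩ := mem_FibA.mp hv'
    have : y ∈ W := by rw [hWt]; exact Submodule.mem_top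
    exact this
  · intro y y'
    rw [hBapp, hBapp, hBsim]
  · intro y hy
    rw [hBapp]
    have h5 := hfix (pt x y) hy
    rw [hmvT] at h5
    exact pt_right_inj hx0 h5
  · intro y
    rw [hWmem, hBapp]
    have e : pt x (lam • mv β y - ρ⁻¹ • y) = pt x (lam • mv β y) - ρ⁻¹ • pt x y := by
      have e1 := (ptR (b := 3) x).map_sub (lam • mv β y) (ρ⁻¹ • y)
      have e2 := (ptR (b := 3) x).map_smul ρ⁻¹ y
      have e1' : pt x (lam • mv β y - ρ⁻¹ • y) = pt x (lam • mv β y) - pt x (ρ⁻¹ • y) := e1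
      have e2' : pt x (ρ⁻¹ • y) = ρ⁻¹ • pt x y := e2
      rw [e1', e2']
    rw [e, ← hmvT]
    exact hb _ (mem_FibA.mpr ⟨y, rfl⟩)

/-- **N5** (exact signature of notes/S5801_C4_leaves.lean) -/
theorem nonopp_false (hF : Fintype.card F = q ^ 2) {x : Fin 2 → F} (hx0 : x ≠ 0) (hx : hv q x x = 0)
    (K₀ : Submodule F (Idx 2 3 → F)) (hK : K₀ ≤ FibA (b := 3) x) (hK0 : K₀ ≠ ⊥) (hKne : K₀ ≠ FibA (b := 3) x)
    (ρ : F) (hρ0 : ρ ≠ 0) (hρ : ρ ^ q = ρ) (hρ2 : ρ ^ 2 ≠ 1) (T : GL (Idx 2 3) F) (hTK : T ∈ KG 2 3 F)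
    (hTU : T ∈ GUI 2 3 q F) (hfix : ∀ v ∈ K₀, mv T v = v)
    (hb : ∀ v ∈ FibA (b := 3) x, mv T v - ρ⁻¹ • v ∈ K₀) : False := by
  have hρ1 : ρ ≠ 1 := fun h => hρ2 (by rw [h]; ring)
  exact hρ2 (nonopp_struct hF hx0 hx K₀ hK hK0 hKne ρ hρ0 hρ hρ1 T hTK hTU hfix hb).1

end Cfsg.Agent.Lib.Helper18.C4UN5
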