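import Mathlib
import Cfsg.Agent.Lib.Helper5.TWS.Defs
import Cfsg.Agent.Lib.Helper5.TWS.StageIDefs
import Cfsg.Agent.Lib.Helper16.TWImg
import Cfsg.Agent.Lib.Helper26.TWFibA
import Cfsg.Agent.Lib.Helper26.TWFibB
import Cfsg.Agent.Lib.Helper22.TWExtBasic
import Cfsg.Agent.Lib.Helper22.TWExtMore
import Cfsg.Agent.Lib.Helper22.TWQStab

/-!
S5668 (C7 symplectic; owner helper5) Stage I, `k = 2` block, leaf K2-4 `T_form` (helper18): the CORE, with the structure `NP`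
unbundled and the toolkit leaves ST3 (`elt_mem_HS`) and ST10 (`sim_of_ext_slot`) as explicit hypotheses.
See `notes/S5668_plan.md` §3.2 (S3) and `notes/S5668_I_leaves.lean`.
-/

set_option autoImplicit false
set_option linter.unusedSectionVars false
set_option linter.unusedVariables false

namespace Cfsg.Agent.Lib.Helper18.TWSLeaf
open Matrix Cfsg.Geo Cfsg.Agent.Lib.Helper18.AschA89 Cfsg.Agent.Lib.Helper8.TW Cfsg.Agent.Lib.Helper5.TWS
open Cfsg.Agent.Lib.Helper25.SpT (sf Jm sfv)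
open Cfsg.Agent.Lib.Helper23.TWUQ (NSp FCp)
open Cfsg.Agent.Lib.Helper22.TWLeaf

variable {F : Type*} [Field F] [Fintype F] {t k : ℕ}

lemma mv_one18 {ι : Type} [Fintype ι] [DecidableEq ι] (v : ι → F) : mv (1 : GL ι F) v = v := by
  unfold mv
  rw [Units.val_one, Matrix.one_mulVec]

/-- conjugating an isometry by a similitude gives an isometry -/
theorem conj_mem_GSV {g u : GL (Idx t k) F} (hg : g ∈ DSV t k F) (hu : u ∈ GSV t k F) :
    g * u * g⁻¹ ∈ GSV t k F := by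
  obtain ⟨c, hc⟩ := mem_DSV.1 hg
  rw [mem_GSV] at hu ⊢
  intro a b
  rw [Cfsg.Agent.Lib.Helper16.TWLeaf.mv_mul, Cfsg.Agent.Lib.Helper16.TWLeaf.mv_mul,
    Cfsg.Agent.Lib.Helper16.TWLeaf.mv_mul (g * u), Cfsg.Agent.Lib.Helper16.TWLeaf.mv_mul g u, hc, hu, ← hc,
    ← Cfsg.Agent.Lib.Helper16.TWLeaf.mv_mul, ← Cfsg.Agent.Lib.Helper16.TWLeaf.mv_mul, mul_inv_cancel, mv_one18, mv_one18]

/-- the group generated by the root group of `r₁` and the `g`-conjugate of that of `r₂` consists of isometries -/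
theorem sup_le_GSV (hST3 : ∀ (r : RD t k F), RS r → ∀ c : F, r.elt c ∈ HS t k F)
    {g : GL (Idx t k) F} (hg : g ∈ DSV t k F) {r₁ r₂ : RD t k F}
    (hr₁ : RS r₁) (hr₂ : RS r₂) : r₁.grp ⊔ conjG g r₂.grp ≤ GSV t k F := by
  apply sup_le
  · rintro a ⟨d, rfl⟩
    exact (Subgroup.mem_inf.1 (hST3 r₁ hr₁ d)).2
  · intro a ha
    rw [mem_conjG] at ha
    obtain ⟨u, ⟨d, rfl⟩, rfl⟩ := ha
    exact conj_mem_GSV hg (Subgroup.mem_inf.1 (hST3 r₂ hr₂ d)).2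

/-- ... and lies in `X` as soon as `H ≤ X` and `g ∈ X` -/
theorem sup_le_X18 (hST3 : ∀ (r : RD t k F), RS r → ∀ c : F, r.elt c ∈ HS t k F)
    {X : Subgroup (GL (Idx t k) F)} (hHX : HS t k F ≤ X)
    {g : GL (Idx t k) F} (hg : g ∈ X) {r₁ r₂ : RD t k F}
    (hr₁ : RS r₁) (hr₂ : RS r₂) : r₁.grp ⊔ conjG g r₂.grp ≤ X := by
  apply sup_le
  · rintro a ⟨d, rfl⟩
    exact hHX (hST3 r₁ hr₁ d)
  · intro a ha
    rw [mem_conjG] at ha
    obtain ⟨u, ⟨d, rfl⟩, rfl⟩ := ha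
    exact X.mul_mem (X.mul_mem hg (hHX (hST3 r₂ hr₂ d))) (X.inv_mem hg)

lemma ext_smul18 (i : Fin (t + 1)) (d : F) (γ : Matrix (Idx t k) (Idx t k) F) :
    ext i (d • γ) = d • ext i γ := by
  ext x x'
  rw [Matrix.smul_apply, ext_apply, ext_apply, Matrix.smul_apply]
  split_ifs <;> simp

lemma tens_sub_left18 (i : Fin (t + 1)) (b b' : Idx t k → F) (a : Fin k → F) :
    tens i (b - b') a = tens i b a - tens i b' a := by
  funext z
  simp only [tens, Pi.sub_apply]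
  ring

lemma tens_smul_left18 (i : Fin (t + 1)) (d : F) (b : Idx t k → F) (a : Fin k → F) :
    tens i (d • b) a = d • tens i b a := by
  funext z
  simp only [tens, Pi.smul_apply, smul_eq_mul]
  ring

/-- `b ↦ b ⊗ a` is injective for `a ≠ 0` -/
lemma tens_left_inj18 (i : Fin (t + 1)) {b b' : Idx t k → F} {a : Fin k → F} (ha : a ≠ 0)
    (h : tens i b a = tens i b' a) : b = b' := by
  obtain ⟨ψ, hψ⟩ := Cfsg.Agent.Lib.Helper26.TWLeaf.exists_dot_one26 a ha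
  rw [dotProduct_comm] at hψ
  have e2 := congrArg (ctr i ψ) h
  rw [ctr_tens, ctr_tens, hψ, one_smul, one_smul] at e2
  exact e2

/-- K2-4 CORE: the structure of a twist element `T` (unbundled `NP`, toolkit as hypotheses) -/
theorem T_form_of
    (hST3 : ∀ (r : RD (t + 1) k F), RS r → ∀ c : F, r.elt c ∈ HS (t + 1) k F)
    (hST10 : ∀ (i : Fin (t + 1)) (γ : Matrix (Idx t k) (Idx t k) F) (α : Matrix (Fin k) (Fin k) F) (m : F), m ≠ 0 →
      (∀ u v : Idx (t + 1) k → F,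
        sfT ((ext i γ * slot k (t + 1) i α) *ᵥ u) ((ext i γ * slot k (t + 1) i α) *ᵥ v) = m * sfT u v) →
      ∃ ν : F, ν ≠ 0 ∧ (∀ b b' : Idx t k → F, sfT (γ *ᵥ b) (γ *ᵥ b') = ν * sfT b b') ∧
        (∀ a a' : Fin k → F, sf (α *ᵥ a) (α *ᵥ a') = (m * ν⁻¹) * sf a a'))
    {X : Subgroup (GL (Idx (t + 1) k) F)} (c : CtxS X) (r : RD (t + 1) k F) (x : GL (Idx (t + 1) k) F)
    (hr : RS r) (hxX : x ∈ X)
    (K : Submodule F (Idx (t + 1) k → F)) (hK : K ≤ r.W)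
    (μ : F) (hμ : μ ≠ 0) (T : GL (Idx (t + 1) k) F) (hT : T ∈ r.grp ⊔ conjG x r.grp)
    (ha : ∀ v ∈ K, mv T v = v) (hb : ∀ v ∈ r.W, mv T v - μ⁻¹ • v ∈ K) :
    ∃ (γ : Matrix (Idx t k) (Idx t k) F) (α : Matrix (Fin k) (Fin k) F) (ν : F), ν ≠ 0 ∧
      (T : Matrix (Idx (t + 1) k) (Idx (t + 1) k) F) = ext r.i γ * slot k (t + 1) r.i α ∧ α *ᵥ r.y = r.y ∧
      (∀ b b' : Idx t k → F, sfT (γ *ᵥ b) (γ *ᵥ b') = ν * sfT b b') ∧
      (∀ a a' : Fin k → F, sf (α *ᵥ a) (α *ᵥ a') = ν⁻¹ * sf a a') ∧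
      (∀ b : Idx t k → F, tens r.i b r.y ∈ K → γ *ᵥ b = b) ∧
      (∀ b : Idx t k → F, tens r.i (γ *ᵥ b - μ⁻¹ • b) r.y ∈ K) := by
  classical
  have hk2 := c.hk2
  have hxD : x ∈ DSV (t + 1) k F := c.hXD hxX
  have hTX : T ∈ X := sup_le_X18 hST3 c.hHX hxX hr hr hT
  have hTG : T ∈ GSV (t + 1) k F := sup_le_GSV hST3 hxD hr hr hT
  have hW : r.W = Wf r.i r.y := rfl
  -- `T` stabilises `W`
  have himg : img T r.W = r.W := by
    apply Submodule.eq_of_le_of_finrank_le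
    · rintro v ⟨u, hu, rfl⟩
      rw [Matrix.toLin'_apply]
      have h1 := hb u hu
      have h2 : (T : Matrix (Idx (t + 1) k) (Idx (t + 1) k) F) *ᵥ u = (mv T u - μ⁻¹ • u) + μ⁻¹ • u := by
        unfold mv; abel
      rw [h2]
      exact Submodule.add_mem _ (hK h1) (Submodule.smul_mem _ _ hu)
    · rw [Cfsg.Agent.Lib.Helper16.TWLeaf.finrank_img]
  rw [hW] at himg
  have hTstd : T ∈ Gstd (t + 1) k F :=
    c.ns T hTX ⟨r.i, r.i, r.y, r.y, r.hy, r.hy, trivial, trivial, himg⟩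
  obtain ⟨γ, α, -, hval, cc, hcc⟩ :=
    Cfsg.Agent.Lib.Helper22.TWQLeaf.stab_form hk2 T hTstd r.i r.y r.y r.hy r.hy himg
  have hcc0 : cc ≠ 0 := by
    rintro rfl
    rw [zero_smul] at hcc
    apply r.hy
    have h1 : ((α⁻¹ : GL (Fin k) F) : Matrix (Fin k) (Fin k) F) *ᵥ ((α : Matrix (Fin k) (Fin k) F) *ᵥ r.y) = r.y := by
      rw [Matrix.mulVec_mulVec, ← Units.val_mul, inv_mul_cancel, Units.val_one, Matrix.one_mulVec]
    rw [hcc, Matrix.mulVec_zero] at h1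
    exact h1.symm
  -- normalise
  obtain ⟨γ', hγ'⟩ : ∃ γ' : Matrix (Idx t k) (Idx t k) F, γ' = cc • (γ : Matrix (Idx t k) (Idx t k) F) := ⟨_, rfl⟩
  obtain ⟨α', hα'⟩ : ∃ α' : Matrix (Fin k) (Fin k) F, α' = cc⁻¹ • (α : Matrix (Fin k) (Fin k) F) := ⟨_, rfl⟩
  have hval' : (T : Matrix (Idx (t + 1) k) (Idx (t + 1) k) F) = ext r.i γ' * slot k (t + 1) r.i α' := by
    rw [hval, hγ', hα', ext_smul18, slot_smul, Matrix.smul_mul, Matrix.mul_smul, smul_smul, mul_inv_cancel₀ hcc0, one_smul]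
  have hα'y : α' *ᵥ r.y = r.y := by
    rw [hα', Matrix.smul_mulVec, hcc, smul_smul, inv_mul_cancel₀ hcc0, one_smul]
  -- similitude factors
  have hiso : ∀ u v : Idx (t + 1) k → F,
      sfT ((ext r.i γ' * slot k (t + 1) r.i α') *ᵥ u) ((ext r.i γ' * slot k (t + 1) r.i α') *ᵥ v) = 1 * sfT u v := by
    intro u v
    rw [one_mul, ← hval']
    exact (mem_GSV.1 hTG) u v
  obtain ⟨ν, hν0, hsimB, hsimA⟩ := hST10 r.i γ' α' 1 one_ne_zero hiso
  have hTtens : ∀ b : Idx t k → F, mv T (tens r.i b r.y) = tens r.i (γ' *ᵥ b) r.y := by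
    intro b
    unfold mv
    rw [hval', ← Matrix.mulVec_mulVec, slot_mulVec_tens, ext_mulVec_tens, hα'y]
  refine ⟨γ', α', ν, hν0, hval', hα'y, hsimB, ?_, ?_, ?_⟩
  · intro a a'
    rw [hsimA a a', one_mul]
  · intro b hbK
    have h1 := ha _ hbK
    rw [hTtens] at h1
    exact tens_left_inj18 r.i r.hy h1
  · intro b
    have hmem : tens r.i b r.y ∈ r.W := (mem_Wf_iff_tens r.i r.y r.hy _).mpr ⟨b, rfl⟩
    have h1 := hb _ hmem
    rw [hTtens] at h1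
    rw [tens_sub_left18, tens_smul_left18]
    exact h1

end Cfsg.Agent.Lib.Helper18.TWSLeaf
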