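import Mathlib
import Cfsg.Prelude.Def_GeometricClasses
import Cfsg.Agent.Lib.Helper5.TMCalc

/-!
# S5634 (KL class C2 in SL_n), blocks of dimension ≥ 2: shared definitions

`D : Fin t → Submodule F (Fin n → F)` is a decomposition into `m`-spaces.  Projections `pr hD i` onto the blocks,
functionals living in one block (`InBlock`), pure vectors, the group `Hs D = Stab(D) ∩ SL`, and a few additions to
helper5's transvection calculus `TM`.
-/

set_option autoImplicit false
set_option linter.unusedSectionVars false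
set_option linter.unusedVariables false

namespace Cfsg.Agent.Lib.Helper18.C2
open Cfsg Matrix Cfsg.Agent.Lib.Helper5.TMCalc

variable {F : Type*} [Field F] {n t m : ℕ} {D : Fin t → Submodule F (Fin n → F)}

/-- the sum of the blocks other than `i` -/
def co (D : Fin t → Submodule F (Fin n → F)) (i : Fin t) : Submodule F (Fin n → F) :=
  ⨆ j, ⨆ (_ : j ≠ i), D j

lemma le_co {i j : Fin t} (hji : j ≠ i) : D j ≤ co D i :=
  le_iSup₂_of_le j hji le_rfl

lemma isCompl_co (hD : Cfsg.Geo.IsMDecomposition m D) (i : Fin t) : IsCompl (D i) (co D i) := by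
  refine ⟨(iSupIndep_def.mp hD.indep) i, ?_⟩
  rw [codisjoint_iff, eq_top_iff, ← hD.iSup_eq_top]
  apply iSup_le
  intro j
  by_cases hji : j = i
  · subst hji; exact le_sup_left
  · exact le_trans (le_co hji) le_sup_right

/-- projection onto the block `D i` along the other blocks -/
noncomputable def pr (hD : Cfsg.Geo.IsMDecomposition m D) (i : Fin t) :
    (Fin n → F) →ₗ[F] (Fin n → F) :=
  (D i).subtype ∘ₗ (D i).projectionOnto (co D i) (isCompl_co hD i)

lemma pr_mem (hD : Cfsg.Geo.IsMDecomposition m D) (i : Fin t) (v : Fin n → F) : pr hD i v ∈ D i := by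
  unfold pr
  simp

lemma pr_same (hD : Cfsg.Geo.IsMDecomposition m D) {i : Fin t} {v : Fin n → F} (hv : v ∈ D i) :
    pr hD i v = v := by
  unfold pr
  have := Submodule.projectionOnto_apply_left (isCompl_co hD i) ⟨v, hv⟩
  simp only [LinearMap.coe_comp, Function.comp_apply, Submodule.subtype_apply]
  exact congrArg Subtype.val this

lemma pr_of_mem_co (hD : Cfsg.Geo.IsMDecomposition m D) {i : Fin t} {v : Fin n → F}
    (hv : v ∈ co D i) : pr hD i v = 0 := by
  unfold pr
  simp only [LinearMap.coe_comp, Function.comp_apply, Submodule.subtype_apply]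
  rw [Submodule.projectionOnto_apply_of_mem_right (isCompl_co hD i) hv]
  rfl

lemma pr_ne (hD : Cfsg.Geo.IsMDecomposition m D) {i j : Fin t} (hji : j ≠ i) {v : Fin n → F}
    (hv : v ∈ D j) : pr hD i v = 0 :=
  pr_of_mem_co hD (le_co hji hv)

lemma pr_pr_same (hD : Cfsg.Geo.IsMDecomposition m D) (i : Fin t) (v : Fin n → F) :
    pr hD i (pr hD i v) = pr hD i v := pr_same hD (pr_mem hD i v)

lemma pr_pr_ne (hD : Cfsg.Geo.IsMDecomposition m D) {i j : Fin t} (hji : j ≠ i) (v : Fin n → F) :
    pr hD i (pr hD j v) = 0 := pr_ne hD hji (pr_mem hD j v)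

lemma sum_pr (hD : Cfsg.Geo.IsMDecomposition m D) (v : Fin n → F) : ∑ i, pr hD i v = v := by
  have hv : v ∈ ⨆ i, D i := by rw [hD.iSup_eq_top]; exact Submodule.mem_top
  refine Submodule.iSup_induction D (motive := fun v => ∑ i, pr hD i v = v) hv ?_ ?_ ?_
  · intro j x hx
    rw [Finset.sum_eq_single j]
    · exact pr_same hD hx
    · intro i _ hij
      exact pr_ne hD (Ne.symm hij) hx
    · intro h; exact absurd (Finset.mem_univ j) h
  · simp
  · intro x y hx hy
    simp only [map_add, Finset.sum_add_distrib, hx, hy]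

/-- a vector lying in one of the blocks -/
def Pure (D : Fin t → Submodule F (Fin n → F)) (y : Fin n → F) : Prop := ∃ j, y ∈ D j

/-- a functional vanishing on all blocks except `D i` -/
def InBlock (D : Fin t → Submodule F (Fin n → F)) (i : Fin t) (s : (Fin n → F) →ₗ[F] F) : Prop :=
  ∀ j, j ≠ i → ∀ v ∈ D j, s v = 0

lemma InBlock.apply (hD : Cfsg.Geo.IsMDecomposition m D) {i : Fin t} {s : (Fin n → F) →ₗ[F] F}
    (hs : InBlock D i s) (v : Fin n → F) : s v = s (pr hD i v) := by
  conv_lhs => rw [← sum_pr hD v, map_sum]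
  rw [Finset.sum_eq_single i]
  · intro j _ hji
    exact hs j hji _ (pr_mem hD j v)
  · intro h; exact absurd (Finset.mem_univ i) h

lemma inBlock_comp_pr (hD : Cfsg.Geo.IsMDecomposition m D) (i : Fin t) (s : (Fin n → F) →ₗ[F] F) :
    InBlock D i (s ∘ₗ pr hD i) := by
  intro j hji v hv
  rw [LinearMap.comp_apply, pr_ne hD hji hv, map_zero]

lemma InBlock.add {i : Fin t} {s s' : (Fin n → F) →ₗ[F] F} (hs : InBlock D i s)
    (hs' : InBlock D i s') : InBlock D i (s + s') := by
  intro j hji v hv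
  rw [LinearMap.add_apply, hs j hji v hv, hs' j hji v hv, add_zero]

lemma InBlock.smul {i : Fin t} {s : (Fin n → F) →ₗ[F] F} (hs : InBlock D i s) (c : F) :
    InBlock D i (c • s) := by
  intro j hji v hv
  rw [LinearMap.smul_apply, hs j hji v hv, smul_zero]

lemma InBlock.neg {i : Fin t} {s : (Fin n → F) →ₗ[F] F} (hs : InBlock D i s) :
    InBlock D i (-s) := by
  intro j hji v hv
  rw [LinearMap.neg_apply, hs j hji v hv, neg_zero]

lemma InBlock.apply_of_mem {i j : Fin t} {s : (Fin n → F) →ₗ[F] F} (hs : InBlock D i s)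
    (hji : j ≠ i) {v : Fin n → F} (hv : v ∈ D j) : s v = 0 := hs j hji v hv

/-- the decomposition of a functional into its block components -/
lemma sum_comp_pr (hD : Cfsg.Geo.IsMDecomposition m D) (s : (Fin n → F) →ₗ[F] F) :
    ∑ i, s ∘ₗ pr hD i = s := by
  apply LinearMap.ext
  intro v
  rw [LinearMap.sum_apply]
  simp only [LinearMap.comp_apply]
  rw [← map_sum, sum_pr hD v]

/-- the stabiliser of the decomposition inside `SL_n` -/
def Hs (D : Fin t → Submodule F (Fin n → F)) : Subgroup (GL (Fin n) F) :=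
  Cfsg.Geo.decompositionStabilizer D ⊓ Cfsg.Geo.specialLinear (Fin n) F

/-- membership in the stabiliser from the action on vectors -/
lemma mem_stab_of_maps (σ : Equiv.Perm (Fin t)) (g : GL (Fin n) F)
    (h1 : ∀ i, ∀ v ∈ D i, (g : Matrix (Fin n) (Fin n) F) *ᵥ v ∈ D (σ i))
    (h2 : ∀ i, ∀ v ∈ D (σ i), ((g⁻¹ : GL (Fin n) F) : Matrix (Fin n) (Fin n) F) *ᵥ v ∈ D i) :
    g ∈ Cfsg.Geo.decompositionStabilizer D := by
  refine ⟨σ, fun i => ?_⟩
  apply le_antisymm
  · rintro _ ⟨v, hv, rfl⟩
    rw [Matrix.toLin'_apply]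
    exact h1 i v hv
  · intro w hw
    refine ⟨((g⁻¹ : GL (Fin n) F) : Matrix (Fin n) (Fin n) F) *ᵥ w, h2 i w hw, ?_⟩
    rw [Matrix.toLin'_apply, Matrix.mulVec_mulVec, ← Units.val_mul, mul_inv_cancel, Units.val_one,
      Matrix.one_mulVec]


/-- membership in the stabiliser from `g (D i) ⊆ D (σ i)` only (equal finite dimensions) -/
lemma mem_stab_of_mapsTo (hD : Cfsg.Geo.IsMDecomposition m D) (σ : Equiv.Perm (Fin t))
    (g : GL (Fin n) F)
    (h1 : ∀ i, ∀ v ∈ D i, (g : Matrix (Fin n) (Fin n) F) *ᵥ v ∈ D (σ i)) :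
    g ∈ Cfsg.Geo.decompositionStabilizer D := by
  refine ⟨σ, fun i => ?_⟩
  have hle : (D i).map (Matrix.toLin' (g : Matrix (Fin n) (Fin n) F)) ≤ D (σ i) := by
    rintro _ ⟨v, hv, rfl⟩
    rw [Matrix.toLin'_apply]
    exact h1 i v hv
  have hinj : Function.Injective (Matrix.toLin' (g : Matrix (Fin n) (Fin n) F)) := by
    intro x y hxy
    simp only [Matrix.toLin'_apply] at hxy
    have := congrArg (fun z => ((g⁻¹ : GL (Fin n) F) : Matrix (Fin n) (Fin n) F) *ᵥ z) hxy
    simpa [Matrix.mulVec_mulVec, ← Units.val_mul] using this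
  have hfr : Module.finrank F ↥((D i).map (Matrix.toLin' (g : Matrix (Fin n) (Fin n) F))) =
      Module.finrank F ↥(D (σ i)) := by
    rw [← LinearEquiv.finrank_eq (Submodule.equivMapOfInjective _ hinj (D i)), hD.finrank_eq,
      hD.finrank_eq]
  exact Submodule.eq_of_le_of_finrank_eq hle hfr

/-- an element of the stabiliser with permutation `σ` maps blocks onto blocks, and so does its inverse -/
lemma inv_mapsTo_of_mapsTo (hD : Cfsg.Geo.IsMDecomposition m D) (σ : Equiv.Perm (Fin t))
    (g : GL (Fin n) F)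
    (h1 : ∀ i, ∀ v ∈ D i, (g : Matrix (Fin n) (Fin n) F) *ᵥ v ∈ D (σ i)) :
    ∀ i, ∀ v ∈ D (σ i), ((g⁻¹ : GL (Fin n) F) : Matrix (Fin n) (Fin n) F) *ᵥ v ∈ D i := by
  intro i v hv
  have hle : (D i).map (Matrix.toLin' (g : Matrix (Fin n) (Fin n) F)) ≤ D (σ i) := by
    rintro _ ⟨w, hw, rfl⟩
    rw [Matrix.toLin'_apply]
    exact h1 i w hw
  have hinj : Function.Injective (Matrix.toLin' (g : Matrix (Fin n) (Fin n) F)) := by
    intro x y hxy
    simp only [Matrix.toLin'_apply] at hxy
    have := congrArg (fun z => ((g⁻¹ : GL (Fin n) F) : Matrix (Fin n) (Fin n) F) *ᵥ z) hxy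
    simpa [Matrix.mulVec_mulVec, ← Units.val_mul] using this
  have hfr : Module.finrank F ↥((D i).map (Matrix.toLin' (g : Matrix (Fin n) (Fin n) F))) =
      Module.finrank F ↥(D (σ i)) := by
    rw [← LinearEquiv.finrank_eq (Submodule.equivMapOfInjective _ hinj (D i)), hD.finrank_eq,
      hD.finrank_eq]
  have heq := Submodule.eq_of_le_of_finrank_eq hle hfr
  rw [← heq] at hv
  obtain ⟨w, hw, rfl⟩ := hv
  rw [Matrix.toLin'_apply, Matrix.mulVec_mulVec, ← Units.val_mul, inv_mul_cancel, Units.val_one,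
    Matrix.one_mulVec]
  exact hw

/-- the "homology" `v ↦ v + s(v) a` as an element of `GL_n` with its determinant -/
lemma exists_homology (s : (Fin n → F) →ₗ[F] F) (a : Fin n → F) (hs : 1 + s a ≠ 0) :
    ∃ g : GL (Fin n) F, (g : Matrix (Fin n) (Fin n) F).det = 1 + s a ∧
      (∀ v, (g : Matrix (Fin n) (Fin n) F) *ᵥ v = v + s v • a) := by
  set r : Fin n → F := fun j => s (Pi.single j 1) with hr
  have hdot : ∀ x : Fin n → F, r ⬝ᵥ x = s x := by
    intro x
    have hx : x = ∑ i, x i • (Pi.single i (1 : F) : Fin n → F) := by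
      ext j
      simp [Finset.sum_apply, Pi.single_apply]
    conv_rhs => rw [hx, map_sum]
    simp only [dotProduct, hr, map_smul, smul_eq_mul]
    apply Finset.sum_congr rfl
    intro i _
    ring
  set M : Matrix (Fin n) (Fin n) F := 1 + Matrix.vecMulVec a r with hM
  have hdet : M.det = 1 + s a := by
    have h1 : M = 1 + Matrix.replicateCol Unit a * Matrix.replicateRow Unit r := by
      rw [hM]; congr 1
      ext i j; simp [Matrix.vecMulVec_apply, Matrix.mul_apply]
    rw [h1, Matrix.det_one_add_replicateCol_mul_replicateRow, hdot]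
  have hMx : ∀ x : Fin n → F, M *ᵥ x = x + s x • a := by
    intro x
    rw [hM, Matrix.add_mulVec, Matrix.one_mulVec, Matrix.vecMulVec_mulVec, hdot]
    congr 1
    ext i
    simp [mul_comm]
  exact ⟨Matrix.GeneralLinearGroup.mkOfDetNeZero M (by rw [hdet]; exact hs), hdet, hMx⟩

lemma mem_specialLinear_iff (g : GL (Fin n) F) :
    g ∈ Cfsg.Geo.specialLinear (Fin n) F ↔ (g : Matrix (Fin n) (Fin n) F).det = 1 := by
  change g ∈ (Matrix.GeneralLinearGroup.det : GL (Fin n) F →* Fˣ).ker ↔ _
  rw [MonoidHom.mem_ker]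
  constructor
  · intro h
    have := congrArg Units.val h
    simpa using this
  · intro h
    apply Units.ext
    simpa using h

/-- `M` contains a transvection with centre in block `k` and functional in block `i ≠ k` -/
def Cross (D : Fin t → Submodule F (Fin n → F)) (M : Subgroup (GL (Fin n) F)) : Prop :=
  ∃ k i : Fin t, k ≠ i ∧ ∃ z ∈ D k, z ≠ 0 ∧ ∃ φ : (Fin n → F) →ₗ[F] F, φ ≠ 0 ∧ InBlock D i φ ∧ TM M φ z

/-- `M` contains all transvections with centre in block `k` and functional in block `i` -/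
def Full (D : Fin t → Submodule F (Fin n → F)) (M : Subgroup (GL (Fin n) F)) (k i : Fin t) : Prop :=
  ∀ z ∈ D k, ∀ φ : (Fin n → F) →ₗ[F] F, InBlock D i φ → TM M φ z

/-! ### additions to the transvection calculus -/

lemma TM_add_center {M : Subgroup (GL (Fin n) F)} {s : (Fin n → F) →ₗ[F] F} {a b : Fin n → F}
    (h : TM M s a) (h' : TM M s b) : TM M s (a + b) := by
  obtain ⟨h0, t, ht, htv⟩ := h
  obtain ⟨h0', t', ht', htv'⟩ := h'
  refine ⟨by rw [map_add, h0, h0', add_zero], t * t', M.mul_mem ht ht', fun v => ?_⟩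
  rw [Units.val_mul, ← Matrix.mulVec_mulVec, htv', htv]
  simp only [map_add, map_smul, h0', smul_eq_mul, mul_zero, add_zero]
  rw [smul_add]; abel

lemma TM_neg_center {M : Subgroup (GL (Fin n) F)} {s : (Fin n → F) →ₗ[F] F} {a : Fin n → F}
    (h : TM M s a) : TM M s (-a) := by
  have h1 : TM M ((-1 : F) • s) a := by
    have := TM_neg h
    rwa [← neg_one_smul F s] at this
  have h2 := TM_smul_center h1
  rwa [neg_one_smul] at h2

lemma TM_sub_center {M : Subgroup (GL (Fin n) F)} {s : (Fin n → F) →ₗ[F] F} {a b : Fin n → F}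
    (h : TM M s a) (h' : TM M s b) : TM M s (a - b) := by
  rw [sub_eq_add_neg]
  exact TM_add_center h (TM_neg_center h')

lemma TM_sub {M : Subgroup (GL (Fin n) F)} {s s' : (Fin n → F) →ₗ[F] F} {a : Fin n → F}
    (h : TM M s a) (h' : TM M s' a) : TM M (s - s') a := by
  rw [sub_eq_add_neg]
  exact TM_add h (TM_neg h')

lemma TM_sum {M : Subgroup (GL (Fin n) F)} {ι : Type*} (S : Finset ι)
    (s : ι → (Fin n → F) →ₗ[F] F) {a : Fin n → F} (h : ∀ i ∈ S, TM M (s i) a) :
    TM M (∑ i ∈ S, s i) a := by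
  classical
  induction S using Finset.induction_on with
  | empty => simpa using TM_zero_fun M a
  | insert i S hi ih =>
    rw [Finset.sum_insert hi]
    exact TM_add (h i (Finset.mem_insert_self i S))
      (ih (fun j hj => h j (Finset.mem_insert_of_mem hj)))

/-- conjugating by a transvection of `M` (explicit form) -/
lemma TM_conj_tv {M : Subgroup (GL (Fin n) F)} {s χ : (Fin n → F) →ₗ[F] F} {a c : Fin n → F}
    (hτ : TM M χ c) (h : TM M s a) : TM M (s - s c • χ) (a + χ a • c) := by
  obtain ⟨hc0, x, hx, hxv⟩ := hτ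
  have h1 := TM_conj hx h
  rw [hxv] at h1
  refine TM_of_eq ?_ h1
  intro v
  rw [LinearMap.comp_apply, Matrix.toLin'_apply, inv_apply_of hc0 hxv, map_sub, map_smul,
    LinearMap.sub_apply, LinearMap.smul_apply, smul_eq_mul, smul_eq_mul, mul_comm]

end Cfsg.Agent.Lib.Helper18.C2
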