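import Cfsg.Agent.Lib.Helper18.C2Defs

/-!
# S5634, blocks of dimension ≥ 2: existence of functionals / vectors inside one block
-/

set_option autoImplicit false
set_option linter.unusedSectionVars false
set_option linter.unusedVariables false

namespace Cfsg.Agent.Lib.Helper18.C2
open Cfsg Matrix Module Cfsg.Agent.Lib.Helper5.TMCalc

variable {F : Type*} [Field F] {n t m : ℕ} {D : Fin t → Submodule F (Fin n → F)}

/-- extend a functional on the block `D i` by zero on the other blocks -/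
lemma exists_inBlock_of_dual (hD : Cfsg.Geo.IsMDecomposition m D) (i : Fin t)
    (f : ↥(D i) →ₗ[F] F) :
    ∃ s : (Fin n → F) →ₗ[F] F, InBlock D i s ∧ ∀ (v : Fin n → F) (hv : v ∈ D i), s v = f ⟨v, hv⟩ := by
  refine ⟨f ∘ₗ (D i).projectionOnto (co D i) (isCompl_co hD i), ?_, ?_⟩
  · intro j hji v hv
    rw [LinearMap.comp_apply,
      Submodule.projectionOnto_apply_of_mem_right (isCompl_co hD i) (le_co hji hv), map_zero]
  · intro v hv
    rw [LinearMap.comp_apply]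
    congr 1
    exact Submodule.projectionOnto_apply_left (isCompl_co hD i) ⟨v, hv⟩

lemma exists_mem_ne_zero (hD : Cfsg.Geo.IsMDecomposition m D) (i : Fin t) :
    ∃ x ∈ D i, x ≠ 0 := by
  have hpos : 0 < finrank F ↥(D i) := by rw [hD.finrank_eq i]; exact hD.pos
  obtain ⟨x, hx⟩ := Module.finrank_pos_iff_exists_ne_zero.mp hpos
  exact ⟨x.1, x.2, fun h => hx (Subtype.ext h)⟩

/-- a nonzero functional in block `i` killing a given subspace `p` of `D i` of small dimension -/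
lemma exists_inBlock_kill_sub (hD : Cfsg.Geo.IsMDecomposition m D) (i : Fin t)
    (p : Submodule F ↥(D i)) (hp : finrank F ↥p < m) :
    ∃ s : (Fin n → F) →ₗ[F] F, s ≠ 0 ∧ InBlock D i s ∧
      ∀ (v : Fin n → F) (hv : v ∈ D i), (⟨v, hv⟩ : ↥(D i)) ∈ p → s v = 0 := by
  have hlt : p < ⊤ := by
    rw [lt_top_iff_ne_top]
    intro h
    rw [h, finrank_top, hD.finrank_eq i] at hp
    exact lt_irrefl _ hp
  obtain ⟨f, hf0, hf⟩ := Submodule.exists_dual_map_eq_bot_of_lt_top hlt inferInstance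
  obtain ⟨s, hs, hsv⟩ := exists_inBlock_of_dual hD i f
  refine ⟨s, ?_, hs, ?_⟩
  · intro h0
    apply hf0
    apply LinearMap.ext
    intro e
    rw [← hsv e.1 e.2, h0]
    rfl
  · intro v hv hvp
    rw [hsv v hv]
    have : f ⟨v, hv⟩ ∈ Submodule.map f p := ⟨_, hvp, rfl⟩
    rw [hf] at this
    exact (Submodule.mem_bot F).mp this

lemma exists_inBlock_kill1 (hD : Cfsg.Geo.IsMDecomposition m D) (hm : 2 ≤ m) {i : Fin t}
    {x : Fin n → F} (hx : x ∈ D i) :
    ∃ s : (Fin n → F) →ₗ[F] F, s ≠ 0 ∧ InBlock D i s ∧ s x = 0 := by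
  classical
  obtain ⟨s, hs0, hs, hk⟩ := exists_inBlock_kill_sub hD i
    (Submodule.span F ({(⟨x, hx⟩ : ↥(D i))} : Finset ↥(D i))) (by
      refine lt_of_le_of_lt (finrank_span_finset_le_card _) ?_
      rw [Finset.card_singleton]; omega)
  exact ⟨s, hs0, hs, hk x hx (Submodule.subset_span (by simp))⟩

lemma exists_inBlock_kill2 (hD : Cfsg.Geo.IsMDecomposition m D) (hm : 3 ≤ m) {i : Fin t}
    {x y : Fin n → F} (hx : x ∈ D i) (hy : y ∈ D i) :
    ∃ s : (Fin n → F) →ₗ[F] F, s ≠ 0 ∧ InBlock D i s ∧ s x = 0 ∧ s y = 0 := by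
  classical
  obtain ⟨s, hs0, hs, hk⟩ := exists_inBlock_kill_sub hD i
    (Submodule.span F ({(⟨x, hx⟩ : ↥(D i)), ⟨y, hy⟩} : Finset ↥(D i))) (by
      refine lt_of_le_of_lt (finrank_span_finset_le_card _) ?_
      exact lt_of_le_of_lt Finset.card_le_two (by omega))
  exact ⟨s, hs0, hs, hk x hx (Submodule.subset_span (by simp)),
    hk y hy (Submodule.subset_span (by simp))⟩

/-- a functional in block `i` killing `x` and taking the value `1` at `y`, when `y ∉ F x` -/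
lemma exists_inBlock_sep (hD : Cfsg.Geo.IsMDecomposition m D) {i : Fin t}
    {x y : Fin n → F} (hx : x ∈ D i) (hy : y ∈ D i) (hxy : ∀ c : F, y ≠ c • x) :
    ∃ s : (Fin n → F) →ₗ[F] F, InBlock D i s ∧ s x = 0 ∧ s y = 1 := by
  have hnot : (⟨y, hy⟩ : ↥(D i)) ∉ Submodule.span F {(⟨x, hx⟩ : ↥(D i))} := by
    intro h
    obtain ⟨c, hc⟩ := Submodule.mem_span_singleton.mp h
    exact hxy c (by simpa using (congrArg Subtype.val hc).symm)
  obtain ⟨f, hfy, hf⟩ := Submodule.exists_dual_map_eq_bot_of_notMem hnot inferInstance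
  obtain ⟨s, hs, hsv⟩ := exists_inBlock_of_dual hD i ((f ⟨y, hy⟩)⁻¹ • f)
  refine ⟨s, hs, ?_, ?_⟩
  · rw [hsv x hx, LinearMap.smul_apply]
    have : f ⟨x, hx⟩ ∈ Submodule.map f (Submodule.span F {(⟨x, hx⟩ : ↥(D i))}) :=
      ⟨_, Submodule.subset_span rfl, rfl⟩
    rw [hf] at this
    rw [(Submodule.mem_bot F).mp this, smul_zero]
  · rw [hsv y hy, LinearMap.smul_apply, smul_eq_mul, inv_mul_cancel₀ hfy]

lemma exists_inBlock_one (hD : Cfsg.Geo.IsMDecomposition m D) {i : Fin t}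
    {y : Fin n → F} (hy : y ∈ D i) (hy0 : y ≠ 0) :
    ∃ s : (Fin n → F) →ₗ[F] F, InBlock D i s ∧ s y = 1 := by
  obtain ⟨s, hs, -, h1⟩ := exists_inBlock_sep hD (x := 0) (D i).zero_mem hy
    (fun c => by rw [smul_zero]; exact hy0)
  exact ⟨s, hs, h1⟩

/-- a nonzero vector of `D i` killed by `r < m` given functionals -/
lemma exists_ne_zero_kill (hD : Cfsg.Geo.IsMDecomposition m D) (i : Fin t) {r : ℕ} (hr : r < m)
    (s : Fin r → (Fin n → F) →ₗ[F] F) : ∃ x ∈ D i, x ≠ 0 ∧ ∀ l, s l x = 0 := by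
  let f : ↥(D i) →ₗ[F] (Fin r → F) := LinearMap.pi (fun l => (s l) ∘ₗ (D i).subtype)
  have hker : LinearMap.ker f ≠ ⊥ := by
    apply LinearMap.ker_ne_bot_of_finrank_lt
    rw [Module.finrank_fin_fun, hD.finrank_eq i]
    exact hr
  obtain ⟨x, hx, hx0⟩ := (Submodule.ne_bot_iff _).mp hker
  refine ⟨x.1, x.2, fun h => hx0 (Subtype.ext h), fun l => ?_⟩
  have := congrFun (LinearMap.mem_ker.mp hx) l
  simpa [f] using this

lemma exists_ne_zero_kill1 (hD : Cfsg.Geo.IsMDecomposition m D) (hm : 2 ≤ m) (i : Fin t)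
    (s : (Fin n → F) →ₗ[F] F) : ∃ x ∈ D i, x ≠ 0 ∧ s x = 0 := by
  obtain ⟨x, hx, hx0, h⟩ := exists_ne_zero_kill hD i (r := 1) (by omega) (fun _ => s)
  exact ⟨x, hx, hx0, h 0⟩

lemma exists_ne_zero_kill2 (hD : Cfsg.Geo.IsMDecomposition m D) (hm : 3 ≤ m) (i : Fin t)
    (s s' : (Fin n → F) →ₗ[F] F) : ∃ x ∈ D i, x ≠ 0 ∧ s x = 0 ∧ s' x = 0 := by
  obtain ⟨x, hx, hx0, h⟩ := exists_ne_zero_kill hD i (r := 2) (by omega) ![s, s']
  exact ⟨x, hx, hx0, h 0, h 1⟩

/-- distinct blocks meet trivially -/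
lemma eq_zero_of_mem_of_mem (hD : Cfsg.Geo.IsMDecomposition m D) {i j : Fin t} (hij : i ≠ j)
    {v : Fin n → F} (hi : v ∈ D i) (hj : v ∈ D j) : v = 0 := by
  have h1 := pr_same hD hi
  have h2 := pr_ne hD (Ne.symm hij) hj
  rw [← h1, h2]

end Cfsg.Agent.Lib.Helper18.C2
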