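import Mathlib
import Cfsg.Agent.Lib.Helper5.SUMax
import Cfsg.Agent.Lib.Helper11.MonoBasic
import Cfsg.Agent.Lib.Helper15.MonoWa1
import Cfsg.Agent.Lib.Helper2.MonoMA

/-!
S5655 (SU_n C2), k = 1, NON-DENSE chain: shared definitions and toolkit.
`M ≤ GU_n(q) ⊓ SL_n` contains all monomial matrices of `GU ⊓ SL` (`ContainsMonoU`); the goal is
`GU ⊓ SL ≤ M` through helper5's `SUMax.Sset hF M` (centres of full unitary root groups contained in `M`).
Toolkit: the form on coordinate vectors, monomial elements `dg d * pmGL σ` of `GU ⊓ SL`, the torus elements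
`dg (tcc a b ε)`, the rotation `rotU a b` (`e_a ↦ e_b`, `e_b ↦ -e_a`), weight-two vectors `w2 a b α β`.
-/

set_option autoImplicit false
set_option linter.unusedSectionVars false

namespace Cfsg.Agent.Lib.Helper18.UNd
open Cfsg Matrix Cfsg.Agent.Lib.Helper11.Mono Cfsg.Agent.Lib.Helper15.MonoLeaf
  Cfsg.Agent.Lib.Helper2.MonoLeaf Cfsg.Agent.Lib.Helper5.SUMax Cfsg.Agent.Lib.Helper5.HermBridge
  Cfsg.Agent.Lib.Helper5.UForm

variable {F : Type*} [Field F] [Fintype F] {n q : ℕ}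

/-- `M` contains all monomial matrices of `GU_n(q) ⊓ SL_n` -/
def ContainsMonoU (n : ℕ) (q : ℕ) (M : Subgroup (GL (Fin n) F)) : Prop :=
  ∀ g : GL (Fin n) F, g ∈ Cfsg.GU n F q ⊓ Cfsg.Geo.specialLinear (Fin n) F →
    IsMono (g : Matrix (Fin n) (Fin n) F) → g ∈ M

/-- the weight-two vector `α e_a + β e_b` -/
def w2 (a b : Fin n) (α β : F) : Fin n → F :=
  α • (Pi.single a (1 : F) : Fin n → F) + β • (Pi.single b (1 : F) : Fin n → F)

lemma w2_apply_left {a b : Fin n} (hab : a ≠ b) (α β : F) : w2 a b α β a = α := by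
  simp [w2, hab]

lemma w2_apply_right {a b : Fin n} (hab : a ≠ b) (α β : F) : w2 a b α β b = β := by
  simp [w2, hab.symm]

lemma w2_apply_off {a b x : Fin n} (hxa : x ≠ a) (hxb : x ≠ b) (α β : F) : w2 a b α β x = 0 := by
  simp [w2, hxa, hxb]

lemma herm_single_right (hq : q ≠ 0) (x : Fin n → F) (j : Fin n) :
    Cfsg.hermForm n F q x (Pi.single j (1 : F)) = x j := by
  unfold Cfsg.hermForm
  rw [Finset.sum_eq_single j]
  · simp
  · intro b _ hb
    rw [Pi.single_eq_of_ne hb, zero_pow hq, mul_zero]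
  · simp

lemma herm_single_left (x : Fin n → F) (j : Fin n) :
    Cfsg.hermForm n F q (Pi.single j (1 : F)) x = x j ^ q := by
  unfold Cfsg.hermForm
  rw [Finset.sum_eq_single j]
  · simp
  · intro b _ hb
    rw [Pi.single_eq_of_ne hb, zero_mul]
  · simp

lemma herm_self (x : Fin n → F) : Cfsg.hermForm n F q x x = ∑ i, x i ^ (q + 1) := by
  unfold Cfsg.hermForm
  apply Finset.sum_congr rfl
  intro i _
  rw [pow_succ']

lemma herm_w2 (hq : q ≠ 0) {a b : Fin n} (hab : a ≠ b) (α β : F) (x : Fin n → F) :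
    Cfsg.hermForm n F q x (w2 a b α β) = x a * α ^ q + x b * β ^ q := by
  unfold Cfsg.hermForm
  rw [Finset.sum_eq_add_of_mem a b (Finset.mem_univ _) (Finset.mem_univ _) hab]
  · rw [w2_apply_left hab, w2_apply_right hab]
  · intro c _ hc
    rw [w2_apply_off hc.1 hc.2, zero_pow hq, mul_zero]

lemma herm_w2_self {a b : Fin n} (hab : a ≠ b) (α β : F) :
    Cfsg.hermForm n F q (w2 a b α β) (w2 a b α β) = α ^ (q + 1) + β ^ (q + 1) := by
  rw [herm_self, Finset.sum_eq_add_of_mem a b (Finset.mem_univ _) (Finset.mem_univ _) hab]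
  · rw [w2_apply_left hab, w2_apply_right hab]
  · intro c _ hc
    rw [w2_apply_off hc.1 hc.2, zero_pow (by omega)]

/-- the action of a monomial matrix `diag(d) * P_σ` -/
lemma mono_mulVec (d : Fin n → Fˣ) (σ : Equiv.Perm (Fin n)) (v : Fin n → F) :
    ((dg d * pmGL σ : GL (Fin n) F) : Matrix (Fin n) (Fin n) F) *ᵥ v = fun x => (d x : F) * v (σ x) := by
  ext x
  rw [Matrix.mulVec, dotProduct, Finset.sum_eq_single (σ x)]
  · rw [mono_val, if_pos rfl]
  · intro b _ hb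
    rw [mono_val, if_neg (Ne.symm hb), zero_mul]
  · simp

lemma mono_mem_GU {d : Fin n → Fˣ} (hd : ∀ i, d i ^ (q + 1) = 1) (σ : Equiv.Perm (Fin n)) :
    (dg d * pmGL σ : GL (Fin n) F) ∈ Cfsg.GU n F q := by
  intro x y
  change Cfsg.hermForm n F q
      (((dg d * pmGL σ : GL (Fin n) F) : Matrix (Fin n) (Fin n) F) *ᵥ x)
      (((dg d * pmGL σ : GL (Fin n) F) : Matrix (Fin n) (Fin n) F) *ᵥ y) = _
  rw [mono_mulVec, mono_mulVec]
  unfold Cfsg.hermForm
  rw [← Equiv.sum_comp σ (fun i => x i * y i ^ q)]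
  apply Finset.sum_congr rfl
  intro i _
  have h1 : ((d i : F)) ^ (q + 1) = 1 := by
    have := congrArg Units.val (hd i)
    rwa [Units.val_pow_eq_pow_val, Units.val_one] at this
  calc (d i : F) * x (σ i) * ((d i : F) * y (σ i)) ^ q
      = (d i : F) ^ (q + 1) * (x (σ i) * y (σ i) ^ q) := by rw [mul_pow, pow_succ]; ring
    _ = x (σ i) * y (σ i) ^ q := by rw [h1, one_mul]

lemma mono_det (d : Fin n → Fˣ) (σ : Equiv.Perm (Fin n)) :
    ((dg d * pmGL σ : GL (Fin n) F) : Matrix (Fin n) (Fin n) F).det =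
      (∏ i, (d i : F)) * ((Equiv.Perm.sign σ : ℤ) : F) := by
  rw [Units.val_mul, Matrix.det_mul, dg_det, pmGL_val, Matrix.det_permutation]

lemma mono_mem {d : Fin n → Fˣ} (hd : ∀ i, d i ^ (q + 1) = 1) (σ : Equiv.Perm (Fin n))
    (hdet : (∏ i, (d i : F)) * ((Equiv.Perm.sign σ : ℤ) : F) = 1) :
    (dg d * pmGL σ : GL (Fin n) F) ∈ Cfsg.GU n F q ⊓ Cfsg.Geo.specialLinear (Fin n) F :=
  ⟨mono_mem_GU hd σ, (mem_specialLinear_iff _).mpr (by rw [mono_det, hdet])⟩

lemma mono_mem_M {M : Subgroup (GL (Fin n) F)} (hH : ContainsMonoU n q M) {d : Fin n → Fˣ}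
    (hd : ∀ i, d i ^ (q + 1) = 1) (σ : Equiv.Perm (Fin n))
    (hdet : (∏ i, (d i : F)) * ((Equiv.Perm.sign σ : ℤ) : F) = 1) :
    (dg d * pmGL σ : GL (Fin n) F) ∈ M :=
  hH _ (mono_mem hd σ hdet) (mono_isMono d σ)

/-- the torus elements `diag(ε at a, ε⁻¹ at b)`, `ε^(q+1) = 1` -/
lemma dg_tcc_mem {a b : Fin n} (hab : a ≠ b) {ε : Fˣ} (hε : ε ^ (q + 1) = 1) :
    (dg (tcc a b ε) : GL (Fin n) F) ∈ Cfsg.GU n F q ⊓ Cfsg.Geo.specialLinear (Fin n) F := by
  have h := mono_mem (q := q) (d := tcc a b ε) (fun i => by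
    unfold tcc
    split_ifs
    · exact hε
    · rw [inv_pow, hε, inv_one]
    · exact one_pow _) (1 : Equiv.Perm (Fin n)) (by
    rw [Equiv.Perm.sign_one]
    have := congrArg Units.val (tcc_prod hab ε)
    rw [Units.coe_prod, Units.val_one] at this
    rw [this]
    simp)
  have h1 : (pmGL (1 : Equiv.Perm (Fin n)) : GL (Fin n) F) = 1 := by
    apply Units.ext
    rw [pmGL_val, Matrix.permMatrix_one, Units.val_one]
  rwa [h1, mul_one] at h

lemma dg_tcc_mem_M {M : Subgroup (GL (Fin n) F)} (hH : ContainsMonoU n q M) {a b : Fin n}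
    (hab : a ≠ b) {ε : Fˣ} (hε : ε ^ (q + 1) = 1) : (dg (tcc a b ε) : GL (Fin n) F) ∈ M :=
  hH _ (dg_tcc_mem hab hε) (dg_isMono _)

lemma dg_tcc_mulVec {a b : Fin n} (hab : a ≠ b) (ε : Fˣ) (v : Fin n → F) :
    ((dg (tcc a b ε) : GL (Fin n) F) : Matrix (Fin n) (Fin n) F) *ᵥ v =
      fun x => if x = a then (ε : F) * v x else if x = b then ((ε⁻¹ : Fˣ) : F) * v x else v x := by
  rw [dg_mulVec]
  ext x
  by_cases hxa : x = a
  · rw [if_pos hxa, hxa, tcc_same]
  · rw [if_neg hxa]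
    by_cases hxb : x = b
    · rw [if_pos hxb, hxb, tcc_other hab]
    · rw [if_neg hxb, tcc_off hxa hxb, Units.val_one, one_mul]

/-- the rotation `e_a ↦ e_b`, `e_b ↦ -e_a` -/
noncomputable def rotU (a b : Fin n) : GL (Fin n) F :=
  dg (fun x => if x = a then (-1 : Fˣ) else 1) * pmGL (Equiv.swap a b)

lemma rotU_mulVec {a b : Fin n} (hab : a ≠ b) (v : Fin n → F) :
    ((rotU a b : GL (Fin n) F) : Matrix (Fin n) (Fin n) F) *ᵥ v =
      fun x => if x = a then -v b else if x = b then v a else v x := by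
  unfold rotU
  rw [mono_mulVec]
  ext x
  by_cases hxa : x = a
  · rw [if_pos hxa, if_pos hxa, hxa, Equiv.swap_apply_left]
    simp
  · rw [if_neg hxa, if_neg hxa, Units.val_one, one_mul]
    by_cases hxb : x = b
    · rw [if_pos hxb, hxb, Equiv.swap_apply_right]
    · rw [if_neg hxb, Equiv.swap_apply_of_ne_of_ne hxa hxb]

lemma neg_one_pow_q_succ (hF : Fintype.card F = q ^ 2) : (-1 : Fˣ) ^ (q + 1) = 1 := by
  apply Units.ext
  rw [Units.val_pow_eq_pow_val, Units.val_neg, Units.val_one, pow_succ, ← frobQ_apply hF, map_neg,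
    map_one]
  ring

lemma rotU_isMono (a b : Fin n) : IsMono ((rotU a b : GL (Fin n) F) : Matrix (Fin n) (Fin n) F) :=
  mono_isMono _ _

lemma rotU_mem (hF : Fintype.card F = q ^ 2) {a b : Fin n} (hab : a ≠ b) :
    (rotU a b : GL (Fin n) F) ∈ Cfsg.GU n F q ⊓ Cfsg.Geo.specialLinear (Fin n) F := by
  unfold rotU
  apply mono_mem
  · intro i
    split_ifs
    · exact neg_one_pow_q_succ hF
    · exact one_pow _
  · rw [Equiv.Perm.sign_swap hab]
    rw [Finset.prod_eq_single a]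
    · simp
    · intro c _ hc
      rw [if_neg hc, Units.val_one]
    · simp

lemma rotU_mem_M (hF : Fintype.card F = q ^ 2) {M : Subgroup (GL (Fin n) F)}
    (hH : ContainsMonoU n q M) {a b : Fin n} (hab : a ≠ b) : (rotU a b : GL (Fin n) F) ∈ M :=
  hH _ (rotU_mem hF hab) (rotU_isMono a b)

lemma zero_mem_Sset (hF : Fintype.card F = q ^ 2) (M : Subgroup (GL (Fin n) F)) :
    (0 : Fin n → F) ∈ Sset hF M := by
  intro c _ g hg
  have : g = 1 := by
    apply Units.ext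
    apply Cfsg.Agent.Lib.Helper5.SpMax.mat_eq_of_mulVec
    intro x
    rw [hg, smul_zero, add_zero, Units.val_one, Matrix.one_mulVec]
  rw [this]
  exact M.one_mem

/-- the "virtual reflection centres" with spare coordinate `i`: unit vectors `u` with `u_i = 0` such that for every
`ε` of norm one `M` contains `x ↦ x + (ε - 1) f(x,u) u + (ε⁻¹ - 1) x_i e_i` (the quasi-reflection `r_u(ε)` with the
determinant compensated on `e_i`). -/
def Sig (n q : ℕ) (M : Subgroup (GL (Fin n) F)) (i : Fin n) : Set (Fin n → F) :=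
  {u | u i = 0 ∧ Cfsg.hermForm n F q u u = 1 ∧ ∀ ε : Fˣ, ε ^ (q + 1) = 1 → ∃ g ∈ M, ∀ x : Fin n → F,
    (g : Matrix (Fin n) (Fin n) F) *ᵥ x = x + (((ε : F) - 1) * Cfsg.hermForm n F q x u) • u +
      ((((ε⁻¹ : Fˣ) : F) - 1) * x i) • (Pi.single i (1 : F) : Fin n → F)}

/-- `M` contains a non-trivial unitary transvection `x ↦ x + c f(x,z) z` whose centre `z` vanishes at the coordinate
`i`, with a coordinate `l ≠ i` such that `z_l ≠ 0` and `c * N(z_l) ≠ 1`. -/
def HasTv (hF : Fintype.card F = q ^ 2) (M : Subgroup (GL (Fin n) F)) (i : Fin n) : Prop :=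
  ∃ (z : Fin n → F) (c : F) (g : GL (Fin n) F) (l : Fin n), g ∈ M ∧ z i = 0 ∧ l ≠ i ∧ z l ≠ 0 ∧
    Cfsg.hermForm n F q z z = 0 ∧ c ≠ 0 ∧ frobQ hF c = -c ∧
    (∀ x : Fin n → F, (g : Matrix (Fin n) (Fin n) F) *ᵥ x = x + (c * Cfsg.hermForm n F q x z) • z) ∧
    c * z l ^ (q + 1) ≠ 1

end Cfsg.Agent.Lib.Helper18.UNd
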