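import Mathlib
import Cfsg.Agent.Lib.Helper18.UDenseDefs
import Cfsg.Agent.Lib.Helper18.UDenseComb
import Cfsg.Agent.Lib.Helper15.UDenseK1
import Cfsg.Agent.Lib.Helper12.UDenseK2a
import Cfsg.Agent.Lib.Helper23.UDenseK2b
import Cfsg.Agent.Lib.Helper23.UDenseK2e

/-!
S5655 (k = 1), DENSE case closed: a subgroup `L ≤ GL_n(F)` (`n ≥ 11`) containing the torus elements
`dg (tcc k l ε)`, `ε ∈ Θ`, `card Θ ≥ 4`, and containing a non-monomial element, contains a non-monomial element with a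
monomial column (`¬ WorldW L`).  Assembly of the market leaves (K1 helper15, K2a helper12, K2b + K2e helper23) with K2cd.
-/

set_option autoImplicit false

namespace Cfsg.Agent.Lib.Helper18.UDense
open Matrix Cfsg.Agent.Lib.Helper11.Mono Cfsg.Agent.Lib.Helper15.MonoLeaf

variable {F : Type*} [Field F] [Fintype F] {ι : Type} [Fintype ι] [DecidableEq ι]

/-- K2cd: for every 2-set `{k,l}` the column `c` of `g` is, off `{k, l, i}`, a combination of the columns `a, b`. -/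
theorem exists_comb (h8 : 8 ≤ Fintype.card ι) (L : Subgroup (GL ι F)) (hD : ColDense L)
    (ζ : Fˣ) (r : ℕ) (hr : r.Prime) (hζ : orderOf ζ = r)
    (hz : ∀ k l : ι, k ≠ l → dg (tcc k l ζ) ∈ L) (g : GL ι F) (hg : g ∈ L)
    (a b c : ι) (hab : a ≠ b) (hca : c ≠ a) (hcb : c ≠ b) (k l : ι) (hkl : k ≠ l) :
    ∃ (α β : F) (i : ι), ∀ x, x ≠ k → x ≠ l → x ≠ i →
      (g : Matrix ι ι F) x c = α * (g : Matrix ι ι F) x a + β * (g : Matrix ι ι F) x b := by
  have hζr : ζ ^ r = 1 := by rw [← hζ]; exact pow_orderOf_eq_one ζ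
  have hζ1 : ζ ≠ 1 := by
    intro h
    rw [h, orderOf_one] at hζ
    exact hr.ne_one hζ.symm
  exact exists_comb_core L ζ r hζr hz
    (fun k l hkl h hh hy =>
      Cfsg.Agent.Lib.Helper12.UDenseLeaf.isMono_of_conj_isMono h8 L hD ζ hζ1 k l hkl h hh hy)
    (fun N z z' g hz hz' hzN h1 h2 =>
      Cfsg.Agent.Lib.Helper23.UDenseLeaf.exists_mem_closure_coset N z z' g r hr hz hz' hzN h1 h2)
    g hg a b c hab k l hkl

/-- K2 (assembly): (D) forces `L` to be monomial. -/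
theorem isMono_of_colDense (h11 : 11 ≤ Fintype.card ι) (L : Subgroup (GL ι F)) (hD : ColDense L)
    (ζ : Fˣ) (r : ℕ) (hr : r.Prime) (hζ : orderOf ζ = r)
    (hz : ∀ k l : ι, k ≠ l → dg (tcc k l ζ) ∈ L) (g : GL ι F) (hg : g ∈ L) :
    IsMono (g : Matrix ι ι F) := by
  by_contra hnm
  have h3 : ∃ a b c : ι, a ≠ b ∧ c ≠ a ∧ c ≠ b := by
    have : 2 < Fintype.card ι := by omega
    obtain ⟨a, b, c, hab, hac, hbc⟩ := Fintype.two_lt_card_iff.mp this
    exact ⟨a, b, c, hab, hac.symm, hbc.symm⟩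
  obtain ⟨a, b, c, hab, hca, hcb⟩ := h3
  exact Cfsg.Agent.Lib.Helper23.UDenseLeaf.false_of_comb h11 L hD g hg hnm a b c hab hca hcb
    (fun k l hkl => exists_comb (by omega) L hD ζ r hr hζ hz g hg a b c hab hca hcb k l hkl)

/-- the interface for the rest of S5655: a non-monomial element forces a non-monomial element with a monomial column. -/
theorem not_worldW (h11 : 11 ≤ Fintype.card ι) (Θ : Subgroup Fˣ) (hΘ : 4 ≤ Nat.card Θ)
    (L : Subgroup (GL ι F)) (hT : HasTorus Θ L) (ζ : Fˣ) (hζΘ : ζ ∈ Θ) (r : ℕ) (hr : r.Prime) (hζ : orderOf ζ = r)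
    (g : GL ι F) (hg : g ∈ L) (hnm : ¬ IsMono (g : Matrix ι ι F)) : ¬ WorldW L := by
  intro hW
  exact hnm (isMono_of_colDense h11 L
    (Cfsg.Agent.Lib.Helper15.UDenseLeaf.colDense_of_worldW (by omega) Θ hΘ L hT hW) ζ r hr hζ
    (fun k l hkl => hT k l hkl ζ hζΘ) g hg)

end Cfsg.Agent.Lib.Helper18.UDense
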