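import Mathlib
import Cfsg.Agent.Lib.Helper18.Sims3Defs

set_option autoImplicit false

/-!
Helper18 library: vocabulary for Glauberman's theorem "Normalizers of p-subgroups in finite groups"
(S4359): the abstract generator data `PData p g x t` for a prime `p` (elements `x i` of order `p`
shifted by `g`, interval subgroups `Hx x i j` of order `p ^ (j - i + 1)` for at most `t` generators).
It is the `p`-analogue of `Sims3.TSData` without the two global conditions.
-/

namespace Cfsg.Agent.Lib.Helper18.Glaub

open Cfsg.Agent.Lib.Helper18.Sims3

variable {G : Type*} [Group G]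

/-- Abstract generator data for a prime `p`: `g x_i g⁻¹ = x_(i+1)` and
`|⟨x_i, ..., x_j⟩| = p ^ (j - i + 1)` whenever at most `t` generators are involved. -/
structure PData (p : ℕ) (g : G) (x : ℕ → G) (t : ℕ) : Prop where
  shift : ∀ i, g * x i * g⁻¹ = x (i + 1)
  card : ∀ i j, i ≤ j → j < i + t → Nat.card ↥(Hx x i j) = p ^ (j - i + 1)

end Cfsg.Agent.Lib.Helper18.Glaub
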