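import Mathlib
import Cfsg.Prelude.Def_GeometricClasses
import Cfsg.Agent.Lib.Helper20.AschDefs
import Cfsg.Agent.Lib.Helper29.SpAschDefs
import Cfsg.Agent.Lib.Helper18.OAschDefs

/-!
S5673 (Aschbacher's theorem for `Ω_{2m+1}(q)`, `q` odd; planner helper18): the GRAM MATRIX vocabulary.

All blocks of the generic theorem are stated for a symmetric invertible Gram matrix `G` on `F^n` (`n` odd, `|F|` odd), with
helper29's `bfm G u v = u ⬝ᵥ (G *ᵥ v)`, `isoG G` (isometry group of `bfm G` in `GL`), `adjM G T = G⁻¹ Tᵀ G`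
(`Cfsg.Agent.Lib.Helper29.SpAsch`), the quadratic form `qf G v = 2⁻¹ * bfm G v v` (so `polar (qf G) = bfm G`,
`isometryGroup F (qf G) = isoG G`), the orthogonal complement `perpG G W` and the radical `radG G W = W ⊓ W^⊥`.
`OG G`: the standing hypotheses.  A quadratic form `Q` with `OCtx Q` is `qf G` for `G = gramMatrix (polar Q)` (leaf `og_of_octx`).
-/

set_option autoImplicit false
set_option linter.unusedSectionVars false
set_option linter.unusedVariables false

namespace Cfsg.Agent.Lib.Helper18.OAsch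
open Matrix Cfsg Cfsg.Geo Cfsg.Agent.Lib.Helper20.Asch Cfsg.Agent.Lib.Helper29.SpAsch
open scoped Kronecker

variable {F : Type*} [Field F] {κ : Type} [Fintype κ] [DecidableEq κ]

/-- the quadratic form with (symmetric) Gram matrix `G`, in odd characteristic -/
def qf (G : Matrix κ κ F) (v : κ → F) : F := 2⁻¹ * bfm G v v

lemma bfm_add_right (G : Matrix κ κ F) (u a b : κ → F) : bfm G u (a + b) = bfm G u a + bfm G u b := by
  unfold bfm
  rw [Matrix.mulVec_add, dotProduct_add]

lemma bfm_smul_right (G : Matrix κ κ F) (c : F) (u a : κ → F) : bfm G u (c • a) = c * bfm G u a := by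
  unfold bfm
  rw [Matrix.mulVec_smul, dotProduct_smul, smul_eq_mul]

lemma bfm_add_left (G : Matrix κ κ F) (a b v : κ → F) : bfm G (a + b) v = bfm G a v + bfm G b v := by
  unfold bfm
  rw [add_dotProduct]

lemma bfm_smul_left (G : Matrix κ κ F) (c : F) (a v : κ → F) : bfm G (c • a) v = c * bfm G a v := by
  unfold bfm
  rw [smul_dotProduct, smul_eq_mul]

lemma bfm_zero_right (G : Matrix κ κ F) (u : κ → F) : bfm G u 0 = 0 := by
  unfold bfm
  rw [Matrix.mulVec_zero, dotProduct_zero]

/-- the orthogonal complement of `W` for `bfm G`: `{v | ∀ u ∈ W, bfm G u v = 0}` -/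
def perpG (G : Matrix κ κ F) (W : Submodule F (κ → F)) : Submodule F (κ → F) where
  carrier := {v | ∀ u ∈ W, bfm G u v = 0}
  add_mem' := by
    intro a b ha hb u hu
    rw [bfm_add_right, ha u hu, hb u hu, add_zero]
  zero_mem' := fun u _ => bfm_zero_right G u
  smul_mem' := by
    intro c v hv u hu
    rw [bfm_smul_right, hv u hu, mul_zero]

lemma mem_perpG {G : Matrix κ κ F} {W : Submodule F (κ → F)} {v : κ → F} :
    v ∈ perpG G W ↔ ∀ u ∈ W, bfm G u v = 0 := Iff.rfl

/-- the radical `W ⊓ W^⊥` of `W` -/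
def radG (G : Matrix κ κ F) (W : Submodule F (κ → F)) : Submodule F (κ → F) := W ⊓ perpG G W

lemma mem_radG {G : Matrix κ κ F} {W : Submodule F (κ → F)} {v : κ → F} :
    v ∈ radG G W ↔ v ∈ W ∧ ∀ u ∈ W, bfm G u v = 0 := Iff.rfl

/-- the standing hypotheses of the generic theorem: `G` is a symmetric invertible matrix of odd size `n ≥ 3` over a finite field of
odd order, and `det G` lies in the prime field modulo squares -/
structure OG [Fintype F] {n : ℕ} (G : Matrix (Fin n) (Fin n) F) : Prop where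
  symm : Gᵀ = G
  det : G.det ≠ 0
  oddq : Odd (Fintype.card F)
  oddn : Odd n
  three : 3 ≤ n
  disc : ∃ c : F, c ∈ (⊥ : Subfield F) ∧ c ≠ 0 ∧ IsSquare (c * G.det)

end Cfsg.Agent.Lib.Helper18.OAsch
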