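import Mathlib
import Cfsg.Agent.Lib.Helper18.Sims3Defs

set_option autoImplicit false

/-!
SIMS market (S3385), leaf T2B3: the chain `Fc g D 0 k` halves at every step until it is trivial.
Also general membership / shift lemmas for `Fc`.
-/

namespace Cfsg.Agent.Lib.Helper18.SIMST2B3

open Cfsg Cfsg.Agent.Lib.Helper29.TWPair Cfsg.Agent.Lib.Helper18.Sims3 MulAction

variable {G : Type*} [Group G]

theorem mem_Dn_iff (g : G) (D : Subgroup G) (i : ℕ) (y : G) :
    y ∈ Dn g D i ↔ (g ^ i)⁻¹ * y * g ^ i ∈ D := by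
  unfold Dn
  exact Helper16.mem_map_conj_iff D (g ^ i) y

theorem mem_Fc_iff (g : G) (D : Subgroup G) (i k : ℕ) (y : G) :
    y ∈ Fc g D i k ↔ ∀ l, l ≤ k → y ∈ Dn g D (i + l) := by
  unfold Fc
  rw [Subgroup.mem_iInf]
  constructor
  · intro h l hl
    exact h ⟨l, by omega⟩
  · intro h l
    exact h l (by omega)

theorem Fc_succ_le (g : G) (D : Subgroup G) (i k : ℕ) : Fc g D i (k + 1) ≤ Fc g D i k := by
  intro y hy
  rw [mem_Fc_iff] at hy ⊢
  intro l hl
  exact hy l (by omega)

theorem Dn_zero (g : G) (D : Subgroup G) : Dn g D 0 = D := by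
  ext y
  rw [mem_Dn_iff]
  simp

theorem Fc_zero (g : G) (D : Subgroup G) (i : ℕ) : Fc g D i 0 = Dn g D i := by
  ext y
  rw [mem_Fc_iff]
  constructor
  · intro h
    simpa using h 0 le_rfl
  · intro h l hl
    have : l = 0 := by omega
    subst this
    simpa using h

theorem Fc_shift (g : G) (D : Subgroup G) (i k : ℕ) : Fc g D i k = cj (g ^ i) (Fc g D 0 k) := by
  ext y
  rw [Helper16.mem_map_conj_iff, mem_Fc_iff, mem_Fc_iff]
  constructor
  · intro h l hl
    have := h l hl
    rw [mem_Dn_iff] at this ⊢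
    have e : (g ^ (0 + l))⁻¹ * ((g ^ i)⁻¹ * y * g ^ i) * g ^ (0 + l) =
        (g ^ (i + l))⁻¹ * y * g ^ (i + l) := by
      rw [zero_add, pow_add]
      group
    rw [e]
    exact this
  · intro h l hl
    have := h l hl
    rw [mem_Dn_iff] at this ⊢
    have e : (g ^ (0 + l))⁻¹ * ((g ^ i)⁻¹ * y * g ^ i) * g ^ (0 + l) =
        (g ^ (i + l))⁻¹ * y * g ^ (i + l) := by
      rw [zero_add, pow_add]
      group
    rw [← e]
    exact this

/-- LEAF T2B3. -/
theorem card_Fc_of [Finite G] (g : G) (D : Subgroup G) (n : ℕ) (hn : Nat.card ↥D = 2 ^ n)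
    (hstep : ∀ i k, (Fc g D i (k + 1)).relIndex (Fc g D i k) ∣ 2)
    (hR : ∀ k, (∀ j, j < k → Fc g D 0 (j + 1) ≠ Fc g D 0 j) →
      Fc g D 0 (k + 1) = Fc g D 0 k → Fc g D 0 k = ⊥) :
    ∀ i k, k ≤ n → Nat.card ↥(Fc g D i k) = 2 ^ (n - k) := by
  have key : ∀ k, k ≤ n → Nat.card ↥(Fc g D 0 k) = 2 ^ (n - k) := by
    intro k
    induction k using Nat.strong_induction_on with
    | _ k ih =>
      intro hk
      rcases Nat.eq_zero_or_pos k with rfl | hpos
      · rw [Fc_zero, Dn_zero, hn, Nat.sub_zero]
      · obtain ⟨m, rfl⟩ : ∃ m, k = m + 1 := ⟨k - 1, by omega⟩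
        have hm := ih m (by omega) (by omega)
        have hstrict : ∀ j, j < m → Fc g D 0 (j + 1) ≠ Fc g D 0 j := by
          intro j hj heq
          have c1 := ih (j + 1) (by omega) (by omega)
          have c2 := ih j (by omega) (by omega)
          rw [heq, c2] at c1
          have : n - j = n - (j + 1) := Nat.pow_right_injective le_rfl c1
          omega
        have hne : Fc g D 0 (m + 1) ≠ Fc g D 0 m := by
          intro heq
          have hb := hR m hstrict heq
          rw [hb, Subgroup.card_bot] at hm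
          have : n - m = 0 := by
            by_contra h0
            have : 2 ≤ 2 ^ (n - m) := by
              calc 2 = 2 ^ 1 := rfl
                _ ≤ 2 ^ (n - m) := Nat.pow_le_pow_right (by norm_num) (by omega)
            omega
          omega
        have hle := Fc_succ_le g D 0 m
        have hcard := Helper4.card_mul_relIndex hle
        have hr := hstep 0 m
        have hr2 : (Fc g D 0 (m + 1)).relIndex (Fc g D 0 m) = 1 ∨
            (Fc g D 0 (m + 1)).relIndex (Fc g D 0 m) = 2 := by
          have := Nat.le_of_dvd (by norm_num) hr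
          have hpos' : 0 < (Fc g D 0 (m + 1)).relIndex (Fc g D 0 m) :=
            Nat.pos_of_dvd_of_pos hr (by norm_num)
          omega
        rcases hr2 with h1 | h2
        · exfalso
          rw [h1, mul_one] at hcard
          exact hne (Subgroup.eq_of_le_of_card_ge hle hcard.ge)
        · rw [h2, hm] at hcard
          have e : n - m = (n - (m + 1)) + 1 := by omega
          rw [e, pow_succ] at hcard
          exact Nat.eq_of_mul_eq_mul_right (by norm_num) hcard
  intro i k hk
  rw [Fc_shift, Helper16.card_map_conj]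
  exact key k hk

end Cfsg.Agent.Lib.Helper18.SIMST2B3
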