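import Mathlib
import Cfsg.Agent.Lib.Helper18.Sims3Defs
import Cfsg.Agent.Lib.Helper1.SIMSR5
import Cfsg.Agent.Lib.Helper1.SIMSR3
import Cfsg.Agent.Lib.Helper21.SIMSR2
import Cfsg.Agent.Lib.Helper16.SIMST1
import Cfsg.Agent.Lib.Helper22.SIMST2A
import Cfsg.Agent.Lib.Helper12.SIMST2B1
import Cfsg.Agent.Lib.Helper23.SIMST2B2
import Cfsg.Agent.Lib.Helper18.SIMST2B3
import Cfsg.Agent.Lib.Helper29.SIMST2C1
import Cfsg.Agent.Lib.Helper29.SIMST2C2
import Cfsg.Agent.Lib.Helper18.SIMST2C3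
import Cfsg.Agent.Lib.Helper18.SIMSL1
import Cfsg.Agent.Lib.Helper23.SIMSL2
import Cfsg.Agent.Lib.Helper5.SIMSL3
import Cfsg.Agent.Lib.Helper1.SIMSL4
import Cfsg.Agent.Lib.Helper5.SIMSL5
import Cfsg.Agent.Lib.Helper29.SIMSL6
import Cfsg.Agent.Lib.Helper23.SIMSL7A
import Cfsg.Agent.Lib.Helper29.SIMSL7B
import Cfsg.Agent.Lib.Helper23.SIMSL7C

set_option autoImplicit false

/-!
Helper18 library: ASSEMBLY of Sims' theorem (S3385) from the 20 leaves of the "SIMS" market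
(helper1, helper5, helper12, helper16, helper21, helper22, helper23, helper29, helper18)
over helper29's Thompson-Wielandt library.  See `notes/S3385_leaves.lean` for the mathematics.
-/

namespace Cfsg.Agent.Lib.Helper18.Sims3

open Cfsg Cfsg.Agent.Lib.Helper29.TWPair MulAction
open Cfsg.Agent.Lib.Helper1.SIMSR5 (red_p5)
open Cfsg.Agent.Lib.Helper1.SIMSR3 (red_p3)
open Cfsg.Agent.Lib.Helper21.SIMSR2 (red_p2)
open Cfsg.Agent.Lib.Helper16.SIMST1 (exists_shift)
open Cfsg.Agent.Lib.Helper22.SIMST2A (inf_eq_coreIn)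
open Cfsg.Agent.Lib.Helper12.SIMST2B1 (relIndex_Fc_succ_dvd)
open Cfsg.Agent.Lib.Helper23.SIMST2B2 (Fc_eq_bot_of_stable)
open Cfsg.Agent.Lib.Helper18.SIMST2B3 (card_Fc_of)
open Cfsg.Agent.Lib.Helper29.SIMST2C1 (Hx_xs_eq_Fc)
open Cfsg.Agent.Lib.Helper29.SIMST2C2 (Hx_xs_eq_cj)
open Cfsg.Agent.Lib.Helper18.SIMST2C3 (pair_cj)
open Cfsg.Agent.Lib.Helper18.SIMSL1 (tsdata_basic)
open Cfsg.Agent.Lib.Helper23.SIMSL2 (exists_lam)
open Cfsg.Agent.Lib.Helper5.SIMSL3 (two_mul_le)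
open Cfsg.Agent.Lib.Helper1.SIMSL4 (le_add_mu)
open Cfsg.Agent.Lib.Helper5.SIMSL5 (le_sub_nu)
open Cfsg.Agent.Lib.Helper29.SIMSL6 (mu_le_nu)
open Cfsg.Agent.Lib.Helper23.SIMSL7A (cm_eq_x2)
open Cfsg.Agent.Lib.Helper29.SIMSL7B (gamma_mem)
open Cfsg.Agent.Lib.Helper23.SIMSL7C (not_four_six_aux)

variable {G : Type*} [Group G]

theorem Hx_empty (x : ℕ → G) {i j : ℕ} (h : j < i) : Hx x i j = ⊥ := by
  unfold Hx
  rw [Set.Icc_eq_empty (by omega), Set.image_empty, Subgroup.closure_empty]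

theorem cm_eq_one_iff (a b : G) : cm a b = 1 ↔ Commute a b := by
  unfold cm
  constructor
  · intro h
    have : a * b = b * a := by
      have h2 : a * b * a⁻¹ * b⁻¹ * (b * a) = b * a := by rw [h, one_mul]
      rw [← h2]; group
    exact this
  · intro h
    have h' : a * b = b * a := h
    rw [h']; group

/-- ASSEMBLY L: `n ≤ 4`. -/
theorem TSData.le_four {g : G} {x : ℕ → G} {n : ℕ} (h : TSData g x n) : n ≤ 4 := by
  by_contra hn
  have hn5 : 5 ≤ n := by omega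
  have h1 : 1 ≤ n := by omega
  obtain ⟨hsq, hne1, hcm, hcj⟩ := tsdata_basic h h1
  obtain ⟨l, hl1, hln, hcomm, hnc⟩ := exists_lam h h1
  have hA := two_mul_le h h1 l hcomm
  have hln' : l + 1 ≤ n := by omega
  have hc1 : cm (x 0) (x l) ≠ 1 := fun hc => hnc ((cm_eq_one_iff _ _).mp hc)
  have hc0 : cm (x 0) (x l) ∈ Hx x 1 (l - 1) := by
    have := hcm 0 l (by omega) (by omega)
    simpa using this
  have hl2 : 2 ≤ l := by
    by_contra hl2
    have hl : l = 1 := by omega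
    subst hl
    rw [Hx_empty x (by omega), Subgroup.mem_bot] at hc0
    exact hc1 hc0
  -- mu
  classical
  let P : ℕ → Prop := fun m => cm (x 0) (x l) ∈ Hx x m (l - 1)
  have hP1 : P 1 := hc0
  set mu := Nat.findGreatest P (l - 1) with hmu
  have hPmu : P mu := Nat.findGreatest_spec (P := P) (m := 1) (by omega) hP1
  have hmu1 : 1 ≤ mu := Nat.le_findGreatest (by omega) hP1
  have hmule : mu ≤ l - 1 := Nat.findGreatest_le _
  have hPmu' : ¬ P (mu + 1) := by
    by_cases hm : mu + 1 ≤ l - 1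
    · exact Nat.findGreatest_is_greatest (Nat.lt_succ_self mu) hm
    · intro hP
      have : cm (x 0) (x l) ∈ Hx x (mu + 1) (l - 1) := hP
      rw [Hx_empty x (by omega), Subgroup.mem_bot] at this
      exact hc1 this
  -- nu
  let Q : ℕ → Prop := fun m => cm (x 0) (x l) ∈ Hx x 1 m
  have hQex : ∃ m, Q m := ⟨l - 1, hc0⟩
  set nu := Nat.find hQex with hnu
  have hQnu : Q nu := Nat.find_spec hQex
  have hnule : nu ≤ l - 1 := Nat.find_min' hQex hc0
  have hnu1 : 1 ≤ nu := by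
    by_contra h0
    have h0' : nu = 0 := by omega
    have : cm (x 0) (x l) ∈ Hx x 1 nu := hQnu
    rw [h0', Hx_empty x (by omega), Subgroup.mem_bot] at this
    exact hc1 this
  have hQnu' : ¬ Q (nu - 1) := Nat.find_min hQex (by omega)
  have hB := le_add_mu h hsq hcm l hl2 hln' hcomm hnc mu hmu1 (by omega) hPmu hPmu'
  have hB' := le_sub_nu h hsq hcm l hl2 hln' hcomm hnc nu hnu1 (by omega) hQnu hQnu'
  have hmn := mu_le_nu h l hln' hcomm _ hc1 mu nu hmu1 (by omega) hPmu hQnu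
  have e1 : l = 4 := by omega
  have e2 : n = 6 := by omega
  have e3 : mu = 2 := by omega
  have e4 : nu = 2 := by omega
  subst e1 e2
  have hc2 : cm (x 0) (x 4) ∈ Hx x 2 3 := by
    have := hPmu
    rw [e3] at this
    exact this
  have hc3 : cm (x 0) (x 4) ∈ Hx x 1 2 := by
    have := hQnu
    rw [e4] at this
    exact this
  have hx2 := cm_eq_x2 h hcomm hsq hc1 hc2 hc3
  exact not_four_six_aux h hcomm hsq hx2 (gamma_mem h hcomm hsq hcm hx2)

/-- ASSEMBLY T (step): `|D : D ⊓ gDg⁻¹| = 2`. -/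
theorem TS.relIndex_inf_cj [Finite G] {A B : Subgroup G} (h : TS A B) (g : G) (hg : B = cj g A)
    (hne : cj g (A ⊓ B) ≠ A ⊓ B) : ((A ⊓ B) ⊓ cj g (A ⊓ B)).relIndex (A ⊓ B) = 2 := by
  have hD' : cj g (A ⊓ B) ≤ B := by
    have : cj g (A ⊓ B) ≤ cj g A := Subgroup.map_mono inf_le_left
    rwa [← hg] at this
  have h2' : IsPGroup 2 ↥(cj g (A ⊓ B)) :=
    h.two.of_equiv ((A ⊓ B).equivMapOfInjective _ (MulAut.conj g).injective)
  have hi' : (cj g (A ⊓ B)).relIndex B = 3 := by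
    have := Subgroup.relIndex_map_map_of_injective (A ⊓ B) A (f := (MulAut.conj g).toMonoidHom)
      (MulAut.conj g).injective
    rw [h.idxA] at this
    have e : (cj g (A ⊓ B)).relIndex B = (cj g (A ⊓ B)).relIndex (cj g A) := by rw [← hg]
    rw [e]
    exact this
  have := inf_eq_coreIn (B := B) (D := A ⊓ B) (D' := cj g (A ⊓ B)) inf_le_right hD' h.two h2'
    h.idxB hi' hne.symm h.coreB
  rw [this]
  exact h.coreB

/-- ASSEMBLY T: generator data from the Tutte-Sims setting. -/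
theorem exists_data_of_TS' [Finite G] {A B : Subgroup G} (h : TS A B) (n : ℕ)
    (hn : Nat.card ↥(A ⊓ B) = 2 ^ n) (h1 : 1 ≤ n) :
    ∃ (g : G) (x : ℕ → G), TSData g x n ∧ Hx x 0 n = cj (g ^ (n + 1)) A := by
  obtain ⟨g, hg, hne⟩ := exists_shift h
  have hQ := h.relIndex_inf_cj g hg hne
  have hstep := fun i k => relIndex_Fc_succ_dvd g (A ⊓ B) hQ i k
  have hR := fun k hs hst => Fc_eq_bot_of_stable h g hg hne hstep k hs hst
  have hF := card_Fc_of g (A ⊓ B) n hn hstep hR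
  have hc2 : Nat.card ↥(Fc g (A ⊓ B) 1 (n - 1)) = 2 := by
    rw [hF 1 (n - 1) (by omega)]
    have : n - (n - 1) = 1 := by omega
    rw [this]; rfl
  have hne_bot : Fc g (A ⊓ B) 1 (n - 1) ≠ ⊥ := by
    intro hb
    rw [hb, Subgroup.card_bot] at hc2
    omega
  obtain ⟨⟨x0, hx0⟩, hy⟩ := (Subgroup.ne_bot_iff_exists_ne_one).mp hne_bot
  have hx01 : x0 ≠ 1 := fun hh => hy (Subtype.ext hh)
  have hH := Hx_xs_eq_Fc g (A ⊓ B) n h1 hF x0 hx0 hx01
  obtain ⟨hH0, hH1⟩ := Hx_xs_eq_cj h g hg n h1 hF x0 hx0 hx01 hH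
  refine ⟨g, xs g x0, ⟨?_, ?_, ?_, ?_⟩, hH0⟩
  · intro i
    unfold xs
    rw [pow_succ']
    group
  · intro i j hij hjn
    rw [hH i j hij hjn, hF (j + 1) (n - 1 - (j - i)) (by omega)]
    congr 1
    omega
  · rw [hH0]
    intro hp
    have hpA : IsPGroup 2 ↥A :=
      hp.of_equiv (A.equivMapOfInjective _ (MulAut.conj (g ^ (n + 1))).injective).symm
    obtain ⟨k, hk⟩ := hpA.exists_card_eq
    have hcard := Helper4.card_mul_relIndex (inf_le_left : A ⊓ B ≤ A)
    rw [h.idxA, hn, hk] at hcard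
    have h3 : 3 ∣ 2 ^ k := ⟨2 ^ n, by rw [← hcard]; ring⟩
    have := (Nat.Prime.dvd_of_dvd_pow Nat.prime_three h3)
    omega
  · intro N hN hnorm
    have hP := pair_cj h.pair (g ^ (n + 1))
    have hBeq : cj (g ^ (n + 1)) B = cj (g ^ (n + 2)) A := by
      rw [hg]
      show (A.map (MulAut.conj g).toMonoidHom).map (MulAut.conj (g ^ (n + 1))).toMonoidHom = _
      rw [Subgroup.map_map]
      congr 1
      ext y
      simp [MulAut.conj_apply, pow_succ, mul_assoc]
    rw [hBeq, ← hH0, ← hH1] at hP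
    apply hP.eq_bot_of_le_normalizer hN
    · unfold Hx
      rw [Subgroup.closure_le]
      rintro _ ⟨j, hj, rfl⟩
      exact hnorm j (by simp at hj; omega)
    · unfold Hx
      rw [Subgroup.closure_le]
      rintro _ ⟨j, hj, rfl⟩
      exact hnorm j (by simp at hj; omega)

/-- ASSEMBLY T: generator data from the Tutte-Sims setting (data only). -/
theorem exists_data_of_TS [Finite G] {A B : Subgroup G} (h : TS A B) (n : ℕ)
    (hn : Nat.card ↥(A ⊓ B) = 2 ^ n) (h1 : 1 ≤ n) : ∃ (g : G) (x : ℕ → G), TSData g x n := by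
  obtain ⟨g, x, hd, -⟩ := exists_data_of_TS' h n hn h1
  exact ⟨g, x, hd⟩

/-- ASSEMBLY T+L: the Tutte-Sims bound. -/
theorem TS.card_dvd [Finite G] {A B : Subgroup G} (h : TS A B) :
    ∃ n, n ≤ 4 ∧ Nat.card ↥(A ⊓ B) = 2 ^ n := by
  obtain ⟨n, hn⟩ := h.two.exists_card_eq
  refine ⟨n, ?_, hn⟩
  by_contra hn4
  obtain ⟨g, x, hd⟩ := exists_data_of_TS h n hn (by omega)
  exact hn4 hd.le_four

/-- ASSEMBLY R: the reduction. -/
theorem reduction [Finite G] {Ω : Type*} [MulAction G Ω] [FaithfulSMul G Ω]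
    (hprim : IsPreprimitive G Ω) (a b : Ω)
    (h3 : Nat.card (orbit (stabilizer G a) b) = 3) :
    Pair (stabilizer G a) (stabilizer G b) ∧
    (stabilizer G a ⊓ stabilizer G b).relIndex (stabilizer G a) = 3 ∧
    (stabilizer G a ⊓ stabilizer G b).relIndex (stabilizer G b) = 3 ∧
    (Nat.card ↥(stabilizer G a) ∣ 48 ∨ TS (stabilizer G a) (stabilizer G b)) := by
  have hab : stabilizer G a ≠ stabilizer G b := by
    intro h
    have h1 : Nat.card (orbit (stabilizer G a) b) = 1 := by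
      rw [Nat.card_eq_one_iff_unique]
      refine ⟨⟨?_⟩, ⟨⟨b, mem_orbit_self b⟩⟩⟩
      rintro ⟨_, ⟨x, rfl⟩⟩ ⟨_, ⟨y, rfl⟩⟩
      apply Subtype.ext
      have hx : (x : G) ∈ stabilizer G b := h ▸ x.2
      have hy : (y : G) ∈ stabilizer G b := h ▸ y.2
      show (x : G) • b = (y : G) • b
      rw [mem_stabilizer_iff.mp hx, mem_stabilizer_iff.mp hy]
    omega
  have hP := pair_of_primitive hprim hab
  have hd1 : (stabilizer G a ⊓ stabilizer G b).relIndex (stabilizer G a) = 3 := by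
    rw [relIndex_stabilizer_eq_card_orbit, h3]
  have hcard : Nat.card (stabilizer G a) = Nat.card (stabilizer G b) := by
    obtain ⟨g, hg⟩ := hP.conj
    rw [hg, Helper16.card_map_conj]
  have hd2 : (stabilizer G a ⊓ stabilizer G b).relIndex (stabilizer G b) = 3 := by
    have e1 := Helper4.card_mul_relIndex
      (inf_le_left : stabilizer G a ⊓ stabilizer G b ≤ stabilizer G a)
    have e2 := Helper4.card_mul_relIndex
      (inf_le_right : stabilizer G a ⊓ stabilizer G b ≤ stabilizer G b)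
    rw [hd1] at e1
    rw [← hcard, ← e1] at e2
    have hpos : 0 < Nat.card ↥(stabilizer G a ⊓ stabilizer G b) := Nat.card_pos
    exact Nat.eq_of_mul_eq_mul_left hpos e2
  refine ⟨hP, hd1, hd2, ?_⟩
  have h48 : Nat.factorial 3 * Nat.factorial (3 - 1) ^ 3 = 48 := by decide
  by_cases hX : coreIn (stabilizer G a) (coreIn (stabilizer G b)
      (stabilizer G a ⊓ stabilizer G b)) = ⊥
  · left
    have h4 := relIndex_coreIn_coreIn_dvd (stabilizer G a) (stabilizer G b)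
    rw [hX, Subgroup.relIndex_bot_left, hd1, hd2, h48] at h4
    exact h4
  · by_cases hY : coreIn (stabilizer G b) (coreIn (stabilizer G a)
        (stabilizer G a ⊓ stabilizer G b)) = ⊥
    · left
      have h4 := relIndex_coreIn_coreIn_dvd (stabilizer G b) (stabilizer G a)
      rw [inf_comm (stabilizer G b) (stabilizer G a), hY, Subgroup.relIndex_bot_left, hd1, hd2,
        ← hcard, h48] at h4
      exact h4
    · obtain ⟨p, hp, hXY, -⟩ := hP.thompson_wielandt hX hY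
      have hXp : IsPGroup p ↥(coreIn (stabilizer G a) (coreIn (stabilizer G b)
          (stabilizer G a ⊓ stabilizer G b))) := hXY.to_le le_sup_left
      have hp2 := hp.two_le
      rcases (by omega : p = 2 ∨ p = 3 ∨ p = 4 ∨ 5 ≤ p) with rfl | rfl | rfl | hp5
      · exact red_p2 hP hd1 hd2 hXp
      · exact absurd (red_p3 hP hd1 hd2 hXp) hX
      · exact absurd hp (by decide)
      · exact absurd (red_p5 hP hd1 hd2 p hp hp5 hXp) hX

/-- FINAL: S3385. -/
theorem sims_three {G : Type*} [Group G] [Finite G] {Ω : Type*} [MulAction G Ω] [FaithfulSMul G Ω]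
    (hprim : MulAction.IsPreprimitive G Ω) (a b : Ω)
    (h3 : Nat.card (MulAction.orbit (MulAction.stabilizer G a) b) = 3) :
    ∃ k : ℕ, k ≤ 4 ∧ Nat.card ↥(MulAction.stabilizer G a) = 2 ^ k * 3 := by
  obtain ⟨-, hd1, -, hred⟩ := reduction hprim a b h3
  have hcard := Helper4.card_mul_relIndex
    (inf_le_left : stabilizer G a ⊓ stabilizer G b ≤ stabilizer G a)
  rw [hd1] at hcard
  rcases hred with h48 | hTS
  · rw [← hcard] at h48 ⊢
    have h16 : Nat.card ↥(stabilizer G a ⊓ stabilizer G b) ∣ 2 ^ 4 := by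
      have : Nat.card ↥(stabilizer G a ⊓ stabilizer G b) * 3 ∣ 16 * 3 := h48
      exact Nat.dvd_of_mul_dvd_mul_right (by norm_num) this
    obtain ⟨k, hk, hk'⟩ := (Nat.dvd_prime_pow Nat.prime_two).mp h16
    exact ⟨k, hk, by rw [hk']⟩
  · obtain ⟨n, hn4, hn⟩ := hTS.card_dvd
    exact ⟨n, hn4, by rw [← hcard, hn]⟩

end Cfsg.Agent.Lib.Helper18.Sims3
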