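import Mathlib
import Cfsg.Agent.Lib.Helper18.Sims3Asm

set_option autoImplicit false

/-!
Helper18 library: the Tutte-Sims setting for an ODD PRIME index `q` (instead of 3): two conjugate
maximal core-free subgroups `A`, `B` whose intersection `D` is a 2-group of index `q` in both, with
cores of index 2 in `D`.  The four leaves of the S3385 market that mention the index 3 (T1 by helper16,
T2A by helper22, T2B2 by helper23, T2C2 by helper29) are repeated here with `q` in place of `3` (their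
proofs only use that 3 is an odd prime), and the generator data `TSData g x n` with `n ≤ 4` is
produced as in `Sims3Asm`.  Used for S2772 (Sims' theorem in local form).
-/

namespace Cfsg.Agent.Lib.Helper18.SimsQ

open Cfsg Cfsg.Agent.Lib.Helper29.TWPair MulAction Cfsg.Agent.Lib.Helper18.Sims3

variable {G : Type*} [Group G]

/-- The Tutte-Sims setting with index `q`. -/
structure TSq (q : ℕ) (A B : Subgroup G) : Prop where
  pair : Pair A B
  two : IsPGroup 2 ↥(A ⊓ B)
  idxA : (A ⊓ B).relIndex A = q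
  idxB : (A ⊓ B).relIndex B = q
  coreA : (coreIn A (A ⊓ B)).relIndex (A ⊓ B) = 2
  coreB : (coreIn B (A ⊓ B)).relIndex (A ⊓ B) = 2

theorem TSq.of_TS {A B : Subgroup G} (h : TS A B) : TSq 3 A B :=
  ⟨h.pair, h.two, h.idxA, h.idxB, h.coreA, h.coreB⟩

/-! ### T1 (after helper16) -/

open Cfsg.Agent.Lib.Helper16.SIMST1 (cj_eq_self_of_mem mem_normalizer_of_cj_eq) in
open Cfsg.Agent.Lib.Helper16.SIMST2C3 (cj_cj) in
theorem exists_shift_q [Finite G] {q : ℕ} {A B : Subgroup G} (h : TSq q A B) :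
    ∃ g : G, B = cj g A ∧ cj g (A ⊓ B) ≠ A ⊓ B := by
  by_contra hcon
  push Not at hcon
  obtain ⟨g0, hg0⟩ := h.pair.conj
  have hg0' : B = cj g0 A := hg0
  have hB : B ≤ Subgroup.normalizer ((A ⊓ B : Subgroup G) : Set G) := by
    intro s hs
    apply mem_normalizer_of_cj_eq
    have h1 : B = cj (s * g0) A := by
      rw [← cj_cj, ← hg0', cj_eq_self_of_mem hs]
    have h2 := hcon (s * g0) h1
    rw [← cj_cj, hcon g0 hg0'] at h2
    exact h2
  have hle : A ⊓ B ≤ coreIn B (A ⊓ B) := le_coreIn inf_le_right le_rfl hB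
  have heq : coreIn B (A ⊓ B) = A ⊓ B := le_antisymm (coreIn_le_right _ _) hle
  have := h.coreB
  rw [heq, Subgroup.relIndex_self] at this
  exact absurd this (by norm_num)

/-! ### T2A (after helper22) -/

open Cfsg.Agent.Lib.Helper22.SIMST2A (card_mul_relIndex') in
theorem inf_eq_coreIn_q [Finite G] {q : ℕ} (hq : q.Prime) (hq2 : q ≠ 2) {B D D' : Subgroup G}
    (hD : D ≤ B) (hD' : D' ≤ B)
    (h2 : IsPGroup 2 ↥D) (h2' : IsPGroup 2 ↥D') (hi : D.relIndex B = q) (hi' : D'.relIndex B = q)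
    (hne : D ≠ D') (hc : (coreIn B D).relIndex D = 2) : D ⊓ D' = coreIn B D := by
  have hKD : coreIn B D ≤ D := coreIn_le_right B D
  have hKB : coreIn B D ≤ B := coreIn_le_left B D
  have cB : Nat.card ↥D * q = Nat.card ↥B := by rw [← hi]; exact card_mul_relIndex' hD
  have cB' : Nat.card ↥D' * q = Nat.card ↥B := by rw [← hi']; exact card_mul_relIndex' hD'
  have cDD' : Nat.card ↥D = Nat.card ↥D' := by
    have : Nat.card ↥D * q = Nat.card ↥D' * q := by rw [cB, cB']
    exact Nat.eq_of_mul_eq_mul_right hq.pos this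
  have cD : Nat.card ↥(coreIn B D) * 2 = Nat.card ↥D := by rw [← hc]; exact card_mul_relIndex' hKD
  have hD'pos : 0 < Nat.card ↥D' := Nat.card_pos
  have hKpos : 0 < Nat.card ↥(coreIn B D) := Nat.card_pos
  have hKn : D' ≤ Subgroup.normalizer ((coreIn B D : Subgroup G) : Set G) :=
    hD'.trans (le_normalizer_coreIn B D)
  have hKp : IsPGroup 2 ↥(coreIn B D) := h2.to_le hKD
  have hS : IsPGroup 2 ↥(coreIn B D ⊔ D' : Subgroup G) :=
    IsPGroup.to_sup_of_normal_left' hKp h2' hKn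
  have hSB : coreIn B D ⊔ D' ≤ B := sup_le hKB hD'
  have hD'S : D' ≤ coreIn B D ⊔ D' := le_sup_right
  have hSeq : coreIn B D ⊔ D' = D' := by
    symm
    apply Subgroup.eq_of_le_of_card_ge hD'S
    obtain ⟨m, hm⟩ := (IsPGroup.iff_card (p := 2)).mp hS
    have hdvd : Nat.card ↥(coreIn B D ⊔ D' : Subgroup G) ∣ Nat.card ↥B := Subgroup.card_dvd_of_le hSB
    rw [← cB', hm] at hdvd
    have hcop : Nat.Coprime (2 ^ m) q := by
      apply Nat.Coprime.pow_left
      exact (Nat.coprime_primes Nat.prime_two hq).mpr (Ne.symm hq2)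
    have hdvd' : 2 ^ m ∣ Nat.card ↥D' := hcop.dvd_of_dvd_mul_right hdvd
    rw [hm]
    exact Nat.le_of_dvd hD'pos hdvd'
  have hKD' : coreIn B D ≤ D' := by
    rw [← hSeq]; exact le_sup_left
  have hKI : coreIn B D ≤ D ⊓ D' := le_inf hKD hKD'
  symm
  apply Subgroup.eq_of_le_of_card_ge hKI
  have hIne : D ⊓ D' ≠ D := by
    intro h
    have hle : D ≤ D' := by rw [← h]; exact inf_le_right
    exact hne (Subgroup.eq_of_le_of_card_ge hle (by omega))
  have h1 : Nat.card ↥(coreIn B D) ∣ Nat.card ↥(D ⊓ D' : Subgroup G) := Subgroup.card_dvd_of_le hKI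
  have h2d : Nat.card ↥(D ⊓ D' : Subgroup G) ∣ Nat.card ↥D := Subgroup.card_dvd_of_le inf_le_left
  have hlt : Nat.card ↥(D ⊓ D' : Subgroup G) ≠ Nat.card ↥D := by
    intro h
    exact hIne (Subgroup.eq_of_le_of_card_ge inf_le_left (by omega))
  obtain ⟨j, hj⟩ := h1
  rw [hj, ← cD] at h2d
  have hj2 : j ∣ 2 := Nat.dvd_of_mul_dvd_mul_left hKpos h2d
  have hj' : j = 1 ∨ j = 2 := (Nat.dvd_prime Nat.prime_two).mp hj2
  rcases hj' with rfl | rfl
  · omega
  · exfalso; apply hlt; rw [hj, ← cD]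

/-! ### T2B2 (after helper23) -/

open Cfsg.Agent.Lib.Helper12.SIMST2B1 Cfsg.Agent.Lib.Helper12.SIMST2B3 in
open Cfsg.Agent.Lib.Helper23.SIMST2B2 (mem_cj_iff conj_mem_cj cj_Fc Fc_succ_le_start
  sup_eq_of_prime_relIndex mem_normalizer_of_cj_eq) in
theorem Fc_eq_bot_of_stable_q [Finite G] {q : ℕ} (hq : q.Prime) {A B : Subgroup G}
    (hP : Pair A B) (hidxB : (A ⊓ B).relIndex B = q) (g : G) (hg : B = cj g A)
    (hne : cj g (A ⊓ B) ≠ A ⊓ B)
    (hstep : ∀ i k, (Fc g (A ⊓ B) i (k + 1)).relIndex (Fc g (A ⊓ B) i k) ∣ 2) (k : ℕ)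
    (hstrict : ∀ j, j < k → Fc g (A ⊓ B) 0 (j + 1) ≠ Fc g (A ⊓ B) 0 j)
    (hstab : Fc g (A ⊓ B) 0 (k + 1) = Fc g (A ⊓ B) 0 k) : Fc g (A ⊓ B) 0 k = ⊥ := by
  set D := A ⊓ B with hD
  have hnotle : ¬ cj g D ≤ D := by
    intro hle
    apply hne
    apply Subgroup.eq_of_le_of_card_ge hle
    rw [card_cj]
  rcases Nat.eq_zero_or_pos k with hk0 | hkpos
  · exfalso
    rw [hk0] at hstab
    have hle : Fc g D 0 0 ≤ Fc g D (0 + 1) 0 := by
      rw [← hstab]
      exact Fc_succ_le_start g D 0 0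
    rw [← cj_Fc, Fc_zero_zero] at hle
    apply hne
    symm
    apply Subgroup.eq_of_le_of_card_ge hle
    rw [card_cj]
  obtain ⟨k', rfl⟩ : ∃ k', k = k' + 1 := ⟨k - 1, by omega⟩
  have hEle : Fc g D 0 (k' + 1) ≤ Fc g D (0 + 1) (k' + 1) := by
    rw [← hstab]
    exact Fc_succ_le_start g D 0 (k' + 1)
  rw [← cj_Fc] at hEle
  set E := Fc g D 0 (k' + 1) with hE
  have hgE : cj g E = E := by
    symm
    apply Subgroup.eq_of_le_of_card_ge hEle
    rw [card_cj]
  have hgN : g ∈ Subgroup.normalizer (E : Set G) := mem_normalizer_of_cj_eq hgE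
  have hidx : ∀ j, j < k' + 1 → (Fc g D 0 (j + 1)).relIndex (Fc g D 0 j) = 2 := by
    intro j hj
    have hd := hstep 0 j
    rcases (Nat.dvd_prime Nat.prime_two).mp hd with h1 | h2
    · exfalso
      rw [Subgroup.relIndex_eq_one] at h1
      exact hstrict j hj (le_antisymm (Fc_succ_le g D 0 j) h1)
    · exact h2
  have hFN : Fc g D 0 k' ≤ Subgroup.normalizer (E : Set G) := by
    have h2 := hidx k' (by omega)
    have h3 : ((Fc g D 0 (k' + 1)).subgroupOf (Fc g D 0 k')).Normal :=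
      Subgroup.normal_of_index_eq_two h2
    exact (Subgroup.normal_subgroupOf_iff_le_normalizer (Fc_succ_le g D 0 k')).mp h3
  set T : Subgroup G := Subgroup.closure ({g} ∪ (Fc g D 0 k' : Set G)) with hT
  have hgT : g ∈ T := Subgroup.subset_closure (Or.inl rfl)
  have hcjT : ∀ S : Subgroup G, S ≤ T → cj g S ≤ T := by
    intro S hS y hy
    rw [mem_cj_iff] at hy
    have : y = g * (g⁻¹ * y * g) * g⁻¹ := by group
    rw [this]
    exact mul_mem (mul_mem hgT (hS hy)) (inv_mem hgT)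
  have hcjT' : ∀ S : Subgroup G, cj g S ≤ T → S ≤ T := by
    intro S hS y hy
    have h1 := hS (conj_mem_cj g S hy)
    have : y = g⁻¹ * (g * y * g⁻¹) * g := by group
    rw [this]
    exact mul_mem (mul_mem (inv_mem hgT) h1) hgT
  have hdown : ∀ d, d ≤ k' → Fc g D 0 (k' - d) ≤ T := by
    intro d
    induction d with
    | zero =>
      intro _
      rw [Nat.sub_zero]
      intro y hy
      exact Subgroup.subset_closure (Or.inr hy)
    | succ d ih =>
      intro hd
      have ih' := ih (by omega)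
      set j := k' - (d + 1) with hj
      have hj1 : k' - d = j + 1 := by omega
      rw [hj1] at ih'
      have h1 : Fc g D 1 (j + 1) ≤ T := by
        have := hcjT _ ih'
        rwa [cj_Fc] at this
      have hsup : Fc g D 1 (j + 1) ⊔ Fc g D 0 (j + 1) = Fc g D 1 j := by
        apply sup_eq_of_prime_relIndex (Fc_succ_le g D 1 j) (Fc_succ_le_start g D 0 j) Nat.prime_two
        · have := relIndex_cj g (Fc g D 0 (j + 1)) (Fc g D 0 j)
          rw [cj_Fc, cj_Fc] at this
          rw [this]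
          exact hidx j (by omega)
        · intro hle
          apply hstrict (j + 1) (by omega)
          rw [Fc_succ g D 0 (j + 1)]
          apply le_antisymm inf_le_left
          apply le_inf le_rfl
          have h3 := Fc_le_Dn g D 1 (j + 1) (j + 1) le_rfl
          have e : 1 + (j + 1) = 0 + (j + 1 + 1) := by omega
          rw [e] at h3
          exact le_trans hle h3
      have h2 : Fc g D 1 j ≤ T := by
        rw [← hsup]
        exact sup_le h1 ih'
      apply hcjT'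
      rw [cj_Fc]
      exact h2
  have hDT : D ≤ T := by
    have := hdown k' le_rfl
    rwa [Nat.sub_self, Fc_zero_zero] at this
  have hcjDT : cj g D ≤ T := hcjT D hDT
  have hcjDB : cj g D ≤ B := by
    rw [hD, cj_inf, ← hg]
    exact inf_le_left
  have hBsup : D ⊔ cj g D = B :=
    sup_eq_of_prime_relIndex (inf_le_right : A ⊓ B ≤ B) hcjDB hq hidxB hnotle
  have hBT : B ≤ T := by
    rw [← hBsup]
    exact sup_le hDT hcjDT
  have hAT : A ≤ T := by
    apply hcjT'
    rw [← hg]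
    exact hBT
  have hTtop : T = ⊤ := by
    have hAB : A ⊔ B = ⊤ := by
      have hcoA := hP.coatomA
      have hcoB := hP.coatomB
      by_contra hne'
      have hlt : ¬ A < A ⊔ B := fun hlt => hne' (hcoA.2 _ hlt)
      have hBA : B ≤ A := by
        have : A ⊔ B = A := by
          by_contra h'
          exact hlt (lt_of_le_of_ne le_sup_left (Ne.symm h'))
        rw [← this]
        exact le_sup_right
      rcases eq_or_lt_of_le hBA with he | hl
      · exact hP.ne he.symm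
      · exact hcoA.1 (hcoB.2 _ hl)
    rw [eq_top_iff, ← hAB]
    exact sup_le hAT hBT
  have hNtop : Subgroup.normalizer (E : Set G) = ⊤ := by
    rw [eq_top_iff, ← hTtop, hT, Subgroup.closure_le]
    rintro y (hy | hy)
    · rw [Set.mem_singleton_iff] at hy
      rw [hy]
      exact hgN
    · exact hFN hy
  have hEn : E.Normal := Subgroup.normalizer_eq_top_iff.mp hNtop
  have hEA : E ≤ A := by
    have h1 : E ≤ Dn g D (0 + 0) := Fc_le_Dn g D 0 (k' + 1) 0 (by omega)
    have h2 : Dn g D (0 + 0) = D := by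
      unfold Dn
      ext y
      rw [Nat.add_zero, pow_zero, mem_cj_iff]
      simp
    rw [h2] at h1
    exact le_trans h1 inf_le_left
  have hEcore : E ≤ A.normalCore := Subgroup.normal_le_normalCore.mpr hEA
  rw [hP.coreA] at hEcore
  exact le_bot_iff.mp hEcore

/-! ### T2C2 (after helper29) -/

theorem eq_of_prime_relIndex_q {q : ℕ} (hq : q.Prime) {H K T : Subgroup G} (h1 : H ≤ K)
    (h2 : K ≤ T) (hne : H ≠ K) (hidx : H.relIndex T = q) : K = T := by
  have hmul := Subgroup.relIndex_mul_relIndex H K T h1 h2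
  rw [hidx] at hmul
  have hd : H.relIndex K ∣ q := Dvd.intro _ hmul
  rcases (Nat.dvd_prime hq).mp hd with h | h
  · exfalso
    apply hne
    exact le_antisymm h1 (Subgroup.relIndex_eq_one.mp h)
  · rw [h] at hmul
    have : K.relIndex T = 1 := by
      have : q * K.relIndex T = q * 1 := by rw [hmul, mul_one]
      exact Nat.eq_of_mul_eq_mul_left hq.pos this
    exact le_antisymm h2 (Subgroup.relIndex_eq_one.mp this)

open Cfsg.Agent.Lib.Helper29.SIMSBase Cfsg.Agent.Lib.Helper29.SIMST2C1 in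
open Cfsg.Agent.Lib.Helper29.SIMST2C2 (cj_mono cj_cj relIndex_cj) in
theorem Hx_eq_cj_aux_q [Finite G] {q : ℕ} (hq : q.Prime) {A B : Subgroup G}
    (hidxB : (A ⊓ B).relIndex B = q) (g : G) (hg : B = cj g A)
    (n : ℕ) (h1 : 1 ≤ n)
    (hF : ∀ i k, k ≤ n → Nat.card ↥(Fc g (A ⊓ B) i k) = 2 ^ (n - k))
    (x0 : G) (hx0 : x0 ∈ Fc g (A ⊓ B) 1 (n - 1)) (hx01 : x0 ≠ 1)
    (hH : ∀ i j, i ≤ j → j < i + n →
      Hx (xs g x0) i j = Fc g (A ⊓ B) (j + 1) (n - 1 - (j - i))) (m : ℕ) :
    Hx (xs g x0) m (m + n) = cj (g ^ (m + n + 1)) A := by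
  have hHm : Hx (xs g x0) m (m + n - 1) = Fc g (A ⊓ B) (m + n) 0 := by
    have := hH m (m + n - 1) (by omega) (by omega)
    rw [show m + n - 1 + 1 = m + n by omega, show n - 1 - (m + n - 1 - m) = 0 by omega] at this
    exact this
  have hFc0 : Fc g (A ⊓ B) (m + n) 0 = Dn g (A ⊓ B) (m + n) := by
    ext y
    rw [mem_Fc]
    constructor
    · intro hy
      exact hy 0 le_rfl
    · intro hy l hl
      have : l = 0 := by omega
      subst this
      exact hy
  have hA' : cj (g ^ (m + n + 1)) A = cj (g ^ (m + n)) B := by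
    rw [hg, cj_cj, ← pow_succ]
  have hDle : Dn g (A ⊓ B) (m + n) ≤ cj (g ^ (m + n)) B := cj_mono inf_le_right
  have hidx : (Dn g (A ⊓ B) (m + n)).relIndex (cj (g ^ (m + n)) B) = q := by
    unfold Dn
    rw [relIndex_cj]
    exact hidxB
  have hxm : xs g x0 (m + n) ∈ Fc g (A ⊓ B) (m + n + 1) (n - 1) := xs_mem_Fc hx0 (m + n)
  have hxA' : xs g x0 (m + n) ∈ cj (g ^ (m + n)) B := by
    rw [← hA']
    have h0 : xs g x0 (m + n) ∈ Dn g (A ⊓ B) (m + n + 1) := by
      rw [mem_Fc] at hxm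
      exact hxm 0 (Nat.zero_le _)
    exact cj_mono inf_le_left h0
  have hsucc : Hx (xs g x0) m (m + n - 1) ⊔ Subgroup.zpowers (xs g x0 (m + n)) =
      Hx (xs g x0) m (m + n) := by
    have := Hx_succ (x := xs g x0) (i := m) (j := m + n - 1) (by omega)
    rw [show m + n - 1 + 1 = m + n by omega] at this
    exact this
  have hle : Hx (xs g x0) m (m + n) ≤ cj (g ^ (m + n)) B := by
    rw [← hsucc, hHm, hFc0]
    refine sup_le hDle ?_
    rw [Subgroup.zpowers_le]
    exact hxA'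
  have hne : Dn g (A ⊓ B) (m + n) ≠ Hx (xs g x0) m (m + n) := by
    intro he
    have hmem : xs g x0 (m + n) ∈ Dn g (A ⊓ B) (m + n) := by
      rw [he]
      exact mem_Hx (by omega) le_rfl
    have hall : xs g x0 (m + n) ∈ Fc g (A ⊓ B) (m + n) n := by
      rw [mem_Fc] at hxm ⊢
      intro l hl
      rcases Nat.eq_zero_or_pos l with h0 | h0
      · subst h0
        exact hmem
      · have := hxm (l - 1) (by omega)
        rw [show m + n + 1 + (l - 1) = m + n + l by omega] at this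
        exact this
    have hc1 : Nat.card ↥(Fc g (A ⊓ B) (m + n) n) = 1 := by
      rw [hF _ _ le_rfl, Nat.sub_self, pow_zero]
    have hb := Subgroup.eq_bot_of_card_eq _ hc1
    rw [hb, Subgroup.mem_bot] at hall
    exact xs_ne_one hx01 _ hall
  have hle0 : Dn g (A ⊓ B) (m + n) ≤ Hx (xs g x0) m (m + n) := by
    rw [← hFc0, ← hHm]
    exact Hx_mono le_rfl (by omega)
  rw [hA']
  exact eq_of_prime_relIndex_q hq hle0 hle hne hidx

/-! ### Assembly -/

theorem TSq.relIndex_inf_cj [Finite G] {q : ℕ} (hq : q.Prime) (hq2 : q ≠ 2) {A B : Subgroup G}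
    (h : TSq q A B) (g : G) (hg : B = cj g A)
    (hne : cj g (A ⊓ B) ≠ A ⊓ B) : ((A ⊓ B) ⊓ cj g (A ⊓ B)).relIndex (A ⊓ B) = 2 := by
  have hD' : cj g (A ⊓ B) ≤ B := by
    have : cj g (A ⊓ B) ≤ cj g A := Subgroup.map_mono inf_le_left
    rwa [← hg] at this
  have h2' : IsPGroup 2 ↥(cj g (A ⊓ B)) :=
    h.two.of_equiv ((A ⊓ B).equivMapOfInjective _ (MulAut.conj g).injective)
  have hi' : (cj g (A ⊓ B)).relIndex B = q := by
    have := Subgroup.relIndex_map_map_of_injective (A ⊓ B) A (f := (MulAut.conj g).toMonoidHom)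
      (MulAut.conj g).injective
    rw [h.idxA] at this
    have e : (cj g (A ⊓ B)).relIndex B = (cj g (A ⊓ B)).relIndex (cj g A) := by rw [← hg]
    rw [e]
    exact this
  have := inf_eq_coreIn_q hq hq2 (B := B) (D := A ⊓ B) (D' := cj g (A ⊓ B)) inf_le_right hD' h.two
    h2' h.idxB hi' hne.symm h.coreB
  rw [this]
  exact h.coreB

open Cfsg.Agent.Lib.Helper12.SIMST2B1 (relIndex_Fc_succ_dvd) in
open Cfsg.Agent.Lib.Helper18.SIMST2B3 (card_Fc_of) in
open Cfsg.Agent.Lib.Helper29.SIMST2C1 (Hx_xs_eq_Fc) in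
open Cfsg.Agent.Lib.Helper18.SIMST2C3 (pair_cj) in
/-- generator data from the Tutte-Sims setting with index `q`. -/
theorem exists_data_of_TSq [Finite G] {q : ℕ} (hq : q.Prime) (hq2 : q ≠ 2) {A B : Subgroup G}
    (h : TSq q A B) (n : ℕ) (hn : Nat.card ↥(A ⊓ B) = 2 ^ n) (h1 : 1 ≤ n) :
    ∃ (g : G) (x : ℕ → G), TSData g x n ∧ Hx x 0 n = cj (g ^ (n + 1)) A ∧
      Hx x 1 n = cj (g ^ (n + 1)) (A ⊓ B) := by
  obtain ⟨g, hg, hne⟩ := exists_shift_q h
  have hQ := h.relIndex_inf_cj hq hq2 g hg hne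
  have hstep := fun i k => relIndex_Fc_succ_dvd g (A ⊓ B) hQ i k
  have hR := fun k hs hst => Fc_eq_bot_of_stable_q hq h.pair h.idxB g hg hne hstep k hs hst
  have hF := card_Fc_of g (A ⊓ B) n hn hstep hR
  have hc2 : Nat.card ↥(Fc g (A ⊓ B) 1 (n - 1)) = 2 := by
    rw [hF 1 (n - 1) (by omega)]
    have : n - (n - 1) = 1 := by omega
    rw [this]; rfl
  have hne_bot : Fc g (A ⊓ B) 1 (n - 1) ≠ ⊥ := by
    intro hb
    rw [hb, Subgroup.card_bot] at hc2
    omega
  obtain ⟨⟨x0, hx0⟩, hy⟩ := (Subgroup.ne_bot_iff_exists_ne_one).mp hne_bot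
  have hx01 : x0 ≠ 1 := fun hh => hy (Subtype.ext hh)
  have hH := Hx_xs_eq_Fc g (A ⊓ B) n h1 hF x0 hx0 hx01
  have hH0 := Hx_eq_cj_aux_q hq h.idxB g hg n h1 hF x0 hx0 hx01 hH 0
  have hH1 := Hx_eq_cj_aux_q hq h.idxB g hg n h1 hF x0 hx0 hx01 hH 1
  rw [Nat.zero_add] at hH0
  rw [show 1 + n = n + 1 by omega, show n + 1 + 1 = n + 2 by omega] at hH1
  have hD1 : Hx (xs g x0) 1 n = cj (g ^ (n + 1)) (A ⊓ B) := by
    rw [hH 1 n (by omega) (by omega)]
    have e : n - 1 - (n - 1) = 0 := by omega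
    rw [e]
    ext y
    rw [Cfsg.Agent.Lib.Helper18.SIMST2B3.mem_Fc_iff]
    constructor
    · intro hy
      have := hy 0 le_rfl
      rw [Nat.add_zero] at this
      exact this
    · intro hy i hi
      have : i = 0 := by omega
      subst this
      rw [Nat.add_zero]
      exact hy
  refine ⟨g, xs g x0, ⟨?_, ?_, ?_, ?_⟩, hH0, hD1⟩
  · intro i
    unfold xs
    rw [pow_succ']
    group
  · intro i j hij hjn
    rw [hH i j hij hjn, hF (j + 1) (n - 1 - (j - i)) (by omega)]
    congr 1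
    omega
  · rw [hH0]
    intro hp
    have hpA : IsPGroup 2 ↥A :=
      hp.of_equiv (A.equivMapOfInjective _ (MulAut.conj (g ^ (n + 1))).injective).symm
    obtain ⟨k, hk⟩ := hpA.exists_card_eq
    have hcard := Helper4.card_mul_relIndex (inf_le_left : A ⊓ B ≤ A)
    rw [h.idxA, hn, hk] at hcard
    have h3 : q ∣ 2 ^ k := ⟨2 ^ n, by rw [← hcard]; ring⟩
    have := (Nat.Prime.dvd_of_dvd_pow hq h3)
    exact hq2 ((Nat.prime_dvd_prime_iff_eq hq Nat.prime_two).mp this)
  · intro N hN hnorm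
    have hP := pair_cj h.pair (g ^ (n + 1))
    have hBeq : cj (g ^ (n + 1)) B = cj (g ^ (n + 2)) A := by
      rw [hg]
      show (A.map (MulAut.conj g).toMonoidHom).map (MulAut.conj (g ^ (n + 1))).toMonoidHom = _
      rw [Subgroup.map_map]
      congr 1
      ext y
      simp [MulAut.conj_apply, pow_succ, mul_assoc]
    rw [hBeq, ← hH0, ← hH1] at hP
    apply hP.eq_bot_of_le_normalizer hN
    · unfold Hx
      rw [Subgroup.closure_le]
      rintro _ ⟨j, hj, rfl⟩
      exact hnorm j (by simp at hj; omega)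
    · unfold Hx
      rw [Subgroup.closure_le]
      rintro _ ⟨j, hj, rfl⟩
      exact hnorm j (by simp at hj; omega)

/-- the Tutte-Sims bound with index `q`, together with the generator data. -/
theorem TSq.data [Finite G] {q : ℕ} (hq : q.Prime) (hq2 : q ≠ 2) {A B : Subgroup G}
    (h : TSq q A B) :
    ∃ n, 1 ≤ n ∧ n ≤ 4 ∧ Nat.card ↥(A ⊓ B) = 2 ^ n ∧ Nat.card ↥A = 2 ^ n * q ∧
      ∃ (g : G) (x : ℕ → G), TSData g x n ∧ Hx x 0 n = cj (g ^ (n + 1)) A ∧
        Hx x 1 n = cj (g ^ (n + 1)) (A ⊓ B) := by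
  obtain ⟨n, hn⟩ := h.two.exists_card_eq
  have hcA : Nat.card ↥A = 2 ^ n * q := by
    have := Helper4.card_mul_relIndex (inf_le_left : A ⊓ B ≤ A)
    rw [h.idxA, hn] at this
    exact this.symm
  have h1 : 1 ≤ n := by
    by_contra h0
    have h0' : n = 0 := by omega
    rw [h0', pow_zero] at hn
    have hc := h.coreA
    have hle : coreIn A (A ⊓ B) ≤ A ⊓ B := coreIn_le_right _ _
    have hcard1 := Helper4.card_mul_relIndex hle
    rw [hc, hn] at hcard1
    omega
  obtain ⟨g, x, hd, hH0, hH1⟩ := exists_data_of_TSq hq hq2 h n hn h1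
  exact ⟨n, h1, hd.le_four, hn, hcA, g, x, hd, hH0, hH1⟩

end Cfsg.Agent.Lib.Helper18.SimsQ
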