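import Cfsg.Agent.Lib.Helper18.SPMem

/-!
# S3713 (helper18): the Heisenberg elements `qH o u c`, the torus `TT o`, the Weyl element `nW o`, and the
decompositions of the vector stabiliser `PJ (insert o J) o` and of the point stabiliser `PhJ K o`
-/

set_option autoImplicit false

namespace Cfsg.Agent.Lib.Helper18.SP

open Matrix Cfsg.Agent.Lib.Helper5 Cfsg.Agent.Lib.Helper14.SpPerfect

variable {F : Type*} [Field F] {n : ℕ}

/-! ### the Heisenberg elements -/

theorem ω_eV_of_not_mem {J : Set (Fin n)} {o : Fin n} (ho : o ∉ J) {u : V n F} (hu : u ∈ VJ n F J) :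
    ω n F (eV n F o) u = 0 := ω_eV_left_of_mem_VJ hu ho

theorem act_qH {J : Set (Fin n)} {o : Fin n} (ho : o ∉ J) {u : V n F} (hu : u ∈ VJ n F J) (c : F) (x : V n F) :
    act (qH o u c) x = x + ω n F x (eV n F o) • u + (ω n F x u + c * ω n F x (eV n F o)) • eV n F o := by
  have h := ω_eV_of_not_mem ho hu
  unfold qH
  rw [act_mul, act_Tr, act_E _ _ _ h]
  simp only [ω_add_left, ω_smul_left, ω_self, h, mul_zero, add_zero]
  module

theorem qH_eV {J : Set (Fin n)} {o : Fin n} (ho : o ∉ J) {u : V n F} (hu : u ∈ VJ n F J) (c : F) :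
    act (qH o u c) (eV n F o) = eV n F o := by
  rw [act_qH ho hu, ω_self, ω_eV_of_not_mem ho hu]
  module

theorem qH_fV {J : Set (Fin n)} {o : Fin n} (ho : o ∉ J) {u : V n F} (hu : u ∈ VJ n F J) (c : F) :
    act (qH o u c) (fV n F o) = fV n F o + u + c • eV n F o := by
  rw [act_qH ho hu, ω_fV_eV, if_pos rfl, ω_fV_left_of_mem_VJ hu ho]
  module

theorem qH_act_of_mem {J : Set (Fin n)} {o : Fin n} (ho : o ∉ J) {u : V n F} (hu : u ∈ VJ n F J) (c : F)
    {x : V n F} (hx : x ∈ VJ n F J) : act (qH o u c) x = x + ω n F x u • eV n F o := by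
  rw [act_qH ho hu, ω_eV_of_mem_VJ hx ho]
  module

theorem qH_mem_GJ {J : Set (Fin n)} {o : Fin n} {u : V n F} (hu : u ∈ VJ n F J) (c : F) :
    qH o u c ∈ GJ n F (insert o J) := by
  have ho : eV n F o ∈ VJ n F (insert o J) := eV_mem_VJ (Set.mem_insert o J)
  exact mul_mem (E_mem_GJ ho (VJ_mono (Set.subset_insert o J) hu)) (Tr_mem_GJ ho c)

theorem qH_mem_PJ {J : Set (Fin n)} {o : Fin n} (ho : o ∉ J) {u : V n F} (hu : u ∈ VJ n F J) (c : F) :
    qH o u c ∈ PJ n F (insert o J) o := ⟨qH_mem_GJ hu c, qH_eV ho hu c⟩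

theorem Tr_eV_mem_PJ {K : Set (Fin n)} {o : Fin n} (ho : o ∈ K) (c : F) : Tr (eV n F o) c ∈ PJ n F K o := by
  refine ⟨Tr_mem_GJ (eV_mem_VJ ho) c, ?_⟩
  rw [act_Tr, ω_self, mul_zero, zero_smul, add_zero]

theorem E_eV_mem_PJ {J : Set (Fin n)} {o : Fin n} (ho : o ∉ J) {u : V n F} (hu : u ∈ VJ n F J) :
    E (eV n F o) u ∈ PJ n F (insert o J) o := by
  have h := qH_mem_PJ ho hu 0
  unfold qH at h
  rwa [Tr_zero, mul_one] at h

theorem qH_zero (o : Fin n) : qH o (0 : V n F) 0 = 1 := by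
  unfold qH
  rw [E_zero_right, Tr_zero, one_mul]

theorem qH_mul {J : Set (Fin n)} {o : Fin n} (ho : o ∉ J) {u u' : V n F} (hu : u ∈ VJ n F J)
    (hu' : u' ∈ VJ n F J) (c c' : F) :
    qH o u c * qH o u' c' = qH o (u + u') (c + c' + ω n F u' u) := by
  have h := ω_eV_of_not_mem ho hu
  have h' := ω_eV_of_not_mem ho hu'
  unfold qH
  have e1 : E (eV n F o) u * Tr (eV n F o) c * (E (eV n F o) u' * Tr (eV n F o) c')
      = E (eV n F o) u * E (eV n F o) u' * (Tr (eV n F o) c * Tr (eV n F o) c') := by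
    have := (E_commute_Tr (eV n F o) u' c h').eq
    calc E (eV n F o) u * Tr (eV n F o) c * (E (eV n F o) u' * Tr (eV n F o) c')
        = E (eV n F o) u * (Tr (eV n F o) c * E (eV n F o) u') * Tr (eV n F o) c' := by group
      _ = E (eV n F o) u * (E (eV n F o) u' * Tr (eV n F o) c) * Tr (eV n F o) c' := by rw [this]
      _ = _ := by group
  rw [e1, E_mul_right _ _ _ h h', Tr_mul, mul_assoc, Tr_mul]
  congr 2
  ring

theorem qH_inv {J : Set (Fin n)} {o : Fin n} (ho : o ∉ J) {u : V n F} (hu : u ∈ VJ n F J) (c : F) :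
    (qH o u c)⁻¹ = qH o (-u) (-c) := by
  symm
  rw [eq_inv_iff_mul_eq_one, qH_mul ho ((VJ n F J).neg_mem hu) hu, neg_add_cancel, neg_add_cancel, zero_add,
    ω_neg_right, ω_self, neg_zero, qH_zero]

theorem conj_qH {J : Set (Fin n)} {o : Fin n} (ho : o ∉ J) {l : Sp n F} (hl : l ∈ GJ n F J) (u : V n F) (c : F) :
    l * qH o u c * l⁻¹ = qH o (act l u) c := by
  unfold qH
  have : l * (E (eV n F o) u * Tr (eV n F o) c) * l⁻¹
      = (l * E (eV n F o) u * l⁻¹) * (l * Tr (eV n F o) c * l⁻¹) := by group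
  rw [this, conj_E, conj_Tr', (hl o ho).1]

/-- the decomposition `PJ (insert o J) o = Q ⋊ GJ J` -/
theorem PJ_decomp {J : Set (Fin n)} {o : Fin n} (ho : o ∉ J) {g : Sp n F} (hg : g ∈ PJ n F (insert o J) o) :
    ∃ u ∈ VJ n F J, ∃ c : F, ∃ l ∈ GJ n F J, g = qH o u c * l := by
  -- the image of `f_o`
  obtain ⟨w, hw⟩ : ∃ w, w = act g (fV n F o) := ⟨_, rfl⟩
  have hwV : w ∈ VJ n F (insert o J) := by
    rw [hw]
    exact act_mem_VJ hg.1 (fV_mem_VJ (Set.mem_insert o J))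
  have hwo : ω n F w (eV n F o) = 1 := by
    rw [hw]
    conv_lhs => rw [← hg.2]
    rw [ω_act, ω_fV_eV, if_pos rfl]
  -- the `VJ J`-part of `w`
  let u : V n F := fun i => match i with
    | Sum.inl k => if k = o then 0 else w (Sum.inl k)
    | Sum.inr k => if k = o then 0 else w (Sum.inr k)
  have hu : u ∈ VJ n F J := by
    intro k hk
    by_cases hko : k = o
    · simp [u, hko]
    · have hk' : k ∉ insert o J := fun h => (Set.mem_insert_iff.mp h).elim hko hk
      simp only [u, if_neg hko]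
      exact hwV k hk'
  have hw_eq : w = fV n F o + u + w (Sum.inl o) • eV n F o := by
    funext i
    rcases i with k | k
    · by_cases hko : k = o
      · subst hko
        simp [u, fV_inl, eV_inl]
      · simp [u, fV_inl, eV_inl, hko]
    · by_cases hko : k = o
      · subst hko
        have : w (Sum.inr k) = 1 := by rw [← hwo, ω_eV_right]
        simp [u, fV_inr, eV_inr, this]
      · simp [u, fV_inr, eV_inr, hko]
  refine ⟨u, hu, w (Sum.inl o), (qH o u (w (Sum.inl o)))⁻¹ * g, ?_, by group⟩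
  have hq := qH_mem_PJ ho hu (w (Sum.inl o))
  have hmem : (qH o u (w (Sum.inl o)))⁻¹ * g ∈ GJ n F (insert o J) := mul_mem (inv_mem hq.1) hg.1
  intro k hk
  by_cases hko : k = o
  · subst hko
    constructor
    · rw [act_mul, hg.2]
      exact act_inv_eq_of_act_eq hq.2
    · have h1 : act g (fV n F k) = act (qH k u (w (Sum.inl k))) (fV n F k) := by
        rw [qH_fV ho hu, ← hw]
        exact hw_eq
      rw [act_mul, h1, act_inv_act]
  · exact hmem k (fun h => (Set.mem_insert_iff.mp h).elim hko hk)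

theorem qH_mul_eq {J : Set (Fin n)} {o : Fin n} (ho : o ∉ J) {u u' : V n F} (hu : u ∈ VJ n F J)
    (hu' : u' ∈ VJ n F J) {c c' : F} {l l' : Sp n F} (hl : l ∈ GJ n F J) (hl' : l' ∈ GJ n F J)
    (h : qH o u c * l = qH o u' c' * l') : u = u' ∧ c = c' ∧ l = l' := by
  have h1 := congrArg (fun g => act g (fV n F o)) h
  simp only [act_mul, (hl o ho).2, (hl' o ho).2, qH_fV ho hu, qH_fV ho hu'] at h1
  have hc : c = c' := by
    have := congrFun h1 (Sum.inl o)
    simpa [fV_inl, eV_inl, (hu o ho).1, (hu' o ho).1] using this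
  have huu : u = u' := by
    rw [hc] at h1
    exact add_left_cancel (add_right_cancel h1)
  refine ⟨huu, hc, ?_⟩
  rw [huu, hc] at h
  exact mul_left_cancel h

/-! ### the Weyl element -/

theorem nW_mem_SS (o : Fin n) : nW n F o ∈ SS n F o := by
  have he : eV n F o ∈ VJ n F {o} := eV_mem_VJ rfl
  have hf : fV n F o ∈ VJ n F {o} := fV_mem_VJ rfl
  exact mul_mem (mul_mem (Tr_mem_GJ he 1) (Tr_mem_GJ hf 1)) (Tr_mem_GJ he 1)

theorem nW_eV (o : Fin n) : act (nW n F o) (eV n F o) = -fV n F o := by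
  unfold nW
  simp only [act_mul, act_Tr, ω_add_left, ω_smul_left, ω_self, ω_eV_fV, ω_fV_eV, if_pos, mul_zero, zero_smul,
    add_zero, mul_one, mul_neg]
  module

theorem nW_fV (o : Fin n) : act (nW n F o) (fV n F o) = eV n F o := by
  unfold nW
  simp only [act_mul, act_Tr, ω_add_left, ω_smul_left, ω_self, ω_eV_fV, ω_fV_eV, if_pos, mul_zero,
    add_zero, mul_one, mul_neg]
  module

theorem nW_inv_eV (o : Fin n) : act (nW n F o)⁻¹ (eV n F o) = fV n F o := by
  rw [← nW_fV, act_inv_act]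

theorem nW_inv_fV (o : Fin n) : act (nW n F o)⁻¹ (fV n F o) = -eV n F o := by
  have : act (nW n F o)⁻¹ (-fV n F o) = eV n F o := by rw [← nW_eV, act_inv_act]
  rw [act_neg] at this
  rw [← this, neg_neg]

theorem nW_not_mem_PhJ (J : Set (Fin n)) (o : Fin n) : nW n F o ∉ PhJ n F J o := by
  rintro ⟨-, α, -, h⟩
  rw [nW_eV] at h
  have := congrFun h (Sum.inr o)
  simp [fV_inr, eV_inr] at this

/-! ### the torus and the point stabiliser -/

theorem TT_le_SS (o : Fin n) : TT n F o ≤ SS n F o := fun _ h => h.1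

theorem TT_le_PhJ {K : Set (Fin n)} {o : Fin n} (ho : o ∈ K) : TT n F o ≤ PhJ n F K o := by
  rintro g ⟨hg, α, hα, he, -⟩
  exact ⟨SS_le_GJ ho hg, α, hα, he⟩

theorem exists_TT (o : Fin n) {α : F} (hα : α ≠ 0) :
    ∃ t ∈ TT n F o, act t (eV n F o) = α • eV n F o ∧ act t (fV n F o) = α⁻¹ • fV n F o := by
  have he : eV n F o ∈ VJ n F {o} := eV_mem_VJ rfl
  have hf : fV n F o ∈ VJ n F {o} := fV_mem_VJ rfl
  obtain ⟨g, hg, h1, h2⟩ := GJ_trans_pair {o} hf he ((VJ n F {o}).smul_mem α⁻¹ hf) ((VJ n F {o}).smul_mem α he)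
    (by rw [ω_fV_eV, if_pos rfl])
    (by rw [ω_smul_left, ω_smul_right, ω_fV_eV, if_pos rfl, mul_one, inv_mul_cancel₀ hα])
  exact ⟨g, ⟨hg, α, hα, h2, h1⟩, h2, h1⟩

theorem PhJ_decomp {K : Set (Fin n)} {o : Fin n} (ho : o ∈ K) {g : Sp n F} (hg : g ∈ PhJ n F K o) :
    ∃ t ∈ TT n F o, ∃ p ∈ PJ n F K o, g = t * p := by
  obtain ⟨hgK, α, hα, hge⟩ := hg
  obtain ⟨t, ht, hte, -⟩ := exists_TT o hα
  refine ⟨t, ht, t⁻¹ * g, ⟨mul_mem (inv_mem (SS_le_GJ ho ht.1)) hgK, ?_⟩, by group⟩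
  rw [act_mul, hge, ← hte, act_inv_act]

theorem conj_mem_PJ {K : Set (Fin n)} {o : Fin n} {b p : Sp n F} (hb : b ∈ PhJ n F K o) (hp : p ∈ PJ n F K o) :
    b * p * b⁻¹ ∈ PJ n F K o := by
  obtain ⟨hbK, α, hα, hbe⟩ := hb
  refine ⟨mul_mem (mul_mem hbK hp.1) (inv_mem hbK), ?_⟩
  have h1 : act b⁻¹ (eV n F o) = α⁻¹ • eV n F o := by
    have : act b⁻¹ (act b (eV n F o)) = eV n F o := act_inv_act b _
    rw [hbe, act_smul] at this
    conv_rhs => rw [← this]
    rw [smul_smul, inv_mul_cancel₀ hα, one_smul]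
  rw [act_mul, act_mul, h1, act_smul, hp.2, act_smul, hbe, smul_smul, inv_mul_cancel₀ hα, one_smul]

theorem conj_mem_MM {o p : Fin n} {b m : Sp n F} (hb : b ∈ PhJ n F {o} o)
    (hm : m ∈ MM n F o p) : b * m * b⁻¹ ∈ MM n F o p := by
  have hmP : m ∈ PJ n F {o, p} o := MM_le_PJ (Set.mem_insert o {p}) (Set.mem_insert_of_mem o rfl) o hm
  have hbP : b ∈ PhJ n F {o, p} o := PhJ_mono (Set.singleton_subset_iff.mpr (Set.mem_insert o {p})) o hb
  have hc := conj_mem_PJ hbP hmP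
  have hbinv : b⁻¹ ∈ GJ n F {o} := inv_mem hb.1
  constructor
  · intro k
    by_cases hko : k = o
    · rw [hko]; exact hc.2
    · have hk : k ∉ ({o} : Set (Fin n)) := hko
      rw [act_mul, act_mul, (hbinv k hk).1, hm.1 k, (hb.1 k hk).1]
  · intro k hko hkp
    have hk : k ∉ ({o} : Set (Fin n)) := hko
    rw [act_mul, act_mul, (hbinv k hk).2, hm.2 k hko hkp, (hb.1 k hk).2]

/-- an element of `S_o` fixing `e_o` is a transvection `T_{e_o}(c)` -/
theorem eq_Tr_of_mem_SS {o : Fin n} {b : Sp n F} (hb : b ∈ SS n F o) (hbe : act b (eV n F o) = eV n F o) :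
    ∃ c : F, b = Tr (eV n F o) c := by
  obtain ⟨w, hw⟩ : ∃ w, w = act b (fV n F o) := ⟨_, rfl⟩
  have hwV : w ∈ VJ n F {o} := by
    rw [hw]
    exact act_mem_VJ hb (fV_mem_VJ rfl)
  have hwo : w (Sum.inr o) = 1 := by
    have h1 : ω n F w (eV n F o) = 1 := by
      rw [hw]
      conv_lhs => rw [← hbe]
      rw [ω_act, ω_fV_eV, if_pos rfl]
    rw [← h1, ω_eV_right]
  refine ⟨w (Sum.inl o), ?_⟩
  apply sp_ext_basis
  · intro k
    by_cases hko : k = o
    · rw [hko, hbe, act_Tr, ω_self, mul_zero, zero_smul, add_zero]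
    · rw [(hb k hko).1, act_Tr, ω_eV_eV, mul_zero, zero_smul, add_zero]
  · intro k
    by_cases hko : k = o
    · rw [hko, ← hw, act_Tr, ω_fV_eV, if_pos rfl, mul_one]
      funext i
      rcases i with j | j
      · by_cases hjo : j = o
        · rw [hjo]; simp [fV_inl, eV_inl]
        · simp [fV_inl, eV_inl, hjo, (hwV j hjo).1]
      · by_cases hjo : j = o
        · rw [hjo]; simp [fV_inr, eV_inr, hwo]
        · simp [fV_inr, eV_inr, hjo, (hwV j hjo).2]
    · rw [(hb k hko).2, act_Tr, ω_fV_eV, if_neg (Ne.symm hko), mul_zero, zero_smul, add_zero]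

theorem nW_conj_TT {o : Fin n} {t : Sp n F} (ht : t ∈ TT n F o) : nW n F o * t * (nW n F o)⁻¹ ∈ TT n F o := by
  obtain ⟨htS, α, hα, hte, htf⟩ := ht
  refine ⟨mul_mem (mul_mem (nW_mem_SS o) htS) (inv_mem (nW_mem_SS o)), α⁻¹, inv_ne_zero hα, ?_, ?_⟩
  · rw [act_mul, act_mul, nW_inv_eV, htf, act_smul, nW_fV]
  · rw [act_mul, act_mul, nW_inv_fV, act_neg, hte, act_neg, act_smul, nW_eV, inv_inv]
    module

theorem nW_sq_mem_TT (o : Fin n) : nW n F o * nW n F o ∈ TT n F o := by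
  refine ⟨mul_mem (nW_mem_SS o) (nW_mem_SS o), -1, neg_ne_zero.mpr one_ne_zero, ?_, ?_⟩
  · rw [act_mul, nW_eV, act_neg, nW_fV]
    module
  · rw [act_mul, nW_fV, nW_eV]
    rw [inv_neg, inv_one]
    module

end Cfsg.Agent.Lib.Helper18.SP
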