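import Cfsg.Agent.Lib.Helper12.SakDefs

/-!
# S5544 (Sakuma, Majorana setting; planner helper12) leaf A1 (helper18)

`pair_fix_self`, `pair_decomp`, `pair_unique`: unpacking `IsMajoranaPair` into the four eigen-components.
-/

set_option autoImplicit false

namespace Cfsg.Agent.Lib.Helper18.SakA1

open Cfsg Cfsg.Axial Cfsg.Agent.Lib.Helper12.Sak

variable {V : Type*} [AddCommGroup V] [Module ℝ V]
variable {mul : V →ₗ[ℝ] V →ₗ[ℝ] V} {B : LinearMap.BilinForm ℝ V} {μ μ' : V ≃ₗ[ℝ] V} {a : V}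

theorem mem_eigen_iff (a : V) (c : ℝ) (x : V) : x ∈ eigen mul a c ↔ mul a x = c • x :=
  Module.End.mem_eigenspace_iff

theorem eigen_le_eigenSum (a : V) {S : Set ℝ} {c : ℝ} (hc : c ∈ S) :
    eigen mul a c ≤ eigenSum mul a S :=
  le_biSup (fun c => eigen mul a c) hc

/-- the raw decomposition of a vector into the four eigen-components of the axis -/
theorem raw_decomp (h : IsMajoranaPair mul B μ a) (x : V) :
    ∃ x1 x0 xq xt : V, x1 ∈ eigen mul a 1 ∧ x0 ∈ eigen mul a 0 ∧ xq ∈ eigen mul a (1 / 4) ∧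
      xt ∈ eigen mul a (1 / 32) ∧ x = x1 + x0 + xq + xt := by
  obtain ⟨-, -, ⟨⟨-, -, htop, -⟩, -⟩, -⟩ := h
  have hx : x ∈ eigenSum mul a majoranaSpectrum := by
    rw [htop]
    exact Submodule.mem_top
  unfold eigenSum majoranaSpectrum at hx
  rw [iSup_insert, iSup_insert, iSup_insert, iSup_singleton] at hx
  obtain ⟨x1, hx1, y, hy, rfl⟩ := Submodule.mem_sup.1 hx
  obtain ⟨x0, hx0, y', hy', rfl⟩ := Submodule.mem_sup.1 hy
  obtain ⟨xq, hxq, xt, hxt, rfl⟩ := Submodule.mem_sup.1 hy'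
  exact ⟨x1, x0, xq, xt, hx1, hx0, hxq, hxt, by abel⟩

theorem fix_of_mem (h : IsMajoranaPair mul B μ a) {c : ℝ} (hc : c ∈ ({1, 0, 1 / 4} : Set ℝ)) {v : V}
    (hv : v ∈ eigen mul a c) : μ v = v :=
  h.2.2.2.1 v (eigen_le_eigenSum a hc hv)

theorem neg_of_mem (h : IsMajoranaPair mul B μ a) {v : V} (hv : v ∈ eigen mul a (1 / 32)) :
    μ v = -v :=
  h.2.2.2.2 v hv

theorem self_mem_eigen_one (h : IsMajoranaPair mul B μ a) : a ∈ eigen mul a 1 := by
  rw [mem_eigen_iff, one_smul]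
  exact h.2.2.1.1.2.1

/-- **leaf A1 (1)** -/
theorem pair_fix_self (h : IsMajoranaPair mul B μ a) : μ a = a :=
  fix_of_mem h (by simp) (self_mem_eigen_one h)

/-- an eigenvector of the axis for an eigenvalue `≠ 1` is orthogonal to the axis -/
theorem form_axis_eigen (hV : IsMajoranaAmbient mul B) (h : IsMajoranaPair mul B μ a) {c : ℝ}
    (hc : c ≠ 1) {z : V} (hz : z ∈ eigen mul a c) : B a z = 0 := by
  obtain ⟨-, -, -, hassoc, -⟩ := hV
  have haa : mul a a = a := h.2.2.1.1.2.1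
  rw [mem_eigen_iff] at hz
  have h1 : B a (mul a z) = B a z := by rw [hassoc a a z, haa]
  rw [hz, map_smul, smul_eq_mul] at h1
  have h2 : (c - 1) * B a z = 0 := by linarith
  rcases mul_eq_zero.1 h2 with h3 | h3
  · exact absurd (by linarith) hc
  · exact h3

/-- **leaf A1 (2)** -/
theorem pair_decomp (hV : IsMajoranaAmbient mul B) (h : IsMajoranaPair mul B μ a) (hn : B a a = 1) (x : V) :
    ∃ x0 xq xt : V, mul a x0 = 0 ∧ mul a xq = (1 / 4 : ℝ) • xq ∧ mul a xt = (1 / 32 : ℝ) • xt ∧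
      x = (B a x) • a + x0 + xq + xt ∧ μ x0 = x0 ∧ μ xq = xq ∧ μ xt = -xt := by
  obtain ⟨x1, x0, xq, xt, hx1, hx0, hxq, hxt, hx⟩ := raw_decomp h x
  have hprim : eigen mul a 1 = Submodule.span ℝ {a} := h.2.2.1.2
  rw [hprim, Submodule.mem_span_singleton] at hx1
  obtain ⟨c, rfl⟩ := hx1
  have h0 : B a x0 = 0 := form_axis_eigen hV h (by norm_num) hx0
  have hq : B a xq = 0 := form_axis_eigen hV h (by norm_num) hxq
  have ht : B a xt = 0 := form_axis_eigen hV h (by norm_num) hxt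
  have hc : B a x = c := by
    rw [hx, map_add, map_add, map_add, map_smul, smul_eq_mul, hn, h0, hq, ht]
    ring
  refine ⟨x0, xq, xt, ?_, (mem_eigen_iff a _ xq).1 hxq, (mem_eigen_iff a _ xt).1 hxt, ?_,
    fix_of_mem h (by simp) hx0, fix_of_mem h (by simp) hxq, neg_of_mem h hxt⟩
  · rw [(mem_eigen_iff a _ x0).1 hx0, zero_smul]
  · rw [hc]
    exact hx

/-- **leaf A1 (3)** -/
theorem pair_unique (h : IsMajoranaPair mul B μ a) (h' : IsMajoranaPair mul B μ' a) : μ = μ' := by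
  apply LinearEquiv.ext
  intro x
  obtain ⟨x1, x0, xq, xt, hx1, hx0, hxq, hxt, rfl⟩ := raw_decomp h x
  rw [map_add, map_add, map_add, map_add, map_add, map_add,
    fix_of_mem h (by simp) hx1, fix_of_mem h (by simp) hx0, fix_of_mem h (by simp) hxq, neg_of_mem h hxt,
    fix_of_mem h' (by simp) hx1, fix_of_mem h' (by simp) hx0, fix_of_mem h' (by simp) hxq,
    neg_of_mem h' hxt]

end Cfsg.Agent.Lib.Helper18.SakA1
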