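/-
helper18: a model of the unitary groups in Witt coordinates.
The space is `V = F × (Fin m → F) × F` (vectors `α e + w + β f`) with the Hermitian form
`hV x y = x.1 * bar y.2.2 + x.2.2 * bar y.1 + Σ x.2.1 i * bar (y.2.1 i)` for an involutive ring
endomorphism `bar`; `e = (1,0,0)` and `f = (0,0,1)` are a hyperbolic pair.  This file: the forms, the
Heisenberg-type group `HP` of pairs `(w, c)` with its subgroup `HS`, the unipotent maps `E (w,c)`, the
isometry groups `GUm`, `SUm`.
-/
import Mathlib

set_option autoImplicit false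
set_option linter.unusedSectionVars false

namespace Cfsg.Agent.Lib.Helper18.PSUMod

variable {F : Type*} [Field F] {m : ℕ}

/-- the model space -/
abbrev V (F : Type*) [Field F] (m : ℕ) : Type _ := F × (Fin m → F) × F

section form

variable (bar : F →+* F)

/-- the standard Hermitian form on `Fin m → F` -/
def hW (w w' : Fin m → F) : F := ∑ i, w i * bar (w' i)

theorem hW_add_left (w₁ w₂ w' : Fin m → F) : hW bar (w₁ + w₂) w' = hW bar w₁ w' + hW bar w₂ w' := by
  simp only [hW, Pi.add_apply, add_mul, Finset.sum_add_distrib]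

theorem hW_add_right (w w₁ w₂ : Fin m → F) : hW bar w (w₁ + w₂) = hW bar w w₁ + hW bar w w₂ := by
  simp only [hW, Pi.add_apply, map_add, mul_add, Finset.sum_add_distrib]

theorem hW_smul_left (a : F) (w w' : Fin m → F) : hW bar (a • w) w' = a * hW bar w w' := by
  simp only [hW, Pi.smul_apply, smul_eq_mul, Finset.mul_sum, mul_assoc]

theorem hW_smul_right (a : F) (w w' : Fin m → F) : hW bar w (a • w') = bar a * hW bar w w' := by
  simp only [hW, Pi.smul_apply, smul_eq_mul, Finset.mul_sum, map_mul]
  exact Finset.sum_congr rfl fun i _ => by ring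

@[simp] theorem hW_zero_left (w' : Fin m → F) : hW bar 0 w' = 0 := by
  simp [hW]

@[simp] theorem hW_zero_right (w : Fin m → F) : hW bar w 0 = 0 := by
  simp [hW]

theorem hW_neg_left (w w' : Fin m → F) : hW bar (-w) w' = -hW bar w w' := by
  simp [hW]

theorem hW_neg_right (w w' : Fin m → F) : hW bar w (-w') = -hW bar w w' := by
  simp [hW]

theorem hW_sub_left (w₁ w₂ w' : Fin m → F) : hW bar (w₁ - w₂) w' = hW bar w₁ w' - hW bar w₂ w' := by
  rw [sub_eq_add_neg, hW_add_left, hW_neg_left, sub_eq_add_neg]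

theorem hW_sub_right (w w₁ w₂ : Fin m → F) : hW bar w (w₁ - w₂) = hW bar w w₁ - hW bar w w₂ := by
  rw [sub_eq_add_neg, hW_add_right, hW_neg_right, sub_eq_add_neg]

theorem hW_single_right (w : Fin m → F) (i : Fin m) : hW bar w (Pi.single i 1) = w i := by
  unfold hW
  rw [Finset.sum_eq_single i]
  · rw [Pi.single_eq_same, map_one, mul_one]
  · intro j _ hji
    rw [Pi.single_eq_of_ne hji, map_zero, mul_zero]
  · intro h; exact absurd (Finset.mem_univ i) h

theorem hW_single_left (w : Fin m → F) (i : Fin m) : hW bar (Pi.single i 1) w = bar (w i) := by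
  unfold hW
  rw [Finset.sum_eq_single i]
  · rw [Pi.single_eq_same, one_mul]
  · intro j _ hji
    rw [Pi.single_eq_of_ne hji, zero_mul]
  · intro h; exact absurd (Finset.mem_univ i) h

theorem eq_zero_of_hW_right {w : Fin m → F} (h : ∀ w', hW bar w w' = 0) : w = 0 := by
  funext i
  rw [← hW_single_right bar w i]
  exact h _

theorem eq_of_hW_right {w₁ w₂ : Fin m → F} (h : ∀ w', hW bar w₁ w' = hW bar w₂ w') : w₁ = w₂ := by
  rw [← sub_eq_zero]
  apply eq_zero_of_hW_right bar
  intro w'
  rw [hW_sub_left, h, sub_self]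

variable {bar} in
theorem hW_conj (hb : ∀ x, bar (bar x) = x) (w w' : Fin m → F) : bar (hW bar w w') = hW bar w' w := by
  simp only [hW, map_sum, map_mul, hb]
  exact Finset.sum_congr rfl fun i _ => mul_comm _ _

/-- the Hermitian form of the model space -/
def hV (x y : V F m) : F := x.1 * bar y.2.2 + x.2.2 * bar y.1 + hW bar x.2.1 y.2.1

theorem hV_add_left (x₁ x₂ y : V F m) : hV bar (x₁ + x₂) y = hV bar x₁ y + hV bar x₂ y := by
  simp only [hV, Prod.fst_add, Prod.snd_add, hW_add_left]; ring

theorem hV_add_right (x y₁ y₂ : V F m) : hV bar x (y₁ + y₂) = hV bar x y₁ + hV bar x y₂ := by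
  simp only [hV, Prod.fst_add, Prod.snd_add, hW_add_right, map_add]; ring

theorem hV_smul_left (a : F) (x y : V F m) : hV bar (a • x) y = a * hV bar x y := by
  simp only [hV, Prod.smul_fst, Prod.smul_snd, hW_smul_left, smul_eq_mul]; ring

theorem hV_smul_right (a : F) (x y : V F m) : hV bar x (a • y) = bar a * hV bar x y := by
  simp only [hV, Prod.smul_fst, Prod.smul_snd, hW_smul_right, smul_eq_mul, map_mul]; ring

@[simp] theorem hV_zero_left (y : V F m) : hV bar 0 y = 0 := by simp [hV]

@[simp] theorem hV_zero_right (x : V F m) : hV bar x 0 = 0 := by simp [hV]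

theorem hV_neg_left (x y : V F m) : hV bar (-x) y = -hV bar x y := by
  simp only [hV, Prod.fst_neg, Prod.snd_neg, hW_neg_left]; ring

theorem hV_neg_right (x y : V F m) : hV bar x (-y) = -hV bar x y := by
  simp only [hV, Prod.fst_neg, Prod.snd_neg, hW_neg_right, map_neg]; ring

theorem hV_sub_left (x₁ x₂ y : V F m) : hV bar (x₁ - x₂) y = hV bar x₁ y - hV bar x₂ y := by
  rw [sub_eq_add_neg, hV_add_left, hV_neg_left, sub_eq_add_neg]

theorem hV_sub_right (x y₁ y₂ : V F m) : hV bar x (y₁ - y₂) = hV bar x y₁ - hV bar x y₂ := by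
  rw [sub_eq_add_neg, hV_add_right, hV_neg_right, sub_eq_add_neg]

variable {bar} in
theorem hV_conj (hb : ∀ x, bar (bar x) = x) (x y : V F m) : bar (hV bar x y) = hV bar y x := by
  simp only [hV, map_add, map_mul, hb, hW_conj hb]; ring

/-- the first hyperbolic vector -/
def ve : V F m := (1, 0, 0)
/-- the second hyperbolic vector -/
def vf : V F m := (0, 0, 1)
/-- the embedding of the middle part -/
def vw (w : Fin m → F) : V F m := (0, w, 0)

theorem decomp (x : V F m) : x = x.1 • ve + vw x.2.1 + x.2.2 • vf := by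
  obtain ⟨a, w, b⟩ := x
  simp [ve, vw, vf]

@[simp] theorem hV_ve_right (x : V F m) : hV bar x ve = x.2.2 := by simp [hV, ve]
@[simp] theorem hV_vf_right (x : V F m) : hV bar x vf = x.1 := by simp [hV, vf]
@[simp] theorem hV_vw_right (x : V F m) (w : Fin m → F) : hV bar x (vw w) = hW bar x.2.1 w := by
  simp [hV, vw]
@[simp] theorem hV_ve_left (x : V F m) : hV bar ve x = bar x.2.2 := by simp [hV, ve]
@[simp] theorem hV_vf_left (x : V F m) : hV bar vf x = bar x.1 := by simp [hV, vf]
@[simp] theorem hV_vw_left (x : V F m) (w : Fin m → F) : hV bar (vw w) x = hW bar w x.2.1 := by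
  simp [hV, vw]

theorem eq_zero_of_hV_right {x : V F m} (h : ∀ y, hV bar x y = 0) : x = 0 := by
  have h1 := h ve
  have h2 := h vf
  have h3 : x.2.1 = 0 := eq_zero_of_hW_right bar fun w' => by
    have := h (vw w'); rwa [hV_vw_right] at this
  rw [hV_ve_right] at h1
  rw [hV_vf_right] at h2
  obtain ⟨a, w, b⟩ := x
  simp only at h1 h2 h3
  rw [h1, h2, h3]; rfl

theorem eq_of_hV_right {x₁ x₂ : V F m} (h : ∀ y, hV bar x₁ y = hV bar x₂ y) : x₁ = x₂ := by
  rw [← sub_eq_zero]
  apply eq_zero_of_hV_right bar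
  intro y
  rw [hV_sub_left, h, sub_self]

end form

/-! ### The group of pairs -/

/-- pairs `(w, c)` with the multiplication `(w,c)(w',c') = (w + w', c + c' - hW w' w)` -/
@[ext] structure HP (bar : F →+* F) (m : ℕ) where
  /-- vector part -/
  w : Fin m → F
  /-- scalar part -/
  c : F

section hp

variable {bar : F →+* F}

instance instMulHP : Mul (HP bar m) := ⟨fun x y => ⟨x.w + y.w, x.c + y.c - hW bar y.w x.w⟩⟩
instance instOneHP : One (HP bar m) := ⟨⟨0, 0⟩⟩
instance instInvHP : Inv (HP bar m) := ⟨fun x => ⟨-x.w, -x.c - hW bar x.w x.w⟩⟩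

theorem HP.mul_w0 (x y : HP bar m) : (x * y).w = x.w + y.w := rfl
theorem HP.mul_c0 (x y : HP bar m) : (x * y).c = x.c + y.c - hW bar y.w x.w := rfl
theorem HP.one_w0 : (1 : HP bar m).w = 0 := rfl
theorem HP.one_c0 : (1 : HP bar m).c = 0 := rfl
theorem HP.inv_w0 (x : HP bar m) : (x⁻¹).w = -x.w := rfl
theorem HP.inv_c0 (x : HP bar m) : (x⁻¹).c = -x.c - hW bar x.w x.w := rfl

instance instGroupHP : Group (HP bar m) :=
  Group.ofLeftAxioms
    (fun x y z => by
      ext1
      · simp only [HP.mul_w0]; rw [add_assoc]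
      · simp only [HP.mul_w0, HP.mul_c0, hW_add_left, hW_add_right]; ring)
    (fun x => by
      ext1
      · simp only [HP.mul_w0, HP.one_w0, zero_add]
      · simp only [HP.mul_c0, HP.one_c0, HP.one_w0, hW_zero_right, zero_add, sub_zero])
    (fun x => by
      ext1
      · simp only [HP.mul_w0, HP.inv_w0, HP.one_w0]; rw [neg_add_cancel]
      · simp only [HP.mul_c0, HP.inv_c0, HP.inv_w0, HP.one_c0, hW_neg_right]; ring)

@[simp] theorem HP.mul_w (x y : HP bar m) : (x * y).w = x.w + y.w := rfl
@[simp] theorem HP.mul_c (x y : HP bar m) : (x * y).c = x.c + y.c - hW bar y.w x.w := rfl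
@[simp] theorem HP.one_w : (1 : HP bar m).w = 0 := rfl
@[simp] theorem HP.one_c : (1 : HP bar m).c = 0 := rfl
@[simp] theorem HP.inv_w (x : HP bar m) : (x⁻¹).w = -x.w := rfl
@[simp] theorem HP.inv_c (x : HP bar m) : (x⁻¹).c = -x.c - hW bar x.w x.w := rfl

/-- the subgroup of the pairs with `c + bar c = - hW w w` -/
def HS (bar : F →+* F) (hb : ∀ x, bar (bar x) = x) (m : ℕ) : Subgroup (HP bar m) where
  carrier := {x | x.c + bar x.c = -hW bar x.w x.w}
  mul_mem' := by
    intro x y hx hy
    simp only [Set.mem_ofPred_eq, HP.mul_w, HP.mul_c, map_add, map_sub, hW_conj hb,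
      hW_add_left, hW_add_right] at *
    linear_combination hx + hy
  one_mem' := by simp
  inv_mem' := by
    intro x hx
    simp only [Set.mem_ofPred_eq, HP.inv_w, HP.inv_c, map_sub, map_neg, hW_conj hb,
      hW_neg_left, hW_neg_right] at *
    linear_combination -hx

theorem mem_HS {hb : ∀ x, bar (bar x) = x} {x : HP bar m} :
    x ∈ HS bar hb m ↔ x.c + bar x.c = -hW bar x.w x.w := Iff.rfl

/-- the commutator in `HP` -/
theorem HP.comm_eq (x y : HP bar m) :
    x * y = (⟨0, hW bar x.w y.w - hW bar y.w x.w⟩ : HP bar m) * (y * x) := by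
  ext1
  · simp [add_comm]
  · simp only [HP.mul_c, HP.mul_w, hW_zero_right]; ring

theorem HP.pow_w (x : HP bar m) (k : ℕ) : (x ^ k).w = k • x.w := by
  induction k with
  | zero => simp
  | succ k ih => rw [pow_succ, HP.mul_w, ih, succ_nsmul]

end hp

/-! ### The unipotent maps -/

section emap

variable (bar : F →+* F)

/-- the linear map `α e + w' + β f ↦ (α - hW w' w + c β) e + (w' + β w) + β f` -/
def Elin (x : HP bar m) : V F m →ₗ[F] V F m where
  toFun v := (v.1 - hW bar v.2.1 x.w + x.c * v.2.2, v.2.1 + v.2.2 • x.w, v.2.2)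
  map_add' u v := by
    simp only [Prod.fst_add, Prod.snd_add, hW_add_left, add_smul, Prod.mk_add_mk, Prod.mk.injEq,
      and_true]
    constructor
    · ring
    · abel
  map_smul' a v := by
    simp only [Prod.smul_fst, Prod.smul_snd, hW_smul_left, smul_eq_mul, RingHom.id_apply,
      Prod.smul_mk, Prod.mk.injEq, and_true, mul_smul, smul_add]
    ring

theorem Elin_apply (x : HP bar m) (v : V F m) :
    Elin bar x v = (v.1 - hW bar v.2.1 x.w + x.c * v.2.2, v.2.1 + v.2.2 • x.w, v.2.2) := rfl

theorem Elin_mul (x y : HP bar m) : Elin bar (x * y) = Elin bar x ∘ₗ Elin bar y := by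
  apply LinearMap.ext
  intro v
  simp only [LinearMap.comp_apply, Elin_apply, HP.mul_w, HP.mul_c, hW_add_right, hW_add_left,
    hW_smul_left, smul_add, Prod.mk.injEq, and_true]
  constructor
  · ring
  · abel

theorem Elin_one : Elin bar (1 : HP bar m) = LinearMap.id := by
  apply LinearMap.ext
  intro v
  simp [Elin_apply]

/-- the unipotent maps as a homomorphism into the linear automorphisms -/
def E : HP bar m →* (V F m ≃ₗ[F] V F m) where
  toFun x := LinearEquiv.ofLinearMap (Elin bar x) (Elin bar x⁻¹)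
    (by rw [← Elin_mul, mul_inv_cancel, Elin_one]) (by rw [← Elin_mul, inv_mul_cancel, Elin_one])
  map_one' := by
    apply LinearEquiv.ext
    intro v
    simp [Elin_one]
  map_mul' x y := by
    apply LinearEquiv.ext
    intro v
    simp [Elin_mul]

theorem E_apply (x : HP bar m) (v : V F m) :
    E bar x v = (v.1 - hW bar v.2.1 x.w + x.c * v.2.2, v.2.1 + v.2.2 • x.w, v.2.2) := rfl

theorem E_injective : Function.Injective (E (m := m) bar) := by
  intro x y hxy
  have h := congrArg (fun g : V F m ≃ₗ[F] V F m => g vf) hxy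
  simp only [E_apply, vf] at h
  simp only [hW_zero_left, sub_zero, mul_one, zero_add, one_smul, Prod.mk.injEq, and_true] at h
  exact HP.ext h.2 h.1

end emap

end Cfsg.Agent.Lib.Helper18.PSUMod
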