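/-
helper18: the isometry groups `GUm`, `SUm` of the model space; the unipotent maps `E x` are isometries
exactly for `x ∈ HS`; the diagonal maps `dmap a B b`; coordinates of elements stabilising the points
`⟨e⟩`, `⟨f⟩`.
-/
import Mathlib
import Cfsg.Agent.Lib.Helper18.PSUModA

set_option autoImplicit false
set_option linter.unusedSectionVars false

namespace Cfsg.Agent.Lib.Helper18.PSUMod

variable {F : Type*} [Field F] {m : ℕ}

section groups

variable (bar : F →+* F)

/-- the isometries of the model space -/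
def GUm (m : ℕ) : Subgroup (V F m ≃ₗ[F] V F m) where
  carrier := {g | ∀ x y, hV bar (g x) (g y) = hV bar x y}
  mul_mem' := by
    intro a b ha hb x y
    rw [LinearEquiv.mul_apply, LinearEquiv.mul_apply, ha, hb]
  one_mem' := fun _ _ => rfl
  inv_mem' := by
    intro g hg x y
    have h := hg (g⁻¹ x) (g⁻¹ y)
    rw [← LinearEquiv.mul_apply, ← LinearEquiv.mul_apply, mul_inv_cancel] at h
    exact h.symm

theorem mem_GUm {g : V F m ≃ₗ[F] V F m} :
    g ∈ GUm bar m ↔ ∀ x y, hV bar (g x) (g y) = hV bar x y := Iff.rfl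

/-- the isometries of determinant one -/
noncomputable def SUm (m : ℕ) : Subgroup (V F m ≃ₗ[F] V F m) :=
  GUm bar m ⊓ (LinearEquiv.det : (V F m ≃ₗ[F] V F m) →* Fˣ).ker

theorem mem_SUm {g : V F m ≃ₗ[F] V F m} :
    g ∈ SUm bar m ↔ g ∈ GUm bar m ∧ LinearEquiv.det g = 1 := by
  rw [SUm, Subgroup.mem_inf, MonoidHom.mem_ker]

theorem SUm_le_GUm : SUm bar m ≤ GUm bar m := inf_le_left

variable {bar}

theorem E_mem_GUm {hb : ∀ x, bar (bar x) = x} {x : HP bar m} (hx : x ∈ HS bar hb m) :
    E bar x ∈ GUm bar m := by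
  intro u v
  rw [mem_HS] at hx
  simp only [E_apply, hV, hW_add_left, hW_add_right, hW_smul_left, hW_smul_right, map_add, map_sub,
    map_mul, hW_conj hb]
  linear_combination (u.2.2 * bar v.2.2) * hx

theorem mem_HS_of_E_mem {hb : ∀ x, bar (bar x) = x} {x : HP bar m} (hx : E bar x ∈ GUm bar m) :
    x ∈ HS bar hb m := by
  have h := hx vf vf
  simp only [E_apply, hV, vf, hW_zero_left, hW_zero_right, map_zero, map_one, mul_zero,
    add_zero, zero_add, one_smul, sub_zero, mul_one, one_mul] at h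
  rw [mem_HS]
  linear_combination h

theorem GUm_apply_inv {g : V F m ≃ₗ[F] V F m} (x : V F m) : g (g⁻¹ x) = x := by
  rw [← LinearEquiv.mul_apply, mul_inv_cancel, LinearEquiv.coe_one, id_eq]

theorem GUm_inv_apply {g : V F m ≃ₗ[F] V F m} (x : V F m) : g⁻¹ (g x) = x := by
  rw [← LinearEquiv.mul_apply, inv_mul_cancel, LinearEquiv.coe_one, id_eq]

theorem hV_inv_left {g : V F m ≃ₗ[F] V F m} (hg : g ∈ GUm bar m) (x y : V F m) :
    hV bar (g⁻¹ x) y = hV bar x (g y) := by
  rw [← hg (g⁻¹ x) y, GUm_apply_inv]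

/-- an isometry is determined by its values on `e`, `f` and the middle part -/
theorem equiv_ext {g g' : V F m ≃ₗ[F] V F m} (he : g ve = g' ve) (hf : g vf = g' vf)
    (hw : ∀ w, g (vw w) = g' (vw w)) : g = g' := by
  apply LinearEquiv.ext
  intro x
  rw [decomp x, map_add, map_add, map_add, map_add, map_smul, map_smul, map_smul, map_smul, he, hf,
    hw]

end groups

/-! ### diagonal maps -/

section dmap

/-- the linear map `(α, w, β) ↦ (a α, B w, b β)` -/
def dlin (a : F) (B : (Fin m → F) →ₗ[F] (Fin m → F)) (b : F) : V F m →ₗ[F] V F m :=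
  (a • (LinearMap.id : F →ₗ[F] F)).prodMap (B.prodMap (b • (LinearMap.id : F →ₗ[F] F)))

theorem dlin_apply (a : F) (B : (Fin m → F) →ₗ[F] (Fin m → F)) (b : F) (x : V F m) :
    dlin a B b x = (a * x.1, B x.2.1, b * x.2.2) := rfl

theorem det_dlin (a : F) (B : (Fin m → F) →ₗ[F] (Fin m → F)) (b : F) :
    LinearMap.det (dlin a B b) = a * LinearMap.det B * b := by
  unfold dlin
  rw [LinearMap.det_prodMap, LinearMap.det_prodMap, LinearMap.det_smul, LinearMap.det_smul,
    LinearMap.det_id, Module.finrank_self, pow_one, mul_one, mul_one, pow_one, mul_assoc]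

/-- the diagonal maps as linear automorphisms -/
def dmap (a : Fˣ) (B : (Fin m → F) ≃ₗ[F] (Fin m → F)) (b : Fˣ) : V F m ≃ₗ[F] V F m :=
  LinearEquiv.ofLinearMap (dlin (a : F) (B : (Fin m → F) →ₗ[F] (Fin m → F)) (b : F))
    (dlin ((a⁻¹ : Fˣ) : F) (B.symm : (Fin m → F) →ₗ[F] (Fin m → F)) ((b⁻¹ : Fˣ) : F))
    (by
      apply LinearMap.ext; intro x
      simp [dlin_apply])
    (by
      apply LinearMap.ext; intro x
      simp [dlin_apply])

theorem dmap_apply (a : Fˣ) (B : (Fin m → F) ≃ₗ[F] (Fin m → F)) (b : Fˣ) (x : V F m) :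
    dmap a B b x = ((a : F) * x.1, B x.2.1, (b : F) * x.2.2) := rfl

theorem det_dmap (a : Fˣ) (B : (Fin m → F) ≃ₗ[F] (Fin m → F)) (b : Fˣ) :
    LinearEquiv.det (dmap a B b) = a * LinearEquiv.det B * b := by
  apply Units.ext
  rw [LinearEquiv.coe_det]
  show LinearMap.det (dlin (a : F) (B : (Fin m → F) →ₗ[F] (Fin m → F)) (b : F)) = _
  rw [det_dlin]
  simp

variable {bar : F →+* F}

theorem dmap_mem_GUm (hb : ∀ x, bar (bar x) = x) {a b : Fˣ} {B : (Fin m → F) ≃ₗ[F] (Fin m → F)}
    (hab : (a : F) * bar (b : F) = 1) (hB : ∀ w w', hW bar (B w) (B w') = hW bar w w') :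
    dmap a B b ∈ GUm bar m := by
  intro x y
  have hba : (b : F) * bar (a : F) = 1 := by
    have := congrArg bar hab
    rw [map_mul, hb, map_one] at this
    rw [mul_comm]; exact this
  simp only [dmap_apply, hV, hB, map_mul]
  linear_combination (x.1 * bar y.2.2) * hab + (x.2.2 * bar y.1) * hba

end dmap

/-! ### coordinates of isometries fixing the two points -/

section coords

variable {bar : F →+* F}

/-- the middle block of a linear automorphism -/
def Bof (g : V F m ≃ₗ[F] V F m) : (Fin m → F) →ₗ[F] (Fin m → F) where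
  toFun w := (g (vw w)).2.1
  map_add' w w' := by
    have : (vw (w + w') : V F m) = vw w + vw w' := by simp [vw]
    rw [this, map_add]; rfl
  map_smul' a w := by
    have : (vw (a • w) : V F m) = a • vw w := by simp [vw]
    rw [this, map_smul]; rfl

theorem Bof_apply (g : V F m ≃ₗ[F] V F m) (w : Fin m → F) : Bof g w = (g (vw w)).2.1 := rfl

/-- if an isometry maps `e`, `f` to multiples of themselves it preserves the middle part -/
theorem apply_vw_of_fix {g : V F m ≃ₗ[F] V F m} (hg : g ∈ GUm bar m) {a b : F}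
    (he : g ve = a • ve) (hf : g vf = b • vf) (hab : a * bar b = 1) (w : Fin m → F) :
    g (vw w) = vw (Bof g w) := by
  have ha : a ≠ 0 := left_ne_zero_of_mul_eq_one hab
  have hb0 : bar b ≠ 0 := right_ne_zero_of_mul_eq_one hab
  have hb : b ≠ 0 := fun h => hb0 (by rw [h, map_zero])
  have h1 := hg (vw w) ve
  have h2 := hg (vw w) vf
  rw [he, hV_smul_right, hV_ve_right, hV_ve_right] at h1
  rw [hf, hV_smul_right, hV_vf_right, hV_vf_right] at h2
  simp only [vw] at h1 h2
  have ha' : bar a ≠ 0 := fun h => ha (by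
    have := (map_eq_zero bar).1 h; exact this)
  have h3 : (g (vw w)).2.2 = 0 := by
    rcases mul_eq_zero.1 h1 with h | h
    · exact absurd h ha'
    · exact h
  have h4 : (g (vw w)).1 = 0 := by
    rcases mul_eq_zero.1 h2 with h | h
    · exact absurd h hb0
    · exact h
  rw [Bof_apply]
  ext1
  · simpa [vw] using h4
  · ext1
    · rfl
    · simpa [vw] using h3

end coords

end Cfsg.Agent.Lib.Helper18.PSUMod
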