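/-
helper18: the unipotent radical `Qe` and the root group `Te` inside the model group `SUm`;
elements of the point stabiliser; regular action on the far points.
-/
import Mathlib
import Cfsg.Agent.Lib.Helper18.PSUModB

set_option autoImplicit false
set_option linter.unusedSectionVars false

namespace Cfsg.Agent.Lib.Helper18.PSUMod

variable {F : Type*} [Field F] {m : ℕ}

section hp_pow

variable {bar : F →+* F}

theorem HP.pow_of_w_zero {x : HP bar m} (hx : x.w = 0) (k : ℕ) :
    (x ^ k).w = 0 ∧ (x ^ k).c = k • x.c := by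
  induction k with
  | zero => simp
  | succ k ih =>
    rw [pow_succ, HP.mul_w, HP.mul_c, ih.1, ih.2, hx, succ_nsmul]
    simp

theorem HP.pow_char_sq [Finite F] (x : HP bar m) : x ^ (ringChar F ^ 2) = 1 := by
  have := ringChar.charP F
  have h1 : (x ^ ringChar F).w = 0 := by
    rw [HP.pow_w]
    funext i
    simp [CharP.cast_eq_zero]
  rw [pow_two, pow_mul]
  obtain ⟨h2, h3⟩ := HP.pow_of_w_zero h1 (ringChar F)
  ext1
  · rw [h2]; rfl
  · rw [h3]; simp [CharP.cast_eq_zero]

end hp_pow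

section qe

variable {bar : F →+* F} [Finite F]

theorem det_E (x : HP bar m) : LinearEquiv.det (E bar x) = 1 := by
  have := ringChar.charP F
  have : Fact (ringChar F).Prime := ⟨CharP.char_is_prime F _⟩
  have h1 : (LinearEquiv.det (E bar x)) ^ (ringChar F ^ 2) = 1 := by
    rw [← map_pow, ← map_pow, HP.pow_char_sq, map_one, map_one]
  have h2 : ((LinearEquiv.det (E bar x) : Fˣ) : F) ^ (ringChar F ^ 2) = 1 := by
    rw [← Units.val_pow_eq_pow_val, h1, Units.val_one]
  have h3 : iterateFrobenius F (ringChar F) 2 ((LinearEquiv.det (E bar x) : Fˣ) : F) =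
      iterateFrobenius F (ringChar F) 2 1 := by
    rw [iterateFrobenius_def, iterateFrobenius_def, h2, one_pow]
  exact Units.ext (iterateFrobenius_inj F (ringChar F) 2 h3)

variable (hb : ∀ x, bar (bar x) = x)

theorem E_mem_SUm {x : HP bar m} (hx : x ∈ HS bar hb m) : E bar x ∈ SUm bar m :=
  (mem_SUm bar).2 ⟨E_mem_GUm hx, det_E x⟩

/-- the unipotent maps as a homomorphism into the model group -/
noncomputable def EG : ↥(HS bar hb m) →* ↥(SUm bar m) :=
  ((E bar).comp (HS bar hb m).subtype).codRestrict (SUm bar m) fun x => E_mem_SUm hb x.2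

theorem EG_coe (x : ↥(HS bar hb m)) : ((EG hb x : ↥(SUm bar m)) : V F m ≃ₗ[F] V F m) = E bar x := rfl

theorem EG_injective : Function.Injective (EG (m := m) hb) := by
  intro x y hxy
  have h := congrArg (fun g : ↥(SUm bar m) => (g : V F m ≃ₗ[F] V F m)) hxy
  simp only [EG_coe] at h
  exact Subtype.ext (E_injective bar h)

/-- the unipotent radical of the stabiliser of `⟨e⟩` -/
noncomputable def Qe (m : ℕ) : Subgroup ↥(SUm bar m) := (EG (m := m) hb).range

/-- the elements of `HS` with trivial vector part -/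
def HS0 (m : ℕ) : Subgroup ↥(HS bar hb m) where
  carrier := {x | (x : HP bar m).w = 0}
  mul_mem' := by
    intro x y hx hy
    simp only [Set.mem_ofPred_eq, Subgroup.coe_mul, HP.mul_w] at *
    rw [hx, hy, add_zero]
  one_mem' := rfl
  inv_mem' := by
    intro x hx
    simp only [Set.mem_ofPred_eq, Subgroup.coe_inv, HP.inv_w] at *
    rw [hx, neg_zero]

/-- the root group of `⟨e⟩` -/
noncomputable def Te (m : ℕ) : Subgroup ↥(SUm bar m) := (HS0 hb m).map (EG hb)

theorem mem_Qe {g : ↥(SUm bar m)} : g ∈ Qe hb m ↔ ∃ x : ↥(HS bar hb m), EG hb x = g := Iff.rfl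

theorem mem_Te {g : ↥(SUm bar m)} :
    g ∈ Te hb m ↔ ∃ x : ↥(HS bar hb m), (x : HP bar m).w = 0 ∧ EG hb x = g := by
  unfold Te
  rw [Subgroup.mem_map]
  rfl

theorem Te_le_Qe : Te hb m ≤ Qe hb m := by
  intro g hg
  obtain ⟨x, _, rfl⟩ := (mem_Te hb).1 hg
  exact ⟨x, rfl⟩

theorem isPGroup_Qe : IsPGroup (ringChar F) (Qe hb m) := by
  rintro ⟨g, hg⟩
  obtain ⟨x, rfl⟩ := (mem_Qe hb).1 hg
  refine ⟨2, ?_⟩
  apply Subtype.ext
  rw [Subgroup.coe_pow, Subgroup.coe_one, ← map_pow]
  have : x ^ (ringChar F ^ 2) = 1 := Subtype.ext (by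
    rw [Subgroup.coe_pow, HP.pow_char_sq]; rfl)
  rw [this, map_one]

end qe

end Cfsg.Agent.Lib.Helper18.PSUMod
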