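/-
helper18: the action of the model group on vectors; the stabilisers `Pe`, `Pf`, `Le`;
decomposition `Pe = Qe ⋊ Le`; conjugation of `Qe` by `Le`; root groups `TV u`.
-/
import Mathlib
import Cfsg.Agent.Lib.Helper18.PSUModC

set_option autoImplicit false
set_option linter.unusedSectionVars false

namespace Cfsg.Agent.Lib.Helper18.PSUMod

noncomputable section

variable {F : Type*} [Field F] {m : ℕ}

section av

variable {bar : F →+* F}

/-- the action on vectors -/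
def av (g : ↥(SUm bar m)) (x : V F m) : V F m := (g : V F m ≃ₗ[F] V F m) x

@[simp] theorem av_one (x : V F m) : av (1 : ↥(SUm bar m)) x = x := rfl

theorem av_mul (g g' : ↥(SUm bar m)) (x : V F m) : av (g * g') x = av g (av g' x) := rfl

@[simp] theorem av_inv_av (g : ↥(SUm bar m)) (x : V F m) : av g⁻¹ (av g x) = x := by
  rw [← av_mul, inv_mul_cancel, av_one]

@[simp] theorem av_av_inv (g : ↥(SUm bar m)) (x : V F m) : av g (av g⁻¹ x) = x := by
  rw [← av_mul, mul_inv_cancel, av_one]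

theorem av_add (g : ↥(SUm bar m)) (x y : V F m) : av g (x + y) = av g x + av g y :=
  map_add (g : V F m ≃ₗ[F] V F m) x y

theorem av_smul (g : ↥(SUm bar m)) (a : F) (x : V F m) : av g (a • x) = a • av g x :=
  map_smul (g : V F m ≃ₗ[F] V F m) a x

theorem av_sub (g : ↥(SUm bar m)) (x y : V F m) : av g (x - y) = av g x - av g y :=
  map_sub (g : V F m ≃ₗ[F] V F m) x y

@[simp] theorem av_zero (g : ↥(SUm bar m)) : av g (0 : V F m) = 0 :=
  map_zero (g : V F m ≃ₗ[F] V F m)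

theorem av_neg (g : ↥(SUm bar m)) (x : V F m) : av g (-x) = -av g x :=
  map_neg (g : V F m ≃ₗ[F] V F m) x

theorem hV_av (g : ↥(SUm bar m)) (x y : V F m) : hV bar (av g x) (av g y) = hV bar x y :=
  (SUm_le_GUm bar g.2) x y

theorem hV_av_inv (g : ↥(SUm bar m)) (x y : V F m) : hV bar (av g⁻¹ x) y = hV bar x (av g y) := by
  rw [← hV_av g (av g⁻¹ x) y, av_av_inv]

theorem av_injective (g : ↥(SUm bar m)) : Function.Injective (av g) :=
  (g : V F m ≃ₗ[F] V F m).injective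

theorem av_eq_zero {g : ↥(SUm bar m)} {x : V F m} : av g x = 0 ↔ x = 0 := by
  constructor
  · intro h; exact av_injective g (by rw [h, av_zero])
  · rintro rfl; exact av_zero g

theorem av_ext {g g' : ↥(SUm bar m)} (h : ∀ x, av g x = av g' x) : g = g' :=
  Subtype.ext (LinearEquiv.ext h)

theorem av_ext3 {g g' : ↥(SUm bar m)} (he : av g ve = av g' ve) (hf : av g vf = av g' vf)
    (hw : ∀ w, av g (vw w) = av g' (vw w)) : g = g' :=
  Subtype.ext (equiv_ext he hf hw)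

end av

section stab

variable {bar : F →+* F} [Finite F] (hb : ∀ x, bar (bar x) = x)

theorem av_EG (x : ↥(HS bar hb m)) (v : V F m) :
    av (EG hb x) v = (v.1 - hW bar v.2.1 (x : HP bar m).w + (x : HP bar m).c * v.2.2,
      v.2.1 + v.2.2 • (x : HP bar m).w, v.2.2) := rfl

@[simp] theorem av_EG_ve (x : ↥(HS bar hb m)) : av (EG hb x) ve = ve := by
  rw [av_EG]; simp [ve]

theorem av_EG_vf (x : ↥(HS bar hb m)) :
    av (EG hb x) vf = ((x : HP bar m).c, (x : HP bar m).w, 1) := by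
  rw [av_EG]; simp [vf]

theorem av_EG_vw (x : ↥(HS bar hb m)) (w : Fin m → F) :
    av (EG hb x) (vw w) = vw w - hW bar w (x : HP bar m).w • ve := by
  rw [av_EG]; simp [vw, ve]

/-- the stabiliser of the point `⟨e⟩` -/
def Pe (bar : F →+* F) (m : ℕ) : Subgroup ↥(SUm bar m) where
  carrier := {g | ∃ a : F, av g ve = a • ve}
  mul_mem' := by
    rintro g g' ⟨a, ha⟩ ⟨a', ha'⟩
    exact ⟨a' * a, by rw [av_mul, ha', av_smul, ha, smul_smul]⟩
  one_mem' := ⟨1, by simp⟩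
  inv_mem' := by
    rintro g ⟨a, ha⟩
    have ha0 : a ≠ 0 := by
      rintro rfl
      rw [zero_smul, av_eq_zero] at ha
      simp [ve] at ha
    refine ⟨a⁻¹, ?_⟩
    have : av g⁻¹ (a • ve) = ve := by rw [← ha, av_inv_av]
    rw [av_smul] at this
    exact (eq_inv_smul_iff₀ ha0).2 this

/-- the stabiliser of the point `⟨f⟩` -/
def Pf (bar : F →+* F) (m : ℕ) : Subgroup ↥(SUm bar m) where
  carrier := {g | ∃ a : F, av g vf = a • vf}
  mul_mem' := by
    rintro g g' ⟨a, ha⟩ ⟨a', ha'⟩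
    exact ⟨a' * a, by rw [av_mul, ha', av_smul, ha, smul_smul]⟩
  one_mem' := ⟨1, by simp⟩
  inv_mem' := by
    rintro g ⟨a, ha⟩
    have ha0 : a ≠ 0 := by
      rintro rfl
      rw [zero_smul, av_eq_zero] at ha
      simp [vf] at ha
    refine ⟨a⁻¹, ?_⟩
    have : av g⁻¹ (a • vf) = vf := by rw [← ha, av_inv_av]
    rw [av_smul] at this
    exact (eq_inv_smul_iff₀ ha0).2 this

/-- the Levi complement: stabiliser of both points -/
def Le (bar : F →+* F) (m : ℕ) : Subgroup ↥(SUm bar m) := Pe bar m ⊓ Pf bar m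

theorem mem_Pe {g : ↥(SUm bar m)} : g ∈ Pe bar m ↔ ∃ a : F, av g ve = a • ve := Iff.rfl
theorem mem_Pf {g : ↥(SUm bar m)} : g ∈ Pf bar m ↔ ∃ a : F, av g vf = a • vf := Iff.rfl
theorem mem_Le {g : ↥(SUm bar m)} :
    g ∈ Le bar m ↔ (∃ a : F, av g ve = a • ve) ∧ ∃ b : F, av g vf = b • vf := Subgroup.mem_inf

theorem Qe_le_Pe : Qe hb m ≤ Pe bar m := by
  rintro g ⟨x, rfl⟩
  exact ⟨1, by rw [av_EG_ve, one_smul]⟩

/-- the `e`-coefficient -/
def ca (g : ↥(SUm bar m)) : F := (av g ve).1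
/-- the `f`-coefficient -/
def cb (g : ↥(SUm bar m)) : F := (av g vf).2.2

theorem av_ve_of_mem_Pe {g : ↥(SUm bar m)} (hg : g ∈ Pe bar m) : av g ve = ca g • ve := by
  obtain ⟨a, ha⟩ := hg
  rw [ca, ha]; simp [ve]

theorem av_vf_of_mem_Pf {g : ↥(SUm bar m)} (hg : g ∈ Pf bar m) : av g vf = cb g • vf := by
  obtain ⟨a, ha⟩ := hg
  rw [cb, ha]; simp [vf]

/-- for elements of `Pe` the product of `ca` with the conjugate of `cb` is one -/
theorem ca_mul_cb {g : ↥(SUm bar m)} (hg : g ∈ Pe bar m) : ca g * bar (cb g) = 1 := by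
  have h := hV_av g ve vf
  rw [av_ve_of_mem_Pe hg, hV_smul_left, hV_ve_left] at h
  rw [cb]
  rw [h]; simp [hV, ve, vf]

theorem ca_ne_zero {g : ↥(SUm bar m)} (hg : g ∈ Pe bar m) : ca g ≠ 0 :=
  left_ne_zero_of_mul_eq_one (ca_mul_cb hg)

theorem cb_ne_zero {g : ↥(SUm bar m)} (hg : g ∈ Pe bar m) : cb g ≠ 0 := by
  intro h
  have := ca_mul_cb hg
  rw [h, map_zero, mul_zero] at this
  exact zero_ne_one this

theorem av_vw_of_mem_Le {g : ↥(SUm bar m)} (hg : g ∈ Le bar m) (w : Fin m → F) :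
    av g (vw w) = vw (Bof (g : V F m ≃ₗ[F] V F m) w) :=
  apply_vw_of_fix (SUm_le_GUm bar g.2) (av_ve_of_mem_Pe hg.1) (av_vf_of_mem_Pf hg.2)
    (ca_mul_cb hg.1) w

theorem hW_Bof {g : ↥(SUm bar m)} (hg : g ∈ Le bar m) (w w' : Fin m → F) :
    hW bar (Bof (g : V F m ≃ₗ[F] V F m) w) (Bof (g : V F m ≃ₗ[F] V F m) w') = hW bar w w' := by
  have h := hV_av g (vw w) (vw w')
  rw [av_vw_of_mem_Le hg, av_vw_of_mem_Le hg] at h
  simpa [hV, vw] using h

/-- the action of `Le` on the pairs -/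
def actL (g : ↥(SUm bar m)) (x : HP bar m) : HP bar m :=
  ⟨(cb g)⁻¹ • Bof (g : V F m ≃ₗ[F] V F m) x.w, ca g * (cb g)⁻¹ * x.c⟩

theorem actL_mem {g : ↥(SUm bar m)} (hg : g ∈ Le bar m) {x : HP bar m} (hx : x ∈ HS bar hb m) :
    actL g x ∈ HS bar hb m := by
  rw [mem_HS] at hx ⊢
  have h1 := ca_mul_cb hg.1
  have hb0 := cb_ne_zero hg.1
  have hbb : bar (cb g) ≠ 0 := fun h => hb0 ((map_eq_zero bar).1 h)
  have h2 : ca g = (bar (cb g))⁻¹ := eq_inv_of_mul_eq_one_left h1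
  simp only [actL, hW_smul_left, hW_smul_right, hW_Bof hg, map_mul, map_inv₀, h2, hb]
  field_simp
  linear_combination hx

/-- conjugation of the unipotent maps by elements of `Le` -/
theorem Le_conj {g : ↥(SUm bar m)} (hg : g ∈ Le bar m) (x : ↥(HS bar hb m)) :
    g * EG hb x * g⁻¹ = EG hb ⟨actL g x, actL_mem hb hg x.2⟩ := by
  rw [mul_inv_eq_iff_eq_mul]
  have h1 := ca_mul_cb hg.1
  have hb0 := cb_ne_zero hg.1
  have hbb : bar (cb g) ≠ 0 := fun h => hb0 ((map_eq_zero bar).1 h)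
  have h2 : ca g = (bar (cb g))⁻¹ := eq_inv_of_mul_eq_one_left h1
  apply av_ext3
  · rw [av_mul, av_mul, av_EG_ve, av_ve_of_mem_Pe hg.1, av_smul, av_EG_ve]
  · rw [av_mul, av_mul, av_vf_of_mem_Pf hg.2, av_smul, av_EG_vf, av_EG_vf]
    have : (((x : HP bar m).c, (x : HP bar m).w, (1 : F)) : V F m) =
        (x : HP bar m).c • ve + vw (x : HP bar m).w + vf := by simp [ve, vw, vf]
    rw [this, av_add, av_add, av_smul, av_ve_of_mem_Pe hg.1, av_vw_of_mem_Le hg,
      av_vf_of_mem_Pf hg.2]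
    simp only [actL, ve, vw, vf, Prod.smul_mk, Prod.mk_add_mk, smul_eq_mul, mul_zero, mul_one,
      add_zero, zero_add, smul_zero, Prod.mk.injEq]
    refine ⟨?_, ?_, trivial⟩
    · field_simp
    · rw [smul_smul, mul_inv_cancel₀ hb0, one_smul]
  · intro w
    rw [av_mul, av_mul, av_EG_vw, av_sub, av_smul, av_ve_of_mem_Pe hg.1, av_vw_of_mem_Le hg,
      av_EG_vw]
    simp only [actL, hW_smul_right, map_inv₀, ← hW_Bof hg w (x : HP bar m).w, smul_smul, h2]
    congr 2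
    field_simp

theorem Le_normalizes_Qe {g : ↥(SUm bar m)} (hg : g ∈ Le bar m) {y : ↥(SUm bar m)}
    (hy : y ∈ Qe hb m) : g * y * g⁻¹ ∈ Qe hb m := by
  obtain ⟨x, rfl⟩ := hy
  rw [Le_conj hb hg]
  exact ⟨_, rfl⟩

end stab

end

end Cfsg.Agent.Lib.Helper18.PSUMod
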