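/-
helper18: far points, the decomposition `Pe = Qe Le`, normality of `Qe`, `Te` in `Pe`;
the root groups `TV u`.
-/
import Mathlib
import Cfsg.Agent.Lib.Helper18.PSUModD

set_option autoImplicit false
set_option linter.unusedSectionVars false

namespace Cfsg.Agent.Lib.Helper18.PSUMod

noncomputable section

variable {F : Type*} [Field F] {m : ℕ}

/-- the facts on the involution `bar` used in the model -/
structure BarOK (bar : F →+* F) : Prop where
  invol : ∀ x, bar (bar x) = x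
  tr : ∀ r, bar r = r → ∃ z, z + bar z = r
  sk : ∃ c, c ≠ 0 ∧ c + bar c = 0
  nm : ∀ r, r ≠ 0 → bar r = r → ∃ z, z * bar z = r
  nt : ∃ θ, bar θ ≠ θ

section far

variable {bar : F →+* F} [Finite F] (hb : ∀ x, bar (bar x) = x)
include hb

theorem bar_hW_self (w : Fin m → F) : bar (hW bar w w) = hW bar w w := hW_conj hb w w

theorem bar_hV_self (x : V F m) : bar (hV bar x x) = hV bar x x := hV_conj hb x x

/-- isotropic vectors not orthogonal to `e` are multiples of `Qe`-images of `f` -/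
theorem exists_EG_of_far {u : V F m} (hu : hV bar u u = 0) (h2 : u.2.2 ≠ 0) :
    ∃ x : ↥(HS bar hb m), u = u.2.2 • av (EG hb x) vf := by
  obtain ⟨c, w, b⟩ := u
  simp only at h2
  have hbb : bar b ≠ 0 := fun h => h2 ((map_eq_zero bar).1 h)
  have hx : (⟨b⁻¹ • w, b⁻¹ * c⟩ : HP bar m) ∈ HS bar hb m := by
    rw [mem_HS]
    simp only [hV] at hu
    simp only [hW_smul_left, hW_smul_right, map_mul, map_inv₀]
    field_simp
    linear_combination hu
  refine ⟨⟨_, hx⟩, ?_⟩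
  rw [av_EG_vf]
  simp only [Prod.smul_mk, smul_eq_mul, mul_one, Prod.mk.injEq]
  refine ⟨?_, ?_, trivial⟩
  · field_simp
  · rw [smul_smul, mul_inv_cancel₀ h2, one_smul]

theorem EG_eq_one_of_mem_Pf {x : ↥(HS bar hb m)} (h : EG hb x ∈ Pf bar m) : x = 1 := by
  obtain ⟨b, hb'⟩ := h
  rw [av_EG_vf] at hb'
  simp only [vf, Prod.smul_mk, smul_zero, Prod.mk.injEq] at hb'
  apply Subtype.ext
  exact HP.ext hb'.2.1 hb'.1

/-- characterisation of `Qe` -/
theorem mem_Qe_of {g : ↥(SUm bar m)} (he : av g ve = ve)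
    (hw : ∀ w, ∃ t : F, av g (vw w) = vw w + t • ve) : g ∈ Qe hb m := by
  have h1 := hV_av g vf ve
  rw [he, hV_ve_right] at h1
  have h1' : (av g vf).2.2 = 1 := by rw [h1]; simp [hV, vf, ve]
  have h2 := hV_av g vf vf
  have h2' : hV bar (av g vf) (av g vf) = 0 := by rw [h2]; simp [hV, vf]
  obtain ⟨x, hx⟩ := exists_EG_of_far hb h2' (by rw [h1']; exact one_ne_zero)
  rw [h1', one_smul] at hx
  refine ⟨x, ?_⟩
  symm
  apply av_ext3
  · rw [he, av_EG_ve]
  · exact hx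
  · intro w
    obtain ⟨t, ht⟩ := hw w
    have h3 := hV_av g (vw w) vf
    rw [ht, hx, av_EG_vf] at h3
    have h4 : t = -hW bar w (x : HP bar m).w := by
      simp only [hV, vw, ve, vf, Prod.fst_add, Prod.snd_add, Prod.smul_mk, smul_eq_mul, mul_one,
        mul_zero, add_zero, zero_add, smul_zero, map_one, map_zero, zero_mul, hW_zero_right] at h3
      linear_combination h3
    rw [ht, av_EG_vw, h4, neg_smul, sub_eq_add_neg]

/-- `Pe = Qe Le` -/
theorem Pe_decomp {g : ↥(SUm bar m)} (hg : g ∈ Pe bar m) :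
    ∃ x : ↥(HS bar hb m), ∃ l ∈ Le bar m, g = EG hb x * l := by
  have h2 : hV bar (av g vf) (av g vf) = 0 := by rw [hV_av]; simp [hV, vf]
  obtain ⟨x, hx⟩ := exists_EG_of_far hb h2 (cb_ne_zero hg)
  refine ⟨x, (EG hb x)⁻¹ * g, ⟨?_, ?_⟩, by group⟩
  · refine ⟨ca g, ?_⟩
    rw [av_mul, av_ve_of_mem_Pe hg, av_smul]
    congr 1
    have := av_EG_ve hb x
    rw [← this, av_inv_av, this]
  · refine ⟨cb g, ?_⟩
    rw [av_mul, hx, av_smul, av_inv_av]
    rfl

theorem Le_le_Pe : Le bar m ≤ Pe bar m := inf_le_left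

/-- `Qe` is normalised by `Pe` -/
theorem Pe_normalizes_Qe {g : ↥(SUm bar m)} (hg : g ∈ Pe bar m) {y : ↥(SUm bar m)}
    (hy : y ∈ Qe hb m) : g * y * g⁻¹ ∈ Qe hb m := by
  obtain ⟨x, l, hl, rfl⟩ := Pe_decomp hb hg
  have h1 : EG hb x * l * y * (EG hb x * l)⁻¹ = EG hb x * (l * y * l⁻¹) * (EG hb x)⁻¹ := by group
  rw [h1]
  exact (Qe hb m).mul_mem ((Qe hb m).mul_mem ⟨x, rfl⟩ (Le_normalizes_Qe hb hl hy))
    ((Qe hb m).inv_mem ⟨x, rfl⟩)

/-- `Te` is central in `Qe` -/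
theorem Te_comm_Qe {t y : ↥(SUm bar m)} (ht : t ∈ Te hb m) (hy : y ∈ Qe hb m) : t * y = y * t := by
  obtain ⟨x, hx, rfl⟩ := (mem_Te hb).1 ht
  obtain ⟨x', rfl⟩ := hy
  rw [← map_mul, ← map_mul]
  congr 1
  apply Subtype.ext
  rw [Subgroup.coe_mul, Subgroup.coe_mul]
  ext1
  · simp [hx]
  · simp [hx, add_comm]

/-- `Te` is normalised by `Pe` -/
theorem Pe_normalizes_Te {g : ↥(SUm bar m)} (hg : g ∈ Pe bar m) {y : ↥(SUm bar m)}
    (hy : y ∈ Te hb m) : g * y * g⁻¹ ∈ Te hb m := by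
  obtain ⟨x, l, hl, rfl⟩ := Pe_decomp hb hg
  have h1 : EG hb x * l * y * (EG hb x * l)⁻¹ = EG hb x * (l * y * l⁻¹) * (EG hb x)⁻¹ := by group
  rw [h1]
  have h2 : l * y * l⁻¹ ∈ Te hb m := by
    obtain ⟨x', hx', rfl⟩ := (mem_Te hb).1 hy
    rw [Le_conj hb hl]
    refine (mem_Te hb).2 ⟨_, ?_, rfl⟩
    simp only [actL, hx', map_zero, smul_zero]
  rw [← Te_comm_Qe hb h2 ⟨x, rfl⟩, mul_inv_cancel_right]
  exact h2

end far

end

end Cfsg.Agent.Lib.Helper18.PSUMod
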