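/-
helper18: the swap symmetry of the model, transitivity on isotropic points, the elements fixing all
isotropic points are scalar, the centre.
-/
import Mathlib
import Cfsg.Agent.Lib.Helper18.PSUModE

set_option autoImplicit false
set_option linter.unusedSectionVars false

namespace Cfsg.Agent.Lib.Helper18.PSUMod

noncomputable section

variable {F : Type*} [Field F] {m : ℕ}

section swap

/-- the swap of the hyperbolic pair -/
def swLin : V F m →ₗ[F] V F m where
  toFun x := (x.2.2, x.2.1, x.1)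
  map_add' _ _ := rfl
  map_smul' _ _ := rfl

/-- the swap as a linear automorphism -/
def sw : V F m ≃ₗ[F] V F m :=
  LinearEquiv.ofLinearMap swLin swLin (by apply LinearMap.ext; intro x; rfl)
    (by apply LinearMap.ext; intro x; rfl)

@[simp] theorem sw_apply (x : V F m) : sw x = (x.2.2, x.2.1, x.1) := rfl

theorem sw_sw (x : V F m) : sw (sw x) = x := rfl

theorem sw_mul_sw : (sw : V F m ≃ₗ[F] V F m) * sw = 1 := by
  apply LinearEquiv.ext; intro x; rfl

theorem sw_inv : (sw : V F m ≃ₗ[F] V F m)⁻¹ = sw := inv_eq_of_mul_eq_one_left sw_mul_sw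

variable (bar : F →+* F)

theorem sw_mem_GUm : (sw : V F m ≃ₗ[F] V F m) ∈ GUm bar m := by
  intro x y
  simp only [sw_apply, hV]
  ring

theorem hV_sw (x y : V F m) : hV bar (sw x) (sw y) = hV bar x y := sw_mem_GUm bar x y

theorem sw_conj_mem_SUm {g : V F m ≃ₗ[F] V F m} (hg : g ∈ SUm bar m) :
    sw * g * sw ∈ SUm bar m := by
  rw [mem_SUm]
  refine ⟨(GUm bar m).mul_mem ((GUm bar m).mul_mem (sw_mem_GUm bar) (SUm_le_GUm bar hg))
    (sw_mem_GUm bar), ?_⟩
  have h1 : LinearEquiv.det (sw * g * sw) =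
      LinearEquiv.det (sw : V F m ≃ₗ[F] V F m) * LinearEquiv.det g *
        LinearEquiv.det (sw : V F m ≃ₗ[F] V F m) := by
    rw [map_mul, map_mul]
  have h2 : LinearEquiv.det (sw : V F m ≃ₗ[F] V F m) * LinearEquiv.det (sw : V F m ≃ₗ[F] V F m)
      = 1 := by
    rw [← map_mul, sw_mul_sw, map_one]
  rw [h1, ((mem_SUm bar).1 hg).2, mul_one, h2]

/-- conjugation by the swap -/
def swF (g : ↥(SUm bar m)) : ↥(SUm bar m) :=
  ⟨sw * (g : V F m ≃ₗ[F] V F m) * sw, sw_conj_mem_SUm bar g.2⟩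

theorem swF_coe (g : ↥(SUm bar m)) :
    ((swF bar g : ↥(SUm bar m)) : V F m ≃ₗ[F] V F m) = sw * (g : V F m ≃ₗ[F] V F m) * sw := rfl

theorem swF_swF (g : ↥(SUm bar m)) : swF bar (swF bar g) = g := by
  apply Subtype.ext
  rw [swF_coe, swF_coe, mul_assoc, mul_assoc, sw_mul_sw, mul_one, ← mul_assoc, sw_mul_sw, one_mul]

/-- conjugation by the swap as an automorphism of the model group -/
def swC : ↥(SUm bar m) ≃* ↥(SUm bar m) where
  toFun := swF bar
  invFun := swF bar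
  left_inv := swF_swF bar
  right_inv := swF_swF bar
  map_mul' g g' := by
    apply Subtype.ext
    rw [Subgroup.coe_mul, swF_coe, swF_coe, swF_coe, Subgroup.coe_mul]
    have : (sw : V F m ≃ₗ[F] V F m) * (g : V F m ≃ₗ[F] V F m) * sw *
        (sw * (g' : V F m ≃ₗ[F] V F m) * sw) =
        sw * (g : V F m ≃ₗ[F] V F m) * ((sw : V F m ≃ₗ[F] V F m) * sw) *
          (g' : V F m ≃ₗ[F] V F m) * sw := by simp only [mul_assoc]
    rw [this, sw_mul_sw, mul_one]
    simp only [mul_assoc]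

variable {bar}

theorem av_swC (g : ↥(SUm bar m)) (x : V F m) : av (swC bar g) x = sw (av g (sw x)) := rfl

theorem swC_swC (g : ↥(SUm bar m)) : swC bar (swC bar g) = g := (swC bar).left_inv g

@[simp] theorem sw_ve : sw (ve : V F m) = vf := rfl
@[simp] theorem sw_vf : sw (vf : V F m) = ve := rfl
@[simp] theorem sw_vw (w : Fin m → F) : sw (vw w : V F m) = vw w := rfl

theorem sw_smul (a : F) (x : V F m) : sw (a • x) = a • sw x := map_smul sw a x

theorem swC_mem_Pf_iff [Finite F] {g : ↥(SUm bar m)} : swC bar g ∈ Pf bar m ↔ g ∈ Pe bar m := by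
  rw [mem_Pf, mem_Pe]
  constructor
  · rintro ⟨a, ha⟩
    refine ⟨a, ?_⟩
    rw [av_swC, sw_vf] at ha
    have := congrArg sw ha
    rwa [sw_sw, sw_smul, sw_vf] at this
  · rintro ⟨a, ha⟩
    refine ⟨a, ?_⟩
    rw [av_swC, sw_vf, ha, sw_smul, sw_ve]

theorem swC_mem_Pe_iff [Finite F] {g : ↥(SUm bar m)} : swC bar g ∈ Pe bar m ↔ g ∈ Pf bar m := by
  rw [← swC_mem_Pf_iff, swC_swC]

theorem swC_mem_Le_iff [Finite F] {g : ↥(SUm bar m)} : swC bar g ∈ Le bar m ↔ g ∈ Le bar m := by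
  rw [Le, Subgroup.mem_inf, Subgroup.mem_inf, swC_mem_Pe_iff, swC_mem_Pf_iff, and_comm]

end swap

section trans

variable {bar : F →+* F} [Finite F] (hB : BarOK bar)
include hB

theorem exists_HS (w : Fin m → F) : ∃ x : ↥(HS bar hB.invol m), (x : HP bar m).w = w := by
  obtain ⟨z, hz⟩ := hB.tr (-hW bar w w) (by rw [map_neg, bar_hW_self hB.invol])
  exact ⟨⟨⟨w, z⟩, hz⟩, rfl⟩

theorem exists_HS0 : ∃ x : ↥(HS bar hB.invol m), (x : HP bar m).w = 0 ∧ (x : HP bar m).c ≠ 0 := by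
  obtain ⟨c, hc0, hc⟩ := hB.sk
  exact ⟨⟨⟨0, c⟩, by rw [mem_HS]; simpa using hc⟩, rfl, hc0⟩

/-- `f` is a multiple of an image of `e` -/
theorem exists_vf_eq : ∃ (g : ↥(SUm bar m)) (a : F), a ≠ 0 ∧ (vf : V F m) = a • av g ve := by
  obtain ⟨c, hc0, hc⟩ := hB.sk
  have hci : c⁻¹ + bar c⁻¹ = 0 := by
    have hbc : bar c ≠ 0 := fun h => hc0 ((map_eq_zero bar).1 h)
    rw [map_inv₀]
    field_simp
    linear_combination hc
  let x : ↥(HS bar hB.invol m) := ⟨⟨0, c⟩, by rw [mem_HS]; simpa using hc⟩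
  let y : ↥(HS bar hB.invol m) := ⟨⟨0, c⁻¹⟩, by rw [mem_HS]; simpa using hci⟩
  refine ⟨(EG hB.invol x)⁻¹ * swC bar (EG hB.invol y), c, hc0, ?_⟩
  rw [av_mul, av_swC, sw_ve, av_EG_vf, ← av_smul]
  have h1 : av (EG hB.invol x) (vf : V F m) = c • sw ((c⁻¹, (0 : Fin m → F), (1 : F)) : V F m) := by
    rw [av_EG_vf]
    simp only [sw_apply, Prod.smul_mk, smul_eq_mul, mul_one, smul_zero, Prod.mk.injEq]
    exact ⟨rfl, rfl, (mul_inv_cancel₀ hc0).symm⟩
  rw [← h1, av_inv_av]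

/-- transitivity on isotropic points -/
theorem exists_av_ve {u : V F m} (hu0 : u ≠ 0) (hu : hV bar u u = 0) :
    ∃ (g : ↥(SUm bar m)) (a : F), a ≠ 0 ∧ u = a • av g ve := by
  obtain ⟨g₀, a₀, ha₀, h₀⟩ := exists_vf_eq (m := m) hB
  -- far from `e`
  have far : ∀ u : V F m, hV bar u u = 0 → u.2.2 ≠ 0 →
      ∃ (g : ↥(SUm bar m)) (a : F), a ≠ 0 ∧ u = a • av g ve := by
    intro u hu h2
    obtain ⟨x, hx⟩ := exists_EG_of_far hB.invol hu h2
    refine ⟨EG hB.invol x * g₀, u.2.2 * a₀, mul_ne_zero h2 ha₀, ?_⟩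
    calc u = u.2.2 • av (EG hB.invol x) vf := hx
      _ = (u.2.2 * a₀) • av (EG hB.invol x * g₀) ve := by
        rw [h₀, av_smul, smul_smul, av_mul]
  -- first coordinate non-zero
  have near : ∀ u : V F m, hV bar u u = 0 → u.1 ≠ 0 →
      ∃ (g : ↥(SUm bar m)) (a : F), a ≠ 0 ∧ u = a • av g ve := by
    intro u hu h1
    have hu' : hV bar (sw u) (sw u) = 0 := by rw [hV_sw, hu]
    obtain ⟨x, hx⟩ := exists_EG_of_far hB.invol hu' (by simpa using h1)
    refine ⟨swC bar (EG hB.invol x), u.1, h1, ?_⟩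
    have := congrArg sw hx
    rw [sw_sw, sw_smul] at this
    calc u = (sw u).2.2 • sw (av (EG hB.invol x) vf) := this
      _ = u.1 • av (swC bar (EG hB.invol x)) ve := by
        rw [av_swC, sw_ve]; rfl
  by_cases h2 : u.2.2 = 0
  · by_cases h1 : u.1 = 0
    · -- middle vector
      have hw0 : u.2.1 ≠ 0 := by
        intro h
        apply hu0
        obtain ⟨a, w, b⟩ := u
        simp only at h1 h2 h
        rw [h1, h2, h]; rfl
      obtain ⟨w', hw'⟩ : ∃ w', hW bar u.2.1 w' ≠ 0 := by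
        by_contra hcon
        push Not at hcon
        exact hw0 (eq_zero_of_hW_right bar hcon)
      obtain ⟨x, hx⟩ := exists_HS (m := m) hB w'
      have hu' : hV bar (av (EG hB.invol x) u) (av (EG hB.invol x) u) = 0 := by rw [hV_av, hu]
      obtain ⟨g, a, ha, hg⟩ := near (av (EG hB.invol x) u) hu' (by
        rw [av_EG]
        simp only [h1, h2, hx, mul_zero, add_zero, zero_sub, neg_ne_zero]
        exact hw')
      refine ⟨(EG hB.invol x)⁻¹ * g, a, ha, ?_⟩
      rw [av_mul, ← av_smul, ← hg, av_inv_av]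
    · exact near u hu h1
  · exact far u hu h2

end trans

end

end Cfsg.Agent.Lib.Helper18.PSUMod
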