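/-
helper18: root groups `TV u` of the model group, scalar elements, the centre.
-/
import Mathlib
import Cfsg.Agent.Lib.Helper18.PSUModF

set_option autoImplicit false
set_option linter.unusedSectionVars false

namespace Cfsg.Agent.Lib.Helper18.PSUMod

noncomputable section

variable {F : Type*} [Field F] {m : ℕ}

section tv

variable (bar : F →+* F)

/-- the root group with centre `u`: the unitary transvections `x ↦ x + c h(x,u) u` -/
def TV (u : V F m) : Subgroup ↥(SUm bar m) where
  carrier := {g | ∃ c : F, c + bar c = 0 ∧ c * hV bar u u = 0 ∧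
    ∀ x, av g x = x + (c * hV bar x u) • u}
  mul_mem' := by
    rintro g g' ⟨c, hc, hcu, hg⟩ ⟨c', hc', hcu', hg'⟩
    refine ⟨c + c', by rw [map_add]; linear_combination hc + hc', by
      rw [add_mul, hcu, hcu', add_zero], fun x => ?_⟩
    rw [av_mul, hg', hg, hV_add_left, hV_smul_left]
    have : c * (hV bar x u + c' * hV bar x u * hV bar u u) = c * hV bar x u := by
      linear_combination (c' * hV bar x u) * hcu
    rw [this, add_assoc, ← add_smul]
    congr 2
    ring
  one_mem' := ⟨0, by simp, by simp, by simp⟩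
  inv_mem' := by
    rintro g ⟨c, hc, hcu, hg⟩
    refine ⟨-c, by rw [map_neg]; linear_combination -hc, by rw [neg_mul, hcu, neg_zero],
      fun x => ?_⟩
    apply av_injective g
    rw [av_av_inv, hg, hV_add_left, hV_smul_left]
    have : c * (hV bar x u + -c * hV bar x u * hV bar u u) = c * hV bar x u := by
      linear_combination (-c * hV bar x u) * hcu
    rw [this, add_assoc, ← add_smul]
    have : -c * hV bar x u + c * hV bar x u = 0 := by ring
    rw [this, zero_smul, add_zero]

variable {bar}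

theorem mem_TV {u : V F m} {g : ↥(SUm bar m)} :
    g ∈ TV bar u ↔ ∃ c : F, c + bar c = 0 ∧ c * hV bar u u = 0 ∧
      ∀ x, av g x = x + (c * hV bar x u) • u := Iff.rfl

/-- conjugation of transvections -/
theorem conj_TV_apply (g : ↥(SUm bar m)) {t : ↥(SUm bar m)} {u : V F m} {c : F}
    (ht : ∀ x, av t x = x + (c * hV bar x u) • u) (x : V F m) :
    av (g * t * g⁻¹) x = x + (c * hV bar x (av g u)) • av g u := by
  rw [av_mul, av_mul, ht, av_add, av_av_inv, av_smul, hV_av_inv]

theorem conj_mem_TV (g : ↥(SUm bar m)) {t : ↥(SUm bar m)} {u : V F m} (ht : t ∈ TV bar u) :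
    g * t * g⁻¹ ∈ TV bar (av g u) := by
  obtain ⟨c, hc, hcu, ht⟩ := ht
  exact ⟨c, hc, by rw [hV_av]; exact hcu, conj_TV_apply g ht⟩

theorem conj_mem_TV_iff (g : ↥(SUm bar m)) {t : ↥(SUm bar m)} {u : V F m} :
    g * t * g⁻¹ ∈ TV bar (av g u) ↔ t ∈ TV bar u := by
  refine ⟨fun h => ?_, conj_mem_TV g⟩
  have := conj_mem_TV g⁻¹ h
  rw [av_inv_av] at this
  convert this using 1
  group

theorem TV_smul (hb : ∀ x, bar (bar x) = x) {a : F} (ha : a ≠ 0) (u : V F m) :
    TV bar (a • u) = TV bar u := by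
  have hab : bar a ≠ 0 := fun h => ha ((map_eq_zero bar).1 h)
  ext g
  constructor
  · rintro ⟨c, hc, hcu, hg⟩
    refine ⟨c * (a * bar a), ?_, ?_, fun x => ?_⟩
    · rw [map_mul, map_mul, hb]
      linear_combination (a * bar a) * hc
    · rw [hV_smul_left, hV_smul_right] at hcu
      linear_combination hcu
    · rw [hg, hV_smul_right, smul_smul]
      congr 2
      ring
  · rintro ⟨c, hc, hcu, hg⟩
    refine ⟨c * (a * bar a)⁻¹, ?_, ?_, fun x => ?_⟩
    · rw [map_mul, map_inv₀, map_mul, hb]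
      field_simp
      linear_combination hc
    · rw [hV_smul_left, hV_smul_right]
      have : c * (a * bar a)⁻¹ * (a * (bar a * hV bar u u)) = c * hV bar u u := by field_simp
      rw [this, hcu]
    · rw [hg, hV_smul_right, smul_smul]
      congr 2
      field_simp

theorem TV_comm (hb : ∀ x, bar (bar x) = x) {u v : V F m} (huv : hV bar u v = 0)
    {t t' : ↥(SUm bar m)} (ht : t ∈ TV bar u) (ht' : t' ∈ TV bar v) : t * t' = t' * t := by
  obtain ⟨c, -, -, ht⟩ := ht
  obtain ⟨c', -, -, ht'⟩ := ht'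
  have hvu : hV bar v u = 0 := by rw [← hV_conj hb, huv, map_zero]
  apply av_ext
  intro x
  rw [av_mul, av_mul, ht', ht, ht, ht', hV_add_left, hV_add_left, hV_smul_left, hV_smul_left, hvu,
    huv]
  simp only [mul_zero, add_zero]
  abel

end tv

section te

variable {bar : F →+* F} [Finite F] (hb : ∀ x, bar (bar x) = x)

theorem Te_eq_TV : Te hb m = TV bar ve := by
  ext g
  rw [mem_Te, mem_TV]
  constructor
  · rintro ⟨x, hx, rfl⟩
    refine ⟨(x : HP bar m).c, ?_, by simp [hV, ve], fun v => ?_⟩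
    · have := x.2
      rw [mem_HS, hx] at this
      simpa using this
    · rw [av_EG, hx, hV_ve_right]
      obtain ⟨a, w, b⟩ := v
      simp [ve]
  · rintro ⟨c, hc, -, hg⟩
    refine ⟨⟨⟨0, c⟩, by rw [mem_HS]; simpa using hc⟩, rfl, ?_⟩
    apply av_ext
    intro v
    rw [hg, av_EG, hV_ve_right]
    obtain ⟨a, w, b⟩ := v
    simp [ve]

/-- elements fixing the vector `e` centralise `Te` -/
theorem comm_Te_of_fix {y t : ↥(SUm bar m)} (hy : av y ve = ve) (ht : t ∈ Te hb m) :
    y * t = t * y := by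
  rw [Te_eq_TV] at ht
  obtain ⟨c, -, -, ht⟩ := ht
  rw [← mul_inv_eq_iff_eq_mul]
  apply av_ext
  intro x
  rw [conj_TV_apply y ht, hy, ht]

end te

/-! ### scalar elements -/

section scalars

variable {bar : F →+* F}

/-- the scalar elements of the model group -/
def Zs (bar : F →+* F) (m : ℕ) : Subgroup ↥(SUm bar m) where
  carrier := {g | ∃ ζ : F, ∀ x, av g x = ζ • x}
  mul_mem' := by
    rintro g g' ⟨ζ, hg⟩ ⟨ζ', hg'⟩
    exact ⟨ζ' * ζ, fun x => by rw [av_mul, hg', av_smul, hg, smul_smul]⟩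
  one_mem' := ⟨1, fun x => by rw [av_one, one_smul]⟩
  inv_mem' := by
    rintro g ⟨ζ, hg⟩
    have hζ : ζ ≠ 0 := by
      rintro rfl
      have := hg ve
      rw [zero_smul, av_eq_zero] at this
      simp [ve] at this
    refine ⟨ζ⁻¹, fun x => ?_⟩
    apply av_injective g
    rw [av_av_inv, hg, smul_smul, mul_inv_cancel₀ hζ, one_smul]

theorem mem_Zs {g : ↥(SUm bar m)} : g ∈ Zs bar m ↔ ∃ ζ : F, ∀ x, av g x = ζ • x := Iff.rfl

theorem Zs_le_center : Zs bar m ≤ Subgroup.center ↥(SUm bar m) := by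
  rintro g ⟨ζ, hg⟩
  rw [Subgroup.mem_center_iff]
  intro y
  apply av_ext
  intro x
  rw [av_mul, av_mul, hg, hg, av_smul]

variable [Finite F]

/-- scalar elements of `p`-power order are trivial -/
theorem eq_one_of_mem_Zs_of_pow {g : ↥(SUm bar m)} (hg : g ∈ Zs bar m) {k : ℕ}
    (hk : g ^ (ringChar F ^ k) = 1) : g = 1 := by
  have := ringChar.charP F
  have : Fact (ringChar F).Prime := ⟨CharP.char_is_prime F _⟩
  obtain ⟨ζ, hζ⟩ := hg
  have h1 : ∀ (j : ℕ) (x : V F m), av (g ^ j) x = ζ ^ j • x := by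
    intro j
    induction j with
    | zero => intro x; simp
    | succ j ih => intro x; rw [pow_succ, av_mul, hζ, av_smul, ih, smul_smul, pow_succ, mul_comm]
  have h2 := h1 (ringChar F ^ k) ve
  rw [hk, av_one] at h2
  have h3 : ζ ^ (ringChar F ^ k) = 1 := by
    have := congrArg Prod.fst h2
    simpa [ve] using this.symm
  have h4 : ζ = 1 := by
    apply iterateFrobenius_inj F (ringChar F) k
    rw [iterateFrobenius_def, iterateFrobenius_def, h3, one_pow]
  apply av_ext
  intro x
  rw [hζ, h4, one_smul, av_one]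

variable (hB : BarOK bar)
include hB

/-- elements fixing all isotropic points are scalar -/
theorem mem_Zs_of_fixes {g : ↥(SUm bar m)}
    (h : ∀ u : V F m, u ≠ 0 → hV bar u u = 0 → ∃ a : F, av g u = a • u) : g ∈ Zs bar m := by
  have hgL : g ∈ Le bar m :=
    ⟨h ve (by simp [ve]) (by simp [hV, ve]), h vf (by simp [vf]) (by simp [hV, vf])⟩
  have key : ∀ x : ↥(HS bar hB.invol m),
      ca g * (x : HP bar m).c = cb g * (x : HP bar m).c ∧
        Bof (g : V F m ≃ₗ[F] V F m) (x : HP bar m).w = cb g • (x : HP bar m).w := by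
    intro x
    have hu0 : av (EG hB.invol x) (vf : V F m) ≠ 0 := by
      rw [Ne, av_eq_zero]; simp [vf]
    have hu : hV bar (av (EG hB.invol x) vf) (av (EG hB.invol x) (vf : V F m)) = 0 := by
      rw [hV_av]; simp [hV, vf]
    obtain ⟨a, ha⟩ := h _ hu0 hu
    rw [av_EG_vf] at ha
    have h1 : (((x : HP bar m).c, (x : HP bar m).w, (1 : F)) : V F m) =
        (x : HP bar m).c • ve + vw (x : HP bar m).w + vf := by simp [ve, vw, vf]
    rw [h1, av_add, av_add, av_smul, av_ve_of_mem_Pe hgL.1, av_vw_of_mem_Le hgL,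
      av_vf_of_mem_Pf hgL.2] at ha
    simp only [ve, vw, vf, Prod.smul_mk, Prod.mk_add_mk, smul_eq_mul, mul_zero, mul_one,
      add_zero, zero_add, smul_zero, Prod.mk.injEq] at ha
    obtain ⟨ha1, ha2, ha3⟩ := ha
    rw [← ha3] at ha1 ha2
    exact ⟨by linear_combination ha1, ha2⟩
  obtain ⟨x₀, hx₀, hc₀⟩ := exists_HS0 (m := m) hB
  have hab : ca g = cb g := mul_right_cancel₀ hc₀ (key x₀).1
  refine ⟨cb g, fun x => ?_⟩
  rw [decomp x, av_add, av_add, av_smul, av_smul, av_ve_of_mem_Pe hgL.1, av_vw_of_mem_Le hgL,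
    av_vf_of_mem_Pf hgL.2, hab]
  obtain ⟨y, hy⟩ := exists_HS hB x.2.1
  have := (key y).2
  rw [hy] at this
  rw [this]
  have hvw : (vw (cb g • x.2.1) : V F m) = cb g • vw x.2.1 := by simp [vw]
  rw [hvw, smul_comm x.1 (cb g), smul_comm x.2.2 (cb g), ← smul_add, ← smul_add]

/-- the centre consists of the scalar elements -/
theorem center_eq_Zs : Subgroup.center ↥(SUm bar m) = Zs bar m := by
  apply le_antisymm _ Zs_le_center
  intro z hz
  rw [Subgroup.mem_center_iff] at hz
  apply mem_Zs_of_fixes hB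
  -- `z` stabilises the point of `e`
  obtain ⟨x₀, hx₀, hc₀⟩ := exists_HS0 (m := m) hB
  have h1 : av z ve = (av z vf).2.2 • (ve : V F m) := by
    have h2 := congrArg (fun g => av g (vf : V F m)) (hz (EG hB.invol x₀))
    simp only [av_mul] at h2
    rw [av_EG_vf, hx₀, av_EG, hx₀] at h2
    have h3 : ((((x₀ : HP bar m).c, (0 : Fin m → F), (1 : F)) : V F m)) =
        (x₀ : HP bar m).c • ve + vf := by simp [ve, vf]
    rw [h3, av_add, av_smul] at h2
    have h4 : (x₀ : HP bar m).c • av z ve = ((x₀ : HP bar m).c * (av z vf).2.2) • (ve : V F m) := by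
      have : (x₀ : HP bar m).c • av z ve + av z vf = ((x₀ : HP bar m).c * (av z vf).2.2) • ve +
          av z vf := by
        rw [← h2]
        ext1
        · simp [ve, add_comm]
        · ext1 <;> simp [ve]
      exact add_right_cancel this
    have := congrArg (fun v => (x₀ : HP bar m).c⁻¹ • v) h4
    simpa [smul_smul, inv_mul_cancel₀ hc₀, ← mul_assoc] using this
  intro u hu0 hu
  obtain ⟨g, a, ha, rfl⟩ := exists_av_ve hB hu0 hu
  refine ⟨(av z vf).2.2, ?_⟩
  rw [av_smul, ← av_mul, ← hz g, av_mul, h1, av_smul, smul_comm]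

end scalars

end

end Cfsg.Agent.Lib.Helper18.PSUMod
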