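/-
helper18: `p`-subgroups of the model group fix a non-zero isotropic vector; the centraliser of `Qe`;
the centre of a Sylow `p`-subgroup fixing `e` is the root group `Te`.
-/
import Mathlib
import Cfsg.Agent.Lib.Helper18.PSUModG

set_option autoImplicit false
set_option linter.unusedSectionVars false

namespace Cfsg.Agent.Lib.Helper18.PSUMod

noncomputable section

variable {F : Type*} [Field F] {m : ℕ}

section card

variable [Finite F]

theorem exists_card_eq_pow : ∃ k, 0 < k ∧ Nat.card F = ringChar F ^ k := by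
  have := Fintype.ofFinite F
  have := ringChar.charP F
  obtain ⟨n, -, hn⟩ := FiniteField.card F (ringChar F)
  exact ⟨n, n.pos, by rw [Nat.card_eq_fintype_card, hn]⟩

theorem exists_card_V_eq_pow : ∃ k, 0 < k ∧ Nat.card (V F m) = ringChar F ^ k := by
  obtain ⟨k, hk, hk'⟩ := exists_card_eq_pow (F := F)
  refine ⟨k * (m + 2), by positivity, ?_⟩
  rw [Nat.card_prod, Nat.card_prod, Nat.card_fun, Nat.card_eq_fintype_card (α := Fin m),
    Fintype.card_fin, hk', pow_mul]
  ring

theorem dvd_card_addSubgroup (S : AddSubgroup (V F m)) (h : ∃ y ∈ S, y ≠ 0) :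
    ringChar F ∣ Nat.card S := by
  have := ringChar.charP F
  have hp : (ringChar F).Prime := CharP.char_is_prime F _
  obtain ⟨k, -, hk⟩ := exists_card_V_eq_pow (F := F) (m := m)
  have h1 : Nat.card S ∣ ringChar F ^ k := by rw [← hk]; exact S.card_addSubgroup_dvd_card
  obtain ⟨j, -, hj⟩ := (Nat.dvd_prime_pow hp).1 h1
  rcases Nat.eq_zero_or_pos j with rfl | hj0
  · exfalso
    rw [pow_zero] at hj
    obtain ⟨y, hy, hy0⟩ := h
    have := (Nat.card_eq_one_iff_unique.1 hj).1
    exact hy0 (congrArg Subtype.val (Subsingleton.elim (⟨y, hy⟩ : S) 0))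
  · rw [hj]
    exact dvd_pow_self _ hj0.ne'

end card

section fixvec

variable {bar : F →+* F} [Finite F] (hB : BarOK bar)
include hB

theorem exists_perp_ne_zero (hm : 1 ≤ m) (x₁ : V F m) : ∃ y : V F m, y ≠ 0 ∧ hV bar y x₁ = 0 := by
  by_cases h : x₁.2.2 = 0
  · exact ⟨ve, by simp [ve], by rw [hV_ve_left, h, map_zero]⟩
  · have hbb : bar x₁.2.2 ≠ 0 := fun h' => h ((map_eq_zero bar).1 h')
    let ε : Fin m → F := Pi.single ⟨0, hm⟩ 1
    refine ⟨(-hW bar ε x₁.2.1 / bar x₁.2.2, ε, 0), ?_, ?_⟩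
    · intro h0
      have := congrFun (congrArg (fun v : V F m => v.2.1) h0) ⟨0, hm⟩
      simp [ε] at this
    · simp only [hV, zero_mul, add_zero]
      field_simp
      ring

/-- a `p`-subgroup fixes a non-zero isotropic vector -/
theorem exists_fixed_isotropic (hm : 1 ≤ m) (P : Subgroup ↥(SUm bar m))
    (hP : IsPGroup (ringChar F) P) :
    ∃ u : V F m, u ≠ 0 ∧ hV bar u u = 0 ∧ ∀ g ∈ P, av g u = u := by
  have := ringChar.charP F
  have : Fact (ringChar F).Prime := ⟨CharP.char_is_prime F _⟩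
  -- a first fixed vector
  obtain ⟨k, hk, hk'⟩ := exists_card_V_eq_pow (F := F) (m := m)
  obtain ⟨x₁, hx₁, hx₁0⟩ := hP.exists_fixed_point_of_prime_dvd_card_of_fixed_point (V F m)
    (by rw [hk']; exact dvd_pow_self _ hk.ne') (a := 0) (fun g => av_zero _)
  have hx₁' : ∀ g ∈ P, av g x₁ = x₁ := fun g hg => hx₁ ⟨g, hg⟩
  by_cases h1 : hV bar x₁ x₁ = 0
  · exact ⟨x₁, fun h => hx₁0 h.symm, h1, hx₁'⟩
  -- a second fixed vector, orthogonal to the first
  let S : SubMulAction ↥P (V F m) :=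
    { carrier := {y | hV bar y x₁ = 0}
      smul_mem' := by
        intro g y hy
        show hV bar (av (g : ↥(SUm bar m)) y) x₁ = 0
        rw [← hx₁' g g.2, hV_av]
        exact hy }
  let S' : AddSubgroup (V F m) :=
    { carrier := {y | hV bar y x₁ = 0}
      add_mem' := by
        intro a b ha hb
        show hV bar (a + b) x₁ = 0
        rw [hV_add_left, ha, hb, add_zero]
      zero_mem' := hV_zero_left bar x₁
      neg_mem' := by
        intro a ha
        show hV bar (-a) x₁ = 0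
        rw [hV_neg_left, ha, neg_zero] }
  have hcard : ringChar F ∣ Nat.card ↥S := by
    have h2 : Nat.card ↥S = Nat.card ↥S' := Nat.card_congr (Equiv.refl _)
    rw [h2]
    obtain ⟨y, hy0, hy⟩ := exists_perp_ne_zero hB hm x₁
    exact dvd_card_addSubgroup S' ⟨y, hy, hy0⟩
  obtain ⟨x₂, hx₂, hx₂0⟩ := hP.exists_fixed_point_of_prime_dvd_card_of_fixed_point ↥S hcard
    (a := ⟨0, hV_zero_left bar x₁⟩) (fun g => Subtype.ext (av_zero _))
  have hx₂' : ∀ g ∈ P, av g (x₂ : V F m) = x₂ := fun g hg =>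
    congrArg Subtype.val (hx₂ ⟨g, hg⟩)
  have h21 : hV bar (x₂ : V F m) x₁ = 0 := x₂.2
  have h12 : hV bar x₁ (x₂ : V F m) = 0 := by rw [← hV_conj hB.invol, h21, map_zero]
  have hx₂ne : (x₂ : V F m) ≠ 0 := by
    intro h
    apply hx₂0
    apply Subtype.ext
    exact h.symm
  by_cases h2 : hV bar (x₂ : V F m) x₂ = 0
  · exact ⟨x₂, hx₂ne, h2, hx₂'⟩
  -- combine
  obtain ⟨a, ha⟩ := hB.nm (-(hV bar (x₂ : V F m) x₂) / hV bar x₁ x₁)
    (div_ne_zero (neg_ne_zero.2 h2) h1)
    (by rw [map_div₀, map_neg, bar_hV_self hB.invol, bar_hV_self hB.invol])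
  refine ⟨a • x₁ + x₂, ?_, ?_, ?_⟩
  · intro h
    have h3 := congrArg (fun v => hV bar v x₁) h
    simp only [hV_add_left, hV_smul_left, h21, add_zero, hV_zero_left] at h3
    rcases mul_eq_zero.1 h3 with h4 | h4
    · rw [h4, zero_smul, zero_add] at h
      exact hx₂ne h
    · exact h1 h4
  · rw [hV_add_left, hV_add_right, hV_add_right, hV_smul_left, hV_smul_left, hV_smul_right,
      hV_smul_right, h21, h12]
    field_simp at ha
    linear_combination ha
  · intro g hg
    rw [av_add, av_smul, hx₁' g hg, hx₂' g hg]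

end fixvec

end

end Cfsg.Agent.Lib.Helper18.PSUMod
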