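/-
helper18: the centraliser of `Qe` in the model group is `Te Zs`; the centre of a Sylow `p`-subgroup
fixing `e` is `Te`.
-/
import Mathlib
import Cfsg.Agent.Lib.Helper18.PSUModH

set_option autoImplicit false
set_option linter.unusedSectionVars false

namespace Cfsg.Agent.Lib.Helper18.PSUMod

noncomputable section

variable {F : Type*} [Field F] {m : ℕ}

section cent

variable {bar : F →+* F} [Finite F] (hB : BarOK bar)

theorem conj_HP_w (x y : HP bar m) : (x * y * x⁻¹).w = y.w := by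
  simp

theorem conj_HP_c (x y : HP bar m) :
    (x * y * x⁻¹).c = y.c + hW bar x.w y.w - hW bar y.w x.w := by
  simp only [HP.mul_c, HP.mul_w, HP.inv_c, HP.inv_w, hW_neg_left, hW_add_right]
  ring

include hB

/-- the vectors fixed by `Qe` are the multiples of `e` -/
theorem fixed_Qe (hm : 1 ≤ m) {v : V F m} (hv : ∀ x : ↥(HS bar hB.invol m), av (EG hB.invol x) v = v) :
    v = v.1 • ve := by
  have h1 : v.2.2 = 0 := by
    obtain ⟨x, hx⟩ := exists_HS (m := m) hB (Pi.single ⟨0, hm⟩ 1)
    have h := congrFun (congrArg (fun u : V F m => u.2.1) (hv x)) ⟨0, hm⟩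
    rw [av_EG, hx] at h
    simpa using h
  have h2 : v.2.1 = 0 := by
    apply eq_zero_of_hW_right bar
    intro w'
    obtain ⟨x, hx⟩ := exists_HS (m := m) hB w'
    have h := congrArg (fun u : V F m => u.1) (hv x)
    rw [av_EG, hx, h1] at h
    simpa using h
  obtain ⟨a, w, b⟩ := v
  simp only at h1 h2
  rw [h1, h2]
  simp [ve]

/-- the centraliser of `Qe` -/
theorem centralizer_Qe (hm : 1 ≤ m) {z : ↥(SUm bar m)}
    (hz : ∀ y ∈ Qe hB.invol m, z * y = y * z) :
    ∃ t ∈ Te hB.invol m, ∃ s ∈ Zs bar m, z = t * s := by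
  -- `z` stabilises the point of `e`
  have h1 : av z ve = (av z ve).1 • (ve : V F m) := by
    apply fixed_Qe hB hm
    intro x
    rw [← av_mul, ← hz _ ⟨x, rfl⟩, av_mul, av_EG_ve]
  have hzP : z ∈ Pe bar m := ⟨_, h1⟩
  obtain ⟨x₀, l, hl, rfl⟩ := Pe_decomp hB.invol hzP
  -- the conjugation relation in `HP`
  have key : ∀ y : ↥(HS bar hB.invol m),
      (x₀ : HP bar m) * actL l (y : HP bar m) * (x₀ : HP bar m)⁻¹ = (y : HP bar m) := by
    intro y
    have h2 := hz _ ⟨y, rfl⟩
    have h3 : EG hB.invol x₀ * (l * EG hB.invol y * l⁻¹) * (EG hB.invol x₀)⁻¹ = EG hB.invol y := by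
      have : EG hB.invol x₀ * (l * EG hB.invol y * l⁻¹) * (EG hB.invol x₀)⁻¹ =
          (EG hB.invol x₀ * l * EG hB.invol y) * (EG hB.invol x₀ * l)⁻¹ := by group
      rw [this, h2]; group
    rw [Le_conj hB.invol hl, ← map_inv, ← map_mul, ← map_mul] at h3
    have h4 := congrArg (fun u : ↥(HS bar hB.invol m) => (u : HP bar m)) (EG_injective hB.invol h3)
    simpa using h4
  have keyw : ∀ w : Fin m → F, (cb l)⁻¹ • Bof (l : V F m ≃ₗ[F] V F m) w = w := by
    intro w
    obtain ⟨y, hy⟩ := exists_HS (m := m) hB w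
    have := congrArg HP.w (key y)
    rw [conj_HP_w] at this
    simpa [actL, hy] using this
  have keyc : ∀ y : ↥(HS bar hB.invol m),
      ca l * (cb l)⁻¹ * (y : HP bar m).c + hW bar (x₀ : HP bar m).w (y : HP bar m).w -
        hW bar (y : HP bar m).w (x₀ : HP bar m).w = (y : HP bar m).c := by
    intro y
    have := congrArg HP.c (key y)
    rw [conj_HP_c] at this
    have hw : (actL l (y : HP bar m)).w = (y : HP bar m).w := keyw _
    rw [hw] at this
    simpa [actL] using this
  obtain ⟨y₀, hy₀, hc₀⟩ := exists_HS0 (m := m) hB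
  have hab : ca l * (cb l)⁻¹ = 1 := by
    have := keyc y₀
    rw [hy₀] at this
    simp only [hW_zero_right, hW_zero_left, add_zero, sub_zero] at this
    exact mul_right_cancel₀ hc₀ (by rw [this, one_mul])
  have hsym : ∀ w : Fin m → F, hW bar (x₀ : HP bar m).w w = hW bar w (x₀ : HP bar m).w := by
    intro w
    obtain ⟨y, hy⟩ := exists_HS (m := m) hB w
    have := keyc y
    rw [hab, one_mul, hy] at this
    linear_combination this
  have hx₀w : (x₀ : HP bar m).w = 0 := by
    apply eq_zero_of_hW_right bar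
    intro w
    obtain ⟨θ, hθ⟩ := hB.nt
    have h5 := hsym (θ • w)
    rw [hW_smul_right, hW_smul_left, ← hsym w] at h5
    have h6 : (bar θ - θ) * hW bar (x₀ : HP bar m).w w = 0 := by linear_combination h5
    rcases mul_eq_zero.1 h6 with h7 | h7
    · exact absurd (sub_eq_zero.1 h7) hθ
    · exact h7
  have hb0 := cb_ne_zero hl.1
  have hcab : ca l = cb l := by
    have := hab
    field_simp at this
    exact this
  refine ⟨EG hB.invol x₀, (mem_Te hB.invol).2 ⟨x₀, hx₀w, rfl⟩, l, ⟨cb l, fun x => ?_⟩, rfl⟩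
  rw [decomp x, av_add, av_add, av_smul, av_smul, av_ve_of_mem_Pe hl.1, av_vw_of_mem_Le hl,
    av_vf_of_mem_Pf hl.2, hcab]
  have h8 : Bof (l : V F m ≃ₗ[F] V F m) x.2.1 = cb l • x.2.1 := by
    have := keyw x.2.1
    rw [inv_smul_eq_iff₀ hb0] at this
    exact this
  rw [h8]
  have hvw : (vw (cb l • x.2.1) : V F m) = cb l • vw x.2.1 := by simp [vw]
  rw [hvw, smul_comm x.1 (cb l), smul_comm x.2.2 (cb l), ← smul_add, ← smul_add]

end cent

section sylow

variable {bar : F →+* F} [Finite F] (hB : BarOK bar)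
include hB

/-- a Sylow `p`-subgroup fixing the vector `e` contains `Qe` -/
theorem Qe_le_of_fix [Fact (ringChar F).Prime] (P : Sylow (ringChar F) ↥(SUm bar m))
    (hP : ∀ g ∈ P, av g ve = ve) : Qe hB.invol m ≤ P := by
  have h1 : (P : Subgroup ↥(SUm bar m)) ≤
      Subgroup.normalizer ((Qe hB.invol m : Subgroup ↥(SUm bar m)) : Set ↥(SUm bar m)) := by
    intro g hg
    rw [Subgroup.mem_normalizer_iff]
    have hgP : g ∈ Pe bar m := ⟨1, by rw [hP g hg, one_smul]⟩
    intro y
    constructor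
    · exact Pe_normalizes_Qe hB.invol hgP
    · intro hy
      have := Pe_normalizes_Qe hB.invol ((Pe bar m).inv_mem hgP) hy
      convert this using 1
      group
  have h2 := IsPGroup.to_sup_of_normal_right' P.2 (isPGroup_Qe hB.invol (m := m)) h1
  have h3 := P.is_maximal' h2 le_sup_left
  rw [← h3]
  exact le_sup_right

/-- the centre of a Sylow `p`-subgroup fixing the vector `e` is `Te` -/
theorem center_sylow_of_fix [Fact (ringChar F).Prime] (hm : 1 ≤ m)
    (P : Sylow (ringChar F) ↥(SUm bar m)) (hP : ∀ g ∈ P, av g ve = ve) (z : ↥(SUm bar m)) :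
    (z ∈ P ∧ ∀ y ∈ P, z * y = y * z) ↔ z ∈ Te hB.invol m := by
  have hQ := Qe_le_of_fix hB P hP
  constructor
  · rintro ⟨hzP, hz⟩
    obtain ⟨t, ht, s, hs, rfl⟩ := centralizer_Qe hB hm (fun y hy => hz y (hQ hy))
    have htP : t ∈ (P : Subgroup ↥(SUm bar m)) := hQ (Te_le_Qe hB.invol ht)
    have hsP : s ∈ (P : Subgroup ↥(SUm bar m)) := by
      have := (P : Subgroup ↥(SUm bar m)).mul_mem ((P : Subgroup ↥(SUm bar m)).inv_mem htP) hzP
      rwa [inv_mul_cancel_left] at this
    obtain ⟨k, hk⟩ := P.2 ⟨s, hsP⟩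
    have hk' : s ^ (ringChar F ^ k) = 1 := by
      have := congrArg Subtype.val hk
      simpa using this
    rw [eq_one_of_mem_Zs_of_pow hs hk', mul_one]
    exact ht
  · intro hz
    refine ⟨hQ (Te_le_Qe hB.invol hz), fun y hy => ?_⟩
    exact (comm_Te_of_fix hB.invol (hP y hy) hz).symm

end sylow

end

end Cfsg.Agent.Lib.Helper18.PSUMod
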