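/-
helper18: explicit elements of the Levi complement `Le` of the model group: monomial maps on the
middle part.
-/
import Mathlib
import Cfsg.Agent.Lib.Helper18.PSUModI

set_option autoImplicit false
set_option linter.unusedSectionVars false

namespace Cfsg.Agent.Lib.Helper18.PSUMod

noncomputable section

variable {F : Type*} [Field F] {m : ℕ}

section mono

/-- the monomial matrix -/
def monoM (σ : Equiv.Perm (Fin m)) (μ : Fin m → F) : Matrix (Fin m) (Fin m) F :=
  σ.toPEquiv.toMatrix * Matrix.diagonal μ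

theorem monoM_mulVec (σ : Equiv.Perm (Fin m)) (μ : Fin m → F) (w : Fin m → F) (i : Fin m) :
    (monoM σ μ).mulVec w i = μ (σ i) * w (σ i) := by
  unfold monoM
  rw [← Matrix.mulVec_mulVec, PEquiv.toMatrix_toPEquiv_mulVec, Function.comp_apply,
    Matrix.mulVec_diagonal]

theorem det_monoM (σ : Equiv.Perm (Fin m)) (μ : Fin m → F) :
    (monoM σ μ).det = (Equiv.Perm.sign σ : ℤ) * ∏ i, μ i := by
  unfold monoM
  rw [Matrix.det_mul, Matrix.det_permutation, Matrix.det_diagonal]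

/-- the monomial map `w ↦ (i ↦ μ (σ i) * w (σ i))` -/
def monoB (σ : Equiv.Perm (Fin m)) (μ : Fin m → Fˣ) : (Fin m → F) ≃ₗ[F] (Fin m → F) where
  toFun w i := (μ (σ i) : F) * w (σ i)
  map_add' w w' := by funext i; simp [mul_add]
  map_smul' a w := by funext i; simp; ring
  invFun w i := ((μ i)⁻¹ : Fˣ) * w (σ.symm i)
  left_inv w := by funext i; simp
  right_inv w := by funext i; simp

theorem monoB_apply (σ : Equiv.Perm (Fin m)) (μ : Fin m → Fˣ) (w : Fin m → F) (i : Fin m) :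
    monoB σ μ w i = (μ (σ i) : F) * w (σ i) := rfl

theorem det_monoB (σ : Equiv.Perm (Fin m)) (μ : Fin m → Fˣ) :
    ((LinearEquiv.det (monoB σ μ) : Fˣ) : F) = (Equiv.Perm.sign σ : ℤ) * ∏ i, (μ i : F) := by
  rw [LinearEquiv.coe_det]
  have : ((monoB σ μ : (Fin m → F) ≃ₗ[F] (Fin m → F)) : (Fin m → F) →ₗ[F] (Fin m → F)) =
      Matrix.toLin' (monoM σ fun i => (μ i : F)) := by
    apply LinearMap.ext
    intro w
    funext i
    rw [Matrix.toLin'_apply, monoM_mulVec]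
    rfl
  rw [this, LinearMap.det_toLin', det_monoM]

theorem hW_monoB {bar : F →+* F} (σ : Equiv.Perm (Fin m)) (μ : Fin m → Fˣ)
    (hμ : ∀ i, (μ i : F) * bar (μ i : F) = 1) (w w' : Fin m → F) :
    hW bar (monoB σ μ w) (monoB σ μ w') = hW bar w w' := by
  unfold hW
  rw [← Equiv.sum_comp σ (fun i => w i * bar (w' i))]
  apply Finset.sum_congr rfl
  intro i _
  rw [monoB_apply, monoB_apply, map_mul]
  linear_combination (w (σ i) * bar (w' (σ i))) * hμ (σ i)

end mono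

section levi

variable {bar : F →+* F} [Finite F] (hb : ∀ x, bar (bar x) = x)

/-- the diagonal-monomial elements of the model group -/
def dLevi (a : Fˣ) (σ : Equiv.Perm (Fin m)) (μ : Fin m → Fˣ)
    (hμ : ∀ i, (μ i : F) * bar (μ i : F) = 1)
    (hdet : (a : F) * ((Equiv.Perm.sign σ : ℤ) * ∏ i, (μ i : F)) = bar (a : F)) : ↥(SUm bar m) :=
  ⟨dmap a (monoB σ μ) (Units.map (bar : F →* F) a)⁻¹, by
    have hba : bar (a : F) ≠ 0 := fun h => a.ne_zero ((map_eq_zero bar).1 h)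
    rw [mem_SUm]
    refine ⟨dmap_mem_GUm hb ?_ (hW_monoB σ μ hμ), ?_⟩
    · rw [Units.val_inv_eq_inv_val, map_inv₀, Units.coe_map, MonoidHom.coe_coe, hb,
        mul_inv_cancel₀ a.ne_zero]
    · rw [det_dmap]
      apply Units.ext
      rw [Units.val_mul, Units.val_mul, det_monoB, Units.val_inv_eq_inv_val, Units.coe_map,
        MonoidHom.coe_coe, hdet, Units.val_one, mul_inv_cancel₀ hba]⟩

variable (a : Fˣ) (σ : Equiv.Perm (Fin m)) (μ : Fin m → Fˣ)
    (hμ : ∀ i, (μ i : F) * bar (μ i : F) = 1)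
    (hdet : (a : F) * ((Equiv.Perm.sign σ : ℤ) * ∏ i, (μ i : F)) = bar (a : F))

theorem av_dLevi (x : V F m) :
    av (dLevi hb a σ μ hμ hdet) x = ((a : F) * x.1, monoB σ μ x.2.1, (bar (a : F))⁻¹ * x.2.2) := by
  show dmap a (monoB σ μ) (Units.map (bar : F →* F) a)⁻¹ x = _
  rw [dmap_apply, Units.val_inv_eq_inv_val, Units.coe_map, MonoidHom.coe_coe]

theorem dLevi_mem_Le : dLevi hb a σ μ hμ hdet ∈ Le bar m := by
  refine ⟨⟨(a : F), ?_⟩, ⟨(bar (a : F))⁻¹, ?_⟩⟩
  · rw [av_dLevi]; simp [ve]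
  · rw [av_dLevi]; simp [vf]

theorem ca_dLevi : ca (dLevi hb a σ μ hμ hdet) = a := by
  rw [ca, av_dLevi]; simp [ve]

theorem cb_dLevi : cb (dLevi hb a σ μ hμ hdet) = (bar (a : F))⁻¹ := by
  rw [cb, av_dLevi]; simp [vf]

theorem Bof_dLevi (w : Fin m → F) :
    Bof ((dLevi hb a σ μ hμ hdet : ↥(SUm bar m)) : V F m ≃ₗ[F] V F m) w = monoB σ μ w := by
  rw [Bof_apply]
  have : ((dLevi hb a σ μ hμ hdet : ↥(SUm bar m)) : V F m ≃ₗ[F] V F m) (vw w) =
      av (dLevi hb a σ μ hμ hdet) (vw w) := rfl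
  rw [this, av_dLevi]
  simp [vw]

/-- the action of a diagonal-monomial element on the pairs -/
theorem actL_dLevi (x : HP bar m) :
    actL (dLevi hb a σ μ hμ hdet) x =
      ⟨bar (a : F) • monoB σ μ x.w, (a : F) * bar (a : F) * x.c⟩ := by
  unfold actL
  rw [ca_dLevi, cb_dLevi, inv_inv]
  ext1
  · simp only [Bof_dLevi]
  · rfl

end levi

end

end Cfsg.Agent.Lib.Helper18.PSUMod
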