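/-
helper18: the additive endomorphisms of the middle part commuting with the action of the Levi
complement are the scalars.
-/
import Mathlib
import Cfsg.Agent.Lib.Helper18.PSUModJ

set_option autoImplicit false
set_option linter.unusedSectionVars false

namespace Cfsg.Agent.Lib.Helper18.PSUMod

noncomputable section

variable {F : Type*} [Field F] {m : ℕ}

section fld

variable {bar : F →+* F} (hB : BarOK bar)
include hB

/-- an element whose square is not fixed -/
theorem exists_sq_not_fixed : ∃ l : F, bar l ^ 2 ≠ l ^ 2 := by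
  obtain ⟨θ, hθ⟩ := hB.nt
  by_contra hcon
  push Not at hcon
  have h1 := hcon θ
  have h2 := hcon (1 + θ)
  rw [map_add, map_one] at h2
  have h3 : (bar θ - θ) * (bar θ + θ) = 0 := by linear_combination h1
  have h4 : bar θ + θ = 0 := by
    rcases mul_eq_zero.1 h3 with h | h
    · exact absurd (sub_eq_zero.1 h) hθ
    · exact h
  have h5 : (bar θ - θ) * 2 = 0 := by linear_combination h2 - h1
  have h6 : (2 : F) = 0 := by
    rcases mul_eq_zero.1 h5 with h | h
    · exact absurd (sub_eq_zero.1 h) hθ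
    · exact h
  apply hθ
  linear_combination h4 - θ * h6

/-- decomposition over the fixed field -/
theorem exists_decomp_fixed {s : F} (hs : bar s ≠ s) (l : F) :
    ∃ r₁ r₂ : F, bar r₁ = r₁ ∧ bar r₂ = r₂ ∧ l = r₁ + r₂ * s := by
  have hs' : s - bar s ≠ 0 := sub_ne_zero.2 (Ne.symm hs)
  have hs'' : bar s - s ≠ 0 := sub_ne_zero.2 hs
  have hr₂ : bar ((l - bar l) / (s - bar s)) = (l - bar l) / (s - bar s) := by
    rw [map_div₀, map_sub, map_sub, hB.invol, hB.invol]
    field_simp
    ring
  refine ⟨l - (l - bar l) / (s - bar s) * s, (l - bar l) / (s - bar s), ?_, hr₂, by ring⟩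
  rw [map_sub, map_mul, hr₂]
  field_simp
  ring

end fld

section commutant

variable {bar : F →+* F} [Finite F] (hB : BarOK bar)

/-- the action of the Levi complement on the middle part -/
def actW (l : ↥(SUm bar m)) (w : Fin m → F) : Fin m → F :=
  (cb l)⁻¹ • Bof (l : V F m ≃ₗ[F] V F m) w

theorem actL_w (l : ↥(SUm bar m)) (x : HP bar m) : (actL l x).w = actW l x.w := rfl

theorem actW_smul (l : ↥(SUm bar m)) (a : F) (w : Fin m → F) : actW l (a • w) = a • actW l w := by
  unfold actW
  rw [map_smul, smul_comm]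

theorem actW_add (l : ↥(SUm bar m)) (w w' : Fin m → F) :
    actW l (w + w') = actW l w + actW l w' := by
  unfold actW
  rw [map_add, smul_add]

theorem actW_dLevi (a : Fˣ) (σ : Equiv.Perm (Fin m)) (μ : Fin m → Fˣ)
    (hμ : ∀ i, (μ i : F) * bar (μ i : F) = 1)
    (hdet : (a : F) * ((Equiv.Perm.sign σ : ℤ) * ∏ i, (μ i : F)) = bar (a : F))
    (w : Fin m → F) :
    actW (dLevi hB.invol a σ μ hμ hdet) w = bar (a : F) • monoB σ μ w := by
  unfold actW
  rw [cb_dLevi, inv_inv, Bof_dLevi]

include hB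

/-- scalar elements of `Le` for fixed scalars -/
theorem exists_Le_fixed {r : F} (hr0 : r ≠ 0) (hr : bar r = r) :
    ∃ l ∈ Le bar m, ∀ w, actW l w = r • w := by
  refine ⟨dLevi hB.invol (Units.mk0 r hr0) 1 (fun _ => 1) (by simp) (by simp [hr]),
    dLevi_mem_Le _ _ _ _ _ _, fun w => ?_⟩
  rw [actW_dLevi hB]
  simp only [Units.val_mk0, hr]
  congr 1
  funext i
  simp [monoB_apply]

/-- the diagonal elements `g_k` -/
theorem exists_Le_diag {l : F} (hl0 : l ≠ 0) (k : Fin m) :
    ∃ g ∈ Le bar m, ∀ w : Fin m → F, ∀ i,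
      actW g w i = if i = k then (bar l ^ 2 / l) * w i else bar l * w i := by
  have hbl : bar l ≠ 0 := fun h => hl0 ((map_eq_zero bar).1 h)
  let μ : Fin m → Fˣ := fun i => if i = k then Units.mk0 (bar l / l) (div_ne_zero hbl hl0) else 1
  have hμ : ∀ i, (μ i : F) * bar (μ i : F) = 1 := by
    intro i
    by_cases hi : i = k
    · simp only [μ, hi, if_true, Units.val_mk0, map_div₀, hB.invol]
      field_simp
    · simp [μ, hi]
  have hprod : ∏ i, (μ i : F) = bar l / l := by
    rw [Finset.prod_eq_single k]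
    · simp [μ]
    · intro j _ hj; simp [μ, hj]
    · intro h; exact absurd (Finset.mem_univ k) h
  refine ⟨dLevi hB.invol (Units.mk0 l hl0) 1 μ hμ (by
    rw [hprod]; simp only [Units.val_mk0, Equiv.Perm.sign_one, Units.val_one, Int.cast_one,
      one_mul]; field_simp), dLevi_mem_Le _ _ _ _ _ _, fun w i => ?_⟩
  rw [actW_dLevi hB, Pi.smul_apply, monoB_apply, smul_eq_mul]
  by_cases hi : i = k
  · simp only [μ, hi, if_true, Units.val_mk0, Equiv.Perm.coe_one, id_eq]
    field_simp
  · simp [μ, hi]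

/-- the signed swaps -/
theorem exists_Le_swap {k j : Fin m} (hkj : k ≠ j) :
    ∃ g ∈ Le bar m, ∀ w : Fin m → F, actW g w k = w j ∧ actW g w j = -w k ∧
      ∀ i, i ≠ k → i ≠ j → actW g w i = w i := by
  let μ : Fin m → Fˣ := fun i => if i = k then -1 else 1
  have hμ : ∀ i, (μ i : F) * bar (μ i : F) = 1 := by
    intro i
    by_cases hi : i = k
    · simp [μ, hi]
    · simp [μ, hi]
  have hprod : ∏ i, (μ i : F) = -1 := by
    rw [Finset.prod_eq_single k]
    · simp [μ]
    · intro i _ hi; simp [μ, hi]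
    · intro h; exact absurd (Finset.mem_univ k) h
  refine ⟨dLevi hB.invol 1 (Equiv.swap k j) μ hμ (by
    rw [hprod, Equiv.Perm.sign_swap hkj]; simp), dLevi_mem_Le _ _ _ _ _ _, fun w => ?_⟩
  rw [actW_dLevi hB]
  simp only [Units.val_one, map_one, one_smul, monoB_apply, Equiv.swap_apply_left,
    Equiv.swap_apply_right]
  refine ⟨?_, ?_, ?_⟩
  · simp [μ, hkj.symm]
  · simp [μ]
  · intro i hik hij
    rw [Equiv.swap_apply_of_ne_of_ne hik hij]
    simp [μ, hik]

end commutant

end

end Cfsg.Agent.Lib.Helper18.PSUMod
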