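/-
helper18: the commutant of the Levi action on the middle part consists of scalars.
-/
import Mathlib
import Cfsg.Agent.Lib.Helper18.PSUModK

set_option autoImplicit false
set_option linter.unusedSectionVars false

namespace Cfsg.Agent.Lib.Helper18.PSUMod

noncomputable section

variable {F : Type*} [Field F] {m : ℕ}

section commutant

variable {bar : F →+* F} [Finite F] (hB : BarOK bar)
include hB

theorem single_eq_smul (j : Fin m) (c : F) :
    (Pi.single j c : Fin m → F) = c • Pi.single j (1 : F) := by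
  funext i
  by_cases h : i = j
  · subst h; simp
  · simp [Pi.single_eq_of_ne h]

/-- linearity over the fixed field -/
theorem commutant_fixed_linear (X : (Fin m → F) →+ (Fin m → F))
    (hX : ∀ l ∈ Le bar m, ∀ w, X (actW l w) = actW l (X w)) {r : F} (hr : bar r = r)
    (w : Fin m → F) : X (r • w) = r • X w := by
  by_cases hr0 : r = 0
  · rw [hr0, zero_smul, zero_smul, map_zero]
  · obtain ⟨l, hl, hlw⟩ := exists_Le_fixed (m := m) hB hr0 hr
    rw [← hlw, hX l hl, hlw]

/-- the local analysis at one coordinate -/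
theorem commutant_coord (X : (Fin m → F) →+ (Fin m → F))
    (hX : ∀ l ∈ Le bar m, ∀ w, X (actW l w) = actW l (X w)) (k : Fin m) :
    (∀ w : Fin m → F, w k = 0 → X w k = 0) ∧
    (∀ (c : F) (i : Fin m), i ≠ k → X (Pi.single k c) i = 0) ∧
    (∀ (w : Fin m → F), w k = 0 → ∀ a : F, X (a • w) = a • X w) := by
  obtain ⟨l₀, hl₀⟩ := exists_sq_not_fixed hB
  have hl0 : l₀ ≠ 0 := by
    rintro rfl
    simp at hl₀
  have hbl : bar l₀ ≠ 0 := fun h => hl0 ((map_eq_zero bar).1 h)
  have hne : bar l₀ ≠ l₀ := fun h => hl₀ (by rw [h])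
  obtain ⟨g, hg, hgw⟩ := exists_Le_diag (m := m) hB hl0 k
  have hT : bar (l₀ + bar l₀) = l₀ + bar l₀ := by rw [map_add, hB.invol, add_comm]
  have hN : bar (l₀ * bar l₀) = l₀ * bar l₀ := by rw [map_mul, hB.invol, mul_comm]
  -- the operator `Y`
  let κ : F := (bar l₀ ^ 2 / l₀ - bar l₀) * (bar l₀ ^ 2 / l₀ - l₀)
  have hκ : κ ≠ 0 := by
    apply mul_ne_zero
    · have : bar l₀ ^ 2 / l₀ - bar l₀ = bar l₀ * (bar l₀ - l₀) / l₀ := by field_simp
      rw [this]
      exact div_ne_zero (mul_ne_zero hbl (sub_ne_zero.2 hne)) hl0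
    · have : bar l₀ ^ 2 / l₀ - l₀ = (bar l₀ ^ 2 - l₀ ^ 2) / l₀ := by field_simp
      rw [this]
      exact div_ne_zero (sub_ne_zero.2 hl₀) hl0
  have hY : ∀ w : Fin m → F,
      actW g (actW g w) - (l₀ + bar l₀) • actW g w + (l₀ * bar l₀) • w = Pi.single k (κ * w k) := by
    intro w
    funext i
    simp only [Pi.add_apply, Pi.sub_apply, Pi.smul_apply, smul_eq_mul, hgw]
    by_cases hi : i = k
    · subst hi
      simp only [if_true, Pi.single_eq_same, κ]
      ring
    · simp only [hi, if_false, Pi.single_eq_of_ne hi]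
      ring
  have hXY : ∀ w : Fin m → F, X (Pi.single k (κ * w k)) = Pi.single k (κ * X w k) := by
    intro w
    rw [← hY, ← hY, map_add, map_sub, hX g hg, hX g hg, commutant_fixed_linear hB X hX hT,
      commutant_fixed_linear hB X hX hN, hX g hg]
  have h1 : ∀ w : Fin m → F, w k = 0 → X w k = 0 := by
    intro w hw
    have h := congrFun (hXY w) k
    rw [hw, mul_zero, Pi.single_zero, map_zero, Pi.zero_apply, Pi.single_eq_same] at h
    rcases mul_eq_zero.1 h.symm with h' | h'
    · exact absurd h' hκ
    · exact h'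
  refine ⟨h1, ?_, ?_⟩
  · intro c i hi
    have h := congrFun (hXY (Pi.single k (c / κ))) i
    rw [Pi.single_eq_same, mul_div_cancel₀ _ hκ, Pi.single_eq_of_ne hi] at h
    exact h
  · intro w hw a
    have hs : X (bar l₀ • w) = bar l₀ • X w := by
      have e1 : actW g w = bar l₀ • w := by
        funext i
        rw [hgw, Pi.smul_apply, smul_eq_mul]
        by_cases hi : i = k
        · subst hi; simp [hw]
        · simp [hi]
      have e2 : actW g (X w) = bar l₀ • X w := by
        funext i
        rw [hgw, Pi.smul_apply, smul_eq_mul]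
        by_cases hi : i = k
        · subst hi; simp [h1 w hw]
        · simp [hi]
      rw [← e1, hX g hg, e2]
    have hne' : bar (bar l₀) ≠ bar l₀ := by rw [hB.invol]; exact hne.symm
    obtain ⟨r₁, r₂, hr₁, hr₂, ha⟩ := exists_decomp_fixed hB hne' a
    rw [ha, add_smul, add_smul, map_add, mul_smul, mul_smul,
      commutant_fixed_linear hB X hX hr₁, commutant_fixed_linear hB X hX hr₂, hs]

/-- the commutant of the Levi action consists of scalars -/
theorem commutant_scalar (hm : 1 ≤ m) (h3 : m = 1 → ∃ l : F, bar l ^ 3 ≠ l ^ 3)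
    (X : (Fin m → F) →+ (Fin m → F))
    (hX : ∀ l ∈ Le bar m, ∀ w, X (actW l w) = actW l (X w)) : ∃ ξ : F, ∀ w, X w = ξ • w := by
  -- `X` is linear
  have hlin : ∀ (a : F) (w : Fin m → F), X (a • w) = a • X w := by
    rcases Nat.lt_or_ge 1 m with hm2 | hm1
    · -- at least two coordinates
      intro a w
      have hw : w = ∑ j, Pi.single j (w j) := by
        funext i
        rw [Finset.sum_apply, Finset.sum_eq_single i]
        · simp
        · intro j _ hj; exact Pi.single_eq_of_ne hj.symm _
        · intro h; exact absurd (Finset.mem_univ i) h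
      have key : ∀ j : Fin m, ∀ c : F, X (a • Pi.single j c) = a • X (Pi.single j c) := by
        intro j c
        obtain ⟨k, hk⟩ : ∃ k : Fin m, k ≠ j := by
          by_cases h0 : j = ⟨0, by omega⟩
          · exact ⟨⟨1, hm2⟩, by rw [h0]; simp [Fin.ext_iff]⟩
          · exact ⟨⟨0, by omega⟩, fun h => h0 h.symm⟩
        exact (commutant_coord hB X hX k).2.2 _ (Pi.single_eq_of_ne hk c) a
      rw [hw, Finset.smul_sum, map_sum, map_sum, Finset.smul_sum]
      exact Finset.sum_congr rfl fun j _ => key j _
    · -- one coordinate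
      have hm' : m = 1 := le_antisymm hm1 hm
      obtain ⟨l, hl⟩ := h3 hm'
      have hl0 : l ≠ 0 := by
        rintro rfl
        simp at hl
      have hbl : bar l ≠ 0 := fun h => hl0 ((map_eq_zero bar).1 h)
      subst hm'
      obtain ⟨g, hg, hgw⟩ := exists_Le_diag (m := 1) hB hl0 0
      have e1 : ∀ w : Fin 1 → F, actW g w = (bar l ^ 2 / l) • w := by
        intro w
        funext i
        rw [hgw, Pi.smul_apply, smul_eq_mul, if_pos (Subsingleton.elim i 0)]
      have hs : bar (bar l ^ 2 / l) ≠ bar l ^ 2 / l := by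
        rw [map_div₀, map_pow, hB.invol]
        intro h
        apply hl
        field_simp at h
        linear_combination -h
      intro a w
      obtain ⟨r₁, r₂, hr₁, hr₂, ha⟩ := exists_decomp_fixed hB hs a
      have hsw : ∀ w : Fin 1 → F, X ((bar l ^ 2 / l) • w) = (bar l ^ 2 / l) • X w := by
        intro w
        rw [← e1, hX g hg, e1]
      rw [ha, add_smul, add_smul, map_add, mul_smul, mul_smul,
        commutant_fixed_linear hB X hX hr₁, commutant_fixed_linear hB X hX hr₂, hsw]
  -- `X` is diagonal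
  have hdiag : ∀ j : Fin m, X (Pi.single j 1) = (X (Pi.single j 1) j) • Pi.single j (1 : F) := by
    intro j
    funext i
    by_cases hi : i = j
    · subst hi; simp
    · rw [(commutant_coord hB X hX j).2.1 1 i hi, Pi.smul_apply, Pi.single_eq_of_ne hi,
        smul_zero]
  -- the diagonal entries are equal
  have heq : ∀ k j : Fin m, X (Pi.single k 1) k = X (Pi.single j 1) j := by
    intro k j
    by_cases hkj : k = j
    · rw [hkj]
    obtain ⟨g, hg, hgw⟩ := exists_Le_swap (m := m) hB hkj
    have e1 : actW g (Pi.single j (1 : F)) = Pi.single k 1 := by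
      funext i
      by_cases hik : i = k
      · subst hik
        rw [(hgw _).1, Pi.single_eq_same, Pi.single_eq_same]
      · by_cases hij : i = j
        · subst hij
          rw [(hgw _).2.1, Pi.single_eq_of_ne hkj, neg_zero, Pi.single_eq_of_ne hik]
        · rw [(hgw _).2.2 i hik hij, Pi.single_eq_of_ne hij, Pi.single_eq_of_ne hik]
    have h := congrFun (hX g hg (Pi.single j 1)) k
    rw [e1, (hgw _).1] at h
    exact h
  obtain ⟨j₀⟩ : Nonempty (Fin m) := ⟨⟨0, hm⟩⟩
  refine ⟨X (Pi.single j₀ 1) j₀, fun w => ?_⟩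
  have hw : w = ∑ j, w j • Pi.single j (1 : F) := by
    funext i
    rw [Finset.sum_apply, Finset.sum_eq_single i]
    · simp
    · intro j _ hj; simp [Pi.single_eq_of_ne hj.symm]
    · intro h; exact absurd (Finset.mem_univ i) h
  conv_lhs => rw [hw]
  rw [map_sum]
  conv_rhs => rw [hw, Finset.smul_sum]
  apply Finset.sum_congr rfl
  intro j _
  rw [hlin, hdiag j, heq j j₀, smul_smul, smul_smul, mul_comm]

end commutant

end

end Cfsg.Agent.Lib.Helper18.PSUMod
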