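/-
helper18: automorphisms of the group `HS` that normalise the action of the Levi complement are
semilinear: the map on the vector parts is `σ`-semilinear for a field automorphism `σ`.
-/
import Mathlib
import Cfsg.Agent.Lib.Helper18.PSUModL

set_option autoImplicit false
set_option linter.unusedSectionVars false

namespace Cfsg.Agent.Lib.Helper18.PSUMod

noncomputable section

variable {F : Type*} [Field F] {m : ℕ}

section compat

variable {bar : F →+* F} [Finite F] (hB : BarOK bar)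

/-- compatibility of an automorphism of `HS` with the Levi action -/
structure LeviCompat (θ : ↥(HS bar hB.invol m) ≃* ↥(HS bar hB.invol m)) : Prop where
  ctr : ∀ x : ↥(HS bar hB.invol m), (x : HP bar m).w = 0 → ((θ x : ↥(HS bar hB.invol m)) : HP bar m).w = 0
  fwd : ∀ l (hl : l ∈ Le bar m), ∃ l' ∈ Le bar m, ∀ x : ↥(HS bar hB.invol m),
    ((θ ⟨actL l x, actL_mem hB.invol hl x.2⟩ : ↥(HS bar hB.invol m)) : HP bar m) =
      actL l' ((θ x : ↥(HS bar hB.invol m)) : HP bar m)

/-- the induced map on the vector parts -/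
def Amap (θ : ↥(HS bar hB.invol m) ≃* ↥(HS bar hB.invol m)) (w : Fin m → F) : Fin m → F :=
  ((θ (Classical.choose (exists_HS (m := m) hB w)) : ↥(HS bar hB.invol m)) : HP bar m).w

variable {hB}
variable {θ : ↥(HS bar hB.invol m) ≃* ↥(HS bar hB.invol m)}

theorem Amap_spec (hθ : LeviCompat hB θ) (x : ↥(HS bar hB.invol m)) :
    ((θ x : ↥(HS bar hB.invol m)) : HP bar m).w = Amap hB θ (x : HP bar m).w := by
  unfold Amap
  have hx₀ := Classical.choose_spec (exists_HS (m := m) hB (x : HP bar m).w)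
  set x₀ := Classical.choose (exists_HS (m := m) hB (x : HP bar m).w) with hx₀def
  have h1 : ((x₀⁻¹ * x : ↥(HS bar hB.invol m)) : HP bar m).w = 0 := by
    rw [Subgroup.coe_mul, Subgroup.coe_inv, HP.mul_w, HP.inv_w, hx₀, neg_add_cancel]
  have h2 := hθ.ctr _ h1
  have h3 : x = x₀ * (x₀⁻¹ * x) := by group
  conv_lhs => rw [h3]
  rw [map_mul, Subgroup.coe_mul, HP.mul_w, h2, add_zero]

theorem Amap_add (hθ : LeviCompat hB θ) (w w' : Fin m → F) :
    Amap hB θ (w + w') = Amap hB θ w + Amap hB θ w' := by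
  obtain ⟨x, hx⟩ := exists_HS (m := m) hB w
  obtain ⟨x', hx'⟩ := exists_HS (m := m) hB w'
  have h1 : ((x * x' : ↥(HS bar hB.invol m)) : HP bar m).w = w + w' := by
    rw [Subgroup.coe_mul, HP.mul_w, hx, hx']
  rw [← h1, ← Amap_spec hθ, map_mul, Subgroup.coe_mul, HP.mul_w, Amap_spec hθ, Amap_spec hθ, hx, hx']

theorem Amap_zero (hθ : LeviCompat hB θ) : Amap hB θ 0 = 0 := by
  have := Amap_add hθ 0 0
  rw [add_zero] at this
  exact left_eq_add.1 this

theorem Amap_symm (hθ : LeviCompat hB θ) (hθ' : LeviCompat hB θ.symm) (w : Fin m → F) :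
    Amap hB θ.symm (Amap hB θ w) = w := by
  obtain ⟨x, hx⟩ := exists_HS (m := m) hB w
  rw [← hx, ← Amap_spec hθ, ← Amap_spec hθ', MulEquiv.symm_apply_apply]

theorem Amap_actW (hθ : LeviCompat hB θ) {l : ↥(SUm bar m)} (hl : l ∈ Le bar m) :
    ∃ l' ∈ Le bar m, ∀ w, Amap hB θ (actW l w) = actW l' (Amap hB θ w) := by
  obtain ⟨l', hl', h⟩ := hθ.fwd l hl
  refine ⟨l', hl', fun w => ?_⟩
  obtain ⟨x, hx⟩ := exists_HS (m := m) hB w
  have h1 := congrArg HP.w (h x)
  rw [Amap_spec hθ, actL_w, actL_w, Amap_spec hθ, hx] at h1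
  exact h1

end compat

section semilinear

variable {bar : F →+* F} [Finite F] {hB : BarOK bar}
variable {θ : ↥(HS bar hB.invol m) ≃* ↥(HS bar hB.invol m)}

/-- the additive map `w ↦ A (a • A⁻¹ w)` -/
def Xmap (hθ : LeviCompat hB θ) (hθ' : LeviCompat hB θ.symm) (a : F) :
    (Fin m → F) →+ (Fin m → F) where
  toFun w := Amap hB θ (a • Amap hB θ.symm w)
  map_zero' := by rw [Amap_zero hθ', smul_zero, Amap_zero hθ]
  map_add' w w' := by rw [Amap_add hθ', smul_add, Amap_add hθ]

theorem Xmap_apply (hθ : LeviCompat hB θ) (hθ' : LeviCompat hB θ.symm) (a : F) (w : Fin m → F) :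
    Xmap hθ hθ' a w = Amap hB θ (a • Amap hB θ.symm w) := rfl

theorem Xmap_comm (hθ : LeviCompat hB θ) (hθ' : LeviCompat hB θ.symm) (a : F)
    {l : ↥(SUm bar m)} (hl : l ∈ Le bar m) (w : Fin m → F) :
    Xmap hθ hθ' a (actW l w) = actW l (Xmap hθ hθ' a w) := by
  obtain ⟨l₂, hl₂, h2⟩ := Amap_actW hθ' hl
  obtain ⟨l₃, hl₃, h3⟩ := Amap_actW hθ hl₂
  have hθs : LeviCompat hB θ.symm.symm := by simpa using hθ
  have h13 : ∀ u, actW l u = actW l₃ u := by
    intro u
    have e1 : Amap hB θ (Amap hB θ.symm (actW l u)) = actW l u := by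
      have := Amap_symm hθ' hθs (actW l u)
      simpa using this
    have e2 : Amap hB θ (Amap hB θ.symm u) = u := by
      have := Amap_symm hθ' hθs u
      simpa using this
    rw [← e1, h2, h3, e2]
  rw [Xmap_apply, Xmap_apply, h2, ← actW_smul, h3, ← h13]

theorem Xmap_Amap (hθ : LeviCompat hB θ) (hθ' : LeviCompat hB θ.symm) (a : F) (w : Fin m → F) :
    Xmap hθ hθ' a (Amap hB θ w) = Amap hB θ (a • w) := by
  rw [Xmap_apply, Amap_symm hθ hθ']

/-- the map on the vector parts is semilinear -/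
theorem exists_semilinear_Amap (hm : 1 ≤ m) (h3 : m = 1 → ∃ l : F, bar l ^ 3 ≠ l ^ 3)
    (hθ : LeviCompat hB θ) (hθ' : LeviCompat hB θ.symm) :
    ∃ σ : F ≃+* F, ∀ (a : F) (w : Fin m → F), Amap hB θ (a • w) = σ a • Amap hB θ w := by
  have hsc : ∀ a : F, ∃ ξ : F, ∀ w, Xmap hθ hθ' a w = ξ • w := fun a =>
    commutant_scalar hB hm h3 (Xmap hθ hθ' a) (fun l hl w => Xmap_comm hθ hθ' a hl w)
  choose s hs using hsc
  let ε : Fin m → F := Pi.single ⟨0, hm⟩ 1
  have hε : ∀ c d : F, c • ε = d • ε → c = d := by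
    intro c d h
    have := congrFun h ⟨0, hm⟩
    simpa [ε] using this
  have hθs : LeviCompat hB θ.symm.symm := by simpa using hθ
  have hAA : ∀ u, Amap hB θ (Amap hB θ.symm u) = u := by
    intro u
    have := Amap_symm hθ' hθs u
    simpa using this
  have hone : s 1 = 1 := by
    apply hε
    rw [← hs, Xmap_apply, one_smul, hAA, one_smul]
  have hmul : ∀ a b, s (a * b) = s a * s b := by
    intro a b
    apply hε
    rw [← hs, Xmap_apply, mul_smul, ← smul_smul, ← hs b, ← hs a, Xmap_apply, Xmap_apply,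
      Amap_symm hθ hθ']
  have hadd : ∀ a b, s (a + b) = s a + s b := by
    intro a b
    apply hε
    rw [← hs, Xmap_apply, add_smul, Amap_add hθ, add_smul, ← hs a, ← hs b, Xmap_apply, Xmap_apply]
  have hzero : s 0 = 0 := by
    have := hadd 0 0
    rw [add_zero] at this
    exact left_eq_add.1 this
  let σh : F →+* F :=
    { toFun := s
      map_one' := hone
      map_mul' := hmul
      map_zero' := hzero
      map_add' := hadd }
  have hbij : Function.Bijective σh :=
    ⟨σh.injective, Finite.surjective_of_injective σh.injective⟩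
  refine ⟨RingEquiv.ofBijective σh hbij, fun a w => ?_⟩
  rw [← Xmap_Amap hθ hθ', hs]
  rfl

end semilinear

end

end Cfsg.Agent.Lib.Helper18.PSUMod
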