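/-
helper18: automorphisms of `HS` compatible with the Levi action are induced by semilinear
similitudes of the middle part.
-/
import Mathlib
import Cfsg.Agent.Lib.Helper18.PSUModM

set_option autoImplicit false
set_option linter.unusedSectionVars false
set_option linter.unusedSimpArgs false

namespace Cfsg.Agent.Lib.Helper18.PSUMod

noncomputable section

variable {F : Type*} [Field F] {m : ℕ}

section unit_elements

variable {bar : F →+* F} [Finite F] (hB : BarOK bar)
include hB

/-- elements of `Le` acting trivially on `Te` and by a non-trivial scalar on a coordinate line -/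
theorem exists_Le_unit_scal (hm : 1 ≤ m) (h3 : m = 1 → ∃ l : F, bar l ^ 3 ≠ l ^ 3) (k : Fin m) :
    ∃ l ∈ Le bar m, ca l * (cb l)⁻¹ = 1 ∧ ∃ s : F, s ≠ 1 ∧
      ∀ c : F, actW l (c • Pi.single k (1 : F)) = (s * c) • Pi.single k (1 : F) := by
  rcases Nat.lt_or_ge 1 m with hm2 | hm1
  · -- two coordinates
    obtain ⟨j, hj⟩ : ∃ j : Fin m, j ≠ k := by
      by_cases h0 : k = ⟨0, by omega⟩
      · exact ⟨⟨1, hm2⟩, by rw [h0]; simp [Fin.ext_iff]⟩
      · exact ⟨⟨0, by omega⟩, fun h => h0 h.symm⟩
    obtain ⟨t, ht⟩ := hB.nt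
    have ht0 : t ≠ 0 := by
      rintro rfl
      simp at ht
    have hbt : bar t ≠ 0 := fun h => ht0 ((map_eq_zero bar).1 h)
    let u : Fˣ := Units.mk0 (bar t / t) (div_ne_zero hbt ht0)
    have hu : (u : F) * bar (u : F) = 1 := by
      simp only [u, Units.val_mk0, map_div₀, hB.invol]
      field_simp
    have hu' : (u⁻¹ : Fˣ).val * bar ((u⁻¹ : Fˣ) : F) = 1 := by
      rw [Units.val_inv_eq_inv_val, map_inv₀, ← mul_inv, hu, inv_one]
    have hu1 : (u : F) ≠ 1 := by
      simp only [u, Units.val_mk0]
      intro h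
      apply ht
      field_simp at h
      exact h
    let μ : Fin m → Fˣ := fun i => if i = k then u else if i = j then u⁻¹ else 1
    have hμ : ∀ i, (μ i : F) * bar (μ i : F) = 1 := by
      intro i
      by_cases hi : i = k
      · simp only [μ, hi, if_true]; exact hu
      · by_cases hij : i = j
        · simp only [μ, hi, hij, if_false, if_true]
          rw [if_neg hj]
          exact hu'
        · simp [μ, hi, hij]
    have hprod : ∏ i, (μ i : F) = 1 := by
      have : ∏ i, (μ i : F) = ((∏ i, μ i : Fˣ) : F) := by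
        rw [Units.coe_prod]
      rw [this]
      have : ∏ i, μ i = 1 := by
        rw [← Finset.mul_prod_erase Finset.univ μ (Finset.mem_univ k),
          ← Finset.mul_prod_erase (Finset.univ.erase k) μ
            (Finset.mem_erase.2 ⟨hj, Finset.mem_univ j⟩)]
        have h1 : μ k = u := by simp [μ]
        have h2 : μ j = u⁻¹ := by simp [μ, hj]
        have h3 : ∏ x ∈ (Finset.univ.erase k).erase j, μ x = 1 := by
          apply Finset.prod_eq_one
          intro i hi
          have hik : i ≠ k := (Finset.mem_erase.1 (Finset.mem_erase.1 hi).2).1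
          have hij : i ≠ j := (Finset.mem_erase.1 hi).1
          simp [μ, hik, hij]
        rw [h1, h2, h3, mul_one, mul_inv_cancel]
      rw [this, Units.val_one]
    refine ⟨dLevi hB.invol 1 1 μ hμ (by rw [hprod]; simp), dLevi_mem_Le _ _ _ _ _ _, ?_,
      (u : F), hu1, fun c => ?_⟩
    · rw [ca_dLevi, cb_dLevi]; simp
    · rw [actW_dLevi hB]
      funext i
      simp only [Units.val_one, map_one, one_smul, monoB_apply, Equiv.Perm.coe_one, id_eq,
        Pi.smul_apply, smul_eq_mul]
      by_cases hi : i = k
      · subst hi; simp [μ]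
      · simp [Pi.single_eq_of_ne hi]
  · -- one coordinate
    have hm' : m = 1 := le_antisymm hm1 hm
    obtain ⟨l₃, hl₃⟩ := h3 hm'
    have hl0 : l₃ ≠ 0 := by
      rintro rfl
      simp at hl₃
    have hbl : bar l₃ ≠ 0 := fun h => hl0 ((map_eq_zero bar).1 h)
    let a : Fˣ := Units.mk0 (bar l₃ / l₃) (div_ne_zero hbl hl0)
    have ha : (a : F) * bar (a : F) = 1 := by
      simp only [a, Units.val_mk0, map_div₀, hB.invol]
      field_simp
    have hba : bar (a : F) = (a : F)⁻¹ := eq_inv_of_mul_eq_one_right ha
    let μ : Fin m → Fˣ := fun i => if i = k then a⁻¹ * a⁻¹ else 1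
    have hμ : ∀ i, (μ i : F) * bar (μ i : F) = 1 := by
      intro i
      by_cases hi : i = k
      · simp only [μ, hi, if_true, Units.val_mul, Units.val_inv_eq_inv_val, map_mul, map_inv₀, hba,
          inv_inv]
        field_simp
      · simp [μ, hi]
    have hprod : ∏ i, (μ i : F) = (a : F)⁻¹ * (a : F)⁻¹ := by
      rw [Finset.prod_eq_single k]
      · simp [μ]
      · intro i _ hi; simp [μ, hi]
      · intro h; exact absurd (Finset.mem_univ k) h
    refine ⟨dLevi hB.invol a 1 μ hμ (by
      rw [hprod, hba]; simp only [Equiv.Perm.sign_one, Units.val_one, Int.cast_one, one_mul]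
      field_simp), dLevi_mem_Le _ _ _ _ _ _, ?_, (a : F)⁻¹ * ((a : F)⁻¹ * (a : F)⁻¹), ?_,
      fun c => ?_⟩
    · rw [ca_dLevi, cb_dLevi, inv_inv, ha]
    · intro h
      apply hl₃
      simp only [a, Units.val_mk0] at h
      field_simp at h
      linear_combination -h
    · rw [actW_dLevi hB]
      funext i
      simp only [hba, monoB_apply, Equiv.Perm.coe_one, id_eq, Pi.smul_apply, smul_eq_mul]
      by_cases hi : i = k
      · subst hi; simp [μ]; ring
      · simp [Pi.single_eq_of_ne hi]

end unit_elements

end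

end Cfsg.Agent.Lib.Helper18.PSUMod
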