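/-
helper18: the similitude property: an automorphism of `HS` compatible with the Levi action has the
form `(w, c) ↦ (A w, μ₀ σ c)` with `A` a `σ`-semilinear similitude of multiplier `μ₀`.
-/
import Mathlib
import Cfsg.Agent.Lib.Helper18.PSUModN

set_option autoImplicit false
set_option linter.unusedSectionVars false
set_option linter.unusedSimpArgs false

namespace Cfsg.Agent.Lib.Helper18.PSUMod

noncomputable section

variable {F : Type*} [Field F] {m : ℕ}

section zel

variable {bar : F →+* F} (hb : ∀ x, bar (bar x) = x)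
include hb

/-- the central elements `(0, a)` of `HS` -/
def zel (a : F) (ha : a + bar a = 0) : ↥(HS bar hb m) :=
  ⟨⟨0, a⟩, by rw [mem_HS]; simpa using ha⟩

theorem zel_w (a : F) (ha : a + bar a = 0) : ((zel hb a ha : ↥(HS bar hb m)) : HP bar m).w = 0 := rfl
theorem zel_c (a : F) (ha : a + bar a = 0) : ((zel hb a ha : ↥(HS bar hb m)) : HP bar m).c = a := rfl

theorem comm_skew (w w' : Fin m → F) :
    (hW bar w w' - hW bar w' w) + bar (hW bar w w' - hW bar w' w) = 0 := by
  rw [map_sub, hW_conj hb, hW_conj hb]; ring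

/-- the commutator relation in `HS` -/
theorem HS_comm (x y : ↥(HS bar hb m)) :
    x * y = zel hb (hW bar (x : HP bar m).w (y : HP bar m).w -
      hW bar (y : HP bar m).w (x : HP bar m).w) (comm_skew hb _ _) * (y * x) := by
  apply Subtype.ext
  simp only [Subgroup.coe_mul]
  exact HP.comm_eq _ _

theorem eq_zel_of_w {x : ↥(HS bar hb m)} (hx : (x : HP bar m).w = 0) :
    ∃ ha, x = zel hb (x : HP bar m).c ha := by
  have h := x.2
  rw [mem_HS, hx] at h
  refine ⟨by simpa using h, ?_⟩
  apply Subtype.ext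
  exact HP.ext hx rfl

end zel

section simil

variable {bar : F →+* F} [Finite F] {hB : BarOK bar}
variable {θ : ↥(HS bar hB.invol m) ≃* ↥(HS bar hB.invol m)}

/-- invariance of the commutator form -/
theorem comm_form_eq (hθ : LeviCompat hB θ) (x y : ↥(HS bar hB.invol m)) (a : F)
    (ha : a + bar a = 0)
    (h : hW bar (x : HP bar m).w (y : HP bar m).w - hW bar (y : HP bar m).w (x : HP bar m).w = a) :
    ((θ (zel hB.invol a ha) : ↥(HS bar hB.invol m)) : HP bar m).c =
      hW bar (Amap hB θ (x : HP bar m).w) (Amap hB θ (y : HP bar m).w) -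
        hW bar (Amap hB θ (y : HP bar m).w) (Amap hB θ (x : HP bar m).w) := by
  have h1 := HS_comm hB.invol x y
  have h2 := HS_comm hB.invol (θ x) (θ y)
  have h3 : θ x * θ y = θ (zel hB.invol a ha) * (θ y * θ x) := by
    rw [← map_mul, ← map_mul, ← map_mul]
    congr 1
    rw [h1]
    congr 2
  rw [h3] at h2
  have h4 := mul_right_cancel h2
  rw [h4, zel_c, Amap_spec hθ, Amap_spec hθ]

variable (hcomm : ∀ (σ : F ≃+* F) (x : F), σ (bar x) = bar (σ x))
include hcomm

/-- the similitude property of the induced map -/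
theorem exists_similitude_Amap (hm : 1 ≤ m) (h3 : m = 1 → ∃ l : F, bar l ^ 3 ≠ l ^ 3)
    (hθ : LeviCompat hB θ) (hθ' : LeviCompat hB θ.symm) :
    ∃ (σ : F ≃+* F) (μ₀ : F), μ₀ ≠ 0 ∧ bar μ₀ = μ₀ ∧
      (∀ (a : F) (w : Fin m → F), Amap hB θ (a • w) = σ a • Amap hB θ w) ∧
      (∀ w w' : Fin m → F, hW bar (Amap hB θ w) (Amap hB θ w') = μ₀ * σ (hW bar w w')) ∧
      (∀ (a : F) (ha : a + bar a = 0),
        ((θ (zel hB.invol a ha) : ↥(HS bar hB.invol m)) : HP bar m).c = μ₀ * σ a) := by
  obtain ⟨σ, hσ⟩ := exists_semilinear_Amap hm h3 hθ hθ'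
  let ε : Fin m → F := Pi.single ⟨0, hm⟩ 1
  have hεε : hW bar ε ε = 1 := by
    rw [hW_single_right]; simp [ε]
  let μ₀ : F := hW bar (Amap hB θ ε) (Amap hB θ ε)
  have hμ₀ : bar μ₀ = μ₀ := hW_conj hB.invol _ _
  -- Claim A
  have hA : ∀ (b : F) (hb' : (b - bar b) + bar (b - bar b) = 0),
      ((θ (zel hB.invol (b - bar b) hb') : ↥(HS bar hB.invol m)) : HP bar m).c =
        (σ b - bar (σ b)) * μ₀ := by
    intro b hb'
    obtain ⟨x, hx⟩ := exists_HS (m := m) hB (b • ε)
    obtain ⟨y, hy⟩ := exists_HS (m := m) hB ε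
    rw [comm_form_eq hθ x y (b - bar b) hb' (by
      rw [hx, hy, hW_smul_left, hW_smul_right, hεε, mul_one, mul_one]), hx, hy, hσ,
      hW_smul_left, hW_smul_right]
    ring
  -- Claim B and the similitude property
  have hS : ∀ w w' : Fin m → F, hW bar (Amap hB θ w) (Amap hB θ w') = μ₀ * σ (hW bar w w') := by
    intro w w'
    by_contra hne
    have hy : hW bar (Amap hB θ w) (Amap hB θ w') - μ₀ * σ (hW bar w w') ≠ 0 := sub_ne_zero.2 hne
    obtain ⟨t, ht⟩ := hB.nt
    -- choose `a` with `σ a * y = t`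
    set yv := hW bar (Amap hB θ w) (Amap hB θ w') - μ₀ * σ (hW bar w w') with hyv
    let a : F := σ.symm (t / yv)
    have hσa : σ a = t / yv := σ.apply_symm_apply _
    obtain ⟨x, hx⟩ := exists_HS (m := m) hB (a • w)
    obtain ⟨y, hy'⟩ := exists_HS (m := m) hB w'
    have hsk : (a * hW bar w w' - bar (a * hW bar w w')) +
        bar (a * hW bar w w' - bar (a * hW bar w w')) = 0 := by
      rw [map_sub, hB.invol]; ring
    have e1 := comm_form_eq hθ x y (a * hW bar w w' - bar (a * hW bar w w')) hsk (by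
      rw [hx, hy', hW_smul_left, hW_smul_right, map_mul, hW_conj hB.invol])
    rw [hA (a * hW bar w w') hsk, hx, hy', hσ, hW_smul_left, hW_smul_right, map_mul] at e1
    have e2 : σ a * yv = bar (σ a * yv) := by
      have hbar : bar (σ a * yv) = bar (σ a) *
          (hW bar (Amap hB θ w') (Amap hB θ w) - μ₀ * σ (hW bar w' w)) := by
        rw [hyv, map_mul, map_sub, map_mul, hμ₀, hW_conj hB.invol, ← hcomm σ (hW bar w w'),
          hW_conj hB.invol]
      have e3 : bar (σ a * σ (hW bar w w')) = bar (σ a) * σ (hW bar w' w) := by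
        rw [map_mul, ← hcomm σ (hW bar w w'), hW_conj hB.invol]
      rw [e3] at e1
      rw [hbar, hyv]
      linear_combination -e1
    rw [hσa, div_mul_cancel₀ _ hy] at e2
    exact ht e2.symm
  have hμ0 : μ₀ ≠ 0 := by
    intro h0
    have hθs : LeviCompat hB θ.symm.symm := by simpa using hθ
    have h1 : Amap hB θ ε = 0 := by
      apply eq_zero_of_hW_right bar
      intro w'
      have := hS ε (Amap hB θ.symm w')
      have e : Amap hB θ (Amap hB θ.symm w') = w' := by
        have := Amap_symm hθ' hθs w'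
        simpa using this
      rw [e, h0, zero_mul] at this
      exact this
    have h2 := Amap_symm hθ hθ' ε
    rw [h1, Amap_zero hθ'] at h2
    have := congrFun h2 ⟨0, hm⟩
    simp [ε] at this
  refine ⟨σ, μ₀, hμ0, hμ₀, hσ, hS, fun a ha => ?_⟩
  obtain ⟨z₁, hz₁⟩ := hB.tr 1 (map_one bar)
  have hab : a = a * z₁ - bar (a * z₁) := by
    have hba : bar a = -a := by linear_combination ha
    rw [map_mul, hba]
    linear_combination (-a) * hz₁
  have hsk : (a * z₁ - bar (a * z₁)) + bar (a * z₁ - bar (a * z₁)) = 0 := by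
    rw [map_sub, hB.invol]; ring
  have e1 := hA (a * z₁) hsk
  have e2 : zel hB.invol a ha = (zel hB.invol (a * z₁ - bar (a * z₁)) hsk : ↥(HS bar hB.invol m)) := by
    apply Subtype.ext
    exact HP.ext rfl hab
  rw [e2, e1, ← hcomm σ, ← map_sub, ← hab]
  ring

end simil

end

end Cfsg.Agent.Lib.Helper18.PSUMod
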