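/-
helper18: an automorphism of `HS` compatible with the Levi action is
`(w, c) ↦ (A w, μ₀ σ c)`.
-/
import Mathlib
import Cfsg.Agent.Lib.Helper18.PSUModO

set_option autoImplicit false
set_option linter.unusedSectionVars false
set_option linter.unusedSimpArgs false

namespace Cfsg.Agent.Lib.Helper18.PSUMod

noncomputable section

variable {F : Type*} [Field F] {m : ℕ}

section formula

variable {bar : F →+* F} [Finite F] {hB : BarOK bar}
variable {θ : ↥(HS bar hB.invol m) ≃* ↥(HS bar hB.invol m)}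

theorem actL_c (l : ↥(SUm bar m)) (x : HP bar m) : (actL l x).c = ca l * (cb l)⁻¹ * x.c := rfl

variable (hcomm : ∀ (σ : F ≃+* F) (x : F), σ (bar x) = bar (σ x))
include hcomm

/-- the full formula for the automorphism -/
theorem exists_formula (hm : 1 ≤ m) (h3 : m = 1 → ∃ l : F, bar l ^ 3 ≠ l ^ 3)
    (hθ : LeviCompat hB θ) (hθ' : LeviCompat hB θ.symm) :
    ∃ (σ : F ≃+* F) (μ₀ : F), μ₀ ≠ 0 ∧ bar μ₀ = μ₀ ∧
      (∀ (a : F) (w : Fin m → F), Amap hB θ (a • w) = σ a • Amap hB θ w) ∧
      (∀ w w' : Fin m → F, Amap hB θ (w + w') = Amap hB θ w + Amap hB θ w') ∧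
      (∀ w w' : Fin m → F, hW bar (Amap hB θ w) (Amap hB θ w') = μ₀ * σ (hW bar w w')) ∧
      (∀ x : ↥(HS bar hB.invol m),
        ((θ x : ↥(HS bar hB.invol m)) : HP bar m) =
          ⟨Amap hB θ (x : HP bar m).w, μ₀ * σ (x : HP bar m).c⟩) := by
  obtain ⟨σ, μ₀, hμ0, hμ₀, hσ, hS, hZ⟩ := exists_similitude_Amap hcomm hm h3 hθ hθ'
  refine ⟨σ, μ₀, hμ0, hμ₀, hσ, Amap_add hθ, hS, fun x => ?_⟩
  -- the defect
  let k : ↥(HS bar hB.invol m) → F := fun x =>
    ((θ x : ↥(HS bar hB.invol m)) : HP bar m).c - μ₀ * σ (x : HP bar m).c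
  have hk_mul : ∀ x y, k (x * y) = k x + k y := by
    intro x y
    simp only [k]
    rw [map_mul, Subgroup.coe_mul, Subgroup.coe_mul, HP.mul_c, HP.mul_c, Amap_spec hθ,
      Amap_spec hθ, hS, map_sub, map_add]
    ring
  have hk_zero : ∀ x : ↥(HS bar hB.invol m), (x : HP bar m).w = 0 → k x = 0 := by
    intro x hx
    obtain ⟨ha, hxz⟩ := eq_zel_of_w hB.invol hx
    simp only [k]
    conv_lhs => rw [hxz]
    rw [hZ, zel_c]
    exact sub_self _
  have hk_w : ∀ x y : ↥(HS bar hB.invol m), (x : HP bar m).w = (y : HP bar m).w → k x = k y := by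
    intro x y hxy
    have h1 : ((x⁻¹ * y : ↥(HS bar hB.invol m)) : HP bar m).w = 0 := by
      rw [Subgroup.coe_mul, Subgroup.coe_inv, HP.mul_w, HP.inv_w, hxy, neg_add_cancel]
    have h2 : y = x * (x⁻¹ * y) := by group
    rw [h2, hk_mul, hk_zero _ h1, add_zero]
  -- invariance under unit elements
  have hk_inv : ∀ l (hl : l ∈ Le bar m), ca l * (cb l)⁻¹ = 1 → ∀ x : ↥(HS bar hB.invol m),
      k ⟨actL l x, actL_mem hB.invol hl x.2⟩ = k x := by
    intro l hl hn x
    obtain ⟨l', hl', hfwd⟩ := hθ.fwd l hl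
    obtain ⟨a, ha0, ha⟩ := hB.sk
    have hn' : ca l' * (cb l')⁻¹ = 1 := by
      have h1 := congrArg HP.c (hfwd (zel hB.invol a ha))
      rw [actL_c] at h1
      have h2 : (⟨actL l (zel hB.invol a ha : ↥(HS bar hB.invol m)),
          actL_mem hB.invol hl (zel hB.invol a ha : ↥(HS bar hB.invol m)).2⟩ :
            ↥(HS bar hB.invol m)) = zel hB.invol a ha := by
        apply Subtype.ext
        apply HP.ext
        · show (cb l)⁻¹ • Bof (l : V F m ≃ₗ[F] V F m) (0 : Fin m → F) = 0
          rw [map_zero, smul_zero]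
        · show ca l * (cb l)⁻¹ * a = a
          rw [hn, one_mul]
      rw [h2, hZ] at h1
      have h3 : μ₀ * σ a ≠ 0 := mul_ne_zero hμ0 (by
        intro h
        exact ha0 ((map_eq_zero σ).1 h))
      have h4 : (ca l' * (cb l')⁻¹ - 1) * (μ₀ * σ a) = 0 := by linear_combination -h1
      rcases mul_eq_zero.1 h4 with h | h
      · exact sub_eq_zero.1 h
      · exact absurd h h3
    simp only [k]
    rw [hfwd x, actL_c, hn', one_mul]
    show _ - μ₀ * σ (ca l * (cb l)⁻¹ * (x : HP bar m).c) = _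
    rw [hn, one_mul]
  -- the additive map on the vector parts
  have hsel : ∀ w : Fin m → F, ∃ x : ↥(HS bar hB.invol m), (x : HP bar m).w = w :=
    fun w => exists_HS (m := m) hB w
  choose sel hsel using hsel
  let kw : (Fin m → F) →+ F :=
    { toFun := fun w => k (sel w)
      map_zero' := hk_zero _ (hsel 0)
      map_add' := by
        intro w w'
        rw [← hk_mul]
        apply hk_w
        rw [Subgroup.coe_mul, HP.mul_w, hsel, hsel, hsel] }
  have hkw : ∀ x : ↥(HS bar hB.invol m), k x = kw (x : HP bar m).w := by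
    intro x
    apply hk_w
    exact (hsel _).symm
  have hkw0 : kw = 0 := by
    apply AddMonoidHom.functions_ext
    intro j c
    rw [AddMonoidHom.zero_apply]
    obtain ⟨l, hl, hn, s, hs1, hact⟩ := exists_Le_unit_scal (m := m) hB hm h3 j
    have hs1' : s - 1 ≠ 0 := sub_ne_zero.2 hs1
    -- write `c = (s - 1) c'`
    have key : ∀ c' : F, kw ((s * c') • Pi.single j (1 : F)) = kw (c' • Pi.single j (1 : F)) := by
      intro c'
      have h1 := hk_inv l hl hn (sel (c' • Pi.single j (1 : F)))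
      rw [hkw, hkw] at h1
      have h2 : ((⟨actL l (sel (c' • Pi.single j (1 : F)) : ↥(HS bar hB.invol m)),
          actL_mem hB.invol hl (sel (c' • Pi.single j (1 : F))).2⟩ :
            ↥(HS bar hB.invol m)) : HP bar m).w = (s * c') • Pi.single j (1 : F) := by
        show (actL l _).w = _
        rw [actL_w, hsel, hact]
      rw [h2, hsel] at h1
      exact h1
    have h5 := key (c / (s - 1))
    have h6 : (s * (c / (s - 1))) • (Pi.single j (1 : F) : Fin m → F) =
        (c / (s - 1)) • Pi.single j (1 : F) + Pi.single j c := by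
      have : s * (c / (s - 1)) = c / (s - 1) + c := by field_simp; ring
      rw [this, add_smul]
      congr 1
      funext i
      by_cases hi : i = j
      · subst hi; simp
      · simp [Pi.single_eq_of_ne hi]
    rw [h6, map_add] at h5
    exact left_eq_add.1 h5.symm
  have hkx : k x = 0 := by rw [hkw, hkw0, AddMonoidHom.zero_apply]
  apply HP.ext
  · exact Amap_spec hθ x
  · exact sub_eq_zero.1 hkx

end formula

end

end Cfsg.Agent.Lib.Helper18.PSUMod
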