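/-
helper18: normal `p`-subgroups of the point stabiliser `Pe` lie in `Qe`.
-/
import Mathlib
import Cfsg.Agent.Lib.Helper18.PSUModP

set_option autoImplicit false
set_option linter.unusedSectionVars false
set_option linter.unusedSimpArgs false

namespace Cfsg.Agent.Lib.Helper18.PSUMod

noncomputable section

variable {F : Type*} [Field F] {m : ℕ}

section blocks

variable {bar : F →+* F} [Finite F]

theorem av_vw_of_mem_Pe {g : ↥(SUm bar m)} (hg : g ∈ Pe bar m) (w : Fin m → F) :
    av g (vw w) = vw (Bof (g : V F m ≃ₗ[F] V F m) w) + (av g (vw w)).1 • ve := by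
  have h3 : (av g (vw w)).2.2 = 0 := by
    have h := hV_av g (vw w) ve
    rw [av_ve_of_mem_Pe hg, hV_smul_right, hV_ve_right, hV_ve_right] at h
    have hca : bar (ca g) ≠ 0 := fun h' => ca_ne_zero hg ((map_eq_zero bar).1 h')
    have h' : bar (ca g) * (av g (vw w)).2.2 = 0 := by rw [h]; rfl
    rcases mul_eq_zero.1 h' with h'' | h''
    · exact absurd h'' hca
    · exact h''
  ext1
  · simp [vw, ve]
  · ext1
    · simp [vw, ve, Bof_apply]; rfl
    · simpa [vw, ve] using h3

theorem Bof_mul_of_mem_Pe {g g' : ↥(SUm bar m)} (hg : g ∈ Pe bar m) (hg' : g' ∈ Pe bar m)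
    (w : Fin m → F) :
    Bof ((g * g' : ↥(SUm bar m)) : V F m ≃ₗ[F] V F m) w =
      Bof (g : V F m ≃ₗ[F] V F m) (Bof (g' : V F m ≃ₗ[F] V F m) w) := by
  have h1 : Bof ((g * g' : ↥(SUm bar m)) : V F m ≃ₗ[F] V F m) w = (av g (av g' (vw w))).2.1 := rfl
  rw [h1, av_vw_of_mem_Pe hg', av_add, av_smul, av_ve_of_mem_Pe hg]
  simp [ve, Bof_apply]
  rfl

theorem Bof_one (w : Fin m → F) :
    Bof ((1 : ↥(SUm bar m)) : V F m ≃ₗ[F] V F m) w = w := rfl

end blocks

section irreducible

variable {bar : F →+* F} [Finite F] (hB : BarOK bar)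
include hB

/-- the middle part is an irreducible module for the Levi complement -/
theorem irreducible_W (U : Submodule F (Fin m → F))
    (hU : ∀ l ∈ Le bar m, ∀ w ∈ U, actW l w ∈ U) (hne : ∃ w ∈ U, w ≠ 0) : U = ⊤ := by
  obtain ⟨w₀, hw₀, hw₀0⟩ := hne
  obtain ⟨k, hk⟩ : ∃ k, w₀ k ≠ 0 := by
    by_contra hcon
    push Not at hcon
    exact hw₀0 (funext hcon)
  obtain ⟨l₀, hl₀⟩ := exists_sq_not_fixed hB
  have hl0 : l₀ ≠ 0 := by
    rintro rfl
    simp at hl₀
  have hbl : bar l₀ ≠ 0 := fun h => hl0 ((map_eq_zero bar).1 h)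
  have hne' : bar l₀ ≠ l₀ := fun h => hl₀ (by rw [h])
  obtain ⟨g, hg, hgw⟩ := exists_Le_diag (m := m) hB hl0 k
  let κ : F := (bar l₀ ^ 2 / l₀ - bar l₀) * (bar l₀ ^ 2 / l₀ - l₀)
  have hκ : κ ≠ 0 := by
    apply mul_ne_zero
    · have : bar l₀ ^ 2 / l₀ - bar l₀ = bar l₀ * (bar l₀ - l₀) / l₀ := by field_simp
      rw [this]
      exact div_ne_zero (mul_ne_zero hbl (sub_ne_zero.2 hne')) hl0
    · have : bar l₀ ^ 2 / l₀ - l₀ = (bar l₀ ^ 2 - l₀ ^ 2) / l₀ := by field_simp
      rw [this]
      exact div_ne_zero (sub_ne_zero.2 hl₀) hl0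
  have hY : ∀ w : Fin m → F,
      actW g (actW g w) - (l₀ + bar l₀) • actW g w + (l₀ * bar l₀) • w = Pi.single k (κ * w k) := by
    intro w
    funext i
    simp only [Pi.add_apply, Pi.sub_apply, Pi.smul_apply, smul_eq_mul, hgw]
    by_cases hi : i = k
    · subst hi
      simp only [if_true, Pi.single_eq_same, κ]
      ring
    · simp only [hi, if_false, Pi.single_eq_of_ne hi]
      ring
  have h1 : (Pi.single k (κ * w₀ k) : Fin m → F) ∈ U := by
    rw [← hY]
    exact U.add_mem (U.sub_mem (hU g hg _ (hU g hg _ hw₀)) (U.smul_mem _ (hU g hg _ hw₀)))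
      (U.smul_mem _ hw₀)
  have h2 : (Pi.single k (1 : F) : Fin m → F) ∈ U := by
    have h := U.smul_mem (κ * w₀ k)⁻¹ h1
    rw [single_eq_smul hB, smul_smul, inv_mul_cancel₀ (mul_ne_zero hκ hk), one_smul] at h
    exact h
  have h3 : ∀ j, (Pi.single j (1 : F) : Fin m → F) ∈ U := by
    intro j
    by_cases hjk : j = k
    · rw [hjk]; exact h2
    · obtain ⟨g', hg', hsw⟩ := exists_Le_swap (m := m) hB (Ne.symm hjk)
      have h4 := hU g' hg' _ h2
      have h5 : actW g' (Pi.single k (1 : F)) = -(Pi.single j (1 : F) : Fin m → F) := by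
        funext i
        obtain ⟨e1, e2, e3⟩ := hsw (Pi.single k (1 : F))
        by_cases hik : i = k
        · subst hik
          rw [e1]
          simp [Pi.single_eq_of_ne hjk, Pi.single_eq_of_ne (Ne.symm hjk)]
        · by_cases hij : i = j
          · subst hij
            rw [e2]
            simp
          · rw [e3 i hik hij]
            simp [Pi.single_eq_of_ne hik, Pi.single_eq_of_ne hij]
      rw [h5] at h4
      have := U.neg_mem h4
      rwa [neg_neg] at this
  rw [eq_top_iff]
  intro w _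
  have hw : w = ∑ i, w i • (Pi.single i (1 : F) : Fin m → F) := by
    conv_lhs => rw [← Finset.univ_sum_single w]
    apply Finset.sum_congr rfl
    intro i _
    exact single_eq_smul hB i (w i)
  rw [hw]
  exact U.sum_mem fun i _ => U.smul_mem _ (h3 i)

end irreducible

section Op

variable {bar : F →+* F} [Finite F] (hB : BarOK bar)
include hB

theorem ca_pow {s : ↥(SUm bar m)} (hs : s ∈ Pe bar m) (j : ℕ) :
    av (s ^ j) ve = ca s ^ j • (ve : V F m) := by
  induction j with
  | zero => simp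
  | succ j ih => rw [pow_succ, av_mul, av_ve_of_mem_Pe hs, av_smul, ih, smul_smul, pow_succ, mul_comm]

/-- normal `p`-subgroups of `Pe` are contained in `Qe` -/
theorem Op_le_Qe (S : Subgroup ↥(SUm bar m)) (hSP : S ≤ Pe bar m)
    (hS : IsPGroup (ringChar F) S)
    (hnorm : ∀ g ∈ Pe bar m, ∀ s ∈ S, g * s * g⁻¹ ∈ S) : S ≤ Qe hB.invol m := by
  have := ringChar.charP F
  have : Fact (ringChar F).Prime := ⟨CharP.char_is_prime F _⟩
  -- the elements of `S` fix `e`
  have hfix : ∀ s ∈ S, av s ve = ve := by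
    intro s hs
    obtain ⟨k, hk⟩ := hS ⟨s, hs⟩
    have hk' : s ^ (ringChar F ^ k) = 1 := by
      have := congrArg Subtype.val hk
      simpa using this
    have h1 := ca_pow hB (hSP hs) (ringChar F ^ k)
    rw [hk', av_one] at h1
    have h2 : ca s ^ (ringChar F ^ k) = 1 := by
      have := congrArg Prod.fst h1
      simpa [ve] using this.symm
    have h3 : ca s = 1 := by
      apply iterateFrobenius_inj F (ringChar F) k
      rw [iterateFrobenius_def, iterateFrobenius_def, h2, one_pow]
    rw [av_ve_of_mem_Pe (hSP hs), h3, one_smul]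
  -- the middle blocks are trivial
  have hB1 : ∀ s ∈ S, ∀ w, Bof ((s : ↥(SUm bar m)) : V F m ≃ₗ[F] V F m) w = w := by
    rcases Nat.eq_zero_or_pos m with hm0 | hm
    · subst hm0
      intro s _ w
      exact Subsingleton.elim _ _
    let U : Submodule F (Fin m → F) :=
      { carrier := {w | ∀ s ∈ S, Bof ((s : ↥(SUm bar m)) : V F m ≃ₗ[F] V F m) w = w}
        add_mem' := by
          intro a b ha hb s hs
          rw [map_add, ha s hs, hb s hs]
        zero_mem' := by
          intro s _
          rw [map_zero]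
        smul_mem' := by
          intro c a ha s hs
          rw [map_smul, ha s hs] }
    have hUtop : U = ⊤ := by
      apply irreducible_W hB
      · intro l hl w hw s hs
        have hl' : l⁻¹ ∈ Pe bar m := (Pe bar m).inv_mem hl.1
        have h1 := hnorm l⁻¹ hl' s hs
        rw [inv_inv] at h1
        have h2 : s * l = l * (l⁻¹ * s * l) := by group
        have h3 := Bof_mul_of_mem_Pe (hSP hs) hl.1 w
        rw [h2, Bof_mul_of_mem_Pe hl.1 (hSP h1), hw _ h1] at h3
        unfold actW
        rw [map_smul, ← h3]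
      · let _ : MulAction ↥S (Fin m → F) :=
          { smul := fun s w => Bof (((s : ↥(SUm bar m))) : V F m ≃ₗ[F] V F m) w
            one_smul := fun w => rfl
            mul_smul := fun s s' w => Bof_mul_of_mem_Pe (hSP s.2) (hSP s'.2) w }
        obtain ⟨k, hk, hk'⟩ := exists_card_eq_pow (F := F)
        have hcard : ringChar F ∣ Nat.card (Fin m → F) := by
          rw [Nat.card_fun, Nat.card_eq_fintype_card (α := Fin m), Fintype.card_fin, hk', ← pow_mul]
          exact dvd_pow_self _ (Nat.mul_ne_zero hk.ne' hm.ne')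
        obtain ⟨w₁, hw₁, hw₁0⟩ := hS.exists_fixed_point_of_prime_dvd_card_of_fixed_point
          (Fin m → F) hcard (a := 0) (fun s => map_zero _)
        exact ⟨w₁, fun s hs => hw₁ ⟨s, hs⟩, fun h => hw₁0 h.symm⟩
    intro s hs w
    have : w ∈ U := by rw [hUtop]; trivial
    exact this s hs
  intro s hs
  apply mem_Qe_of hB.invol (hfix s hs)
  intro w
  refine ⟨(av s (vw w)).1, ?_⟩
  have := av_vw_of_mem_Pe (hSP hs) w
  rw [hB1 s hs] at this
  exact this

end Op

end

end Cfsg.Agent.Lib.Helper18.PSUMod
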