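/-
helper18: the quotient of the model group by its centre; root groups in the quotient; every
automorphism of the quotient permutes the root groups.
-/
import Mathlib
import Cfsg.Agent.Lib.Helper18.PSUModQ

set_option autoImplicit false
set_option linter.unusedSectionVars false
set_option linter.unusedSimpArgs false

namespace Cfsg.Agent.Lib.Helper18.PSUMod

noncomputable section

variable {F : Type*} [Field F] {m : ℕ}

/-- the quotient by the centre -/
abbrev PG (bar : F →+* F) (m : ℕ) := ↥(SUm bar m) ⧸ Subgroup.center ↥(SUm bar m)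

/-- the projection -/
def pr (bar : F →+* F) (m : ℕ) : ↥(SUm bar m) →* PG bar m := QuotientGroup.mk' _

theorem pr_surj (bar : F →+* F) (m : ℕ) : Function.Surjective (pr bar m) :=
  QuotientGroup.mk'_surjective _

/-- elements of `p`-power order -/
def IsPel {bar : F →+* F} (g : ↥(SUm bar m)) : Prop := ∃ k : ℕ, g ^ (ringChar F ^ k) = 1

section basics

variable {bar : F →+* F} [Finite F] (hB : BarOK bar)

theorem isPel_of_mem {P : Subgroup ↥(SUm bar m)} (hP : IsPGroup (ringChar F) P)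
    {g : ↥(SUm bar m)} (hg : g ∈ P) : IsPel g := by
  obtain ⟨k, hk⟩ := hP ⟨g, hg⟩
  refine ⟨k, ?_⟩
  have := congrArg Subtype.val hk
  simpa using this

include hB

theorem pr_eq_iff {a b : ↥(SUm bar m)} :
    pr bar m a = pr bar m b ↔ ∃ z ∈ Zs bar m, a = b * z := by
  unfold pr
  rw [QuotientGroup.mk'_apply, QuotientGroup.mk'_apply, QuotientGroup.eq, center_eq_Zs hB]
  constructor
  · intro h
    refine ⟨b⁻¹ * a, ?_, by group⟩
    have := (Zs bar m).inv_mem h
    simpa using this
  · rintro ⟨z, hz, rfl⟩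
    have := (Zs bar m).inv_mem hz
    simpa using this

theorem pr_eq_one_iff {a : ↥(SUm bar m)} : pr bar m a = 1 ↔ a ∈ Zs bar m := by
  rw [← map_one (pr bar m), pr_eq_iff hB]
  constructor
  · rintro ⟨z, hz, rfl⟩
    simpa using hz
  · intro h
    exact ⟨a, h, by simp⟩

/-- the projection is injective on elements of `p`-power order -/
theorem eq_of_pr_eq {a b : ↥(SUm bar m)} (ha : IsPel a) (hb : IsPel b)
    (h : pr bar m a = pr bar m b) : a = b := by
  obtain ⟨z, hz, rfl⟩ := (pr_eq_iff hB).1 h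
  obtain ⟨k, hk⟩ := ha
  obtain ⟨j, hj⟩ := hb
  have hc : Commute b z := by
    have := Zs_le_center hz
    rw [Subgroup.mem_center_iff] at this
    exact this b
  have h1 : (b * z) ^ (ringChar F ^ (k + j)) = 1 := by
    rw [pow_add, pow_mul, hk, one_pow]
  have h2 : b ^ (ringChar F ^ (k + j)) = 1 := by
    rw [pow_add, mul_comm, pow_mul, hj, one_pow]
  rw [hc.mul_pow, h2, one_mul] at h1
  rw [eq_one_of_mem_Zs_of_pow hz h1, mul_one]

end basics

section liftp

variable {bar : F →+* F} [Finite F] (hB : BarOK bar)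

instance finite_SUm : Finite ↥(SUm bar m) := by
  have : Finite (V F m ≃ₗ[F] V F m) :=
    Finite.of_injective (fun g : V F m ≃ₗ[F] V F m => (g : V F m → V F m))
      (fun g g' h => LinearEquiv.ext (congrFun h))
  infer_instance

/-- `p`-subgroups of the quotient lift to `p`-subgroups -/
theorem exists_lift_pgroup [Fact (ringChar F).Prime] (N : Subgroup (PG bar m))
    (hN : IsPGroup (ringChar F) N) :
    ∃ S : Subgroup ↥(SUm bar m), IsPGroup (ringChar F) S ∧ S.map (pr bar m) = N := by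
  obtain ⟨U, hU⟩ := hN.exists_le_sylow
  obtain ⟨P, rfl⟩ := Sylow.mapSurjective_surjective (pr_surj bar m) (ringChar F) U
  refine ⟨(P : Subgroup ↥(SUm bar m)) ⊓ N.comap (pr bar m), P.2.to_le inf_le_left, ?_⟩
  ext z
  constructor
  · rintro ⟨s, hs, rfl⟩
    exact hs.2
  · intro hz
    obtain ⟨s, hs, rfl⟩ := hU hz
    exact ⟨s, ⟨hs, hz⟩, rfl⟩

end liftp

section roots

variable {bar : F →+* F} [Finite F] (hB : BarOK bar)

/-- the root groups in the quotient -/
def RG (bar : F →+* F) (u : V F m) : Subgroup (PG bar m) := (TV bar u).map (pr bar m)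

theorem mem_RG {u : V F m} {z : PG bar m} :
    z ∈ RG bar u ↔ ∃ t ∈ TV bar u, pr bar m t = z := Iff.rfl

theorem TV_pow {u : V F m} {t : ↥(SUm bar m)} {c : F} (hcu : c * hV bar u u = 0)
    (ht : ∀ x, av t x = x + (c * hV bar x u) • u) (j : ℕ) (x : V F m) :
    av (t ^ j) x = x + ((j : F) * c * hV bar x u) • u := by
  induction j generalizing x with
  | zero => simp
  | succ j ih =>
    rw [pow_succ, av_mul, ht, av_add, av_smul, ih, ih, mul_assoc (j : F) c (hV bar u u), hcu,
      mul_zero, zero_smul, add_zero, add_assoc, ← add_smul]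
    congr 2
    push_cast
    ring

theorem isPel_of_mem_TV {u : V F m} {t : ↥(SUm bar m)} (ht : t ∈ TV bar u) : IsPel t := by
  have := ringChar.charP F
  obtain ⟨c, -, hcu, ht⟩ := ht
  refine ⟨1, ?_⟩
  apply av_ext
  intro x
  rw [TV_pow hcu ht, pow_one, CharP.cast_eq_zero, zero_mul, zero_mul, zero_smul, add_zero, av_one]

/-- a non-trivial common element forces proportional centres -/
theorem smul_of_TV_inter {u v : V F m} {t : ↥(SUm bar m)} (htu : t ∈ TV bar u)
    (htv : t ∈ TV bar v) (ht1 : t ≠ 1) : ∃ a : F, u = a • v := by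
  obtain ⟨c, -, -, hc⟩ := htu
  obtain ⟨c', -, -, hc'⟩ := htv
  obtain ⟨x, hx⟩ : ∃ x, av t x ≠ x := by
    by_contra hcon
    push Not at hcon
    apply ht1
    apply av_ext
    intro x
    rw [hcon, av_one]
  have h1 : c * hV bar x u ≠ 0 := by
    intro h
    apply hx
    rw [hc, h, zero_smul, add_zero]
  have h2 : (c * hV bar x u) • u = (c' * hV bar x v) • v := by
    have := (hc x).symm.trans (hc' x)
    exact add_left_cancel this
  refine ⟨(c * hV bar x u)⁻¹ * (c' * hV bar x v), ?_⟩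
  rw [← smul_smul, ← h2, smul_smul, inv_mul_cancel₀ h1, one_smul]

/-- conjugates of root groups -/
theorem RG_conj (g : ↥(SUm bar m)) (u : V F m) (z : PG bar m) :
    z ∈ RG bar (av g u) ↔ (pr bar m g)⁻¹ * z * pr bar m g ∈ RG bar u := by
  constructor
  · rintro ⟨t, ht, rfl⟩
    have ht' : t ∈ TV bar (av g u) := ht
    refine ⟨g⁻¹ * t * g, ?_, by simp [map_mul]⟩
    show g⁻¹ * t * g ∈ TV bar u
    rw [← conj_mem_TV_iff g]
    convert ht' using 1
    group
  · rintro ⟨t, ht, h⟩
    refine ⟨g * t * g⁻¹, conj_mem_TV g ht, ?_⟩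
    rw [map_mul, map_mul, h, map_inv]
    group

include hB

theorem RG_smul {a : F} (ha : a ≠ 0) (u : V F m) : RG bar (a • u) = RG bar u := by
  unfold RG
  rw [TV_smul hB.invol ha]

/-- non-trivial elements in root groups -/
theorem exists_TV_ne_one {u : V F m} (hu0 : u ≠ 0) (hu : hV bar u u = 0) :
    ∃ t ∈ TV bar u, t ≠ 1 := by
  obtain ⟨g, a, ha, rfl⟩ := exists_av_ve hB hu0 hu
  obtain ⟨x₀, hx₀, hc₀⟩ := exists_HS0 (m := m) hB
  refine ⟨g * EG hB.invol x₀ * g⁻¹, ?_, ?_⟩
  · rw [TV_smul hB.invol ha]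
    apply conj_mem_TV
    rw [← Te_eq_TV hB.invol]
    exact (mem_Te hB.invol).2 ⟨x₀, hx₀, rfl⟩
  · intro h
    have h1 : EG hB.invol x₀ = 1 := by
      have : EG hB.invol x₀ = g⁻¹ * (g * EG hB.invol x₀ * g⁻¹) * g := by group
      rw [this, h]; group
    have h2 : x₀ = 1 := EG_injective hB.invol (by rw [h1, map_one])
    apply hc₀
    rw [h2]
    rfl

/-- a non-trivial element of a root group moves the points which are not orthogonal -/
theorem TV_moves {u v : V F m} (hu : hV bar u u = 0) {t : ↥(SUm bar m)}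
    (ht : t ∈ TV bar u) (ht1 : t ≠ 1) (hvu : hV bar v u ≠ 0) : ¬ ∃ a : F, av t v = a • v := by
  rintro ⟨a, ha⟩
  obtain ⟨c, -, -, hc⟩ := ht
  have hc0 : c ≠ 0 := by
    rintro rfl
    apply ht1
    apply av_ext
    intro x
    rw [hc, zero_mul, zero_smul, add_zero, av_one]
  rw [hc] at ha
  have h1 : (c * hV bar v u) • u = (a - 1) • v := by
    rw [sub_smul, one_smul, ← ha]; abel
  have h2 := congrArg (fun y => hV bar y u) h1
  simp only [hV_smul_left, hu, mul_zero] at h2
  have h3 : a - 1 = 0 := by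
    rcases mul_eq_zero.1 h2.symm with h | h
    · exact h
    · exact absurd h hvu
  rw [h3, zero_smul] at h1
  rcases smul_eq_zero.1 h1 with h | h
  · exact (mul_ne_zero hc0 hvu) h
  · rw [h, hV_zero_right] at hvu
    exact hvu rfl

/-- commuting root groups have orthogonal centres -/
theorem perp_of_RG_comm {u v : V F m} (hu0 : u ≠ 0) (hu : hV bar u u = 0) (hv0 : v ≠ 0)
    (hv : hV bar v v = 0)
    (h : ∀ z ∈ RG bar u, ∀ z' ∈ RG bar v, z * z' = z' * z) : hV bar v u = 0 := by
  by_contra hvu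
  obtain ⟨t, ht, ht1⟩ := exists_TV_ne_one hB hu0 hu
  obtain ⟨t', ht', ht1'⟩ := exists_TV_ne_one hB hv0 hv
  have h1 := h _ ⟨t, ht, rfl⟩ _ ⟨t', ht', rfl⟩
  have h2 : pr bar m (t * t' * t⁻¹) = pr bar m t' := by
    rw [map_mul, map_mul, h1, map_inv]; group
  have h3 : t * t' * t⁻¹ ∈ TV bar (av t v) := conj_mem_TV t ht'
  have h4 := eq_of_pr_eq hB (isPel_of_mem_TV h3) (isPel_of_mem_TV ht') h2
  rw [h4] at h3
  obtain ⟨a, ha⟩ := smul_of_TV_inter h3 ht' ht1'
  exact TV_moves hB hu ht ht1 hvu ⟨a, ha⟩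

/-- root groups with orthogonal centres commute -/
theorem RG_comm_of_perp {u v : V F m} (huv : hV bar u v = 0) {z z' : PG bar m}
    (hz : z ∈ RG bar u) (hz' : z' ∈ RG bar v) : z * z' = z' * z := by
  obtain ⟨t, ht, rfl⟩ := hz
  obtain ⟨t', ht', rfl⟩ := hz'
  rw [← map_mul, ← map_mul, TV_comm hB.invol huv ht ht']

/-- equal root groups have proportional centres -/
theorem smul_of_RG_le {u v : V F m} (hu0 : u ≠ 0) (hu : hV bar u u = 0)
    (h : RG bar u ≤ RG bar v) : ∃ a : F, u = a • v := by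
  obtain ⟨t, ht, ht1⟩ := exists_TV_ne_one hB hu0 hu
  obtain ⟨t', ht', h1⟩ := h ⟨t, ht, rfl⟩
  have h2 := eq_of_pr_eq hB (isPel_of_mem_TV ht') (isPel_of_mem_TV ht) h1
  rw [h2] at ht'
  exact smul_of_TV_inter ht ht' ht1

end roots

end

end Cfsg.Agent.Lib.Helper18.PSUMod
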