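/-
helper18: the centres of the Sylow `p`-subgroups of the quotient are the root groups, so
every automorphism permutes the root groups; normalisation of an automorphism.
-/
import Mathlib
import Cfsg.Agent.Lib.Helper18.PSUModR

set_option autoImplicit false
set_option linter.unusedSectionVars false
set_option linter.unusedSimpArgs false

namespace Cfsg.Agent.Lib.Helper18.PSUMod

noncomputable section

variable {F : Type*} [Field F] {m : ℕ}

section zc

variable {G : Type*} [Group G]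

/-- the centre of a subgroup, as a subgroup of the ambient group -/
def ZC (U : Subgroup G) : Subgroup G := Subgroup.centralizer (U : Set G) ⊓ U

theorem mem_ZC {U : Subgroup G} {z : G} : z ∈ ZC U ↔ z ∈ U ∧ ∀ y ∈ U, y * z = z * y := by
  unfold ZC
  rw [Subgroup.mem_inf, Subgroup.mem_centralizer_iff, and_comm]
  rfl

theorem ZC_map (φ : G ≃* G) (U : Subgroup G) :
    ZC (U.map φ.toMonoidHom) = (ZC U).map φ.toMonoidHom := by
  ext z
  constructor
  · intro hz
    obtain ⟨⟨z₀, hz₀, rfl⟩, hc⟩ := mem_ZC.1 hz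
    refine ⟨z₀, mem_ZC.2 ⟨hz₀, fun y hy => ?_⟩, rfl⟩
    have := hc (φ y) ⟨y, hy, rfl⟩
    apply φ.injective
    simpa using this
  · rintro ⟨z₀, hz₀, rfl⟩
    obtain ⟨h1, h2⟩ := mem_ZC.1 hz₀
    refine mem_ZC.2 ⟨⟨z₀, h1, rfl⟩, ?_⟩
    rintro _ ⟨y, hy, rfl⟩
    show φ y * φ z₀ = φ z₀ * φ y
    rw [← map_mul, ← map_mul, h2 y hy]

/-- the image of a Sylow subgroup under an automorphism -/
def sylMap [Finite G] {p : ℕ} [Fact p.Prime] (φ : G ≃* G) (U : Sylow p G) : Sylow p G :=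
  U.mapSurjective (f := φ.toMonoidHom) (show Function.Surjective φ.toMonoidHom from φ.surjective)

theorem coe_sylMap [Finite G] {p : ℕ} [Fact p.Prime] (φ : G ≃* G) (U : Sylow p G) :
    ((sylMap φ U : Sylow p G) : Subgroup G) = (U : Subgroup G).map φ.toMonoidHom := rfl

end zc

section sylow

variable {bar : F →+* F} [Finite F] (hB : BarOK bar) [Fact (ringChar F).Prime]

theorem mem_conj_sylow (P : Sylow (ringChar F) ↥(SUm bar m)) (g h : ↥(SUm bar m)) :
    h ∈ (g⁻¹ • P : Sylow (ringChar F) ↥(SUm bar m)) ↔ g * h * g⁻¹ ∈ P := by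
  show h ∈ ((g⁻¹ • P : Sylow (ringChar F) ↥(SUm bar m)) : Subgroup ↥(SUm bar m)) ↔ _
  rw [Sylow.coe_subgroup_smul, Subgroup.mem_pointwise_smul_iff_inv_smul_mem, ← map_inv, inv_inv,
    MulAut.smul_def, MulAut.conj_apply]
  rfl

theorem RG_map_conj (g : ↥(SUm bar m)) (u : V F m) :
    (RG bar u).map (MulAut.conj (pr bar m g)).toMonoidHom = RG bar (av g u) := by
  ext z
  rw [RG_conj]
  constructor
  · rintro ⟨z₀, hz₀, rfl⟩
    convert hz₀ using 1
    simp [MulAut.conj_apply]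
    group
  · intro hz
    refine ⟨_, hz, ?_⟩
    simp [MulAut.conj_apply]
    group

include hB

/-- the centre of a Sylow `p`-subgroup of the quotient is a root group -/
theorem sylow_center (hm : 1 ≤ m) (U : Sylow (ringChar F) (PG bar m)) :
    ∃ u : V F m, u ≠ 0 ∧ hV bar u u = 0 ∧ ZC (U : Subgroup (PG bar m)) = RG bar u := by
  obtain ⟨P, rfl⟩ := Sylow.mapSurjective_surjective (pr_surj bar m) (ringChar F) U
  obtain ⟨u, hu0, hu, hfix⟩ := exists_fixed_isotropic hB hm P P.2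
  refine ⟨u, hu0, hu, ?_⟩
  obtain ⟨g, a, ha, rfl⟩ := exists_av_ve hB hu0 hu
  -- the conjugate Sylow subgroup fixes `e`
  have hP' : ∀ h ∈ (g⁻¹ • P : Sylow (ringChar F) ↥(SUm bar m)), av h ve = ve := by
    intro h hh
    rw [mem_conj_sylow] at hh
    have h1 := hfix _ hh
    rw [av_smul, av_mul, av_mul, av_inv_av] at h1
    have h2 : av g (av h ve) = av g ve := by
      have := congrArg (fun v => a⁻¹ • v) h1
      simpa [smul_smul, inv_mul_cancel₀ ha] using this
    exact av_injective g h2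
  have hcs := center_sylow_of_fix hB hm (g⁻¹ • P) hP'
  rw [RG_smul hB ha]
  ext z
  rw [mem_ZC, Sylow.coe_mapSurjective]
  constructor
  · rintro ⟨⟨z₀, hz₀, rfl⟩, hc⟩
    have hcen : ∀ y ∈ P, z₀ * y = y * z₀ := by
      intro y hy
      have h1 := hc (pr bar m y) ⟨y, hy, rfl⟩
      rw [← map_mul, ← map_mul] at h1
      exact (eq_of_pr_eq hB (isPel_of_mem P.2 (P.mul_mem hy hz₀))
        (isPel_of_mem P.2 (P.mul_mem hz₀ hy)) h1).symm
    have h2 : g⁻¹ * z₀ * g ∈ Te hB.invol m := by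
      rw [← hcs]
      constructor
      · rw [mem_conj_sylow]
        have e : g * (g⁻¹ * z₀ * g) * g⁻¹ = z₀ := by group
        rw [e]
        exact hz₀
      · intro y hy
        rw [mem_conj_sylow] at hy
        have := hcen _ hy
        calc g⁻¹ * z₀ * g * y = g⁻¹ * (z₀ * (g * y * g⁻¹)) * g := by group
          _ = g⁻¹ * ((g * y * g⁻¹) * z₀) * g := by rw [this]
          _ = y * (g⁻¹ * z₀ * g) := by group
    rw [Te_eq_TV] at h2
    refine ⟨z₀, ?_, rfl⟩
    have := conj_mem_TV g h2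
    have e : g * (g⁻¹ * z₀ * g) * g⁻¹ = z₀ := by group
    rw [e] at this
    exact this
  · rintro ⟨t, ht, rfl⟩
    have ht' : t ∈ TV bar (av g ve) := ht
    have e : g * (g⁻¹ * t * g) * g⁻¹ = t := by group
    have h2 : g⁻¹ * t * g ∈ Te hB.invol m := by
      rw [Te_eq_TV, ← conj_mem_TV_iff g, e]
      exact ht'
    rw [← hcs] at h2
    obtain ⟨h3, h4⟩ := h2
    rw [mem_conj_sylow, e] at h3
    have htP : t ∈ P := h3
    refine ⟨⟨t, htP, rfl⟩, ?_⟩
    rintro _ ⟨y, hy, rfl⟩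
    have hy' : g⁻¹ * y * g ∈ (g⁻¹ • P : Sylow (ringChar F) ↥(SUm bar m)) := by
      rw [mem_conj_sylow]
      have e' : g * (g⁻¹ * y * g) * g⁻¹ = y := by group
      rw [e']
      exact hy
    have h5 := h4 _ hy'
    rw [← map_mul, ← map_mul]
    congr 1
    calc y * t = g * ((g⁻¹ * y * g) * (g⁻¹ * t * g)) * g⁻¹ := by group
      _ = g * ((g⁻¹ * t * g) * (g⁻¹ * y * g)) * g⁻¹ := by rw [h5]
      _ = t * y := by group

/-- every root group is the centre of a Sylow subgroup -/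
theorem exists_sylow_ZC (hm : 1 ≤ m) {u : V F m} (hu0 : u ≠ 0) (hu : hV bar u u = 0) :
    ∃ U : Sylow (ringChar F) (PG bar m), ZC (U : Subgroup (PG bar m)) = RG bar u := by
  obtain ⟨u₁, hu₁0, hu₁, hU₁⟩ := sylow_center hB hm (default : Sylow (ringChar F) (PG bar m))
  obtain ⟨g₁, a₁, ha₁, rfl⟩ := exists_av_ve hB hu₁0 hu₁
  obtain ⟨g, a, ha, rfl⟩ := exists_av_ve hB hu0 hu
  refine ⟨sylMap (MulAut.conj (pr bar m (g * g₁⁻¹)))
    (default : Sylow (ringChar F) (PG bar m)), ?_⟩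
  rw [coe_sylMap]
  have := ZC_map (MulAut.conj (pr bar m (g * g₁⁻¹)))
    ((default : Sylow (ringChar F) (PG bar m)) : Subgroup (PG bar m))
  rw [hU₁, RG_smul hB ha₁, RG_map_conj, av_mul, av_inv_av] at this
  rw [RG_smul hB ha]
  exact this

/-- automorphisms permute the root groups -/
theorem RG_map_aut (hm : 1 ≤ m) (β : PG bar m ≃* PG bar m) {u : V F m} (hu0 : u ≠ 0)
    (hu : hV bar u u = 0) :
    ∃ u' : V F m, u' ≠ 0 ∧ hV bar u' u' = 0 ∧ (RG bar u).map β.toMonoidHom = RG bar u' := by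
  obtain ⟨U, hU⟩ := exists_sylow_ZC hB hm hu0 hu
  obtain ⟨u', hu'0, hu', h⟩ := sylow_center hB hm (sylMap β U)
  refine ⟨u', hu'0, hu', ?_⟩
  rw [coe_sylMap] at h
  rw [← h, ← hU]
  exact (ZC_map β _).symm

end sylow

end

end Cfsg.Agent.Lib.Helper18.PSUMod
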