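/-
helper18: normalised automorphisms of the quotient: they preserve the images of `Pe`, `Pf`,
`Le`, `Qe`, and induce an automorphism of `HS` compatible with the Levi action.
-/
import Mathlib
import Cfsg.Agent.Lib.Helper18.PSUModS

set_option autoImplicit false
set_option linter.unusedSectionVars false
set_option linter.unusedSimpArgs false

namespace Cfsg.Agent.Lib.Helper18.PSUMod

noncomputable section

variable {F : Type*} [Field F] {m : ℕ}

/-- normalised automorphisms: they fix the root groups of `e` and `f` -/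
structure Normd {bar : F →+* F} (β : PG bar m ≃* PG bar m) : Prop where
  fe : (RG bar (ve : V F m)).map β.toMonoidHom = RG bar ve
  ff : (RG bar (vf : V F m)).map β.toMonoidHom = RG bar vf

section normalise

variable {bar : F →+* F} [Finite F] (hB : BarOK bar)

theorem Normd.symm {β : PG bar m ≃* PG bar m} (h : Normd β) : Normd β.symm := by
  constructor
  · conv_lhs => rw [← h.fe]
    rw [Subgroup.map_map]
    convert Subgroup.map_id _
    ext x
    simp
  · conv_lhs => rw [← h.ff]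
    rw [Subgroup.map_map]
    convert Subgroup.map_id _
    ext x
    simp

theorem trans_conj_conj (β : PG bar m ≃* PG bar m) (a b : PG bar m) :
    (β.trans (MulAut.conj a)).trans (MulAut.conj b) = β.trans (MulAut.conj (b * a)) := by
  ext x
  simp [MulAut.conj_apply, mul_assoc]

theorem map_trans_conj (β : PG bar m ≃* PG bar m) (g : ↥(SUm bar m)) (K : Subgroup (PG bar m)) :
    K.map (β.trans (MulAut.conj (pr bar m g))).toMonoidHom =
      (K.map β.toMonoidHom).map (MulAut.conj (pr bar m g)).toMonoidHom := by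
  rw [Subgroup.map_map]
  rfl

include hB

theorem exists_normd [Fact (ringChar F).Prime] (hm : 1 ≤ m) (β : PG bar m ≃* PG bar m) :
    ∃ g : ↥(SUm bar m), Normd (β.trans (MulAut.conj (pr bar m g))) := by
  have hve0 : (ve : V F m) ≠ 0 := by simp [ve]
  have hvf0 : (vf : V F m) ≠ 0 := by simp [vf]
  have hve : hV bar (ve : V F m) ve = 0 := by simp [hV, ve]
  have hvf : hV bar (vf : V F m) vf = 0 := by simp [hV, vf]
  -- first step
  obtain ⟨u₁, hu₁0, hu₁, h1⟩ := RG_map_aut hB hm β hve0 hve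
  obtain ⟨g₁, a₁, ha₁, rfl⟩ := exists_av_ve hB hu₁0 hu₁
  rw [RG_smul hB ha₁] at h1
  set β₁ := β.trans (MulAut.conj (pr bar m g₁⁻¹)) with hβ₁
  have h1' : (RG bar (ve : V F m)).map β₁.toMonoidHom = RG bar ve := by
    rw [hβ₁, map_trans_conj, h1, RG_map_conj, av_inv_av]
  -- second step
  obtain ⟨u₂, hu₂0, hu₂, h2⟩ := RG_map_aut hB hm β₁ hvf0 hvf
  have hfar : u₂.2.2 ≠ 0 := by
    intro h0
    have hperp : hV bar u₂ ve = 0 := by rw [hV_ve_right]; exact h0
    have hcomm : ∀ z ∈ RG bar (vf : V F m), ∀ z' ∈ RG bar (ve : V F m), z * z' = z' * z := by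
      intro z hz z' hz'
      have hz₁ : β₁ z ∈ RG bar u₂ := by rw [← h2]; exact ⟨z, hz, rfl⟩
      have hz₁' : β₁ z' ∈ RG bar (ve : V F m) := by rw [← h1']; exact ⟨z', hz', rfl⟩
      have := RG_comm_of_perp hB hperp hz₁ hz₁'
      apply β₁.injective
      rw [map_mul, map_mul, this]
    have := perp_of_RG_comm hB hvf0 hvf hve0 hve hcomm
    rw [hV_vf_right] at this
    simp [ve] at this
  obtain ⟨x, hx⟩ := exists_EG_of_far hB.invol hu₂ hfar
  rw [hx, RG_smul hB hfar] at h2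
  refine ⟨(EG hB.invol x)⁻¹ * g₁⁻¹, ?_⟩
  rw [map_mul, ← trans_conj_conj, ← hβ₁]
  constructor
  · rw [map_trans_conj, h1', RG_map_conj]
    congr 1
    have := av_EG_ve hB.invol x
    rw [← this, av_inv_av, this]
  · rw [map_trans_conj, h2, RG_map_conj, av_inv_av]

end normalise

section stabilisers

variable {bar : F →+* F} [Finite F] (hB : BarOK bar) [Fact (ringChar F).Prime]
include hB

theorem Zs_le_Pe : Zs bar m ≤ Pe bar m := by
  rintro z ⟨ζ, hz⟩
  exact ⟨ζ, hz ve⟩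

theorem Zs_le_Pf : Zs bar m ≤ Pf bar m := by
  rintro z ⟨ζ, hz⟩
  exact ⟨ζ, hz vf⟩

/-- elements normalising the root group of an isotropic vector stabilise its point -/
theorem smul_of_normalizes {u : V F m} (hu0 : u ≠ 0) (hu : hV bar u u = 0) {g : ↥(SUm bar m)}
    (h : ∀ z ∈ RG bar u, pr bar m g * z * (pr bar m g)⁻¹ ∈ RG bar u) :
    ∃ a : F, av g u = a • u := by
  apply smul_of_RG_le hB (fun h0 => hu0 (av_eq_zero.1 h0)) (by rw [hV_av]; exact hu)
  rw [← RG_map_conj]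
  rintro _ ⟨z, hz, rfl⟩
  exact h z hz

theorem normalizes_of_smul {u : V F m} {g : ↥(SUm bar m)} {a : F} (ha : av g u = a • u)
    (hu0 : u ≠ 0) {z : PG bar m} (hz : z ∈ RG bar u) :
    pr bar m g * z * (pr bar m g)⁻¹ ∈ RG bar u := by
  have ha0 : a ≠ 0 := by
    rintro rfl
    rw [zero_smul] at ha
    exact hu0 (av_eq_zero.1 ha)
  rw [← RG_smul hB ha0, ← ha, ← RG_map_conj]
  exact ⟨z, hz, rfl⟩

variable {β : PG bar m ≃* PG bar m}

/-- an automorphism fixing a root group preserves the stabiliser of its point -/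
theorem beta_stab {u : V F m} (hu0 : u ≠ 0) (hu : hV bar u u = 0)
    (hβ : (RG bar u).map β.toMonoidHom = RG bar u) {g g' : ↥(SUm bar m)}
    (hg : ∃ a : F, av g u = a • u) (hgg' : β (pr bar m g) = pr bar m g') :
    ∃ a : F, av g' u = a • u := by
  obtain ⟨a, ha⟩ := hg
  apply smul_of_normalizes hB hu0 hu
  intro z hz
  rw [← hβ] at hz
  obtain ⟨z₀, hz₀, rfl⟩ := hz
  rw [← hβ]
  refine ⟨pr bar m g * z₀ * (pr bar m g)⁻¹, normalizes_of_smul hB ha hu0 hz₀, ?_⟩
  show β _ = _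
  rw [map_mul, map_mul, map_inv, hgg']
  rfl

theorem beta_Pe (hβ : Normd β) {g g' : ↥(SUm bar m)} (hg : g ∈ Pe bar m)
    (hgg' : β (pr bar m g) = pr bar m g') : g' ∈ Pe bar m :=
  beta_stab hB (by simp [ve]) (by simp [hV, ve]) hβ.fe hg hgg'

theorem beta_Pf (hβ : Normd β) {g g' : ↥(SUm bar m)} (hg : g ∈ Pf bar m)
    (hgg' : β (pr bar m g) = pr bar m g') : g' ∈ Pf bar m :=
  beta_stab hB (by simp [vf]) (by simp [hV, vf]) hβ.ff hg hgg'

theorem beta_Le (hβ : Normd β) {g g' : ↥(SUm bar m)} (hg : g ∈ Le bar m)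
    (hgg' : β (pr bar m g) = pr bar m g') : g' ∈ Le bar m :=
  ⟨beta_Pe hB hβ hg.1 hgg', beta_Pf hB hβ hg.2 hgg'⟩

/-- a normalised automorphism preserves the image of `Qe` -/
theorem beta_Qe (hβ : Normd β) {y : ↥(SUm bar m)}
    (hy : y ∈ Qe hB.invol m) : ∃ y' ∈ Qe hB.invol m, β (pr bar m y) = pr bar m y' := by
  have hβ' := hβ.symm
  let N : Subgroup (PG bar m) := ((Qe hB.invol m).map (pr bar m)).map β.toMonoidHom
  have hN : IsPGroup (ringChar F) N := ((isPGroup_Qe hB.invol).map _).map _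
  obtain ⟨S, hS, hSN⟩ := exists_lift_pgroup N hN
  have hSP : S ≤ Pe bar m := by
    intro s hs
    have h1 : pr bar m s ∈ N := by rw [← hSN]; exact ⟨s, hs, rfl⟩
    obtain ⟨_, ⟨y₀, hy₀, rfl⟩, h2⟩ := h1
    obtain ⟨g', hg'⟩ := pr_surj bar m (β (pr bar m y₀))
    have h3 := beta_Pe hB hβ (Qe_le_Pe hB.invol hy₀) hg'.symm
    have h4 : pr bar m s = pr bar m g' := by rw [hg']; exact h2.symm
    obtain ⟨z, hz, rfl⟩ := (pr_eq_iff hB).1 h4
    exact (Pe bar m).mul_mem h3 (Zs_le_Pe hB hz)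
  have hnorm : ∀ g ∈ Pe bar m, ∀ s ∈ S, g * s * g⁻¹ ∈ S := by
    intro g hg s hs
    have h1 : pr bar m s ∈ N := by rw [← hSN]; exact ⟨s, hs, rfl⟩
    obtain ⟨_, ⟨y₀, hy₀, rfl⟩, h2⟩ := h1
    obtain ⟨g₀, hg₀⟩ := pr_surj bar m (β.symm (pr bar m g))
    have hg₀P : g₀ ∈ Pe bar m := beta_Pe hB hβ' hg hg₀.symm
    have hg₀' : β (pr bar m g₀) = pr bar m g := by rw [hg₀]; simp
    have h3 : pr bar m (g * s * g⁻¹) ∈ N := by
      refine ⟨pr bar m (g₀ * y₀ * g₀⁻¹), ⟨_, Pe_normalizes_Qe hB.invol hg₀P hy₀, rfl⟩, ?_⟩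
      show β _ = _
      rw [map_mul, map_mul, map_inv, map_mul, map_mul, map_inv, hg₀', map_mul, map_mul, map_inv]
      congr 2
    rw [← hSN] at h3
    obtain ⟨s', hs', h4⟩ := h3
    have h5 : IsPel (g * s * g⁻¹) := by
      obtain ⟨k, hk⟩ := isPel_of_mem hS hs
      refine ⟨k, ?_⟩
      rw [conj_pow, hk]; group
    rw [← eq_of_pr_eq hB (isPel_of_mem hS hs') h5 h4]
    exact hs'
  have hSQ := Op_le_Qe hB S hSP hS hnorm
  have h1 : β (pr bar m y) ∈ N := ⟨pr bar m y, ⟨y, hy, rfl⟩, rfl⟩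
  rw [← hSN] at h1
  obtain ⟨s, hs, h2⟩ := h1
  exact ⟨s, hSQ hs, h2.symm⟩

end stabilisers

section theta

variable {bar : F →+* F} [Finite F] (hB : BarOK bar) [Fact (ringChar F).Prime]
include hB

theorem pr_EG_inj {x x' : ↥(HS bar hB.invol m)}
    (h : pr bar m (EG hB.invol x) = pr bar m (EG hB.invol x')) : x = x' := by
  apply EG_injective hB.invol
  exact eq_of_pr_eq hB (isPel_of_mem (isPGroup_Qe hB.invol) ⟨x, rfl⟩)
    (isPel_of_mem (isPGroup_Qe hB.invol) ⟨x', rfl⟩) h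

/-- the automorphism of `HS` induced by a normalised automorphism -/
theorem exists_theta {β : PG bar m ≃* PG bar m} (hβ : Normd β) :
    ∃ θ : ↥(HS bar hB.invol m) ≃* ↥(HS bar hB.invol m),
      ∀ x, β (pr bar m (EG hB.invol x)) = pr bar m (EG hB.invol (θ x)) := by
  have hβ' := hβ.symm
  have h1 : ∀ x : ↥(HS bar hB.invol m), ∃ x' : ↥(HS bar hB.invol m),
      β (pr bar m (EG hB.invol x)) = pr bar m (EG hB.invol x') := by
    intro x
    obtain ⟨y', ⟨x', rfl⟩, h⟩ := beta_Qe hB hβ (y := EG hB.invol x) ⟨x, rfl⟩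
    exact ⟨x', h⟩
  have h2 : ∀ x : ↥(HS bar hB.invol m), ∃ x' : ↥(HS bar hB.invol m),
      β.symm (pr bar m (EG hB.invol x)) = pr bar m (EG hB.invol x') := by
    intro x
    obtain ⟨y', ⟨x', rfl⟩, h⟩ := beta_Qe hB hβ' (y := EG hB.invol x) ⟨x, rfl⟩
    exact ⟨x', h⟩
  choose f hf using h1
  choose f' hf' using h2
  refine ⟨{ toFun := f
            invFun := f'
            left_inv := ?_
            right_inv := ?_
            map_mul' := ?_ }, hf⟩
  · intro x
    apply pr_EG_inj hB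
    rw [← hf', ← hf]
    simp
  · intro x
    apply pr_EG_inj hB
    rw [← hf, ← hf']
    simp
  · intro x x'
    apply pr_EG_inj hB
    rw [← hf, map_mul, map_mul, map_mul, hf, hf, ← map_mul, ← map_mul]

/-- compatibility with the Levi action -/
theorem leviCompat_of {β : PG bar m ≃* PG bar m} (hβ : Normd β)
    {θ : ↥(HS bar hB.invol m) ≃* ↥(HS bar hB.invol m)}
    (hθ : ∀ x, β (pr bar m (EG hB.invol x)) = pr bar m (EG hB.invol (θ x))) :
    LeviCompat hB θ := by
  constructor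
  · intro x hx
    have h1 : EG hB.invol x ∈ TV bar (ve : V F m) := by
      rw [← Te_eq_TV hB.invol]
      exact (mem_Te hB.invol).2 ⟨x, hx, rfl⟩
    have h2 : β (pr bar m (EG hB.invol x)) ∈ RG bar (ve : V F m) := by
      rw [← hβ.fe]
      exact ⟨_, ⟨_, h1, rfl⟩, rfl⟩
    rw [hθ] at h2
    obtain ⟨t, ht, h3⟩ := h2
    have h4 := eq_of_pr_eq hB (isPel_of_mem_TV ht)
      (isPel_of_mem (isPGroup_Qe hB.invol) ⟨θ x, rfl⟩) h3
    rw [h4, ← Te_eq_TV hB.invol] at ht
    obtain ⟨x'', hx'', h5⟩ := (mem_Te hB.invol).1 ht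
    rw [← EG_injective hB.invol h5]
    exact hx''
  · intro l hl
    obtain ⟨l', hl'⟩ := pr_surj bar m (β (pr bar m l))
    refine ⟨l', beta_Le hB hβ hl hl'.symm, fun x => ?_⟩
    have hl'L := beta_Le hB hβ hl hl'.symm
    have h1 : θ ⟨actL l x, actL_mem hB.invol hl x.2⟩ =
        ⟨actL l' (θ x), actL_mem hB.invol hl'L (θ x).2⟩ := by
      apply pr_EG_inj hB
      rw [← hθ, ← Le_conj hB.invol hl, ← Le_conj hB.invol hl'L, map_mul, map_mul, map_inv,
        map_mul, map_mul, map_inv, hθ, ← hl', map_mul, map_mul, map_inv]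
    exact congrArg Subtype.val h1

end theta

end

end Cfsg.Agent.Lib.Helper18.PSUMod
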