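/-
helper18: every automorphism of the quotient of the model group is induced by a semilinear
similitude (given that the root groups generate).
-/
import Mathlib
import Cfsg.Agent.Lib.Helper18.PSUModT

set_option autoImplicit false
set_option linter.unusedSectionVars false
set_option linter.unusedSimpArgs false

namespace Cfsg.Agent.Lib.Helper18.PSUMod

noncomputable section

variable {F : Type*} [Field F] {m : ℕ}

/-- semilinear similitudes of the model space -/
structure SemiSim (bar : F →+* F) (σ : F ≃+* F) (μ : F) (γ : V F m → V F m) : Prop where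
  bij : Function.Bijective γ
  add : ∀ x y, γ (x + y) = γ x + γ y
  smul : ∀ (a : F) x, γ (a • x) = σ a • γ x
  form : ∀ x y, hV bar (γ x) (γ y) = μ * σ (hV bar x y)

/-- the automorphism `β` of the quotient is induced by the map `γ` -/
def Induced {bar : F →+* F} (β : PG bar m ≃* PG bar m) (γ : V F m → V F m) : Prop :=
  ∀ s s' : ↥(SUm bar m), (∀ x, av s' (γ x) = γ (av s x)) → β (pr bar m s) = pr bar m s'

section sub

variable {bar : F →+* F} [Finite F]

/-- the subgroup on which `β` is induced by `γ` -/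
def IndSub (β : PG bar m ≃* PG bar m) (γ : V F m → V F m) : Subgroup ↥(SUm bar m) where
  carrier := {s | ∃ s' : ↥(SUm bar m), (∀ x, av s' (γ x) = γ (av s x)) ∧
    β (pr bar m s) = pr bar m s'}
  mul_mem' := by
    rintro s₁ s₂ ⟨s₁', h1, h1'⟩ ⟨s₂', h2, h2'⟩
    refine ⟨s₁' * s₂', fun x => ?_, by rw [map_mul, map_mul, map_mul, h1', h2']⟩
    rw [av_mul, av_mul, h2, h1]
  one_mem' := ⟨1, fun x => by rw [av_one, av_one], by simp⟩
  inv_mem' := by
    rintro s ⟨s', h1, h1'⟩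
    refine ⟨s'⁻¹, fun x => ?_, by rw [map_inv, map_inv, map_inv, h1']⟩
    have := h1 (av s⁻¹ x)
    rw [av_av_inv] at this
    rw [← this, av_inv_av]

theorem mem_IndSub {β : PG bar m ≃* PG bar m} {γ : V F m → V F m} {s : ↥(SUm bar m)} :
    s ∈ IndSub β γ ↔ ∃ s' : ↥(SUm bar m), (∀ x, av s' (γ x) = γ (av s x)) ∧
      β (pr bar m s) = pr bar m s' := Iff.rfl

theorem induced_of_top {β : PG bar m ≃* PG bar m} {γ : V F m → V F m}
    (hγ : Function.Surjective γ) (h : IndSub β γ = ⊤) : Induced β γ := by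
  intro s s' hs
  have : s ∈ IndSub β γ := by rw [h]; trivial
  obtain ⟨s'', h1, h2⟩ := this
  have : s' = s'' := by
    apply av_ext
    intro y
    obtain ⟨x, rfl⟩ := hγ y
    rw [hs, h1]
  rw [this, h2]

theorem map_conj_map {G : Type*} [Group G] (β : G ≃* G) (a : G) (K : Subgroup G) :
    (K.map (MulAut.conj a).toMonoidHom).map β.toMonoidHom =
      (K.map β.toMonoidHom).map (MulAut.conj (β a)).toMonoidHom := by
  rw [Subgroup.map_map, Subgroup.map_map]
  congr 1
  ext x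
  simp [MulAut.conj_apply]

end sub

section gam

variable {bar : F →+* F} [Finite F] (hB : BarOK bar) [Fact (ringChar F).Prime]

/-- the standard form of the inducing map -/
def gam (σ : F ≃+* F) (μ₀ : F) (A : (Fin m → F) → (Fin m → F)) (v : V F m) : V F m :=
  (μ₀ * σ v.1, A v.2.1, σ v.2.2)

theorem gam_semiSim (hcomm : ∀ (σ : F ≃+* F) (x : F), σ (bar x) = bar (σ x))
    {σ : F ≃+* F} {μ₀ : F} (hμ0 : μ₀ ≠ 0) (hμ₀ : bar μ₀ = μ₀)
    {A : (Fin m → F) → (Fin m → F)} (hAbij : Function.Bijective A)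
    (hAadd : ∀ w w', A (w + w') = A w + A w') (hAsmul : ∀ (a : F) w, A (a • w) = σ a • A w)
    (hAform : ∀ w w', hW bar (A w) (A w') = μ₀ * σ (hW bar w w')) :
    SemiSim bar σ μ₀ (gam σ μ₀ A) := by
  constructor
  · constructor
    · intro x y h
      simp only [gam, Prod.mk.injEq] at h
      obtain ⟨h1, h2, h3⟩ := h
      have h1' : x.1 = y.1 := σ.injective (mul_left_cancel₀ hμ0 h1)
      exact Prod.ext h1' (Prod.ext (hAbij.1 h2) (σ.injective h3))
    · intro y
      obtain ⟨w, hw⟩ := hAbij.2 y.2.1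
      refine ⟨(σ.symm (μ₀⁻¹ * y.1), w, σ.symm y.2.2), ?_⟩
      simp only [gam, RingEquiv.apply_symm_apply, hw]
      rw [← mul_assoc, mul_inv_cancel₀ hμ0, one_mul]
  · intro x y
    simp only [gam, Prod.fst_add, Prod.snd_add, map_add, hAadd, Prod.mk_add_mk, mul_add]
  · intro a x
    simp only [gam, Prod.smul_fst, Prod.smul_snd, smul_eq_mul, map_mul, hAsmul, Prod.smul_mk]
    congr 1
    ring
  · intro x y
    simp only [gam, hV, hAform, map_add, map_mul, hcomm, hμ₀]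
    ring

variable {β : PG bar m ≃* PG bar m}

include hB

/-- elements of the root group of `f` -/
theorem exists_TV_vf {c : F} (hc : c + bar c = 0) :
    ∃ t ∈ TV bar (vf : V F m), ∀ x, av t x = x + (c * x.1) • vf := by
  refine ⟨swC bar (EG hB.invol (zel hB.invol c hc)), ?_, ?_⟩
  · refine ⟨c, hc, by simp [hV, vf], fun x => ?_⟩
    rw [av_swC, av_EG, hV_vf_right]
    simp [zel_w, zel_c, vf]
    ext1
    · simp
    · ext1 <;> simp [mul_comm]
  · intro x
    rw [av_swC, av_EG]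
    simp [zel_w, zel_c, vf]
    ext1
    · simp
    · ext1 <;> simp [mul_comm]

end gam

section main

variable {bar : F →+* F} [Finite F] (hB : BarOK bar) [Fact (ringChar F).Prime]

/-- the data produced by the analysis of a normalised automorphism -/
structure GamData (β : PG bar m ≃* PG bar m)
    (θ : ↥(HS bar hB.invol m) ≃* ↥(HS bar hB.invol m)) (σ : F ≃+* F) (μ₀ : F)
    (A : (Fin m → F) → (Fin m → F)) : Prop where
  nβ : Normd β
  hθ : ∀ x, β (pr bar m (EG hB.invol x)) = pr bar m (EG hB.invol (θ x))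
  frm : ∀ x : ↥(HS bar hB.invol m),
    ((θ x : ↥(HS bar hB.invol m)) : HP bar m) = ⟨A (x : HP bar m).w, μ₀ * σ (x : HP bar m).c⟩
  sim : SemiSim bar σ μ₀ (gam σ μ₀ A)
  hμ0 : μ₀ ≠ 0
  hμ₀ : bar μ₀ = μ₀
  hAadd : ∀ w w', A (w + w') = A w + A w'
  hAsmul : ∀ (a : F) w, A (a • w) = σ a • A w
  hAform : ∀ w w', hW bar (A w) (A w') = μ₀ * σ (hW bar w w')
  hcomm : ∀ x : F, σ (bar x) = bar (σ x)

variable {hB}
variable {β : PG bar m ≃* PG bar m} {θ : ↥(HS bar hB.invol m) ≃* ↥(HS bar hB.invol m)}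
  {σ : F ≃+* F} {μ₀ : F} {A : (Fin m → F) → (Fin m → F)}

theorem GamData.A0 (D : GamData hB β θ σ μ₀ A) : A 0 = 0 := by
  have := D.hAadd 0 0
  rw [add_zero] at this
  exact left_eq_add.1 this

theorem GamData.gam_EG (D : GamData hB β θ σ μ₀ A) (x : ↥(HS bar hB.invol m)) (v : V F m) :
    av (EG hB.invol (θ x)) (gam σ μ₀ A v) = gam σ μ₀ A (av (EG hB.invol x) v) := by
  rw [av_EG, av_EG, D.frm]
  simp only [gam, D.hAadd, D.hAsmul, D.hAform, map_add, map_sub, map_mul, Prod.mk.injEq, and_true]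
  ring

theorem GamData.gam_vf (D : GamData hB β θ σ μ₀ A) : gam σ μ₀ A (vf : V F m) = vf := by
  simp [gam, vf, D.A0]

theorem GamData.gam_ve (D : GamData hB β θ σ μ₀ A) : gam σ μ₀ A (ve : V F m) = μ₀ • ve := by
  simp [gam, ve, D.A0]

theorem GamData.Qe_le (D : GamData hB β θ σ μ₀ A) :
    Qe hB.invol m ≤ IndSub β (gam σ μ₀ A) := by
  rintro _ ⟨x, rfl⟩
  exact ⟨EG hB.invol (θ x), D.gam_EG x, D.hθ x⟩

/-- the root group of `f` -/
theorem GamData.TVf_le (D : GamData hB β θ σ μ₀ A) :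
    TV bar (vf : V F m) ≤ IndSub β (gam σ μ₀ A) := by
  intro t htTV
  obtain ⟨c, hc, -, ht⟩ := htTV
  have ht' : ∀ x, av t x = x + (c * x.1) • vf := by
    intro x
    rw [ht, hV_vf_right]
  by_cases hc0 : c = 0
  · have : t = 1 := by
      apply av_ext
      intro x
      rw [ht', hc0, zero_mul, zero_smul, add_zero, av_one]
    rw [this]
    exact (IndSub β _).one_mem
  have hμinv : bar μ₀⁻¹ = μ₀⁻¹ := by rw [map_inv₀, D.hμ₀]
  have hc' : σ c * μ₀⁻¹ + bar (σ c * μ₀⁻¹) = 0 := by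
    rw [map_mul, hμinv, ← D.hcomm, ← add_mul, ← map_add, hc, map_zero, zero_mul]
  obtain ⟨t', ht'TV, ht'f⟩ := exists_TV_vf hB hc'
  have hconj : ∀ x, av t' (gam σ μ₀ A x) = gam σ μ₀ A (av t x) := by
    intro x
    rw [ht'f, ht', D.sim.add, D.sim.smul, D.gam_vf]
    congr 2
    simp only [gam, map_mul]
    field_simp [D.hμ0]
  refine ⟨t', hconj, ?_⟩
  -- the image of `t`
  have h1 : β (pr bar m t) ∈ RG bar (vf : V F m) := by
    rw [← D.nβ.ff]
    exact ⟨_, ⟨t, ⟨c, hc, by simp [hV, vf], ht⟩, rfl⟩, rfl⟩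
  obtain ⟨t₁, ht₁TV, ht₁⟩ := h1
  rw [← ht₁]
  congr 1
  -- the far point `t e`
  have hu : hV bar (av t ve) (av t (ve : V F m)) = 0 := by rw [hV_av]; simp [hV, ve]
  have hfar : (av t (ve : V F m)).2.2 ≠ 0 := by
    rw [ht']
    simpa [ve, vf] using hc0
  obtain ⟨y, hy⟩ := exists_EG_of_far hB.invol hu hfar
  have E1 : RG bar (av t₁ (ve : V F m)) = RG bar (av (EG hB.invol (θ y)) (vf : V F m)) := by
    rw [← RG_map_conj, ht₁, ← D.nβ.fe, ← map_conj_map, RG_map_conj, hy, RG_smul hB hfar,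
      ← RG_map_conj, map_conj_map, D.nβ.ff, D.hθ, RG_map_conj]
  have hne0 : av t₁ (ve : V F m) ≠ 0 := fun h => by
    have := av_eq_zero.1 h
    simp [ve] at this
  obtain ⟨a, ha⟩ := smul_of_RG_le hB hne0 (by rw [hV_av]; simp [hV, ve]) (le_of_eq E1)
  -- the point `t' e`
  have h2 : av t' (ve : V F m) = (μ₀⁻¹ * σ (av t (ve : V F m)).2.2) •
      av (EG hB.invol (θ y)) (vf : V F m) := by
    have h3 := hconj ve
    rw [D.gam_ve, av_smul] at h3
    have h4 : gam σ μ₀ A (av t ve) = σ (av t (ve : V F m)).2.2 •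
        av (EG hB.invol (θ y)) (vf : V F m) := by
      conv_lhs => rw [hy]
      rw [D.sim.smul, ← D.gam_EG, D.gam_vf]
    rw [h4] at h3
    have := congrArg (fun v => μ₀⁻¹ • v) h3
    simpa [smul_smul, inv_mul_cancel₀ D.hμ0] using this
  have ha' : μ₀⁻¹ * σ (av t (ve : V F m)).2.2 ≠ 0 :=
    mul_ne_zero (inv_ne_zero D.hμ0) (fun h => hfar ((map_eq_zero σ).1 h))
  have h5 : av t₁ (ve : V F m) = (a * (μ₀⁻¹ * σ (av t (ve : V F m)).2.2)⁻¹) • av t' (ve : V F m) := by
    rw [h2, smul_smul, mul_assoc, inv_mul_cancel₀ ha', mul_one, ha]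
  obtain ⟨c₁, -, -, ht₁f⟩ := ht₁TV
  rw [ht₁f, ht'f, hV_vf_right] at h5
  have h6 := congrArg Prod.fst h5
  have h7 := congrArg (fun v : V F m => v.2.2) h5
  simp [ve, vf] at h6 h7
  rw [← h6, one_mul] at h7
  apply av_ext
  intro x
  rw [ht₁f, ht'f, hV_vf_right, h7]

/-- root groups of far points -/
theorem GamData.far_le (D : GamData hB β θ σ μ₀ A) {u : V F m} (hu : hV bar u u = 0)
    (hfar : u.2.2 ≠ 0) : TV bar u ≤ IndSub β (gam σ μ₀ A) := by
  obtain ⟨y, hy⟩ := exists_EG_of_far hB.invol hu hfar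
  intro t ht
  rw [hy, TV_smul hB.invol hfar] at ht
  have h1 : (EG hB.invol y)⁻¹ * t * EG hB.invol y ∈ TV bar (vf : V F m) := by
    rw [← conj_mem_TV_iff (EG hB.invol y)]
    have e : EG hB.invol y * ((EG hB.invol y)⁻¹ * t * EG hB.invol y) * (EG hB.invol y)⁻¹ = t := by
      group
    rw [e]
    exact ht
  have h2 := D.TVf_le h1
  have h3 : EG hB.invol y ∈ IndSub β (gam σ μ₀ A) := D.Qe_le ⟨y, rfl⟩
  have e : t = EG hB.invol y * ((EG hB.invol y)⁻¹ * t * EG hB.invol y) * (EG hB.invol y)⁻¹ := by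
    group
  rw [e]
  exact (IndSub β _).mul_mem ((IndSub β _).mul_mem h3 h2) ((IndSub β _).inv_mem h3)

/-- all root groups -/
theorem GamData.TV_le (D : GamData hB β θ σ μ₀ A) {u : V F m} (hu0 : u ≠ 0)
    (hu : hV bar u u = 0) : TV bar u ≤ IndSub β (gam σ μ₀ A) := by
  by_cases hfar : u.2.2 = 0
  swap
  · exact D.far_le hu hfar
  by_cases hw : u.2.1 = 0
  · -- a multiple of `e`
    have h1 : u = u.1 • ve := by
      obtain ⟨a, w, b⟩ := u
      simp only at hfar hw
      simp [ve, hfar, hw]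
    have h10 : u.1 ≠ 0 := by
      intro h
      apply hu0
      rw [h1, h, zero_smul]
    rw [h1, TV_smul hB.invol h10, ← Te_eq_TV hB.invol]
    exact (Te_le_Qe hB.invol).trans D.Qe_le
  -- a far isotropic vector not orthogonal to `u`
  obtain ⟨v, hv0, hv, hvfar, huv⟩ : ∃ v : V F m, v ≠ 0 ∧ hV bar v v = 0 ∧ v.2.2 ≠ 0 ∧
      hV bar u v ≠ 0 := by
    by_cases h1 : u.1 = 0
    · obtain ⟨w', hw'⟩ : ∃ w', hW bar u.2.1 w' ≠ 0 := by
        by_contra hcon
        push Not at hcon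
        exact hw (eq_zero_of_hW_right bar hcon)
      obtain ⟨y, hy⟩ := exists_HS (m := m) hB w'
      refine ⟨av (EG hB.invol y) vf, fun h => ?_, by rw [hV_av]; simp [hV, vf], ?_, ?_⟩
      · have := av_eq_zero.1 h
        simp [vf] at this
      · rw [av_EG_vf]; simp
      · rw [av_EG_vf]
        simp only [hV, h1, hfar, hy, zero_mul, map_one, mul_one, zero_add]
        exact hw'
    · refine ⟨vf, by simp [vf], by simp [hV, vf], by simp [vf], ?_⟩
      rw [hV_vf_right]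
      exact h1
  obtain ⟨t₀, ht₀, ht₀1⟩ := exists_TV_ne_one hB hv0 hv
  have hmove := TV_moves hB hv ht₀ ht₀1 huv
  have ht₀mem := ht₀
  obtain ⟨c₀, -, -, ht₀f⟩ := ht₀
  have hfar' : (av t₀ u).2.2 ≠ 0 := by
    rw [ht₀f]
    simp only [Prod.snd_add, Prod.smul_snd, hfar, zero_add, smul_eq_mul]
    intro h
    apply hmove
    refine ⟨1, ?_⟩
    rw [ht₀f, one_smul]
    rcases mul_eq_zero.1 h with h' | h'
    · rw [h', zero_smul, add_zero]
    · exact absurd h' hvfar
  have ht₀' : t₀ ∈ IndSub β (gam σ μ₀ A) := D.far_le hv hvfar ht₀mem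
  intro t ht
  have h1 : t₀ * t * t₀⁻¹ ∈ IndSub β (gam σ μ₀ A) :=
    D.far_le (by rw [hV_av]; exact hu) hfar' (conj_mem_TV t₀ ht)
  have e : t = t₀⁻¹ * (t₀ * t * t₀⁻¹) * t₀ := by group
  rw [e]
  exact (IndSub β _).mul_mem ((IndSub β _).mul_mem ((IndSub β _).inv_mem ht₀') h1) ht₀'

/-- the final statement for normalised automorphisms -/
theorem GamData.induced (D : GamData hB β θ σ μ₀ A)
    (hgen : ∀ H : Subgroup ↥(SUm bar m),
      (∀ u : V F m, u ≠ 0 → hV bar u u = 0 → TV bar u ≤ H) → H = ⊤) :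
    Induced β (gam σ μ₀ A) :=
  induced_of_top D.sim.bij.2 (hgen _ fun _ hu0 hu => D.TV_le hu0 hu)

end main

end

end Cfsg.Agent.Lib.Helper18.PSUMod
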