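/-
helper18: the main theorem on the model: every automorphism of the quotient of the model group by
its centre is induced by a semilinear similitude.
-/
import Mathlib
import Cfsg.Agent.Lib.Helper18.PSUModU

set_option autoImplicit false
set_option linter.unusedSectionVars false
set_option linter.unusedSimpArgs false

namespace Cfsg.Agent.Lib.Helper18.PSUMod

noncomputable section

variable {F : Type*} [Field F] {m : ℕ}

section main

variable {bar : F →+* F} [Finite F] (hB : BarOK bar)
include hB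

theorem model_main (hcomm : ∀ (σ : F ≃+* F) (x : F), σ (bar x) = bar (σ x)) (hm : 1 ≤ m)
    (h3 : m = 1 → ∃ l : F, bar l ^ 3 ≠ l ^ 3)
    (hgen : ∀ H : Subgroup ↥(SUm bar m),
      (∀ u : V F m, u ≠ 0 → hV bar u u = 0 → TV bar u ≤ H) → H = ⊤)
    (β : PG bar m ≃* PG bar m) :
    ∃ (σ : F ≃+* F) (μ : F) (γ : V F m → V F m), μ ≠ 0 ∧ bar μ = μ ∧ SemiSim bar σ μ γ ∧
      Induced β γ := by
  have := ringChar.charP F
  have : Fact (ringChar F).Prime := ⟨CharP.char_is_prime F _⟩
  obtain ⟨g, hN⟩ := exists_normd hB hm β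
  set β₂ := β.trans (MulAut.conj (pr bar m g)) with hβ₂
  obtain ⟨θ, hθ⟩ := exists_theta hB hN
  have hLC := leviCompat_of hB hN hθ
  have hθ' : ∀ x, β₂.symm (pr bar m (EG hB.invol x)) = pr bar m (EG hB.invol (θ.symm x)) := by
    intro x
    have := hθ (θ.symm x)
    rw [MulEquiv.apply_symm_apply] at this
    rw [← this, MulEquiv.symm_apply_apply]
  have hLC' := leviCompat_of hB hN.symm hθ'
  obtain ⟨σ, μ₀, hμ0, hμ₀, hsmul, hadd, hform, hfrm⟩ := exists_formula hcomm hm h3 hLC hLC'
  have hθs : LeviCompat hB θ.symm.symm := by simpa using hLC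
  have hAbij : Function.Bijective (Amap hB θ) := by
    constructor
    · intro w w' h
      have := congrArg (Amap hB θ.symm) h
      rwa [Amap_symm hLC hLC', Amap_symm hLC hLC'] at this
    · intro w
      refine ⟨Amap hB θ.symm w, ?_⟩
      have := Amap_symm hLC' hθs w
      simpa using this
  have D : GamData hB β₂ θ σ μ₀ (Amap hB θ) :=
    ⟨hN, hθ, hfrm, gam_semiSim hcomm hμ0 hμ₀ hAbij hadd hsmul hform, hμ0, hμ₀, hadd, hsmul, hform,
      hcomm σ⟩
  have hI := D.induced hgen
  refine ⟨σ, μ₀, fun x => av g⁻¹ (gam σ μ₀ (Amap hB θ) x), hμ0, hμ₀, ?_, ?_⟩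
  · constructor
    · constructor
      · intro x y h
        exact D.sim.bij.1 (av_injective _ h)
      · intro y
        obtain ⟨x, hx⟩ := D.sim.bij.2 (av g y)
        exact ⟨x, by show av g⁻¹ (gam σ μ₀ (Amap hB θ) x) = y; rw [hx, av_inv_av]⟩
    · intro x y
      show av g⁻¹ (gam σ μ₀ (Amap hB θ) (x + y)) = _
      rw [D.sim.add, av_add]
    · intro a x
      show av g⁻¹ (gam σ μ₀ (Amap hB θ) (a • x)) = _
      rw [D.sim.smul, av_smul]
    · intro x y
      show hV bar (av g⁻¹ _) (av g⁻¹ _) = _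
      rw [hV_av, D.sim.form]
  · intro s s' h
    have h1 : ∀ x, av (g * s' * g⁻¹) (gam σ μ₀ (Amap hB θ) x) =
        gam σ μ₀ (Amap hB θ) (av s x) := by
      intro x
      rw [av_mul, av_mul, h, av_av_inv]
    have h2 := hI s (g * s' * g⁻¹) h1
    rw [hβ₂] at h2
    simp only [MulEquiv.trans_apply, MulAut.conj_apply, map_mul, map_inv] at h2
    have h3' : β (pr bar m s) = (pr bar m g)⁻¹ * (pr bar m g * β (pr bar m s) * (pr bar m g)⁻¹) *
        pr bar m g := by group
    rw [h3', h2]
    group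

end main

end

end Cfsg.Agent.Lib.Helper18.PSUMod
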