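/-
helper18: transport between the standard special unitary group `Cfsg.SU (m+2) F q` and the
model group `SUm bar m`.
-/
import Mathlib
import Cfsg.Prelude.Def_Classical
import Cfsg.Agent.Lib.Helper18.PSUModV

set_option autoImplicit false
set_option linter.unusedSectionVars false
set_option linter.unusedSimpArgs false

namespace Cfsg.Agent.Lib.Helper18.PSUMod

noncomputable section

variable {F : Type*} [Field F] {m : ℕ}

section conj

variable {U W : Type*} [AddCommGroup U] [Module F U] [AddCommGroup W] [Module F W]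

/-- conjugation of linear automorphisms by a linear equivalence -/
def cjE (Φ : U ≃ₗ[F] W) : (U ≃ₗ[F] U) ≃* (W ≃ₗ[F] W) where
  toFun g := (Φ.symm.trans g).trans Φ
  invFun g := (Φ.trans g).trans Φ.symm
  left_inv g := by ext x; simp
  right_inv g := by ext x; simp
  map_mul' g h := by ext x; simp [LinearEquiv.mul_apply]

theorem cjE_apply (Φ : U ≃ₗ[F] W) (g : U ≃ₗ[F] U) (x : W) : cjE Φ g x = Φ (g (Φ.symm x)) := rfl

theorem cjE_apply' (Φ : U ≃ₗ[F] W) (g : U ≃ₗ[F] U) (x : U) : cjE Φ g (Φ x) = Φ (g x) := by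
  rw [cjE_apply, LinearEquiv.symm_apply_apply]

theorem cjE_symm_apply (Φ : U ≃ₗ[F] W) (g : W ≃ₗ[F] W) (x : U) :
    (cjE Φ).symm g x = Φ.symm (g (Φ x)) := rfl

theorem det_cjE (Φ : U ≃ₗ[F] W) (g : U ≃ₗ[F] U) :
    LinearEquiv.det (cjE Φ g) = LinearEquiv.det g := by
  apply Units.ext
  rw [LinearEquiv.coe_det, LinearEquiv.coe_det]
  have := LinearMap.det_conj (g : U →ₗ[F] U) Φ
  rw [← this]
  congr 1

end conj

section phi

variable (bar : F →+* F)

/-- the coordinate change to the model space -/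
def PhiLin (ζ τ : F) : (Fin (m + 2) → F) →ₗ[F] V F m where
  toFun x := (τ * x 0 - bar τ * ζ * x 1, fun i => x i.succ.succ, x 0 + ζ * x 1)
  map_add' x y := by
    simp only [Pi.add_apply, Prod.mk_add_mk, Prod.mk.injEq]
    refine ⟨by ring, rfl, by ring⟩
  map_smul' a x := by
    simp only [Pi.smul_apply, smul_eq_mul, RingHom.id_apply, Prod.smul_mk, Prod.mk.injEq]
    refine ⟨by ring, rfl, by ring⟩

/-- the inverse coordinate change -/
def PhiInv (ζ τ : F) : V F m →ₗ[F] (Fin (m + 2) → F) where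
  toFun v := Fin.cons (v.1 + bar τ * v.2.2) (Fin.cons (ζ⁻¹ * (τ * v.2.2 - v.1)) v.2.1)
  map_add' x y := by
    funext i
    refine Fin.cases ?_ (fun i => ?_) i
    · simp only [Fin.cons_zero, Pi.add_apply, Prod.fst_add, Prod.snd_add]; ring
    · refine Fin.cases ?_ (fun i => ?_) i
      · simp only [Fin.cons_succ, Fin.cons_zero, Pi.add_apply, Prod.fst_add, Prod.snd_add]; ring
      · simp only [Fin.cons_succ, Pi.add_apply, Prod.snd_add, Prod.fst_add]
  map_smul' a x := by
    funext i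
    refine Fin.cases ?_ (fun i => ?_) i
    · simp only [Fin.cons_zero, Pi.smul_apply, Prod.smul_fst, Prod.smul_snd, smul_eq_mul,
        RingHom.id_apply]; ring
    · refine Fin.cases ?_ (fun i => ?_) i
      · simp only [Fin.cons_succ, Fin.cons_zero, Pi.smul_apply, Prod.smul_fst, Prod.smul_snd,
          smul_eq_mul, RingHom.id_apply]; ring
      · simp only [Fin.cons_succ, Pi.smul_apply, Prod.smul_snd, Prod.smul_fst, smul_eq_mul,
          RingHom.id_apply]

variable {bar}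

/-- the coordinate change as a linear equivalence -/
def Phi {ζ τ : F} (hζ : ζ ≠ 0) (hτ : τ + bar τ = 1) : (Fin (m + 2) → F) ≃ₗ[F] V F m :=
  LinearEquiv.ofLinearMap (PhiLin bar ζ τ) (PhiInv bar ζ τ)
    (by
      apply LinearMap.ext
      rintro ⟨a, w, b⟩
      rw [LinearMap.comp_apply, LinearMap.id_apply]
      show ((_ : F), (_ : Fin m → F), (_ : F)) = _
      rw [Prod.mk.injEq, Prod.mk.injEq]
      refine ⟨?_, ?_, ?_⟩
      · show τ * (a + bar τ * b) - bar τ * ζ * (ζ⁻¹ * (τ * b - a)) = a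
        field_simp
        linear_combination a * hτ
      · funext i
        rfl
      · show a + bar τ * b + ζ * (ζ⁻¹ * (τ * b - a)) = b
        field_simp
        linear_combination b * hτ)
    (by
      apply LinearMap.ext
      intro x
      rw [LinearMap.comp_apply, LinearMap.id_apply]
      funext i
      refine Fin.cases ?_ (fun i => ?_) i
      · show τ * x 0 - bar τ * ζ * x 1 + bar τ * (x 0 + ζ * x 1) = x 0
        linear_combination x 0 * hτ
      · refine Fin.cases ?_ (fun i => ?_) i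
        · show ζ⁻¹ * (τ * (x 0 + ζ * x 1) - (τ * x 0 - bar τ * ζ * x 1)) = x 1
          have : τ * (x 0 + ζ * x 1) - (τ * x 0 - bar τ * ζ * x 1) = ζ * x 1 := by
            linear_combination (ζ * x 1) * hτ
          rw [this, inv_mul_cancel_left₀ hζ]
        · rfl)

theorem Phi_apply {ζ τ : F} (hζ : ζ ≠ 0) (hτ : τ + bar τ = 1) (x : Fin (m + 2) → F) :
    Phi hζ hτ x = (τ * x 0 - bar τ * ζ * x 1, fun i => x i.succ.succ, x 0 + ζ * x 1) := rfl

theorem hV_Phi {bar : F →+* F} {q : ℕ} (hbar : ∀ x, bar x = x ^ q) (hinv : ∀ x, bar (bar x) = x)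
    {ζ τ : F} (hζ : ζ ≠ 0) (hτ : τ + bar τ = 1)
    (hN : ζ * bar ζ = -1) (x y : Fin (m + 2) → F) :
    hV bar (Phi hζ hτ x) (Phi hζ hτ y) = Cfsg.hermForm (m + 2) F q x y := by
  unfold Cfsg.hermForm
  rw [Fin.sum_univ_succ, Fin.sum_univ_succ]
  simp only [Phi_apply, hV, hW, ← hbar, map_add, map_sub, map_mul, hinv]
  have h1 : (Fin.succ 0 : Fin (m + 2)) = 1 := rfl
  rw [h1]
  linear_combination (x 0 * bar (y 0) + x 1 * bar (y 1)) * hτ -
    (x 1 * bar (y 1) * (τ + bar τ)) * hN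

end phi

section psi

variable {q : ℕ} {bar : F →+* F} (hbar : ∀ x, bar x = x ^ q) (hinv : ∀ x, bar (bar x) = x)
  {ζ τ : F} (hζ : ζ ≠ 0) (hτ : τ + bar τ = 1) (hN : ζ * bar ζ = -1)

/-- the homomorphism from the special linear group to the automorphisms of the model space -/
def PsiHom : Matrix.SpecialLinearGroup (Fin (m + 2)) F →* (V F m ≃ₗ[F] V F m) :=
  (cjE (Phi hζ hτ)).toMonoidHom.comp Matrix.SpecialLinearGroup.toLin'

theorem PsiHom_apply (A : Matrix.SpecialLinearGroup (Fin (m + 2)) F) (x : Fin (m + 2) → F) :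
    PsiHom hζ hτ A (Phi hζ hτ x) =
      Phi hζ hτ ((A : Matrix (Fin (m + 2)) (Fin (m + 2)) F).mulVec x) := by
  show cjE (Phi hζ hτ) (Matrix.SpecialLinearGroup.toLin' A) (Phi hζ hτ x) = _
  rw [cjE_apply', Matrix.SpecialLinearGroup.toLin'_apply, Matrix.toLin'_apply]

theorem PsiHom_injective : Function.Injective (PsiHom (m := m) hζ hτ) := by
  intro A B h
  have h1 : Matrix.SpecialLinearGroup.toLin' A = Matrix.SpecialLinearGroup.toLin' B :=
    (cjE (Phi hζ hτ)).injective h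
  exact Matrix.SpecialLinearGroup.toLin'_injective h1

theorem det_PsiHom (A : Matrix.SpecialLinearGroup (Fin (m + 2)) F) :
    LinearEquiv.det (PsiHom hζ hτ A) = 1 := by
  show LinearEquiv.det (cjE (Phi hζ hτ) (Matrix.SpecialLinearGroup.toLin' A)) = 1
  rw [det_cjE]
  apply Units.ext
  rw [LinearEquiv.coe_det, Matrix.SpecialLinearGroup.toLin'_to_linearMap, LinearMap.det_toLin',
    A.det_coe, Units.val_one]

include hbar hinv hN

theorem PsiHom_mem {A : Matrix.SpecialLinearGroup (Fin (m + 2)) F}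
    (hA : A ∈ Cfsg.SU (m + 2) F q) : PsiHom hζ hτ A ∈ SUm bar m := by
  rw [mem_SUm]
  refine ⟨fun X Y => ?_, det_PsiHom hζ hτ A⟩
  obtain ⟨x, rfl⟩ := (Phi hζ hτ).surjective X
  obtain ⟨y, rfl⟩ := (Phi hζ hτ).surjective Y
  rw [PsiHom_apply, PsiHom_apply, hV_Phi hbar hinv hζ hτ hN, hV_Phi hbar hinv hζ hτ hN]
  exact hA x y

/-- the restriction to the special unitary group -/
def PsiSU : ↥(Cfsg.SU (m + 2) F q) →* ↥(SUm bar m) :=
  ((PsiHom hζ hτ).comp (Cfsg.SU (m + 2) F q).subtype).codRestrict (SUm bar m)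
    (fun s => PsiHom_mem hbar hinv hζ hτ hN s.2)

theorem PsiSU_av (s : ↥(Cfsg.SU (m + 2) F q)) (x : Fin (m + 2) → F) :
    av (PsiSU hbar hinv hζ hτ hN s) (Phi hζ hτ x) =
      Phi hζ hτ (((s : Matrix.SpecialLinearGroup (Fin (m + 2)) F) :
        Matrix (Fin (m + 2)) (Fin (m + 2)) F).mulVec x) :=
  PsiHom_apply hζ hτ _ x

theorem PsiSU_bijective : Function.Bijective (PsiSU (m := m) hbar hinv hζ hτ hN) := by
  constructor
  · intro s s' h
    have h1 := congrArg Subtype.val h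
    exact Subtype.ext (PsiHom_injective hζ hτ h1)
  · rintro ⟨g, hg⟩
    rw [mem_SUm] at hg
    obtain ⟨hgU, hgdet⟩ := hg
    let L : (Fin (m + 2) → F) ≃ₗ[F] (Fin (m + 2) → F) := (cjE (Phi hζ hτ)).symm g
    have hL : cjE (Phi hζ hτ) L = g := (cjE (Phi hζ hτ)).apply_symm_apply g
    have hLdet : LinearEquiv.det L = 1 := by
      rw [← det_cjE (Phi hζ hτ), hL, hgdet]
    let M : Matrix (Fin (m + 2)) (Fin (m + 2)) F := LinearMap.toMatrix' (L : _ →ₗ[F] _)
    have hM : M.det = 1 := by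
      show (LinearMap.toMatrix' (L : (Fin (m + 2) → F) →ₗ[F] _)).det = 1
      rw [LinearMap.det_toMatrix', ← LinearEquiv.coe_det, hLdet, Units.val_one]
    have hMv : ∀ x, M.mulVec x = L x := by
      intro x
      show (LinearMap.toMatrix' (L : (Fin (m + 2) → F) →ₗ[F] _)).mulVec x = L x
      rw [← Matrix.toLin'_apply, Matrix.toLin'_toMatrix']
      rfl
    have hLΦ : ∀ x, Phi hζ hτ (L x) = g (Phi hζ hτ x) := by
      intro x
      show Phi hζ hτ ((Phi hζ hτ).symm (g (Phi hζ hτ x))) = _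
      rw [LinearEquiv.apply_symm_apply]
    let A : Matrix.SpecialLinearGroup (Fin (m + 2)) F := ⟨M, hM⟩
    have hSU : A ∈ Cfsg.SU (m + 2) F q := by
      intro u v
      show Cfsg.hermForm (m + 2) F q (M.mulVec u) (M.mulVec v) = _
      rw [hMv, hMv, ← hV_Phi hbar hinv hζ hτ hN, hLΦ, hLΦ, hgU, hV_Phi hbar hinv hζ hτ hN]
    refine ⟨⟨A, hSU⟩, ?_⟩
    apply Subtype.ext
    show PsiHom hζ hτ A = g
    apply LinearEquiv.ext
    intro X
    obtain ⟨x, rfl⟩ := (Phi hζ hτ).surjective X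
    rw [PsiHom_apply]
    show Phi hζ hτ (M.mulVec x) = _
    rw [hMv, hLΦ]

/-- the isomorphism between the standard and the model special unitary groups -/
def Psi : ↥(Cfsg.SU (m + 2) F q) ≃* ↥(SUm bar m) :=
  MulEquiv.ofBijective (PsiSU hbar hinv hζ hτ hN) (PsiSU_bijective hbar hinv hζ hτ hN)

theorem Psi_av (s : ↥(Cfsg.SU (m + 2) F q)) (x : Fin (m + 2) → F) :
    av (Psi hbar hinv hζ hτ hN s) (Phi hζ hτ x) =
      Phi hζ hτ (((s : Matrix.SpecialLinearGroup (Fin (m + 2)) F) :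
        Matrix (Fin (m + 2)) (Fin (m + 2)) F).mulVec x) :=
  PsiSU_av hbar hinv hζ hτ hN s x

end psi

end

end Cfsg.Agent.Lib.Helper18.PSUMod
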