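/-
helper18: the hypotheses of the model theorem for the `q`-th power map; transport of the
generation by transvections; the isomorphism `PSU ≃ PG`.
-/
import Mathlib
import Cfsg.Prelude.Def_Classical
import Cfsg.Prelude.Def_LieClassical
import Cfsg.Agent.Lib.Helper5.HermBridge
import Cfsg.Agent.Lib.Helper5.SUGen
import Cfsg.Agent.Lib.Helper18.PSUModW

set_option autoImplicit false
set_option linter.unusedSectionVars false
set_option linter.unusedSimpArgs false
set_option linter.unusedVariables false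

namespace Cfsg.Agent.Lib.Helper18.PSUMod

open Cfsg.Agent.Lib.Helper5.HermBridge Cfsg.Agent.Lib.Helper5.UForm

noncomputable section

variable {F : Type*} [Field F] [Fintype F] {q : ℕ} {m : ℕ}

theorem barOK_frob (hF : Fintype.card F = q ^ 2) : BarOK (frobHom hF) := by
  have hU := herm_unitary (n := 1) hF
  have hinv : ∀ a, frobQ hF (frobQ hF a) = a := hU.involutive
  have hne := hU.ne_refl
  refine ⟨fun x => pow_q_pow_q hF x, ?_, ?_, ?_, ?_⟩
  · intro r hr
    exact tr_surj hinv hne r hr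
  · obtain ⟨c, hc0, hc⟩ := exists_skew hinv hne
    refine ⟨c, hc0, ?_⟩
    have : frobHom hF c = -c := hc
    rw [this]; ring
  · intro r hr0 hr
    exact norm_surj hinv hne r hr0 hr
  · exact exists_moved hne

theorem frob_comm (hF : Fintype.card F = q ^ 2) (σ : F ≃+* F) (x : F) :
    σ (frobHom hF x) = frobHom hF (σ x) := map_pow σ x q

theorem frob_apply (hF : Fintype.card F = q ^ 2) (x : F) : frobHom hF x = x ^ q := rfl

theorem frob_h3 (hF : Fintype.card F = q ^ 2) (hq : q ≠ 2) :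
    ∃ l : F, frobHom hF l ^ 3 ≠ l ^ 3 := by
  classical
  by_contra hcon
  push Not at hcon
  have hq2 := Cfsg.Agent.Lib.Helper14.herm_two_le hF
  obtain ⟨g, hg⟩ := IsCyclic.exists_generator (α := Fˣ)
  have hord : orderOf g = q ^ 2 - 1 := by
    rw [orderOf_eq_card_of_forall_mem_zpowers hg, Nat.card_eq_fintype_card, Fintype.card_units, hF]
  have h1 : g ^ (3 * q - 3) = 1 := by
    have h2 := hcon (g : F)
    rw [frob_apply, ← pow_mul] at h2
    have h3 : g ^ (q * 3) = g ^ 3 := by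
      apply Units.ext
      push_cast
      exact h2
    have h4 : q * 3 = (3 * q - 3) + 3 := by omega
    rw [h4, pow_add] at h3
    exact mul_eq_right.1 h3
  have h5 := orderOf_dvd_of_pow_eq_one h1
  rw [hord] at h5
  obtain ⟨k, rfl⟩ : ∃ k, q = k + 2 := ⟨q - 2, by omega⟩
  have e1 : (k + 2) ^ 2 - 1 = (k + 1) * (k + 3) := by
    have : (k + 2) ^ 2 = (k + 1) * (k + 3) + 1 := by ring
    omega
  have e2 : 3 * (k + 2) - 3 = (k + 1) * 3 := by omega
  rw [e1, e2] at h5
  have h6 := Nat.dvd_of_mul_dvd_mul_left (by omega : 0 < k + 1) h5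
  have h7 := Nat.le_of_dvd (by omega) h6
  omega

/-- the constants of the coordinate change -/
theorem exists_consts (hF : Fintype.card F = q ^ 2) :
    ∃ ζ τ : F, ζ ≠ 0 ∧ τ + frobHom hF τ = 1 ∧ ζ * frobHom hF ζ = -1 := by
  have hB := barOK_frob hF
  obtain ⟨τ, hτ⟩ := hB.tr 1 (map_one _)
  obtain ⟨ζ, hζ⟩ := hB.nm (-1) (neg_ne_zero.2 one_ne_zero) (by rw [map_neg, map_one])
  refine ⟨ζ, τ, ?_, hτ, hζ⟩
  rintro rfl
  rw [zero_mul] at hζ
  exact (neg_ne_zero.2 one_ne_zero) hζ.symm

section skew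

variable {bar : F →+* F} (hb : ∀ x, bar (bar x) = x)
include hb

/-- the parameter of a transvection in the isometry group is skew -/
theorem skew_of_transv {g : ↥(SUm bar m)} {u : V F m} (hu0 : u ≠ 0) (hu : hV bar u u = 0) {c : F}
    (hg : ∀ x, av g x = x + (c * hV bar x u) • u) : c + bar c = 0 := by
  obtain ⟨y, hy⟩ : ∃ y, hV bar u y ≠ 0 := by
    by_contra hcon
    push Not at hcon
    exact hu0 (eq_zero_of_hV_right bar hcon)
  have hy' : hV bar y u ≠ 0 := by
    rw [← hV_conj hb]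
    exact fun h => hy ((map_eq_zero bar).1 h)
  have h1 := hV_av g y y
  rw [hg, hV_add_left, hV_add_right, hV_add_right, hV_smul_left, hV_smul_left, hV_smul_right,
    hV_smul_right, hu, ← hV_conj hb y u, map_mul] at h1
  have h2 : (c + bar c) * (hV bar y u * bar (hV bar y u)) = 0 := by
    linear_combination h1
  rcases mul_eq_zero.1 h2 with h | h
  · exact h
  · exfalso
    rcases mul_eq_zero.1 h with h' | h'
    · exact hy' h'
    · exact hy' ((map_eq_zero bar).1 h')

end skew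

section transport

variable (hF : Fintype.card F = q ^ 2) {ζ τ : F} (hζ : ζ ≠ 0)
  (hτ : τ + frobHom hF τ = 1) (hN : ζ * frobHom hF ζ = -1)

/-- the isomorphism between the standard and the model special unitary groups -/
def PsiF : ↥(Cfsg.SU (m + 2) F q) ≃* ↥(SUm (frobHom hF) m) :=
  Psi (frob_apply hF) (fun x => pow_q_pow_q hF x) hζ hτ hN

theorem PsiF_av (s : ↥(Cfsg.SU (m + 2) F q)) (x : Fin (m + 2) → F) :
    av (PsiF hF hζ hτ hN s) (Phi hζ hτ x) =
      Phi hζ hτ (((s : Matrix.SpecialLinearGroup (Fin (m + 2)) F) :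
        Matrix (Fin (m + 2)) (Fin (m + 2)) F).mulVec x) :=
  Psi_av _ _ hζ hτ hN s x

include hN in
theorem hV_PhiF (x y : Fin (m + 2) → F) :
    hV (frobHom hF) (Phi hζ hτ x) (Phi hζ hτ y) = Cfsg.hermForm (m + 2) F q x y :=
  hV_Phi (frob_apply hF) (fun x => pow_q_pow_q hF x) hζ hτ hN x y

include hζ hτ hN in
/-- the root groups generate the model group -/
theorem hgen_model (hm : 1 ≤ m) (h32 : ¬ (m + 2 = 3 ∧ q = 2))
    (H : Subgroup ↥(SUm (frobHom hF) m))
    (hH : ∀ u : V F m, u ≠ 0 → hV (frobHom hF) u u = 0 → TV (frobHom hF) u ≤ H) : H = ⊤ := by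
  have hcl := Cfsg.Agent.Lib.Helper5.SUGen.closure_transvections_eq_top (n := m + 2) hF
    (by omega) h32
  have h1 : (⊤ : Subgroup ↥(Cfsg.SU (m + 2) F q)) ≤ H.comap (PsiF hF hζ hτ hN).toMonoidHom := by
    rw [← hcl, Subgroup.closure_le]
    rintro A ⟨v, c, hv, hA⟩
    show PsiF hF hζ hτ hN A ∈ H
    have hact : ∀ x : Fin (m + 2) → F, av (PsiF hF hζ hτ hN A) (Phi hζ hτ x) =
        Phi hζ hτ x + (c * hV (frobHom hF) (Phi hζ hτ x) (Phi hζ hτ v)) • Phi hζ hτ v := by
      intro x
      rw [PsiF_av, hA, ut_mulVec, map_add, map_smul, hV_PhiF hF hζ hτ hN]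
    by_cases hv0 : v = 0
    · have : PsiF hF hζ hτ hN A = 1 := by
        apply av_ext
        intro X
        obtain ⟨x, rfl⟩ := (Phi hζ hτ).surjective X
        rw [hact, hv0, map_zero, smul_zero, add_zero, av_one]
      rw [this]
      exact H.one_mem
    · have hΦv0 : Phi hζ hτ v ≠ 0 := fun h => hv0 ((Phi hζ hτ).map_eq_zero_iff.1 h)
      have hΦv : hV (frobHom hF) (Phi hζ hτ v) (Phi hζ hτ v) = 0 := by
        rw [hV_PhiF hF hζ hτ hN, hv]
      have hact' : ∀ X : V F m, av (PsiF hF hζ hτ hN A) X =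
          X + (c * hV (frobHom hF) X (Phi hζ hτ v)) • Phi hζ hτ v := by
        intro X
        obtain ⟨x, rfl⟩ := (Phi hζ hτ).surjective X
        exact hact x
      apply hH _ hΦv0 hΦv
      exact ⟨c, skew_of_transv (fun x => pow_q_pow_q hF x) hΦv0 hΦv hact',
        by rw [hΦv, mul_zero], hact'⟩
  rw [eq_top_iff]
  intro g _
  have := h1 (Subgroup.mem_top ((PsiF hF hζ hτ hN).symm g))
  have h2 : PsiF hF hζ hτ hN ((PsiF hF hζ hτ hN).symm g) ∈ H := this
  rwa [MulEquiv.apply_symm_apply] at h2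

/-- the isomorphism `PSU ≃ PG` -/
def PsiBar : Cfsg.PSU (m + 2) F q ≃* PG (frobHom hF) m :=
  QuotientGroup.congr _ _ (PsiF hF hζ hτ hN) (by
    ext z
    constructor
    · rintro ⟨s, hs, rfl⟩
      have hs := Subgroup.mem_center_iff.1 hs
      rw [Subgroup.mem_center_iff]
      intro y
      obtain ⟨y', rfl⟩ := (PsiF hF hζ hτ hN).surjective y
      show (PsiF hF hζ hτ hN) y' * (PsiF hF hζ hτ hN) s = (PsiF hF hζ hτ hN) s * (PsiF hF hζ hτ hN) y'
      rw [← map_mul, ← map_mul, hs y']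
    · intro hz
      refine ⟨(PsiF hF hζ hτ hN).symm z, ?_, by simp⟩
      have hz := Subgroup.mem_center_iff.1 hz
      apply Subgroup.mem_center_iff.2
      intro y
      apply (PsiF hF hζ hτ hN).injective
      rw [map_mul, map_mul, MulEquiv.apply_symm_apply, hz])

theorem PsiBar_mk (s : ↥(Cfsg.SU (m + 2) F q)) :
    PsiBar hF hζ hτ hN (QuotientGroup.mk s) = pr (frobHom hF) m (PsiF hF hζ hτ hN s) := rfl

end transport

end

end Cfsg.Agent.Lib.Helper18.PSUMod
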