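import Mathlib

/-!
Galois descent for semilinear maps of finite order, Hilbert 90 for fields and for `GL_n`,
surjectivity of the norm of a finite field (helper18).
-/

set_option autoImplicit false

namespace Cfsg.Agent.Lib.Helper18.PSLnFld

section descent

variable {F V : Type*} [Field F] [AddCommGroup V] [Module F V]

theorem iterate_add (T : V → V) (hadd : ∀ u v, T (u + v) = T u + T v) (i : ℕ) (u v : V) :
    T^[i] (u + v) = T^[i] u + T^[i] v := by
  induction i generalizing u v with
  | zero => rfl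
  | succ i ih => rw [Function.iterate_succ_apply', Function.iterate_succ_apply',
      Function.iterate_succ_apply', ih, hadd]

theorem iterate_smul (σ : RingAut F) (T : V → V)
    (hsmul : ∀ (c : F) (v : V), T (c • v) = σ c • T v) (i : ℕ) (c : F) (v : V) :
    T^[i] (c • v) = (σ ^ i) c • T^[i] v := by
  induction i with
  | zero => rfl
  | succ i ih =>
    rw [Function.iterate_succ_apply', Function.iterate_succ_apply', ih, hsmul, pow_succ']
    rfl

theorem iterate_sum (T : V → V) (hadd : ∀ u v, T (u + v) = T u + T v) (h0 : T 0 = 0)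
    {ι : Type*} (s : Finset ι) (f : ι → V) :
    T (∑ i ∈ s, f i) = ∑ i ∈ s, T (f i) := by
  classical
  induction s using Finset.induction_on with
  | empty => simpa using h0
  | insert a s ha ih => rw [Finset.sum_insert ha, Finset.sum_insert ha, hadd, ih]

/-- **Galois descent**: the fixed vectors of a `σ`-semilinear map `T` with `T ^ r = 1`,
`r` the order of `σ`, span the space -/
theorem span_fixed_eq_top (σ : RingAut F) (r : ℕ) (hσ : orderOf σ = r) (hr : 0 < r)
    (T : V → V) (hadd : ∀ u v, T (u + v) = T u + T v)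
    (hsmul : ∀ (c : F) (v : V), T (c • v) = σ c • T v) (hTr : ∀ v, T^[r] v = v) :
    Submodule.span F {v | T v = v} = ⊤ := by
  by_contra hne
  obtain ⟨φ, hφ0, hφ⟩ := Submodule.exists_le_ker_of_lt_top _ (lt_top_iff_ne_top.2 hne)
  have h0 : T 0 = 0 := by
    have := hsmul 0 0
    rwa [zero_smul, map_zero, zero_smul] at this
  -- the trace-like sum is fixed
  have hfix : ∀ v, T (∑ i ∈ Finset.range r, T^[i] v) = ∑ i ∈ Finset.range r, T^[i] v := by
    intro v
    rw [iterate_sum T hadd h0]
    have h1 : ∀ i, T (T^[i] v) = T^[i + 1] v := fun i => (Function.iterate_succ_apply' T i v).symm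
    simp_rw [h1]
    have h2 := Finset.sum_range_succ' (fun i => T^[i] v) r
    rw [Finset.sum_range_succ (fun i => T^[i] v) r, hTr] at h2
    exact (add_right_cancel h2).symm
  have hker : ∀ v, φ (∑ i ∈ Finset.range r, T^[i] v) = 0 := by
    intro v
    have : (∑ i ∈ Finset.range r, T^[i] v) ∈ LinearMap.ker φ :=
      hφ (Submodule.subset_span (hfix v))
    exact this
  -- Dedekind independence
  have hli := linearIndependent_monoidHom F F
  have hinj : Function.Injective
      (fun i : Fin r => (((σ ^ (i : ℕ) : RingAut F) : F ≃+* F) : F →* F)) := by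
    intro i j hij
    have h1 : σ ^ (i : ℕ) = σ ^ (j : ℕ) := by
      apply RingEquiv.ext
      intro c
      exact DFunLike.congr_fun hij c
    have hi : (i : ℕ) < orderOf σ := by rw [hσ]; exact i.2
    have hj : (j : ℕ) < orderOf σ := by rw [hσ]; exact j.2
    exact Fin.ext (pow_injOn_Iio_orderOf hi hj h1)
  have hli' := hli.comp _ hinj
  rw [Fintype.linearIndependent_iff] at hli'
  apply hφ0
  apply LinearMap.ext
  intro v
  have hsum : ∑ i : Fin r, φ (T^[(i : ℕ)] v) •
      ((fun f : F →* F => (f : F → F)) ∘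
        (fun i : Fin r => (((σ ^ (i : ℕ) : RingAut F) : F ≃+* F) : F →* F))) i = 0 := by
    funext c
    have h2 := hker (c • v)
    rw [map_sum] at h2
    simp_rw [iterate_smul σ T hsmul, map_smul, smul_eq_mul] at h2
    rw [Finset.sum_apply, Pi.zero_apply, ← h2, ← Fin.sum_univ_eq_sum_range
      (fun i => (σ ^ i) c * φ (T^[i] v)) r]
    apply Finset.sum_congr rfl
    intro i _
    rw [Pi.smul_apply, smul_eq_mul, mul_comm]
    rfl
  have h3 := hli' _ hsum ⟨0, hr⟩
  simpa using h3

end descent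

section field

variable {F : Type*} [Field F]

/-- **Hilbert 90** for a cyclic extension, multiplicative form -/
theorem exists_fixed_unit (σ : RingAut F) (r : ℕ) (hσ : orderOf σ = r) (hr : 0 < r)
    (μ : ℕ → F) (h0 : μ 0 = 1) (hsucc : ∀ i, μ (i + 1) = μ 1 * σ (μ i)) (hμr : μ r = 1) :
    ∃ ν : F, ν ≠ 0 ∧ μ 1 * σ ν = ν := by
  have hT : ∀ (i : ℕ) (v : F), (fun v : F => μ 1 * σ v)^[i] v = μ i * (σ ^ i) v := by
    intro i v
    induction i with
    | zero => simp [h0]
    | succ i ih =>
      rw [Function.iterate_succ_apply', ih, hsucc i, map_mul, pow_succ']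
      show _ = _ * (σ ((σ ^ i) v))
      ring
  have hspan := span_fixed_eq_top (V := F) σ r hσ hr (fun v => μ 1 * σ v)
    (fun u v => by simp only [map_add, mul_add])
    (fun c v => by simp only [smul_eq_mul, map_mul]; ring)
    (fun v => by
      rw [hT, hμr, one_mul, ← hσ, pow_orderOf_eq_one]
      rfl)
  by_contra hcon
  push Not at hcon
  have hsub : {v : F | (fun v : F => μ 1 * σ v) v = v} ⊆ {0} := by
    intro v hv
    by_contra hv0
    exact hcon v hv0 hv
  have h1 : (1 : F) ∈ Submodule.span F ({0} : Set F) := by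
    have : (1 : F) ∈ (⊤ : Submodule F F) := Submodule.mem_top
    rw [← hspan] at this
    exact Submodule.span_mono hsub this
  rw [Submodule.span_zero_singleton] at h1
  exact one_ne_zero ((Submodule.mem_bot F).1 h1)

/-- the partial norms `a σ(a) ⋯ σ^{i-1}(a)` -/
def nrm (σ : RingAut F) (a : F) (i : ℕ) : F := ∏ j ∈ Finset.range i, (σ ^ j) a

theorem nrm_zero (σ : RingAut F) (a : F) : nrm σ a 0 = 1 := by
  simp [nrm]

theorem nrm_one (σ : RingAut F) (a : F) : nrm σ a 1 = a := by
  simp [nrm]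

theorem nrm_succ (σ : RingAut F) (a : F) (i : ℕ) : nrm σ a (i + 1) = a * σ (nrm σ a i) := by
  unfold nrm
  rw [Finset.prod_range_succ', map_prod, mul_comm]
  congr 1
  · apply Finset.prod_congr rfl
    intro j _
    rw [pow_succ']
    rfl

theorem nrm_succ' (σ : RingAut F) (a : F) (i : ℕ) :
    nrm σ a (i + 1) = nrm σ a 1 * σ (nrm σ a i) := by
  rw [nrm_one, nrm_succ]

theorem nrm_ne_zero (σ : RingAut F) {a : F} (ha : a ≠ 0) (i : ℕ) : nrm σ a i ≠ 0 := by
  unfold nrm
  rw [Finset.prod_ne_zero_iff]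
  intro j _
  exact (map_ne_zero_iff _ (RingEquiv.injective _)).2 ha

theorem nrm_mul (σ : RingAut F) (a b : F) (i : ℕ) : nrm σ (a * b) i = nrm σ a i * nrm σ b i := by
  unfold nrm
  rw [← Finset.prod_mul_distrib]
  apply Finset.prod_congr rfl
  intro j _
  rw [map_mul]

theorem nrm_map (σ : RingAut F) (a : F) (i : ℕ) : nrm σ (σ a) i = σ (nrm σ a i) := by
  unfold nrm
  rw [map_prod]
  apply Finset.prod_congr rfl
  intro j _
  show (σ ^ j * σ) a = (σ * σ ^ j) a
  rw [(Commute.self_pow σ j).eq]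

theorem nrm_fixed (σ : RingAut F) (r : ℕ) (hσ : orderOf σ = r) (a : F) :
    σ (nrm σ a r) = nrm σ a r := by
  have h1 : nrm σ a (r + 1) = a * σ (nrm σ a r) := nrm_succ σ a r
  have h2 : nrm σ a (r + 1) = nrm σ a r * a := by
    unfold nrm
    rw [Finset.prod_range_succ, ← hσ, pow_orderOf_eq_one]
    rfl
  by_cases ha : a = 0
  · subst ha
    rcases Nat.eq_zero_or_pos r with h | h
    · subst h
      simp [nrm]
    · have : nrm σ (0 : F) r = 0 := by
        unfold nrm
        apply Finset.prod_eq_zero (Finset.mem_range.2 h)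
        simp
      rw [this, map_zero]
  · rw [h1, mul_comm] at h2
    exact mul_right_cancel₀ ha h2

/-- **Hilbert 90**, norm form -/
theorem exists_fixed_of_nrm_eq_one (σ : RingAut F) (r : ℕ) (hσ : orderOf σ = r) (hr : 0 < r)
    (a : F) (ha : nrm σ a r = 1) : ∃ ν : F, ν ≠ 0 ∧ a * σ ν = ν := by
  have := exists_fixed_unit σ r hσ hr (nrm σ a) (nrm_zero σ a) (nrm_succ' σ a) ha
  rwa [nrm_one] at this

section finite

variable [Finite F]

/-- the norm of a finite field onto the fixed field of a cyclic group of automorphisms is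
surjective -/
theorem exists_nrm_eq (σ : RingAut F) (r : ℕ) (hσ : orderOf σ = r) (hr : 0 < r)
    (μ : F) (hμ0 : μ ≠ 0) (hμ : σ μ = μ) : ∃ ν : F, ν ≠ 0 ∧ nrm σ ν r = μ := by
  classical
  -- the norm and the quotient map on units
  let sU : RingAut F → (Fˣ →* Fˣ) := fun τ => Units.map ((τ : F ≃+* F) : F →* F)
  let N : Fˣ →* Fˣ := ∏ j ∈ Finset.range r, sU (σ ^ j)
  let D : Fˣ →* Fˣ := MonoidHom.id Fˣ / sU σ
  have hN : ∀ u : Fˣ, ((N u : Fˣ) : F) = nrm σ (u : F) r := by
    intro u
    show ((((∏ j ∈ Finset.range r, sU (σ ^ j)) : Fˣ →* Fˣ) u : Fˣ) : F) = _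
    rw [MonoidHom.finsetProd_apply, Units.coe_prod]
    rfl
  have hD : ∀ u : Fˣ, ((D u : Fˣ) : F) = (u : F) / σ (u : F) := by
    intro u
    show ((u / sU σ u : Fˣ) : F) = _
    rw [Units.val_div_eq_div_val]
    rfl
  have hrange : N.range ≤ D.ker := by
    rintro _ ⟨u, rfl⟩
    rw [MonoidHom.mem_ker]
    apply Units.ext
    rw [hD, hN, nrm_fixed σ r hσ]
    exact div_self (nrm_ne_zero σ u.ne_zero r)
  have hker : N.ker ≤ D.range := by
    intro u hu
    rw [MonoidHom.mem_ker] at hu
    have h1 : nrm σ (u : F) r = 1 := by rw [← hN, hu]; rfl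
    obtain ⟨ν, hν0, hν⟩ := exists_fixed_of_nrm_eq_one σ r hσ hr (u : F) h1
    refine ⟨Units.mk0 ν hν0, ?_⟩
    apply Units.ext
    rw [hD]
    show ν / σ ν = u
    have hσν : σ ν ≠ 0 := (map_ne_zero_iff _ (RingEquiv.injective _)).2 hν0
    rw [div_eq_iff hσν]
    exact hν.symm
  have hcard : Nat.card D.ker ≤ Nat.card N.range := by
    have h1 := Subgroup.card_mul_index N.ker
    have h2 := Subgroup.card_mul_index D.ker
    rw [Subgroup.index_ker] at h1 h2
    have h3 : Nat.card N.ker ≤ Nat.card D.range := Subgroup.card_le_of_le hker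
    have h4 : 0 < Nat.card D.range := Nat.card_pos
    have h5 : Nat.card D.ker * Nat.card D.range ≤ Nat.card N.range * Nat.card D.range := by
      rw [h2, ← h1, mul_comm]
      exact Nat.mul_le_mul_left _ h3
    exact Nat.le_of_mul_le_mul_right h5 h4
  have heq : N.range = D.ker := Subgroup.eq_of_le_of_card_ge hrange hcard
  have hmem : Units.mk0 μ hμ0 ∈ D.ker := by
    rw [MonoidHom.mem_ker]
    apply Units.ext
    rw [hD]
    show μ / σ μ = 1
    rw [hμ]
    exact div_self hμ0
  rw [← heq] at hmem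
  obtain ⟨ν, hν⟩ := hmem
  refine ⟨(ν : F), ν.ne_zero, ?_⟩
  rw [← hN, hν]
  rfl

end finite

end field

section matrix

variable {F : Type*} [Field F] {n : ℕ}

theorem map_mulVec (σ : RingAut F) (M : Matrix (Fin n) (Fin n) F) (v : Fin n → F) :
    (fun i => σ ((M.mulVec v) i)) = (M.map σ).mulVec (fun i => σ (v i)) := by
  funext i
  have := RingHom.map_mulVec ((σ : F ≃+* F) : F →+* F) M v i
  exact this

/-- **Hilbert 90 for `GL_n`**, normalised form -/
theorem exists_matrix_fixed (σ : RingAut F) (r : ℕ) (hσ : orderOf σ = r) (hr : 0 < r)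
    (A : ℕ → Matrix (Fin n) (Fin n) F) (hA0 : A 0 = 1)
    (hA : ∀ i, A (i + 1) = A 1 * (A i).map σ) (hAr : A r = 1) :
    ∃ h : Matrix (Fin n) (Fin n) F, IsUnit h ∧ A 1 * h.map σ = h := by
  classical
  let T : (Fin n → F) → (Fin n → F) := fun v => (A 1).mulVec (fun i => σ (v i))
  have hT : ∀ (i : ℕ) (v : Fin n → F), T^[i] v = (A i).mulVec (fun k => (σ ^ i) (v k)) := by
    intro i v
    induction i with
    | zero =>
      rw [hA0, Matrix.one_mulVec]
      rfl
    | succ i ih =>
      rw [Function.iterate_succ_apply', ih]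
      show (A 1).mulVec (fun k => σ (((A i).mulVec fun k => (σ ^ i) (v k)) k)) = _
      rw [map_mulVec, Matrix.mulVec_mulVec, ← hA i]
      congr 1
      funext k
      rw [pow_succ']
      rfl
  have hspan := span_fixed_eq_top (V := Fin n → F) σ r hσ hr T
    (fun u v => by
      show (A 1).mulVec (fun i => σ ((u + v) i)) = (A 1).mulVec _ + (A 1).mulVec _
      rw [← Matrix.mulVec_add]
      congr 1
      funext i
      simp)
    (fun c v => by
      show (A 1).mulVec (fun i => σ ((c • v) i)) = σ c • (A 1).mulVec _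
      rw [← Matrix.mulVec_smul]
      congr 1
      funext i
      simp)
    (fun v => by
      rw [hT, hAr, Matrix.one_mulVec, ← hσ, pow_orderOf_eq_one]
      rfl)
  obtain ⟨f, hfS, -, hfli⟩ := Submodule.exists_fun_fin_finrank_span_eq F {v : Fin n → F | T v = v}
  have hd : Module.finrank F (Submodule.span F {v : Fin n → F | T v = v}) = n := by
    rw [hspan, finrank_top, Module.finrank_fin_fun]
  let f' : Fin n → (Fin n → F) := fun j => f (Fin.cast hd.symm j)
  have hf'li : LinearIndependent F f' := hfli.comp _ (Fin.cast_injective _)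
  refine ⟨Matrix.of (fun i j => f' j i), ?_, ?_⟩
  · rw [← Matrix.linearIndependent_cols_iff_isUnit]
    exact hf'li
  · ext i j
    have h1 : T (f' j) = f' j := hfS _
    have h2 := congrFun h1 i
    rw [Matrix.mul_apply]
    exact h2

theorem seq_shift (σ : RingAut F) (A : ℕ → Matrix (Fin n) (Fin n) F) (hA0 : A 0 = 1)
    (hA : ∀ i, A (i + 1) = A 1 * (A i).map σ) (i : ℕ) :
    A (i + 1) = A i * (A 1).map (σ ^ i) := by
  induction i with
  | zero =>
    rw [hA0, Matrix.one_mul, pow_zero]
    ext a b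
    rfl
  | succ i ih =>
    rw [hA (i + 1), ih, Matrix.map_mul, ← Matrix.mul_assoc, ← hA i]
    congr 1
    ext a b
    show σ ((σ ^ i) (A 1 a b)) = (σ ^ (i + 1)) (A 1 a b)
    rw [pow_succ']
    rfl

/-- **Hilbert 90 for `PGL_n`** over a finite field -/
theorem exists_matrix_fixed_scalar [Finite F] (hn : 0 < n) (σ : RingAut F) (r : ℕ)
    (hσ : orderOf σ = r) (hr : 0 < r)
    (A : ℕ → Matrix (Fin n) (Fin n) F) (hA0 : A 0 = 1)
    (hA : ∀ i, A (i + 1) = A 1 * (A i).map σ) (μ : F) (hμ : μ ≠ 0)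
    (hAr : A r = μ • (1 : Matrix (Fin n) (Fin n) F)) :
    ∃ (h : Matrix (Fin n) (Fin n) F) (ν : F), IsUnit h ∧ ν ≠ 0 ∧ A 1 * h.map σ = ν • h := by
  -- `μ` is fixed by `σ`
  have hfix : σ μ = μ := by
    have h1 : A (r + 1) = σ μ • A 1 := by
      rw [hA r, hAr]
      have : (μ • (1 : Matrix (Fin n) (Fin n) F)).map σ = σ μ • (1 : Matrix (Fin n) (Fin n) F) := by
        ext a b
        by_cases hab : a = b
        · subst hab
          simp
        · simp [hab]
      rw [this, Matrix.mul_smul, Matrix.mul_one]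
    have h2 : A (r + 1) = μ • A 1 := by
      rw [seq_shift σ A hA0 hA r, hAr, ← hσ, pow_orderOf_eq_one, Matrix.smul_mul, Matrix.one_mul]
      congr 1
    have h3 : A 1 ≠ 0 := by
      intro h0
      have : ∀ i, A (i + 1) = 0 := by
        intro i
        rw [hA i, h0, Matrix.zero_mul]
      obtain ⟨k, rfl⟩ : ∃ k, r = k + 1 := ⟨r - 1, by omega⟩
      have h4 := this k
      rw [hAr] at h4
      have h5 := congrFun (congrFun h4 ⟨0, hn⟩) ⟨0, hn⟩
      simp at h5
      exact hμ h5
    obtain ⟨a, b, hab⟩ : ∃ a b, A 1 a b ≠ 0 := by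
      by_contra hcon
      push Not at hcon
      apply h3
      ext a b
      exact hcon a b
    have h6 := congrFun (congrFun (h1.symm.trans h2) a) b
    simp only [Matrix.smul_apply, smul_eq_mul] at h6
    exact mul_right_cancel₀ hab h6
  obtain ⟨ν, hν0, hν⟩ := exists_nrm_eq σ r hσ hr μ hμ hfix
  -- normalise
  let A' : ℕ → Matrix (Fin n) (Fin n) F := fun i => (nrm σ ν i)⁻¹ • A i
  have hA'1 : A' 1 = ν⁻¹ • A 1 := by
    show (nrm σ ν 1)⁻¹ • A 1 = _
    rw [nrm_one]
  obtain ⟨h, hh, hfixh⟩ := exists_matrix_fixed σ r hσ hr A'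
    (by show (nrm σ ν 0)⁻¹ • A 0 = 1; rw [nrm_zero, hA0, inv_one, one_smul])
    (by
      intro i
      rw [hA'1]
      show (nrm σ ν (i + 1))⁻¹ • A (i + 1) = ν⁻¹ • A 1 * ((nrm σ ν i)⁻¹ • A i).map σ
      have : ((nrm σ ν i)⁻¹ • A i).map σ = (σ (nrm σ ν i))⁻¹ • (A i).map σ := by
        ext a b
        simp
      rw [this, hA i, nrm_succ, Matrix.smul_mul, Matrix.mul_smul, smul_smul, mul_inv])
    (by
      show (nrm σ ν r)⁻¹ • A r = 1
      rw [hν, hAr, smul_smul, inv_mul_cancel₀ hμ, one_smul])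
  refine ⟨h, ν, hh, hν0, ?_⟩
  rw [hA'1, Matrix.smul_mul] at hfixh
  have h7 : ν • (ν⁻¹ • (A 1 * h.map σ)) = ν • h := by rw [hfixh]
  rw [smul_smul, mul_inv_cancel₀ hν0, one_smul] at h7
  exact h7

end matrix

end Cfsg.Agent.Lib.Helper18.PSLnFld
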