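/-
helper18: an abstract model of the Sylow 2-subgroups of `SU₃(2ⁿ)`.
`Pr σ` is the set of pairs `(a, b)` over a commutative ring with the multiplication
`(a, b) (a', b') = (a + a', b + b' + σ a * a')`; `T σ` is the subgroup of the pairs with
`b + σ b = a * σ a` for an involutive ring endomorphism `σ`.
-/
import Mathlib

set_option autoImplicit false

namespace Cfsg.Agent.Lib.Helper18.SU3Model

/-- pairs `(a, b)` with the multiplication twisted by a ring endomorphism. -/
@[ext] structure Pr {F : Type*} [CommRing F] (σ : F →+* F) where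
  /-- first coordinate -/
  a : F
  /-- second coordinate -/
  b : F

section group

variable {F : Type*} [CommRing F] {σ : F →+* F}

instance instMulPr : Mul (Pr σ) := ⟨fun x y => ⟨x.a + y.a, x.b + y.b + σ x.a * y.a⟩⟩
instance instOnePr : One (Pr σ) := ⟨⟨0, 0⟩⟩
instance instInvPr : Inv (Pr σ) := ⟨fun x => ⟨-x.a, -x.b + σ x.a * x.a⟩⟩

theorem mul_a0 (x y : Pr σ) : (x * y).a = x.a + y.a := rfl
theorem mul_b0 (x y : Pr σ) : (x * y).b = x.b + y.b + σ x.a * y.a := rfl
theorem one_a0 : (1 : Pr σ).a = 0 := rfl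
theorem one_b0 : (1 : Pr σ).b = 0 := rfl
theorem inv_a0 (x : Pr σ) : (x⁻¹).a = -x.a := rfl
theorem inv_b0 (x : Pr σ) : (x⁻¹).b = -x.b + σ x.a * x.a := rfl

instance instGroupPr : Group (Pr σ) :=
  Group.ofLeftAxioms
    (fun x y z => by
      ext
      · simp only [mul_a0]; ring
      · simp only [mul_a0, mul_b0, map_add]; ring)
    (fun x => by
      ext
      · simp only [mul_a0, one_a0, zero_add]
      · simp only [mul_b0, one_b0, one_a0, map_zero, zero_mul, zero_add, add_zero])
    (fun x => by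
      ext
      · simp only [mul_a0, inv_a0, one_a0]; ring
      · simp only [mul_b0, inv_b0, inv_a0, one_b0, map_neg]; ring)

@[simp] theorem mul_a (x y : Pr σ) : (x * y).a = x.a + y.a := rfl
@[simp] theorem mul_b (x y : Pr σ) : (x * y).b = x.b + y.b + σ x.a * y.a := rfl
@[simp] theorem one_a : (1 : Pr σ).a = 0 := rfl
@[simp] theorem one_b : (1 : Pr σ).b = 0 := rfl
@[simp] theorem inv_a (x : Pr σ) : (x⁻¹).a = -x.a := rfl
@[simp] theorem inv_b (x : Pr σ) : (x⁻¹).b = -x.b + σ x.a * x.a := rfl

/-- the subgroup of the pairs with `b + σ b = a * σ a`. -/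
def T (σ : F →+* F) (hσ : ∀ x, σ (σ x) = x) : Subgroup (Pr σ) where
  carrier := {x | x.b + σ x.b = x.a * σ x.a}
  mul_mem' := by
    intro x y hx hy
    simp only [Set.mem_ofPred_eq, mul_a, mul_b, map_add, map_mul, hσ] at *
    linear_combination hx + hy
  one_mem' := by simp
  inv_mem' := by
    intro x hx
    simp only [Set.mem_ofPred_eq, inv_a, inv_b, map_add, map_neg, map_mul, hσ] at *
    linear_combination -hx

theorem comm_iff (x y : Pr σ) : x * y = y * x ↔ σ x.a * y.a = σ y.a * x.a := by
  constructor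
  · intro hxy
    have := congrArg Pr.b hxy
    simp only [mul_b] at this
    linear_combination this
  · intro hxy
    ext
    · simp [add_comm]
    · simp only [mul_b]; linear_combination hxy

open scoped commutatorElement in
theorem commutator_eq (x y : Pr σ) : ⁅x, y⁆ = ⟨0, σ x.a * y.a - σ y.a * x.a⟩ := by
  rw [commutatorElement_def]
  ext
  · simp
  · simp only [mul_b, mul_a, inv_a, inv_b, map_add, map_neg]; ring

end group

section char2

variable {F : Type*} [Field F] {σ : F →+* F}

/-- the hypotheses on the field and its involution. -/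
structure Good (σ : F →+* F) : Prop where
  two : (2 : F) = 0
  invol : ∀ x, σ (σ x) = x
  tr : ∀ c, σ c = c → ∃ b, b + σ b = c
  ne : ∃ ω, σ ω ≠ ω

theorem Good.add_self (h : Good σ) (x : F) : x + x = 0 := by linear_combination x * h.two

theorem Good.neg_eq (h : Good σ) (x : F) : -x = x := by linear_combination (-x) * h.two

theorem Good.sub_eq (h : Good σ) (x y : F) : x - y = x + y := by linear_combination (-y) * h.two

theorem Good.eq_of_add_eq_zero (h : Good σ) {x y : F} (hxy : x + y = 0) : x = y := by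
  linear_combination hxy - y * h.two

theorem Good.sq_inj (h : Good σ) {x y : F} (hxy : x * x = y * y) : x = y := by
  have h1 : (x + y) * (x + y) = 0 := by linear_combination hxy + (y * y + x * y) * h.two
  have h2 : x + y = 0 := by
    rcases mul_eq_zero.1 h1 with h3 | h3 <;> exact h3
  exact h.eq_of_add_eq_zero h2

/-- the model group. -/
abbrev TG (h : Good σ) : Type _ := ↥(T σ h.invol)

variable (h : Good σ)
include h

theorem mem_T {x : Pr σ} : x ∈ T σ h.invol ↔ x.b + σ x.b = x.a * σ x.a := Iff.rfl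

theorem exists_mem (a : F) : ∃ g : TG h, g.1.a = a := by
  obtain ⟨b, hb⟩ := h.tr (a * σ a) (by rw [map_mul, h.invol, mul_comm])
  exact ⟨⟨⟨a, b⟩, hb⟩, rfl⟩

theorem sigma_b_of_a_zero (g : TG h) (ha : g.1.a = 0) : σ g.1.b = g.1.b := by
  have h1 := g.2
  rw [mem_T h, ha, zero_mul] at h1
  exact (h.eq_of_add_eq_zero h1).symm

theorem central_mk (c : F) (hc : σ c = c) : (⟨0, c⟩ : Pr σ) ∈ T σ h.invol := by
  rw [mem_T h]
  simp [hc, h.add_self]

theorem mul_self_eq (x : Pr σ) : x * x = ⟨0, σ x.a * x.a⟩ := by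
  ext
  · simp [h.add_self]
  · simp only [mul_b]; rw [h.add_self, zero_add]

theorem mul_self_eq_one_iff (x : Pr σ) : x * x = 1 ↔ x.a = 0 := by
  rw [mul_self_eq h]
  constructor
  · intro hx
    have h1 := congrArg Pr.b hx
    simp only [one_b] at h1
    rcases mul_eq_zero.1 h1 with h2 | h2
    · exact (map_eq_zero σ).1 h2
    · exact h2
  · intro hx
    ext
    · simp
    · simp [hx]

theorem coe_mul_self_eq_one_iff (g : TG h) : g * g = 1 ↔ g.1.a = 0 := by
  rw [← mul_self_eq_one_iff h, ← Subgroup.coe_mul, Subtype.ext_iff, Subgroup.coe_one]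

theorem mem_center_iff (z : TG h) : z ∈ Subgroup.center (TG h) ↔ z.1.a = 0 := by
  rw [Subgroup.mem_center_iff]
  constructor
  · intro hz
    obtain ⟨ω, hω⟩ := h.ne
    obtain ⟨g1, hg1⟩ := exists_mem h 1
    obtain ⟨g2, hg2⟩ := exists_mem h ω
    have h1 := hz g1
    have h2 := hz g2
    rw [Subtype.ext_iff, Subgroup.coe_mul, Subgroup.coe_mul, comm_iff] at h1 h2
    rw [hg1, map_one, one_mul, mul_one] at h1
    rw [hg2] at h2
    by_contra hne
    apply hω
    have h3 : (σ ω - ω) * z.1.a = 0 := by linear_combination h2 - ω * h1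
    rcases mul_eq_zero.1 h3 with h4 | h4
    · exact sub_eq_zero.1 h4
    · exact absurd h4 hne
  · intro hz g
    rw [Subtype.ext_iff, Subgroup.coe_mul, Subgroup.coe_mul, comm_iff, hz, map_zero, mul_zero,
      zero_mul]

/-- the projection to the first coordinate. -/
def piA : TG h →* Multiplicative F where
  toFun g := Multiplicative.ofAdd g.1.a
  map_one' := rfl
  map_mul' _ _ := rfl

theorem piA_apply (g : TG h) : piA h g = Multiplicative.ofAdd g.1.a := rfl

theorem piA_surjective : Function.Surjective (piA h) := by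
  intro a
  obtain ⟨g, hg⟩ := exists_mem h (Multiplicative.toAdd a)
  exact ⟨g, by rw [piA_apply, hg]; rfl⟩

theorem ker_piA : (piA h).ker = Subgroup.center (TG h) := by
  ext g
  rw [MonoidHom.mem_ker, mem_center_iff, piA_apply]
  exact Iff.rfl

/-- the centre is in bijection with the fixed field. -/
def centerEquiv : Subgroup.center (TG h) ≃ {c : F // σ c = c} where
  toFun z := ⟨z.1.1.b, sigma_b_of_a_zero h z.1 ((mem_center_iff h z.1).1 z.2)⟩
  invFun c := ⟨⟨⟨0, c.1⟩, central_mk h c.1 c.2⟩, (mem_center_iff h _).2 rfl⟩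
  left_inv z := by
    apply Subtype.ext
    apply Subtype.ext
    ext
    · exact ((mem_center_iff h z.1).1 z.2).symm
    · rfl
  right_inv c := rfl

end char2

section finite

variable {F : Type*} [Field F] {σ : F →+* F}

instance instFinitePr [Finite F] : Finite (Pr σ) :=
  Finite.of_injective (fun x : Pr σ => (x.a, x.b)) (by
    intro x y hxy
    ext
    · exact congrArg Prod.fst hxy
    · exact congrArg Prod.snd hxy)

/-- the central element `(0, c)`. -/
def zc (h : Good σ) (c : F) (hc : σ c = c) : TG h := ⟨⟨0, c⟩, central_mk h c hc⟩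

/-- scaling `(a, b) ↦ (l a, l² b)`. -/
def scalFun (l : F) (x : Pr σ) : Pr σ := ⟨l * x.a, l * l * x.b⟩

theorem scalFun_mul (l : F) (hl : σ l = l) (x y : Pr σ) :
    scalFun l (x * y) = scalFun l x * scalFun l y := by
  ext
  · simp [scalFun, mul_add]
  · simp only [scalFun, mul_b, map_mul, hl]; ring

theorem scalFun_scalFun (l m : F) (x : Pr σ) : scalFun l (scalFun m x) = scalFun (l * m) x := by
  ext <;> simp only [scalFun] <;> ring

theorem scalFun_one (x : Pr σ) : scalFun 1 x = x := by ext <;> simp [scalFun]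

/-- the units fixed by `σ`. -/
def fixU (σ : F →+* F) : Subgroup Fˣ where
  carrier := {u | σ (u : F) = u}
  mul_mem' := by
    intro a b ha hb
    simp only [Set.mem_ofPred_eq, Units.val_mul, map_mul] at *
    rw [ha, hb]
  one_mem' := by simp
  inv_mem' := by
    intro a ha
    simp only [Set.mem_ofPred_eq, Units.val_inv_eq_inv_val, map_inv₀] at *
    rw [ha]

theorem mem_fixU (u : Fˣ) : u ∈ fixU σ ↔ σ (u : F) = u := Iff.rfl

variable (h : Good σ)
include h

theorem scalFun_mem (l : F) (hl : σ l = l) {x : Pr σ} (hx : x ∈ T σ h.invol) :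
    scalFun l x ∈ T σ h.invol := by
  rw [mem_T h] at *
  simp only [scalFun, map_mul, hl]
  linear_combination (l * l) * hx

/-- the scaling automorphisms of the model group. -/
def scalAut (u : fixU σ) : MulAut (TG h) where
  toFun g := ⟨scalFun ((u : Fˣ) : F) g.1, scalFun_mem h _ u.2 g.2⟩
  invFun g := ⟨scalFun (((u⁻¹ : fixU σ) : Fˣ) : F) g.1, scalFun_mem h _ (u⁻¹).2 g.2⟩
  left_inv g := by
    apply Subtype.ext
    simp only [scalFun_scalFun, InvMemClass.coe_inv, Units.inv_mul, scalFun_one]
  right_inv g := by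
    apply Subtype.ext
    simp only [scalFun_scalFun, InvMemClass.coe_inv, Units.mul_inv, scalFun_one]
  map_mul' x y := Subtype.ext (scalFun_mul _ u.2 _ _)

theorem scalAut_apply (u : fixU σ) (g : TG h) :
    (scalAut h u g).1 = scalFun ((u : Fˣ) : F) g.1 := rfl

/-- the scaling automorphisms as a homomorphism. -/
def scalHom : fixU σ →* MulAut (TG h) where
  toFun := scalAut h
  map_one' := by
    ext g : 2
    rw [scalAut_apply]
    simp [scalFun_one]
  map_mul' u v := by
    ext g : 2
    rw [MulAut.mul_apply, scalAut_apply, scalAut_apply, scalAut_apply, scalFun_scalFun]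
    simp

theorem exists_not_comm : ∃ x y : TG h, x * y ≠ y * x := by
  obtain ⟨ω, hω⟩ := h.ne
  obtain ⟨g1, hg1⟩ := exists_mem h 1
  obtain ⟨g2, hg2⟩ := exists_mem h ω
  refine ⟨g1, g2, fun hc => hω ?_⟩
  rw [Subtype.ext_iff, Subgroup.coe_mul, Subgroup.coe_mul, comm_iff, hg1, hg2, map_one, one_mul,
    mul_one] at hc
  exact hc.symm

theorem isPGroup : IsPGroup 2 (TG h) := by
  intro g
  refine ⟨2, ?_⟩
  have h1 : (g * g) * (g * g) = 1 := by
    rw [coe_mul_self_eq_one_iff h, Subgroup.coe_mul, mul_a, h.add_self]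
  rw [show (2 : ℕ) ^ 2 = 4 by norm_num, pow_succ, pow_succ, pow_succ, pow_one, mul_assoc]
  exact h1

theorem zc_ne_one {c : F} (hc : σ c = c) (hc0 : c ≠ 0) : zc h c hc ≠ 1 := by
  intro he
  apply hc0
  have := congrArg (fun g : TG h => g.1.b) he
  exact this

theorem zc_mul_self {c : F} (hc : σ c = c) : zc h c hc * zc h c hc = 1 := by
  rw [coe_mul_self_eq_one_iff h]
  rfl

theorem eq_zc_of_mul_self (g : TG h) (hg : g * g = 1) :
    ∃ hc : σ g.1.b = g.1.b, g = zc h g.1.b hc := by
  have ha := (coe_mul_self_eq_one_iff h g).1 hg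
  refine ⟨sigma_b_of_a_zero h g ha, ?_⟩
  apply Subtype.ext
  ext
  · exact ha
  · rfl

theorem exists_two_involutions (hc : ∃ c : F, σ c = c ∧ c ≠ 0 ∧ c ≠ 1) :
    ∃ x y : TG h, x ≠ y ∧ x ≠ 1 ∧ x * x = 1 ∧ y ≠ 1 ∧ y * y = 1 := by
  obtain ⟨c, hc, hc0, hc1⟩ := hc
  refine ⟨zc h 1 (map_one σ), zc h c hc, ?_, zc_ne_one h _ one_ne_zero, zc_mul_self h _,
    zc_ne_one h _ hc0, zc_mul_self h _⟩
  intro he
  apply hc1
  have := congrArg (fun g : TG h => g.1.b) he
  exact this.symm

theorem card_center (q : ℕ) (hk : Nat.card {c : F // σ c = c} = q) :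
    Nat.card (Subgroup.center (TG h)) = q := by
  rw [Nat.card_congr (centerEquiv h), hk]

theorem card_TG [Finite F] (q : ℕ) (hk : Nat.card {c : F // σ c = c} = q)
    (hF : Nat.card F = q ^ 2) : Nat.card (TG h) = q ^ 3 := by
  have h1 := Subgroup.card_eq_card_quotient_mul_card_subgroup (piA h).ker
  have h2 : Nat.card (TG h ⧸ (piA h).ker) = Nat.card F := by
    rw [Nat.card_congr
      (QuotientGroup.quotientKerEquivOfSurjective (piA h) (piA_surjective h)).toEquiv]
    exact Nat.card_congr Multiplicative.toAdd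
  rw [h1, h2, ker_piA, card_center h q hk, hF]
  ring

theorem exists_sqrt [Finite F] (d : F) (hd : σ d = d) : ∃ l : F, l * l = d ∧ σ l = l := by
  have hinj : Function.Injective (fun x : F => x * x) := fun x y hxy => h.sq_inj hxy
  obtain ⟨l, hl⟩ := (Finite.injective_iff_surjective.1 hinj) d
  refine ⟨l, hl, h.sq_inj ?_⟩
  rw [← map_mul, show l * l = d from hl, hd]

end finite

end Cfsg.Agent.Lib.Helper18.SU3Model
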