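/-
helper18: the model group `TG h` of `SU3Model` realised by explicit matrices in `SU₃(2ⁿ)`
(identity Hermitian form), and the resulting description of the Sylow 2-subgroups of `SU₃(2ⁿ)` and
`PSU₃(2ⁿ)`.
-/
import Mathlib
import Cfsg.Prelude.Def_Classical
import Cfsg.Agent.Lib.Helper14.Unitary3
import Cfsg.Agent.Lib.Helper18.SU3Model

set_option autoImplicit false

namespace Cfsg.Agent.Lib.Helper18.SU3Model

section mat

variable {F : Type*} [Field F] {σ : F →+* F}

/-- the matrix of a pair. -/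
def Umat (x : Pr σ) : Matrix (Fin 3) (Fin 3) F :=
  !![1 + x.b, x.b, σ x.a; x.b, 1 + x.b, σ x.a; x.a, x.a, 1]

theorem Umat_mul (h2 : (2 : F) = 0) (x y : Pr σ) : Umat (x * y) = Umat x * Umat y := by
  unfold Umat
  rw [Matrix.mul_fin_three]
  ext i j
  fin_cases i <;> fin_cases j <;> simp
  all_goals first
    | linear_combination (-(x.b * y.b)) * h2
    | linear_combination (-(x.b * σ y.a)) * h2
    | linear_combination (-(x.a * y.b)) * h2
    | linear_combination (x.a * σ y.a) * h2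

theorem Umat_one : Umat (1 : Pr σ) = 1 := by
  unfold Umat
  ext i j
  fin_cases i <;> fin_cases j <;> simp

theorem det_Umat (h2 : (2 : F) = 0) (x : Pr σ) : (Umat x).det = 1 := by
  rw [Matrix.det_fin_three]
  simp [Umat]
  linear_combination (x.b - x.a * σ x.a) * h2

theorem Umat_injective : Function.Injective (Umat : Pr σ → Matrix (Fin 3) (Fin 3) F) := by
  intro x y hxy
  have h1 := congrFun (congrFun hxy 2) 0
  have h2 := congrFun (congrFun hxy 0) 1
  simp [Umat] at h1 h2
  ext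
  · exact h1
  · exact h2

/-- the pairs as unimodular matrices. -/
def Uhom (h2 : (2 : F) = 0) : Pr σ →* Matrix.SpecialLinearGroup (Fin 3) F where
  toFun x := ⟨Umat x, det_Umat h2 x⟩
  map_one' := Subtype.ext Umat_one
  map_mul' x y := Subtype.ext (Umat_mul h2 x y)

theorem Uhom_injective (h2 : (2 : F) = 0) : Function.Injective (Uhom (σ := σ) h2) := by
  intro x y hxy
  exact Umat_injective (congrArg Subtype.val hxy)

open Cfsg.Agent.Lib.Helper14 in
theorem orthoN_Umat [Fintype F] [DecidableEq F] (h : Good σ) {q : ℕ} (hσq : ∀ x, σ x = x ^ q) {x : Pr σ}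
    (hx : x ∈ T σ h.invol) : OrthoN F q 3 3 (fun j i => Umat x i j) := by
  have hx' := (mem_T h).1 hx
  have h2 := h.two
  have hσ := h.invol
  intro j l
  fin_cases j <;> fin_cases l <;>
    simp [Cfsg.hermForm, Fin.sum_univ_three, Umat, ← hσq, hσ]
  all_goals first
    | linear_combination hx' + (x.b * σ x.b + x.a * σ x.a) * h2
    | linear_combination (x.a + x.b * x.a) * h2
    | linear_combination (σ x.a + σ x.a * σ x.b) * h2
    | linear_combination (σ x.a * x.a) * h2

end mat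

section field

open Polynomial in
/-- the fixed points of `x ↦ x ^ q` (copied from helper25's `UnitaryFinite`). -/
theorem card_fixed_le' {F : Type*} [Field F] [Fintype F] [DecidableEq F] {σ : F →+* F} {q : ℕ}
    (hσq : ∀ x, σ x = x ^ q) (hq : 1 < q) :
    (Finset.univ.filter (fun x : F => σ x = x)).card ≤ q := by
  calc (Finset.univ.filter (fun x : F => σ x = x)).card
      ≤ (X ^ q - X : F[X]).roots.toFinset.card := by
        apply Finset.card_le_card
        intro x hx
        have hx' : σ x = x := (Finset.mem_filter.1 hx).2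
        rw [Multiset.mem_toFinset, mem_roots (FiniteField.X_pow_card_sub_X_ne_zero F hq),
          IsRoot.def, eval_sub, eval_pow, eval_X, ← hσq, hx', sub_self]
    _ ≤ Multiset.card (X ^ q - X : F[X]).roots := Multiset.toFinset_card_le _
    _ ≤ (X ^ q - X : F[X]).natDegree := Polynomial.card_roots' _
    _ = q := FiniteField.X_pow_card_sub_X_natDegree_eq F hq

/-- the trace is onto the fixed field, which has `q` elements (after helper25's `trace_facts`). -/
theorem trace_facts' {F : Type*} [Field F] [Fintype F] [DecidableEq F] {σ : F →+* F} {q : ℕ}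
    (hq : 1 < q) (hσq : ∀ x, σ x = x ^ q) (hσ : ∀ x, σ (σ x) = x)
    (hF : Fintype.card F = q ^ 2) :
    (∀ γ, σ γ = γ → ∃ x, x + σ x = γ) ∧ (∃ ω, σ ω ≠ ω) ∧
      (Finset.univ.filter (fun x : F => σ x = x)).card = q := by
  have hA : (Finset.univ.filter (fun x : F => σ x = x)).card ≤ q := card_fixed_le' hσq hq
  obtain ⟨x₀, hx₀⟩ : ∃ x₀, σ x₀ ≠ x₀ := by
    by_contra hall
    push Not at hall
    have : Finset.univ.filter (fun x : F => σ x = x) = Finset.univ := by
      rw [Finset.filter_eq_self]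
      intro x _
      exact hall x
    rw [this, Finset.card_univ, hF] at hA
    nlinarith
  obtain ⟨ε, hε0, hε⟩ : ∃ ε, ε ≠ 0 ∧ σ ε = -ε := by
    refine ⟨x₀ - σ x₀, sub_ne_zero.2 (Ne.symm hx₀), ?_⟩
    rw [map_sub, hσ, neg_sub]
  have himg : Finset.univ.image (fun x : F => x + σ x) ⊆
      Finset.univ.filter (fun x : F => σ x = x) := by
    intro a ha
    obtain ⟨x, -, rfl⟩ := Finset.mem_image.1 ha
    rw [Finset.mem_filter]
    refine ⟨Finset.mem_univ _, ?_⟩
    rw [map_add, hσ, add_comm]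
  have hfib : ∀ a ∈ Finset.univ.image (fun x : F => x + σ x),
      (Finset.univ.filter (fun x : F => x + σ x = a)).card ≤ q := by
    intro a ha
    obtain ⟨y, -, rfl⟩ := Finset.mem_image.1 ha
    refine le_trans ?_ hA
    apply Finset.card_le_card_of_injOn (fun x => (x - y) / ε)
    · intro x hx
      have hx' : x + σ x = y + σ y := (Finset.mem_filter.1 hx).2
      rw [Finset.mem_coe, Finset.mem_filter]
      refine ⟨Finset.mem_univ _, ?_⟩
      have h1 : σ x - σ y = -(x - y) := by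
        have : σ x = y + σ y - x := by rw [← hx']; ring
        rw [this]; ring
      rw [map_div₀, map_sub, hε, h1, neg_div_neg_eq]
    · intro x _ x' _ hxx
      have h2 : (x - y) / ε = (x' - y) / ε := hxx
      rw [div_left_inj' hε0] at h2
      exact sub_left_injective h2
  have hcard := Finset.card_le_mul_card_image (Finset.univ : Finset F) q hfib
  rw [Finset.card_univ, hF] at hcard
  have h3 : q ≤ (Finset.univ.image (fun x : F => x + σ x)).card := by
    have : q * q ≤ q * (Finset.univ.image (fun x : F => x + σ x)).card := by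
      rw [← sq]; exact hcard
    exact Nat.le_of_mul_le_mul_left this (by omega)
  have heq : Finset.univ.image (fun x : F => x + σ x) =
      Finset.univ.filter (fun x : F => σ x = x) :=
    Finset.eq_of_subset_of_card_le himg (hA.trans h3)
  refine ⟨?_, ⟨x₀, hx₀⟩, le_antisymm hA ?_⟩
  · intro γ hγ
    have : γ ∈ Finset.univ.image (fun x : F => x + σ x) := by
      rw [heq, Finset.mem_filter]
      exact ⟨Finset.mem_univ _, hγ⟩
    obtain ⟨x, -, hx⟩ := Finset.mem_image.1 this
    exact ⟨x, hx⟩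
  · rw [← heq]
    exact h3

/-- the field data: the involution `x ↦ x ^ (2 ^ n)` of a field with `(2 ^ n) ^ 2` elements. -/
theorem exists_good {F : Type*} [Field F] [Fintype F] {n : ℕ} (hn : 1 ≤ n)
    (hF : Fintype.card F = (2 ^ n) ^ 2) :
    ∃ σ : F →+* F, Good σ ∧ (∀ x, σ x = x ^ (2 ^ n)) ∧ Nat.card {c : F // σ c = c} = 2 ^ n := by
  classical
  obtain ⟨p, hchar, m, hp, hm⟩ := FiniteField.card' F
  have hp2 : p = 2 := by
    have h1 : p ∣ (2 ^ n) ^ 2 := by
      rw [← hF, hm]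
      exact dvd_pow_self p m.ne_zero
    exact (Nat.prime_dvd_prime_iff_eq hp Nat.prime_two).1
      (hp.dvd_of_dvd_pow (hp.dvd_of_dvd_pow h1))
  subst hp2
  haveI := hchar
  haveI : ExpChar F 2 := ExpChar.prime Nat.prime_two
  have h2 : (2 : F) = 0 := by
    have := CharP.cast_eq_zero F 2
    exact_mod_cast this
  have hq : 1 < 2 ^ n := Nat.one_lt_two_pow (by omega)
  have hσq : ∀ x, iterateFrobenius F 2 n x = x ^ (2 ^ n) := fun x => iterateFrobenius_def 2 n x
  have hσ : ∀ x, iterateFrobenius F 2 n (iterateFrobenius F 2 n x) = x := by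
    intro x
    rw [hσq, hσq, ← pow_mul, ← sq, ← hF, FiniteField.pow_card]
  obtain ⟨htr, hne, hcard⟩ := trace_facts' hq hσq hσ hF
  refine ⟨iterateFrobenius F 2 n, ⟨h2, hσ, htr, hne⟩, hσq, ?_⟩
  rw [Nat.card_eq_fintype_card, Fintype.card_subtype, hcard]

end field

section sylow

/-- a 2-subgroup of the full 2-power order is isomorphic to every Sylow 2-subgroup. -/
theorem sylow_equiv_of_card {G : Type*} [Group G] [Finite G] (H : Subgroup G) (k m : ℕ)
    (hH : Nat.card H = 2 ^ k) (hG : Nat.card G = 2 ^ k * m) (hm : ¬ 2 ∣ m) (S : Sylow 2 G) :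
    Nonempty (S ≃* H) := by
  haveI : Fact (Nat.Prime 2) := ⟨Nat.prime_two⟩
  have hm0 : m ≠ 0 := fun h0 => hm (h0 ▸ dvd_zero 2)
  have hfac : (Nat.card G).factorization 2 = k := by
    rw [hG, Nat.factorization_mul (pow_ne_zero _ two_ne_zero) hm0, Nat.Prime.factorization_pow
      Nat.prime_two]
    simp [Nat.factorization_eq_zero_of_not_dvd hm]
  have hH' : Nat.card H = 2 ^ (Nat.card G).factorization 2 := by rw [hfac, hH]
  exact ⟨Sylow.equiv S (Sylow.ofCard H hH')⟩

variable {F : Type*} [Field F] [Fintype F] {σ : F →+* F}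

/-- the model group inside `SU₃`. -/
def USU (h : Good σ) {q : ℕ} (hσq : ∀ x, σ x = x ^ q) (hF : Fintype.card F = q ^ 2) :
    TG h →* Cfsg.SU 3 F q :=
  ((Uhom (σ := σ) h.two).comp (T σ h.invol).subtype).codRestrict (Cfsg.SU 3 F q) (by
    classical
    intro g
    rw [Cfsg.Agent.Lib.Helper14.mem_SU_iff]
    intro u v
    exact Cfsg.Agent.Lib.Helper14.hermForm_mulVec_of_orthoN hF _ (orthoN_Umat h hσq g.2) u v)

theorem USU_injective (h : Good σ) {q : ℕ} (hσq : ∀ x, σ x = x ^ q)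
    (hF : Fintype.card F = q ^ 2) : Function.Injective (USU h hσq hF) := by
  intro x y hxy
  have h1 : Uhom (σ := σ) h.two x.1 = Uhom h.two y.1 := congrArg Subtype.val hxy
  exact Subtype.ext (Uhom_injective h.two h1)

end sylow

section sylow2

open Cfsg.Agent.Lib.Helper14

variable {F : Type*} [Field F] [Fintype F] {σ : F →+* F}

theorem card_SU3 {q : ℕ} (hF : Fintype.card F = q ^ 2) :
    Nat.card (Cfsg.SU 3 F q) = q ^ 3 * ((q ^ 2 - 1) * (q ^ 3 + 1)) := by
  classical
  have h1 := card_SU_mul hF 3 (by norm_num)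
  rw [card_GU hF 3] at h1
  have h2 : ∏ i ∈ Finset.range 3, (if Even i then q ^ (i + 1) + 1 else q ^ (i + 1) - 1) =
      (q + 1) * ((q ^ 2 - 1) * (q ^ 3 + 1)) := by
    rw [Finset.prod_range_succ, Finset.prod_range_succ, Finset.prod_range_one]
    have e1 : ¬ Even 1 := by decide
    have e2 : Even 2 := by decide
    simp only [Even.zero, if_true, e1, if_false, e2, zero_add, pow_one]
    ring
  rw [h2] at h1
  have h3 : (q + 1) * Nat.card (Cfsg.SU 3 F q) =
      (q + 1) * (q ^ 3 * ((q ^ 2 - 1) * (q ^ 3 + 1))) := by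
    rw [h1]
    norm_num
    ring
  exact Nat.eq_of_mul_eq_mul_left (by omega) h3

theorem odd_part {n : ℕ} (hn : 1 ≤ n) : ¬ 2 ∣ ((2 ^ n) ^ 2 - 1) * ((2 ^ n) ^ 3 + 1) := by
  obtain ⟨k, rfl⟩ : ∃ k, n = k + 1 := ⟨n - 1, by omega⟩
  have h1 : (2 ^ (k + 1)) ^ 2 = 2 * (2 ^ k * 2 ^ (k + 1)) := by ring
  have h2 : (2 ^ (k + 1)) ^ 3 = 2 * (2 ^ k * (2 ^ (k + 1)) ^ 2) := by ring
  have h3 : 0 < 2 ^ k * 2 ^ (k + 1) := by positivity
  intro hd
  rcases (Nat.Prime.dvd_mul Nat.prime_two).1 hd with h | h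
  · rw [h1] at h; omega
  · rw [h2] at h; omega

theorem sylow_SU_equiv (h : Good σ) {n : ℕ} (hn : 1 ≤ n) (hσq : ∀ x, σ x = x ^ (2 ^ n))
    (hk : Nat.card {c : F // σ c = c} = 2 ^ n) (hF : Fintype.card F = (2 ^ n) ^ 2)
    (P : Sylow 2 (Cfsg.SU 3 F (2 ^ n))) : Nonempty (P ≃* TG h) := by
  have hinj := USU_injective h hσq hF
  have hcardT : Nat.card (TG h) = (2 ^ n) ^ 3 :=
    card_TG h (2 ^ n) hk (by rw [Nat.card_eq_fintype_card, hF])
  have hH : Nat.card (USU h hσq hF).range = 2 ^ (n * 3) := by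
    rw [← Nat.card_congr (MonoidHom.ofInjective hinj).toEquiv, hcardT, pow_mul]
  have hG : Nat.card (Cfsg.SU 3 F (2 ^ n)) =
      2 ^ (n * 3) * (((2 ^ n) ^ 2 - 1) * ((2 ^ n) ^ 3 + 1)) := by
    rw [card_SU3 hF, pow_mul]
  obtain ⟨e⟩ := sylow_equiv_of_card _ _ _ hH hG (odd_part hn) P
  exact ⟨e.trans (MonoidHom.ofInjective hinj).symm⟩

theorem sylow_PSU_equiv (h : Good σ) {n : ℕ} (hn : 1 ≤ n) (hσq : ∀ x, σ x = x ^ (2 ^ n))
    (hk : Nat.card {c : F // σ c = c} = 2 ^ n) (hF : Fintype.card F = (2 ^ n) ^ 2)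
    (S : Sylow 2 (Cfsg.PSU 3 F (2 ^ n))) : Nonempty (S ≃* TG h) := by
  classical
  set Z := Subgroup.center (Cfsg.SU 3 F (2 ^ n)) with hZ
  have hzc : Nat.card Z = Nat.gcd 3 (2 ^ n + 1) := card_center_SU hF 3 (by norm_num)
  have hz3 : Nat.card Z ∣ 3 := by rw [hzc]; exact Nat.gcd_dvd_left _ _
  have hzodd : ¬ 2 ∣ Nat.card Z := by
    intro h2
    have := Nat.dvd_trans h2 hz3
    omega
  have hcop : Nat.Coprime 4 (Nat.card Z) := by
    have : Nat.Coprime 2 (Nat.card Z) := (Nat.Prime.coprime_iff_not_dvd Nat.prime_two).2 hzodd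
    exact Nat.Coprime.pow_left 2 this
  set f : TG h →* Cfsg.PSU 3 F (2 ^ n) := (QuotientGroup.mk' Z).comp (USU h hσq hF) with hf
  have hinj0 := USU_injective h hσq hF
  have hinj : Function.Injective f := by
    rw [injective_iff_map_eq_one]
    intro x hx
    have hxZ : USU h hσq hF x ∈ Z := by
      rw [hf, MonoidHom.comp_apply, QuotientGroup.mk'_apply, QuotientGroup.eq_one_iff] at hx
      exact hx
    have h4 : x ^ 4 = 1 := by
      obtain ⟨k, hk⟩ := (isPGroup h) x
      have : orderOf x ∣ 4 := by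
        have h1 : (x * x) * (x * x) = 1 := by
          rw [coe_mul_self_eq_one_iff h, Subgroup.coe_mul, mul_a, h.add_self]
        apply orderOf_dvd_of_pow_eq_one
        rw [pow_succ, pow_succ, pow_succ, pow_one, mul_assoc]
        exact h1
      exact orderOf_dvd_iff_pow_eq_one.1 this
    have h5 : orderOf (USU h hσq hF x) ∣ 4 := by
      apply orderOf_dvd_of_pow_eq_one
      rw [← map_pow, h4, map_one]
    have h6 : orderOf (USU h hσq hF x) ∣ Nat.card Z := Subgroup.orderOf_dvd_natCard _ hxZ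
    have h7 : orderOf (USU h hσq hF x) = 1 := Nat.eq_one_of_dvd_coprimes hcop h5 h6
    rw [orderOf_eq_one_iff] at h7
    exact hinj0 (by rw [h7, map_one])
  have hcardT : Nat.card (TG h) = (2 ^ n) ^ 3 :=
    card_TG h (2 ^ n) hk (by rw [Nat.card_eq_fintype_card, hF])
  have hH : Nat.card f.range = 2 ^ (n * 3) := by
    rw [← Nat.card_congr (MonoidHom.ofInjective hinj).toEquiv, hcardT, pow_mul]
  have hG0 : Nat.card (Cfsg.SU 3 F (2 ^ n)) =
      2 ^ (n * 3) * (((2 ^ n) ^ 2 - 1) * ((2 ^ n) ^ 3 + 1)) := by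
    rw [card_SU3 hF, pow_mul]
  have hq := Subgroup.card_eq_card_quotient_mul_card_subgroup Z
  rw [hG0] at hq
  have hdvd : 2 ^ (n * 3) ∣ Nat.card (Cfsg.SU 3 F (2 ^ n) ⧸ Z) := by
    have h1 : 2 ^ (n * 3) ∣ Nat.card (Cfsg.SU 3 F (2 ^ n) ⧸ Z) * Nat.card Z :=
      ⟨_, hq.symm⟩
    have hc : Nat.Coprime (2 ^ (n * 3)) (Nat.card Z) :=
      Nat.Coprime.pow_left _ ((Nat.Prime.coprime_iff_not_dvd Nat.prime_two).2 hzodd)
    exact hc.dvd_of_dvd_mul_right h1
  obtain ⟨m, hm⟩ := hdvd
  have hmodd : ¬ 2 ∣ m := by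
    intro h2
    apply odd_part hn
    have h3 : 2 ^ (n * 3) * (((2 ^ n) ^ 2 - 1) * ((2 ^ n) ^ 3 + 1)) =
        2 ^ (n * 3) * (m * Nat.card Z) := by
      rw [hq, hm]; ring
    have h4 := Nat.eq_of_mul_eq_mul_left (by positivity) h3
    rw [h4]
    exact Dvd.dvd.mul_right h2 _
  obtain ⟨e⟩ := sylow_equiv_of_card (G := Cfsg.PSU 3 F (2 ^ n)) f.range _ m hH hm hmodd S
  exact ⟨e.trans (MonoidHom.ofInjective hinj).symm⟩

end sylow2

end Cfsg.Agent.Lib.Helper18.SU3Model
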