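import Mathlib
import Cfsg.Agent.Lib.Helper18.PSL2AutBasic

/-!
Automorphisms of `PSL₂(F)`: normalisation by inner automorphisms so that the two standard
unipotent subgroups are preserved (helper18).
-/

set_option autoImplicit false

namespace Cfsg.Agent.Lib.Helper18.PSL2Aut

open Matrix Cfsg.Agent.Lib.Helper13

variable {F : Type*} [Field F]

/-- the image of the upper unitriangular subgroup in `PSL₂` -/
def Ub (F : Type*) [Field F] : Subgroup (ProjectiveSpecialLinearGroup (Fin 2) F) :=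
  (unipSL F).map pi

theorem mem_Ub {g : ProjectiveSpecialLinearGroup (Fin 2) F} : g ∈ Ub F ↔ ∃ t : F, ub t = g := by
  constructor
  · rintro ⟨x, hx, rfl⟩
    obtain ⟨t, rfl⟩ := mem_unipSL.mp hx
    exact ⟨t, rfl⟩
  · rintro ⟨t, rfl⟩
    exact ⟨tSL t, tSL_mem_unipSL t, rfl⟩

theorem ub_mem_Ub (t : F) : ub t ∈ Ub F := mem_Ub.mpr ⟨t, rfl⟩

theorem lb_one_notMem_Ub : lb (1 : F) ∉ Ub F := by
  intro h
  obtain ⟨t, ht⟩ := mem_Ub.mp h
  obtain ⟨r, -, hr⟩ := (pi_eq_iff _ _).mp ht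
  have h10 := hr 1 0
  simp [tSL, lSL] at h10

/-- the Weyl element of `SL₂` -/
def wS (F : Type*) [Field F] : SpecialLinearGroup (Fin 2) F :=
  ⟨!![0, -1; 1, 0], by simp [Matrix.det_fin_two]⟩

/-- the Weyl element conjugates the upper to the lower unipotent subgroup -/
theorem lb_eq_conj (s : F) : lb s = pi (wS F) * ub (-s) * (pi (wS F))⁻¹ := by
  rw [eq_mul_inv_iff_mul_eq, lb, ub, ← map_mul, ← map_mul]
  congr 1
  apply Subtype.ext
  change (!![1, 0; s, 1] * !![0, -1; 1, 0] : Matrix (Fin 2) (Fin 2) F) =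
    !![0, -1; 1, 0] * !![1, -s; 0, 1]
  ext i j
  fin_cases i <;> fin_cases j <;> simp [Matrix.mul_apply, Fin.sum_univ_two]

/-- conjugates of `Ub` by upper triangular elements -/
theorem conj_ub_of_upper {x : SpecialLinearGroup (Fin 2) F}
    (hx : (x : Matrix (Fin 2) (Fin 2) F) 1 0 = 0) (t : F) :
    pi x * ub t * (pi x)⁻¹ = ub (t * (x : Matrix (Fin 2) (Fin 2) F) 0 0 ^ 2) := by
  rw [ub, ← map_inv, ← map_mul, ← map_mul, upper_conj_tSL hx, ub]

/-- conjugates of `Ub` by elements that are not upper triangular -/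
theorem conj_ub_of_not_upper {x : SpecialLinearGroup (Fin 2) F}
    (hx : (x : Matrix (Fin 2) (Fin 2) F) 1 0 ≠ 0) (t : F) :
    ub (-(x : Matrix (Fin 2) (Fin 2) F) 0 0 / (x : Matrix (Fin 2) (Fin 2) F) 1 0) *
      (pi x * ub t * (pi x)⁻¹) *
      (ub (-(x : Matrix (Fin 2) (Fin 2) F) 0 0 / (x : Matrix (Fin 2) (Fin 2) F) 1 0))⁻¹ =
      lb (-t * (x : Matrix (Fin 2) (Fin 2) F) 1 0 ^ 2) := by
  rw [ub, ub, lb, ← conj_conj_tSL x hx t]
  simp only [map_mul, map_inv]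

variable [Fintype F] (p : ℕ) [Fact p.Prime] [CharP F p]

/-- `Ub` as a Sylow subgroup -/
noncomputable def sylowUb : Sylow p (ProjectiveSpecialLinearGroup (Fin 2) F) :=
  (sylowUnipSL (F := F) p).mapSurjective pi_surjective

theorem coe_sylowUb : ((sylowUb (F := F) p : Sylow p (ProjectiveSpecialLinearGroup (Fin 2) F)) :
    Subgroup (ProjectiveSpecialLinearGroup (Fin 2) F)) = Ub F := by
  rw [sylowUb, Sylow.coe_mapSurjective, coe_sylowUnipSL]
  rfl

include p in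
/-- N1: up to an inner automorphism, an automorphism normalises `Ub` -/
theorem exists_conj_Ub
    (α : ProjectiveSpecialLinearGroup (Fin 2) F ≃* ProjectiveSpecialLinearGroup (Fin 2) F) :
    ∃ y : ProjectiveSpecialLinearGroup (Fin 2) F, ∀ g, g ∈ Ub F ↔ y * α g * y⁻¹ ∈ Ub F := by
  have hcard : Nat.card ((Ub F).map α.toMonoidHom) =
      p ^ (Nat.card (ProjectiveSpecialLinearGroup (Fin 2) F)).factorization p := by
    rw [Subgroup.card_map_of_injective α.injective, ← coe_sylowUb p]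
    exact Sylow.card_eq_multiplicity _
  obtain ⟨y, hy⟩ := MulAction.exists_smul_eq (ProjectiveSpecialLinearGroup (Fin 2) F)
    (Sylow.ofCard _ hcard) (sylowUb (F := F) p)
  refine ⟨y, fun g => ?_⟩
  have h1 : ((y • (Sylow.ofCard _ hcard) : Sylow p (ProjectiveSpecialLinearGroup (Fin 2) F)) :
      Subgroup (ProjectiveSpecialLinearGroup (Fin 2) F)) = Ub F := by
    rw [hy, coe_sylowUb]
  have h2 : y * α g * y⁻¹ = MulAut.conj y • α g := by
    rw [MulAut.smul_def, MulAut.conj_apply]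
  rw [h2]
  conv_rhs => rw [← h1]
  rw [Sylow.coe_subgroup_smul, Subgroup.smul_mem_pointwise_smul_iff]
  show g ∈ Ub F ↔ α g ∈ (Ub F).map α.toMonoidHom
  constructor
  · intro hg
    exact ⟨g, hg, rfl⟩
  · rintro ⟨g', hg', h⟩
    have : g' = g := α.injective h
    rwa [← this]

omit [Fintype F] in
/-- N2: an automorphism normalising `Ub` maps `Lb` to a `Ub`-conjugate of `Lb` -/
theorem exists_conj_Lb
    (β : ProjectiveSpecialLinearGroup (Fin 2) F ≃* ProjectiveSpecialLinearGroup (Fin 2) F)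
    (hU : ∀ g, g ∈ Ub F ↔ β g ∈ Ub F) :
    ∃ a : F, ∀ s : F, ∃ s' : F, ub a * β (lb s) * (ub a)⁻¹ = lb s' := by
  obtain ⟨x, hx⟩ := pi_surjective (β (pi (wS F)))
  have hβ : ∀ s : F, ∃ t : F, β (lb s) = pi x * ub t * (pi x)⁻¹ := by
    intro s
    obtain ⟨t, ht⟩ := mem_Ub.mp ((hU _).mp (ub_mem_Ub (-s)))
    refine ⟨t, ?_⟩
    rw [lb_eq_conj s, map_mul, map_mul, map_inv, hx, ht]
  by_cases hc : (x : Matrix (Fin 2) (Fin 2) F) 1 0 = 0
  · exfalso
    obtain ⟨t, ht⟩ := hβ 1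
    rw [conj_ub_of_upper hc] at ht
    apply lb_one_notMem_Ub (F := F)
    rw [hU, ht]
    exact ub_mem_Ub _
  · refine ⟨-(x : Matrix (Fin 2) (Fin 2) F) 0 0 / (x : Matrix (Fin 2) (Fin 2) F) 1 0, fun s => ?_⟩
    obtain ⟨t, ht⟩ := hβ s
    exact ⟨_, by rw [ht, conj_ub_of_not_upper hc]⟩

include p in
/-- normalisation: up to an inner automorphism, an automorphism preserves `Ub` and `Lb` -/
theorem exists_conj_Ub_Lb
    (α : ProjectiveSpecialLinearGroup (Fin 2) F ≃* ProjectiveSpecialLinearGroup (Fin 2) F) :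
    ∃ y : ProjectiveSpecialLinearGroup (Fin 2) F, (∀ g, g ∈ Ub F ↔ y * α g * y⁻¹ ∈ Ub F) ∧
      ∀ s : F, ∃ s' : F, y * α (lb s) * y⁻¹ = lb s' := by
  obtain ⟨y, hy⟩ := exists_conj_Ub p α
  let β : ProjectiveSpecialLinearGroup (Fin 2) F ≃* ProjectiveSpecialLinearGroup (Fin 2) F :=
    α.trans (MulAut.conj y)
  have hβ : ∀ g, β g = y * α g * y⁻¹ := fun g => rfl
  obtain ⟨a, ha⟩ := exists_conj_Lb β hy
  refine ⟨ub a * y, fun g => ?_, fun s => ?_⟩
  · rw [hy g]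
    have e : ub a * y * α g * (ub a * y)⁻¹ = ub a * (y * α g * y⁻¹) * (ub a)⁻¹ := by group
    rw [e]
    constructor
    · intro h
      exact (Ub F).mul_mem ((Ub F).mul_mem (ub_mem_Ub a) h) ((Ub F).inv_mem (ub_mem_Ub a))
    · intro h
      have e2 : y * α g * y⁻¹ = (ub a)⁻¹ * (ub a * (y * α g * y⁻¹) * (ub a)⁻¹) * ub a := by group
      rw [e2]
      exact (Ub F).mul_mem ((Ub F).mul_mem ((Ub F).inv_mem (ub_mem_Ub a)) h) (ub_mem_Ub a)
  · obtain ⟨s', hs'⟩ := ha s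
    refine ⟨s', ?_⟩
    rw [← hs', hβ]
    group

end Cfsg.Agent.Lib.Helper18.PSL2Aut
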