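import Mathlib
import Cfsg.Agent.Lib.Helper18.PSL2AutSylow

/-!
Automorphisms of `PSL₂(F)`: an automorphism preserving the two standard unipotent subgroups acts
semilinearly on the upper one (helper18).
-/

set_option autoImplicit false

namespace Cfsg.Agent.Lib.Helper18.PSL2Aut

open Matrix Cfsg.Agent.Lib.Helper13

variable {F : Type*} [Field F]

/-- in a finite field every element is a difference of two squares -/
theorem sq_sub_sq [Finite F] (x : F) : ∃ u v : F, x = u ^ 2 - v ^ 2 := by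
  by_cases h2 : (2 : F) = 0
  · have hchar : ringChar F = 2 :=
      CharP.ringChar_of_prime_eq_zero Nat.prime_two (by exact_mod_cast h2)
    obtain ⟨r, hr⟩ := FiniteField.isSquare_of_char_two hchar x
    exact ⟨r, 0, by rw [hr]; ring⟩
  · exact ⟨(x + 1) / 2, (x - 1) / 2, by field_simp; ring⟩

/-- an additive map that is multiplicative on squares is multiplicative -/
theorem mul_of_sq [Finite F] (f : F → F) (hadd : ∀ x y, f (x + y) = f x + f y)
    (hsq : ∀ x t, f (x ^ 2 * t) = f (x ^ 2) * f t) (x t : F) : f (x * t) = f x * f t := by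
  let f' : F →+ F := AddMonoidHom.mk' f hadd
  have hf' : ∀ x, f' x = f x := fun x => rfl
  obtain ⟨u, v, rfl⟩ := sq_sub_sq x
  rw [sub_mul, ← hf', map_sub, hf', hf', hsq, hsq, ← hf' (u ^ 2 - v ^ 2), map_sub, hf', hf']
  ring

/-- an additive map that is linear over squares is linear -/
theorem lin_of_sq [Finite F] (f : F → F) (hadd : ∀ x y, f (x + y) = f x + f y)
    (hsq : ∀ x t, f (x ^ 2 * t) = x ^ 2 * f t) (x t : F) : f (x * t) = x * f t := by
  let f' : F →+ F := AddMonoidHom.mk' f hadd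
  have hf' : ∀ x, f' x = f x := fun x => rfl
  obtain ⟨u, v, rfl⟩ := sq_sub_sq x
  rw [sub_mul, ← hf', map_sub, hf', hf', hsq, hsq]
  ring

/-- an element conjugating a nontrivial element of `Ub` into `Ub` is upper triangular -/
theorem upper_of_conj_ub (x : SpecialLinearGroup (Fin 2) F) {t t' : F} (ht : t ≠ 0)
    (h1 : pi x * ub t * (pi x)⁻¹ = ub t') : (x : Matrix (Fin 2) (Fin 2) F) 1 0 = 0 := by
  rw [mul_inv_eq_iff_eq_mul, ub, ub, ← map_mul, ← map_mul, pi_eq_iff] at h1
  obtain ⟨r, hr, h1⟩ := h1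
  have hr0 : r ≠ 0 := by
    rintro rfl
    simp at hr
  set m : Matrix (Fin 2) (Fin 2) F := (x : Matrix (Fin 2) (Fin 2) F) with hm
  have e10 := h1 1 0
  have e11 := h1 1 1
  simp only [Matrix.SpecialLinearGroup.coe_mul, tSL_coe, Matrix.mul_apply,
    Fin.sum_univ_two, ← hm] at e10 e11
  simp at e10 e11
  have h3 : r * t * m 1 0 ^ 2 = 0 := by
    linear_combination (m 1 1) * e10 - (m 1 0) * e11
  rcases mul_eq_zero.mp h3 with h4 | h4
  · exact absurd h4 (mul_ne_zero hr0 ht)
  · exact pow_eq_zero_iff (two_ne_zero) |>.mp h4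

/-- an element conjugating a nontrivial element of `Lb` into `Lb` is lower triangular -/
theorem lower_of_conj_lb (x : SpecialLinearGroup (Fin 2) F) {s s' : F} (hs : s ≠ 0)
    (h2 : pi x * lb s * (pi x)⁻¹ = lb s') : (x : Matrix (Fin 2) (Fin 2) F) 0 1 = 0 := by
  rw [mul_inv_eq_iff_eq_mul, lb, lb, ← map_mul, ← map_mul, pi_eq_iff] at h2
  obtain ⟨r', hr', h2⟩ := h2
  have hr0' : r' ≠ 0 := by
    rintro rfl
    simp at hr'
  set m : Matrix (Fin 2) (Fin 2) F := (x : Matrix (Fin 2) (Fin 2) F) with hm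
  have f01 := h2 0 1
  have f00 := h2 0 0
  simp only [Matrix.SpecialLinearGroup.coe_mul, lSL_coe, Matrix.mul_apply,
    Fin.sum_univ_two, ← hm] at f01 f00
  simp at f01 f00
  have h3 : r' * s * m 0 1 ^ 2 = 0 := by
    linear_combination (m 0 0) * f01 - (m 0 1) * f00
  rcases mul_eq_zero.mp h3 with h4 | h4
  · exact absurd h4 (mul_ne_zero hr0' hs)
  · exact pow_eq_zero_iff (two_ne_zero) |>.mp h4

/-- an element normalising both unipotent subgroups is diagonal -/
theorem diag_of_normalizes (y : ProjectiveSpecialLinearGroup (Fin 2) F) {t t' s s' : F}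
    (ht : t ≠ 0) (hs : s ≠ 0) (h1 : y * ub t * y⁻¹ = ub t') (h2 : y * lb s * y⁻¹ = lb s') :
    ∃ ν : Fˣ, y = hb ν := by
  obtain ⟨x, rfl⟩ := pi_surjective y
  have hm10 := upper_of_conj_ub x ht h1
  have hm01 := lower_of_conj_lb x hs h2
  set m : Matrix (Fin 2) (Fin 2) F := (x : Matrix (Fin 2) (Fin 2) F) with hm
  have hdet : m 0 0 * m 1 1 - m 0 1 * m 1 0 = 1 := by
    have := x.2
    rwa [Matrix.det_fin_two] at this
  rw [hm10, hm01] at hdet
  have h00 : m 0 0 ≠ 0 := by
    intro h
    rw [h] at hdet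
    simp at hdet
  refine ⟨Units.mk0 (m 0 0) h00, ?_⟩
  rw [hb]
  congr 1
  apply Subtype.ext
  change m = !![m 0 0, 0; 0, (m 0 0)⁻¹]
  ext i j
  fin_cases i <;> fin_cases j <;> simp [hm10, hm01]
  field_simp
  linear_combination hdet

section maps

variable (β : ProjectiveSpecialLinearGroup (Fin 2) F ≃* ProjectiveSpecialLinearGroup (Fin 2) F)
  (A A' : F → F) (hA : ∀ t, β (ub t) = ub (A t)) (hA' : ∀ s, β (lb s) = lb (A' s))

include hA in
theorem A_add (x y : F) : A (x + y) = A x + A y := by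
  apply ub_injective
  rw [← hA, ub_add, map_mul, hA, hA, ub_add]

include hA' in
theorem A'_add (x y : F) : A' (x + y) = A' x + A' y := by
  apply lb_injective
  rw [← hA', lb_add, map_mul, hA', hA', lb_add]

include hA in
theorem A_injective : Function.Injective A := by
  intro x y h
  apply ub_injective
  apply β.injective
  rw [hA, hA, h]

include hA' in
theorem A'_injective : Function.Injective A' := by
  intro x y h
  apply lb_injective
  apply β.injective
  rw [hA', hA', h]

include hA in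
theorem A_zero : A 0 = 0 := by
  have := A_add β A hA 0 0
  rw [add_zero] at this
  exact left_eq_add.mp this

include hA' in
theorem A'_zero : A' 0 = 0 := by
  have := A'_add β A' hA' 0 0
  rw [add_zero] at this
  exact left_eq_add.mp this

include hA hA' in
/-- the torus is mapped to the torus -/
theorem torus_map (μ : Fˣ) : ∃ ν : Fˣ, β (hb μ) = hb ν := by
  have h1 : A 1 ≠ 0 := by
    intro h
    have := A_injective β A hA (h.trans (A_zero β A hA).symm)
    exact one_ne_zero this
  have h2 : A' 1 ≠ 0 := by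
    intro h
    have := A'_injective β A' hA' (h.trans (A'_zero β A' hA').symm)
    exact one_ne_zero this
  apply diag_of_normalizes (β (hb μ)) h1 h2 (t' := A ((μ : F) ^ 2 * 1))
    (s' := A' (((μ : F) ^ 2)⁻¹))
  · rw [← hA, ← hA, ← map_inv, ← map_mul, ← map_mul, hb_conj_ub]
  · rw [← hA', ← hA', ← map_inv, ← map_mul, ← map_mul]
    congr 1
    have := hb_conj_lb μ (((μ : F) ^ 2)⁻¹)
    rwa [mul_inv_cancel₀ (pow_ne_zero 2 μ.ne_zero)] at this

include hA in
theorem A_sq {μ ν : Fˣ} (h : β (hb μ) = hb ν) (t : F) :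
    A ((μ : F) ^ 2 * t) = (ν : F) ^ 2 * A t := by
  apply ub_injective
  rw [← hA, ← hb_conj_ub, map_mul, map_mul, map_inv, h, hA, hb_conj_ub]

include hA' in
theorem A'_sq {μ ν : Fˣ} (h : β (hb μ) = hb ν) (t : F) :
    A' ((μ : F) ^ 2 * t) = (ν : F) ^ 2 * A' t := by
  apply lb_injective
  have h1 := hb_conj_lb μ t
  have h2 := congrArg β h1
  rw [map_mul, map_mul, map_inv, h, hA', hA'] at h2
  have h3 := hb_conj_lb ν (A' t)
  rw [← h3] at h2
  exact mul_left_cancel (mul_right_cancel h2)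

end maps

/-- an automorphism preserving `Ub` and `Lb` acts semilinearly on `Ub` -/
theorem semilinear [Finite F]
    (β : ProjectiveSpecialLinearGroup (Fin 2) F ≃* ProjectiveSpecialLinearGroup (Fin 2) F)
    (hU : ∀ g, g ∈ Ub F ↔ β g ∈ Ub F) (hL : ∀ s : F, ∃ s' : F, β (lb s) = lb s') :
    ∃ (κ : F ≃+* F) (a : Fˣ), ∀ t, β (ub t) = ub ((a : F) * κ t) := by
  choose A hA using fun t : F => mem_Ub.mp ((hU _).mp (ub_mem_Ub t))
  replace hA : ∀ t, β (ub t) = ub (A t) := fun t => (hA t).symm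
  choose A' hA' using hL
  have h1 : A 1 ≠ 0 := by
    intro h
    have := A_injective β A hA (h.trans (A_zero β A hA).symm)
    exact one_ne_zero this
  have hadd : ∀ x y, (A 1)⁻¹ * A (x + y) = (A 1)⁻¹ * A x + (A 1)⁻¹ * A y := by
    intro x y
    rw [A_add β A hA, mul_add]
  have hsq : ∀ x t, (A 1)⁻¹ * A (x ^ 2 * t) = ((A 1)⁻¹ * A (x ^ 2)) * ((A 1)⁻¹ * A t) := by
    intro x t
    by_cases hx : x = 0
    · subst hx
      simp [A_zero β A hA]
    · obtain ⟨ν, hν⟩ := torus_map β A A' hA hA' (Units.mk0 x hx)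
      have e1 := A_sq β A hA hν t
      have e2 := A_sq β A hA hν 1
      rw [Units.val_mk0] at e1 e2
      rw [mul_one] at e2
      rw [e1, e2]
      field_simp
  have hmul := mul_of_sq (fun t => (A 1)⁻¹ * A t) hadd hsq
  let κ₀ : F →+* F :=
    { toFun := fun t => (A 1)⁻¹ * A t
      map_one' := inv_mul_cancel₀ h1
      map_mul' := hmul
      map_zero' := by rw [A_zero β A hA, mul_zero]
      map_add' := hadd }
  have hbij : Function.Bijective κ₀ :=
    Finite.injective_iff_bijective.mp κ₀.injective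
  refine ⟨RingEquiv.ofBijective κ₀ hbij, Units.mk0 (A 1) h1, fun t => ?_⟩
  rw [hA]
  congr 1
  show A t = A 1 * ((A 1)⁻¹ * A t)
  field_simp

end Cfsg.Agent.Lib.Helper18.PSL2Aut
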