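import Mathlib
import Cfsg.Agent.Lib.Helper18.PSL2AutSemilinear
import Cfsg.Agent.Lib.Helper18.PSL2AutMaps

/-!
Automorphisms of `PSL₂(F)`: rigidity and the decomposition of an automorphism into inner, diagonal
and field automorphisms (helper18).
-/

set_option autoImplicit false

namespace Cfsg.Agent.Lib.Helper18.PSL2Aut

open Matrix Cfsg.Agent.Lib.Helper13

variable {F : Type*} [Field F]

/-- the relation `(u(1) l(-1) u(1))² = 1` in `PSL₂` -/
theorem rel_two : ub (1 : F) * lb (-1) * ub 1 * (ub 1 * lb (-1) * ub 1) = 1 := by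
  rw [ub, lb, ← map_mul, ← map_mul, ← map_mul]
  have : tSL (1 : F) * lSL (-1) * tSL 1 * (tSL 1 * lSL (-1) * tSL 1) = zS (-1) (by ring) := by
    apply Subtype.ext
    change (!![1, 1; 0, 1] * !![1, 0; -1, 1] * !![1, 1; 0, 1] *
      (!![1, 1; 0, 1] * !![1, 0; -1, 1] * !![1, 1; 0, 1]) : Matrix (Fin 2) (Fin 2) F) =
      !![-1, 0; 0, -1]
    ext i j
    fin_cases i <;> fin_cases j <;> simp [Matrix.mul_apply, Fin.sum_univ_two]
  rw [this, pi_zS]

/-- the relation `(u(1) l(-1))³ = 1` in `PSL₂` -/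
theorem rel_three : ub (1 : F) * lb (-1) * (ub 1 * lb (-1)) * (ub 1 * lb (-1)) = 1 := by
  rw [ub, lb, ← map_mul, ← map_mul, ← map_mul]
  have : tSL (1 : F) * lSL (-1) * (tSL 1 * lSL (-1)) * (tSL 1 * lSL (-1)) = zS (-1) (by ring) := by
    apply Subtype.ext
    change (!![1, 1; 0, 1] * !![1, 0; -1, 1] * (!![1, 1; 0, 1] * !![1, 0; -1, 1]) *
      (!![1, 1; 0, 1] * !![1, 0; -1, 1]) : Matrix (Fin 2) (Fin 2) F) =
      !![-1, 0; 0, -1]
    ext i j
    fin_cases i <;> fin_cases j <;> simp [Matrix.mul_apply, Fin.sum_univ_two]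
  rw [this, pi_zS]

/-- the constraint from `rel_two` -/
theorem con_two {c : F}
    (h : ub (1 : F) * lb (-c) * ub 1 * (ub 1 * lb (-c) * ub 1) = 1) : 2 * c * (1 - c) = 0 := by
  rw [ub, lb, ← map_mul, ← map_mul, ← map_mul, ← map_one pi] at h
  obtain ⟨r, -, hr⟩ := (pi_eq_iff _ _).mp h.symm
  have h10 := hr 1 0
  simp only [Matrix.SpecialLinearGroup.coe_mul, tSL_coe, lSL_coe, Matrix.mul_apply,
    Fin.sum_univ_two] at h10
  simp at h10
  linear_combination (-1 : F) * h10

/-- the constraint from `rel_three` -/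
theorem con_three {c : F}
    (h : ub (1 : F) * lb (-c) * (ub 1 * lb (-c)) * (ub 1 * lb (-c)) = 1) :
    c ^ 2 - 4 * c + 3 = 0 := by
  rw [ub, lb, ← map_mul, ← map_mul, ← map_mul, ← map_one pi] at h
  obtain ⟨r, -, hr⟩ := (pi_eq_iff _ _).mp h.symm
  have h01 := hr 0 1
  simp only [Matrix.SpecialLinearGroup.coe_mul, tSL_coe, lSL_coe, Matrix.mul_apply,
    Fin.sum_univ_two] at h01
  simp at h01
  linear_combination h01

/-- rigidity: an automorphism fixing `Ub` elementwise and preserving `Lb` is trivial -/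
theorem rigid [Finite F]
    (β : ProjectiveSpecialLinearGroup (Fin 2) F ≃* ProjectiveSpecialLinearGroup (Fin 2) F)
    (hfix : ∀ t : F, β (ub t) = ub t) (hL : ∀ s : F, ∃ s' : F, β (lb s) = lb s')
    (g : ProjectiveSpecialLinearGroup (Fin 2) F) : β g = g := by
  choose A' hA' using hL
  have hadd := A'_add β A' hA'
  -- the torus is fixed elementwise
  have hT : ∀ μ : Fˣ, β (hb μ) = hb μ := by
    intro μ
    obtain ⟨ν, hν⟩ := torus_map β id A' hfix hA' μ
    have h1 := A_sq β id hfix hν 1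
    simp only [id, mul_one] at h1
    rw [hν, hb_eq_iff]
    have h2 : ((μ : F) - ν) * ((μ : F) + ν) = 0 := by linear_combination h1
    rcases mul_eq_zero.mp h2 with h3 | h3
    · left; exact sub_eq_zero.mp h3
    · right; exact eq_neg_of_add_eq_zero_left h3
  have hsq : ∀ x t : F, A' (x ^ 2 * t) = x ^ 2 * A' t := by
    intro x t
    by_cases hx : x = 0
    · subst hx
      simp [A'_zero β A' hA']
    · have := A'_sq β A' hA' (hT (Units.mk0 x hx)) t
      rwa [Units.val_mk0] at this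
  have hlin := lin_of_sq A' hadd hsq
  set c : F := A' 1 with hc
  have hA'c : ∀ s, A' s = s * c := by
    intro s
    have := hlin s 1
    rwa [mul_one] at this
  have hc0 : c ≠ 0 := by
    intro h
    have := A'_injective β A' hA' (h.trans (A'_zero β A' hA').symm)
    exact one_ne_zero this
  have e2 := congrArg β (rel_two (F := F))
  have e3 := congrArg β (rel_three (F := F))
  simp only [map_mul, map_one, hfix, hA', hA'c, neg_one_mul] at e2 e3
  have c2 := con_two e2
  have c3 := con_three e3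
  have hc1 : c = 1 := by
    have h1 : 2 * (1 - c) = 0 := by
      have : c * (2 * (1 - c)) = 0 := by linear_combination c2
      exact (mul_eq_zero.mp this).resolve_left hc0
    rcases mul_eq_zero.mp h1 with h2 | h2
    · have : (c - 1) ^ 2 = 0 := by linear_combination c3 + (c - 1) * h2
      exact sub_eq_zero.mp (pow_eq_zero_iff two_ne_zero |>.mp this)
    · exact (sub_eq_zero.mp h2).symm
  have hLfix : ∀ s : F, β (lb s) = lb s := by
    intro s
    rw [hA', hA'c, hc1, mul_one]
  exact mem_of_ub_lb_mem (β.toMonoidHom.eqLocus (MonoidHom.id _)) hfix hLfix g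

/-- **every automorphism of `PSL₂(F)` is a product of an inner, a diagonal and a field
automorphism** -/
theorem aut_decomp [Fintype F] (p : ℕ) [Fact p.Prime] [CharP F p]
    (α : ProjectiveSpecialLinearGroup (Fin 2) F ≃* ProjectiveSpecialLinearGroup (Fin 2) F) :
    ∃ (y : ProjectiveSpecialLinearGroup (Fin 2) F) (a : Fˣ) (κ : F ≃+* F),
      ∀ g, α g = y * dAut a (fAut κ g) * y⁻¹ := by
  obtain ⟨y₀, hU, hL⟩ := exists_conj_Ub_Lb p α
  let β : ProjectiveSpecialLinearGroup (Fin 2) F ≃* ProjectiveSpecialLinearGroup (Fin 2) F :=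
    α.trans (MulAut.conj y₀)
  have hβ : ∀ g, β g = y₀ * α g * y₀⁻¹ := fun g => rfl
  obtain ⟨κ, a, hκ⟩ := semilinear β hU hL
  let γ : ProjectiveSpecialLinearGroup (Fin 2) F ≃* ProjectiveSpecialLinearGroup (Fin 2) F :=
    β.trans ((fAut κ).trans (dAut a)).symm
  have hγ : ∀ g, γ g = (fAut κ).symm ((dAut a).symm (β g)) := fun g => rfl
  have hγU : ∀ t : F, γ (ub t) = ub t := by
    intro t
    rw [hγ, hκ, ← dAut_ub, MulEquiv.symm_apply_apply, ← fAut_ub, MulEquiv.symm_apply_apply]
  have hγL : ∀ s : F, ∃ s' : F, γ (lb s) = lb s' := by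
    intro s
    obtain ⟨s', hs'⟩ := hL s
    refine ⟨κ.symm ((a : F) * s'), ?_⟩
    rw [hγ, hβ, hs']
    have h1 : lb s' = dAut a (lb ((a : F) * s')) := by
      rw [dAut_lb, inv_mul_cancel_left₀ a.ne_zero]
    have h2 : lb ((a : F) * s') = fAut κ (lb (κ.symm ((a : F) * s'))) := by
      rw [fAut_lb, RingEquiv.apply_symm_apply]
    rw [h1, MulEquiv.symm_apply_apply, h2, MulEquiv.symm_apply_apply]
  have hγ1 := rigid γ hγU hγL
  refine ⟨y₀⁻¹, a, κ, fun g => ?_⟩
  have h1 : β g = dAut a (fAut κ g) := by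
    have := hγ1 g
    rw [hγ, MulEquiv.symm_apply_eq, MulEquiv.symm_apply_eq] at this
    exact this
  rw [← h1, hβ]
  group

end Cfsg.Agent.Lib.Helper18.PSL2Aut
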