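import Mathlib
import Cfsg.Agent.Lib.Helper18.PSLnUnitri
import Cfsg.Agent.Lib.Helper25.SLRoot5
import Cfsg.Agent.Lib.Helper15.SLTrans

/-!
Root subgroups (images of transvection subgroups) of `PSL_n(F)`; every automorphism permutes
them (helper18).
-/

set_option autoImplicit false

namespace Cfsg.Agent.Lib.Helper18.PSLnAut

open Matrix Cfsg Cfsg.Agent.Lib.Helper25 Cfsg.Agent.Lib.Helper25.SLRoot

variable {n : ℕ} {F : Type*} [Field F]

/-- the root subgroup of `PSL_n` attached to `(v, φ)` -/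
def RB (v φ : Fin n → F) (h : φ ⬝ᵥ v = 0) : Subgroup (ProjectiveSpecialLinearGroup (Fin n) F) :=
  (TV v φ h).map pi

theorem mem_RB {v φ : Fin n → F} {h : φ ⬝ᵥ v = 0} {x : ProjectiveSpecialLinearGroup (Fin n) F} :
    x ∈ RB v φ h ↔ ∃ c : F, pi (tvSL v φ h c) = x := by
  constructor
  · rintro ⟨y, hy, rfl⟩
    obtain ⟨c, rfl⟩ := mem_TV.1 hy
    exact ⟨c, rfl⟩
  · rintro ⟨c, rfl⟩
    exact ⟨_, tvSL_mem h c, rfl⟩

theorem pi_tvSL_mem {v φ : Fin n → F} (h : φ ⬝ᵥ v = 0) (c : F) : pi (tvSL v φ h c) ∈ RB v φ h :=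
  mem_RB.2 ⟨c, rfl⟩

theorem RB_congr {v φ v' φ' : Fin n → F} (h : φ ⬝ᵥ v = 0) (hv : v = v') (hφ : φ = φ')
    (h' : φ' ⬝ᵥ v' = 0) : RB v φ h = RB v' φ' h' := by
  subst hv; subst hφ; rfl

theorem RB_smul {v φ : Fin n → F} (h : φ ⬝ᵥ v = 0) {a b : F} (ha : a ≠ 0) (hb : b ≠ 0)
    (h' : (b • φ) ⬝ᵥ (a • v) = 0) : RB (a • v) (b • φ) h' = RB v φ h := by
  unfold RB
  rw [TV_smul h ha hb h']

/-- the set of images of transvections (including `1`) -/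
def TT (n : ℕ) (F : Type*) [Field F] : Set (ProjectiveSpecialLinearGroup (Fin n) F) :=
  {x | ∃ (v φ : Fin n → F) (h : φ ⬝ᵥ v = 0), x = pi (tvSL v φ h 1)}

theorem tvSL_smul_one {v φ : Fin n → F} (h : φ ⬝ᵥ v = 0) (c : F) (h' : φ ⬝ᵥ (c • v) = 0) :
    tvSL (c • v) φ h' 1 = tvSL v φ h c := by
  apply Subtype.ext
  rw [tvSL_coe, tvSL_coe, one_smul, smul_vecMulVec]

theorem RB_subset_TT {v φ : Fin n → F} (h : φ ⬝ᵥ v = 0)
    {x : ProjectiveSpecialLinearGroup (Fin n) F} (hx : x ∈ RB v φ h) : x ∈ TT n F := by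
  obtain ⟨c, rfl⟩ := mem_RB.1 hx
  have h' : φ ⬝ᵥ (c • v) = 0 := by rw [dotProduct_smul, h, smul_zero]
  exact ⟨c • v, φ, h', by rw [tvSL_smul_one h c h']⟩

theorem one_mem_TT : (1 : ProjectiveSpecialLinearGroup (Fin n) F) ∈ TT n F := by
  have h : (0 : Fin n → F) ⬝ᵥ (0 : Fin n → F) = 0 := zero_dotProduct _
  refine ⟨0, 0, h, ?_⟩
  have : tvSL (0 : Fin n → F) 0 h 1 = 1 := by
    apply Subtype.ext
    rw [tvSL_coe, vecMulVec_zero, smul_zero, add_zero]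
    rfl
  rw [this, map_one]

/-- conjugation of root subgroups by elements of `PSL_n` -/
theorem mem_RB_conj {v φ : Fin n → F} (h : φ ⬝ᵥ v = 0) (g : SpecialLinearGroup (Fin n) F)
    (x : ProjectiveSpecialLinearGroup (Fin n) F) :
    x ∈ RB ((↑g : Matrix (Fin n) (Fin n) F) *ᵥ v) (φ ᵥ* (↑(g⁻¹) : Matrix (Fin n) (Fin n) F))
      (conj_dot h g) ↔ (pi g)⁻¹ * x * pi g ∈ RB v φ h := by
  rw [mem_RB, mem_RB]
  constructor
  · rintro ⟨c, rfl⟩
    refine ⟨c, ?_⟩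
    rw [← conj_tvSL h g c, map_mul, map_mul, map_inv]
    group
  · rintro ⟨c, hc⟩
    refine ⟨c, ?_⟩
    rw [← conj_tvSL h g c, map_mul, map_mul, map_inv, hc]
    group

section std

variable {k : ℕ}

/-- the standard highest root subgroup -/
theorem bv_last_dot_bv_zero :
    (bv (Fin.last (k + 1)) : Fin (k + 2) → F) ⬝ᵥ bv 0 = 0 :=
  bv_dot_bv (by
    intro h
    have := congrArg Fin.val h
    simp at this)

theorem zero_lt_last : (0 : Fin (k + 2)) < Fin.last (k + 1) := by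
  rw [Fin.lt_def]
  simp

theorem tvSL_bv_eq_transvection {i j : Fin n} (hij : i ≠ j) (c : F) :
    tvSL (bv i) (bv j) (bv_dot_bv hij) c = SpecialLinearGroup.transvection hij c := by
  apply Subtype.ext
  rw [tvSL_coe, tvMat_bv]
  rfl

/-- every root subgroup is conjugate to the standard one -/
theorem exists_conj_std {v φ : Fin (k + 2) → F} (h : φ ⬝ᵥ v = 0) (hv : v ≠ 0) (hφ : φ ≠ 0) :
    ∃ g : SpecialLinearGroup (Fin (k + 2)) F, ∀ x : ProjectiveSpecialLinearGroup (Fin (k + 2)) F,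
      x ∈ RB v φ h ↔ (pi g)⁻¹ * x * pi g ∈
        RB (bv 0) (bv (Fin.last (k + 1))) (bv_last_dot_bv_zero (F := F)) := by
  obtain ⟨g₀, hg₀⟩ := Cfsg.Agent.Lib.Helper15.SLTrans.exists_mulVec_eq hv
  have hg₀' : v = (↑g₀ : Matrix (Fin (k + 2)) (Fin (k + 2)) F) *ᵥ bv 0 := hg₀.symm
  have h' : φ ⬝ᵥ ((↑g₀ : Matrix (Fin (k + 2)) (Fin (k + 2)) F) *ᵥ bv 0) = 0 := by
    rw [← hg₀']; exact h
  have h01 : (0 : Fin (k + 2)) ≠ Fin.last (k + 1) := ne_of_lt zero_lt_last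
  have hmem := TV_mem_rootS h01 g₀ hφ h'
  obtain ⟨g, hg⟩ := hmem
  refine ⟨g, fun x => ?_⟩
  have hTV : TV v φ h = TV ((↑g : Matrix (Fin (k + 2)) (Fin (k + 2)) F) *ᵥ bv 0)
      ((bv (Fin.last (k + 1)) : Fin (k + 2) → F) ᵥ* (↑(g⁻¹) : Matrix (Fin (k + 2)) (Fin (k + 2)) F))
      (conj_dot (bv_dot_bv h01) g) := by
    rw [TV_congr h hg₀' rfl h', hg]
    unfold rootU
    rw [conjBy_TV]
  have hRB : RB v φ h = RB ((↑g : Matrix (Fin (k + 2)) (Fin (k + 2)) F) *ᵥ bv 0)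
      ((bv (Fin.last (k + 1)) : Fin (k + 2) → F) ᵥ* (↑(g⁻¹) : Matrix (Fin (k + 2)) (Fin (k + 2)) F))
      (conj_dot (bv_dot_bv h01) g) := by
    unfold RB
    rw [hTV]
  rw [hRB]
  exact mem_RB_conj _ g x

end std

section step1

variable {k : ℕ} [Fintype F]

/-- the standard root subgroup is the centre of `Ub` -/
theorem mem_R0_iff (x : ProjectiveSpecialLinearGroup (Fin (k + 2)) F) :
    x ∈ RB (bv 0) (bv (Fin.last (k + 1))) (bv_last_dot_bv_zero (F := F)) ↔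
      (x ∈ Ub (k + 2) F ∧ ∀ y ∈ Ub (k + 2) F, x * y = y * x) := by
  rw [mem_cen_Ub_iff (i0 := 0) (il := Fin.last (k + 1)) (fun j => Fin.zero_le j)
    (fun j => Fin.le_last j) zero_lt_last, mem_RB]
  constructor
  · rintro ⟨c, rfl⟩
    exact ⟨c, by rw [← tvSL_bv_eq_transvection]⟩
  · rintro ⟨c, rfl⟩
    exact ⟨c, by rw [← tvSL_bv_eq_transvection]⟩

variable (p : ℕ) [Fact p.Prime] [CharP F p]

include p in
theorem root_map_std
    (α : ProjectiveSpecialLinearGroup (Fin (k + 2)) F ≃* ProjectiveSpecialLinearGroup (Fin (k + 2)) F) :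
    ∃ g : SpecialLinearGroup (Fin (k + 2)) F, ∀ x : ProjectiveSpecialLinearGroup (Fin (k + 2)) F,
      x ∈ RB (bv 0) (bv (Fin.last (k + 1))) (bv_last_dot_bv_zero (F := F)) ↔
      (pi g)⁻¹ * α x * pi g ∈ RB (bv 0) (bv (Fin.last (k + 1))) (bv_last_dot_bv_zero (F := F)) := by
  obtain ⟨y, hy⟩ := exists_conj_Ub p (by omega) α
  obtain ⟨g, hg⟩ := pi_surjective y⁻¹
  have hyg : y = (pi g)⁻¹ := by rw [hg, inv_inv]
  refine ⟨g, fun x => ?_⟩
  let β : ProjectiveSpecialLinearGroup (Fin (k + 2)) F ≃* ProjectiveSpecialLinearGroup (Fin (k + 2)) F :=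
    α.trans (MulAut.conj y)
  have hβ : ∀ z, β z = y * α z * y⁻¹ := fun z => rfl
  have hβU : ∀ z, z ∈ Ub (k + 2) F ↔ β z ∈ Ub (k + 2) F := hy
  have key : (pi g)⁻¹ * α x * pi g = β x := by
    rw [hβ, hyg, inv_inv]
  rw [key, mem_R0_iff, mem_R0_iff]
  constructor
  · rintro ⟨hx, hc⟩
    refine ⟨(hβU x).1 hx, fun y' hy' => ?_⟩
    have h1 : β.symm y' ∈ Ub (k + 2) F := by
      rw [hβU, MulEquiv.apply_symm_apply]
      exact hy'
    have h2 := hc _ h1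
    have h3 := congrArg β h2
    rwa [map_mul, map_mul, MulEquiv.apply_symm_apply] at h3
  · rintro ⟨hx, hc⟩
    refine ⟨(hβU x).2 hx, fun y' hy' => ?_⟩
    have h2 := hc _ ((hβU y').1 hy')
    rw [← map_mul, ← map_mul] at h2
    exact β.injective h2

include p in
/-- every automorphism of `PSL_n` maps root subgroups to root subgroups -/
theorem root_map (hn : 2 ≤ n)
    (α : ProjectiveSpecialLinearGroup (Fin n) F ≃* ProjectiveSpecialLinearGroup (Fin n) F)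
    {v φ : Fin n → F} (h : φ ⬝ᵥ v = 0) (hv : v ≠ 0) (hφ : φ ≠ 0) :
    ∃ (v' φ' : Fin n → F) (h' : φ' ⬝ᵥ v' = 0), v' ≠ 0 ∧ φ' ≠ 0 ∧
      ∀ x : ProjectiveSpecialLinearGroup (Fin n) F, x ∈ RB v φ h ↔ α x ∈ RB v' φ' h' := by
  obtain ⟨k, rfl⟩ : ∃ k, n = k + 2 := ⟨n - 2, by omega⟩
  obtain ⟨g₁, hg₁⟩ := exists_conj_std h hv hφ
  obtain ⟨g, hg⟩ := root_map_std p α
  obtain ⟨g₂, hg₂⟩ := pi_surjective (α (pi g₁))
  have h01 : (0 : Fin (k + 2)) ≠ Fin.last (k + 1) := ne_of_lt zero_lt_last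
  refine ⟨(↑(g₂ * g) : Matrix (Fin (k + 2)) (Fin (k + 2)) F) *ᵥ bv 0,
    (bv (Fin.last (k + 1)) : Fin (k + 2) → F) ᵥ*
      (↑((g₂ * g)⁻¹) : Matrix (Fin (k + 2)) (Fin (k + 2)) F),
    conj_dot (bv_dot_bv h01) (g₂ * g), mulVec_ne_zero' _ (bv_ne_zero 0),
    vecMul_ne_zero' _ (bv_ne_zero _), fun x => ?_⟩
  rw [mem_RB_conj, hg₁, hg]
  have e : (pi g)⁻¹ * α ((pi g₁)⁻¹ * x * pi g₁) * pi g =
      (pi (g₂ * g))⁻¹ * α x * pi (g₂ * g) := by
    rw [map_mul, map_mul, map_inv, ← hg₂, map_mul]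
    group
  rw [e]

include p in
theorem TT_map (hn : 2 ≤ n)
    (α : ProjectiveSpecialLinearGroup (Fin n) F ≃* ProjectiveSpecialLinearGroup (Fin n) F)
    {x : ProjectiveSpecialLinearGroup (Fin n) F} (hx : x ∈ TT n F) : α x ∈ TT n F := by
  obtain ⟨v, φ, h, rfl⟩ := hx
  by_cases hv : v = 0
  · have : tvSL v φ h 1 = 1 := by
      apply Subtype.ext
      rw [tvSL_coe, hv, zero_vecMulVec, smul_zero, add_zero]
      rfl
    rw [this, map_one, map_one]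
    exact one_mem_TT
  by_cases hφ : φ = 0
  · have : tvSL v φ h 1 = 1 := by
      apply Subtype.ext
      rw [tvSL_coe, hφ, vecMulVec_zero, smul_zero, add_zero]
      rfl
    rw [this, map_one, map_one]
    exact one_mem_TT
  obtain ⟨v', φ', h', -, -, hmap⟩ := root_map p hn α h hv hφ
  exact RB_subset_TT h' ((hmap _).1 (pi_tvSL_mem h 1))

end step1

end Cfsg.Agent.Lib.Helper18.PSLnAut
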