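import Mathlib
import Cfsg.Agent.Lib.Helper18.PSLnRoot

/-!
The collinearity relation on root subgroups of `PSL_n(F)`, `n ≥ 3`: two root subgroups have all
products in the set of transvections iff they share the centre or the axis (helper18).
-/

set_option autoImplicit false

namespace Cfsg.Agent.Lib.Helper18.PSLnAut

open Matrix Cfsg Cfsg.Agent.Lib.Helper25 Cfsg.Agent.Lib.Helper25.SLRoot

variable {n : ℕ} {F : Type*} [Field F]

/-- proportional vectors -/
def Par (a b : Fin n → F) : Prop := ∀ i k, a i * b k = b i * a k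

theorem Par.refl (a : Fin n → F) : Par a a := fun _ _ => rfl

theorem Par.symm {a b : Fin n → F} (h : Par a b) : Par b a := fun i k => (h i k).symm

theorem par_smul (a : Fin n → F) (c : F) : Par a (c • a) := by
  intro i k
  simp only [Pi.smul_apply, smul_eq_mul]
  ring

theorem Par.exists_smul {a b : Fin n → F} (h : Par a b) (ha : a ≠ 0) (hb : b ≠ 0) :
    ∃ c : F, c ≠ 0 ∧ b = c • a := by
  obtain ⟨i, hi⟩ := Function.ne_iff.1 ha
  have hi' : a i ≠ 0 := hi
  have hbi : b i ≠ 0 := by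
    intro h0
    obtain ⟨j, hj⟩ := Function.ne_iff.1 hb
    have := h i j
    rw [h0, zero_mul] at this
    rcases mul_eq_zero.1 this with h1 | h1
    · exact hi' h1
    · exact hj h1
  refine ⟨b i / a i, div_ne_zero hbi hi', ?_⟩
  funext k
  simp only [Pi.smul_apply, smul_eq_mul]
  have := h i k
  field_simp
  linear_combination this

theorem Par.trans {a b c : Fin n → F} (hab : Par a b) (hbc : Par b c) (hb : b ≠ 0) : Par a c := by
  obtain ⟨j, hj⟩ := Function.ne_iff.1 hb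
  have hj' : b j ≠ 0 := hj
  intro i k
  have h1 : (a i * c k - c i * a k) * (b j * b j) = 0 := by
    linear_combination (c k * b j) * hab i j + (b i * a j) * hbc j k - (c i * b j) * hab k j -
      (b k * a j) * hbc j i
  rcases mul_eq_zero.1 h1 with h2 | h2
  · exact sub_eq_zero.1 h2
  · exact absurd h2 (mul_ne_zero hj' hj')

theorem not_par_bv {i j : Fin n} (hij : i ≠ j) : ¬ Par (bv i : Fin n → F) (bv j) := by
  intro h
  have := h i j
  rw [bv_self, bv_self, bv_ne hij.symm, bv_ne hij] at this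
  simp at this

/-- two linear forms in dimension at least three have a common nonzero kernel vector -/
theorem exists_common_kernel (hn : 3 ≤ n) (φ ψ : Fin n → F) :
    ∃ u : Fin n → F, u ≠ 0 ∧ φ ⬝ᵥ u = 0 ∧ ψ ⬝ᵥ u = 0 := by
  let M : Matrix (Fin 2) (Fin n) F := Matrix.of ![φ, ψ]
  have hlt : Module.finrank F (Fin 2 → F) < Module.finrank F (Fin n → F) := by
    rw [Module.finrank_fin_fun, Module.finrank_fin_fun]
    omega
  have hker := LinearMap.ker_ne_bot_of_finrank_lt (f := M.mulVecLin) hlt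
  obtain ⟨u, hu, hu0⟩ := Submodule.exists_mem_ne_zero_of_ne_bot hker
  rw [LinearMap.mem_ker, Matrix.mulVecLin_apply] at hu
  refine ⟨u, hu0, ?_, ?_⟩
  · have := congrFun hu 0
    simpa [M, Matrix.mulVec] using this
  · have := congrFun hu 1
    simpa [M, Matrix.mulVec] using this

/-- a scalar multiple of a transvection fixing a nonzero vector is a transvection -/
theorem scalar_eq_one {a b u : Fin n → F} (hab : b ⬝ᵥ a = 0) (hu : u ≠ 0) {r : F}
    (h : (1 + vecMulVec a b : Matrix (Fin n) (Fin n) F) *ᵥ u = r • u) : r = 1 := by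
  rw [add_mulVec, one_mulVec, vecMulVec_mulVec, op_smul_eq_smul] at h
  have h1 : b ⬝ᵥ (u + (b ⬝ᵥ u) • a) = b ⬝ᵥ (r • u) := by rw [h]
  rw [dotProduct_add, dotProduct_smul, dotProduct_smul, hab, smul_zero, add_zero, smul_eq_mul] at h1
  by_cases hbu : b ⬝ᵥ u = 0
  · rw [hbu, zero_smul, add_zero] at h
    obtain ⟨i, hi⟩ := Function.ne_iff.1 hu
    have hi' : u i ≠ 0 := hi
    have h2 := congrFun h i
    rw [Pi.smul_apply, smul_eq_mul] at h2
    have h3 : (r - 1) * u i = 0 := by linear_combination -h2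
    rcases mul_eq_zero.1 h3 with h4 | h4
    · exact sub_eq_zero.1 h4
    · exact absurd h4 hi'
  · have h3 : (r - 1) * (b ⬝ᵥ u) = 0 := by linear_combination -h1
    rcases mul_eq_zero.1 h3 with h4 | h4
    · exact sub_eq_zero.1 h4
    · exact absurd h4 hbu

/-- membership in `TT` from the matrix -/
theorem mem_TT_of_coe {g : SpecialLinearGroup (Fin n) F} (v φ : Fin n → F) (h : φ ⬝ᵥ v = 0)
    (hg : (g : Matrix (Fin n) (Fin n) F) = 1 + vecMulVec v φ) : pi g ∈ TT n F := by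
  refine ⟨v, φ, h, ?_⟩
  congr 1
  apply Subtype.ext
  rw [hg, tvSL_coe, one_smul]

/-- the collinearity relation -/
def Col (A B : Subgroup (ProjectiveSpecialLinearGroup (Fin n) F)) : Prop :=
  ∀ x ∈ A, ∀ y ∈ B, x * y ∈ TT n F

theorem col_of_par_left {v φ w ψ : Fin n → F} (hv : φ ⬝ᵥ v = 0) (hw : ψ ⬝ᵥ w = 0)
    (hv0 : v ≠ 0) (hw0 : w ≠ 0) (h : Par v w) : Col (RB v φ hv) (RB w ψ hw) := by
  obtain ⟨c, hc, rfl⟩ := h.exists_smul hv0 hw0
  intro x hx y hy
  obtain ⟨s, rfl⟩ := mem_RB.1 hx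
  obtain ⟨t, rfl⟩ := mem_RB.1 hy
  rw [← map_mul]
  have hψv : ψ ⬝ᵥ v = 0 := by
    rw [dotProduct_smul, smul_eq_mul] at hw
    rcases mul_eq_zero.1 hw with h1 | h1
    · exact absurd h1 hc
    · exact h1
  have h' : (s • φ + (t * c) • ψ) ⬝ᵥ v = 0 := by
    rw [add_dotProduct, smul_dotProduct, smul_dotProduct, hv, hψv, smul_zero, smul_zero, add_zero]
  apply mem_TT_of_coe v (s • φ + (t * c) • ψ) h'
  rw [Matrix.SpecialLinearGroup.coe_mul]
  show tvMat v φ s * tvMat (c • v) ψ t = _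
  rw [tvMat_mul, dotProduct_smul, hv, smul_zero, mul_zero, zero_smul, add_zero, vecMulVec_add,
    vecMulVec_smul, vecMulVec_smul, smul_vecMulVec, smul_smul, add_assoc]

theorem col_of_par_right {v φ w ψ : Fin n → F} (hv : φ ⬝ᵥ v = 0) (hw : ψ ⬝ᵥ w = 0)
    (hφ0 : φ ≠ 0) (hψ0 : ψ ≠ 0) (h : Par φ ψ) : Col (RB v φ hv) (RB w ψ hw) := by
  obtain ⟨c, hc, rfl⟩ := h.exists_smul hφ0 hψ0
  intro x hx y hy
  obtain ⟨s, rfl⟩ := mem_RB.1 hx
  obtain ⟨t, rfl⟩ := mem_RB.1 hy
  rw [← map_mul]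
  have hφw : φ ⬝ᵥ w = 0 := by
    rw [smul_dotProduct, smul_eq_mul] at hw
    rcases mul_eq_zero.1 hw with h1 | h1
    · exact absurd h1 hc
    · exact h1
  have h' : φ ⬝ᵥ (s • v + (t * c) • w) = 0 := by
    rw [dotProduct_add, dotProduct_smul, dotProduct_smul, hv, hφw, smul_zero, smul_zero, add_zero]
  apply mem_TT_of_coe (s • v + (t * c) • w) φ h'
  rw [Matrix.SpecialLinearGroup.coe_mul]
  show tvMat v φ s * tvMat w (c • φ) t = _
  rw [tvMat_mul, hφw, mul_zero, zero_smul, add_zero, add_vecMulVec,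
    vecMulVec_smul, smul_vecMulVec, smul_vecMulVec, smul_smul, add_assoc]

theorem par_of_col (hn : 3 ≤ n) {v φ w ψ : Fin n → F} (hv : φ ⬝ᵥ v = 0) (hw : ψ ⬝ᵥ w = 0)
    (hc : Col (RB v φ hv) (RB w ψ hw)) : Par v w ∨ Par φ ψ := by
  obtain ⟨a, b, hab, hxy⟩ := hc _ (pi_tvSL_mem hv 1) _ (pi_tvSL_mem hw 1)
  rw [← map_mul, pi_eq_iff] at hxy
  obtain ⟨r, -, hr⟩ := hxy
  obtain ⟨u, hu0, hφu, hψu⟩ := exists_common_kernel hn φ ψ
  have hP : ((tvSL v φ hv 1 * tvSL w ψ hw 1 : SpecialLinearGroup (Fin n) F) :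
      Matrix (Fin n) (Fin n) F) *ᵥ u = u := by
    have h1 : (tvSL w ψ hw 1 : Matrix (Fin n) (Fin n) F) *ᵥ u = u := by
      rw [tvSL_mulVec, hψu, mul_zero, zero_smul, add_zero]
    rw [Matrix.SpecialLinearGroup.coe_mul, ← mulVec_mulVec, h1, tvSL_mulVec, hφu, mul_zero,
      zero_smul, add_zero]
  have hr1 : r = 1 := by
    apply scalar_eq_one hab hu0
    have h2 : (tvSL a b hab 1 : Matrix (Fin n) (Fin n) F) *ᵥ u =
        (r • ((tvSL v φ hv 1 * tvSL w ψ hw 1 : SpecialLinearGroup (Fin n) F) :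
          Matrix (Fin n) (Fin n) F)) *ᵥ u := by rw [hr]
    rw [tvSL_coe, one_smul, smul_mulVec, hP] at h2
    exact h2
  rw [hr1, one_smul, Matrix.SpecialLinearGroup.coe_mul] at hr
  change tvMat a b 1 = tvMat v φ 1 * tvMat w ψ 1 at hr
  rw [tvMat_mul] at hr
  unfold tvMat at hr
  have hN : ∀ i j, v i * φ j + w i * ψ j + (φ ⬝ᵥ w) * (v i * ψ j) = a i * b j := by
    intro i j
    have := congrFun (congrFun hr i) j
    simp only [Matrix.add_apply, Matrix.smul_apply, vecMulVec_apply, smul_eq_mul, one_mul,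
      mul_one] at this
    linear_combination -this
  by_contra hcon
  rw [not_or] at hcon
  obtain ⟨h1, h2⟩ := hcon
  unfold Par at h1 h2
  push Not at h1 h2
  obtain ⟨i, k, hik⟩ := h1
  obtain ⟨j, l, hjl⟩ := h2
  have e1 : (v i * w k - w i * v k) * (φ j * ψ l - ψ j * φ l) =
      (v i * φ j + w i * ψ j + (φ ⬝ᵥ w) * (v i * ψ j)) *
        (v k * φ l + w k * ψ l + (φ ⬝ᵥ w) * (v k * ψ l)) -
      (v i * φ l + w i * ψ l + (φ ⬝ᵥ w) * (v i * ψ l)) *
        (v k * φ j + w k * ψ j + (φ ⬝ᵥ w) * (v k * ψ j)) := by ring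
  rw [hN i j, hN k l, hN i l, hN k j] at e1
  have e2 : (v i * w k - w i * v k) * (φ j * ψ l - ψ j * φ l) = 0 := by
    rw [e1]; ring
  rcases mul_eq_zero.1 e2 with h3 | h3
  · exact hik (sub_eq_zero.1 h3)
  · exact hjl (sub_eq_zero.1 h3)

end Cfsg.Agent.Lib.Helper18.PSLnAut
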