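import Mathlib
import Cfsg.Agent.Lib.Helper18.PSLnCol

/-!
Automorphisms of `PSL_n(F)`, `n ≥ 3`: the images of the standard frame of root subgroups
`1 + c E_ij` form a frame or a dual frame (helper18).
-/

set_option autoImplicit false

namespace Cfsg.Agent.Lib.Helper18.PSLnAut

open Matrix Cfsg Cfsg.Agent.Lib.Helper25 Cfsg.Agent.Lib.Helper25.SLRoot

section abstract

variable {n : ℕ}

/-- the combinatorial core: propagation of the type of edges in the frame graph -/
theorem frame_type_aux (R₁ R₂ : Fin n → Fin n → Fin n → Fin n → Prop)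
    (refl₁ : ∀ i j, R₁ i j i j) (refl₂ : ∀ i j, R₂ i j i j)
    (symm₁ : ∀ i j i' j', R₁ i j i' j' → R₁ i' j' i j)
    (symm₂ : ∀ i j i' j', R₂ i j i' j' → R₂ i' j' i j)
    (trans₁ : ∀ i j i' j' i'' j'', i' ≠ j' → R₁ i j i' j' → R₁ i' j' i'' j'' → R₁ i j i'' j'')
    (trans₂ : ∀ i j i' j' i'' j'', i' ≠ j' → R₂ i j i' j' → R₂ i' j' i'' j'' → R₂ i j i'' j'')
    (row : ∀ i j k, i ≠ j → i ≠ k → R₁ i j i k ∨ R₂ i j i k)
    (col : ∀ i j l, i ≠ j → l ≠ j → R₁ i j l j ∨ R₂ i j l j)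
    (gen : ∀ i k l j, i ≠ k → l ≠ j → k ≠ j → l ≠ i → ¬ R₁ i k l j ∧ ¬ R₂ i k l j)
    (i0 i1 i2 : Fin n) (h01 : i0 ≠ i1) (h02 : i0 ≠ i2) (h12 : i1 ≠ i2)
    (h0 : R₁ i0 i1 i0 i2) :
    (∀ i j k, i ≠ j → i ≠ k → R₁ i j i k) ∧ (∀ i j l, i ≠ j → l ≠ j → R₂ i j l j) := by
  -- the type of a vertex
  let T : Fin n → Fin n → Prop := fun i j =>
    (∀ k, k ≠ i → k ≠ j → R₁ i j i k) ∧ (∀ l, l ≠ i → l ≠ j → R₂ i j l j)
  have claimA : ∀ i j k, i ≠ j → k ≠ i → k ≠ j → R₁ i j i k → T i j := by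
    intro i j k hij hki hkj h
    have hcol : ∀ l, l ≠ i → l ≠ j → R₂ i j l j := by
      intro l hli hlj
      rcases col i j l hij hlj with h1 | h1
      · exfalso
        have h2 : R₁ i k l j := trans₁ i k i j l j hij (symm₁ _ _ _ _ h) h1
        exact (gen i k l j hki.symm hlj hkj hli).1 h2
      · exact h1
    refine ⟨fun k' hk'i hk'j => ?_, hcol⟩
    rcases row i j k' hij hk'i.symm with h1 | h1
    · exact h1
    · exfalso
      have h2 : R₂ i k' k j := trans₂ i k' i j k j hij (symm₂ _ _ _ _ h1) (hcol k hki hkj)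
      exact (gen i k' k j hk'i.symm hkj hk'j hki).2 h2
  have claimB : ∀ i j l, i ≠ j → l ≠ i → l ≠ j → R₂ i j l j → T i j := by
    intro i j l hij hli hlj h
    have hrow : ∀ k, k ≠ i → k ≠ j → R₁ i j i k := by
      intro k hki hkj
      rcases row i j k hij hki.symm with h1 | h1
      · exact h1
      · exfalso
        have h2 : R₂ i k l j := trans₂ i k i j l j hij (symm₂ _ _ _ _ h1) h
        exact (gen i k l j hki.symm hlj hkj hli).2 h2
    refine ⟨hrow, fun l' hl'i hl'j => ?_⟩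
    rcases col i j l' hij hl'j with h1 | h1
    · exfalso
      have h2 : R₁ i l l' j := trans₁ i l i j l' j hij (symm₁ _ _ _ _ (hrow l hli hlj)) h1
      exact (gen i l l' j hli.symm hl'j hlj hl'i).1 h2
    · exact h1
  have claimC : ∀ i j k, i ≠ j → k ≠ i → k ≠ j → T i j → T i k := by
    intro i j k hij hki hkj hT
    exact claimA i k j hki.symm hij.symm hkj.symm (symm₁ _ _ _ _ (hT.1 k hki hkj))
  have claimD : ∀ i j l, i ≠ j → l ≠ i → l ≠ j → T i j → T l j := by
    intro i j l hij hli hlj hT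
    exact claimB l j i hlj hli.symm hij (symm₂ _ _ _ _ (hT.2 l hli hlj))
  have hT01 : T i0 i1 := claimA i0 i1 i2 h01 h02.symm h12.symm h0
  have hT0 : ∀ j, j ≠ i0 → T i0 j := by
    intro j hj
    by_cases hj1 : j = i1
    · rw [hj1]; exact hT01
    · exact claimC i0 i1 j h01 hj hj1 hT01
  have hTall : ∀ i j, i ≠ j → T i j := by
    intro i j hij
    by_cases hj0 : j = i0
    · rw [hj0] at hij ⊢
      -- pick m outside {i0, i}
      obtain ⟨m, hm0, hmi⟩ : ∃ m, m ≠ i0 ∧ m ≠ i := by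
        by_cases hi1 : i = i1
        · exact ⟨i2, h02.symm, by rw [hi1]; exact h12.symm⟩
        · exact ⟨i1, h01.symm, fun h => hi1 h.symm⟩
      have h1 : T i0 m := hT0 m hm0
      have h2 : T i m := claimD i0 m i hm0.symm hij hmi.symm h1
      exact claimC i m i0 hmi.symm hij.symm hm0.symm h2
    · have h1 : T i0 j := hT0 j hj0
      by_cases hi0 : i = i0
      · rw [hi0]; exact h1
      · exact claimD i0 j i (Ne.symm hj0) hi0 hij h1
  constructor
  · intro i j k hij hik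
    by_cases hkj : k = j
    · rw [hkj]; exact refl₁ i j
    · exact (hTall i j hij).1 k hik.symm hkj
  · intro i j l hij hlj
    by_cases hli : l = i
    · rw [hli]; exact refl₂ i j
    · exact (hTall i j hij).2 l hli hlj

end abstract

section concrete

variable {n : ℕ} {F : Type*} [Field F]

/-- the standard frame root subgroups `1 + c E_ij` -/
def AE (i j : Fin n) (hij : i ≠ j) : Subgroup (ProjectiveSpecialLinearGroup (Fin n) F) :=
  RB (bv i) (bv j) (bv_dot_bv hij)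

/-- a root subgroup only depends on the proportionality classes of its data -/
theorem RB_eq_of_par {v φ v' φ' : Fin n → F} (h : φ ⬝ᵥ v = 0) (hv : v ≠ 0) (hφ : φ ≠ 0)
    (hv' : v' ≠ 0) (hφ' : φ' ≠ 0) (hP : Par v v') (hH : Par φ φ') :
    ∃ h' : φ' ⬝ᵥ v' = 0, RB v φ h = RB v' φ' h' := by
  obtain ⟨c, hc, rfl⟩ := hP.exists_smul hv hv'
  obtain ⟨d, hd, rfl⟩ := hH.exists_smul hφ hφ'
  have h' : (d • φ) ⬝ᵥ (c • v) = 0 := by
    rw [smul_dotProduct, dotProduct_smul, h, smul_zero, smul_zero]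
  exact ⟨h', (RB_smul h hc hd h').symm⟩

theorem itS_tvSL_bv {i j : Fin n} (hij : i ≠ j) (c : F) :
    itS (tvSL (bv i) (bv j) (bv_dot_bv hij) c) =
      tvSL (bv j) (bv i) (bv_dot_bv hij.symm) (-c) := by
  apply Subtype.ext
  rw [itS_coe, tvSL_inv, tvSL_coe, tvSL_coe, Matrix.transpose_add, Matrix.transpose_one,
    Matrix.transpose_smul, transpose_vecMulVec]

theorem itA_AE {i j : Fin n} (hij : i ≠ j) (x : ProjectiveSpecialLinearGroup (Fin n) F) :
    x ∈ AE i j hij ↔ itA x ∈ AE j i hij.symm := by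
  have key : ∀ (i j : Fin n) (hij : i ≠ j) (x : ProjectiveSpecialLinearGroup (Fin n) F),
      x ∈ AE i j hij → itA x ∈ AE j i hij.symm := by
    intro i j hij x hx
    obtain ⟨c, rfl⟩ := mem_RB.1 hx
    rw [itA_pi, itS_tvSL_bv hij]
    exact pi_tvSL_mem _ _
  constructor
  · exact key i j hij x
  · intro h
    have := key j i hij.symm _ h
    rwa [itA_itA] at this

variable [Fintype F] (p : ℕ) [Fact p.Prime] [CharP F p]

include p in
theorem col_map (hn : 2 ≤ n)
    (α : ProjectiveSpecialLinearGroup (Fin n) F ≃* ProjectiveSpecialLinearGroup (Fin n) F)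
    {A B A' B' : Subgroup (ProjectiveSpecialLinearGroup (Fin n) F)}
    (hA : ∀ x, x ∈ A ↔ α x ∈ A') (hB : ∀ x, x ∈ B ↔ α x ∈ B') : Col A B ↔ Col A' B' := by
  constructor
  · intro h x' hx' y' hy'
    have hx : α.symm x' ∈ A := by rw [hA, MulEquiv.apply_symm_apply]; exact hx'
    have hy : α.symm y' ∈ B := by rw [hB, MulEquiv.apply_symm_apply]; exact hy'
    have := TT_map p hn α (h _ hx _ hy)
    rwa [map_mul, MulEquiv.apply_symm_apply, MulEquiv.apply_symm_apply] at this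
  · intro h x hx y hy
    have := TT_map p hn α.symm (h _ ((hA x).1 hx) _ ((hB y).1 hy))
    rwa [← map_mul, MulEquiv.symm_apply_apply] at this

/-- `α` maps the standard frame to the frame `(w, ψ)` -/
def MapsFrame
    (α : ProjectiveSpecialLinearGroup (Fin n) F ≃* ProjectiveSpecialLinearGroup (Fin n) F)
    (w ψ : Fin n → Fin n → F) : Prop :=
  (∀ i, w i ≠ 0) ∧ (∀ j, ψ j ≠ 0) ∧ ∃ hd : ∀ i j, i ≠ j → ψ j ⬝ᵥ w i = 0,
    ∀ i j (hij : i ≠ j) (x : ProjectiveSpecialLinearGroup (Fin n) F),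
      x ∈ AE i j hij ↔ α x ∈ RB (w i) (ψ j) (hd i j hij)

include p in
theorem frame_dichotomy (hn : 3 ≤ n)
    (α : ProjectiveSpecialLinearGroup (Fin n) F ≃* ProjectiveSpecialLinearGroup (Fin n) F) :
    (∃ w ψ : Fin n → Fin n → F, MapsFrame α w ψ) ∨
      (∃ w ψ : Fin n → Fin n → F, MapsFrame (itA.trans α) w ψ) := by
  have hn2 : 2 ≤ n := by omega
  have H : ∀ i j : Fin n, ∃ (v' φ' : Fin n → F) (h' : φ' ⬝ᵥ v' = 0), ∀ hij : i ≠ j,
      v' ≠ 0 ∧ φ' ≠ 0 ∧ ∀ x : ProjectiveSpecialLinearGroup (Fin n) F,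
        x ∈ AE i j hij ↔ α x ∈ RB v' φ' h' := by
    intro i j
    by_cases hij : i = j
    · exact ⟨0, 0, zero_dotProduct _, fun h => absurd hij h⟩
    · obtain ⟨v', φ', h', hv', hφ', hmap⟩ :=
        root_map p hn2 α (bv_dot_bv hij) (bv_ne_zero i) (bv_ne_zero j)
      exact ⟨v', φ', h', fun _ => ⟨hv', hφ', hmap⟩⟩
  choose a b hab hprop using H
  -- the two relations
  let R₁ : Fin n → Fin n → Fin n → Fin n → Prop := fun i j i' j' => Par (a i j) (a i' j')
  let R₂ : Fin n → Fin n → Fin n → Fin n → Prop := fun i j i' j' => Par (b i j) (b i' j')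
  have refl₁ : ∀ i j, R₁ i j i j := fun i j => Par.refl _
  have refl₂ : ∀ i j, R₂ i j i j := fun i j => Par.refl _
  have symm₁ : ∀ i j i' j', R₁ i j i' j' → R₁ i' j' i j := fun _ _ _ _ h => h.symm
  have symm₂ : ∀ i j i' j', R₂ i j i' j' → R₂ i' j' i j := fun _ _ _ _ h => h.symm
  have trans₁ : ∀ i j i' j' i'' j'', i' ≠ j' → R₁ i j i' j' → R₁ i' j' i'' j'' → R₁ i j i'' j'' :=
    fun _ _ i' j' _ _ h h1 h2 => Par.trans h1 h2 (hprop i' j' h).1
  have trans₂ : ∀ i j i' j' i'' j'', i' ≠ j' → R₂ i j i' j' → R₂ i' j' i'' j'' → R₂ i j i'' j'' :=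
    fun _ _ i' j' _ _ h h1 h2 => Par.trans h1 h2 (hprop i' j' h).2.1
  have hcolmap : ∀ i j i' j' (hij : i ≠ j) (hij' : i' ≠ j'),
      Col (AE (F := F) i j hij) (AE i' j' hij') ↔
        Col (RB (a i j) (b i j) (hab i j)) (RB (a i' j') (b i' j') (hab i' j')) :=
    fun i j i' j' hij hij' => col_map p hn2 α (hprop i j hij).2.2 (hprop i' j' hij').2.2
  have row : ∀ i j k, i ≠ j → i ≠ k → R₁ i j i k ∨ R₂ i j i k := by
    intro i j k hij hik
    have h1 : Col (AE (F := F) i j hij) (AE i k hik) :=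
      col_of_par_left _ _ (bv_ne_zero i) (bv_ne_zero i) (Par.refl _)
    exact par_of_col hn _ _ ((hcolmap i j i k hij hik).1 h1)
  have col : ∀ i j l, i ≠ j → l ≠ j → R₁ i j l j ∨ R₂ i j l j := by
    intro i j l hij hlj
    have h1 : Col (AE (F := F) i j hij) (AE l j hlj) :=
      col_of_par_right _ _ (bv_ne_zero j) (bv_ne_zero j) (Par.refl _)
    exact par_of_col hn _ _ ((hcolmap i j l j hij hlj).1 h1)
  have gen : ∀ i k l j, i ≠ k → l ≠ j → k ≠ j → l ≠ i → ¬ R₁ i k l j ∧ ¬ R₂ i k l j := by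
    intro i k l j hik hlj hkj hli
    have h1 : ¬ Col (AE (F := F) i k hik) (AE l j hlj) := by
      intro hc
      rcases par_of_col hn _ _ hc with h2 | h2
      · exact not_par_bv hli.symm h2
      · exact not_par_bv hkj h2
    rw [hcolmap i k l j hik hlj] at h1
    constructor
    · intro h2
      exact h1 (col_of_par_left _ _ (hprop i k hik).1 (hprop l j hlj).1 h2)
    · intro h2
      exact h1 (col_of_par_right _ _ (hprop i k hik).2.1 (hprop l j hlj).2.1 h2)
  let i0 : Fin n := ⟨0, by omega⟩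
  let i1 : Fin n := ⟨1, by omega⟩
  let i2 : Fin n := ⟨2, by omega⟩
  have h01 : i0 ≠ i1 := by simp [i0, i1, Fin.ext_iff]
  have h02 : i0 ≠ i2 := by simp [i0, i2, Fin.ext_iff]
  have h12 : i1 ≠ i2 := by simp [i1, i2, Fin.ext_iff]
  let nx : Fin n → Fin n := fun i => if i = i0 then i1 else i0
  have hnx : ∀ i, nx i ≠ i := by
    intro i
    by_cases hi : i = i0
    · simp only [nx, if_pos hi]; rw [hi]; exact h01.symm
    · simp only [nx, if_neg hi]; exact fun h => hi h.symm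
  rcases row i0 i1 i2 h01 h02 with h0 | h0
  · left
    obtain ⟨hrows, hcols⟩ := frame_type_aux R₁ R₂ refl₁ refl₂ symm₁ symm₂ trans₁ trans₂ row col gen
      i0 i1 i2 h01 h02 h12 h0
    have hpar : ∀ i j (hij : i ≠ j), ∃ h' : b (nx j) j ⬝ᵥ a i (nx i) = 0,
        RB (a i j) (b i j) (hab i j) = RB (a i (nx i)) (b (nx j) j) h' := by
      intro i j hij
      exact RB_eq_of_par _ (hprop i j hij).1 (hprop i j hij).2.1 (hprop i (nx i) (hnx i).symm).1
        (hprop (nx j) j (hnx j)).2.1 (hrows i j (nx i) hij (hnx i).symm)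
        (hcols i j (nx j) hij (hnx j))
    refine ⟨fun i => a i (nx i), fun j => b (nx j) j, fun i => (hprop i (nx i) (hnx i).symm).1,
      fun j => (hprop (nx j) j (hnx j)).2.1, fun i j hij => (hpar i j hij).1, ?_⟩
    intro i j hij x
    rw [(hprop i j hij).2.2 x, (hpar i j hij).2]
  · right
    obtain ⟨hrows, hcols⟩ := frame_type_aux R₂ R₁ refl₂ refl₁ symm₂ symm₁ trans₂ trans₁
      (fun i j k h1 h2 => (row i j k h1 h2).symm) (fun i j l h1 h2 => (col i j l h1 h2).symm)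
      (fun i k l j h1 h2 h3 h4 => (gen i k l j h1 h2 h3 h4).symm) i0 i1 i2 h01 h02 h12 h0
    -- rows share the axis, columns share the centre
    have hpar : ∀ i j (hij : i ≠ j), ∃ h' : b j (nx j) ⬝ᵥ a (nx i) i = 0,
        RB (a j i) (b j i) (hab j i) = RB (a (nx i) i) (b j (nx j)) h' := by
      intro i j hij
      exact RB_eq_of_par _ (hprop j i hij.symm).1 (hprop j i hij.symm).2.1
        (hprop (nx i) i (hnx i)).1 (hprop j (nx j) (hnx j).symm).2.1
        (hcols j i (nx i) hij.symm (hnx i)) (hrows j i (nx j) hij.symm (hnx j).symm)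
    refine ⟨fun i => a (nx i) i, fun j => b j (nx j), fun i => (hprop (nx i) i (hnx i)).1,
      fun j => (hprop j (nx j) (hnx j).symm).2.1, fun i j hij => (hpar i j hij).1, ?_⟩
    intro i j hij x
    show x ∈ AE i j hij ↔ α (itA x) ∈ _
    rw [itA_AE hij x, (hprop j i hij.symm).2.2 (itA x), (hpar i j hij).2]

end concrete

end Cfsg.Agent.Lib.Helper18.PSLnAut
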