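import Mathlib
import Cfsg.Agent.Lib.Helper18.PSLnFrame

/-!
Automorphisms of `PSL_n(F)`, `n ≥ 3`: an automorphism mapping the standard frame to a frame
`(w, ψ)` is, up to conjugation by an invertible matrix, one which fixes every root subgroup
`1 + c E_ij` (helper18).
-/

set_option autoImplicit false

namespace Cfsg.Agent.Lib.Helper18.PSLnAut

open Matrix Cfsg Cfsg.Agent.Lib.Helper25 Cfsg.Agent.Lib.Helper25.SLRoot

variable {n : ℕ} {F : Type*} [Field F]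

/-- the images of the elementary matrices `1 + c E_ij` -/
def xb {i j : Fin n} (hij : i ≠ j) (c : F) : ProjectiveSpecialLinearGroup (Fin n) F :=
  pi (tvSL (bv i) (bv j) (bv_dot_bv hij) c)

theorem xb_add {i j : Fin n} (hij : i ≠ j) (a b : F) : xb hij (a + b) = xb hij a * xb hij b := by
  rw [xb, xb, xb, ← map_mul, tvSL_mul]

theorem xb_zero {i j : Fin n} (hij : i ≠ j) : xb hij (0 : F) = 1 := by
  rw [xb, tvSL_zero, map_one]

theorem xb_neg {i j : Fin n} (hij : i ≠ j) (a : F) : xb hij (-a) = (xb hij a)⁻¹ := by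
  rw [eq_inv_iff_mul_eq_one, ← xb_add, neg_add_cancel, xb_zero]

theorem xb_eq_one_iff {i j : Fin n} (hij : i ≠ j) (a : F) : xb hij a = 1 ↔ a = 0 := by
  rw [xb, pi_eq_one_iff, tvSL_bv_eq_transvection hij, SpecialLinearGroup.transvection_mem_center_iff]

theorem xb_injective {i j : Fin n} (hij : i ≠ j) : Function.Injective (xb (F := F) hij) := by
  intro a b h
  have h1 : xb hij (a - b) = 1 := by
    rw [sub_eq_add_neg, xb_add, xb_neg, h, mul_inv_cancel]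
  exact sub_eq_zero.1 ((xb_eq_one_iff hij _).1 h1)

theorem mem_AE_iff {i j : Fin n} (hij : i ≠ j) (x : ProjectiveSpecialLinearGroup (Fin n) F) :
    x ∈ AE i j hij ↔ ∃ c : F, xb hij c = x := mem_RB

theorem xb_mem_AE {i j : Fin n} (hij : i ≠ j) (c : F) : xb hij c ∈ AE i j hij :=
  (mem_AE_iff hij _).2 ⟨c, rfl⟩

/-- the commutator relation -/
theorem xb_comm {i j k : Fin n} (hij : i ≠ j) (hjk : j ≠ k) (hik : i ≠ k) (a b : F) :
    xb hij a * xb hjk b * (xb hij a)⁻¹ * (xb hjk b)⁻¹ = xb hik (a * b) := by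
  rw [xb, xb, xb, ← map_inv, ← map_inv, ← map_mul, ← map_mul, ← map_mul,
    tvSL_commutatorElement (bv_dot_bv hij) (bv_dot_bv hjk) (bv_dot_bv hik), bv_dot_bv_self, mul_one]

/-- scaling the data of a transvection -/
theorem tvSL_smul_smul {v φ : Fin n → F} (h : φ ⬝ᵥ v = 0) (a b : F)
    (h' : (b • φ) ⬝ᵥ (a • v) = 0) (c : F) : tvSL (a • v) (b • φ) h' c = tvSL v φ h (c * a * b) := by
  apply Subtype.ext
  rw [tvSL_coe, tvSL_coe, smul_vecMulVec, vecMulVec_smul, smul_smul, smul_smul]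

theorem gl_conj_dot {v φ : Fin n → F} (h : φ ⬝ᵥ v = 0) (g : GL (Fin n) F) :
    (φ ᵥ* ((g⁻¹ : GL (Fin n) F) : Matrix (Fin n) (Fin n) F)) ⬝ᵥ
      ((g : Matrix (Fin n) (Fin n) F) *ᵥ v) = 0 := by
  rw [← dotProduct_mulVec, mulVec_mulVec, gl_inv_mul, one_mulVec, h]

/-- conjugation of a transvection by an invertible matrix -/
theorem conjMat_tvSL {v φ : Fin n → F} (h : φ ⬝ᵥ v = 0) (g : GL (Fin n) F) (c : F) :
    conjMat g (tvSL v φ h c) = tvSL ((g : Matrix (Fin n) (Fin n) F) *ᵥ v)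
      (φ ᵥ* ((g⁻¹ : GL (Fin n) F) : Matrix (Fin n) (Fin n) F)) (gl_conj_dot h g) c := by
  apply Subtype.ext
  rw [conjMat_coe, tvSL_coe, tvSL_coe, mul_add, add_mul, mul_one, gl_mul_inv, Matrix.mul_smul,
    Matrix.smul_mul, mul_vecMulVec, vecMulVec_mul]

theorem mem_RB_conjA {v φ : Fin n → F} (h : φ ⬝ᵥ v = 0) (g : GL (Fin n) F)
    (x : ProjectiveSpecialLinearGroup (Fin n) F) :
    x ∈ RB v φ h ↔ conjA g x ∈ RB ((g : Matrix (Fin n) (Fin n) F) *ᵥ v)
      (φ ᵥ* ((g⁻¹ : GL (Fin n) F) : Matrix (Fin n) (Fin n) F)) (gl_conj_dot h g) := by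
  rw [mem_RB, mem_RB]
  constructor
  · rintro ⟨c, rfl⟩
    exact ⟨c, by rw [conjA_pi, conjMat_tvSL]⟩
  · rintro ⟨c, hc⟩
    refine ⟨c, (conjA g).injective ?_⟩
    rw [conjA_pi, conjMat_tvSL, hc]

/-- the two root subgroups `E_ki`, `E_ij` do not commute -/
theorem xb_not_comm {i j k : Fin n} (hki : k ≠ i) (hij : i ≠ j) (hkj : k ≠ j) :
    xb (F := F) hki 1 * xb hij 1 ≠ xb hij 1 * xb hki 1 := by
  intro h
  have h1 := xb_comm (F := F) hki hij hkj 1 1
  rw [h] at h1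
  have h2 : xb (F := F) hkj (1 * 1) = 1 := by
    rw [← h1]; group
  rw [xb_eq_one_iff] at h2
  simp at h2

/-- an automorphism mapping the standard frame to a frame is, up to a conjugation by an invertible
matrix, an automorphism fixing the standard frame -/
theorem exists_gl_of_mapsFrame (hn : 3 ≤ n)
    (α : ProjectiveSpecialLinearGroup (Fin n) F ≃* ProjectiveSpecialLinearGroup (Fin n) F)
    {w ψ : Fin n → Fin n → F} (hα : MapsFrame α w ψ) :
    ∃ g : GL (Fin n) F, ∀ i j (hij : i ≠ j) (x : ProjectiveSpecialLinearGroup (Fin n) F),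
      x ∈ AE i j hij ↔ (conjA g).symm (α x) ∈ AE i j hij := by
  obtain ⟨hw, hψ, hd, hmap⟩ := hα
  -- the diagonal products are nonzero
  have hdiag : ∀ i, ψ i ⬝ᵥ w i ≠ 0 := by
    intro i hi
    -- pick k, j with k, i, j distinct
    obtain ⟨k, j, hki, hij, hkj⟩ : ∃ k j : Fin n, k ≠ i ∧ i ≠ j ∧ k ≠ j := by
      let i0 : Fin n := ⟨0, by omega⟩
      let i1 : Fin n := ⟨1, by omega⟩
      let i2 : Fin n := ⟨2, by omega⟩
      have h01 : i0 ≠ i1 := by simp [i0, i1, Fin.ext_iff]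
      have h02 : i0 ≠ i2 := by simp [i0, i2, Fin.ext_iff]
      have h12 : i1 ≠ i2 := by simp [i1, i2, Fin.ext_iff]
      by_cases h0 : i = i0
      · exact ⟨i1, i2, by rw [h0]; exact h01.symm, by rw [h0]; exact h02, h12⟩
      · by_cases h1 : i = i1
        · exact ⟨i0, i2, by rw [h1]; exact h01, by rw [h1]; exact h12, h02⟩
        · exact ⟨i0, i1, fun h => h0 h.symm, h1, h01⟩
    obtain ⟨s, hs⟩ := mem_RB.1 ((hmap k i hki _).1 (xb_mem_AE hki 1))
    obtain ⟨t, ht⟩ := mem_RB.1 ((hmap i j hij _).1 (xb_mem_AE hij 1))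
    have hc := tvSL_commute (hd k i hki) (hd i j hij) hi (hd k j hkj) s t
    have hc' := congrArg pi hc
    rw [map_mul, map_mul, hs, ht, ← map_mul, ← map_mul] at hc'
    exact xb_not_comm hki hij hkj (α.injective hc')
  -- the matrices of the frame
  let W : Matrix (Fin n) (Fin n) F := Matrix.of fun r i => w i r
  let Ψ : Matrix (Fin n) (Fin n) F := Matrix.of fun j c => ψ j c
  have hΨW : Ψ * W = Matrix.diagonal fun i => ψ i ⬝ᵥ w i := by
    ext j i
    rw [Matrix.mul_apply, Matrix.diagonal_apply]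
    by_cases hji : j = i
    · rw [if_pos hji, hji]; rfl
    · rw [if_neg hji]
      exact hd i j (Ne.symm hji)
  have hdetW : W.det ≠ 0 := by
    intro h0
    have := congrArg Matrix.det hΨW
    rw [Matrix.det_mul, h0, mul_zero, Matrix.det_diagonal] at this
    exact Finset.prod_ne_zero_iff.2 (fun i _ => hdiag i) this.symm
  let g : GL (Fin n) F := Matrix.GeneralLinearGroup.mkOfDetNeZero W hdetW
  have hgW : (g : Matrix (Fin n) (Fin n) F) = W := rfl
  have hginv : ((g⁻¹ : GL (Fin n) F) : Matrix (Fin n) (Fin n) F) =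
      Matrix.diagonal (fun i => (ψ i ⬝ᵥ w i)⁻¹) * Ψ := by
    have h1 : (Matrix.diagonal (fun i => (ψ i ⬝ᵥ w i)⁻¹) * Ψ) * (g : Matrix (Fin n) (Fin n) F) = 1 := by
      rw [hgW, Matrix.mul_assoc, hΨW, Matrix.diagonal_mul_diagonal]
      rw [← Matrix.diagonal_one]
      congr 1
      funext i
      exact inv_mul_cancel₀ (hdiag i)
    calc ((g⁻¹ : GL (Fin n) F) : Matrix (Fin n) (Fin n) F)
        = (Matrix.diagonal (fun i => (ψ i ⬝ᵥ w i)⁻¹) * Ψ) * ((g : Matrix (Fin n) (Fin n) F) *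
          ((g⁻¹ : GL (Fin n) F) : Matrix (Fin n) (Fin n) F)) := by
            rw [← Matrix.mul_assoc, h1, Matrix.one_mul]
      _ = _ := by rw [gl_mul_inv, Matrix.mul_one]
  have hgv : ∀ i, (g : Matrix (Fin n) (Fin n) F) *ᵥ bv i = w i := by
    intro i
    rw [hgW]
    funext r
    show (W *ᵥ (Pi.single i 1 : Fin n → F)) r = w i r
    rw [Matrix.mulVec_single_one]
    rfl
  have hgφ : ∀ j, (bv j : Fin n → F) ᵥ* ((g⁻¹ : GL (Fin n) F) : Matrix (Fin n) (Fin n) F) =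
      (ψ j ⬝ᵥ w j)⁻¹ • ψ j := by
    intro j
    rw [hginv]
    funext c
    show ((Pi.single j 1 : Fin n → F) ᵥ* (Matrix.diagonal (fun i => (ψ i ⬝ᵥ w i)⁻¹) * Ψ)) c = _
    rw [Matrix.single_one_vecMul]
    show (Matrix.diagonal (fun i => (ψ i ⬝ᵥ w i)⁻¹) * Ψ) j c = _
    rw [Matrix.diagonal_mul]
    rfl
  refine ⟨g, fun i j hij x => ?_⟩
  rw [hmap i j hij x]
  -- `conjA g` maps `AE i j` onto `RB (w i) (ψ j)`
  have h1 := mem_RB_conjA (bv_dot_bv hij) g ((conjA g).symm (α x))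
  rw [MulEquiv.apply_symm_apply] at h1
  show α x ∈ _ ↔ (conjA g).symm (α x) ∈ RB (bv i) (bv j) (bv_dot_bv hij)
  rw [h1]
  have h2 : ((ψ j ⬝ᵥ w j)⁻¹ • ψ j) ⬝ᵥ w i = 0 := by
    rw [smul_dotProduct, hd i j hij, smul_zero]
  have h3 : RB ((g : Matrix (Fin n) (Fin n) F) *ᵥ bv i)
      ((bv j : Fin n → F) ᵥ* ((g⁻¹ : GL (Fin n) F) : Matrix (Fin n) (Fin n) F))
      (gl_conj_dot (bv_dot_bv hij) g) = RB (w i) ((ψ j ⬝ᵥ w j)⁻¹ • ψ j) h2 :=
    RB_congr _ (hgv i) (hgφ j) h2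
  rw [h3]
  obtain ⟨h4, h5⟩ := RB_eq_of_par (hd i j hij) (hw i) (hψ j) (hw i)
    (smul_ne_zero (inv_ne_zero (hdiag j)) (hψ j)) (Par.refl _) (par_smul _ _)
  rw [h5]

end Cfsg.Agent.Lib.Helper18.PSLnAut
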