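import Mathlib
import Cfsg.Agent.Lib.Helper18.PSLnNormal
import Cfsg.Agent.Lib.Helper2.SLGen

/-!
Automorphisms of `PSL_n(F)`, `n ≥ 3`, fixing every root subgroup `1 + c E_ij`: they are
diagonal times field automorphisms (helper18).
-/

set_option autoImplicit false

namespace Cfsg.Agent.Lib.Helper18.PSLnAut

open Matrix Cfsg Cfsg.Agent.Lib.Helper25 Cfsg.Agent.Lib.Helper25.SLRoot

variable {n : ℕ} {F : Type*} [Field F]

theorem exists_third (hn : 3 ≤ n) (i j : Fin n) : ∃ m : Fin n, m ≠ i ∧ m ≠ j := by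
  let i0 : Fin n := ⟨0, by omega⟩
  let i1 : Fin n := ⟨1, by omega⟩
  let i2 : Fin n := ⟨2, by omega⟩
  have h01 : i0 ≠ i1 := by simp [i0, i1, Fin.ext_iff]
  have h02 : i0 ≠ i2 := by simp [i0, i2, Fin.ext_iff]
  have h12 : i1 ≠ i2 := by simp [i1, i2, Fin.ext_iff]
  by_cases a0 : i0 = i
  · by_cases b1 : i1 = j
    · exact ⟨i2, by rw [← a0]; exact h02.symm, by rw [← b1]; exact h12.symm⟩
    · exact ⟨i1, by rw [← a0]; exact h01.symm, b1⟩
  · by_cases b0 : i0 = j
    · by_cases a1 : i1 = i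
      · exact ⟨i2, by rw [← a1]; exact h12.symm, by rw [← b0]; exact h02.symm⟩
      · exact ⟨i1, a1, by rw [← b0]; exact h01.symm⟩
    · exact ⟨i0, a0, b0⟩

theorem fieldS_tvSL_bv {i j : Fin n} (hij : i ≠ j) (κ : F ≃+* F) (a : F) :
    fieldS κ (tvSL (bv i) (bv j) (bv_dot_bv hij) a) = tvSL (bv i) (bv j) (bv_dot_bv hij) (κ a) := by
  apply Subtype.ext
  rw [fieldS_coe, tvSL_coe, tvSL_coe]
  ext r s
  simp only [Matrix.map_apply, Matrix.add_apply, Matrix.smul_apply, vecMulVec_apply, smul_eq_mul,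
    map_add, map_mul, Matrix.one_apply, bv, Pi.single_apply]
  split_ifs <;> simp

theorem fieldA_xb {i j : Fin n} (hij : i ≠ j) (κ : F ≃+* F) (a : F) :
    fieldA κ (xb hij a) = xb hij (κ a) := by
  rw [xb, fieldA_pi, fieldS_tvSL_bv hij, xb]

/-- the diagonal matrix as an element of `GL_n` -/
noncomputable def diagGL (d : Fin n → F) (hd : ∀ i, d i ≠ 0) : GL (Fin n) F :=
  Matrix.GeneralLinearGroup.mkOfDetNeZero (Matrix.diagonal d) (by
    rw [Matrix.det_diagonal]
    exact Finset.prod_ne_zero_iff.2 fun i _ => hd i)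

theorem diagGL_coe (d : Fin n → F) (hd : ∀ i, d i ≠ 0) :
    (diagGL d hd : Matrix (Fin n) (Fin n) F) = Matrix.diagonal d := rfl

theorem diagGL_inv_coe (d : Fin n → F) (hd : ∀ i, d i ≠ 0) :
    (((diagGL d hd)⁻¹ : GL (Fin n) F) : Matrix (Fin n) (Fin n) F) =
      Matrix.diagonal fun i => (d i)⁻¹ := by
  have h1 : Matrix.diagonal (fun i => (d i)⁻¹) * (diagGL d hd : Matrix (Fin n) (Fin n) F) = 1 := by
    rw [diagGL_coe, Matrix.diagonal_mul_diagonal, ← Matrix.diagonal_one]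
    congr 1
    funext i
    exact inv_mul_cancel₀ (hd i)
  calc (((diagGL d hd)⁻¹ : GL (Fin n) F) : Matrix (Fin n) (Fin n) F)
      = (Matrix.diagonal (fun i => (d i)⁻¹) * (diagGL d hd : Matrix (Fin n) (Fin n) F)) *
        (((diagGL d hd)⁻¹ : GL (Fin n) F) : Matrix (Fin n) (Fin n) F) := by
          rw [h1, Matrix.one_mul]
    _ = _ := by rw [Matrix.mul_assoc, gl_mul_inv, Matrix.mul_one]

theorem conjA_diag_xb (d : Fin n → F) (hd : ∀ i, d i ≠ 0) {i j : Fin n} (hij : i ≠ j) (a : F) :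
    conjA (diagGL d hd) (xb hij a) = xb hij (a * d i * (d j)⁻¹) := by
  rw [xb, conjA_pi, conjMat_tvSL, xb]
  congr 1
  have h1 : (diagGL d hd : Matrix (Fin n) (Fin n) F) *ᵥ bv i = d i • bv i := by
    rw [diagGL_coe]
    funext r
    show (Matrix.diagonal d *ᵥ (Pi.single i 1 : Fin n → F)) r = _
    rw [Matrix.mulVec_single_one]
    by_cases h2 : r = i
    · subst h2
      simp [bv]
    · simp [bv, h2]
  have h2 : (bv j : Fin n → F) ᵥ* (((diagGL d hd)⁻¹ : GL (Fin n) F) : Matrix (Fin n) (Fin n) F) =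
      (d j)⁻¹ • bv j := by
    rw [diagGL_inv_coe]
    funext r
    show ((Pi.single j 1 : Fin n → F) ᵥ* Matrix.diagonal (fun i => (d i)⁻¹)) r = _
    rw [Matrix.single_one_vecMul]
    by_cases h2 : r = j
    · subst h2
      simp [bv]
    · simp [bv, h2, Ne.symm h2]
  have h3 : ((d j)⁻¹ • (bv j : Fin n → F)) ⬝ᵥ (d i • bv i) = 0 := by
    rw [smul_dotProduct, dotProduct_smul, bv_dot_bv hij, smul_zero, smul_zero]
  rw [← tvSL_smul_smul (bv_dot_bv hij) (d i) (d j)⁻¹ h3 a]
  congr 1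

/-- an automorphism fixing every standard root subgroup is diagonal times field -/
theorem exists_diag_field [Finite F] (hn : 3 ≤ n)
    (β : ProjectiveSpecialLinearGroup (Fin n) F ≃* ProjectiveSpecialLinearGroup (Fin n) F)
    (hβ : ∀ i j (hij : i ≠ j) (x : ProjectiveSpecialLinearGroup (Fin n) F),
      x ∈ AE i j hij ↔ β x ∈ AE i j hij) :
    ∃ (g : GL (Fin n) F) (σ : F ≃+* F),
      ∀ x : ProjectiveSpecialLinearGroup (Fin n) F, β x = conjA g (fieldA σ x) := by
  have H : ∀ (i j : Fin n) (c : F), ∃ c' : F, ∀ hij : i ≠ j, β (xb hij c) = xb hij c' := by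
    intro i j c
    by_cases hij : i = j
    · exact ⟨0, fun h => absurd hij h⟩
    · obtain ⟨c', hc'⟩ := (mem_AE_iff hij _).1 ((hβ i j hij _).1 (xb_mem_AE hij c))
      exact ⟨c', fun _ => hc'.symm⟩
  choose μ hμ using H
  have μ_add : ∀ i j, i ≠ j → ∀ a b, μ i j (a + b) = μ i j a + μ i j b := by
    intro i j hij a b
    apply xb_injective hij
    rw [← hμ i j (a + b) hij, xb_add, map_mul, hμ i j a hij, hμ i j b hij, ← xb_add]
  have μ_inj : ∀ i j, i ≠ j → Function.Injective (μ i j) := by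
    intro i j hij a b h
    apply xb_injective hij
    apply β.injective
    rw [hμ i j a hij, hμ i j b hij, h]
  have μ_zero : ∀ i j, i ≠ j → μ i j 0 = 0 := by
    intro i j hij
    have := μ_add i j hij 0 0
    rw [add_zero] at this
    exact left_eq_add.1 this
  have μ_mul : ∀ i j k, i ≠ j → j ≠ k → i ≠ k → ∀ a b, μ i k (a * b) = μ i j a * μ j k b := by
    intro i j k hij hjk hik a b
    apply xb_injective hik
    rw [← hμ i k (a * b) hik, ← xb_comm hij hjk hik a b, map_mul, map_mul, map_mul, map_inv,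
      map_inv, hμ i j a hij, hμ j k b hjk, xb_comm hij hjk hik]
  -- the constants
  have c_ne : ∀ i j, i ≠ j → μ i j 1 ≠ 0 := by
    intro i j hij h
    rw [← μ_zero i j hij] at h
    exact one_ne_zero (μ_inj i j hij h)
  have c_mul : ∀ i j k, i ≠ j → j ≠ k → i ≠ k → μ i k 1 = μ i j 1 * μ j k 1 := by
    intro i j k hij hjk hik
    have := μ_mul i j k hij hjk hik 1 1
    rwa [mul_one] at this
  have μ_r : ∀ i j k, i ≠ j → j ≠ k → i ≠ k → ∀ a, μ i k a = μ i j a * μ j k 1 := by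
    intro i j k hij hjk hik a
    have := μ_mul i j k hij hjk hik a 1
    rwa [mul_one] at this
  have μ_l : ∀ i j k, i ≠ j → j ≠ k → i ≠ k → ∀ b, μ i k b = μ i j 1 * μ j k b := by
    intro i j k hij hjk hik b
    have := μ_mul i j k hij hjk hik 1 b
    rwa [one_mul] at this
  have c_inv : ∀ j k, j ≠ k → μ j k 1 * μ k j 1 = 1 := by
    intro j k hjk
    obtain ⟨i, hij, hik⟩ := exists_third hn j k
    have h1 := c_mul i k j hik hjk.symm hij
    have h2 := c_mul i j k hij hjk hik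
    have h3 : μ i j 1 * (μ j k 1 * μ k j 1 - 1) = 0 := by
      rw [h2] at h1
      linear_combination -h1
    rcases mul_eq_zero.1 h3 with h4 | h4
    · exact absurd h4 (c_ne i j hij)
    · exact sub_eq_zero.1 h4
  -- the normalised maps
  have s_r : ∀ i j k, i ≠ j → j ≠ k → i ≠ k → ∀ a,
      μ i k a / μ i k 1 = μ i j a / μ i j 1 := by
    intro i j k hij hjk hik a
    rw [μ_r i j k hij hjk hik a, c_mul i j k hij hjk hik]
    have h1 := c_ne i j hij
    have h2 := c_ne j k hjk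
    field_simp
  have s_l : ∀ i j k, i ≠ j → j ≠ k → i ≠ k → ∀ a,
      μ i k a / μ i k 1 = μ j k a / μ j k 1 := by
    intro i j k hij hjk hik a
    rw [μ_l i j k hij hjk hik a, c_mul i j k hij hjk hik]
    have h1 := c_ne i j hij
    have h2 := c_ne j k hjk
    field_simp
  let i0 : Fin n := ⟨0, by omega⟩
  let i1 : Fin n := ⟨1, by omega⟩
  let i2 : Fin n := ⟨2, by omega⟩
  have h01 : i0 ≠ i1 := by simp [i0, i1, Fin.ext_iff]
  have h02 : i0 ≠ i2 := by simp [i0, i2, Fin.ext_iff]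
  have h12 : i1 ≠ i2 := by simp [i1, i2, Fin.ext_iff]
  have s0 : ∀ j, j ≠ i0 → ∀ a, μ i0 j a / μ i0 j 1 = μ i0 i1 a / μ i0 i1 1 := by
    intro j hj a
    by_cases hj1 : j = i1
    · rw [hj1]
    · exact s_r i0 i1 j h01 (Ne.symm hj1) (Ne.symm hj) a
  have s_all : ∀ i j, i ≠ j → ∀ a, μ i j a / μ i j 1 = μ i0 i1 a / μ i0 i1 1 := by
    intro i j hij a
    by_cases hj0 : j = i0
    · rw [hj0] at hij ⊢
      obtain ⟨m, hm0, hmi⟩ := exists_third hn i0 i
      rw [s_r i m i0 hmi.symm hm0 hij a, s_l i i0 m hij hm0.symm hmi.symm a]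
      exact s0 m hm0 a
    · by_cases hi0 : i = i0
      · rw [hi0]; exact s0 j hj0 a
      · rw [s_l i i0 j hi0 (Ne.symm hj0) hij a]
        exact s0 j hj0 a
  -- the field automorphism
  let σ₀ : F → F := fun a => μ i0 i1 a / μ i0 i1 1
  have μ_eq : ∀ i j, i ≠ j → ∀ a, μ i j a = μ i j 1 * σ₀ a := by
    intro i j hij a
    have h1 := s_all i j hij a
    have h2 := c_ne i j hij
    show μ i j a = μ i j 1 * (μ i0 i1 a / μ i0 i1 1)
    rw [← h1]
    field_simp
  have σ_one : σ₀ 1 = 1 := div_self (c_ne i0 i1 h01)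
  have σ_mul : ∀ a b, σ₀ (a * b) = σ₀ a * σ₀ b := by
    intro a b
    have h1 := μ_mul i0 i2 i1 h02 h12.symm h01 a b
    rw [μ_eq i0 i1 h01 (a * b), μ_eq i0 i2 h02 a, μ_eq i2 i1 h12.symm b,
      c_mul i0 i2 i1 h02 h12.symm h01] at h1
    have h2 := c_ne i0 i2 h02
    have h3 := c_ne i2 i1 h12.symm
    have h4 : μ i0 i2 1 * μ i2 i1 1 * (σ₀ (a * b) - σ₀ a * σ₀ b) = 0 := by
      linear_combination h1
    rcases mul_eq_zero.1 h4 with h5 | h5
    · exact absurd h5 (mul_ne_zero h2 h3)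
    · exact sub_eq_zero.1 h5
  have σ_add : ∀ a b, σ₀ (a + b) = σ₀ a + σ₀ b := by
    intro a b
    show μ i0 i1 (a + b) / μ i0 i1 1 = μ i0 i1 a / μ i0 i1 1 + μ i0 i1 b / μ i0 i1 1
    rw [μ_add i0 i1 h01, add_div]
  have σ_zero : σ₀ 0 = 0 := by
    show μ i0 i1 0 / μ i0 i1 1 = 0
    rw [μ_zero i0 i1 h01, zero_div]
  let σh : F →+* F :=
    { toFun := σ₀, map_one' := σ_one, map_mul' := σ_mul, map_zero' := σ_zero, map_add' := σ_add }
  have σ_bij : Function.Bijective σh :=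
    Finite.injective_iff_bijective.1 σh.injective
  let σ : F ≃+* F := RingEquiv.ofBijective σh σ_bij
  have σ_apply : ∀ a, σ a = σ₀ a := fun a => rfl
  -- the diagonal matrix
  let d : Fin n → F := fun i => if i = i0 then 1 else μ i i0 1
  have hd : ∀ i, d i ≠ 0 := by
    intro i
    by_cases hi : i = i0
    · simp only [d, if_pos hi]; exact one_ne_zero
    · simp only [d, if_neg hi]; exact c_ne i i0 hi
  have c_eq : ∀ i j, i ≠ j → μ i j 1 = d i * (d j)⁻¹ := by
    intro i j hij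
    by_cases hi : i = i0
    · have hj : j ≠ i0 := fun h => hij (hi.trans h.symm)
      simp only [d, if_pos hi, if_neg hj, one_mul]
      rw [hi]
      exact eq_inv_of_mul_eq_one_left (c_inv i0 j (Ne.symm hj))
    · by_cases hj : j = i0
      · simp only [d, if_neg hi, if_pos hj, inv_one, mul_one]
        rw [hj]
      · simp only [d, if_neg hi, if_neg hj]
        rw [c_mul i i0 j hi (Ne.symm hj) hij]
        congr 1
        exact eq_inv_of_mul_eq_one_left (c_inv i0 j (Ne.symm hj))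
  refine ⟨diagGL d hd, σ, ?_⟩
  have hgen : ∀ i j (hij : i ≠ j) (a : F),
      β (xb hij a) = conjA (diagGL d hd) (fieldA σ (xb hij a)) := by
    intro i j hij a
    rw [hμ i j a hij, fieldA_xb, conjA_diag_xb, μ_eq i j hij a, c_eq i j hij, σ_apply]
    congr 1
    ring
  intro x
  obtain ⟨s, rfl⟩ := pi_surjective x
  have : Nontrivial (Fin n) := Fin.nontrivial_iff_two_le.2 (by omega)
  refine Cfsg.Agent.Lib.Helper2.sl_transvection_induction
    (fun s => β (pi s) = conjA (diagGL d hd) (fieldA σ (pi s))) ?_ ?_ s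
  · intro i j hij c
    have := hgen i j hij c
    rw [xb, tvSL_bv_eq_transvection hij] at this
    exact this
  · intro A B hA hB
    show β (pi (A * B)) = conjA (diagGL d hd) (fieldA σ (pi (A * B)))
    rw [map_mul, map_mul, map_mul, map_mul, hA, hB]

end Cfsg.Agent.Lib.Helper18.PSLnAut
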