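import Mathlib
import Cfsg.Agent.Lib.Helper18.PSLnSteinberg
import Cfsg.Agent.Lib.Helper18.PSL2AutRigid

/-!
**Automorphisms of `PSL_n(F)`**, `F` a finite field, `n ≥ 2`: every automorphism is the product
of a conjugation by an invertible matrix, a field automorphism and possibly the inverse transpose
automorphism (helper18).
-/

set_option autoImplicit false

namespace Cfsg.Agent.Lib.Helper18.PSLnAut

open Matrix Cfsg Cfsg.Agent.Lib.Helper25 Cfsg.Agent.Lib.Helper25.SLRoot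

section three

variable {n : ℕ} {F : Type*} [Field F] [Fintype F] (p : ℕ) [Fact p.Prime] [CharP F p]

include p in
/-- the case `n ≥ 3` -/
theorem aut_decomp_three (hn : 3 ≤ n)
    (α : ProjectiveSpecialLinearGroup (Fin n) F ≃* ProjectiveSpecialLinearGroup (Fin n) F) :
    ∃ (g : GL (Fin n) F) (σ : F ≃+* F)
      (γ : ProjectiveSpecialLinearGroup (Fin n) F ≃* ProjectiveSpecialLinearGroup (Fin n) F),
      (γ = MulEquiv.refl _ ∨ γ = itA) ∧ ∀ x, α x = conjA g (fieldA σ (γ x)) := by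
  have key : ∀ (α' : ProjectiveSpecialLinearGroup (Fin n) F ≃*
      ProjectiveSpecialLinearGroup (Fin n) F) (w ψ : Fin n → Fin n → F), MapsFrame α' w ψ →
      ∃ (g : GL (Fin n) F) (σ : F ≃+* F), ∀ x, α' x = conjA g (fieldA σ x) := by
    intro α' w ψ hα'
    obtain ⟨g₁, hg₁⟩ := exists_gl_of_mapsFrame hn α' hα'
    obtain ⟨g₂, σ, hσ⟩ := exists_diag_field hn (α'.trans (conjA g₁).symm) hg₁
    refine ⟨g₁ * g₂, σ, fun x => ?_⟩
    have h1 : (conjA g₁).symm (α' x) = conjA g₂ (fieldA σ x) := hσ x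
    rw [conjA_mul, ← h1, MulEquiv.apply_symm_apply]
  rcases frame_dichotomy p hn α with ⟨w, ψ, h⟩ | ⟨w, ψ, h⟩
  · obtain ⟨g, σ, hg⟩ := key α w ψ h
    exact ⟨g, σ, MulEquiv.refl _, Or.inl rfl, fun x => hg x⟩
  · obtain ⟨g, σ, hg⟩ := key (itA.trans α) w ψ h
    refine ⟨g, σ, itA, Or.inr rfl, fun x => ?_⟩
    have h1 : α (itA (itA x)) = conjA g (fieldA σ (itA x)) := hg (itA x)
    rwa [itA_itA] at h1

end three

section two

variable {F : Type*} [Field F]

theorem pi_two_eq (s : SpecialLinearGroup (Fin 2) F) :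
    Cfsg.Agent.Lib.Helper18.PSL2Aut.pi s = pi s := rfl

theorem dMat_eq_conjMat (a : Fˣ) (hd : ∀ i, (![(a : F), 1] : Fin 2 → F) i ≠ 0)
    (t : SpecialLinearGroup (Fin 2) F) :
    Cfsg.Agent.Lib.Helper18.PSL2Aut.dMat a t = conjMat (diagGL ![(a : F), 1] hd) t := by
  apply Subtype.ext
  rw [conjMat_coe, diagGL_coe, diagGL_inv_coe, Cfsg.Agent.Lib.Helper18.PSL2Aut.dMat_coe]
  ext i j
  fin_cases i <;> fin_cases j <;>
    simp [Matrix.mul_apply, Matrix.diagonal_apply, mul_comm]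

theorem conj_eq_conjMat (Y t : SpecialLinearGroup (Fin 2) F) :
    Y * t * Y⁻¹ = conjMat (Matrix.SpecialLinearGroup.toGL Y) t := by
  apply Subtype.ext
  rw [conjMat_coe, ← map_inv]
  rfl

variable [Fintype F] (p : ℕ) [Fact p.Prime] [CharP F p]

include p in
/-- the case `n = 2` -/
theorem aut_decomp_two
    (α : ProjectiveSpecialLinearGroup (Fin 2) F ≃* ProjectiveSpecialLinearGroup (Fin 2) F) :
    ∃ (g : GL (Fin 2) F) (σ : F ≃+* F), ∀ x, α x = conjA g (fieldA σ x) := by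
  obtain ⟨y, a, κ, hα⟩ := Cfsg.Agent.Lib.Helper18.PSL2Aut.aut_decomp p α
  obtain ⟨Y, rfl⟩ := Cfsg.Agent.Lib.Helper18.PSL2Aut.pi_surjective y
  have hd : ∀ i, (![(a : F), 1] : Fin 2 → F) i ≠ 0 := by
    intro i
    fin_cases i
    · exact a.ne_zero
    · exact one_ne_zero
  refine ⟨Matrix.SpecialLinearGroup.toGL Y * diagGL ![(a : F), 1] hd, κ, fun x => ?_⟩
  obtain ⟨s, rfl⟩ := pi_surjective x
  rw [hα, fieldA_pi, conjA_pi, ← conjMat_conjMat, ← dMat_eq_conjMat, ← conj_eq_conjMat,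
    map_mul, map_mul, map_inv]
  rfl

end two

section all

variable {n : ℕ} {F : Type*} [Field F] [Fintype F] (p : ℕ) [Fact p.Prime] [CharP F p]

include p in
/-- **every automorphism of `PSL_n(F)`, `n ≥ 2`, is inner-diagonal times field times graph** -/
theorem aut_decomp_all (hn : 2 ≤ n)
    (α : ProjectiveSpecialLinearGroup (Fin n) F ≃* ProjectiveSpecialLinearGroup (Fin n) F) :
    ∃ (g : GL (Fin n) F) (σ : F ≃+* F)
      (γ : ProjectiveSpecialLinearGroup (Fin n) F ≃* ProjectiveSpecialLinearGroup (Fin n) F),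
      (γ = MulEquiv.refl _ ∨ γ = itA) ∧ ∀ x, α x = conjA g (fieldA σ (γ x)) := by
  rcases Nat.lt_or_ge n 3 with h | h
  · obtain rfl : n = 2 := by omega
    obtain ⟨g, σ, hg⟩ := aut_decomp_two p α
    exact ⟨g, σ, MulEquiv.refl _, Or.inl rfl, fun x => hg x⟩
  · exact aut_decomp_three p h α

end all

end Cfsg.Agent.Lib.Helper18.PSLnAut
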