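import Mathlib
import Cfsg.Agent.Lib.Helper18.PSLnMain

/-!
Towards the outer automorphism group of `PSL_n(F)`: injectivity of the quotient map on
transvections, the kernel of `GL_n → Aut(PSL_n)`, and the relations between the three kinds of
standard automorphisms (helper18).
-/

set_option autoImplicit false

namespace Cfsg.Agent.Lib.Helper18.PSLnAut

open Matrix Cfsg Cfsg.Agent.Lib.Helper25 Cfsg.Agent.Lib.Helper25.SLRoot

variable {n : ℕ} {F : Type*} [Field F]

/-- a linear form in dimension at least two has a nonzero kernel vector -/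
theorem exists_kernel (hn : 2 ≤ n) (φ : Fin n → F) : ∃ u : Fin n → F, u ≠ 0 ∧ φ ⬝ᵥ u = 0 := by
  let M : Matrix (Fin 1) (Fin n) F := Matrix.of ![φ]
  have hlt : Module.finrank F (Fin 1 → F) < Module.finrank F (Fin n → F) := by
    rw [Module.finrank_fin_fun, Module.finrank_fin_fun]
    omega
  have hker := LinearMap.ker_ne_bot_of_finrank_lt (f := M.mulVecLin) hlt
  obtain ⟨u, hu, hu0⟩ := Submodule.exists_mem_ne_zero_of_ne_bot hker
  rw [LinearMap.mem_ker, Matrix.mulVecLin_apply] at hu
  refine ⟨u, hu0, ?_⟩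
  have := congrFun hu 0
  simpa [M, Matrix.mulVec] using this

/-- the quotient map is injective on transvections -/
theorem tvSL_eq_of_pi_eq (hn : 2 ≤ n) {v φ v' φ' : Fin n → F} (h : φ ⬝ᵥ v = 0)
    (h' : φ' ⬝ᵥ v' = 0) (c c' : F) (hpi : pi (tvSL v φ h c) = pi (tvSL v' φ' h' c')) :
    tvSL v φ h c = tvSL v' φ' h' c' := by
  rw [pi_eq_iff] at hpi
  obtain ⟨r, hrn, hr⟩ := hpi
  have hr0 : r ≠ 0 := by
    rintro rfl
    rw [zero_pow (by omega)] at hrn
    exact zero_ne_one hrn
  obtain ⟨u, hu0, hu⟩ := exists_kernel hn φ'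
  have h1 : (tvSL v' φ' h' c' : Matrix (Fin n) (Fin n) F) *ᵥ u = u := by
    rw [tvSL_mulVec, hu, mul_zero, zero_smul, add_zero]
  rw [hr, smul_mulVec] at h1
  have h2 : (1 + vecMulVec (c • v) φ : Matrix (Fin n) (Fin n) F) *ᵥ u = r⁻¹ • u := by
    rw [smul_vecMulVec, ← tvSL_coe v φ h c]
    conv_rhs => rw [← h1]
    rw [smul_smul, inv_mul_cancel₀ hr0, one_smul]
  have hab : φ ⬝ᵥ (c • v) = 0 := by rw [dotProduct_smul, h, smul_zero]
  have h3 := scalar_eq_one hab hu0 h2
  have hr1 : r = 1 := by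
    rw [← inv_inv r, h3, inv_one]
  apply Subtype.ext
  rw [hr, hr1, one_smul]

theorem tvSL_bv_coe {i j : Fin n} (hij : i ≠ j) (c : F) :
    (tvSL (bv i) (bv j) (bv_dot_bv hij) c : Matrix (Fin n) (Fin n) F) = 1 + Matrix.single i j c := by
  rw [tvSL_coe, tvMat_bv]
  rfl

/-- an invertible matrix inducing the trivial automorphism of `PSL_n` is central -/
theorem mem_center_of_conjA_eq (hn : 2 ≤ n) (g : GL (Fin n) F)
    (hg : ∀ x : ProjectiveSpecialLinearGroup (Fin n) F, conjA g x = x) :
    g ∈ Subgroup.center (GL (Fin n) F) := by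
  rw [Matrix.GeneralLinearGroup.mem_center_iff_val_mem_range_scalar]
  apply Matrix.mem_range_scalar_of_commute_single
  intro i j hij
  have h1 := hg (xb hij 1)
  rw [xb, conjA_pi, conjMat_tvSL] at h1
  have h2 := tvSL_eq_of_pi_eq hn _ _ _ _ h1
  rw [← conjMat_tvSL] at h2
  have h3 := congrArg Subtype.val h2
  change (g : Matrix (Fin n) (Fin n) F) * (tvSL (bv i) (bv j) (bv_dot_bv hij) (1 : F) :
    Matrix (Fin n) (Fin n) F) * ((g⁻¹ : GL (Fin n) F) : Matrix (Fin n) (Fin n) F) =
    (tvSL (bv i) (bv j) (bv_dot_bv hij) (1 : F) : Matrix (Fin n) (Fin n) F) at h3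
  rw [tvSL_bv_coe hij] at h3
  have h4 : (g : Matrix (Fin n) (Fin n) F) * (1 + Matrix.single i j 1) =
      (1 + Matrix.single i j 1) * (g : Matrix (Fin n) (Fin n) F) := by
    conv_rhs => rw [← h3]
    rw [Matrix.mul_assoc, gl_inv_mul, Matrix.mul_one]
  rw [mul_add, add_mul, mul_one, one_mul] at h4
  exact (add_left_cancel h4).symm

/-- conjugation as a homomorphism `GL_n → Aut(PSL_n)` -/
noncomputable def conjAHom : GL (Fin n) F →* MulAut (ProjectiveSpecialLinearGroup (Fin n) F) where
  toFun := conjA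
  map_one' := by
    ext x
    exact conjA_one x
  map_mul' g h := by
    ext x
    exact conjA_mul g h x

theorem conjAHom_apply (g : GL (Fin n) F) (x : ProjectiveSpecialLinearGroup (Fin n) F) :
    conjAHom g x = conjA g x := rfl

theorem ker_conjAHom (hn : 2 ≤ n) :
    (conjAHom (n := n) (F := F)).ker = Subgroup.center (GL (Fin n) F) := by
  ext g
  rw [MonoidHom.mem_ker]
  constructor
  · intro h
    apply mem_center_of_conjA_eq hn g
    intro x
    rw [← conjAHom_apply, h]
    rfl
  · intro h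
    ext x
    obtain ⟨s, rfl⟩ := pi_surjective x
    rw [conjAHom_apply, conjA_pi]
    show pi (conjMat g s) = pi s
    congr 1
    apply Subtype.ext
    rw [conjMat_coe]
    obtain ⟨a, ha⟩ := Matrix.GeneralLinearGroup.mem_center_iff_val_mem_range_scalar.1 h
    have hc : (g : Matrix (Fin n) (Fin n) F) * (s : Matrix (Fin n) (Fin n) F) =
        (s : Matrix (Fin n) (Fin n) F) * (g : Matrix (Fin n) (Fin n) F) := by
      show g.val * _ = _ * g.val
      rw [← ha]
      exact (Matrix.scalar_commute a (fun r' => Commute.all a r') _).eq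
    rw [hc, Matrix.mul_assoc, gl_mul_inv, Matrix.mul_one]

/-- inner automorphisms are induced by matrices -/
theorem conj_pi_eq_conjA (s : SpecialLinearGroup (Fin n) F) :
    MulAut.conj (pi s) = conjAHom (Matrix.SpecialLinearGroup.toGL s) := by
  ext x
  obtain ⟨t, rfl⟩ := pi_surjective x
  rw [MulAut.conj_apply, conjAHom_apply, conjA_pi, ← map_inv, ← map_mul, ← map_mul]
  congr 1

/-- field automorphisms as a homomorphism -/
noncomputable def fieldAHom : RingAut F →* MulAut (ProjectiveSpecialLinearGroup (Fin n) F) where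
  toFun := fieldA
  map_one' := by
    ext x
    obtain ⟨s, rfl⟩ := pi_surjective x
    show fieldA (1 : RingAut F) (pi s) = pi s
    rw [fieldA_pi]
    congr 1
  map_mul' σ τ := by
    ext x
    obtain ⟨s, rfl⟩ := pi_surjective x
    show fieldA (σ * τ) (pi s) = fieldA σ (fieldA τ (pi s))
    rw [fieldA_pi, fieldA_pi, fieldA_pi]
    congr 1

theorem fieldAHom_apply (σ : RingAut F) (x : ProjectiveSpecialLinearGroup (Fin n) F) :
    fieldAHom σ x = fieldA σ x := rfl

/-- field automorphisms commute with the inverse transpose -/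
theorem itA_fieldA (σ : F ≃+* F) (x : ProjectiveSpecialLinearGroup (Fin n) F) :
    itA (fieldA σ x) = fieldA σ (itA x) := by
  obtain ⟨s, rfl⟩ := pi_surjective x
  rw [fieldA_pi, itA_pi, itA_pi, fieldA_pi]
  congr 1
  apply Subtype.ext
  rw [itS_coe, ← map_inv (fieldS σ) s, fieldS_coe, fieldS_coe, itS_coe]
  ext i j
  rfl

/-- field automorphisms normalise the conjugations -/
theorem fieldA_conjA (σ : F ≃+* F) (g : GL (Fin n) F)
    (x : ProjectiveSpecialLinearGroup (Fin n) F) :
    fieldA σ (conjA g x) =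
      conjA (Matrix.GeneralLinearGroup.map (σ : F →+* F) g) (fieldA σ x) := by
  obtain ⟨s, rfl⟩ := pi_surjective x
  rw [conjA_pi, fieldA_pi, fieldA_pi, conjA_pi]
  congr 1
  apply Subtype.ext
  rw [fieldS_coe, conjMat_coe, conjMat_coe, fieldS_coe, ← map_inv]
  have hmap : ∀ A B : Matrix (Fin n) (Fin n) F, (A * B).map σ = A.map σ * B.map σ := by
    intro A B
    exact Matrix.map_mul
  rw [hmap, hmap]
  rfl

/-- the inverse transpose of an invertible matrix -/
def gti (g : GL (Fin n) F) : GL (Fin n) F where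
  val := ((g⁻¹ : GL (Fin n) F) : Matrix (Fin n) (Fin n) F).transpose
  inv := (g : Matrix (Fin n) (Fin n) F).transpose
  val_inv := by rw [← Matrix.transpose_mul, gl_mul_inv, Matrix.transpose_one]
  inv_val := by rw [← Matrix.transpose_mul, gl_inv_mul, Matrix.transpose_one]

theorem gti_coe (g : GL (Fin n) F) : (gti g : Matrix (Fin n) (Fin n) F) =
    ((g⁻¹ : GL (Fin n) F) : Matrix (Fin n) (Fin n) F).transpose := rfl

theorem gti_inv_coe (g : GL (Fin n) F) : (((gti g)⁻¹ : GL (Fin n) F) : Matrix (Fin n) (Fin n) F) =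
    (g : Matrix (Fin n) (Fin n) F).transpose := rfl

/-- the inverse transpose normalises the conjugations -/
theorem itA_conjA (g : GL (Fin n) F) (x : ProjectiveSpecialLinearGroup (Fin n) F) :
    itA (conjA g x) = conjA (gti g) (itA x) := by
  obtain ⟨s, rfl⟩ := pi_surjective x
  rw [conjA_pi, itA_pi, itA_pi, conjA_pi]
  congr 1
  apply Subtype.ext
  have h1 : (conjMat g s)⁻¹ = conjMat g s⁻¹ := (map_inv (conjS g) s).symm
  rw [itS_coe, h1, conjMat_coe, conjMat_coe, gti_coe, gti_inv_coe, itS_coe, Matrix.transpose_mul,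
    Matrix.transpose_mul, Matrix.mul_assoc]

theorem itA_xb {i j : Fin n} (hij : i ≠ j) (c : F) : itA (xb hij c) = xb hij.symm (-c) := by
  rw [xb, itA_pi, itS_tvSL_bv hij, xb]

end Cfsg.Agent.Lib.Helper18.PSLnAut
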