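import Mathlib
import Cfsg.Agent.Lib.Helper18.PSLnOutA

/-!
The automorphism group of `PSL_n(F)`, `n ≥ 3`, as a semidirect product: the homomorphism
`Aut(PSL_n(F)) → Aut(F) × C₂` with kernel the image of `GL_n(F)` (helper18).
-/

set_option autoImplicit false

namespace Cfsg.Agent.Lib.Helper18.PSLnAut

open Matrix Cfsg Cfsg.Agent.Lib.Helper25 Cfsg.Agent.Lib.Helper25.SLRoot

/-- a complemented normal subgroup gives a homomorphism onto the complement -/
theorem exists_hom_of_semidirect {A T : Type*} [Group A] [Group T] (D : Subgroup A) (Θ : T →* A)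
    (hN : ∀ t, ∀ d ∈ D, Θ t * d * (Θ t)⁻¹ ∈ D) (hU : ∀ t, Θ t ∈ D → t = 1)
    (hE : ∀ α : A, ∃ d ∈ D, ∃ t, α = d * Θ t) :
    ∃ Φ : A →* T, (∀ t, Φ (Θ t) = t) ∧ Φ.ker = D := by
  have hnorm : D.Normal := by
    constructor
    intro d hd α
    obtain ⟨d', hd', t, rfl⟩ := hE α
    have : d' * Θ t * d * (d' * Θ t)⁻¹ = d' * (Θ t * d * (Θ t)⁻¹) * d'⁻¹ := by group
    rw [this]
    exact D.mul_mem (D.mul_mem hd' (hN t d hd)) (D.inv_mem hd')
  let Θb : T →* A ⧸ D := (QuotientGroup.mk' D).comp Θ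
  have hinj : Function.Injective Θb := by
    rw [injective_iff_map_eq_one]
    intro t ht
    exact hU t ((QuotientGroup.eq_one_iff _).1 ht)
  have hsurj : Function.Surjective Θb := by
    intro x
    obtain ⟨α, rfl⟩ := QuotientGroup.mk_surjective x
    obtain ⟨d, hd, t, rfl⟩ := hE α
    refine ⟨t, ?_⟩
    show (QuotientGroup.mk (Θ t) : A ⧸ D) = QuotientGroup.mk (d * Θ t)
    rw [QuotientGroup.mk_mul, (QuotientGroup.eq_one_iff d).2 hd, one_mul]
  let e : T ≃* A ⧸ D := MulEquiv.ofBijective Θb ⟨hinj, hsurj⟩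
  refine ⟨e.symm.toMonoidHom.comp (QuotientGroup.mk' D), ?_, ?_⟩
  · intro t
    show e.symm (QuotientGroup.mk (Θ t)) = t
    exact e.symm_apply_apply t
  · ext α
    rw [MonoidHom.mem_ker]
    show e.symm (QuotientGroup.mk α) = 1 ↔ _
    rw [EmbeddingLike.map_eq_one_iff (f := e.symm), QuotientGroup.eq_one_iff]

/-- the homomorphism from the group of order two attached to an involution -/
def twoHom {G : Type*} [Group G] (t : G) (ht : t * t = 1) : Multiplicative (ZMod 2) →* G where
  toFun e := if Multiplicative.toAdd e = 0 then 1 else t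
  map_one' := by simp
  map_mul' a b := by
    have h : ∀ x : ZMod 2, x = 0 ∨ x = 1 := by decide
    have h11 : (1 : ZMod 2) + 1 = 0 := by decide
    rcases h (Multiplicative.toAdd a) with ha | ha <;>
      rcases h (Multiplicative.toAdd b) with hb | hb <;>
      simp [toAdd_mul, ha, hb, ht, h11]

theorem twoHom_cases {G : Type*} [Group G] (t : G) (ht : t * t = 1) (e : Multiplicative (ZMod 2)) :
    (e = 1 ∧ twoHom t ht e = 1) ∨ (e = Multiplicative.ofAdd 1 ∧ twoHom t ht e = t) := by
  have h : ∀ x : ZMod 2, x = 0 ∨ x = 1 := by decide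
  rcases h (Multiplicative.toAdd e) with he | he
  · left
    refine ⟨?_, ?_⟩
    · exact Multiplicative.toAdd.injective he
    · show (if Multiplicative.toAdd e = 0 then 1 else t) = 1
      rw [if_pos he]
  · right
    refine ⟨?_, ?_⟩
    · exact Multiplicative.toAdd.injective he
    · show (if Multiplicative.toAdd e = 0 then 1 else t) = t
      rw [if_neg]
      rw [he]
      decide

variable {n : ℕ} {F : Type*} [Field F]

theorem itA_mul_itA : (itA : MulAut (ProjectiveSpecialLinearGroup (Fin n) F)) * itA = 1 := by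
  ext x
  exact itA_itA x

/-- the graph automorphism as a homomorphism from the group of order two -/
noncomputable def itHom : Multiplicative (ZMod 2) →* MulAut (ProjectiveSpecialLinearGroup (Fin n) F) :=
  twoHom itA itA_mul_itA

/-- field and graph automorphisms together -/
noncomputable def fgHom : RingAut F × Multiplicative (ZMod 2) →*
    MulAut (ProjectiveSpecialLinearGroup (Fin n) F) :=
  fieldAHom.noncommCoprod itHom (by
    intro σ e
    rcases twoHom_cases (itA : MulAut (ProjectiveSpecialLinearGroup (Fin n) F)) itA_mul_itA e with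
      ⟨-, h⟩ | ⟨-, h⟩
    · show Commute _ (twoHom itA itA_mul_itA e)
      rw [h]
      exact Commute.one_right _
    · show Commute _ (twoHom itA itA_mul_itA e)
      rw [h]
      show fieldAHom σ * itA = itA * fieldAHom σ
      ext x
      exact (itA_fieldA σ x).symm)

theorem fgHom_apply (σ : RingAut F) (e : Multiplicative (ZMod 2)) :
    fgHom (n := n) (σ, e) = fieldAHom σ * itHom e := rfl

theorem itHom_one_or (e : Multiplicative (ZMod 2)) :
    (e = 1 ∧ itHom (n := n) (F := F) e = 1) ∨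
      (e = Multiplicative.ofAdd 1 ∧ itHom (n := n) (F := F) e = itA) :=
  twoHom_cases _ _ e

/-- the subgroup of field and graph automorphisms normalises the image of `GL_n` -/
theorem fgHom_normalises (t : RingAut F × Multiplicative (ZMod 2))
    (d : MulAut (ProjectiveSpecialLinearGroup (Fin n) F)) (hd : d ∈ (conjAHom (n := n) (F := F)).range) :
    fgHom t * d * (fgHom t)⁻¹ ∈ (conjAHom (n := n) (F := F)).range := by
  obtain ⟨g, rfl⟩ := hd
  obtain ⟨σ, e⟩ := t
  have key : ∃ g' : GL (Fin n) F, fgHom (σ, e) * conjAHom g = conjAHom g' * fgHom (σ, e) := by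
    rcases itHom_one_or (n := n) (F := F) e with ⟨-, h⟩ | ⟨-, h⟩
    · refine ⟨Matrix.GeneralLinearGroup.map ((σ : F ≃+* F) : F →+* F) g, ?_⟩
      rw [fgHom_apply, h, mul_one]
      ext x
      exact fieldA_conjA σ g x
    · refine ⟨Matrix.GeneralLinearGroup.map ((σ : F ≃+* F) : F →+* F) (gti g), ?_⟩
      rw [fgHom_apply, h]
      ext x
      show fieldA σ (itA (conjA g x)) = conjA _ (fieldA σ (itA x))
      rw [itA_conjA, fieldA_conjA]
  obtain ⟨g', hg'⟩ := key
  refine ⟨g', ?_⟩
  rw [hg', mul_inv_cancel_right]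

section finite

variable [Fintype F] (p : ℕ) [Fact p.Prime] [CharP F p]

include p in
theorem exists_conjA_mul_fgHom (hn : 2 ≤ n)
    (α : MulAut (ProjectiveSpecialLinearGroup (Fin n) F)) :
    ∃ d ∈ (conjAHom (n := n) (F := F)).range, ∃ t : RingAut F × Multiplicative (ZMod 2),
      α = d * fgHom t := by
  obtain ⟨g, σ, γ, hγ, hα⟩ := aut_decomp_all p hn α
  rcases hγ with rfl | rfl
  · refine ⟨conjAHom g, ⟨g, rfl⟩, (σ, 1), ?_⟩
    ext x
    rw [hα, fgHom_apply, map_one, mul_one]
    rfl
  · refine ⟨conjAHom g, ⟨g, rfl⟩, (σ, Multiplicative.ofAdd 1), ?_⟩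
    have h1 : itHom (n := n) (F := F) (Multiplicative.ofAdd 1) = itA := by
      rcases itHom_one_or (n := n) (F := F) (Multiplicative.ofAdd 1) with ⟨h, -⟩ | ⟨-, h⟩
      · exact absurd h (by decide)
      · exact h
    ext x
    rw [hα, fgHom_apply, h1]
    rfl

end finite

/-- field and graph automorphisms are not induced by matrices -/
theorem eq_one_of_fgHom_mem (hn : 3 ≤ n) (t : RingAut F × Multiplicative (ZMod 2))
    (ht : fgHom t ∈ (conjAHom (n := n) (F := F)).range) : t = 1 := by
  obtain ⟨g, hg⟩ := ht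
  obtain ⟨σ, e⟩ := t
  have hn2 : 2 ≤ n := by omega
  let i0 : Fin n := ⟨0, by omega⟩
  let i1 : Fin n := ⟨1, by omega⟩
  let i2 : Fin n := ⟨2, by omega⟩
  have h01 : i0 ≠ i1 := by simp [i0, i1, Fin.ext_iff]
  have h02 : i0 ≠ i2 := by simp [i0, i2, Fin.ext_iff]
  have h12 : i1 ≠ i2 := by simp [i1, i2, Fin.ext_iff]
  have hgx : ∀ (i j : Fin n) (hij : i ≠ j) (c : F), conjAHom g (xb hij c) =
      pi (tvSL ((g : Matrix (Fin n) (Fin n) F) *ᵥ bv i)
        ((bv j : Fin n → F) ᵥ* ((g⁻¹ : GL (Fin n) F) : Matrix (Fin n) (Fin n) F))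
        (gl_conj_dot (bv_dot_bv hij) g) c) := by
    intro i j hij c
    rw [conjAHom_apply, xb, conjA_pi, conjMat_tvSL]
  rcases itHom_one_or (n := n) (F := F) e with ⟨he, h⟩ | ⟨he, h⟩
  · -- no graph part: the field automorphism is trivial
    rw [fgHom_apply, h, mul_one] at hg
    have hσ : ∀ a : F, σ a = a := by
      intro a
      have h1 : ∀ c : F, (tvSL ((g : Matrix (Fin n) (Fin n) F) *ᵥ bv i0)
          ((bv i1 : Fin n → F) ᵥ* ((g⁻¹ : GL (Fin n) F) : Matrix (Fin n) (Fin n) F))
          (gl_conj_dot (bv_dot_bv h01) g) c) = tvSL (bv i0) (bv i1) (bv_dot_bv h01) (σ c) := by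
        intro c
        apply tvSL_eq_of_pi_eq hn2
        rw [← hgx i0 i1 h01 c, hg, fieldAHom_apply, fieldA_xb]
        rfl
      have h2 := congrArg Subtype.val (h1 1)
      have h3 := congrArg Subtype.val (h1 a)
      change (1 + (1 : F) • vecMulVec _ _ : Matrix (Fin n) (Fin n) F) =
        1 + (σ 1) • vecMulVec (bv i0) (bv i1) at h2
      change (1 + a • vecMulVec _ _ : Matrix (Fin n) (Fin n) F) =
        1 + (σ a) • vecMulVec (bv i0) (bv i1) at h3
      rw [map_one, one_smul, one_smul] at h2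
      have h4 := add_left_cancel h2
      rw [h4] at h3
      have h3' := add_left_cancel h3
      have h5 := congrFun (congrFun h3' i0) i1
      simp only [Matrix.smul_apply, vecMulVec_apply, bv_self, mul_one, smul_eq_mul] at h5
      exact h5.symm
    have : σ = 1 := by
      ext a
      exact hσ a
    rw [this, he]
    rfl
  · -- a graph part is impossible
    exfalso
    rw [fgHom_apply, h] at hg
    have h1 : ∀ (j : Fin n) (h0j : i0 ≠ j), (tvSL ((g : Matrix (Fin n) (Fin n) F) *ᵥ bv i0)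
        ((bv j : Fin n → F) ᵥ* ((g⁻¹ : GL (Fin n) F) : Matrix (Fin n) (Fin n) F))
        (gl_conj_dot (bv_dot_bv h0j) g) 1) = tvSL (bv j) (bv i0) (bv_dot_bv h0j.symm) (-1) := by
      intro j h0j
      apply tvSL_eq_of_pi_eq hn2
      rw [← hgx i0 j h0j 1, hg]
      show fieldA σ (itA (xb h0j 1)) = _
      rw [itA_xb, fieldA_xb, map_neg, map_one]
      rfl
    have e1 := congrArg Subtype.val (h1 i1 h01)
    have e2 := congrArg Subtype.val (h1 i2 h02)
    change (1 + (1 : F) • vecMulVec _ _ : Matrix (Fin n) (Fin n) F) =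
      1 + (-1 : F) • vecMulVec (bv i1) (bv i0) at e1
    change (1 + (1 : F) • vecMulVec _ _ : Matrix (Fin n) (Fin n) F) =
      1 + (-1 : F) • vecMulVec (bv i2) (bv i0) at e2
    have e1' := add_left_cancel e1
    have e2' := add_left_cancel e2
    have a1 := congrFun (congrFun e1' i1) i0
    have a2 := congrFun (congrFun e2' i1) i0
    have a3 := congrFun (congrFun e2' i2) i0
    simp only [Matrix.smul_apply, vecMulVec_apply, bv_self, bv_ne h12.symm, mul_one, smul_eq_mul,
      one_mul, mul_zero] at a1 a2 a3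
    -- a1 : (g e0)_1 * (e1 g⁻¹)_0 = -1, a2 : (g e0)_1 * (e2 g⁻¹)_0 = 0, a3 : (g e0)_2 * (e2 g⁻¹)_0 = -1
    have b1 : ((g : Matrix (Fin n) (Fin n) F) *ᵥ bv i0) i1 ≠ 0 := by
      intro h0
      rw [h0, zero_mul] at a1
      exact one_ne_zero (neg_eq_zero.1 a1.symm)
    have b2 : ((bv i2 : Fin n → F) ᵥ* ((g⁻¹ : GL (Fin n) F) : Matrix (Fin n) (Fin n) F)) i0 = 0 := by
      rcases mul_eq_zero.1 a2 with h0 | h0
      · exact absurd h0 b1
      · exact h0
    rw [b2, mul_zero] at a3
    exact one_ne_zero (neg_eq_zero.1 a3.symm)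

section main

variable [Fintype F] (p : ℕ) [Fact p.Prime] [CharP F p]

include p in
/-- **the structure of `Aut(PSL_n(F))`, `n ≥ 3`**: a homomorphism onto `Aut(F) × C₂` whose kernel
is the image of `GL_n(F)` -/
theorem exists_autHom (hn : 3 ≤ n) :
    ∃ Φ : MulAut (ProjectiveSpecialLinearGroup (Fin n) F) →* RingAut F × Multiplicative (ZMod 2),
      (∀ t, Φ (fgHom t) = t) ∧ Φ.ker = (conjAHom (n := n) (F := F)).range :=
  exists_hom_of_semidirect _ fgHom fgHom_normalises (eq_one_of_fgHom_mem hn)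
    (exists_conjA_mul_fgHom p (by omega))

end main

end Cfsg.Agent.Lib.Helper18.PSLnAut
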