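import Cfsg.Agent.Lib.Helper14.AltFP.Defs

/-!
# S2276 leaves (helper14's market): M1 `greedy`, M2 `par`, M3 `ppow_of_mem_cycleType`, M4 `odd_length`,
CEA2 `ce_A_par`.
-/

set_option autoImplicit false

namespace Cfsg.Agent.Lib.Helper18.AltFPLeaf

open Equiv Equiv.Perm Cfsg.Agent.Lib.Helper14.AltFP
open scoped commutatorElement

/-! ### M1 -/

theorem pow_dvd_pow_of_le' {p : ℕ} (hp : p.Prime) {i j : ℕ} (h : p ^ j ≤ p ^ i) : p ^ j ∣ p ^ i := by
  apply pow_dvd_pow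
  exact (Nat.pow_le_pow_iff_right hp.one_lt).mp h

theorem greedy_aux (p : ℕ) (hp : p.Prime) : ∀ (k : ℕ) (m : Multiset ℕ), Multiset.card m = k →
    (∀ a ∈ m, ∃ j : ℕ, a = p ^ j) → ∀ r : ℕ, (∀ a ∈ m, a ∣ r) → r ≤ m.sum →
    ∃ μ : Multiset ℕ, μ ≤ m ∧ μ.sum = r ∧ (0 < r → ∀ A ∈ m, (∀ a ∈ m, a ≤ A) → A ∈ μ) := by
  intro k
  induction k with
  | zero =>
    intro m hk hm r hdvd hr
    rw [Multiset.card_eq_zero] at hk
    subst hk
    refine ⟨0, le_refl _, ?_, ?_⟩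
    · simp at hr
      simp [hr]
    · intro hr0
      simp at hr
      omega
  | succ k ih =>
    intro m hk hm r hdvd hr
    rcases Nat.eq_zero_or_pos r with hr0 | hr0
    · subst hr0
      exact ⟨0, Multiset.zero_le _, by simp, fun h => absurd h (lt_irrefl 0)⟩
    · have hm0 : m ≠ 0 := by
        intro h
        rw [h] at hk
        simp at hk
      obtain ⟨A₀, hA₀, hA₀max⟩ := Multiset.exists_max_image (s := m) id hm0
      obtain ⟨m', rfl⟩ := Multiset.exists_cons_of_mem hA₀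
      have hk' : Multiset.card m' = k := by
        rw [Multiset.card_cons] at hk
        omega
      have hA₀r : A₀ ∣ r := hdvd A₀ hA₀
      have hA₀le : A₀ ≤ r := Nat.le_of_dvd hr0 hA₀r
      obtain ⟨i, hi⟩ := hm A₀ hA₀
      have hdvd' : ∀ a ∈ m', a ∣ r - A₀ := by
        intro a ha
        have ham : a ∈ A₀ ::ₘ m' := Multiset.mem_cons_of_mem ha
        obtain ⟨j, hj⟩ := hm a ham
        have h1 : a ≤ A₀ := hA₀max a ham
        have h2 : a ∣ A₀ := by
          rw [hj, hi]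
          rw [hj, hi] at h1
          exact pow_dvd_pow_of_le' hp h1
        exact Nat.dvd_sub (hdvd a ham) h2
      have hr' : r - A₀ ≤ m'.sum := by
        rw [Multiset.sum_cons] at hr
        omega
      obtain ⟨μ', hμ'le, hμ'sum, -⟩ :=
        ih m' hk' (fun a ha => hm a (Multiset.mem_cons_of_mem ha)) (r - A₀) hdvd' hr'
      refine ⟨A₀ ::ₘ μ', Multiset.cons_le_cons A₀ hμ'le, ?_, ?_⟩
      · rw [Multiset.sum_cons, hμ'sum]
        omega
      · intro _ A hA hAmax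
        have h1 : A ≤ A₀ := hA₀max A hA
        have h2 : A₀ ≤ A := hAmax A₀ hA₀
        have : A = A₀ := le_antisymm h1 h2
        rw [this]
        exact Multiset.mem_cons_self A₀ μ'

/-- (M1) greedy choice of cycles filling `p ^ β` points. -/
theorem greedy (p : ℕ) (hp : p.Prime) (m : Multiset ℕ) (hm : ∀ a ∈ m, ∃ j : ℕ, a = p ^ j)
    (β : ℕ) (hle : ∀ a ∈ m, a ≤ p ^ β) (A : ℕ) (hA : A ∈ m) (hAmax : ∀ a ∈ m, a ≤ A)
    (n : ℕ) (hn : p ^ β ≤ n) (hs : m.sum ≤ n) :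
    ∃ μ : Multiset ℕ, μ ≤ m ∧ A ∈ μ ∧ μ.sum ≤ p ^ β ∧ (m - μ).sum + p ^ β ≤ n := by
  rcases Nat.lt_or_ge (p ^ β) m.sum with hlt | hge
  · have hdvd : ∀ a ∈ m, a ∣ p ^ β := by
      intro a ha
      obtain ⟨j, hj⟩ := hm a ha
      have h1 := hle a ha
      rw [hj] at h1 ⊢
      exact pow_dvd_pow_of_le' hp h1
    obtain ⟨μ, hμle, hμsum, hμA⟩ := greedy_aux p hp _ m rfl hm (p ^ β) hdvd hlt.le
    refine ⟨μ, hμle, hμA (pow_pos hp.pos β) A hA hAmax, hμsum.le, ?_⟩
    have h1 : (m - μ).sum + μ.sum = m.sum := by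
      rw [← Multiset.sum_add, tsub_add_cancel_of_le hμle]
    omega
  · refine ⟨m, le_refl _, hA, hge, ?_⟩
    rw [tsub_self]
    simpa using hn

/-! ### M2 -/

theorem sum_lt_of_nodup (p : ℕ) (hp : p.Prime) : ∀ (γ : ℕ) (m : Multiset ℕ),
    (∀ a ∈ m, ∃ j : ℕ, a = p ^ j) → m.Nodup → (∀ a ∈ m, a < p ^ γ) → m.sum < p ^ γ := by
  intro γ
  induction γ with
  | zero =>
    intro m hm hnd hlt
    have : m = 0 := by
      apply Multiset.eq_zero_of_forall_notMem
      intro a ha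
      obtain ⟨j, hj⟩ := hm a ha
      have h1 := hlt a ha
      have h2 : 0 < p ^ j := pow_pos hp.pos j
      rw [hj, pow_zero] at h1
      omega
    subst this
    simp
  | succ γ ih =>
    intro m hm hnd hlt
    have hsmall : ∀ m' : Multiset ℕ, (∀ a ∈ m', ∃ j : ℕ, a = p ^ j) → (∀ a ∈ m', a < p ^ (γ + 1)) →
        p ^ γ ∉ m' → ∀ a ∈ m', a < p ^ γ := by
      intro m' hm' hlt' hnot a ha
      obtain ⟨j, hj⟩ := hm' a ha
      have h1 := hlt' a ha
      rw [hj] at h1 ⊢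
      have h2 : j < γ + 1 := (Nat.pow_lt_pow_iff_right hp.one_lt).mp h1
      have h3 : j ≠ γ := by
        intro h
        apply hnot
        rw [← h, ← hj]
        exact ha
      exact (Nat.pow_lt_pow_iff_right hp.one_lt).mpr (by omega)
    have hpp : p ^ (γ + 1) = p * p ^ γ := by ring
    have hp2 := hp.two_le
    have hpos : 0 < p ^ γ := pow_pos hp.pos γ
    have h2le : 2 * p ^ γ ≤ p ^ (γ + 1) := by
      rw [hpp]
      exact Nat.mul_le_mul_right _ hp2
    by_cases hmem : p ^ γ ∈ m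
    · obtain ⟨m', rfl⟩ := Multiset.exists_cons_of_mem hmem
      rw [Multiset.nodup_cons] at hnd
      have h1 := ih m' (fun a ha => hm a (Multiset.mem_cons_of_mem ha)) hnd.2
        (hsmall m' (fun a ha => hm a (Multiset.mem_cons_of_mem ha))
          (fun a ha => hlt a (Multiset.mem_cons_of_mem ha)) hnd.1)
      rw [Multiset.sum_cons]
      omega
    · have h1 := ih m hm hnd (hsmall m hm hlt hmem)
      omega

/-- (M2) distinct proper powers of `p`, all `≤ p ^ β`, with sum within 1 of `p ^ β`. -/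
theorem par (p : ℕ) (hp : p.Prime) (m : Multiset ℕ) (hm : ∀ a ∈ m, ∃ j : ℕ, 1 ≤ j ∧ a = p ^ j)
    (hnd : m.Nodup) (β : ℕ) (hβ : 1 ≤ β) (hle : ∀ a ∈ m, a ≤ p ^ β)
    (h1 : p ^ β ≤ m.sum + 1) (h2 : m.sum ≤ p ^ β + 1) : m = {p ^ β} := by
  have hm' : ∀ a ∈ m, ∃ j : ℕ, a = p ^ j := fun a ha => by
    obtain ⟨j, -, hj⟩ := hm a ha
    exact ⟨j, hj⟩
  have hp2 := hp.two_le
  have hpdvd : ∀ a ∈ m, p ∣ a := by
    intro a ha
    obtain ⟨j, hj1, hj⟩ := hm a ha
    rw [hj]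
    exact dvd_pow_self p (by omega)
  have hmem : p ^ β ∈ m := by
    by_contra hnot
    have hlt : ∀ a ∈ m, a < p ^ β := by
      intro a ha
      have h3 := hle a ha
      have h4 : a ≠ p ^ β := fun h => hnot (h ▸ ha)
      omega
    have h3 := sum_lt_of_nodup p hp β m hm' hnd hlt
    have h4 : m.sum + 1 = p ^ β := by omega
    have h5 : p ∣ m.sum := Multiset.dvd_sum hpdvd
    have h6 : p ∣ p ^ β := dvd_pow_self p (by omega)
    rw [← h4] at h6
    have h7 : p ∣ 1 := (Nat.dvd_add_right h5).mp h6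
    have := Nat.le_of_dvd one_pos h7
    omega
  obtain ⟨m', rfl⟩ := Multiset.exists_cons_of_mem hmem
  rw [Multiset.sum_cons] at h2
  have hm'0 : m' = 0 := by
    apply Multiset.eq_zero_of_forall_notMem
    intro a ha
    have h3 : a ≤ m'.sum := Multiset.le_sum_of_mem ha
    have h4 : p ∣ a := hpdvd a (Multiset.mem_cons_of_mem ha)
    have h5 : 0 < a := by
      obtain ⟨j, hj⟩ := hm' a (Multiset.mem_cons_of_mem ha)
      rw [hj]
      exact pow_pos hp.pos j
    have h6 := Nat.le_of_dvd h5 h4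
    omega
  rw [hm'0]
  rfl

/-- (M3) `dvd_of_mem_cycleType`, `(Nat.dvd_prime_pow hp).mp`, `two_le_of_mem_cycleType`. -/
theorem ppow_of_mem_cycleType {p : ℕ} (hp : p.Prime) {α : Type*} [Fintype α] [DecidableEq α] (σ : Perm α)
    (hσ : ∃ k : ℕ, orderOf σ = p ^ k) : ∀ a ∈ σ.cycleType, ∃ j : ℕ, 1 ≤ j ∧ a = p ^ j := by
  obtain ⟨k, hk⟩ := hσ
  intro a ha
  have h1 : a ∣ orderOf σ := dvd_of_mem_cycleType ha
  rw [hk] at h1
  obtain ⟨j, hj, rfl⟩ := (Nat.dvd_prime_pow hp).mp h1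
  have h2 := two_le_of_mem_cycleType ha
  refine ⟨j, ?_, rfl⟩
  by_contra h
  have : j = 0 := by omega
  subst this
  simp at h2

/-- (M4) -/
theorem odd_length_iff (L : List ℕ) (h : ∀ x ∈ L, Odd x) : Odd L.sum ↔ Odd L.length := by
  induction L with
  | nil => simp
  | cons a L ih =>
    have ha : Odd a := h a (List.mem_cons_self ..)
    have ih' := ih (fun x hx => h x (List.mem_cons_of_mem _ hx))
    rw [List.sum_cons, List.length_cons, Nat.odd_add, Nat.odd_add_one]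
    simp only [ha, true_iff]
    rw [← Nat.not_odd_iff_even, ih']

theorem odd_length (L : List ℕ) (h : ∀ x ∈ L, Odd x) (hs : Odd L.sum) : Odd L.length :=
  (odd_length_iff L h).mp hs

/-- (CEA2) `Equiv.Perm.centralizer_le_alternating_iff` gives `n ≤ u.cycleType.sum + 1` and `count ≤ 1` (so `Nodup`); (M2). -/
theorem ce_A_par (p : ℕ) (hp : p.Prime) (hp2 : p ≠ 2) (n : ℕ) (u : Perm (Fin n))
    (hu : ∀ a ∈ u.cycleType, ∃ j : ℕ, 1 ≤ j ∧ a = p ^ j)
    (β : ℕ) (hβ : 1 ≤ β) (hle : ∀ a ∈ u.cycleType, a ≤ p ^ β) (hbn : p ^ β ≤ n) (hn : n ≤ p ^ β + 1)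
    (hcen : Subgroup.centralizer {u} ≤ alternatingGroup (Fin n)) : u.cycleType = {p ^ β} := by
  rw [Equiv.Perm.centralizer_le_alternating_iff] at hcen
  obtain ⟨-, hcard, hcount⟩ := hcen
  simp only [Fintype.card_fin] at hcard
  have hnd : u.cycleType.Nodup := Multiset.nodup_iff_count_le_one.mpr hcount
  have h2 := sum_cycleType_le u
  simp only [Fintype.card_fin] at h2
  exact par p hp u.cycleType hu hnd β hβ hle (by omega) (by omega)

end Cfsg.Agent.Lib.Helper18.AltFPLeaf
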