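import Cfsg.Agent.Lib.Helper14.AltFP.Defs

/-!
# S2276 leaves (helper14's market): FW1 `cycleType_joinPerm`, FW4 `exists_rest`, FW5 `exists_odd`,
FW6 `exists_odd_centralizer`.
-/

set_option autoImplicit false

namespace Cfsg.Agent.Lib.Helper18.AltFPLeaf

open Equiv Equiv.Perm Cfsg.Agent.Lib.Helper14.AltFP
open scoped commutatorElement

/-- cycle type is invariant under transport along an equivalence -/
theorem cycleType_permCongr' {α β : Type*} [Fintype α] [DecidableEq α] [Fintype β] [DecidableEq β]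
    (e : α ≃ β) (σ : Perm α) : (e.permCongr σ).cycleType = σ.cycleType := by
  have h : e.permCongr σ =
      σ.extendDomain (e.trans (Equiv.subtypeUnivEquiv (p := fun _ : β => True) (fun _ => trivial)).symm) := by
    ext b
    rw [Equiv.Perm.extendDomain_apply_subtype _ _ (trivial : (fun _ : β => True) b)]
    simp [Equiv.permCongr_apply]
  rw [h, cycleType_extendDomain]

theorem sumCongr_one_right_eq {α β : Type*} [Fintype α] [DecidableEq α] [Fintype β] [DecidableEq β]
    (σ : Perm α) :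
    (Equiv.sumCongr σ (1 : Perm β) : Perm (α ⊕ β)) =
      σ.extendDomain (Equiv.ofInjective (Sum.inl : α → α ⊕ β) Sum.inl_injective) := by
  ext x
  rcases x with a | b
  · have h1 : (Sum.inl a : α ⊕ β) =
        ((Equiv.ofInjective (Sum.inl : α → α ⊕ β) Sum.inl_injective) a : α ⊕ β) := rfl
    rw [h1, Equiv.Perm.extendDomain_apply_image]
    rfl
  · rw [Equiv.Perm.extendDomain_apply_not_subtype]
    · rfl
    · simp

theorem sumCongr_one_left_eq {α β : Type*} [Fintype α] [DecidableEq α] [Fintype β] [DecidableEq β]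
    (τ : Perm β) :
    (Equiv.sumCongr (1 : Perm α) τ : Perm (α ⊕ β)) =
      τ.extendDomain (Equiv.ofInjective (Sum.inr : β → α ⊕ β) Sum.inr_injective) := by
  ext x
  rcases x with a | b
  · rw [Equiv.Perm.extendDomain_apply_not_subtype]
    · rfl
    · simp
  · have h1 : (Sum.inr b : α ⊕ β) =
        ((Equiv.ofInjective (Sum.inr : β → α ⊕ β) Sum.inr_injective) b : α ⊕ β) := rfl
    rw [h1, Equiv.Perm.extendDomain_apply_image]
    rfl

theorem cycleType_sumCongr' {α β : Type*} [Fintype α] [DecidableEq α] [Fintype β] [DecidableEq β]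
    (σ : Perm α) (τ : Perm β) :
    Equiv.Perm.cycleType (Equiv.sumCongr σ τ : Perm (α ⊕ β)) = σ.cycleType + τ.cycleType := by
  have h : (Equiv.sumCongr σ τ : Perm (α ⊕ β)) =
      (Equiv.sumCongr σ (1 : Perm β) : Perm (α ⊕ β)) * (Equiv.sumCongr (1 : Perm α) τ : Perm (α ⊕ β)) := by
    ext x
    rcases x with a | b <;> rfl
  have hd : Disjoint (Equiv.sumCongr σ (1 : Perm β) : Perm (α ⊕ β))
      (Equiv.sumCongr (1 : Perm α) τ : Perm (α ⊕ β)) := by
    intro x
    rcases x with a | b
    · right; rfl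
    · left; rfl
  rw [h, hd.cycleType_mul, sumCongr_one_right_eq, sumCongr_one_left_eq, cycleType_extendDomain,
    cycleType_extendDomain]

/-- (FW1) cycle type of `joinPerm`. -/
theorem cycleType_joinPerm {d n : ℕ} (h : d ≤ n) (σ : Perm (Fin d)) (τ : Perm (Fin (n - d))) :
    (joinPerm h σ τ).cycleType = σ.cycleType + τ.cycleType := by
  unfold joinPerm
  rw [cycleType_permCongr', cycleType_sumCongr']

/-- (FW4) `Equiv.Perm.exists_with_cycleType_iff`. -/
theorem exists_rest (k : ℕ) (m : Multiset ℕ) (h2 : ∀ a ∈ m, 2 ≤ a) (hs : m.sum ≤ k) :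
    ∃ r : Perm (Fin k), r.cycleType = m := by
  rw [Equiv.Perm.exists_with_cycleType_iff]
  exact ⟨by simpa using hs, h2⟩

/-- (FW5) `swap ⟨0,_⟩ ⟨1,_⟩`, `sign_swap`. -/
theorem exists_odd (k : ℕ) (hk : 2 ≤ k) : ∃ s : Perm (Fin k), Perm.sign s = -1 := by
  refine ⟨swap (⟨0, by omega⟩ : Fin k) ⟨1, by omega⟩, ?_⟩
  apply sign_swap
  intro h
  have := congrArg Fin.val h
  simp at this

/-- (FW6) `SetLike.not_le_iff_exists`, `Subgroup.mem_centralizer_iff`, `Int.units_eq_one_or`. -/
theorem exists_odd_centralizer {n : ℕ} (u : Perm (Fin n))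
    (h : ¬ Subgroup.centralizer {u} ≤ alternatingGroup (Fin n)) :
    ∃ z : Perm (Fin n), z * u * z⁻¹ = u ∧ Perm.sign z = -1 := by
  rw [SetLike.not_le_iff_exists] at h
  obtain ⟨z, hz, hz'⟩ := h
  refine ⟨z, ?_, ?_⟩
  · rw [Subgroup.mem_centralizer_iff] at hz
    have := hz u (Set.mem_singleton u)
    rw [mul_inv_eq_iff_eq_mul]
    exact this.symm
  · rw [mem_alternatingGroup] at hz'
    rcases Int.units_eq_one_or (Perm.sign z) with h1 | h1
    · exact absurd h1 hz'
    · exact h1

end Cfsg.Agent.Lib.Helper18.AltFPLeaf
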