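import Mathlib
import Cfsg.Agent.Lib.Helper18.GlaubDefs

set_option autoImplicit false

/-!
Helper18 library: vocabulary for Glauberman's dihedral corollary (S4385): `DData g x t` is the
generator data `PData 2 g x t` together with the two global conditions that survive in that
setting: `⟨x_0, ..., x_t⟩` is not a 2-group, and no non-identity subgroup of `⟨x_0, ..., x_(t-1)⟩`
is normalized by `x_0, ..., x_(t+1)`.  (It is `Sims3.TSData` with `core` weakened to subgroups of
`⟨x_0, ..., x_(t-1)⟩`; the full `core` fails in the setting of S4385.)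
-/

namespace Cfsg.Agent.Lib.Helper18.Glaub

open Cfsg.Agent.Lib.Helper18.Sims3

variable {G : Type*} [Group G]

/-- Generator data for Glauberman's dihedral corollary. -/
structure DData (g : G) (x : ℕ → G) (t : ℕ) : Prop where
  pdata : PData 2 g x t
  notTwo : ¬ IsPGroup 2 ↥(Hx x 0 t)
  coreP : ∀ N : Subgroup G, N ≤ Hx x 0 (t - 1) →
    (∀ j, j ≤ t + 1 → x j ∈ Subgroup.normalizer (N : Set G)) → N = ⊥

end Cfsg.Agent.Lib.Helper18.Glaub
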