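import Cfsg.Agent.Lib.Helper18.MinIdxOrthB

set_option autoImplicit false

/-!
# Existence half of the minimal-index statement for `Ω⁺_{2m}(2)`: the nonsingular vectors
-/

namespace Cfsg.Agent.Lib.Helper18.MinIdx

open Module QuadraticMap Matrix Cfsg.Agent.Lib.Helper25.CD Cfsg.Agent.Lib.Helper25.PS
  Cfsg.Agent.Lib.Helper25.Spin Cfsg.Agent.Lib.Helper14 Cfsg.Agent.Lib.Helper5.OmegaCenter

section general

variable {ι : Type} [Fintype ι] [DecidableEq ι] {F : Type*} [Field F] [Fintype F]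
  (Q : QuadraticForm F (ι → F))

/-- a transitive action of `Ω` with the centre fixing a point gives a subgroup of `PΩ` of index
the number of points -/
theorem exists_index_of_pretransitive {X : Type*} [MulAction ↥(Cfsg.Omega F ⇑Q) X]
    (htr : MulAction.IsPretransitive ↥(Cfsg.Omega F ⇑Q) X) (x₀ : X)
    (hc : ∀ z ∈ Subgroup.center ↥(Cfsg.Omega F ⇑Q), z • x₀ = x₀) :
    ∃ H : Subgroup (Cfsg.POmega F ⇑Q), H.index = Nat.card X := by
  refine ⟨(MulAction.stabilizer ↥(Cfsg.Omega F ⇑Q) x₀).map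
    (QuotientGroup.mk' (Subgroup.center ↥(Cfsg.Omega F ⇑Q))), ?_⟩
  rw [Subgroup.index_map_eq _ (QuotientGroup.mk'_surjective _)]
  · exact MulAction.index_stabilizer_of_transitive _ _
  · rw [QuotientGroup.ker_mk']
    intro z hz
    rw [MulAction.mem_stabilizer_iff]
    exact hc z hz

/-- the nonsingular vectors -/
def NV : Type _ := {v : ι → F // Q v ≠ 0}

noncomputable instance : MulAction ↥(Cfsg.isometryGroup F ⇑Q) (NV Q) where
  smul g v := ⟨toOG Q g v.1, by rw [Q_toOG]; exact v.2⟩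
  one_smul v := by
    apply Subtype.ext
    show toOG Q 1 v.1 = v.1
    rw [map_one]
    rfl
  mul_smul g h v := by
    apply Subtype.ext
    show toOG Q (g * h) v.1 = toOG Q g (toOG Q h v.1)
    rw [map_mul]
    rfl

theorem NV_smul_val (g : ↥(Cfsg.isometryGroup F ⇑Q)) (v : NV Q) :
    (g • v).1 = toOG Q g v.1 := rfl

theorem card_NV :
    Nat.card (NV Q) + Nat.card {v : ι → F // Q v = 0} = Fintype.card F ^ Fintype.card ι := by
  classical
  have h1 : Nat.card (NV Q) = Fintype.card {v : ι → F // ¬ Q v = 0} := by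
    rw [← Nat.card_eq_fintype_card]
    rfl
  have h2 : Fintype.card (ι → F) = Fintype.card F ^ Fintype.card ι := Fintype.card_fun
  rw [h1, Nat.card_eq_fintype_card, Fintype.card_subtype_compl, ← h2]
  have := Fintype.card_subtype_le (fun v : ι → F => Q v = 0)
  omega

end general

section two

variable {ι : Type} [Fintype ι] [DecidableEq ι] {F : Type*} [Field F] [Fintype F]
  (Q : QuadraticForm F (ι → F))

theorem eq_zero_or_one_of_card_two (hF : Fintype.card F = 2) (t : F) : t = 0 ∨ t = 1 := by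
  classical
  by_contra hcon
  push Not at hcon
  have h3 : ({0, 1, t} : Finset F).card = 3 := by
    rw [Finset.card_eq_three]
    exact ⟨0, 1, t, zero_ne_one, hcon.1.symm, hcon.2.symm, rfl⟩
  have := Finset.card_le_univ ({0, 1, t} : Finset F)
  rw [h3, hF] at this
  omega

/-- over the field with two elements `Ω` is transitive on the nonsingular vectors -/
theorem omega_pretransitive_NV (hF : Fintype.card F = 2) (hQ : (polarBilin Q).Nondegenerate)
    (hn : 5 ≤ Fintype.card ι) :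
    MulAction.IsPretransitive ↥(Cfsg.Omega F ⇑Q) (NV Q) := by
  have : Fact (Nat.Prime 2) := ⟨Nat.prime_two⟩
  have : CharP F 2 := charP_of_card_eq_prime hF
  constructor
  intro u v
  obtain ⟨g, hgΩ, hg⟩ := omega_trans_nonsing Q hQ (Or.inr (by omega)) u.2 v.2
  refine ⟨⟨g, hgΩ⟩, ?_⟩
  apply Subtype.ext
  show toOG Q g u.1 = v.1
  rw [toOG_apply]
  have h1 : v.1 ∈ Submodule.span F {((g : GL ι F) : Matrix ι ι F) *ᵥ u.1} := by
    rw [hg]
    exact Submodule.mem_span_singleton_self _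
  obtain ⟨t, ht⟩ := Submodule.mem_span_singleton.1 h1
  rcases eq_zero_or_one_of_card_two hF t with h | h
  · exfalso
    rw [h, zero_smul] at ht
    apply v.2
    rw [← ht, QuadraticMap.map_zero]
  · rw [h, one_smul] at ht
    exact ht

/-- the centre of `Ω` fixes every nonsingular vector in characteristic two -/
theorem center_smul_NV (hF : Fintype.card F = 2) (hQ : (polarBilin Q).Nondegenerate)
    (hn : 5 ≤ Fintype.card ι)
    (z : ↥(Cfsg.Omega F ⇑Q)) (hz : z ∈ Subgroup.center ↥(Cfsg.Omega F ⇑Q)) (v : NV Q) :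
    z • v = v := by
  have : Fact (Nat.Prime 2) := ⟨Nat.prime_two⟩
  have : CharP F 2 := charP_of_card_eq_prime hF
  have h1 := center_pm_one Q hQ (Or.inr (by omega)) (by omega) (coe_mem_CZ Q z hz)
  apply Subtype.ext
  show toOG Q (z : ↥(Cfsg.isometryGroup F ⇑Q)) v.1 = v.1
  rw [toOG_apply]
  rcases h1 with h | h
  · rw [h, Matrix.one_mulVec]
  · rw [h, Matrix.neg_mulVec, Matrix.one_mulVec]
    funext i
    exact CharTwo.neg_eq (v.1 i)

end two

/-- `Ω⁺_{2m}(2)` has a subgroup of index `2^(m-1) (2^m - 1)` -/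
theorem exists_index_plus_two {F : Type*} [Field F] [Fintype F] (hF : Fintype.card F = 2) (m : ℕ)
    (hm : 3 ≤ m) :
    ∃ H : Subgroup (Cfsg.POmega F (Cfsg.quadFormPlus m F)),
      H.index = 2 ^ (m - 1) * (2 ^ m - 1) := by
  classical
  have hcard : Fintype.card (Fin m ⊕ Fin m) = 2 * m := by
    rw [Fintype.card_sum, Fintype.card_fin]; ring
  have hQ : (polarBilin (qfOf (isQF_plus (F := F) (m := m)))).Nondegenerate := qfOf_nondeg _
  have hn : 5 ≤ Fintype.card (Fin m ⊕ Fin m) := by rw [hcard]; omega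
  have hzero : Nat.card {v : Fin m ⊕ Fin m → F // (qfOf (isQF_plus (F := F) (m := m))) v = 0} =
      2 ^ m + (2 ^ m - 1) * 2 ^ (m - 1) := by
    have := plus_card_zero (F := F) m
    rw [hF] at this
    rw [show (fun v : Fin m ⊕ Fin m → F => (qfOf (isQF_plus (F := F) (m := m))) v = 0) =
      fun v => Cfsg.quadFormPlus m F v = 0 from rfl, this]
  have hNV := card_NV (qfOf (isQF_plus (F := F) (m := m)))
  rw [hzero, hF, hcard] at hNV
  have hcount : Nat.card (NV (qfOf (isQF_plus (F := F) (m := m)))) = 2 ^ (m - 1) * (2 ^ m - 1) := by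
    obtain ⟨k, rfl⟩ : ∃ k, m = k + 1 := ⟨m - 1, by omega⟩
    rw [Nat.add_sub_cancel] at hNV ⊢
    obtain ⟨A, hA⟩ : ∃ A, 2 ^ k = A + 1 := ⟨2 ^ k - 1, by
      have : 1 ≤ 2 ^ k := Nat.one_le_two_pow
      omega⟩
    have e1 : 2 ^ (k + 1) = 2 * A + 2 := by rw [pow_succ, hA]; ring
    have e2 : 2 ^ (2 * (k + 1)) = (2 * A + 2) * (2 * A + 2) := by
      rw [two_mul, pow_add, e1]
    rw [e1, e2, hA] at hNV
    rw [e1, hA]
    have e3 : 2 * A + 2 - 1 = 2 * A + 1 := by omega
    rw [e3] at hNV ⊢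
    nlinarith [hNV]
  have hne : Nonempty (NV (qfOf (isQF_plus (F := F) (m := m)))) := by
    by_contra hemp
    rw [not_nonempty_iff] at hemp
    rw [Nat.card_of_isEmpty] at hcount
    have h1 : 0 < 2 ^ (m - 1) := by positivity
    have h2 : 2 ≤ 2 ^ m := by
      calc 2 = 2 ^ 1 := (pow_one 2).symm
        _ ≤ 2 ^ m := Nat.pow_le_pow_right (by omega) (by omega)
    have h3 : 0 < 2 ^ (m - 1) * (2 ^ m - 1) := Nat.mul_pos h1 (by omega)
    omega
  obtain ⟨x₀⟩ := hne
  obtain ⟨H, hH⟩ := exists_index_of_pretransitive (qfOf (isQF_plus (F := F) (m := m)))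
    (omega_pretransitive_NV _ hF hQ hn) x₀
    (fun z hz => center_smul_NV _ hF hQ hn z hz x₀)
  exact ⟨H, hH.trans hcount⟩

end Cfsg.Agent.Lib.Helper18.MinIdx
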