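import Mathlib
import Cfsg.Agent.S2238

/-!
Field automorphisms of the Suzuki groups `Cfsg.Sz F m` (ovoid model), on top of helper15's
Suzuki libraries (helper18).
-/

set_option autoImplicit false

namespace Cfsg.Agent.Lib.Helper18.SzFieldAut

open Cfsg.Agent.Lib.Helper15.SuzukiAlg Cfsg.Agent.Lib.Helper15.SuzukiOvoid
  Cfsg.Agent.Lib.Helper15.SuzukiForm Cfsg.Agent.Lib.Helper15.SuzukiMat
  Cfsg.Agent.Lib.Helper15.SuzukiGroup Cfsg.Agent.Lib.Helper15.SuzukiOrder
  Cfsg.Agent.Lib.Helper15.SuzukiZassenhaus Cfsg.Agent.Lib.Helper15.SuzukiBorel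
  Cfsg.Agent.Lib.Helper15.SuzukiElements
open Matrix

variable {F : Type*} [Field F]

theorem sig_comm (h2 : (2 : F) = 0) (m : ℕ) (κ : F →+* F) (a : F) :
    κ (sig h2 m a) = sig h2 m (κ a) := by
  rw [sig_apply, sig_apply, map_pow]

theorem f_comm (h2 : (2 : F) = 0) (m : ℕ) (κ : F →+* F) (x y : F) :
    κ (f (sig h2 m) x y) = f (sig h2 m) (κ x) (κ y) := by
  simp only [f, map_add, map_mul, map_pow, sig_comm]

/-- the action of a ring homomorphism on the parameters of the ovoid vectors -/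
def cmap (κ : F →+* F) : Option (F × F) → Option (F × F) := Option.map (Prod.map κ κ)

theorem ov_comm (h2 : (2 : F) = 0) (m : ℕ) (κ : F →+* F) (c : Option (F × F)) :
    κ ∘ ov (sig h2 m) c = ov (sig h2 m) (cmap κ c) := by
  rcases c with _ | ⟨x, y⟩
  · funext i
    fin_cases i <;> simp [cmap, ov, e0]
  · funext i
    fin_cases i <;> simp [cmap, ov, pv, f_comm]

theorem cmap_symm (κ : F ≃+* F) (c : Option (F × F)) :
    cmap (κ : F →+* F) (cmap (κ.symm : F →+* F) c) = c := by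
  rcases c with _ | ⟨x, y⟩
  · rfl
  · show some (κ (κ.symm x), κ (κ.symm y)) = some (x, y)
    rw [RingEquiv.apply_symm_apply, RingEquiv.apply_symm_apply]

theorem map_mem_Sz [Finite F] (h2 : (2 : F) = 0) {m : ℕ} (κ : F ≃+* F)
    {g : Matrix.SpecialLinearGroup (Fin 4) F} (hg : g ∈ Cfsg.Sz F m) :
    Matrix.SpecialLinearGroup.map (κ : F →+* F) g ∈ Cfsg.Sz F m := by
  apply mem_Sz_of_maps (h2 := h2)
  intro c
  obtain ⟨c', k, hk, hgc⟩ := stab_ov h2 hg (cmap (κ.symm : F →+* F) c)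
  refine ⟨cmap (κ : F →+* F) c', κ k, ?_, ?_⟩
  · simpa using hk
  · have h1 : ov (sig h2 m) c = (κ : F →+* F) ∘ ov (sig h2 m) (cmap (κ.symm : F →+* F) c) := by
      rw [ov_comm, cmap_symm]
    rw [h1]
    funext i
    have h3 := RingHom.map_mulVec (κ : F →+* F) (g : Matrix (Fin 4) (Fin 4) F)
      (ov (sig h2 m) (cmap (κ.symm : F →+* F) c)) i
    rw [Matrix.SpecialLinearGroup.map_apply_coe, RingHom.mapMatrix_apply, ← h3, hgc, ← ov_comm]
    simp

variable [Fintype F] {m : ℕ} (hF : Fintype.card F = 2 ^ (2 * m + 1))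

omit [Fintype F] in
theorem map_map_symm (κ : F ≃+* F) (g : Matrix.SpecialLinearGroup (Fin 4) F) :
    Matrix.SpecialLinearGroup.map (κ.symm : F →+* F)
      (Matrix.SpecialLinearGroup.map (κ : F →+* F) g) = g := by
  apply Subtype.ext
  ext i j
  simp [Matrix.SpecialLinearGroup.map_apply_coe]

/-- the field automorphism of the Suzuki group induced by `κ` -/
noncomputable def fieldAut (κ : F ≃+* F) : Cfsg.Sz F m ≃* Cfsg.Sz F m where
  toFun g := ⟨Matrix.SpecialLinearGroup.map (κ : F →+* F) g.1,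
    map_mem_Sz (two_eq_zero hF) κ g.2⟩
  invFun g := ⟨Matrix.SpecialLinearGroup.map (κ.symm : F →+* F) g.1,
    map_mem_Sz (two_eq_zero hF) κ.symm g.2⟩
  left_inv g := Subtype.ext (map_map_symm κ g.1)
  right_inv g := Subtype.ext (map_map_symm κ.symm g.1)
  map_mul' g h := Subtype.ext (map_mul _ g.1 h.1)

theorem fieldAut_Ts (κ : F ≃+* F) (a b : F) :
    fieldAut hF κ (Ts hF a b) = Ts hF (κ a) (κ b) := by
  apply Subtype.ext
  apply Subtype.ext
  ext i j
  show (κ : F →+* F) (Tm (sig (two_eq_zero hF) m) a b i j) =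
    Tm (sig (two_eq_zero hF) m) (κ a) (κ b) i j
  have hs := sig_comm (two_eq_zero hF) m (κ : F →+* F)
  have hf := f_comm (two_eq_zero hF) m (κ : F →+* F)
  simp only [RingEquiv.coe_toRingHom] at hs hf
  fin_cases i <;> fin_cases j <;> simp [Tm, hs, hf]

theorem fieldAut_Hs (κ : F ≃+* F) (μ : Fˣ) :
    fieldAut hF κ (Hs hF μ) = Hs hF (Units.map (κ : F →* F) μ) := by
  apply Subtype.ext
  apply Subtype.ext
  ext i j
  show (κ : F →+* F) (Hm (sig (two_eq_zero hF) m) (μ : F) i j) =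
    Hm (sig (two_eq_zero hF) m) (κ (μ : F)) i j
  have hs := sig_comm (two_eq_zero hF) m (κ : F →+* F)
  simp only [RingEquiv.coe_toRingHom] at hs
  fin_cases i <;> fin_cases j <;> simp [Hm, hs]

end Cfsg.Agent.Lib.Helper18.SzFieldAut
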