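import Mathlib
import Cfsg.Agent.S2238
import Cfsg.Agent.Lib.Helper18.SzFixity

/-!
Rigidity of automorphisms of the Suzuki groups `Cfsg.Sz F m` (ovoid model): an automorphism
acting trivially on `Q / Z(Q)` and normalising the torus is the identity (helper18).
-/

set_option autoImplicit false

namespace Cfsg.Agent.Lib.Helper18.SzRigid

open Cfsg.Agent.Lib.Helper15.SuzukiAlg Cfsg.Agent.Lib.Helper15.SuzukiOvoid
  Cfsg.Agent.Lib.Helper15.SuzukiGroup Cfsg.Agent.Lib.Helper15.SuzukiOrder
  Cfsg.Agent.Lib.Helper15.SuzukiZassenhaus Cfsg.Agent.Lib.Helper15.SuzukiBorel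
  Cfsg.Agent.Lib.Helper15.SuzukiElements
  Cfsg.Agent.Lib.Helper15.SuzukiFpf Cfsg.Agent.Lib.Helper15.SuzukiField
  Cfsg.Agent.Lib.Helper15.SuzukiTori Cfsg.Agent.S2410 Cfsg.Agent.S2247 Cfsg.Agent.S0331
  Cfsg.Agent.S2238
open MulAction

variable {F : Type*} [Field F] [Fintype F] {m : ℕ} (hF : Fintype.card F = 2 ^ (2 * m + 1))

/-- the norm-like map `a ↦ σ(a) a` is surjective -/
theorem exists_norm (b : F) : ∃ a : F, sig (two_eq_zero hF) m a * a = b := by
  have h2 := two_eq_zero hF
  have hone : ∀ x : F, sig h2 m x * x = 1 → x = 1 := by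
    intro x hx
    apply char_two_inj hF
    have h1 := congrArg (sig h2 m) hx
    rw [map_mul, sig_sig h2 hF, map_one] at h1
    exact h1
  have hinj : Function.Injective (fun a : F => sig h2 m a * a) := by
    intro a a' h
    simp only at h
    by_cases ha' : a' = 0
    · subst ha'
      simp only [map_zero, mul_zero, mul_eq_zero] at h
      rcases h with h | h
      · exact (map_eq_zero _).mp h
      · exact h
    · have h1 : sig h2 m (a / a') * (a / a') = 1 := by
        rw [map_div₀, div_mul_div_comm, h]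
        have : sig h2 m a' ≠ 0 := fun h0 => ha' ((map_eq_zero _).mp h0)
        field_simp
      have := hone _ h1
      field_simp at this
      exact this
  exact (Finite.injective_iff_surjective.mp hinj) b

theorem sig_injective : Function.Injective (sig (two_eq_zero hF) m) :=
  RingHom.injective _

/-- every point of the ovoid is in the orbit of the point at infinity, explicitly -/
theorem exists_smul_inf (P : Cfsg.suzukiOvoid F m) :
    P = pt hF none ∨ ∃ a b : F, P = (Ts hF a b * Js hF) • pt hF none := by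
  obtain ⟨c, rfl⟩ := pt_surj hF P
  rcases c with _ | ⟨x, y⟩
  · left; rfl
  · right
    refine ⟨x, y, ?_⟩
    rw [mul_smul, Js_inf, Ts_some]
    simp

/-- **Rigidity**: an automorphism inducing the identity on `Q / Z(Q)` and mapping the torus into
itself is the identity. -/
theorem rigid (hm : 1 ≤ m) (α : Cfsg.Sz F m ≃* Cfsg.Sz F m)
    (hi : ∀ a b : F, ∃ b' : F, α (Ts hF a b) = Ts hF a b')
    (hii : ∀ μ : Fˣ, ∃ ν : Fˣ, α (Hs hF μ) = Hs hF ν) : ∀ g, α g = g := by
  have h2 := two_eq_zero hF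
  -- R1: the torus is fixed pointwise
  have hT : ∀ μ : Fˣ, α (Hs hF μ) = Hs hF μ := by
    intro μ
    obtain ⟨ν, hν⟩ := hii μ
    obtain ⟨b', hb'⟩ := hi 1 0
    obtain ⟨b'', hb''⟩ := hi (sig h2 m (μ : F) * 1) ((μ : F) ^ 2 * sig h2 m (μ : F) * 0)
    have h1 := congrArg α (Hs_mul_Ts hF μ 1 0)
    rw [map_mul, map_mul, hν, hb', hb'', Hs_mul_Ts] at h1
    have h3 := (Ts_inj hF (mul_right_cancel h1)).1
    rw [mul_one, mul_one] at h3
    have h4 : ν = μ := Units.ext (sig_injective hF h3)
    rw [hν, h4]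
  -- R2: the centre of `Q` is fixed pointwise
  have hZ : ∀ b : F, α (Ts hF 0 b) = Ts hF 0 b := by
    intro b
    obtain ⟨a, rfl⟩ := exists_norm hF b
    obtain ⟨b', hb'⟩ := hi a 0
    have h1 : Ts hF a 0 * Ts hF a 0 = Ts hF 0 (sig h2 m a * a) :=
      Cfsg.Agent.Lib.Helper18.SzFixity.Ts_mul_self hF a 0
    calc α (Ts hF 0 (sig h2 m a * a)) = α (Ts hF a 0 * Ts hF a 0) := by rw [h1]
      _ = Ts hF a b' * Ts hF a b' := by rw [map_mul, hb']
      _ = Ts hF 0 (sig h2 m a * a) := Cfsg.Agent.Lib.Helper18.SzFixity.Ts_mul_self hF a b'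
  -- R3: `α (Ts a 0) = Ts a 0`
  choose ψ hψ using fun a => hi a 0
  have hadd : ∀ a a' : F, ψ (a + a') = ψ a + ψ a' := by
    intro a a'
    have e1 : Ts hF a 0 * Ts hF a' 0 = Ts hF (a + a') 0 * Ts hF 0 (sig h2 m a * a') := by
      rw [Ts_mul, Ts_mul]; congr 1
      · rw [add_zero]
      · simp
    have h1 := congrArg α e1
    rw [map_mul, map_mul, hψ, hψ, hψ, hZ, Ts_mul, Ts_mul] at h1
    have h3 := (Ts_inj hF h1).2
    simp only [mul_zero, add_zero] at h3
    have := add_self h2 (sig h2 m a * a')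
    linear_combination (-1 : F) * h3
  have htor : ∀ (μ : Fˣ) (a : F), ψ (sig h2 m (μ : F) * a) =
      (μ : F) ^ 2 * sig h2 m (μ : F) * ψ a := by
    intro μ a
    have h1 := congrArg α (Hs_mul_Ts hF μ a 0)
    rw [map_mul, map_mul, hT, mul_zero, hψ, hψ, Hs_mul_Ts] at h1
    exact ((Ts_inj hF (mul_right_cancel h1)).2).symm
  have hψ0 : ∀ a : F, ψ a = 0 := by
    intro a
    obtain ⟨t, ht⟩ := exists_sig_ne hF hm
    have ht0 : t ≠ 0 := by
      rintro rfl
      apply ht; simp
    have ht1 : t + 1 ≠ 0 := by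
      intro h
      have : t = 1 := by
        have := add_self h2 (1 : F)
        linear_combination h - this
      apply ht
      rw [this]; simp
    have e1 := htor (Units.mk0 t ht0) a
    have e2 := htor (Units.mk0 (t + 1) ht1) a
    simp only [Units.val_mk0] at e1 e2
    rw [map_add, map_one, add_mul, one_mul, hadd, e1] at e2
    have h3 : (t ^ 2 + sig h2 m t) * ψ a = 0 := by
      linear_combination (-1 : F) * e2 - (t * sig h2 m t + t) * ψ a * h2
    rcases mul_eq_zero.mp h3 with h | h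
    · exfalso
      apply ht
      linear_combination h - t ^ 2 * h2
    · exact h
  -- R4: `α` is the identity on the Borel subgroup
  have hQ : ∀ a b : F, α (Ts hF a b) = Ts hF a b := by
    intro a b
    have e1 : Ts hF a b = Ts hF a 0 * Ts hF 0 b := by
      rw [Ts_mul]; congr 1 <;> simp
    rw [e1, map_mul, hψ, hψ0, hZ]
  have hBz : ∀ g ∈ Bz hF, α g = g := by
    intro g hg
    obtain ⟨a, b, μ, rfl⟩ := fix_inf hF hm (mem_stabilizer_iff.mp hg)
    rw [map_mul, hQ, hT]
  -- R5: `α (Js)` maps infinity to zero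
  have hJ : α (Js hF) • pt hF none = pt hF (some (0, 0)) := by
    obtain ⟨t, ht0, ht1⟩ := exists_ne_zero_one hF hm
    have hμ1 : Units.mk0 t ht0 ≠ 1 := by
      intro h
      apply ht1
      have := congrArg (fun u : Fˣ => (u : F)) h
      simpa using this
    have hfix : Hs hF (Units.mk0 t ht0) • (α (Js hF) • pt hF none) = α (Js hF) • pt hF none := by
      have e1 : Hs hF (Units.mk0 t ht0) * Js hF = Js hF * Hs hF (Units.mk0 t ht0)⁻¹ := by
        rw [Js_mul_Hs, inv_inv]
      have e2 := congrArg α e1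
      rw [map_mul, map_mul, hT, hT] at e2
      rw [← mul_smul, e2, mul_smul, Hs_inf]
    rcases Hs_fix hF hm hμ1 hfix with h | h
    · exfalso
      have h1 : α (Js hF) ∈ Bz hF := mem_stabilizer_iff.mpr h
      have h3 := hBz _ h1
      have h4 : Js hF ∈ Bz hF := by
        rw [← α.injective h3]; exact h1
      have h5 := mem_stabilizer_iff.mp h4
      rw [Js_inf] at h5
      exact pt_none_ne_zero hF h5.symm
    · exact h
  -- R6: `α g` and `g` agree on the point at infinity
  have hinf : ∀ g : Cfsg.Sz F m, α g • pt hF none = g • pt hF none := by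
    intro g
    rcases exists_smul_inf hF (g • pt hF none) with h | ⟨a, b, h⟩
    · rw [hBz g (mem_stabilizer_iff.mpr h)]
    · have hb : (Ts hF a b * Js hF)⁻¹ * g ∈ Bz hF := by
        rw [mem_stabilizer_iff, mul_smul, h, inv_smul_smul]
      have e1 : g = Ts hF a b * Js hF * ((Ts hF a b * Js hF)⁻¹ * g) := by group
      have e2 : α g = Ts hF a b * α (Js hF) * ((Ts hF a b * Js hF)⁻¹ * g) := by
        conv_lhs => rw [e1]
        rw [map_mul, map_mul, hQ, hBz _ hb]
      rw [e2, mul_smul, mem_stabilizer_iff.mp hb, mul_smul, hJ, h, mul_smul, Js_inf]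
  -- R7, R8
  intro g
  have hfaith := faithful hF hm
  apply hfaith.eq_of_smul_eq_smul
  intro P
  have hP : ∃ x : Cfsg.Sz F m, P = x • pt hF none := by
    rcases exists_smul_inf hF P with h | ⟨a, b, h⟩
    · exact ⟨1, by rw [one_smul]; exact h⟩
    · exact ⟨_, h⟩
  obtain ⟨x, rfl⟩ := hP
  rw [← hinf x, ← mul_smul, ← map_mul, hinf, mul_smul, hinf]

end Cfsg.Agent.Lib.Helper18.SzRigid
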