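import Mathlib
import Cfsg.Agent.S2238
import Cfsg.Agent.Lib.Helper18.SzFixity
import Cfsg.Agent.Lib.Helper18.SzRigid

/-!
Automorphisms of the Suzuki group normalising `Q` and the torus act semilinearly on `Q / Z(Q)`
(helper18).
-/

set_option autoImplicit false

namespace Cfsg.Agent.Lib.Helper18.SzSemilinear

open Cfsg.Agent.Lib.Helper15.SuzukiAlg Cfsg.Agent.Lib.Helper15.SuzukiOvoid
  Cfsg.Agent.Lib.Helper15.SuzukiGroup Cfsg.Agent.Lib.Helper15.SuzukiOrder
  Cfsg.Agent.Lib.Helper15.SuzukiZassenhaus Cfsg.Agent.Lib.Helper15.SuzukiBorel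
  Cfsg.Agent.Lib.Helper15.SuzukiElements
  Cfsg.Agent.Lib.Helper15.SuzukiFpf Cfsg.Agent.Lib.Helper15.SuzukiField
  Cfsg.Agent.Lib.Helper15.SuzukiTori Cfsg.Agent.S2410 Cfsg.Agent.S2247 Cfsg.Agent.S0331
  Cfsg.Agent.S2238 Cfsg.Agent.Lib.Helper18.SzFixity Cfsg.Agent.Lib.Helper18.SzRigid
open MulAction

variable {F : Type*} [Field F] [Fintype F] {m : ℕ} (hF : Fintype.card F = 2 ^ (2 * m + 1))

theorem Ts_sq_eq_one_iff (a b : F) : Ts hF a b * Ts hF a b = 1 ↔ a = 0 := by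
  rw [Ts_mul_self, ← Ts_one hF]
  constructor
  · intro h
    exact sig_mul_self_eq_zero hF (Ts_inj hF h).2
  · rintro rfl
    simp

theorem sig_surjective : Function.Surjective (sig (two_eq_zero hF) m) :=
  Finite.injective_iff_surjective.mp (sig_injective hF)

/-- semilinearity on `Q / Z(Q)` -/
theorem semilinear (α : Cfsg.Sz F m ≃* Cfsg.Sz F m)
    (hQ : ∀ a b : F, ∃ a' b' : F, α (Ts hF a b) = Ts hF a' b')
    (hT : ∀ μ : Fˣ, ∃ ν : Fˣ, α (Hs hF μ) = Hs hF ν) :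
    ∃ (κ : F ≃+* F) (lam : F), lam ≠ 0 ∧ ∀ a b : F, ∃ b' : F, α (Ts hF a b) = Ts hF (lam * κ a) b' := by
  have h2 := two_eq_zero hF
  choose A₀ B₀ hAB using hQ
  choose ρ hρ using hT
  -- F1
  have hF1 : ∀ b : F, A₀ 0 b = 0 := by
    intro b
    have h1 : Ts hF 0 b * Ts hF 0 b = 1 := (Ts_sq_eq_one_iff hF 0 b).mpr rfl
    have h3 := congrArg α h1
    rw [map_mul, map_one, hAB] at h3
    exact (Ts_sq_eq_one_iff hF _ _).mp h3
  -- F2
  have hF2 : ∀ a b : F, A₀ a b = A₀ a 0 := by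
    intro a b
    have e1 : Ts hF a b = Ts hF a 0 * Ts hF 0 b := by
      rw [Ts_mul]; congr 1 <;> simp
    have h1 := congrArg α e1
    rw [map_mul, hAB, hAB, hAB, Ts_mul, hF1, add_zero] at h1
    exact (Ts_inj hF h1).1
  -- F3
  have hF3 : ∀ a a' : F, A₀ (a + a') 0 = A₀ a 0 + A₀ a' 0 := by
    intro a a'
    have e1 : Ts hF a 0 * Ts hF a' 0 = Ts hF (a + a') (sig h2 m a * a') := by
      rw [Ts_mul]; congr 1; simp
    have h1 := congrArg α e1
    rw [map_mul, hAB, hAB, hAB, Ts_mul, hF2 (a + a')] at h1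
    exact ((Ts_inj hF h1).1).symm
  have hA0 : A₀ 0 0 = 0 := hF1 0
  -- F4
  have hF4 : ∀ a : F, A₀ a 0 = 0 → a = 0 := by
    intro a ha
    have h1 : α (Ts hF a 0) * α (Ts hF a 0) = 1 := by
      rw [hAB, ha]
      exact (Ts_sq_eq_one_iff hF 0 _).mpr rfl
    rw [← map_mul, ← map_one α] at h1
    exact (Ts_sq_eq_one_iff hF a 0).mp (α.injective h1)
  -- F5
  have hF5 : ∀ (μ : Fˣ) (a : F), A₀ (sig h2 m (μ : F) * a) 0 =
      sig h2 m ((ρ μ : Fˣ) : F) * A₀ a 0 := by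
    intro μ a
    have h1 := congrArg α (Hs_mul_Ts hF μ a 0)
    rw [map_mul, map_mul, hρ, hAB, hAB, Hs_mul_Ts] at h1
    have h3 := (Ts_inj hF (mul_right_cancel h1)).1
    rw [hF2 (sig h2 m (μ : F) * a)] at h3
    exact h3.symm
  -- the scalar
  set lam := A₀ 1 0 with hlam
  have hlam0 : lam ≠ 0 := fun h => one_ne_zero (hF4 1 h)
  -- multiplicativity
  have hmulA : ∀ c a : F, A₀ (c * a) 0 * lam = A₀ c 0 * A₀ a 0 := by
    intro c a
    by_cases hc : c = 0
    · subst hc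
      rw [zero_mul, hA0, zero_mul, zero_mul]
    · obtain ⟨x, hx⟩ := sig_surjective hF c
      have hx0 : x ≠ 0 := by
        rintro rfl
        apply hc
        rw [← hx, map_zero]
      have e1 := hF5 (Units.mk0 x hx0) a
      have e2 := hF5 (Units.mk0 x hx0) 1
      simp only [Units.val_mk0, hx, mul_one] at e1 e2
      rw [e1, e2, ← hlam]
      ring
  let κ₀ : F →+* F :=
    { toFun := fun c => A₀ c 0 / lam
      map_one' := by
        show A₀ 1 0 / lam = 1
        rw [← hlam, div_self hlam0]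
      map_mul' := by
        intro c a
        show A₀ (c * a) 0 / lam = A₀ c 0 / lam * (A₀ a 0 / lam)
        have := hmulA c a
        rw [div_mul_div_comm, ← this, mul_div_mul_right _ _ hlam0]
      map_zero' := by
        show A₀ 0 0 / lam = 0
        rw [hA0, zero_div]
      map_add' := by
        intro c a
        show A₀ (c + a) 0 / lam = A₀ c 0 / lam + A₀ a 0 / lam
        rw [hF3, add_div] }
  have hbij : Function.Bijective κ₀ :=
    ⟨κ₀.injective, Finite.injective_iff_surjective.mp κ₀.injective⟩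
  refine ⟨RingEquiv.ofBijective κ₀ hbij, lam, hlam0, ?_⟩
  intro a b
  refine ⟨B₀ a b, ?_⟩
  rw [hAB, hF2]
  congr 1
  show A₀ a 0 = lam * (A₀ a 0 / lam)
  field_simp

end Cfsg.Agent.Lib.Helper18.SzSemilinear
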