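import Mathlib
import Cfsg.Agent.S2238
import Cfsg.Agent.Lib.Helper18.SzFixity
import Cfsg.Agent.Lib.Helper18.SzRigid
import Cfsg.Agent.Lib.Helper18.SzSemilinear
import Cfsg.Agent.Lib.Helper18.SzFieldAut
import Cfsg.Prelude.Def_KGroupFacts

/-!
The outer automorphism group of the Suzuki groups (ovoid model): normalisation of automorphisms
(helper18).
-/

set_option autoImplicit false

namespace Cfsg.Agent.Lib.Helper18.SzOut

open Cfsg.Agent.Lib.Helper15.SuzukiAlg Cfsg.Agent.Lib.Helper15.SuzukiOvoid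
  Cfsg.Agent.Lib.Helper15.SuzukiGroup Cfsg.Agent.Lib.Helper15.SuzukiOrder
  Cfsg.Agent.Lib.Helper15.SuzukiZassenhaus Cfsg.Agent.Lib.Helper15.SuzukiBorel
  Cfsg.Agent.Lib.Helper15.SuzukiElements
  Cfsg.Agent.Lib.Helper15.SuzukiFpf Cfsg.Agent.Lib.Helper15.SuzukiField
  Cfsg.Agent.Lib.Helper15.SuzukiTori Cfsg.Agent.S2410 Cfsg.Agent.S2247 Cfsg.Agent.S0331
  Cfsg.Agent.S2238 Cfsg.Agent.Lib.Helper18.SzFixity Cfsg.Agent.Lib.Helper18.SzRigid
  Cfsg.Agent.Lib.Helper18.SzSemilinear Cfsg.Agent.Lib.Helper18.SzFieldAut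
open MulAction

variable {F : Type*} [Field F] [Fintype F] {m : ℕ} (hF : Fintype.card F = 2 ^ (2 * m + 1))

include hF in
/-- N1: up to an inner automorphism, an automorphism normalises `Qz` -/
theorem exists_conj_Qz (hm : 1 ≤ m) (α : Cfsg.Sz F m ≃* Cfsg.Sz F m) :
    ∃ y : Cfsg.Sz F m, ∀ g, g ∈ Qz hF ↔ y * α g * y⁻¹ ∈ Qz hF := by
  have hcard : Nat.card ((Qz hF).map α.toMonoidHom) =
      2 ^ (Nat.card (Cfsg.Sz F m)).factorization 2 := by
    rw [Subgroup.card_map_of_injective α.injective]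
    exact card_Qz_eq hF hm
  obtain ⟨y, hy⟩ := exists_conj_sylow hF hm (Sylow.ofCard _ hcard)
  refine ⟨y, fun g => ?_⟩
  rw [← hy]
  show g ∈ Qz hF ↔ α g ∈ (Qz hF).map α.toMonoidHom
  constructor
  · intro hg
    exact ⟨g, hg, rfl⟩
  · rintro ⟨g', hg', h⟩
    have : g' = g := α.injective h
    rwa [← this]

/-- N2: an automorphism normalising `Qz` normalises the Borel subgroup -/
theorem map_mem_Bz (hm : 1 ≤ m) (α : Cfsg.Sz F m ≃* Cfsg.Sz F m)
    (hQ : ∀ g, g ∈ Qz hF ↔ α g ∈ Qz hF) {g : Cfsg.Sz F m} (hg : g ∈ Bz hF) : α g ∈ Bz hF := by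
  rw [← normalizer_Qz hm hF, Subgroup.mem_normalizer_iff] at hg ⊢
  intro h
  have e1 : α g * h * (α g)⁻¹ = α (g * α.symm h * g⁻¹) := by
    rw [map_mul, map_mul, map_inv, α.apply_symm_apply]
  rw [e1, ← hQ, ← hg, hQ (α.symm h), α.apply_symm_apply]

include hF in
/-- N3: up to conjugation by an element of `Qz`, the torus is mapped into itself -/
theorem exists_conj_torus (hm : 1 ≤ m) (α : Cfsg.Sz F m ≃* Cfsg.Sz F m)
    (hQ : ∀ g, g ∈ Qz hF ↔ α g ∈ Qz hF) :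
    ∃ u : Cfsg.Sz F m, u ∈ Qz hF ∧ ∀ μ : Fˣ, ∃ ν : Fˣ, u⁻¹ * α (Hs hF μ) * u = Hs hF ν := by
  obtain ⟨μ₀, hμ₀⟩ := IsCyclic.exists_generator (α := Fˣ)
  have hB := map_mem_Bz hF hm α hQ (Hs_mem_Bz hF μ₀)
  obtain ⟨c, d, μ', hcd⟩ := fix_inf hF hm (mem_stabilizer_iff.mp hB)
  have hμ' : μ' ≠ 1 := by
    rintro rfl
    rw [Hs_one, mul_one] at hcd
    have h1 : Hs hF μ₀ ∈ Qz hF := by
      rw [hQ, hcd]; exact Ts_mem_Qz hF c d
    obtain ⟨a, b, hab⟩ := (mem_Qz hF _).mp h1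
    have h3 := Hs_zero hF μ₀
    rw [hab, Ts_some] at h3
    have h4 := pt_inj hF h3
    simp only [Option.some.injEq, Prod.mk.injEq, zero_add, mul_zero, add_zero] at h4
    rw [h4.1, h4.2, Ts_one] at hab
    have hμ1 : μ₀ = 1 := by
      by_contra hne
      exact Hs_ne_one hF hne hab
    obtain ⟨t, ht0, ht1⟩ := exists_ne_zero_one hF hm
    have h5 := hμ₀ (Units.mk0 t ht0)
    rw [hμ1, Subgroup.zpowers_one_eq_bot, Subgroup.mem_bot] at h5
    apply ht1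
    have := congrArg (fun u : Fˣ => (u : F)) h5
    simpa using this
  obtain ⟨x, y, hxy⟩ := exists_second_fixed hF c d hμ'
  refine ⟨Ts hF x y, Ts_mem_Qz hF x y, ?_⟩
  have hu0 : Ts hF x y • pt hF (some (0, 0)) = pt hF (some (x, y)) := by
    rw [Ts_some]; simp
  have hw : ∃ ν₀ : Fˣ, (Ts hF x y)⁻¹ * α (Hs hF μ₀) * Ts hF x y = Hs hF ν₀ := by
    apply fix_standard hF hm
    · rw [mul_smul, mul_smul, Ts_inf, mem_stabilizer_iff.mp hB, inv_smul_eq_iff, Ts_inf]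
    · rw [mul_smul, mul_smul, hu0, hcd, hxy, inv_smul_eq_iff, hu0]
  obtain ⟨ν₀, hν₀⟩ := hw
  let Ψ : Fˣ →* Cfsg.Sz F m :=
    (MulAut.conj (Ts hF x y)⁻¹).toMonoidHom.comp (α.toMonoidHom.comp (HsHom hF))
  have hΨ : ∀ μ : Fˣ, Ψ μ = (Ts hF x y)⁻¹ * α (Hs hF μ) * Ts hF x y := by
    intro μ
    simp [Ψ, HsHom]
  intro μ
  obtain ⟨k, rfl⟩ := Subgroup.mem_zpowers_iff.mp (hμ₀ μ)
  refine ⟨ν₀ ^ k, ?_⟩
  rw [← hΨ, map_zpow, hΨ, hν₀]
  show HsHom hF ν₀ ^ k = HsHom hF (ν₀ ^ k)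
  rw [map_zpow]

include hF in
/-- every automorphism is a field automorphism followed by an inner automorphism -/
theorem aut_decomp (hm : 1 ≤ m) (α : Cfsg.Sz F m ≃* Cfsg.Sz F m) :
    ∃ (κ : F ≃+* F) (c : Cfsg.Sz F m), ∀ g, α g = c * fieldAut hF κ g * c⁻¹ := by
  have h2 := two_eq_zero hF
  obtain ⟨y, hy⟩ := exists_conj_Qz hF hm α
  let α₁ : Cfsg.Sz F m ≃* Cfsg.Sz F m := α.trans (MulAut.conj y)
  have hα₁ : ∀ g, α₁ g = y * α g * y⁻¹ := fun g => rfl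
  have hQ₁ : ∀ g, g ∈ Qz hF ↔ α₁ g ∈ Qz hF := hy
  obtain ⟨u, huQ, hu⟩ := exists_conj_torus hF hm α₁ hQ₁
  let α₂ : Cfsg.Sz F m ≃* Cfsg.Sz F m := α₁.trans (MulAut.conj u⁻¹)
  have hα₂ : ∀ g, α₂ g = u⁻¹ * α₁ g * u := fun g => by
    show u⁻¹ * α₁ g * u⁻¹⁻¹ = _
    rw [inv_inv]
  have hQ₂ : ∀ a b : F, ∃ a' b' : F, α₂ (Ts hF a b) = Ts hF a' b' := by
    intro a b
    have h1 : α₂ (Ts hF a b) ∈ Qz hF := by
      rw [hα₂]
      exact (Qz hF).mul_mem ((Qz hF).mul_mem ((Qz hF).inv_mem huQ)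
        ((hQ₁ _).mp (Ts_mem_Qz hF a b))) huQ
    exact (mem_Qz hF _).mp h1
  have hT₂ : ∀ μ : Fˣ, ∃ ν : Fˣ, α₂ (Hs hF μ) = Hs hF ν := by
    intro μ
    obtain ⟨ν, hν⟩ := hu μ
    exact ⟨ν, by rw [hα₂, hν]⟩
  obtain ⟨κ, lam, hlam, hsl⟩ := semilinear hF α₂ hQ₂ hT₂
  obtain ⟨x, hx⟩ := sig_surjective hF lam
  have hx0 : x ≠ 0 := by
    rintro rfl
    apply hlam
    rw [← hx, map_zero]
  set ν₁ : Fˣ := Units.mk0 x hx0 with hν₁
  have hν₁x : ((ν₁ : Fˣ) : F) = x := rfl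
  set w : F := x ^ 2 * sig h2 m x with hw
  have hw0 : w ≠ 0 := by
    rw [hw, hx]
    exact mul_ne_zero (pow_ne_zero _ hx0) hlam
  let δ : Cfsg.Sz F m ≃* Cfsg.Sz F m := (fieldAut hF κ).trans (MulAut.conj (Hs hF ν₁))
  have hδ : ∀ g, δ g = Hs hF ν₁ * fieldAut hF κ g * (Hs hF ν₁)⁻¹ := fun g => rfl
  have hδT : ∀ a b : F, δ (Ts hF a b) = Ts hF (lam * κ a) (w * κ b) := by
    intro a b
    rw [hδ, fieldAut_Ts, Hs_mul_Ts, mul_assoc, mul_inv_cancel, mul_one, hν₁x, hx, hw, hx]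
  have hδH : ∀ μ : Fˣ, δ (Hs hF μ) = Hs hF (Units.map (κ : F →* F) μ) := by
    intro μ
    rw [hδ, fieldAut_Hs, Hs_inv, Hs_mul, Hs_mul, mul_comm ν₁, mul_assoc, mul_inv_cancel, mul_one]
  let γ : Cfsg.Sz F m ≃* Cfsg.Sz F m := α₂.trans δ.symm
  have hγ : ∀ g, γ g = δ.symm (α₂ g) := fun g => rfl
  have hi : ∀ a b : F, ∃ b' : F, γ (Ts hF a b) = Ts hF a b' := by
    intro a b
    obtain ⟨b', hb'⟩ := hsl a b
    refine ⟨κ.symm (b' / w), ?_⟩
    rw [hγ, hb', MulEquiv.symm_apply_eq, hδT, RingEquiv.apply_symm_apply, mul_div_cancel₀ _ hw0]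
  have hii : ∀ μ : Fˣ, ∃ ν : Fˣ, γ (Hs hF μ) = Hs hF ν := by
    intro μ
    obtain ⟨ν, hν⟩ := hT₂ μ
    refine ⟨Units.map (κ.symm : F →* F) ν, ?_⟩
    rw [hγ, hν, MulEquiv.symm_apply_eq, hδH]
    congr 1
    apply Units.ext
    simp
  have hrig := rigid hF hm γ hi hii
  have hαδ : ∀ g, α₂ g = δ g := by
    intro g
    have := hrig g
    rw [hγ, MulEquiv.symm_apply_eq] at this
    exact this
  refine ⟨κ, y⁻¹ * u * Hs hF ν₁, ?_⟩
  intro g
  have h1 := hαδ g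
  rw [hα₂, hα₁, hδ] at h1
  have e1 : α g = y⁻¹ * u * (u⁻¹ * (y * α g * y⁻¹) * u) * u⁻¹ * y := by group
  rw [e1, h1]
  group

include hF in
/-- distinct field automorphisms differ modulo inner automorphisms -/
theorem fieldAut_inj (hm : 1 ≤ m) (κ κ' : F ≃+* F) (g₁ : Cfsg.Sz F m)
    (h : ∀ x, fieldAut hF κ' x = g₁ * fieldAut hF κ x * g₁⁻¹) : κ' = κ := by
  have h2 := two_eq_zero hF
  -- `g₁` fixes the point at infinity
  have h1 := h (Ts hF 1 0)
  rw [fieldAut_Ts, fieldAut_Ts, map_one, map_one, map_zero, map_zero] at h1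
  have hinf : g₁ • pt hF none = pt hF none := by
    apply Ts_fix_only hF (a := 1) (b := 0) (by simp)
    have e1 : Ts hF 1 0 * g₁ = g₁ * Ts hF 1 0 := by
      conv_lhs => rw [h1]
      group
    rw [← mul_smul, e1, mul_smul, Ts_inf]
  -- `g₁` fixes the point zero
  obtain ⟨t, ht0, ht1⟩ := exists_ne_zero_one hF hm
  have hμ1 : Units.map (κ' : F →* F) (Units.mk0 t ht0) ≠ 1 := by
    intro h3
    apply ht1
    have h4 := congrArg (fun u : Fˣ => (u : F)) h3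
    simp only [Units.coe_map, Units.val_mk0, Units.val_one] at h4
    have : κ' t = κ' 1 := by rw [map_one]; exact h4
    exact κ'.injective this
  have h3 := h (Hs hF (Units.mk0 t ht0))
  rw [fieldAut_Hs, fieldAut_Hs] at h3
  have hzero : g₁ • pt hF (some (0, 0)) = pt hF (some (0, 0)) := by
    have e1 : Hs hF (Units.map (κ' : F →* F) (Units.mk0 t ht0)) * g₁ =
        g₁ * Hs hF (Units.map (κ : F →* F) (Units.mk0 t ht0)) := by
      rw [h3]; group
    have hfix : Hs hF (Units.map (κ' : F →* F) (Units.mk0 t ht0)) • (g₁ • pt hF (some (0, 0))) =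
        g₁ • pt hF (some (0, 0)) := by
      rw [← mul_smul, e1, mul_smul, Hs_zero]
    rcases Hs_fix hF hm hμ1 hfix with h4 | h4
    · exfalso
      rw [← hinf] at h4
      exact pt_none_ne_zero hF (MulAction.injective g₁ h4).symm
    · exact h4
  obtain ⟨ν, rfl⟩ := fix_standard hF hm hinf hzero
  -- compare on `Q / Z(Q)`
  have hκ : ∀ a : F, κ' a = sig h2 m (ν : F) * κ a := by
    intro a
    have h4 := h (Ts hF a 0)
    rw [fieldAut_Ts, fieldAut_Ts, Hs_mul_Ts, mul_assoc, mul_inv_cancel, mul_one] at h4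
    exact (Ts_inj hF h4).1
  have hν : sig h2 m (ν : F) = 1 := by
    have := hκ 1
    rw [map_one, map_one, mul_one] at this
    exact this.symm
  ext a
  rw [hκ a, hν, one_mul]

/-- a field with `2 ^ k` elements has `k` automorphisms -/
theorem card_ringEquiv_two_pow {K : Type*} [Field K] [Finite K] (h2 : (2 : K) = 0) {k : ℕ}
    (hK : Nat.card K = 2 ^ k) : Nat.card (K ≃+* K) = k := by
  have : CharP K 2 := CharTwo.of_one_ne_zero_of_two_eq_zero one_ne_zero h2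
  let _ : Algebra (ZMod 2) K := ZMod.algebra K 2
  let _ : Fintype K := Fintype.ofFinite K
  have hfin : Module.finrank (ZMod 2) K = k := by
    have h3 := Module.card_eq_pow_finrank (K := ZMod 2) (V := K)
    rw [← Nat.card_eq_fintype_card, hK, ZMod.card] at h3
    exact (Nat.pow_right_injective (le_refl 2) h3).symm
  have e1 : (K ≃+* K) ≃ (K ≃ₐ[ZMod 2] K) :=
    { toFun := fun ψ => AlgEquiv.ofRingEquiv (f := ψ) (fun r => by
        have : (ψ : K →+* K).comp (algebraMap (ZMod 2) K) = algebraMap (ZMod 2) K :=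
          Subsingleton.elim _ _
        exact RingHom.congr_fun this r)
      invFun := fun ψ => ψ.toRingEquiv
      left_inv := fun ψ => by ext; rfl
      right_inv := fun ψ => by ext; rfl }
  rw [Nat.card_congr e1, ← Nat.card_congr (Equiv.ofBijective _
    (FiniteField.bijective_frobeniusAlgEquivOfAlgebraic_pow (ZMod 2) K)), Nat.card_fin, hfin]

/-- the outer automorphism groups of isomorphic groups have the same order -/
theorem card_out_congr {G H : Type*} [Group G] [Group H] (e : G ≃* H) :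
    Nat.card (Cfsg.Out G) = Nat.card (Cfsg.Out H) := by
  have hmap : (Cfsg.Inn G).map (MulAut.congr e).toMonoidHom = Cfsg.Inn H := by
    ext φ
    constructor
    · rintro ⟨_, ⟨g, rfl⟩, rfl⟩
      refine ⟨e g, ?_⟩
      ext x
      simp [MulAut.congr, MulAut.conj_apply]
    · rintro ⟨h, rfl⟩
      refine ⟨MulAut.conj (e.symm h), ⟨e.symm h, rfl⟩, ?_⟩
      ext x
      simp [MulAut.congr, MulAut.conj_apply]
  exact Nat.card_congr (QuotientGroup.congr (Cfsg.Inn G) (Cfsg.Inn H) (MulAut.congr e) hmap).toEquiv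

include hF in
/-- **The outer automorphism group of the Suzuki group** (ovoid model) has order `2 m + 1`. -/
theorem card_out (hm : 1 ≤ m) : Nat.card (Cfsg.Out (Cfsg.Sz F m)) = 2 * m + 1 := by
  have h2 := two_eq_zero hF
  let Φ : (F ≃+* F) → Cfsg.Out (Cfsg.Sz F m) :=
    fun κ => QuotientGroup.mk (fieldAut hF κ : MulAut (Cfsg.Sz F m))
  have hinj : Function.Injective Φ := by
    intro κ κ' hκ
    have h1 : (fieldAut hF κ : MulAut (Cfsg.Sz F m))⁻¹ * fieldAut hF κ' ∈ Cfsg.Inn (Cfsg.Sz F m) :=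
      QuotientGroup.eq.mp hκ
    obtain ⟨g₀, hg₀⟩ := h1
    have h3 : ∀ x, fieldAut hF κ' x =
        fieldAut hF κ g₀ * fieldAut hF κ x * (fieldAut hF κ g₀)⁻¹ := by
      intro x
      have h4 := congrArg (fun φ : MulAut (Cfsg.Sz F m) => φ x) hg₀
      simp only [MulAut.conj_apply, MulAut.mul_apply, MulAut.inv_apply] at h4
      have h5 := congrArg (fieldAut hF κ) h4
      rw [MulEquiv.apply_symm_apply] at h5
      rw [← h5, map_mul, map_mul, map_inv]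
    exact (fieldAut_inj hF hm κ κ' _ h3).symm
  have hsurj : Function.Surjective Φ := by
    intro o
    obtain ⟨α, rfl⟩ := QuotientGroup.mk_surjective o
    obtain ⟨κ, c, hc⟩ := aut_decomp hF hm α
    refine ⟨κ, ?_⟩
    have hα : α = MulAut.conj c * (fieldAut hF κ : MulAut (Cfsg.Sz F m)) := by
      ext x
      rw [hc x]
      simp [MulAut.conj_apply, MulAut.mul_apply]
    show QuotientGroup.mk (fieldAut hF κ : MulAut (Cfsg.Sz F m)) = QuotientGroup.mk α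
    rw [hα, QuotientGroup.mk_mul]
    have : (QuotientGroup.mk (MulAut.conj c) : Cfsg.Out (Cfsg.Sz F m)) = 1 :=
      (QuotientGroup.eq_one_iff _).mpr ⟨c, rfl⟩
    rw [this, one_mul]
  rw [← Nat.card_congr (Equiv.ofBijective Φ ⟨hinj, hsurj⟩)]
  exact card_ringEquiv_two_pow h2 (by rw [Nat.card_eq_fintype_card, hF])

end Cfsg.Agent.Lib.Helper18.SzOut
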