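import Mathlib
import Cfsg.Prelude.Def_ClassicalGeometry
import Cfsg.Prelude.Def_GeometricClasses
import Cfsg.Agent.Lib.Helper2.SOTDefs
import Cfsg.Agent.Lib.Helper2.SOTGDefs
import Cfsg.Agent.Lib.Helper27.SOTLADefs
import Cfsg.Agent.Lib.Helper18.SOTLAA2

/-!
S5666 part (LA), block A leaves A9 (helper27's sub-market): `siegel_orth`, `siegel_mul_neg`,
`siegel_sub_one_sq`.  By-products: `siegel_mulVec`, `siegel_sub_one_mulVec`.
-/

set_option autoImplicit false
set_option linter.unusedSectionVars false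
set_option linter.unusedVariables false

namespace Cfsg.Agent.Lib.Helper18.SOTLALeaf
open Matrix
open Cfsg.Agent.Lib.Helper25.Tens Cfsg.Agent.Lib.Helper25.SpT Cfsg.Agent.Lib.Helper19.OSub
open Cfsg.Agent.Lib.Helper2.SOT Cfsg.Agent.Lib.Helper27.SOTLA
open scoped Kronecker

variable {F : Type*} [Field F] [Fintype F] {a b : ℕ} {G : Matrix (Fin b) (Fin b) F}
  {M : Subgroup (GL (Idx a b) F)}

/-- the action of the Siegel element -/
lemma siegel_mulVec (z v y : Fin b → F) :
    siegel G z v *ᵥ y =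
      y + fB G y z • v - fB G y v • z - (fB G v v / 2 * fB G y z) • z := by
  unfold siegel
  rw [Matrix.sub_mulVec, Matrix.sub_mulVec, Matrix.add_mulVec, Matrix.one_mulVec,
    Matrix.smul_mulVec, rk1_mulVec, rk1_mulVec, rk1_mulVec, smul_smul]

lemma siegel_sub_one_mulVec (z v y : Fin b → F) :
    (siegel G z v - 1) *ᵥ y =
      fB G y z • v - fB G y v • z - (fB G v v / 2 * fB G y z) • z := by
  rw [Matrix.sub_mulVec, Matrix.one_mulVec, siegel_mulVec]
  abel

/-- (A9a) the Siegel element is an isometry. -/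
theorem siegel_orth (hG : Gᵀ = G) (h2 : (2 : F) ≠ 0) {z v : Fin b → F} (hz : fB G z z = 0)
    (hzv : fB G z v = 0) : IsOrthB G (siegel G z v) := by
  apply isOrthB_of_forall
  intro y y'
  have hvz : fB G v z = 0 := by rw [fB_comm G hG, hzv]
  rw [siegel_mulVec, siegel_mulVec]
  simp only [fB_add_left, fB_add_right, fB_sub_left', fB_sub_right', fB_smul_left, fB_smul_right,
    hz, hzv, hvz, fB_comm G hG z y', fB_comm G hG v y']
  field_simp
  ring

/-- (A9b) `siegel G z v * siegel G z (-v) = 1`. -/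
theorem siegel_mul_neg (hG : Gᵀ = G) (h2 : (2 : F) ≠ 0) {z v : Fin b → F} (hz : fB G z z = 0)
    (hzv : fB G z v = 0) : siegel G z v * siegel G z (-v) = 1 := by
  apply mat_ext_mulVec
  intro y
  have hvz : fB G v z = 0 := by rw [fB_comm G hG, hzv]
  rw [← Matrix.mulVec_mulVec, Matrix.one_mulVec, siegel_mulVec z v, siegel_mulVec z (-v)]
  simp only [fB_add_left, fB_sub_left', fB_smul_left,
    fB_neg_left', fB_neg_right', hz, hzv, hvz, neg_neg, smul_neg, neg_smul]
  have e : fB G v v = fB G v v / 2 + fB G v v / 2 := by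
    field_simp
    ring
  generalize fB G v v / 2 = k at e ⊢
  rw [e]
  module

/-- (A9c) `(η - 1)² = -Q(v) z z^♭`. -/
theorem siegel_sub_one_sq (hG : Gᵀ = G) (h2 : (2 : F) ≠ 0) {z v : Fin b → F} (hz : fB G z z = 0)
    (hzv : fB G z v = 0) :
    (siegel G z v - 1) * (siegel G z v - 1) = -(fB G v v) • rk1 G z z := by
  apply mat_ext_mulVec
  intro y
  have hvz : fB G v z = 0 := by rw [fB_comm G hG, hzv]
  rw [← Matrix.mulVec_mulVec, siegel_sub_one_mulVec z v y, siegel_sub_one_mulVec,
    Matrix.smul_mulVec, rk1_mulVec]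
  simp only [fB_sub_left', fB_smul_left, hz, hzv, hvz]
  module

end Cfsg.Agent.Lib.Helper18.SOTLALeaf
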