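import Mathlib
import Cfsg.Agent.Lib.Helper2.SOTDefs
import Cfsg.Agent.Lib.Helper28.SOTBDefs
import Cfsg.Agent.Lib.Helper9.SpTNU
import Cfsg.Agent.Lib.Helper25.TensS
import Cfsg.Agent.Lib.Helper9.SpTNIso

/-!
S5666 part (B) leaves (helper28's sub-market): (ISO) `iso_blocks` and (SP) `stab_perp`
(exact signatures of `notes/S5666_B_leaves.lean`).  By-products: `fV_sum_left`, `fV_sum_right`.
-/

set_option autoImplicit false
set_option linter.unusedSectionVars false
set_option linter.unusedVariables false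

namespace Cfsg.Agent.Lib.Helper18.SOTBLeaf
open Matrix
open Cfsg.Agent.Lib.Helper25.Tens Cfsg.Agent.Lib.Helper25.TensLeaves Cfsg.Agent.Lib.Helper25.SpT
open Cfsg.Agent.Lib.Helper19.OSub
open Cfsg.Agent.Lib.Helper2.SOT Cfsg.Agent.Lib.Helper28.SOTB
open scoped Kronecker

variable {F : Type*} [Field F] [Fintype F] {b : ℕ} {G : Matrix (Fin b) (Fin b) F}
  {M : Subgroup (GL (Idx 2 b) F)} {o o' : Fin b}

lemma fV_sum_left {a : ℕ} {κ : Type*} (s : Finset κ) (u : κ → (Idx a b → F)) (w : Idx a b → F) :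
    fV G (∑ p ∈ s, u p) w = ∑ p ∈ s, fV G (u p) w := by
  classical
  induction s using Finset.induction_on with
  | empty => simp [fV]
  | insert p s hp ih => rw [Finset.sum_insert hp, Finset.sum_insert hp, fV_add_left, ih]

lemma fV_sum_right {a : ℕ} {κ : Type*} (s : Finset κ) (u : Idx a b → F) (w : κ → (Idx a b → F)) :
    fV G u (∑ p ∈ s, w p) = ∑ p ∈ s, fV G u (w p) := by
  classical
  induction s using Finset.induction_on with
  | empty => simp [fV]
  | insert p s hp ih => rw [Finset.sum_insert hp, Finset.sum_insert hp, fV_add_right, ih]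

/-- (ISO) the isometry relations in blocks -/
theorem iso_blocks {a : ℕ} (g : GL (Idx a b) F) (hg : g ∈ SpV G) (k l : Fin b) (x x' : Fin a → F) :
    ∑ p : Fin b, ∑ q : Fin b, sf (blk g.1 p k *ᵥ x) (blk g.1 q l *ᵥ x') * G p q = sf x x' * G k l := by
  have h1 := (mem_SpV.mp hg) (pt x (Pi.single k (1 : F))) (pt x' (Pi.single l (1 : F)))
  rw [fV_pt, Cfsg.Agent.Lib.Helper11.SOTLeaf.fB_single_single] at h1
  rw [← h1]
  change _ = fV G (g.1 *ᵥ pt x (Pi.single k (1 : F))) (g.1 *ᵥ pt x' (Pi.single l (1 : F)))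
  rw [Cfsg.Agent.Lib.Helper9.SpTNLeaf.mulVec_pt_single_eq_sum,
    Cfsg.Agent.Lib.Helper9.SpTNLeaf.mulVec_pt_single_eq_sum, fV_sum_left]
  apply Finset.sum_congr rfl
  intro p _
  rw [fV_sum_right]
  apply Finset.sum_congr rfl
  intro q _
  rw [fV_pt, Cfsg.Agent.Lib.Helper11.SOTLeaf.fB_single_single]

/-- (SP) an isometry stabilising `W = A ⊗ e_o` stabilises `W^⊥` -/
theorem stab_perp {a : ℕ} (ea : Even a) (hN : NormG G o o') (g : GL (Idx a b) F) (hg : g ∈ SpV G)
    (h₁ : GL (Fin a) F)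
    (hgo : ∀ x : Fin a → F, mv g (pt x (Pi.single o 1)) = pt (h₁.1 *ᵥ x) (Pi.single o 1)) :
    (∀ l : Fin b, l ≠ o' → blk g.1 o' l = 0) ∧
    (∀ x x' : Fin a → F, sf (h₁.1 *ᵥ x) (blk g.1 o' o' *ᵥ x') = sf x x') := by
  have hb := Cfsg.Agent.Lib.Helper25.TensLeaf.blk_of_stab g.1 h₁.1 o hgo
  have hJoo' : G o o' = 1 := by rw [hN.row, if_pos rfl]
  have hJo : ∀ q : Fin b, q ≠ o' → G o q = 0 := by
    intro q hq
    rw [hN.row, if_neg hq]
  -- the relation
  have key : ∀ (l : Fin b) (x x' : Fin a → F),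
      sf (h₁.1 *ᵥ x) (blk g.1 o' l *ᵥ x') = sf x x' * G o l := by
    intro l x x'
    have h1 := iso_blocks g hg o l x x'
    rw [Cfsg.Agent.Lib.Helper9.SpTNLeaf.sum_eq_one' _ o,
      Cfsg.Agent.Lib.Helper9.SpTNLeaf.sum_eq_one' _ o', hb o, if_pos rfl, hJoo', mul_one] at h1
    · exact h1
    · intro q hq
      rw [hJo q hq, mul_zero]
    · intro p hp
      apply Finset.sum_eq_zero
      intro q _
      rw [hb p, if_neg hp, Matrix.zero_mulVec, sf_zero_left, zero_mul]
  refine ⟨?_, ?_⟩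
  · intro l hl
    have hz : ∀ x' : Fin a → F, blk g.1 o' l *ᵥ x' = 0 := by
      intro x'
      by_contra hne
      obtain ⟨y, hy⟩ := exists_sf_ne_zero ea hne
      apply hy
      have h2 := key l ((h₁⁻¹).1 *ᵥ y) x'
      rw [hJo l hl, mul_zero, Matrix.mulVec_mulVec, ← Units.val_mul, mul_inv_cancel,
        Units.val_one, Matrix.one_mulVec] at h2
      rw [sf_skew, h2, neg_zero]
    ext i i'
    have := congrFun (hz (Pi.single i' 1)) i
    simpa using this
  · intro x x'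
    rw [key o' x x', hJoo', mul_one]

end Cfsg.Agent.Lib.Helper18.SOTBLeaf
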