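import Mathlib
import Cfsg.Agent.Lib.Helper2.SOTDefs
import Cfsg.Agent.Lib.Helper28.SOTBDefs
import Cfsg.Agent.Lib.Helper9.SpTNU
import Cfsg.Agent.Lib.Helper25.TensS
import Cfsg.Agent.Lib.Helper25.SpTK
import Cfsg.Agent.Lib.Helper1.SpTNTools
import Cfsg.Agent.Lib.Helper1.SpTND
import Cfsg.Agent.Lib.Helper18.SOTBISO
import Cfsg.Agent.Lib.Helper18.SOTLAA1

/-!
S5666 part (B) leaf (helper28's sub-market): (K0) `exists_k0` (exact signature of
`notes/S5666_B_leaves.lean`).  By-product: `fB_mulVec_of_basis` (a similitude relation on the standard basis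
extends to all vectors).
-/

set_option autoImplicit false
set_option linter.unusedSectionVars false
set_option linter.unusedVariables false

namespace Cfsg.Agent.Lib.Helper18.SOTBLeaf
open Matrix
open Cfsg.Agent.Lib.Helper25.Tens Cfsg.Agent.Lib.Helper25.TensLeaves Cfsg.Agent.Lib.Helper25.SpT
open Cfsg.Agent.Lib.Helper19.OSub
open Cfsg.Agent.Lib.Helper2.SOT Cfsg.Agent.Lib.Helper28.SOTB
open Cfsg.Agent.Lib.Helper1 Cfsg.Agent.Lib.Helper1.SpTNLeaf
open scoped Kronecker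

variable {F : Type*} [Field F] [Fintype F] {b : ℕ} {G : Matrix (Fin b) (Fin b) F}
  {M : Subgroup (GL (Idx 2 b) F)} {o o' : Fin b}

/-- a similitude relation on the standard basis extends to all vectors -/
lemma fB_mulVec_of_basis (B : Matrix (Fin b) (Fin b) F) (ν : F)
    (hB : ∀ k l : Fin b, fB G (B *ᵥ Pi.single k (1 : F)) (B *ᵥ Pi.single l (1 : F)) = ν * G k l)
    (y y' : Fin b → F) : fB G (B *ᵥ y) (B *ᵥ y') = ν * fB G y y' := by
  have key : ∀ y y' : Fin b → F, fB G (B *ᵥ y) (B *ᵥ y') = y ⬝ᵥ ((Bᵀ * G * B) *ᵥ y') := by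
    intro y y'
    unfold fB
    rw [Matrix.mulVec_mulVec, Matrix.dotProduct_mulVec, Matrix.vecMul_mulVec,
      ← Matrix.dotProduct_mulVec, Matrix.mul_assoc]
  have hN : Bᵀ * G * B = ν • G := by
    ext k l
    have e := hB k l
    rw [key] at e
    simp only [Matrix.mulVec_single_one, single_one_dotProduct] at e
    rw [Matrix.smul_apply, smul_eq_mul, ← e]
    rfl
  rw [key, hN, Matrix.smul_mulVec, dotProduct_smul, smul_eq_mul]
  rfl

/-- (K0) construction of `k₀ = h₁⁻¹ ⊗ β₀` -/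
theorem exists_k0 (h : Ctx 2 b G) (hN : NormG G o o') (g : GL (Idx 2 b) F) (hg : g ∈ SpV G)
    (h₁ : GL (Fin 2) F)
    (hgo : ∀ x : Fin 2 → F, mv g (pt x (Pi.single o 1)) = pt (h₁.1 *ᵥ x) (Pi.single o 1))
    (hgo' : ∀ x : Fin 2 → F, mv g⁻¹ (pt x (Pi.single o 1)) = pt ((h₁⁻¹).1 *ᵥ x) (Pi.single o 1))
    (hsc : ∀ k q : Fin b, k ≠ o → k ≠ o' → q ≠ o → q ≠ o' →
      IsScalarMat (h₁.1 * blk (g⁻¹).1 k q)) :
    ∃ β₀ : GL (Fin b) F, (kel h₁⁻¹ β₀ : GL (Idx 2 b) F) ∈ SpV G ∧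
      UF o o' (g * kel h₁⁻¹ β₀ : GL (Idx 2 b) F).1 := by
  classical
  have hoo' := hN.ne
  have hG := h.symm
  have hgi : g⁻¹ ∈ SpV G := (SpV G).inv_mem hg
  obtain ⟨H, hH⟩ : ∃ H, H = g.1 := ⟨_, rfl⟩
  obtain ⟨Hi, hHi⟩ : ∃ H, H = (g⁻¹).1 := ⟨_, rfl⟩
  obtain ⟨A, hA⟩ : ∃ A, A = h₁.1 := ⟨_, rfl⟩
  obtain ⟨Ai, hAi⟩ : ∃ A, A = (h₁⁻¹).1 := ⟨_, rfl⟩
  have hAAi : A * Ai = 1 := by rw [hA, hAi, ← Units.val_mul, mul_inv_cancel, Units.val_one]
  have hAiA : Ai * A = 1 := by rw [hA, hAi, ← Units.val_mul, inv_mul_cancel, Units.val_one]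
  have hHHi : H * Hi = 1 := by rw [hH, hHi, ← Units.val_mul, mul_inv_cancel, Units.val_one]
  have hgo1 : ∀ x : Fin 2 → F, H *ᵥ pt x (Pi.single o 1) = pt (A *ᵥ x) (Pi.single o 1) := by
    intro x; rw [hH, hA]; exact hgo x
  have hgo2 : ∀ x : Fin 2 → F, Hi *ᵥ pt x (Pi.single o 1) = pt (Ai *ᵥ x) (Pi.single o 1) := by
    intro x; rw [hHi, hAi]; exact hgo' x
  -- block facts
  have F1 : ∀ p, blk H p o = if p = o then A else 0 :=
    Cfsg.Agent.Lib.Helper25.TensLeaf.blk_of_stab H A o hgo1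
  have F2 : ∀ p, blk Hi p o = if p = o then Ai else 0 :=
    Cfsg.Agent.Lib.Helper25.TensLeaf.blk_of_stab Hi Ai o hgo2
  obtain ⟨P1', -⟩ := stab_perp h.ea hN g hg h₁ hgo
  obtain ⟨P2', Q2'⟩ := stab_perp h.ea hN g⁻¹ hgi h₁⁻¹ hgo'
  have P1 : ∀ l, l ≠ o' → blk H o' l = 0 := by
    intro l hl; rw [hH]; exact P1' l hl
  have P2 : ∀ l, l ≠ o' → blk Hi o' l = 0 := by
    intro l hl; rw [hHi]; exact P2' l hl
  -- the multiplier
  obtain ⟨μ, hμdef⟩ : ∃ μ : F, μ = Ai.det := ⟨_, rfl⟩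
  have hμ : μ ≠ 0 := by
    rw [hμdef]
    intro e
    have := congrArg Matrix.det hAiA
    rw [Matrix.det_mul, e, zero_mul, Matrix.det_one] at this
    exact zero_ne_one this
  have hα : ∀ x x' : Fin 2 → F, sf (Ai *ᵥ x) (Ai *ᵥ x') = μ * sf x x' := by
    intro x x'
    rw [hμdef]
    exact sf_mulVec_two Ai x x'
  -- the coefficients
  obtain ⟨Λ, hΛ⟩ : ∃ Λ : Matrix (Fin b) (Fin b) F, Λ = fun k q =>
      if hk : k ≠ o ∧ k ≠ o' ∧ q ≠ o ∧ q ≠ o' then
        Classical.choose (hsc k q hk.1 hk.2.1 hk.2.2.1 hk.2.2.2) else 0 := ⟨_, rfl⟩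
  have Λ0 : ∀ k q, (k = o ∨ k = o' ∨ q = o ∨ q = o') → Λ k q = 0 := by
    intro k q hkq
    rw [hΛ]
    have : ¬ (k ≠ o ∧ k ≠ o' ∧ q ≠ o ∧ q ≠ o') := by
      rintro ⟨h1, h2, h3, h4⟩
      rcases hkq with e | e | e | e
      · exact h1 e
      · exact h2 e
      · exact h3 e
      · exact h4 e
    simp only [dif_neg this]
  have F4 : ∀ k q, k ≠ o → k ≠ o' → q ≠ o' → blk Hi k q = Λ k q • Ai := by
    intro k q hk hk' hq'
    by_cases hq : q = o
    · rw [hq, F2, if_neg hk, Λ0 k o (Or.inr (Or.inr (Or.inl rfl))), zero_smul]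
    · have hcond : k ≠ o ∧ k ≠ o' ∧ q ≠ o ∧ q ≠ o' := ⟨hk, hk', hq, hq'⟩
      have e := Classical.choose_spec (hsc k q hk hk' hq hq')
      have e2 : Λ k q = Classical.choose (hsc k q hk hk' hq hq') := by
        rw [hΛ]
        simp only [dif_pos hcond]
      rw [← e2, ← hA, ← hHi] at e
      calc blk Hi k q = Ai * (A * blk Hi k q) := by rw [← Matrix.mul_assoc, hAiA, Matrix.one_mul]
        _ = Λ k q • Ai := by rw [e, Matrix.mul_smul, Matrix.mul_one]
  -- the columns of `g⁻¹`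
  have hcol : ∀ k, k ≠ o → k ≠ o' → ∀ x : Fin 2 → F,
      mv g⁻¹ (pt x (Pi.single k 1)) =
        pt (blk Hi o k *ᵥ x) (Pi.single o 1) + pt (Ai *ᵥ x) (fun p => Λ p k) := by
    intro k hk hk' x
    apply ext_comp
    intro p
    unfold mv
    rw [comp_mulVec_pt, ← hHi, comp_add, comp_pt_single, comp_pt]
    by_cases hp : p = o
    · rw [hp, if_pos rfl, Λ0 o k (Or.inl rfl), zero_smul, add_zero]
    · rw [if_neg hp, zero_add]
      by_cases hp' : p = o'
      · rw [hp', P2 k hk', Λ0 o' k (Or.inr (Or.inl rfl)), zero_smul, Matrix.zero_mulVec]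
      · rw [F4 p k hp hp' hk', Matrix.smul_mulVec]
  have hcolo : ∀ l, fB G (Pi.single o (1 : F)) (fun p => Λ p l) = 0 := by
    intro l
    rw [fB_single_left, hN.mulVec_o]
    exact Λ0 o' l (Or.inr (Or.inl rfl))
  have hcolo' : ∀ l, fB G (Pi.single o' (1 : F)) (fun p => Λ p l) = 0 := by
    intro l
    rw [fB_single_left, hN.mulVec_o']
    exact Λ0 o l (Or.inl rfl)
  have hcolo2 : ∀ l, fB G (fun p => Λ p l) (Pi.single o (1 : F)) = 0 := by
    intro l
    rw [fB_comm G hG, hcolo]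
  have hcolo2' : ∀ l, fB G (fun p => Λ p l) (Pi.single o' (1 : F)) = 0 := by
    intro l
    rw [fB_comm G hG, hcolo']
  have hoo : fB G (Pi.single o (1 : F)) (Pi.single o 1) = 0 := hN.fB_oo hG
  -- (∗)
  obtain ⟨x₀, x₀', hx₀⟩ : ∃ x₀ x₀' : Fin 2 → F, sf x₀ x₀' ≠ 0 := by
    refine ⟨Pi.single 0 1, Pi.single 1 1, ?_⟩
    rw [sf_two]
    simp
  have hΛΛ : ∀ k l, k ≠ o → k ≠ o' → l ≠ o → l ≠ o' →
      fB G (fun p => Λ p k) (fun p => Λ p l) = μ⁻¹ * G k l := by
    intro k l hk hk' hl hl'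
    have e := (mem_SpV.mp hgi) (pt x₀ (Pi.single k 1)) (pt x₀' (Pi.single l 1))
    rw [hcol k hk hk', hcol l hl hl', fV_add_left, fV_add_right, fV_add_right, fV_pt, fV_pt, fV_pt,
      fV_pt, fV_pt, hoo, hcolo l, hcolo2 k, hα, Cfsg.Agent.Lib.Helper11.SOTLeaf.fB_single_single] at e
    have e3 : sf x₀ x₀' * (μ * fB G (fun p => Λ p k) (fun p => Λ p l) - G k l) = 0 := by
      linear_combination e
    rcases mul_eq_zero.1 e3 with e4 | e4
    · exact absurd e4 hx₀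
    · field_simp
      linear_combination e4
  -- the matrix `β₀`
  obtain ⟨B, hB⟩ : ∃ B : Matrix (Fin b) (Fin b) F, B = fun k q =>
      if k = o then (if q = o then 1 else 0)
      else if k = o' then (if q = o' then μ⁻¹ else 0) else Λ k q := ⟨_, rfl⟩
  have hBo : B *ᵥ Pi.single o (1 : F) = Pi.single o (1 : F) := by
    ext k
    rw [Matrix.mulVec_single_one, Matrix.col_apply, hB, Pi.single_apply]
    by_cases hk : k = o
    · simp [hk]
    · by_cases hk' : k = o'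
      · simp [hk', hoo', Ne.symm hoo']
      · simp only [if_neg hk, if_neg hk']
        exact Λ0 k o (Or.inr (Or.inr (Or.inl rfl)))
  have hBo' : B *ᵥ Pi.single o' (1 : F) = μ⁻¹ • Pi.single o' (1 : F) := by
    ext k
    rw [Matrix.mulVec_single_one, Matrix.col_apply, hB, Pi.smul_apply, Pi.single_apply, smul_eq_mul]
    by_cases hk : k = o
    · simp [hk, hoo', Ne.symm hoo']
    · by_cases hk' : k = o'
      · simp [hk', hoo', Ne.symm hoo']
      · simp only [if_neg hk, if_neg hk', mul_zero]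
        exact Λ0 k o' (Or.inr (Or.inr (Or.inr rfl)))
  have hBk : ∀ q, q ≠ o → q ≠ o' → B *ᵥ Pi.single q (1 : F) = fun p => Λ p q := by
    intro q hq hq'
    ext k
    rw [Matrix.mulVec_single_one, Matrix.col_apply, hB]
    by_cases hk : k = o
    · simp only [hk, if_true, if_neg hq]
      exact (Λ0 o q (Or.inl rfl)).symm
    · by_cases hk' : k = o'
      · simp only [hk', if_true, if_neg hq']
        rw [if_neg (Ne.symm hoo')]
        exact (Λ0 o' q (Or.inr (Or.inl rfl))).symm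
      · simp only [if_neg hk, if_neg hk']
  have Goo : G o o = 0 := by rw [hN.row, if_neg hoo']
  have Go'o' : G o' o' = 0 := by rw [hN.row', if_neg (Ne.symm hoo')]
  have hBB : ∀ k l : Fin b, fB G (B *ᵥ Pi.single k (1 : F)) (B *ᵥ Pi.single l (1 : F)) =
      μ⁻¹ * G k l := by
    intro k l
    by_cases hk : k = o
    · rw [hk, hBo]
      by_cases hl : l = o
      · rw [hl, hBo, hoo, Goo, mul_zero]
      · by_cases hl' : l = o'
        · rw [hl', hBo', fB_smul_right, Cfsg.Agent.Lib.Helper11.SOTLeaf.fB_single_single]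
        · rw [hBk l hl hl', hcolo l, hN.row, if_neg hl', mul_zero]
    · by_cases hk' : k = o'
      · rw [hk', hBo']
        by_cases hl : l = o
        · rw [hl, hBo, fB_smul_left, Cfsg.Agent.Lib.Helper11.SOTLeaf.fB_single_single]
        · by_cases hl' : l = o'
          · rw [hl', hBo', fB_smul_left, fB_smul_right,
              Cfsg.Agent.Lib.Helper11.SOTLeaf.fB_single_single, Go'o', mul_zero, mul_zero]
          · rw [hBk l hl hl', fB_smul_left, hcolo' l, hN.row', if_neg hl]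
      · rw [hBk k hk hk']
        by_cases hl : l = o
        · rw [hl, hBo, hcolo2 k, hN.col hG, if_neg hk', mul_zero]
        · by_cases hl' : l = o'
          · rw [hl', hBo', fB_smul_right, hcolo2' k, hN.col' hG, if_neg hk]
          · rw [hBk l hl hl', hΛΛ k l hk hk' hl hl']
  have hβ : ∀ y y' : Fin b → F, fB G (B *ᵥ y) (B *ᵥ y') = μ⁻¹ * fB G y y' :=
    fB_mulVec_of_basis B μ⁻¹ hBB
  have hBunit : IsUnit B := by
    apply Matrix.mulVec_injective_iff_isUnit.1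
    intro y y' hyy
    have hyy' : B *ᵥ y = B *ᵥ y' := hyy
    have : y - y' = 0 := by
      by_contra hne
      obtain ⟨z, hz⟩ := Cfsg.Agent.Lib.Helper18.SOTLALeaf.fB_nondeg' h.nd hne
      apply hz
      have e := hβ (y - y') z
      rw [Matrix.mulVec_sub, hyy', sub_self] at e
      have e0 : fB G (0 : Fin b → F) (B *ᵥ z) = 0 := by simp [fB]
      rw [e0] at e
      have : μ⁻¹ ≠ 0 := inv_ne_zero hμ
      rcases mul_eq_zero.1 e.symm with e' | e'
      · exact absurd e' this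
      · exact e'
    exact sub_eq_zero.1 this
  obtain ⟨β₀, hβ₀⟩ := hBunit
  refine ⟨β₀, ?_, ?_⟩
  · apply kel_mem_SpV_two G h₁⁻¹ β₀ μ⁻¹
    · rw [← hAi, ← hμdef]
      exact mul_inv_cancel₀ hμ
    · intro y y'
      rw [hβ₀]
      exact hβ y y'
  -- the `U`-form
  obtain ⟨K0, hK0⟩ : ∃ K0 : Matrix (Idx 2 b) (Idx 2 b) F, K0 = Ai ⊗ₖ B := ⟨_, rfl⟩
  have hval : (g * kel h₁⁻¹ β₀ : GL (Idx 2 b) F).1 = H * K0 := by
    rw [Units.val_mul, kel_val, hβ₀, ← hAi, ← hH, hK0]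
  have hK0b : ∀ r l, blk K0 r l = B r l • Ai := by
    intro r l
    rw [hK0, blk_kron]
  have hBro : ∀ r, B r o = if r = o then 1 else 0 := by
    intro r
    have := congrFun hBo r
    rw [Matrix.mulVec_single_one, Matrix.col_apply, Pi.single_apply] at this
    exact this
  have hBo'l : ∀ l, l ≠ o' → B o' l = 0 := by
    intro l hl
    rw [hB]
    simp only [if_neg (Ne.symm hoo'), if_true, if_neg hl]
  have hBo'o' : B o' o' = μ⁻¹ := by
    rw [hB]
    simp only [if_neg (Ne.symm hoo'), if_true]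
  have hBrl : ∀ r l, r ≠ o → r ≠ o' → B r l = Λ r l := by
    intro r l hr hr'
    rw [hB]
    simp only [if_neg hr, if_neg hr']
  -- `blk Hi o' o' = μ⁻¹ • Ai`
  have F4' : blk Hi o' o' = μ⁻¹ • Ai := by
    apply mat_ext_mulVec
    intro x'
    rw [← sub_eq_zero]
    apply eq_zero_of_sf h.ea
    intro z
    have e1 := Q2' (A *ᵥ z) x'
    rw [← hAi, ← hHi, Matrix.mulVec_mulVec, hAiA, Matrix.one_mulVec] at e1
    have e2 := hα (A *ᵥ z) x'
    rw [Matrix.mulVec_mulVec, hAiA, Matrix.one_mulVec] at e2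
    rw [sf_skew, sf_sub_right, e1, Matrix.smul_mulVec, sf_smul_right, e2]
    field_simp
    ring
  have hsum : ∀ k l, (∀ r, blk H k r * blk K0 r l = blk H k r * blk Hi r l) →
      blk (H * K0) k l = if k = l then 1 else 0 := by
    intro k l hr
    rw [blk_mul, Finset.sum_congr rfl (fun r _ => hr r), ← blk_mul, hHHi, blk_one]
  rw [hval]
  refine ⟨?_, ?_, ?_⟩
  · intro k l hk hl
    apply hsum
    intro r
    by_cases hr : r = o
    · rw [hr, F1, if_neg hk, Matrix.zero_mul, Matrix.zero_mul]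
    · by_cases hr' : r = o'
      · rw [hr', hK0b, hBo'l l hl, zero_smul, P2 l hl]
      · rw [hK0b, hBrl r l hr hr', F4 r l hr hr' hl]
  · rw [hsum o o, if_pos rfl]
    intro r
    rw [hK0b, hBro, F2]
    by_cases hr : r = o
    · rw [if_pos hr, if_pos hr, one_smul]
    · rw [if_neg hr, if_neg hr, zero_smul]
  · rw [hsum o' o', if_pos rfl]
    intro r
    by_cases hr' : r = o'
    · rw [hr', hK0b, hBo'o', F4']
    · rw [P1 r hr', Matrix.zero_mul, Matrix.zero_mul]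

end Cfsg.Agent.Lib.Helper18.SOTBLeaf
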