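import Mathlib
import Cfsg.Agent.Lib.Helper2.SOTDefs
import Cfsg.Agent.Lib.Helper28.SOTBDefs
import Cfsg.Agent.Lib.Helper9.SpTNU
import Cfsg.Agent.Lib.Helper25.TensS
import Cfsg.Agent.Lib.Helper25.SpTK
import Cfsg.Agent.Lib.Helper1.SpTNTools
import Cfsg.Agent.Lib.Helper18.SOTBISO

/-!
S5666 part (B) leaf (helper28's sub-market): (SS) `stab_scalars` (exact signature of
`notes/S5666_B_leaves.lean`).  By-products: `comp_mulVec` (block formula for the components of `X *ᵥ u`),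
`exists_dual_vec` (`v` with `G v = e_k`, `v o = 0 = v o'`), `mv_kE_single` (action of `1 ⊗ η_{e_o,v}` on all vectors),
`conj_kE_blocks` (the `U`-form of `g (1 ⊗ η_{e_o,v}) g⁻¹` for `g` stabilising `A ⊗ e_o`).
-/

set_option autoImplicit false
set_option linter.unusedSectionVars false
set_option linter.unusedVariables false

namespace Cfsg.Agent.Lib.Helper18.SOTBLeaf
open Matrix
open Cfsg.Agent.Lib.Helper25.Tens Cfsg.Agent.Lib.Helper25.TensLeaves Cfsg.Agent.Lib.Helper25.SpT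
open Cfsg.Agent.Lib.Helper19.OSub
open Cfsg.Agent.Lib.Helper2.SOT Cfsg.Agent.Lib.Helper28.SOTB
open Cfsg.Agent.Lib.Helper1 Cfsg.Agent.Lib.Helper1.SpTNLeaf
open scoped Kronecker

variable {F : Type*} [Field F] [Fintype F] {b : ℕ} {G : Matrix (Fin b) (Fin b) F}
  {M : Subgroup (GL (Idx 2 b) F)} {o o' : Fin b}

/-- components of `X *ᵥ u` in blocks -/
lemma comp_mulVec {a : ℕ} (X : Matrix (Idx a b) (Idx a b) F) (u : Idx a b → F) (p : Fin b) :
    SpTNLeaf.comp p (X *ᵥ u) = ∑ j : Fin b, blk X p j *ᵥ SpTNLeaf.comp j u := by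
  ext i
  simp only [SpTNLeaf.comp, Matrix.mulVec, dotProduct, Fintype.sum_prod_type, Finset.sum_apply, blk_apply]
  rw [Finset.sum_comm]

/-- the vector `v` with `G v = e_k` has `v o = 0 = v o'` for `k ∉ {o,o'}` -/
lemma exists_dual_vec (hdet : G.det ≠ 0) (hN : NormG G o o') (w : Fin b → F) (hwo : w o = 0)
    (hwo' : w o' = 0) : ∃ v : Fin b → F, G *ᵥ v = w ∧ v o = 0 ∧ v o' = 0 := by
  refine ⟨G⁻¹ *ᵥ w, ?_, ?_, ?_⟩
  · rw [Matrix.mulVec_mulVec, Matrix.mul_nonsing_inv G (isUnit_iff_ne_zero.mpr hdet),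
      Matrix.one_mulVec]
  · have h1 : G *ᵥ (G⁻¹ *ᵥ w) = w := by
      rw [Matrix.mulVec_mulVec, Matrix.mul_nonsing_inv G (isUnit_iff_ne_zero.mpr hdet),
        Matrix.one_mulVec]
    have := hN.mulVec_o' (G⁻¹ *ᵥ w)
    rw [h1] at this
    rw [← this, hwo']
  · have h1 : G *ᵥ (G⁻¹ *ᵥ w) = w := by
      rw [Matrix.mulVec_mulVec, Matrix.mul_nonsing_inv G (isUnit_iff_ne_zero.mpr hdet),
        Matrix.one_mulVec]
    have := hN.mulVec_o (G⁻¹ *ᵥ w)
    rw [h1] at this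
    rw [← this, hwo]

/-- the action of `1 ⊗ η_{e_o,v}` on an arbitrary vector -/
lemma mv_kE_single {a : ℕ} (hG : Gᵀ = G) (h2 : (2 : F) ≠ 0) (hN : NormG G o o') (v : Fin b → F)
    (hvo' : v o' = 0) (u : Idx a b → F) :
    mv (kE G (Pi.single o 1) v : GL (Idx a b) F) u =
      u + pt (SpTNLeaf.comp o' u) v - pt (ct (G *ᵥ v) u) (Pi.single o 1)
        - (fB G v v / 2) • pt (SpTNLeaf.comp o' u) (Pi.single o 1) := by
  have hz : fB G (Pi.single o (1 : F)) (Pi.single o 1) = 0 := hN.fB_oo hG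
  have hzv : fB G (Pi.single o (1 : F)) v = 0 := by
    rw [fB_single_left, hN.mulVec_o, hvo']
  revert u
  apply pt_induction
  · rw [mv_zero]
    simp only [comp_zero, pt_zero_left]
    have : ct (G *ᵥ v) (0 : Idx a b → F) = 0 := by
      ext i
      simp [ct]
    rw [this, pt_zero_left]
    simp
  · intro u w hu hw
    rw [mv_add, hu, hw, comp_add, ct_add]
    simp only [pt_add_left]
    module
  · intro x y
    rw [mv_kE_pt hG h2 hz hzv, comp_pt, ct_pt, hN.fB_o hG]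
    have e1 : fB G y v = G *ᵥ v ⬝ᵥ y := by
      unfold fB
      rw [dotProduct_comm]
    rw [e1, pt_sub_right', pt_sub_right', pt_add_right, pt_smul_right, pt_smul_right, pt_smul_right]
    simp only [pt_smul_left]
    module
where
  pt_sub_right' {a : ℕ} (x : Fin a → F) (y y' : Fin b → F) : pt x (y - y') = pt x y - pt x y' := by
    ext ⟨i, l⟩
    simp [pt, mul_sub]

/-- the conjugate `g (1 ⊗ η_{e_o,v}) g⁻¹`, `G v = e_k`, for `g` stabilising `A ⊗ e_o`: it has `U`-form and its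
row blocks are `- h₁ * blk g⁻¹ k q` -/
lemma conj_kE_blocks {a : ℕ} (ea : Even a) (hG : Gᵀ = G) (h2 : (2 : F) ≠ 0) (hN : NormG G o o')
    (g : GL (Idx a b) F) (hg : g ∈ SpV G) (h₁ : GL (Fin a) F)
    (hgo : ∀ x : Fin a → F, mv g (pt x (Pi.single o 1)) = pt (h₁.1 *ᵥ x) (Pi.single o 1))
    (hgo' : ∀ x : Fin a → F, mv g⁻¹ (pt x (Pi.single o 1)) = pt ((h₁⁻¹).1 *ᵥ x) (Pi.single o 1))
    (k : Fin b) (hko : k ≠ o) (hko' : k ≠ o') (v : Fin b → F) (hGv : G *ᵥ v = Pi.single k 1)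
    (hvo' : v o' = 0) :
    UF o o' (g * kE G (Pi.single o 1) v * g⁻¹ : GL (Idx a b) F).1 ∧
    ∀ q : Fin b, q ≠ o → q ≠ o' →
      blk (g * kE G (Pi.single o 1) v * g⁻¹ : GL (Idx a b) F).1 o q = -(h₁.1 * blk (g⁻¹).1 k q) := by
  have hg' : g⁻¹ ∈ SpV G := (SpV G).inv_mem hg
  have hgo'' : ∀ x : Fin a → F, mv (g⁻¹)⁻¹ (pt x (Pi.single o 1)) =
      pt (h₁.1 *ᵥ x) (Pi.single o 1) := by
    intro x
    rw [inv_inv]
    exact hgo x
  obtain ⟨hsp, -⟩ := stab_perp ea hN g hg h₁ hgo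
  obtain ⟨hsp', -⟩ := stab_perp ea hN g⁻¹ hg' h₁⁻¹ hgo'
  have hbI := Cfsg.Agent.Lib.Helper25.TensLeaf.blk_of_stab (g⁻¹).1 (h₁⁻¹).1 o hgo'
  have hct : ∀ u : Idx a b → F, ct (G *ᵥ v) u = SpTNLeaf.comp k u := by
    intro u
    rw [hGv]
    ext i
    simp only [ct, SpTNLeaf.comp]
    rw [Finset.sum_eq_single k]
    · simp
    · intro l _ hl
      simp [hl]
    · simp
  set g' : GL (Idx a b) F := g * kE G (Pi.single o 1) v * g⁻¹ with hg'def
  -- the general formula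
  have hmv : ∀ u : Idx a b → F, mv g' u =
      u + mv g (pt (SpTNLeaf.comp o' (mv g⁻¹ u)) v) - pt (h₁.1 *ᵥ SpTNLeaf.comp k (mv g⁻¹ u)) (Pi.single o 1)
        - (fB G v v / 2) • pt (h₁.1 *ᵥ SpTNLeaf.comp o' (mv g⁻¹ u)) (Pi.single o 1) := by
    intro u
    rw [hg'def, mv_mul, mv_mul, mv_kE_single hG h2 hN v hvo', hct, mv_sub, mv_sub, mv_add,
      mv_mv_inv, mv_smul, hgo, hgo]
  -- columns `q ≠ o'`
  have hcol : ∀ (q : Fin b) (x : Fin a → F), q ≠ o' → mv g' (pt x (Pi.single q 1)) =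
      pt x (Pi.single q 1) - pt (h₁.1 *ᵥ (blk (g⁻¹).1 k q *ᵥ x)) (Pi.single o 1) := by
    intro q x hq
    rw [hmv]
    have e1 : SpTNLeaf.comp o' (mv g⁻¹ (pt x (Pi.single q 1))) = 0 := by
      unfold mv
      rw [comp_mulVec_pt, hsp' q hq, Matrix.zero_mulVec]
    have e2 : SpTNLeaf.comp k (mv g⁻¹ (pt x (Pi.single q 1))) = blk (g⁻¹).1 k q *ᵥ x := by
      unfold mv
      rw [comp_mulVec_pt]
    rw [e1, e2, pt_zero_left, mv_zero, Matrix.mulVec_zero, pt_zero_left]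
    simp
  have hblk : ∀ (p q : Fin b) (x : Fin a → F), q ≠ o' → blk g'.1 p q *ᵥ x =
      (if p = q then x else 0) - (if p = o then h₁.1 *ᵥ (blk (g⁻¹).1 k q *ᵥ x) else 0) := by
    intro p q x hq
    rw [← comp_mulVec_pt]
    have := hcol q x hq
    unfold mv at this
    rw [this]
    have : SpTNLeaf.comp p (pt x (Pi.single q 1) - pt (h₁.1 *ᵥ (blk (g⁻¹).1 k q *ᵥ x)) (Pi.single o 1)) =
        SpTNLeaf.comp p (pt x (Pi.single q (1 : F))) -
          SpTNLeaf.comp p (pt (h₁.1 *ᵥ (blk (g⁻¹).1 k q *ᵥ x)) (Pi.single o (1 : F))) := rfl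
    rw [this, comp_pt_single, comp_pt_single]
  refine ⟨⟨?_, ?_, ?_⟩, ?_⟩
  · intro p l hp hl
    apply mat_ext_mulVec
    intro x
    rw [hblk p l x hl, if_neg hp, sub_zero]
    split_ifs <;> simp
  · apply mat_ext_mulVec
    intro x
    rw [hblk o o x hN.ne, if_pos rfl, if_pos rfl, hbI k, if_neg hko]
    simp
  · apply mat_ext_mulVec
    intro x
    rw [← comp_mulVec_pt]
    have := hmv (pt x (Pi.single o' 1))
    unfold mv at this
    rw [this, Matrix.one_mulVec]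
    have e3 : ∀ X : Fin a → F, SpTNLeaf.comp o' (g.1 *ᵥ pt X v) = 0 := by
      intro X
      rw [comp_mulVec]
      apply Finset.sum_eq_zero
      intro j _
      by_cases hj : j = o'
      · rw [hj, comp_pt, hvo', zero_smul, Matrix.mulVec_zero]
      · rw [hsp j hj, Matrix.zero_mulVec]
    have e4 : ∀ (u₁ u₂ u₃ u₄ : Idx a b → F) (c : F), SpTNLeaf.comp o' (u₁ + u₂ - u₃ - c • u₄) =
        SpTNLeaf.comp o' u₁ + SpTNLeaf.comp o' u₂ - SpTNLeaf.comp o' u₃ - c • SpTNLeaf.comp o' u₄ := fun _ _ _ _ _ => rfl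
    rw [e4, e3]
    simp [comp_pt_single, hN.ne.symm]
  · intro q hqo hqo'
    apply mat_ext_mulVec
    intro x
    rw [hblk o q x hqo', if_neg (Ne.symm hqo), if_pos rfl, zero_sub, Matrix.neg_mulVec,
      ← Matrix.mulVec_mulVec]

/-- (SS) rigidity -/
theorem stab_scalars (h : MCtx 2 b G M) (hN : NormG G o o')
    (hrow : ∀ u ∈ M, UF o o' u.1 → ∀ l : Fin b, l ≠ o → l ≠ o' → IsScalarMat (blk u.1 o l))
    (g : GL (Idx 2 b) F) (hg : g ∈ M) (h₁ : GL (Fin 2) F)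
    (hgo : ∀ x : Fin 2 → F, mv g (pt x (Pi.single o 1)) = pt (h₁.1 *ᵥ x) (Pi.single o 1))
    (hgo' : ∀ x : Fin 2 → F, mv g⁻¹ (pt x (Pi.single o 1)) = pt ((h₁⁻¹).1 *ᵥ x) (Pi.single o 1)) :
    ∀ k q : Fin b, k ≠ o → k ≠ o' → q ≠ o → q ≠ o' → IsScalarMat (h₁.1 * blk (g⁻¹).1 k q) := by
  intro k q hko hko' hqo hqo'
  obtain ⟨v, hGv, hvo, hvo'⟩ := exists_dual_vec h.nd hN (Pi.single k (1 : F))
    (by rw [Pi.single_apply, if_neg (Ne.symm hko)]) (by rw [Pi.single_apply, if_neg (Ne.symm hko')])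
  have hz : fB G (Pi.single o (1 : F)) (Pi.single o 1) = 0 := hN.fB_oo h.symm
  have hzv : fB G (Pi.single o (1 : F)) v = 0 := by
    rw [fB_single_left, hN.mulVec_o, hvo']
  have hκ : (kE G (Pi.single o 1) v : GL (Idx 2 b) F) ∈ M := kE_mem h hz hzv
  obtain ⟨hUF, hrows⟩ := conj_kE_blocks h.ea h.symm h.two hN g (h.le_sp hg) h₁ hgo hgo' k hko hko' v
    hGv hvo'
  have hg'M : g * kE G (Pi.single o 1) v * g⁻¹ ∈ M := M.mul_mem (M.mul_mem hg hκ) (M.inv_mem hg)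
  obtain ⟨c, hc⟩ := hrow _ hg'M hUF q hqo hqo'
  refine ⟨-c, ?_⟩
  have := hrows q hqo hqo'
  rw [hc] at this
  rw [neg_smul, this, neg_neg]

end Cfsg.Agent.Lib.Helper18.SOTBLeaf
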