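import Mathlib
import Cfsg.Prelude.Def_Solvable
import Cfsg.Agent.Lib.Helper13.SzSubA

set_option autoImplicit false

/-!
# S4125 main body, leaf QBB4
-/

namespace Cfsg.Agent.Lib.Helper18.QBLeaf

variable {G : Type*} [Group G] [Finite G]

/-- QBB4. -/
theorem conj_mem_of_union (Q C Z : Subgroup G) (hCQ : C ≤ Q) (hZQ : Z ≤ Q)
    (hZ : ∀ z ∈ Z, ∀ u ∈ Q, z * u = u * z)
    (hun : ∀ u ∈ Q, u ∈ Z ∨ ∃ v ∈ Q, v * u * v⁻¹ ∈ C) :
    ∀ c ∈ C, ∀ v ∈ Q, v * c * v⁻¹ ∈ C := by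
  -- `D = C Z` inside `Q`
  let D : Subgroup Q :=
    { carrier := {w : Q | ∃ c' ∈ C, ∃ z ∈ Z, (w : G) = c' * z}
      one_mem' := ⟨1, C.one_mem, 1, Z.one_mem, (mul_one 1).symm⟩
      mul_mem' := by
        rintro x y ⟨c1, hc1, z1, hz1, hx⟩ ⟨c2, hc2, z2, hz2, hy⟩
        refine ⟨c1 * c2, C.mul_mem hc1 hc2, z1 * z2, Z.mul_mem hz1 hz2, ?_⟩
        have := hZ z1 hz1 c2 (hCQ hc2)
        calc ((x * y : Q) : G) = c1 * z1 * (c2 * z2) := by rw [Subgroup.coe_mul, hx, hy]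
          _ = c1 * (z1 * c2) * z2 := by group
          _ = c1 * (c2 * z1) * z2 := by rw [this]
          _ = c1 * c2 * (z1 * z2) := by group
      inv_mem' := by
        rintro x ⟨c1, hc1, z1, hz1, hx⟩
        refine ⟨c1⁻¹, C.inv_mem hc1, z1⁻¹, Z.inv_mem hz1, ?_⟩
        have := hZ z1⁻¹ (Z.inv_mem hz1) c1⁻¹ (hCQ (C.inv_mem hc1))
        calc ((x⁻¹ : Q) : G) = (c1 * z1)⁻¹ := by rw [Subgroup.coe_inv, hx]
          _ = z1⁻¹ * c1⁻¹ := by group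
          _ = c1⁻¹ * z1⁻¹ := this }
  have hD : D = ⊤ := by
    by_contra hne
    obtain ⟨u, hu⟩ := Cfsg.Agent.Lib.Helper13.SzSub.exists_not_mem_conj hne
    rcases hun u.1 u.2 with h | ⟨v, hv, h⟩
    · apply hu 1
      rw [one_mul, inv_one, mul_one]
      exact ⟨1, C.one_mem, u.1, h, (one_mul _).symm⟩
    · apply hu ⟨v, hv⟩
      exact ⟨v * u.1 * v⁻¹, h, 1, Z.one_mem, (mul_one _).symm⟩
  intro c hc v hv
  have hvD : (⟨v, hv⟩ : Q) ∈ D := hD ▸ Subgroup.mem_top _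
  obtain ⟨c', hc', z, hz, hvz⟩ := hvD
  have hvz' : v = c' * z := hvz
  subst hvz'
  have h1 := hZ z hz c (hCQ hc)
  have : c' * z * c * (c' * z)⁻¹ = c' * c * c'⁻¹ := by
    calc c' * z * c * (c' * z)⁻¹ = c' * (z * c) * z⁻¹ * c'⁻¹ := by group
      _ = c' * (c * z) * z⁻¹ * c'⁻¹ := by rw [h1]
      _ = c' * c * c'⁻¹ := by group
  rw [this]
  exact C.mul_mem (C.mul_mem hc' hc) (C.inv_mem hc')

end Cfsg.Agent.Lib.Helper18.QBLeaf
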