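import Mathlib
import Cfsg.Agent.Lib.Helper18.PSL2AutRigid
import Cfsg.Prelude.Def_KGroupFacts

/-!
The outer automorphism group of `PSL₂(F)`, `F` a finite field (helper18).
-/

set_option autoImplicit false

namespace Cfsg.Agent.Lib.Helper18.PSL2Aut

open Matrix Cfsg.Agent.Lib.Helper13

variable {F : Type*} [Field F]

/-- an element of `SL₂` of trace `τ` -/
def cS (τ : F) : SpecialLinearGroup (Fin 2) F :=
  ⟨!![τ, -1; 1, 0], by simp [Matrix.det_fin_two]⟩

theorem exists_trsq (τ : F) : ∃ g : ProjectiveSpecialLinearGroup (Fin 2) F, trsq g = τ ^ 2 := by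
  refine ⟨pi (cS τ), ?_⟩
  rw [trsq_pi]
  simp [cS]

theorem ringEquiv_eq_of_trsq [Finite F] (κ κ' : F ≃+* F)
    (h : ∀ g : ProjectiveSpecialLinearGroup (Fin 2) F, κ (trsq g) = κ' (trsq g)) : κ = κ' := by
  ext x
  obtain ⟨u, v, rfl⟩ := sq_sub_sq x
  obtain ⟨g, hg⟩ := exists_trsq u
  obtain ⟨g', hg'⟩ := exists_trsq v
  rw [map_sub, map_sub, ← hg, ← hg', h, h]

theorem fAut_one (g : ProjectiveSpecialLinearGroup (Fin 2) F) : fAut (1 : RingAut F) g = g := by
  obtain ⟨x, rfl⟩ := pi_surjective g
  rw [fAut_pi]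
  congr 1

/-- the diagonal automorphisms as a homomorphism -/
noncomputable def dAutHom : Fˣ →* MulAut (ProjectiveSpecialLinearGroup (Fin 2) F) where
  toFun := dAut
  map_one' := by
    ext g
    exact dAut_one g
  map_mul' a b := by
    ext g
    exact dAut_mul a b g

section finite

variable [Fintype F] (p : ℕ) [Fact p.Prime] [CharP F p]

include p in
theorem exists_kappa
    (α : ProjectiveSpecialLinearGroup (Fin 2) F ≃* ProjectiveSpecialLinearGroup (Fin 2) F) :
    ∃ κ : F ≃+* F, ∀ g, trsq (α g) = κ (trsq g) := by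
  obtain ⟨y, a, κ, h⟩ := aut_decomp p α
  exact ⟨κ, fun g => by rw [h, trsq_conj, trsq_dAut, trsq_fAut]⟩

/-- the field automorphism attached to an automorphism of `PSL₂(F)` -/
noncomputable def psiFun
    (α : ProjectiveSpecialLinearGroup (Fin 2) F ≃* ProjectiveSpecialLinearGroup (Fin 2) F) :
    RingAut F := Classical.choose (exists_kappa p α)

theorem psiFun_spec
    (α : ProjectiveSpecialLinearGroup (Fin 2) F ≃* ProjectiveSpecialLinearGroup (Fin 2) F)
    (g : ProjectiveSpecialLinearGroup (Fin 2) F) : trsq (α g) = psiFun p α (trsq g) :=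
  Classical.choose_spec (exists_kappa p α) g

theorem psiFun_eq
    (α : ProjectiveSpecialLinearGroup (Fin 2) F ≃* ProjectiveSpecialLinearGroup (Fin 2) F)
    (κ : F ≃+* F) (h : ∀ g, trsq (α g) = κ (trsq g)) : psiFun p α = κ :=
  ringEquiv_eq_of_trsq _ _ (fun g => by rw [← psiFun_spec, h])

/-- the homomorphism `Aut (PSL₂(F)) → Aut F` -/
noncomputable def psi : MulAut (ProjectiveSpecialLinearGroup (Fin 2) F) →* RingAut F where
  toFun := psiFun p
  map_one' := psiFun_eq p 1 1 (fun g => rfl)
  map_mul' α β := psiFun_eq p _ _ (fun g => by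
    rw [MulAut.mul_apply, psiFun_spec, psiFun_spec, RingAut.mul_apply])

theorem psi_conj (y : ProjectiveSpecialLinearGroup (Fin 2) F) : psi p (MulAut.conj y) = 1 :=
  psiFun_eq p _ 1 (fun g => by rw [MulAut.conj_apply, trsq_conj]; rfl)

theorem psi_fAut (κ : F ≃+* F) : psi p (fAut κ) = κ :=
  psiFun_eq p _ κ (fun g => trsq_fAut κ g)

theorem psi_dAut (a : Fˣ) : psi p (dAut a) = 1 :=
  psiFun_eq p _ 1 (fun g => by rw [trsq_dAut]; rfl)

theorem aut_decomp'
    (α : ProjectiveSpecialLinearGroup (Fin 2) F ≃* ProjectiveSpecialLinearGroup (Fin 2) F) :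
    ∃ (y : ProjectiveSpecialLinearGroup (Fin 2) F) (a : Fˣ),
      ∀ g, α g = y * dAut a (fAut (psi p α) g) * y⁻¹ := by
  obtain ⟨y, a, κ, h⟩ := aut_decomp p α
  have : psi p α = κ := psiFun_eq p α κ (fun g => by rw [h, trsq_conj, trsq_dAut, trsq_fAut])
  exact ⟨y, a, by rw [this]; exact h⟩

/-- the induced homomorphism on the outer automorphism group -/
noncomputable def psiOut : Cfsg.Out (ProjectiveSpecialLinearGroup (Fin 2) F) →* RingAut F :=
  QuotientGroup.lift (Cfsg.Inn (ProjectiveSpecialLinearGroup (Fin 2) F)) (psi p) (by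
    rintro α ⟨y, rfl⟩
    exact psi_conj p y)

theorem psiOut_mk (α : MulAut (ProjectiveSpecialLinearGroup (Fin 2) F)) :
    psiOut p (QuotientGroup.mk α) = psi p α := rfl

theorem psiOut_surjective : Function.Surjective (psiOut (F := F) p) := by
  intro κ
  exact ⟨QuotientGroup.mk (fAut κ), by rw [psiOut_mk, psi_fAut]⟩

/-- the diagonal automorphisms in the outer automorphism group -/
noncomputable def dOut : Fˣ →* Cfsg.Out (ProjectiveSpecialLinearGroup (Fin 2) F) :=
  (QuotientGroup.mk' (Cfsg.Inn (ProjectiveSpecialLinearGroup (Fin 2) F))).comp dAutHom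

theorem ker_psiOut : (psiOut (F := F) p).ker = (dOut (F := F)).range := by
  ext x
  obtain ⟨α, rfl⟩ := QuotientGroup.mk_surjective x
  rw [MonoidHom.mem_ker, psiOut_mk]
  constructor
  · intro h
    obtain ⟨y, a, hya⟩ := aut_decomp' p α
    rw [h] at hya
    refine ⟨a, ?_⟩
    have e : α = MulAut.conj y * dAut a := by
      ext g
      rw [hya, fAut_one, MulAut.mul_apply, MulAut.conj_apply]
    show ((QuotientGroup.mk (dAut a) : Cfsg.Out (ProjectiveSpecialLinearGroup (Fin 2) F))) = _
    rw [e, QuotientGroup.mk_mul]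
    have : (QuotientGroup.mk (MulAut.conj y) :
        Cfsg.Out (ProjectiveSpecialLinearGroup (Fin 2) F)) = 1 :=
      (QuotientGroup.eq_one_iff _).mpr ⟨y, rfl⟩
    rw [this, one_mul]
  · rintro ⟨a, ha⟩
    have h1 : psiOut p (dOut a) = 1 := psi_dAut p a
    rw [ha, psiOut_mk] at h1
    exact h1

omit [Fintype F] in
theorem ker_dOut : (dOut (F := F)).ker = (powMonoidHom 2 : Fˣ →* Fˣ).range := by
  ext a
  rw [MonoidHom.mem_ker]
  show ((QuotientGroup.mk (dAut a) : Cfsg.Out (ProjectiveSpecialLinearGroup (Fin 2) F))) = 1 ↔ _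
  rw [QuotientGroup.eq_one_iff]
  constructor
  · rintro ⟨y, hy⟩
    obtain ⟨x, rfl⟩ := pi_surjective y
    have h1 : pi x * ub 1 * (pi x)⁻¹ = ub ((a : F) * 1) := by
      rw [← dAut_ub, ← hy, MulAut.conj_apply]
    have hx := upper_of_conj_ub x one_ne_zero h1
    rw [conj_ub_of_upper hx] at h1
    have h2 := ub_injective h1
    rw [one_mul, mul_one] at h2
    have h00 : (x : Matrix (Fin 2) (Fin 2) F) 0 0 ≠ 0 := by
      intro h
      rw [h] at h2
      exact a.ne_zero (by rw [← h2]; ring)
    refine ⟨Units.mk0 _ h00, ?_⟩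
    apply Units.ext
    rw [powMonoidHom_apply, Units.val_pow_eq_pow_val, Units.val_mk0, h2]
  · rintro ⟨b, rfl⟩
    refine ⟨hb b, ?_⟩
    ext g
    rw [MulAut.conj_apply, powMonoidHom_apply, dAut_sq]

end finite

/-- the automorphism group of a finite field of characteristic `p` is cyclic -/
theorem ringAut_cyclic [Fintype F] (p : ℕ) [Fact p.Prime] [CharP F p] : IsCyclic (RingAut F) := by
  let _ : Algebra (ZMod p) F := ZMod.algebra F p
  let φ : (F ≃ₐ[ZMod p] F) →* RingAut F :=
    { toFun := fun ψ => ψ.toRingEquiv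
      map_one' := rfl
      map_mul' := fun _ _ => rfl }
  have hφ : Function.Surjective φ := by
    intro κ
    refine ⟨AlgEquiv.ofRingEquiv (f := κ) (fun r => ?_), by ext; rfl⟩
    have : (κ : F →+* F).comp (algebraMap (ZMod p) F) = algebraMap (ZMod p) F :=
      Subsingleton.elim _ _
    exact RingHom.congr_fun this r
  exact isCyclic_of_surjective φ hφ

/-- the automorphism group of a finite field of order `p ^ f` has order `f` -/
theorem ringAut_card [Fintype F] (p : ℕ) [Fact p.Prime] [CharP F p] {f : ℕ}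
    (hF : Fintype.card F = p ^ f) : Nat.card (RingAut F) = f := by
  let _ : Algebra (ZMod p) F := ZMod.algebra F p
  have hfin : Module.finrank (ZMod p) F = f := by
    have h3 := Module.card_eq_pow_finrank (K := ZMod p) (V := F)
    rw [hF, ZMod.card] at h3
    exact (Nat.pow_right_injective (Fact.out : p.Prime).two_le h3).symm
  have e1 : (F ≃+* F) ≃ (F ≃ₐ[ZMod p] F) :=
    { toFun := fun ψ => AlgEquiv.ofRingEquiv (f := ψ) (fun r => by
        have : (ψ : F →+* F).comp (algebraMap (ZMod p) F) = algebraMap (ZMod p) F :=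
          Subsingleton.elim _ _
        exact RingHom.congr_fun this r)
      invFun := fun ψ => ψ.toRingEquiv
      left_inv := fun ψ => by ext; rfl
      right_inv := fun ψ => by ext; rfl }
  show Nat.card (F ≃+* F) = f
  rw [Nat.card_congr e1, ← Nat.card_congr (Equiv.ofBijective _
    (FiniteField.bijective_frobeniusAlgEquivOfAlgebraic_pow (ZMod p) F)), Nat.card_fin, hfin]

/-- **the outer automorphism group of `PSL₂(F)`**, `F` a field with `p ^ f` elements -/
theorem out_structure [Fintype F] {p f : ℕ} [Fact p.Prime] (hF : Fintype.card F = p ^ f) :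
    ∃ φ : Cfsg.Out (ProjectiveSpecialLinearGroup (Fin 2) F) →* Multiplicative (ZMod f),
      Function.Surjective φ ∧ IsCyclic φ.ker ∧ Nat.card φ.ker = Nat.gcd 2 (p ^ f - 1) := by
  have : CharP F p := charP_of_card_eq_prime_pow hF
  have hcyc : IsCyclic (RingAut F) := ringAut_cyclic p
  have hcard : Nat.card (RingAut F) = f := ringAut_card p hF
  have hq : Nat.card Fˣ = p ^ f - 1 := by
    rw [Nat.card_units, Nat.card_eq_fintype_card, hF]
  subst hcard
  let e : RingAut F ≃* Multiplicative (ZMod (Nat.card (RingAut F))) :=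
    (zmodCyclicMulEquiv hcyc).symm
  refine ⟨e.toMonoidHom.comp (psiOut p), ?_, ?_⟩
  · exact e.surjective.comp (psiOut_surjective p)
  · have hker : (e.toMonoidHom.comp (psiOut p)).ker = (dOut (F := F)).range := by
      rw [← ker_psiOut p]
      ext x
      simp only [MonoidHom.mem_ker, MonoidHom.comp_apply]
      exact EmbeddingLike.map_eq_one_iff (f := e)
    rw [hker]
    constructor
    · exact isCyclic_of_surjective (dOut (F := F)).rangeRestrict
        (dOut (F := F)).rangeRestrict_surjective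
    · rw [← Subgroup.index_ker, ker_dOut, IsCyclic.index_powMonoidHom_range, hq, Nat.gcd_comm]

end Cfsg.Agent.Lib.Helper18.PSL2Aut
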