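import Mathlib
import Cfsg.Prelude.Def_Classical
import Cfsg.Prelude.Def_ClassicalGeometry
import Cfsg.Prelude.Def_GeometricClasses
import Cfsg.Agent.Lib.Helper5.SUMax
import Cfsg.Agent.Lib.Helper22.C3LDefs
import Cfsg.Agent.Lib.Helper22.C3LTool
import Cfsg.Agent.Lib.Helper16.C3uDefs

/-!
Unitary C3 (cubic field) market of helper16: auxiliary lemmas for the leaves R1, R2, Ca (helper18).
`iotaL S g v : e ↦ g (e v)`, `chi S g v : e ↦ fE (g (e v)) v`, dimension transfer between `img g (line v) ⊓ H` and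
the pull-back of `H` to `E`.
-/

set_option autoImplicit false
set_option linter.unusedSectionVars false
set_option linter.unusedVariables false

namespace Cfsg.Agent.Lib.Helper18.C3uLeaf
open Cfsg Matrix Module Cfsg.Agent.Lib.Helper5.SpMax Cfsg.Agent.Lib.Helper5.SUMax
  Cfsg.Agent.Lib.Helper22.C3L Cfsg.Agent.Lib.Helper16.C3u

universe u
variable {F : Type u} [Field F] [Fintype F] {n q : ℕ} {E : Type u} [Field E] [Algebra F E]

local notation "𝕍" => (Fin n → F)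
local notation "𝕄" => Matrix (Fin n) (Fin n) F
local notation "ℍ" => (Cfsg.GU n F q ⊓ Cfsg.Geo.specialLinear (Fin n) F)

/-- the map `e ↦ g (e v)` -/
def iotaL (S : KU n q F E) (g : GL (Fin n) F) (v : 𝕍) : E →ₗ[F] 𝕍 :=
  (Matrix.toLin' (g : 𝕄)).comp (orb S.ρ v)

lemma iotaL_apply (S : KU n q F E) (g : GL (Fin n) F) (v : 𝕍) (e : E) :
    iotaL S g v e = (g : 𝕄) *ᵥ act S.ρ e v := rfl

lemma iotaL_injective (S : KU n q F E) (g : GL (Fin n) F) {v : 𝕍} (hv : v ≠ 0) :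
    Function.Injective (iotaL S g v) := by
  intro e e' h
  rw [iotaL_apply, iotaL_apply] at h
  exact orb_injective hv (mulVec_inj g h)

lemma img_line_eq_range (S : KU n q F E) (g : GL (Fin n) F) (v : 𝕍) :
    img g (line S.ρ v) = LinearMap.range (iotaL S g v) := by
  unfold img line iotaL
  rw [LinearMap.range_comp]

lemma finrank_img_inf (S : KU n q F E) (g : GL (Fin n) F) {v : 𝕍} (hv : v ≠ 0)
    (H : Submodule F 𝕍) :
    finrank F ↥(img g (line S.ρ v) ⊓ H) = finrank F ↥(H.comap (iotaL S g v)) := by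
  have h : img g (line S.ρ v) ⊓ H = (H.comap (iotaL S g v)).map (iotaL S g v) := by
    rw [Submodule.map_comap_eq, img_line_eq_range]
  rw [h]
  exact ((Submodule.equivMapOfInjective _ (iotaL_injective S g hv) _).finrank_eq).symm

/-- the map `e ↦ fE (g (e v)) v` -/
def chi (S : KU n q F E) (g : GL (Fin n) F) (v : 𝕍) : E →ₗ[F] E := (S.phi v).comp (iotaL S g v)

lemma chi_apply (S : KU n q F E) (g : GL (Fin n) F) (v : 𝕍) (e : E) :
    chi S g v e = S.fE ((g : 𝕄) *ᵥ act S.ρ e v) v := rfl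

lemma comap_hyp (S : KU n q F E) (g : GL (Fin n) F) (v : 𝕍) :
    (S.hyp v).comap (iotaL S g v) = LinearMap.ker (chi S g v) := by
  unfold KU.hyp chi
  rw [LinearMap.ker_comp]

lemma finrank_img_inf_hyp (S : KU n q F E) (g : GL (Fin n) F) {v : 𝕍} (hv : v ≠ 0) :
    finrank F ↥(img g (line S.ρ v) ⊓ S.hyp v) = finrank F ↥(LinearMap.ker (chi S g v)) := by
  rw [finrank_img_inf S g hv, comap_hyp]

omit [Fintype F] in
lemma herm_map {g : GL (Fin n) F} (hg : g ∈ Cfsg.GU n F q) (x y : 𝕍) :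
    Cfsg.hermForm n F q ((g : 𝕄) *ᵥ x) ((g : 𝕄) *ᵥ y) = Cfsg.hermForm n F q x y :=
  mem_GU.1 hg x y

omit [Fintype F] in
lemma herm_line_line (S : KU n q F E) {v : 𝕍} (hv : S.fE v v = 0) (e e' : E) :
    Cfsg.hermForm n F q (act S.ρ e v) (act S.ρ e' v) = 0 := by
  rw [S.form_act_left, S.fE_act_right, hv, mul_zero, mul_zero, map_zero]

omit [Fintype F] in
lemma kt_mem_M (S : KU n q F E) (M : Subgroup (GL (Fin n) F))
    (hM : ∀ g ∈ ℍ, (∀ e : E, (g : 𝕄) * S.ρ e = S.ρ e * (g : 𝕄)) → g ∈ M)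
    {v : 𝕍} (hv : S.fE v v = 0) {a : E} (ha : S.st a = -a) : S.kt v a hv ∈ M :=
  hM _ (S.kt_mem hv ha) (S.kt_comm hv a)

omit [Fintype F] in
lemma kt_fix (S : KU n q F E) {v : 𝕍} (hv : S.fE v v = 0) (a : E) {x : 𝕍} (hx : S.fE x v = 0) :
    ((S.kt v a hv : GL (Fin n) F) : 𝕄) *ᵥ x = x := by
  rw [S.kt_mulVec, hx, mul_zero, act_zero, add_zero]

omit [Fintype F] in
lemma herm_kt_left (S : KU n q F E) {v : 𝕍} (hv : S.fE v v = 0) (a : E) (z z' : 𝕍) :
    Cfsg.hermForm n F q (((S.kt v a hv : GL (Fin n) F) : 𝕄) *ᵥ z) z' =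
      Cfsg.hermForm n F q z z' + S.τ (a * S.fE z v * S.st (S.fE z' v)) := by
  rw [S.kt_mulVec, S.form_eq', S.add_left, S.fE_act_left, map_add, ← S.form_eq', S.herm z' v]

omit [Fintype F] in
/-- `g⁻¹ t g` applied to `e v`, transported back by `g` -/
lemma conj_mulVec (g t : GL (Fin n) F) (x : 𝕍) :
    (g : 𝕄) *ᵥ (((g⁻¹ * t * g : GL (Fin n) F) : 𝕄) *ᵥ x) = (t : 𝕄) *ᵥ ((g : 𝕄) *ᵥ x) := by
  rw [Units.val_mul, Units.val_mul, ← Matrix.mulVec_mulVec, ← Matrix.mulVec_mulVec, mul_inv_mulVec]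

omit [Fintype F] in
lemma conj_mulVec' (g t : GL (Fin n) F) (x : 𝕍) :
    ((g⁻¹ * t * g : GL (Fin n) F) : 𝕄) *ᵥ x =
      ((g⁻¹ : GL (Fin n) F) : 𝕄) *ᵥ ((t : 𝕄) *ᵥ ((g : 𝕄) *ᵥ x)) := by
  rw [Units.val_mul, Units.val_mul, ← Matrix.mulVec_mulVec, ← Matrix.mulVec_mulVec]

end Cfsg.Agent.Lib.Helper18.C3uLeaf
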