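import Mathlib
import Cfsg.Prelude.Def_Classical
import Cfsg.Prelude.Def_ClassicalGeometry
import Cfsg.Prelude.Def_GeometricClasses
import Cfsg.Agent.Lib.Helper5.SUMax
import Cfsg.Agent.Lib.Helper22.C3LDefs
import Cfsg.Agent.Lib.Helper22.C3LTool
import Cfsg.Agent.Lib.Helper16.C3uDefs
import Cfsg.Agent.Lib.Helper18.C3uAux

/-!
Unitary C3 (cubic field) market of helper16: leaf R2 `rank_two_step` in CORE form (leaves F2 `tau_nondeg` and F4
`exists_skew_mul_mem` as hypotheses).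
-/

set_option autoImplicit false
set_option linter.unusedSectionVars false
set_option linter.unusedVariables false

namespace Cfsg.Agent.Lib.Helper18.C3uLeaf
open Cfsg Matrix Module Cfsg.Agent.Lib.Helper5.SpMax Cfsg.Agent.Lib.Helper5.SUMax
  Cfsg.Agent.Lib.Helper22.C3L Cfsg.Agent.Lib.Helper16.C3u

universe u
variable {F : Type u} [Field F] [Fintype F] {n q : ℕ} {E : Type u} [Field E] [Algebra F E]

local notation "𝕍" => (Fin n → F)
local notation "𝕄" => Matrix (Fin n) (Fin n) F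
local notation "ℍ" => (Cfsg.GU n F q ⊓ Cfsg.Geo.specialLinear (Fin n) F)

/-- the `τ`-form `(ψ, φ) ↦ τ (ψ * φ)` on `E` -/
def tauB (S : KU n q F E) : LinearMap.BilinForm F E := (LinearMap.mul F E).compr₂ S.τ

omit [Fintype F] in
lemma tauB_apply (S : KU n q F E) (ψ φ : E) : tauB S ψ φ = S.τ (ψ * φ) := rfl

omit [Fintype F] in
lemma tauB_nondeg (S : KU n q F E) (F2 : ∀ {a : E}, (∀ b, S.τ (a * b) = 0) → a = 0) :
    (tauB S).Nondegenerate := by
  constructor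
  · intro x hx
    exact F2 (fun b => by have := hx b; rwa [tauB_apply] at this)
  · intro y hy
    exact F2 (fun b => by have := hy b; rwa [tauB_apply, mul_comm] at this)

omit [Fintype F] in
/-- the perpendicularity criterion (W0'), from F2 -/
lemma fE_eq_zero_iff (S : KU n q F E) (F2 : ∀ {a : E}, (∀ b, S.τ (a * b) = 0) → a = 0)
    (y v : 𝕍) : S.fE y v = 0 ↔ ∀ e : E, Cfsg.hermForm n F q y (act S.ρ e v) = 0 := by
  constructor
  · intro h e
    rw [S.form_act_right, h, mul_zero, map_zero]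
  · intro h
    apply F2
    intro b
    have := h (S.st b)
    rwa [S.form_act_right, S.st_st, mul_comm] at this

/-- the key equivalence of step R: `g⁻¹ t g (e v₀) ⊥ v₀` in terms of `χ` -/
lemma chi_conj_eq_zero_iff (S : KU n q F E) (F2 : ∀ {a : E}, (∀ b, S.τ (a * b) = 0) → a = 0)
    {v₀ : 𝕍} (hiso : S.fE v₀ v₀ = 0) {g : GL (Fin n) F} (hGU : g ∈ Cfsg.GU n F q) (b : E) (e : E) :
    chi S (g⁻¹ * S.kt v₀ b hiso * g) v₀ e = 0 ↔
      ∀ e' : E, S.τ (b * chi S g v₀ e * S.st (chi S g v₀ e')) = 0 := by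
  rw [chi_apply, fE_eq_zero_iff S F2]
  constructor
  · intro h e'
    have := h e'
    rwa [← herm_map hGU, conj_mulVec, herm_kt_left, herm_map hGU, herm_line_line S hiso, zero_add,
      ← chi_apply, ← chi_apply] at this
  · intro h e'
    rw [← herm_map hGU, conj_mulVec, herm_kt_left, herm_map hGU, herm_line_line S hiso, zero_add,
      ← chi_apply, ← chi_apply]
    exact h e'

/-- R2 (core): from `dim (g L₀ ∩ v₀^⊥) = 1` to `dim = 2` -/
theorem rank_two_step_core (S : KU n q F E) (hF : Fintype.card F = q ^ 2) (hr3 : finrank F E = 3)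
    (F2 : ∀ {a : E}, (∀ b, S.τ (a * b) = 0) → a = 0)
    (F4 : ∀ (B : Submodule F E), finrank F B = 2 → ∀ {φ : E}, φ ≠ 0 →
      ∃ b : E, b ≠ 0 ∧ S.st b = -b ∧ b * φ ∈ B)
    (M : Subgroup (GL (Fin n) F)) (hMS : M ≤ ℍ)
    (hM : ∀ g ∈ ℍ, (∀ e : E, (g : 𝕄) * S.ρ e = S.ρ e * (g : 𝕄)) → g ∈ M)
    {v₀ : 𝕍} (hv₀ : v₀ ≠ 0) (hiso : S.fE v₀ v₀ = 0) {g : GL (Fin n) F} (hg : g ∈ M)
    (h1 : finrank F ↥(img g (line S.ρ v₀) ⊓ S.hyp v₀) = 1) :
    ∃ g' ∈ M, finrank F ↥(img g' (line S.ρ v₀) ⊓ S.hyp v₀) = 2 := by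
  have hfd : FiniteDimensional F E := Module.finite_of_finrank_pos (by omega)
  have hq : q ≠ 0 := by
    rintro rfl
    have : 0 < Fintype.card F := Fintype.card_pos
    rw [hF] at this
    simp at this
  have hGU : g ∈ Cfsg.GU n F q := (hMS hg).1
  obtain ⟨χ, hχ⟩ : ∃ χ, χ = chi S g v₀ := ⟨_, rfl⟩
  have hker : finrank F ↥(LinearMap.ker χ) = 1 := by
    rw [hχ, ← finrank_img_inf_hyp S g hv₀]
    exact h1
  have hrange : finrank F ↥(LinearMap.range χ) = 2 := by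
    have := LinearMap.finrank_range_add_finrank_ker χ
    rw [hker, hr3] at this
    omega
  -- the annihilator of the range
  have hN : finrank F ↥((tauB S).orthogonal (LinearMap.range χ)) = 1 := by
    rw [LinearMap.BilinForm.finrank_orthogonal (tauB_nondeg S F2), hrange, hr3]
  obtain ⟨ψ₁', hψ₁'0, hψ₁'span⟩ := finrank_eq_one_iff'.1 hN
  obtain ⟨ψ₁, hψ₁⟩ : ∃ ψ₁ : E, ψ₁ = (ψ₁' : E) := ⟨_, rfl⟩
  have hψ₁0 : ψ₁ ≠ 0 := by
    rw [hψ₁]
    intro h
    exact hψ₁'0 (Subtype.ext h)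
  have hψ₁N : ∀ e', S.τ (χ e' * ψ₁) = 0 := by
    intro e'
    have := (LinearMap.BilinForm.mem_orthogonal_iff.1 ψ₁'.2) (χ e') (LinearMap.mem_range_self χ e')
    rw [tauB_apply] at this
    rw [hψ₁]
    exact this
  have hNspan : ∀ ψ : E, (∀ e', S.τ (χ e' * ψ) = 0) → ∃ c : F, ψ = c • ψ₁ := by
    intro ψ hψ
    have hmem : ψ ∈ (tauB S).orthogonal (LinearMap.range χ) := by
      rw [LinearMap.BilinForm.mem_orthogonal_iff]
      rintro _ ⟨e', rfl⟩
      rw [tauB_apply]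
      exact hψ e'
    obtain ⟨c, hc⟩ := hψ₁'span ⟨ψ, hmem⟩
    refine ⟨c, ?_⟩
    have := congrArg Subtype.val hc
    rw [hψ₁]
    exact this.symm
  -- the skew element
  have hstψ : S.st ψ₁ ≠ 0 := by
    intro h
    apply hψ₁0
    rw [← S.st_st ψ₁, h, map_zero]
  obtain ⟨b', hb'0, hb'skew, hb'mem⟩ := F4 (LinearMap.range χ) hrange hstψ
  obtain ⟨e₁, he₁⟩ := hb'mem
  obtain ⟨φ₀, hφ₀⟩ : ∃ φ₀, φ₀ = b' * S.st ψ₁ := ⟨_, rfl⟩
  rw [← hφ₀] at he₁
  have hφ₀0 : φ₀ ≠ 0 := by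
    rw [hφ₀]
    exact mul_ne_zero hb'0 hstψ
  have hbskew : S.st b'⁻¹ = -b'⁻¹ := by
    rw [map_inv₀, hb'skew, inv_neg]
  have htM : S.kt v₀ b'⁻¹ hiso ∈ M := kt_mem_M S M hM hiso hbskew
  have hg'M : g⁻¹ * S.kt v₀ b'⁻¹ hiso * g ∈ M := M.mul_mem (M.mul_mem (M.inv_mem hg) htM) hg
  refine ⟨_, hg'M, ?_⟩
  rw [finrank_img_inf_hyp S _ hv₀]
  -- the kernel of the new `χ`
  have hiff : ∀ e, chi S (g⁻¹ * S.kt v₀ b'⁻¹ hiso * g) v₀ e = 0 ↔ ∃ c : F, χ e = c • φ₀ := by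
    intro e
    rw [chi_conj_eq_zero_iff S F2 hiso hGU, ← hχ]
    constructor
    · intro h
      have h' : ∀ e', S.τ (χ e' * S.st (b'⁻¹ * χ e)) = 0 := by
        intro e'
        have h0 := h e'
        have h1 : S.τ (S.st (b'⁻¹ * χ e * S.st (χ e'))) = 0 := by
          rw [S.τ_st, h0, zero_pow hq]
        rw [map_mul, S.st_st, mul_comm] at h1
        exact h1
      obtain ⟨c, hc⟩ := hNspan _ h'
      refine ⟨c ^ q, ?_⟩
      have h2 : b'⁻¹ * χ e = S.st (c • ψ₁) := by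
        rw [← hc, S.st_st]
      rw [Algebra.smul_def, map_mul, S.st_alg, ← Algebra.smul_def] at h2
      rw [hφ₀, ← mul_smul_comm, ← h2, ← mul_assoc, mul_inv_cancel₀ hb'0, one_mul]
    · rintro ⟨c, hc⟩ e'
      have h2 : b'⁻¹ * χ e = c • S.st ψ₁ := by
        rw [hc, hφ₀, mul_smul_comm, ← mul_assoc, inv_mul_cancel₀ hb'0, one_mul]
      rw [h2, smul_mul_assoc, map_smul, ← map_mul, S.τ_st, mul_comm, hψ₁N, zero_pow hq, smul_zero]
  have hKeq : LinearMap.ker (chi S (g⁻¹ * S.kt v₀ b'⁻¹ hiso * g) v₀) =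
      LinearMap.ker χ ⊔ Submodule.span F {e₁} := by
    apply le_antisymm
    · intro e he
      obtain ⟨c, hc⟩ := (hiff e).1 (LinearMap.mem_ker.1 he)
      rw [Submodule.mem_sup]
      refine ⟨e - c • e₁, ?_, c • e₁, Submodule.smul_mem _ _ (Submodule.mem_span_singleton_self e₁), by abel⟩
      rw [LinearMap.mem_ker, map_sub, map_smul, he₁, hc, sub_self]
    · apply sup_le
      · intro e he
        rw [LinearMap.mem_ker] at he
        exact LinearMap.mem_ker.2 ((hiff e).2 ⟨0, by rw [he, zero_smul]⟩)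
      · rw [Submodule.span_singleton_le_iff_mem]
        exact LinearMap.mem_ker.2 ((hiff e₁).2 ⟨1, by rw [he₁, one_smul]⟩)
  have he₁0 : e₁ ≠ 0 := by
    rintro rfl
    rw [map_zero] at he₁
    exact hφ₀0 he₁.symm
  have hinf : LinearMap.ker χ ⊓ Submodule.span F {e₁} = ⊥ := by
    rw [eq_bot_iff]
    rintro x ⟨hx1, hx2⟩
    obtain ⟨c, rfl⟩ := Submodule.mem_span_singleton.1 hx2
    have hx1' : χ (c • e₁) = 0 := LinearMap.mem_ker.1 hx1
    rw [map_smul, he₁] at hx1'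
    rcases smul_eq_zero.1 hx1' with h | h
    · rw [h, zero_smul]
      exact Submodule.zero_mem _
    · exact absurd h hφ₀0
  have hsum := Submodule.finrank_sup_add_finrank_inf_eq (LinearMap.ker χ) (Submodule.span F {e₁})
  rw [hinf, finrank_bot, add_zero, hker, finrank_span_singleton he₁0] at hsum
  rw [hKeq, hsum]

end Cfsg.Agent.Lib.Helper18.C3uLeaf
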