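import Mathlib
import Cfsg.Prelude.Def_Classical
import Cfsg.Prelude.Def_ClassicalGeometry
import Cfsg.Prelude.Def_GeometricClasses
import Cfsg.Agent.Lib.Helper5.SUMax
import Cfsg.Agent.Lib.Helper22.C3LDefs
import Cfsg.Agent.Lib.Helper22.C3LTool
import Cfsg.Agent.Lib.Helper16.C3uDefs
import Cfsg.Agent.Lib.Helper18.C3uAux
import Cfsg.Agent.Lib.Helper18.C3uR2core

/-!
Unitary C3 (cubic field) market of helper16: leaf Ca `exists_line_transvection` in CORE form (leaves F2 `tau_nondeg` and F4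
`exists_skew_mul_mem` as hypotheses).
-/

set_option autoImplicit false
set_option linter.unusedSectionVars false
set_option linter.unusedVariables false

namespace Cfsg.Agent.Lib.Helper18.C3uLeaf
open Cfsg Matrix Module Cfsg.Agent.Lib.Helper5.SpMax Cfsg.Agent.Lib.Helper5.SUMax
  Cfsg.Agent.Lib.Helper22.C3L Cfsg.Agent.Lib.Helper16.C3u

universe u
variable {F : Type u} [Field F] [Fintype F] {n q : ℕ} {E : Type u} [Field E] [Algebra F E]

local notation "𝕍" => (Fin n → F)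
local notation "𝕄" => Matrix (Fin n) (Fin n) F
local notation "ℍ" => (Cfsg.GU n F q ⊓ Cfsg.Geo.specialLinear (Fin n) F)

omit [Fintype F] in
lemma finrank_line_inf (S : KU n q F E) {v : 𝕍} (hv : v ≠ 0) (H : Submodule F 𝕍) :
    finrank F ↥(line S.ρ v ⊓ H) = finrank F ↥(H.comap (orb S.ρ v)) := by
  have h : line S.ρ v ⊓ H = (H.comap (orb S.ρ v)).map (orb S.ρ v) := by
    rw [Submodule.map_comap_eq]
    rfl
  rw [h]
  exact ((Submodule.equivMapOfInjective _ (orb_injective hv) _).finrank_eq).symm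

omit [Fintype F] in
lemma orb_apply' (S : KU n q F E) (v : 𝕍) (e : E) : orb S.ρ v e = act S.ρ e v := rfl

/-- Ca (core): an element of `M` inducing an `F`-transvection on the base line -/
theorem exists_line_transvection_core (S : KU n q F E) (hr3 : finrank F E = 3)
    (F2 : ∀ {a : E}, (∀ b, S.τ (a * b) = 0) → a = 0)
    (F4 : ∀ (B : Submodule F E), finrank F B = 2 → ∀ {φ : E}, φ ≠ 0 →
      ∃ b : E, b ≠ 0 ∧ S.st b = -b ∧ b * φ ∈ B)
    (M : Subgroup (GL (Fin n) F)) (hMS : M ≤ ℍ)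
    (hM : ∀ g ∈ ℍ, (∀ e : E, (g : 𝕄) * S.ρ e = S.ρ e * (g : 𝕄)) → g ∈ M)
    {v₀ : 𝕍} (hv₀ : v₀ ≠ 0) (hiso : S.fE v₀ v₀ = 0) {g : GL (Fin n) F} (hg : g ∈ M)
    (hadj : finrank F ↥(line S.ρ v₀ ⊓ img g (line S.ρ v₀)) = 2)
    (hnp : ¬ img g (line S.ρ v₀) ≤ S.hyp v₀) :
    ∃ (π : E) (ℓ : E →ₗ[F] F) (t : GL (Fin n) F), π ≠ 0 ∧ ℓ ≠ 0 ∧ ℓ π = 0 ∧ t ∈ M ∧
      ∀ e : E, (t : 𝕄) *ᵥ act S.ρ e v₀ = act S.ρ e v₀ + ℓ e • act S.ρ π v₀ := by
  have hfd : FiniteDimensional F E := Module.finite_of_finrank_pos (by omega)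
  have hGUinv : g⁻¹ ∈ Cfsg.GU n F q := (hMS (M.inv_mem hg)).1
  obtain ⟨φ, hφ⟩ : ∃ φ, φ = chi S g⁻¹ v₀ := ⟨_, rfl⟩
  have hφapp : ∀ e, φ e = S.fE (((g⁻¹ : GL (Fin n) F) : 𝕄) *ᵥ act S.ρ e v₀) v₀ := by
    intro e
    rw [hφ, chi_apply]
  -- vectors of `L₀ ∩ g L₀` are in the kernel
  have hK2 : (img g (line S.ρ v₀)).comap (orb S.ρ v₀) ≤ LinearMap.ker φ := by
    intro e he
    rw [Submodule.mem_comap, orb_apply'] at he
    obtain ⟨w, hw, hwe⟩ := mem_img.1 he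
    obtain ⟨e'', rfl⟩ := mem_line.1 hw
    rw [LinearMap.mem_ker, hφapp, ← hwe, inv_mul_mulVec, S.fE_act_left, hiso, mul_zero]
  have hK2dim : finrank F ↥((img g (line S.ρ v₀)).comap (orb S.ρ v₀)) = 2 := by
    rw [← finrank_line_inf S hv₀]
    exact hadj
  -- the kernel is not everything
  have hK1ne : LinearMap.ker φ ≠ ⊤ := by
    intro htop
    apply hnp
    intro y hy
    obtain ⟨w, hw, rfl⟩ := mem_img.1 hy
    obtain ⟨e', rfl⟩ := mem_line.1 hw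
    rw [S.mem_hyp, fE_eq_zero_iff S F2]
    intro e
    have he : φ e = 0 := by
      have : e ∈ LinearMap.ker φ := by rw [htop]; exact Submodule.mem_top
      exact LinearMap.mem_ker.1 this
    rw [hφapp] at he
    rw [← herm_map hGUinv, inv_mul_mulVec, S.form_act_left, S.herm _ v₀, he, map_zero, mul_zero,
      map_zero]
  have hkerdim : finrank F ↥(LinearMap.ker φ) = 2 := by
    have h1 := Submodule.finrank_mono hK2
    have h3 := Submodule.finrank_lt hK1ne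
    rw [hr3] at h3
    omega
  have hrange : finrank F ↥(LinearMap.range φ) = 1 := by
    have := LinearMap.finrank_range_add_finrank_ker φ
    rw [hkerdim, hr3] at this
    omega
  -- a generator of the range
  obtain ⟨e₂, he₂⟩ : ∃ e₂, φ e₂ ≠ 0 := by
    by_contra hcon
    push Not at hcon
    apply hK1ne
    rw [eq_top_iff]
    intro e _
    exact LinearMap.mem_ker.2 (hcon e)
  obtain ⟨φ₁, hφ₁⟩ : ∃ φ₁, φ₁ = φ e₂ := ⟨_, rfl⟩
  rw [← hφ₁] at he₂
  have hgen : ∀ e, ∃ c : F, φ e = c • φ₁ := by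
    intro e
    have h0 : (⟨φ₁, hφ₁ ▸ LinearMap.mem_range_self φ e₂⟩ : LinearMap.range φ) ≠ 0 := by
      intro h
      exact he₂ (congrArg Subtype.val h)
    obtain ⟨c, hc⟩ := (finrank_eq_one_iff_of_nonzero' _ h0).1 hrange ⟨φ e, LinearMap.mem_range_self φ e⟩
    exact ⟨c, (congrArg Subtype.val hc).symm⟩
  -- a functional with value 1 at `φ₁`
  obtain ⟨d, hd⟩ : ∃ d, S.τ (φ₁ * d) ≠ 0 := by
    by_contra hcon
    push Not at hcon
    exact he₂ (F2 hcon)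
  obtain ⟨ℓ, hℓ⟩ : ∃ ℓ : E →ₗ[F] F,
      ℓ = ((S.τ (φ₁ * d))⁻¹ • (S.τ.comp (LinearMap.mulRight F d))).comp φ := ⟨_, rfl⟩
  have hℓapp : ∀ e, ℓ e = (S.τ (φ₁ * d))⁻¹ * S.τ (φ e * d) := by
    intro e
    rw [hℓ]
    rfl
  have hφℓ : ∀ e, φ e = ℓ e • φ₁ := by
    intro e
    obtain ⟨c, hc⟩ := hgen e
    rw [hℓapp, hc, smul_mul_assoc, map_smul, smul_eq_mul, ← mul_assoc, mul_comm _ c, mul_assoc,
      inv_mul_cancel₀ hd, mul_one]
  have hℓne : ℓ ≠ 0 := by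
    intro h
    apply he₂
    rw [hφ₁, hφℓ e₂, h, LinearMap.zero_apply, zero_smul]
  -- the skew element
  have hB2dim : finrank F ↥((line S.ρ v₀).comap (iotaL S g v₀)) = 2 := by
    rw [← finrank_img_inf S g hv₀, inf_comm]
    exact hadj
  obtain ⟨b, hb0, hbskew, hbmem⟩ := F4 _ hB2dim he₂
  rw [Submodule.mem_comap, iotaL_apply] at hbmem
  obtain ⟨π, hπ⟩ := mem_line.1 hbmem
  have hπ0 : π ≠ 0 := by
    rintro rfl
    rw [act_zero] at hπ
    have h1 : act S.ρ (b * φ₁) v₀ = 0 := by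
      apply mulVec_inj g
      rw [← hπ, Matrix.mulVec_zero]
    rcases act_eq_zero S.ρ h1 with h | h
    · exact (mul_ne_zero hb0 he₂) h
    · exact hv₀ h
  have hℓπ : ℓ π = 0 := by
    have hmem : π ∈ (img g (line S.ρ v₀)).comap (orb S.ρ v₀) := by
      rw [Submodule.mem_comap, orb_apply', hπ]
      exact mulVec_mem_img (act_mem_line _ v₀)
    have h1 : φ π = 0 := LinearMap.mem_ker.1 (hK2 hmem)
    rw [hφℓ π] at h1
    rcases smul_eq_zero.1 h1 with h | h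
    · exact h
    · exact absurd h he₂
  have htM : S.kt v₀ b hiso ∈ M := kt_mem_M S M hM hiso hbskew
  refine ⟨π, ℓ, g * S.kt v₀ b hiso * g⁻¹, hπ0, hℓne, hℓπ,
    M.mul_mem (M.mul_mem hg htM) (M.inv_mem hg), ?_⟩
  intro e
  rw [Units.val_mul, Units.val_mul, ← Matrix.mulVec_mulVec, ← Matrix.mulVec_mulVec, S.kt_mulVec,
    Matrix.mulVec_add, mul_inv_mulVec, ← hφapp, hφℓ e, mul_smul_comm, act_smul, Matrix.mulVec_smul, hπ]

end Cfsg.Agent.Lib.Helper18.C3uLeaf
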