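import Mathlib
import Cfsg.Prelude.Def_Classical
import Cfsg.Prelude.Def_ClassicalGeometry
import Cfsg.Prelude.Def_GeometricClasses
import Cfsg.Agent.Lib.Helper5.SUMax
import Cfsg.Agent.Lib.Helper22.C3LDefs
import Cfsg.Agent.Lib.Helper22.C3LTool
import Cfsg.Agent.Lib.Helper16.C3uDefs
import Cfsg.Agent.Lib.Helper18.C3uAux

/-!
Unitary C3 (cubic field) market of helper16: leaf R1 `rank_one_step` in CORE form (leaf F3 `exists_skew_tau_ne` as a hypothesis).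
-/

set_option autoImplicit false
set_option linter.unusedSectionVars false
set_option linter.unusedVariables false

namespace Cfsg.Agent.Lib.Helper18.C3uLeaf
open Cfsg Matrix Module Cfsg.Agent.Lib.Helper5.SpMax Cfsg.Agent.Lib.Helper5.SUMax
  Cfsg.Agent.Lib.Helper22.C3L Cfsg.Agent.Lib.Helper16.C3u

universe u
variable {F : Type u} [Field F] [Fintype F] {n q : ℕ} {E : Type u} [Field E] [Algebra F E]

local notation "𝕍" => (Fin n → F)
local notation "𝕄" => Matrix (Fin n) (Fin n) F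
local notation "ℍ" => (Cfsg.GU n F q ⊓ Cfsg.Geo.specialLinear (Fin n) F)

/-- R1 (core): from `dim (g L₀ ∩ v₀^⊥) = 2` to two adjacent non-perpendicular lines -/
theorem rank_one_step_core (S : KU n q F E) (hr3 : finrank F E = 3)
    (F3 : ∀ {e₀ : E}, e₀ ≠ 0 → S.st e₀ = e₀ → ∃ a : E, S.st a = -a ∧ S.τ (a * e₀) ≠ 0)
    (M : Subgroup (GL (Fin n) F)) (hMS : M ≤ ℍ)
    (hM : ∀ g ∈ ℍ, (∀ e : E, (g : 𝕄) * S.ρ e = S.ρ e * (g : 𝕄)) → g ∈ M)
    {v₀ : 𝕍} (hv₀ : v₀ ≠ 0) (hiso : S.fE v₀ v₀ = 0) {g : GL (Fin n) F} (hg : g ∈ M)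
    (h2 : finrank F ↥(img g (line S.ρ v₀) ⊓ S.hyp v₀) = 2) :
    ∃ g' ∈ M, finrank F ↥(line S.ρ v₀ ⊓ img g' (line S.ρ v₀)) = 2 ∧
      ¬ img g' (line S.ρ v₀) ≤ S.hyp v₀ := by
  have hfd : FiniteDimensional F E := Module.finite_of_finrank_pos (by omega)
  have hker : finrank F ↥(LinearMap.ker (chi S g v₀)) = 2 := by
    rw [← finrank_img_inf_hyp S g hv₀]
    exact h2
  -- a vector of the image outside the hyperplane
  obtain ⟨e₁, he₁⟩ : ∃ e₁, chi S g v₀ e₁ ≠ 0 := by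
    by_contra hcon
    push Not at hcon
    have htop : LinearMap.ker (chi S g v₀) = ⊤ := by
      rw [eq_top_iff]
      intro e _
      exact LinearMap.mem_ker.2 (hcon e)
    rw [htop, finrank_top, hr3] at hker
    omega
  obtain ⟨ξ₁, hξ₁⟩ : ∃ ξ₁, ξ₁ = chi S g v₀ e₁ := ⟨_, rfl⟩
  rw [← hξ₁] at he₁
  have hstne : S.st ξ₁ ≠ 0 := by
    intro h
    apply he₁
    rw [← S.st_st ξ₁, h, map_zero]
  have hfix : S.st (ξ₁ * S.st ξ₁) = ξ₁ * S.st ξ₁ := by
    rw [map_mul, S.st_st, mul_comm]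
  obtain ⟨b, hb, hτ⟩ := F3 (mul_ne_zero he₁ hstne) hfix
  have htM : S.kt v₀ b hiso ∈ M := kt_mem_M S M hM hiso hb
  have hg'M : g⁻¹ * S.kt v₀ b hiso * g ∈ M := M.mul_mem (M.mul_mem (M.inv_mem hg) htM) hg
  have hGU : g ∈ Cfsg.GU n F q := (hMS hg).1
  -- the new image is not inside the hyperplane
  have hnot : ¬ img (g⁻¹ * S.kt v₀ b hiso * g) (line S.ρ v₀) ≤ S.hyp v₀ := by
    intro hle
    have hy := hle (mulVec_mem_img (g := g⁻¹ * S.kt v₀ b hiso * g) (act_mem_line e₁ v₀))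
    rw [S.mem_hyp] at hy
    have h0 : Cfsg.hermForm n F q
        (((g⁻¹ * S.kt v₀ b hiso * g : GL (Fin n) F) : 𝕄) *ᵥ act S.ρ e₁ v₀) (act S.ρ e₁ v₀) = 0 := by
      rw [S.form_act_right, hy, mul_zero, map_zero]
    rw [← herm_map hGU, conj_mulVec, herm_kt_left, herm_map hGU, herm_line_line S hiso, zero_add,
      ← chi_apply, ← hξ₁, mul_assoc] at h0
    exact hτ h0
  refine ⟨_, hg'M, ?_, hnot⟩
  rw [inf_comm, finrank_img_inf S _ hv₀]
  have hle : LinearMap.ker (chi S g v₀) ≤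
      (line S.ρ v₀).comap (iotaL S (g⁻¹ * S.kt v₀ b hiso * g) v₀) := by
    intro e he
    rw [LinearMap.mem_ker, chi_apply] at he
    rw [Submodule.mem_comap, iotaL_apply, conj_mulVec', kt_fix S hiso b he, inv_mul_mulVec]
    exact act_mem_line e v₀
  have hne : (line S.ρ v₀).comap (iotaL S (g⁻¹ * S.kt v₀ b hiso * g) v₀) ≠ ⊤ := by
    intro htop
    apply hnot
    intro y hy
    obtain ⟨w, hw, rfl⟩ := mem_img.1 hy
    obtain ⟨e, rfl⟩ := mem_line.1 hw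
    have hmem : e ∈ (line S.ρ v₀).comap (iotaL S (g⁻¹ * S.kt v₀ b hiso * g) v₀) := by
      rw [htop]
      exact Submodule.mem_top
    exact S.line_le_hyp hiso hmem
  have h1 := Submodule.finrank_mono hle
  have h3 := Submodule.finrank_lt hne
  rw [hr3] at h3
  omega

end Cfsg.Agent.Lib.Helper18.C3uLeaf
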