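import Mathlib
import Cfsg.Prelude.Def_Classical
import Cfsg.Prelude.Def_ClassicalGeometry
import Cfsg.Prelude.Def_GeometricClasses
import Cfsg.Agent.Lib.Helper5.SUMax
import Cfsg.Agent.Lib.Helper22.C3LDefs
import Cfsg.Agent.Lib.Helper22.C3LTool
import Cfsg.Agent.Lib.Helper16.C3uDefs
import Cfsg.Agent.Lib.Helper12.C3uF
import Cfsg.Agent.Lib.Helper19.C3uF4
import Cfsg.Agent.Lib.Helper18.C3uR1core
import Cfsg.Agent.Lib.Helper18.C3uR2core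
import Cfsg.Agent.Lib.Helper18.C3uCacore

/-!
Unitary C3 (cubic field) market of helper16: leaves **C3uR2 `rank_two_step`**, **C3uR1 `rank_one_step`**, **C3uCa
`exists_line_transvection`** with the EXACT signatures of `notes/C3u_leaves.lean` (cores in `C3uR1core`, `C3uR2core`, `C3uCacore`;
leaves F2/F3 of helper12 and F4 of helper19 wired).
-/

set_option autoImplicit false
set_option linter.unusedSectionVars false
set_option linter.unusedVariables false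

namespace Cfsg.Agent.Lib.Helper18.C3uLeaf
open Cfsg Matrix Module Cfsg.Agent.Lib.Helper5.SpMax Cfsg.Agent.Lib.Helper5.SUMax
  Cfsg.Agent.Lib.Helper22.C3L Cfsg.Agent.Lib.Helper16.C3u

universe u
variable {F : Type u} [Field F] [Fintype F] {n q : ℕ} {E : Type u} [Field E] [Algebra F E]

local notation "𝕍" => (Fin n → F)
local notation "𝕄" => Matrix (Fin n) (Fin n) F
local notation "ℍ" => (Cfsg.GU n F q ⊓ Cfsg.Geo.specialLinear (Fin n) F)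

/-- R2: from `dim (g L₀ ∩ v₀^⊥) = 1` to `dim = 2` -/
theorem rank_two_step (S : KU n q F E) (hF : Fintype.card F = q ^ 2) (hr3 : finrank F E = 3)
    (hn : 0 < n) (M : Subgroup (GL (Fin n) F)) (hMS : M ≤ ℍ)
    (hM : ∀ g ∈ ℍ, (∀ e : E, (g : 𝕄) * S.ρ e = S.ρ e * (g : 𝕄)) → g ∈ M)
    {v₀ : 𝕍} (hv₀ : v₀ ≠ 0) (hiso : S.fE v₀ v₀ = 0) {g : GL (Fin n) F} (hg : g ∈ M)
    (h1 : finrank F ↥(img g (line S.ρ v₀) ⊓ S.hyp v₀) = 1) :
    ∃ g' ∈ M, finrank F ↥(img g' (line S.ρ v₀) ⊓ S.hyp v₀) = 2 :=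
  rank_two_step_core S hF hr3 (fun h => Cfsg.Agent.Lib.Helper12.C3uLeaf.tau_nondeg S hF hn h)
    (fun B hB _ hφ => Cfsg.Agent.Lib.Helper19.C3uLeaf.exists_skew_mul_mem S hF hr3 B hB hφ)
    M hMS hM hv₀ hiso hg h1

/-- R1: from `dim (g L₀ ∩ v₀^⊥) = 2` to two adjacent non-perpendicular lines -/
theorem rank_one_step (S : KU n q F E) (hF : Fintype.card F = q ^ 2) (hr3 : finrank F E = 3)
    (hn : 0 < n) (M : Subgroup (GL (Fin n) F)) (hMS : M ≤ ℍ)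
    (hM : ∀ g ∈ ℍ, (∀ e : E, (g : 𝕄) * S.ρ e = S.ρ e * (g : 𝕄)) → g ∈ M)
    {v₀ : 𝕍} (hv₀ : v₀ ≠ 0) (hiso : S.fE v₀ v₀ = 0) {g : GL (Fin n) F} (hg : g ∈ M)
    (h2 : finrank F ↥(img g (line S.ρ v₀) ⊓ S.hyp v₀) = 2) :
    ∃ g' ∈ M, finrank F ↥(line S.ρ v₀ ⊓ img g' (line S.ρ v₀)) = 2 ∧
      ¬ img g' (line S.ρ v₀) ≤ S.hyp v₀ :=
  rank_one_step_core S hr3
    (fun he₀ hfix => Cfsg.Agent.Lib.Helper12.C3uLeaf.exists_skew_tau_ne S hF hn he₀ hfix)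
    M hMS hM hv₀ hiso hg h2

/-- Ca: an element of `M` inducing an `F`-transvection on the base line -/
theorem exists_line_transvection (S : KU n q F E) (hF : Fintype.card F = q ^ 2)
    (hr3 : finrank F E = 3) (hn : 0 < n) (M : Subgroup (GL (Fin n) F)) (hMS : M ≤ ℍ)
    (hM : ∀ g ∈ ℍ, (∀ e : E, (g : 𝕄) * S.ρ e = S.ρ e * (g : 𝕄)) → g ∈ M)
    {v₀ : 𝕍} (hv₀ : v₀ ≠ 0) (hiso : S.fE v₀ v₀ = 0) {g : GL (Fin n) F} (hg : g ∈ M)
    (hadj : finrank F ↥(line S.ρ v₀ ⊓ img g (line S.ρ v₀)) = 2)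
    (hnp : ¬ img g (line S.ρ v₀) ≤ S.hyp v₀) :
    ∃ (π : E) (ℓ : E →ₗ[F] F) (t : GL (Fin n) F), π ≠ 0 ∧ ℓ ≠ 0 ∧ ℓ π = 0 ∧ t ∈ M ∧
      ∀ e : E, (t : 𝕄) *ᵥ act S.ρ e v₀ = act S.ρ e v₀ + ℓ e • act S.ρ π v₀ :=
  exists_line_transvection_core S hr3
    (fun h => Cfsg.Agent.Lib.Helper12.C3uLeaf.tau_nondeg S hF hn h)
    (fun B hB _ hφ => Cfsg.Agent.Lib.Helper19.C3uLeaf.exists_skew_mul_mem S hF hr3 B hB hφ)
    M hMS hM hv₀ hiso hg hadj hnp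

end Cfsg.Agent.Lib.Helper18.C3uLeaf
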