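import Mathlib
import Cfsg.Agent.Lib.Helper13.SimDiag
import Cfsg.Agent.Lib.Helper13.TwoRankGL

set_option autoImplicit false

/-!
# Involutions of `PSL(3, F)`, `F` of odd characteristic: `C(t) ≅ GL(2, F) / Z`
-/

namespace Cfsg.Agent.Lib.Helper18.PSL3Invol

open Matrix

variable {F : Type*} [Field F]

/-- `diag(-1, -1, 1)` -/
def dMat : Matrix (Fin 3) (Fin 3) F := Matrix.diagonal ![-1, -1, 1]

theorem det_dMat : (dMat : Matrix (Fin 3) (Fin 3) F).det = 1 := by
  simp [dMat, Matrix.det_diagonal, Fin.prod_univ_three]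

/-- `diag(-1, -1, 1)` in `SL(3, F)` -/
def dSL : SpecialLinearGroup (Fin 3) F := ⟨dMat, det_dMat⟩

/-- the block matrix `diag(A, d)` -/
def embMat (A : Matrix (Fin 2) (Fin 2) F) (d : F) : Matrix (Fin 3) (Fin 3) F :=
  !![A 0 0, A 0 1, 0; A 1 0, A 1 1, 0; 0, 0, d]

theorem det_embMat (A : Matrix (Fin 2) (Fin 2) F) (d : F) : (embMat A d).det = A.det * d := by
  simp [embMat, Matrix.det_fin_three, Matrix.det_fin_two]
  ring

theorem embMat_mul (A B : Matrix (Fin 2) (Fin 2) F) (d e : F) :
    embMat A d * embMat B e = embMat (A * B) (d * e) := by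
  ext i j
  fin_cases i <;> fin_cases j <;>
    simp [embMat, Matrix.mul_apply, Fin.sum_univ_three, Fin.sum_univ_two]

theorem embMat_one : embMat (1 : Matrix (Fin 2) (Fin 2) F) 1 = 1 := by
  ext i j
  fin_cases i <;> fin_cases j <;> simp [embMat]

theorem embMat_injective (A B : Matrix (Fin 2) (Fin 2) F) (d e : F)
    (h : embMat A d = embMat B e) : A = B ∧ d = e := by
  refine ⟨?_, ?_⟩
  · ext i j
    fin_cases i <;> fin_cases j
    · simpa [embMat] using congrFun (congrFun h 0) 0
    · simpa [embMat] using congrFun (congrFun h 0) 1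
    · simpa [embMat] using congrFun (congrFun h 1) 0
    · simpa [embMat] using congrFun (congrFun h 1) 1
  · simpa [embMat] using congrFun (congrFun h 2) 2

theorem det_ne_zero_of_GL (A : GL (Fin 2) F) : (A : Matrix (Fin 2) (Fin 2) F).det ≠ 0 :=
  ((Matrix.isUnit_iff_isUnit_det _).mp A.isUnit).ne_zero

/-- the embedding `A ↦ diag(A, (det A)⁻¹)` of `GL(2, F)` into `SL(3, F)` -/
def emb : GL (Fin 2) F →* SpecialLinearGroup (Fin 3) F where
  toFun A := ⟨embMat (A : Matrix (Fin 2) (Fin 2) F) ((A : Matrix (Fin 2) (Fin 2) F).det)⁻¹, by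
    rw [det_embMat, mul_inv_cancel₀ (det_ne_zero_of_GL A)]⟩
  map_one' := by
    apply Subtype.ext
    simp [embMat_one]
  map_mul' A B := by
    apply Subtype.ext
    show embMat ((A * B : GL (Fin 2) F) : Matrix (Fin 2) (Fin 2) F) _ = embMat _ _ * embMat _ _
    rw [embMat_mul, Units.val_mul, Matrix.det_mul, _root_.mul_inv]

theorem emb_val (A : GL (Fin 2) F) : ((emb A : SpecialLinearGroup (Fin 3) F) :
    Matrix (Fin 3) (Fin 3) F) = embMat (A : Matrix (Fin 2) (Fin 2) F)
      ((A : Matrix (Fin 2) (Fin 2) F).det)⁻¹ := rfl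

theorem emb_injective : Function.Injective (emb : GL (Fin 2) F →* SpecialLinearGroup (Fin 3) F) := by
  intro A B h
  have := congrArg Subtype.val h
  rw [emb_val, emb_val] at this
  exact Units.ext (embMat_injective _ _ _ _ this).1

theorem embMat_comm_dMat (A : Matrix (Fin 2) (Fin 2) F) (d : F) :
    embMat A d * dMat = dMat * embMat A d := by
  ext i j
  rw [dMat, Matrix.mul_diagonal, Matrix.diagonal_mul]
  fin_cases i <;> fin_cases j <;> simp [embMat]

theorem emb_comm (A : GL (Fin 2) F) : emb A * dSL = dSL * emb A := by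
  apply Subtype.ext
  exact embMat_comm_dMat _ _

/-- matrices commuting with `diag(-1,-1,1)` are block diagonal -/
theorem eq_embMat_of_comm (h2 : (2 : F) ≠ 0) (M : Matrix (Fin 3) (Fin 3) F)
    (h : M * dMat = dMat * M) :
    M = embMat (!![M 0 0, M 0 1; M 1 0, M 1 1]) (M 2 2) := by
  have key : ∀ i j, M i j * (![-1, -1, 1] : Fin 3 → F) j = (![-1, -1, 1] : Fin 3 → F) i * M i j := by
    intro i j
    have := congrFun (congrFun h i) j
    rwa [dMat, Matrix.mul_diagonal, Matrix.diagonal_mul] at this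
  have hz : ∀ a : F, a * 1 = -1 * a → a = 0 := by
    intro a ha
    have : (2 : F) * a = 0 := by linear_combination ha
    rcases mul_eq_zero.mp this with h' | h'
    · exact absurd h' h2
    · exact h'
  have hz' : ∀ a : F, a * -1 = 1 * a → a = 0 := by
    intro a ha
    apply hz; linear_combination -ha
  have h02 := hz _ (by simpa using key 0 2)
  have h12 := hz _ (by simpa using key 1 2)
  have h20 := hz' _ (by simpa using key 2 0)
  have h21 := hz' _ (by simpa using key 2 1)
  ext i j
  fin_cases i <;> fin_cases j <;> simp [embMat, h02, h12, h20, h21]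

/-- the centralizer of `diag(-1,-1,1)` in `SL(3, F)` is the image of `emb` -/
theorem exists_emb_eq_of_comm (h2 : (2 : F) ≠ 0) (g : SpecialLinearGroup (Fin 3) F)
    (h : g * dSL = dSL * g) : ∃ A : GL (Fin 2) F, emb A = g := by
  have hM := eq_embMat_of_comm h2 (g : Matrix (Fin 3) (Fin 3) F) (congrArg Subtype.val h)
  have hdet : (!![g.1 0 0, g.1 0 1; g.1 1 0, g.1 1 1] : Matrix (Fin 2) (Fin 2) F).det * g.1 2 2 = 1 := by
    rw [← det_embMat, ← hM]; exact g.2
  have hne : (!![g.1 0 0, g.1 0 1; g.1 1 0, g.1 1 1] : Matrix (Fin 2) (Fin 2) F).det ≠ 0 := by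
    intro h0; rw [h0, zero_mul] at hdet; exact zero_ne_one hdet
  refine ⟨Matrix.GeneralLinearGroup.mkOfDetNeZero _ hne, ?_⟩
  apply Subtype.ext
  rw [emb_val]
  conv_rhs => rw [hM]
  congr 1
  exact inv_eq_of_mul_eq_one_right hdet

open Module in
/-- an involution `T ≠ 1` of `SL(3, F)` is conjugate to `diag(-1,-1,1)` -/
theorem exists_conj_dSL (h2 : (2 : F) ≠ 0) (T : SpecialLinearGroup (Fin 3) F) (hT : T * T = 1)
    (hT1 : T ≠ 1) : ∃ P : SpecialLinearGroup (Fin 3) F, P * dSL * P⁻¹ = T := by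
  classical
  have hf : (Matrix.toLin' T.1 : Module.End F (Fin 3 → F)) * Matrix.toLin' T.1 = 1 := by
    rw [Module.End.mul_eq_comp, ← Matrix.toLin'_mul]
    have : T.1 * T.1 = 1 := congrArg Subtype.val hT
    rw [this, Matrix.toLin'_one]; rfl
  obtain ⟨b, c, hbc⟩ := Cfsg.Agent.Lib.Helper13.exists_common_eigenbasis h2
    (fun _ : Unit => (Matrix.toLin' T.1 : Module.End F (Fin 3 → F)))
    (fun _ _ => Commute.refl _) (fun _ => hf)
  have h3 : finrank F (Fin 3 → F) = 3 := Module.finrank_fin_fun F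
  -- reindex to `Fin 3`
  obtain ⟨b3, c3, hb3⟩ : ∃ (b3 : Basis (Fin 3) F (Fin 3 → F)) (c3 : Fin 3 → F),
      ∀ j, Matrix.toLin' T.1 (b3 j) = c3 j • b3 j := by
    refine ⟨b.reindex (finCongr h3), fun j => c () ((finCongr h3).symm j), fun j => ?_⟩
    rw [Basis.reindex_apply]
    exact hbc () _
  have hc : ∀ j, c3 j = 1 ∨ c3 j = -1 := fun j =>
    Cfsg.Agent.Lib.Helper13.eigenvalue_of_involution hf (b3.ne_zero j) (hb3 j)
  have hprod : c3 0 * c3 1 * c3 2 = 1 := by
    have := Cfsg.Agent.Lib.Helper13.det_eq_prod_of_eigenbasis b3 (Matrix.toLin' T.1) c3 hb3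
    rw [LinearMap.det_toLin', T.2, Fin.prod_univ_three] at this
    exact this.symm
  have hne1 : (1 : F) ≠ -1 := by
    intro h
    apply h2
    linear_combination h
  -- the index with eigenvalue `1`
  obtain ⟨k, hk, hk'⟩ : ∃ k : Fin 3, c3 k = 1 ∧ ∀ j, j ≠ k → c3 j = -1 := by
    have hnot : ¬ (c3 0 = 1 ∧ c3 1 = 1 ∧ c3 2 = 1) := by
      rintro ⟨e0, e1, e2⟩
      apply hT1
      apply Subtype.ext
      have : Matrix.toLin' T.1 = Matrix.toLin' (1 : Matrix (Fin 3) (Fin 3) F) := by
        apply b3.ext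
        intro j
        rw [hb3, Matrix.toLin'_one]
        fin_cases j
        · simp [e0]
        · simp [e1]
        · simp [e2]
      exact Matrix.toLin'.injective this
    rcases hc 0 with e0 | e0 <;> rcases hc 1 with e1 | e1 <;> rcases hc 2 with e2 | e2
    · exact absurd ⟨e0, e1, e2⟩ hnot
    · exfalso; rw [e0, e1, e2] at hprod; apply hne1; linear_combination -hprod
    · exfalso; rw [e0, e1, e2] at hprod; apply hne1; linear_combination -hprod
    · refine ⟨0, e0, fun j hj => ?_⟩
      fin_cases j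
      · exact absurd rfl hj
      · exact e1
      · exact e2
    · exfalso; rw [e0, e1, e2] at hprod; apply hne1; linear_combination -hprod
    · refine ⟨1, e1, fun j hj => ?_⟩
      fin_cases j
      · exact e0
      · exact absurd rfl hj
      · exact e2
    · refine ⟨2, e2, fun j hj => ?_⟩
      fin_cases j
      · exact e0
      · exact e1
      · exact absurd rfl hj
    · exfalso; rw [e0, e1, e2] at hprod; apply hne1; linear_combination -hprod
  -- reorder
  have hd : ∀ j : Fin 3, c3 (Equiv.swap k 2 j) = (![-1, -1, 1] : Fin 3 → F) j := by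
    intro j
    by_cases hj : j = 2
    · subst hj
      rw [Equiv.swap_apply_right, hk]; rfl
    · have h1 : Equiv.swap k 2 j ≠ k := by
        intro e
        apply hj
        have := congrArg (Equiv.swap k 2) e
        rwa [Equiv.swap_apply_self, Equiv.swap_apply_left] at this
      rw [hk' _ h1]
      fin_cases j
      · rfl
      · rfl
      · exact absurd rfl hj
  -- the matrix of eigenvectors
  have hP₀ : ((Pi.basisFun F (Fin 3)).toMatrix (fun j => b3 (Equiv.swap k 2 j))).det ≠ 0 := by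
    have hb' : (fun j => b3 (Equiv.swap k 2 j)) = ⇑(b3.reindex (Equiv.swap k 2).symm) := by
      ext j : 1
      rw [Basis.reindex_apply, Equiv.symm_symm]
    rw [hb', ← Basis.det_apply]
    exact ((Pi.basisFun F (Fin 3)).isUnit_det _).ne_zero
  have hTP : T.1 * (Pi.basisFun F (Fin 3)).toMatrix (fun j => b3 (Equiv.swap k 2 j)) =
      (Pi.basisFun F (Fin 3)).toMatrix (fun j => b3 (Equiv.swap k 2 j)) * dMat := by
    ext i j
    rw [dMat, Matrix.mul_diagonal, Matrix.mul_apply]
    simp only [Basis.toMatrix_apply, Pi.basisFun_repr]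
    have := congrFun (hb3 (Equiv.swap k 2 j)) i
    rw [Matrix.toLin'_apply, Matrix.mulVec, dotProduct, hd] at this
    rw [this, Pi.smul_apply, smul_eq_mul, mul_comm]
  -- adjust the determinant
  have hΔdet : ((Pi.basisFun F (Fin 3)).toMatrix (fun j => b3 (Equiv.swap k 2 j)) *
      Matrix.diagonal ![1, 1, (((Pi.basisFun F (Fin 3)).toMatrix
        (fun j => b3 (Equiv.swap k 2 j))).det)⁻¹]).det = 1 := by
    rw [Matrix.det_mul, Matrix.det_diagonal, Fin.prod_univ_three]
    simp [mul_inv_cancel₀ hP₀]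
  obtain ⟨P, hP⟩ : ∃ P : SpecialLinearGroup (Fin 3) F, P.1 =
      (Pi.basisFun F (Fin 3)).toMatrix (fun j => b3 (Equiv.swap k 2 j)) *
      Matrix.diagonal ![1, 1, (((Pi.basisFun F (Fin 3)).toMatrix
        (fun j => b3 (Equiv.swap k 2 j))).det)⁻¹] := ⟨⟨_, hΔdet⟩, rfl⟩
  refine ⟨P, ?_⟩
  rw [mul_inv_eq_iff_eq_mul]
  have key : P.1 * dMat = T.1 * P.1 := by
    rw [hP, ← Matrix.mul_assoc, hTP, Matrix.mul_assoc, Matrix.mul_assoc, dMat,
      Matrix.diagonal_mul_diagonal, Matrix.diagonal_mul_diagonal]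
    congr 2
    ext j
    fin_cases j <;> simp
  exact Subtype.ext key

section psl

open Subgroup

theorem trace_dMat : Matrix.trace (dMat : Matrix (Fin 3) (Fin 3) F) = -1 := by
  simp [dMat, Matrix.trace, Fin.sum_univ_three]

/-- the map `GL(2, F) → PSL(3, F)` -/
def psi : GL (Fin 2) F →* Matrix.ProjectiveSpecialLinearGroup (Fin 3) F :=
  (QuotientGroup.mk' (center (SpecialLinearGroup (Fin 3) F))).comp emb

theorem psi_apply (A : GL (Fin 2) F) :
    psi A = (QuotientGroup.mk (emb A) : Matrix.ProjectiveSpecialLinearGroup (Fin 3) F) := rfl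

theorem inv_val_mul_val (g : SpecialLinearGroup (Fin 3) F) :
    (g⁻¹ : SpecialLinearGroup (Fin 3) F).1 * g.1 = 1 := by
  have := congrArg Subtype.val (inv_mul_cancel g)
  exact this

theorem val_mul_inv_val (g : SpecialLinearGroup (Fin 3) F) :
    g.1 * (g⁻¹ : SpecialLinearGroup (Fin 3) F).1 = 1 := by
  have := congrArg Subtype.val (mul_inv_cancel g)
  exact this

/-- the image of `psi` is the centralizer of the image of `diag(-1,-1,1)` -/
theorem psi_range (h2 : (2 : F) ≠ 0) :
    (psi : GL (Fin 2) F →* _).range = centralizer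
      {(QuotientGroup.mk dSL : Matrix.ProjectiveSpecialLinearGroup (Fin 3) F)} := by
  ext x
  rw [mem_centralizer_iff]
  constructor
  · rintro ⟨A, rfl⟩ y hy
    rw [Set.mem_singleton_iff] at hy
    subst hy
    rw [psi_apply, ← QuotientGroup.mk_mul, ← QuotientGroup.mk_mul, emb_comm]
  · intro hx
    have h := hx _ (Set.mem_singleton _)
    obtain ⟨g, rfl⟩ := QuotientGroup.mk_surjective x
    rw [← QuotientGroup.mk_mul, ← QuotientGroup.mk_mul, QuotientGroup.eq] at h
    obtain ⟨ω, -, hω⟩ := Matrix.SpecialLinearGroup.mem_center_iff.mp h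
    -- `g D = D g c` with `c` the scalar `ω`
    have e1 : g * dSL = dSL * g * ((dSL * g)⁻¹ * (g * dSL)) := by group
    have e2' : g.1 * dMat = dMat * g.1 *
        ((dSL * g)⁻¹ * (g * dSL) : SpecialLinearGroup (Fin 3) F).1 := congrArg Subtype.val e1
    have e2 : g.1 * dMat = ω • (dMat * g.1) := by
      rw [e2', ← hω, Matrix.scalar_apply, ← Matrix.smul_one_eq_diagonal, Matrix.mul_smul,
        Matrix.mul_one]
    have e3 : Matrix.trace (dMat : Matrix (Fin 3) (Fin 3) F) =
        ω * Matrix.trace (dMat : Matrix (Fin 3) (Fin 3) F) := by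
      have h1 : Matrix.trace (g.1 * dMat * (g⁻¹ : SpecialLinearGroup (Fin 3) F).1) =
          Matrix.trace (dMat : Matrix (Fin 3) (Fin 3) F) := by
        rw [Matrix.trace_mul_cycle, inv_val_mul_val, Matrix.one_mul]
      have h2 : g.1 * dMat * (g⁻¹ : SpecialLinearGroup (Fin 3) F).1 = ω • dMat := by
        rw [e2, Matrix.smul_mul, Matrix.mul_assoc, val_mul_inv_val, Matrix.mul_one]
      rw [h2, Matrix.trace_smul, smul_eq_mul] at h1
      exact h1.symm
    rw [trace_dMat] at e3
    have hω1 : ω = 1 := by linear_combination e3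
    have hc : (dSL * g)⁻¹ * (g * dSL) = 1 := by
      apply Subtype.ext
      rw [← hω, hω1]
      simp
    have hcomm : g * dSL = dSL * g := by
      rw [e1, hc, mul_one]
    obtain ⟨A, rfl⟩ := exists_emb_eq_of_comm h2 g hcomm
    exact ⟨A, rfl⟩

/-- scalar matrices in `GL(2, F)` -/
def sc : Fˣ →* GL (Fin 2) F := Units.map (Matrix.scalar (Fin 2)).toMonoidHom

theorem sc_val (r : Fˣ) : ((sc r : GL (Fin 2) F) : Matrix (Fin 2) (Fin 2) F) =
    Matrix.scalar (Fin 2) (r : F) := rfl

theorem sc_injective : Function.Injective (sc : Fˣ →* GL (Fin 2) F) := by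
  intro a b h
  have := congrArg (fun A : GL (Fin 2) F => (A : Matrix (Fin 2) (Fin 2) F) 0 0) h
  simp only [sc_val, Matrix.scalar_apply, Matrix.diagonal_apply_eq] at this
  exact Units.ext this

theorem psi_ker : (psi : GL (Fin 2) F →* _).ker = (powMonoidHom 3 : Fˣ →* Fˣ).ker.map sc := by
  ext A
  rw [MonoidHom.mem_ker, psi_apply, QuotientGroup.eq_one_iff, Matrix.SpecialLinearGroup.mem_center_iff,
    mem_map]
  constructor
  · rintro ⟨r, hr3, hr⟩
    rw [Fintype.card_fin] at hr3
    rw [emb_val] at hr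
    have hr0 : r ≠ 0 := by
      rintro rfl
      rw [zero_pow (by norm_num)] at hr3
      exact zero_ne_one hr3
    have h00 := congrFun (congrFun hr 0) 0
    have h01 := congrFun (congrFun hr 0) 1
    have h10 := congrFun (congrFun hr 1) 0
    have h11 := congrFun (congrFun hr 1) 1
    simp [embMat, Matrix.scalar_apply] at h00 h01 h10 h11
    refine ⟨Units.mk0 r hr0, ?_, ?_⟩
    · rw [MonoidHom.mem_ker, powMonoidHom_apply]
      exact Units.ext (by simpa using hr3)
    · apply Units.ext
      rw [sc_val]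
      ext i j
      fin_cases i <;> fin_cases j <;> simp [Matrix.scalar_apply, ← h00, ← h01, ← h10, ← h11]
  · rintro ⟨r, hr, rfl⟩
    rw [MonoidHom.mem_ker, powMonoidHom_apply] at hr
    have hr3 : (r : F) ^ 3 = 1 := by
      have := congrArg Units.val hr
      simpa using this
    refine ⟨(r : F), by rw [Fintype.card_fin]; exact hr3, ?_⟩
    rw [emb_val, sc_val]
    have hdet : ((Matrix.scalar (Fin 2)) (r : F)).det⁻¹ = (r : F) := by
      rw [Matrix.scalar_apply, Matrix.det_diagonal, Fin.prod_univ_two]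
      apply inv_eq_of_mul_eq_one_left
      rw [← hr3]; ring
    rw [hdet]
    ext i j
    fin_cases i <;> fin_cases j <;> simp [embMat, Matrix.scalar_apply]

/-- lift an involution of `PSL(3, F)` to an involution of `SL(3, F)` -/
theorem exists_lift (t : Matrix.ProjectiveSpecialLinearGroup (Fin 3) F) (ht : orderOf t = 2) :
    ∃ T : SpecialLinearGroup (Fin 3) F,
      (QuotientGroup.mk T : Matrix.ProjectiveSpecialLinearGroup (Fin 3) F) = t ∧ T * T = 1 ∧
        T ≠ 1 := by
  obtain ⟨T₀, rfl⟩ := QuotientGroup.mk_surjective t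
  have ht2 : (QuotientGroup.mk T₀ : Matrix.ProjectiveSpecialLinearGroup (Fin 3) F) *
      QuotientGroup.mk T₀ = 1 := by
    rw [← pow_two, ← ht]; exact pow_orderOf_eq_one _
  rw [← QuotientGroup.mk_mul, QuotientGroup.eq_one_iff] at ht2
  obtain ⟨ω, hω3, hω⟩ := Matrix.SpecialLinearGroup.mem_center_iff.mp ht2
  rw [Fintype.card_fin] at hω3
  have hΩ3 : (T₀ * T₀) * (T₀ * T₀) * (T₀ * T₀) = 1 := by
    have h1 : ((T₀ * T₀) * (T₀ * T₀) * (T₀ * T₀) : SpecialLinearGroup (Fin 3) F).1 =
        (T₀ * T₀ : SpecialLinearGroup (Fin 3) F).1 * (T₀ * T₀ : SpecialLinearGroup (Fin 3) F).1 *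
          (T₀ * T₀ : SpecialLinearGroup (Fin 3) F).1 := rfl
    apply Subtype.ext
    rw [h1, ← hω, ← map_mul, ← map_mul, ← pow_two, ← pow_succ, hω3, map_one]
    rfl
  have hmk : (QuotientGroup.mk (T₀ * T₀) : Matrix.ProjectiveSpecialLinearGroup (Fin 3) F) = 1 :=
    (QuotientGroup.eq_one_iff _).mpr ht2
  refine ⟨T₀ * (T₀ * T₀), ?_, ?_, ?_⟩
  · rw [QuotientGroup.mk_mul, hmk, mul_one]
  · have hc := mem_center_iff.mp ht2 T₀
    calc T₀ * (T₀ * T₀) * (T₀ * (T₀ * T₀)) = (T₀ * T₀) * (T₀ * T₀) * (T₀ * T₀) := by group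
      _ = 1 := hΩ3
  · intro h
    have h1 : (QuotientGroup.mk T₀ : Matrix.ProjectiveSpecialLinearGroup (Fin 3) F) = 1 := by
      have := congrArg (QuotientGroup.mk :
        _ → Matrix.ProjectiveSpecialLinearGroup (Fin 3) F) h
      rwa [QuotientGroup.mk_mul, hmk, mul_one, QuotientGroup.mk_one] at this
    rw [h1, orderOf_one] at ht
    omega

theorem two_ne_zero_of_odd_card [Fintype F] (hF : Odd (Fintype.card F)) : (2 : F) ≠ 0 := by
  intro h
  have h1 : ringChar F = 2 := CharP.ringChar_of_prime_eq_zero Nat.prime_two (by exact_mod_cast h)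
  have h2 := FiniteField.even_card_of_char_two h1
  rcases hF with ⟨k, hk⟩
  omega

/-- the centralizer of an involution of `PSL(3, F)`, `|F|` odd -/
theorem main [Fintype F] (hF : Odd (Fintype.card F))
    (t : Matrix.ProjectiveSpecialLinearGroup (Fin 3) F) (ht : orderOf t = 2) :
    ∃ (Z : Subgroup (GL (Fin 2) F)) (_ : Z.Normal), Z ≤ center (GL (Fin 2) F) ∧
      Nat.card Z = Nat.gcd (Fintype.card F - 1) 3 ∧
      Nonempty (↥(centralizer ({t} : Set (Matrix.ProjectiveSpecialLinearGroup (Fin 3) F))) ≃*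
        GL (Fin 2) F ⧸ Z) := by
  have h2 := two_ne_zero_of_odd_card hF
  obtain ⟨T, hTt, hTT, hT1⟩ := exists_lift t ht
  obtain ⟨P, hP⟩ := exists_conj_dSL h2 T hTT hT1
  have ht' : t = (QuotientGroup.mk P : Matrix.ProjectiveSpecialLinearGroup (Fin 3) F) *
      QuotientGroup.mk dSL * (QuotientGroup.mk P)⁻¹ := by
    rw [← hTt, ← hP, QuotientGroup.mk_mul, QuotientGroup.mk_mul, QuotientGroup.mk_inv]
  have hker : ((MulAut.conj (QuotientGroup.mk P :
      Matrix.ProjectiveSpecialLinearGroup (Fin 3) F)).toMonoidHom.comp psi).ker = psi.ker := by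
    ext A
    rw [MonoidHom.mem_ker, MonoidHom.mem_ker, MonoidHom.comp_apply, MulEquiv.coe_toMonoidHom,
      MulEquiv.map_eq_one_iff]
  have hrange : ((MulAut.conj (QuotientGroup.mk P :
      Matrix.ProjectiveSpecialLinearGroup (Fin 3) F)).toMonoidHom.comp psi).range =
      centralizer {t} := by
    ext x
    rw [mem_centralizer_iff]
    constructor
    · rintro ⟨A, rfl⟩ y hy
      rw [Set.mem_singleton_iff] at hy
      subst hy
      have hA : (QuotientGroup.mk dSL : Matrix.ProjectiveSpecialLinearGroup (Fin 3) F) * psi A =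
          psi A * QuotientGroup.mk dSL := by
        have : psi A ∈ (psi : GL (Fin 2) F →* _).range := ⟨A, rfl⟩
        rw [psi_range h2, mem_centralizer_iff] at this
        exact this _ (Set.mem_singleton _)
      rw [MonoidHom.comp_apply, MulEquiv.coe_toMonoidHom, MulAut.conj_apply]
      conv_lhs => rw [ht']
      conv_rhs => rw [ht']
      calc (QuotientGroup.mk P : Matrix.ProjectiveSpecialLinearGroup (Fin 3) F) *
            QuotientGroup.mk dSL * (QuotientGroup.mk P)⁻¹ *
            (QuotientGroup.mk P * psi A * (QuotientGroup.mk P)⁻¹)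
          = QuotientGroup.mk P * (QuotientGroup.mk dSL * psi A) * (QuotientGroup.mk P)⁻¹ := by
            group
        _ = QuotientGroup.mk P * (psi A * QuotientGroup.mk dSL) * (QuotientGroup.mk P)⁻¹ := by
            rw [hA]
        _ = _ := by group
    · intro hx
      have h := hx _ (Set.mem_singleton _)
      have h3 : (QuotientGroup.mk P : Matrix.ProjectiveSpecialLinearGroup (Fin 3) F)⁻¹ * x *
          QuotientGroup.mk P ∈ (psi : GL (Fin 2) F →* _).range := by
        rw [psi_range h2, mem_centralizer_iff]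
        intro y hy
        rw [Set.mem_singleton_iff] at hy
        subst hy
        have e1 : (QuotientGroup.mk dSL : Matrix.ProjectiveSpecialLinearGroup (Fin 3) F) =
            (QuotientGroup.mk P)⁻¹ * t * QuotientGroup.mk P := by
          rw [ht']; group
        rw [e1]
        calc (QuotientGroup.mk P : Matrix.ProjectiveSpecialLinearGroup (Fin 3) F)⁻¹ * t *
              QuotientGroup.mk P * ((QuotientGroup.mk P)⁻¹ * x * QuotientGroup.mk P)
            = (QuotientGroup.mk P)⁻¹ * (t * x) * QuotientGroup.mk P := by group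
          _ = (QuotientGroup.mk P)⁻¹ * (x * t) * QuotientGroup.mk P := by rw [h]
          _ = _ := by group
      obtain ⟨A, hA⟩ := h3
      refine ⟨A, ?_⟩
      rw [MonoidHom.comp_apply, MulEquiv.coe_toMonoidHom, MulAut.conj_apply, hA]
      group
  refine ⟨_, MonoidHom.normal_ker ((MulAut.conj (QuotientGroup.mk P :
      Matrix.ProjectiveSpecialLinearGroup (Fin 3) F)).toMonoidHom.comp psi), ?_, ?_, ⟨?_⟩⟩
  · rw [hker, psi_ker]
    rintro _ ⟨r, -, rfl⟩
    rw [mem_center_iff]
    intro B
    apply Units.ext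
    rw [Units.val_mul, Units.val_mul, sc_val]
    exact ((Matrix.scalar_commute (r : F) (fun r' => Commute.all _ r')
      (B : Matrix (Fin 2) (Fin 2) F)).eq).symm
  · rw [hker, psi_ker, card_map_of_injective sc_injective, IsCyclic.card_powMonoidHom_ker,
      Nat.card_units, Nat.card_eq_fintype_card]
  · exact (MulEquiv.subgroupCongr hrange.symm).trans
      (QuotientGroup.quotientKerEquivRange _).symm

end psl

end Cfsg.Agent.Lib.Helper18.PSL3Invol
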