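import Mathlib
import Cfsg.Prelude
import Cfsg.Agent.Lib.Helper18.Wreathed
import Cfsg.Agent.Lib.Helper18.QuasiDihedral

/-!
# Transport of wreathed / quasi-dihedral data along isomorphisms

`IsWr` and `IsQD` are invariant under group isomorphisms; a Sylow subgroup of `G` contained in a
subgroup `C` gives a Sylow subgroup of `C`, with the obvious isomorphism; a normal subgroup of
`2`-power index `> 1` yields a subgroup of index two.
-/

set_option autoImplicit false

namespace Cfsg.Agent.Lib.Helper18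

open Subgroup

theorem IsWr.map_equiv {S S' : Type*} [Group S] [Group S'] {m : ℕ} {x y z : S}
    (h : IsWr S m x y z) (e : S ≃* S') : IsWr S' m (e x) (e y) (e z) where
  card := by rw [← h.card]; exact (Nat.card_congr e.toEquiv).symm
  hx := by rw [← h.hx]; exact MulEquiv.orderOf_eq e x
  comm := by rw [← map_mul, ← map_mul, h.comm]
  disj := by
    have h1 : zpowers (e x) = (zpowers x).map e.toMonoidHom := by
      rw [MonoidHom.map_zpowers]; rfl
    have h2 : zpowers (e y) = (zpowers y).map e.toMonoidHom := by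
      rw [MonoidHom.map_zpowers]; rfl
    rw [h1, h2, ← Subgroup.map_inf _ _ _ e.injective, h.disj, Subgroup.map_bot]
  hz := by rw [← h.hz]; exact MulEquiv.orderOf_eq e z
  rel := by rw [← map_inv, ← map_mul, ← map_mul, h.rel]

theorem IsQD.map_equiv {S S' : Type*} [Group S] [Group S'] {m : ℕ} {x y : S}
    (h : IsQD S m x y) (e : S ≃* S') : IsQD S' m (e x) (e y) where
  card := by rw [← h.card]; exact (Nat.card_congr e.toEquiv).symm
  hx := by rw [← h.hx]; exact MulEquiv.orderOf_eq e x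
  hy := by rw [← h.hy]; exact MulEquiv.orderOf_eq e y
  rel := by rw [← map_inv, ← map_mul, ← map_mul, h.rel, map_pow]

theorem isWreathed_of_mulEquiv {S S' : Type*} [Group S] [Group S'] (e : S ≃* S')
    (h : Cfsg.IsWreathed S) : Cfsg.IsWreathed S' := by
  obtain ⟨n, hn, hc, x, y, z, hx, hxy, hd, hz, hr⟩ := h
  refine ⟨n, hn, by rw [← hc]; exact (Nat.card_congr e.toEquiv).symm, e x, e y, e z, ?_, ?_, ?_,
    ?_, ?_⟩
  · rw [← hx]; exact MulEquiv.orderOf_eq e x
  · rw [← map_mul, ← map_mul, hxy]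
  · have h1 : zpowers (e x) = (zpowers x).map e.toMonoidHom := by
      rw [MonoidHom.map_zpowers]; rfl
    have h2 : zpowers (e y) = (zpowers y).map e.toMonoidHom := by
      rw [MonoidHom.map_zpowers]; rfl
    rw [h1, h2, ← Subgroup.map_inf _ _ _ e.injective, hd, Subgroup.map_bot]
  · rw [← hz]; exact MulEquiv.orderOf_eq e z
  · rw [← map_inv, ← map_mul, ← map_mul, hr]

theorem isQuasiDihedral_of_mulEquiv {S S' : Type*} [Group S] [Group S'] (e : S ≃* S')
    (h : Cfsg.IsQuasiDihedral S) : Cfsg.IsQuasiDihedral S' := by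
  obtain ⟨n, hn, hc, x, y, hx, hy, hr⟩ := h
  refine ⟨n, hn, by rw [← hc]; exact (Nat.card_congr e.toEquiv).symm, e x, e y, ?_, ?_, ?_⟩
  · rw [← hx]; exact MulEquiv.orderOf_eq e x
  · rw [← hy]; exact MulEquiv.orderOf_eq e y
  · rw [← map_inv, ← map_mul, ← map_mul, hr, map_pow]

/-- the isomorphism between a Sylow subgroup `S ≤ C` of `G` and the corresponding Sylow subgroup
of `C` -/
def sylowSubtypeEquiv {G : Type*} [Group G] {p : ℕ} (S : Sylow p G) {C : Subgroup G}
    (hle : (S : Subgroup G) ≤ C) :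
    ↥(S : Subgroup G) ≃* ↥((S.subtype hle : Sylow p ↥C) : Subgroup ↥C) :=
  (Subgroup.subgroupOfEquivOfLe hle).symm

@[simp]
theorem sylowSubtypeEquiv_coe {G : Type*} [Group G] {p : ℕ} (S : Sylow p G) {C : Subgroup G}
    (hle : (S : Subgroup G) ≤ C) (s : ↥(S : Subgroup G)) :
    (((sylowSubtypeEquiv S hle s : ↥((S.subtype hle : Sylow p ↥C) : Subgroup ↥C)) : ↥C) : G) =
      (s : G) := rfl

theorem card_sylow_subtype {G : Type*} [Group G] {p : ℕ} (S : Sylow p G) {C : Subgroup G}
    (hle : (S : Subgroup G) ≤ C) :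
    Nat.card (S.subtype hle : Sylow p ↥C) = Nat.card S :=
  (Nat.card_congr (sylowSubtypeEquiv S hle).toEquiv).symm

/-- a normal subgroup of index `2 ^ (a + 1)` lies in a subgroup of index two -/
theorem exists_index_two_of_normal_index_pow {G : Type*} [Group G] [Finite G] (K : Subgroup G)
    [K.Normal] (a : ℕ) (hK : K.index = 2 ^ (a + 1)) : ∃ H : Subgroup G, H.index = 2 := by
  have : Fact (Nat.Prime 2) := ⟨Nat.prime_two⟩
  have hcard : Nat.card (G ⧸ K) = 2 ^ (a + 1) := by rw [← hK]; rfl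
  obtain ⟨H, hH⟩ := Sylow.exists_subgroup_card_pow_prime (G := G ⧸ K) 2 (n := a)
    (by rw [hcard]; exact pow_dvd_pow 2 (Nat.le_succ a))
  refine ⟨H.comap (QuotientGroup.mk' K), ?_⟩
  rw [Subgroup.index_comap_of_surjective _ (QuotientGroup.mk'_surjective K)]
  have h1 := H.card_mul_index
  rw [hH, hcard, pow_succ] at h1
  exact Nat.eq_of_mul_eq_mul_left (by positivity) h1

theorem mem_smul_sylow_iff {G : Type*} [Group G] {p : ℕ} (S : Sylow p G) (g a : G) :
    a ∈ ((g • S : Sylow p G) : Subgroup G) ↔ g⁻¹ * a * g ∈ (S : Subgroup G) := by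
  rw [Sylow.coe_subgroup_smul, Subgroup.mem_pointwise_smul_iff_inv_smul_mem, MulAut.smul_def,
    ← map_inv, MulAut.conj_apply, inv_inv]

/-- a conjugate of a central element of `S` is central in the conjugate Sylow subgroup -/
theorem conj_mem_center_smul_sylow {G : Type*} [Group G] {p : ℕ} (S : Sylow p G) (g c : G)
    (hc : c ∈ (S : Subgroup G)) (hcen : ∀ s ∈ (S : Subgroup G), s * c = c * s) :
    ∃ hm : g * c * g⁻¹ ∈ ((g • S : Sylow p G) : Subgroup G),
      (⟨g * c * g⁻¹, hm⟩ : ↥((g • S : Sylow p G) : Subgroup G)) ∈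
        center ↥((g • S : Sylow p G) : Subgroup G) := by
  have hm : g * c * g⁻¹ ∈ ((g • S : Sylow p G) : Subgroup G) := by
    rw [mem_smul_sylow_iff]
    have e : g⁻¹ * (g * c * g⁻¹) * g = c := by group
    rw [e]; exact hc
  refine ⟨hm, ?_⟩
  rw [mem_center_iff]
  rintro ⟨s', hs'⟩
  apply Subtype.ext
  simp only [Subgroup.coe_mul]
  have h1 := hcen _ ((mem_smul_sylow_iff S g s').mp hs')
  calc s' * (g * c * g⁻¹) = g * (g⁻¹ * s' * g * c) * g⁻¹ := by group
    _ = g * (c * (g⁻¹ * s' * g)) * g⁻¹ := by rw [h1]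
    _ = _ := by group

end Cfsg.Agent.Lib.Helper18
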