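import Mathlib
import Cfsg.Agent.Lib.Helper18.QDSubgroups
import Cfsg.Agent.Lib.Helper29.Frobenius

set_option autoImplicit false

/-!
# Quasi-dihedral Sylow 2-subgroups: the Frobenius condition when both local indices are 2
-/

namespace Cfsg.Agent.Lib.Helper18

open Subgroup

section general

variable {G : Type*} [Group G]

theorem mem_of_pow_mem_of_coprime (C : Subgroup G) (g : G) (j : ℕ) (hg0 : orderOf g ≠ 0)
    (hj : g ^ j ∈ C) (hcop : (orderOf g).Coprime j) : g ∈ C := by
  have h1 : orderOf (g ^ j) = orderOf g := hcop.orderOf_pow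
  have h2 := mem_zpowers_of_orderOf_dvd g g (g ^ j) hg0 (mem_zpowers g)
    (pow_mem (mem_zpowers g) j) (by rw [h1])
  exact (zpowers_le.mpr hj) h2

theorem mem_of_coprime_of_relIndex_two [Finite G] (C N : Subgroup G) (hCN : C.relIndex N = 2)
    (g : G) (hg : g ∈ N) (hodd : (orderOf g).Coprime 2) : g ∈ C := by
  have h1 : (⟨g, hg⟩ : N) ^ 2 ∈ C.subgroupOf N := sq_mem_of_index_two hCN _
  rw [mem_subgroupOf] at h1
  exact mem_of_pow_mem_of_coprime C g 2 (orderOf_pos g).ne' (by simpa using h1) hodd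

/-- transport of "odd normalizing elements centralize" along a conjugation -/
theorem odd_normalizer_conj (A B : Subgroup G) (s : G) (hAB : ∀ u, u ∈ B ↔ s⁻¹ * u * s ∈ A)
    (hA : ∀ g ∈ normalizer (A : Set G), (orderOf g).Coprime 2 → g ∈ centralizer (A : Set G)) :
    ∀ g ∈ normalizer (B : Set G), (orderOf g).Coprime 2 → g ∈ centralizer (B : Set G) := by
  intro g hg hodd
  have hord : orderOf (s⁻¹ * g * s) = orderOf g := by
    have := (MulAut.conj s⁻¹).orderOf_eq g
    rw [MulAut.conj_apply, inv_inv] at this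
    exact this
  have hn : s⁻¹ * g * s ∈ normalizer (A : Set G) := by
    rw [mem_normalizer_iff]
    intro a
    have h1 := hAB (s * a * s⁻¹)
    rw [show s⁻¹ * (s * a * s⁻¹) * s = a by group] at h1
    have h2 := mem_normalizer_iff.mp hg (s * a * s⁻¹)
    have h3 := hAB (g * (s * a * s⁻¹) * g⁻¹)
    rw [show s⁻¹ * (g * (s * a * s⁻¹) * g⁻¹) * s = s⁻¹ * g * s * a * (s⁻¹ * g * s)⁻¹ by group] at h3
    rw [← h1, h2, h3]
  have hc := hA _ hn (by rw [hord]; exact hodd)
  rw [mem_centralizer_iff] at hc ⊢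
  intro b hb
  have h1 := hc _ ((hAB b).mp hb)
  have h2 : b * g = s * (s⁻¹ * b * s * (s⁻¹ * g * s)) * s⁻¹ := by group
  rw [h2, h1]; group

/-- odd-order elements of `Q C_G(Q)` centralize `Q` when `Q` has exponent 4 -/
theorem mem_centralizer_of_mem_sup_of_coprime [Finite G] (Q : Subgroup G) (h4 : ∀ q ∈ Q, q ^ 4 = 1)
    (g : G) (hg : g ∈ Q ⊔ centralizer (Q : Set G)) (hodd : (orderOf g).Coprime 2) :
    g ∈ centralizer (Q : Set G) := by
  have hnorm : Q ≤ normalizer ((centralizer (Q : Set G) : Subgroup G) : Set G) := by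
    intro u hu
    rw [mem_normalizer_iff]
    intro c
    constructor
    · intro hc
      rw [mem_centralizer_iff] at hc ⊢
      intro a ha
      have h1 := hc (u⁻¹ * a * u) (mul_mem (mul_mem (inv_mem hu) ha) hu)
      have : a * (u * c * u⁻¹) = u * (u⁻¹ * a * u * c) * u⁻¹ := by group
      rw [this, h1]; group
    · intro hc
      rw [mem_centralizer_iff] at hc ⊢
      intro a ha
      have h1 := hc (u * a * u⁻¹) (mul_mem (mul_mem hu ha) (inv_mem hu))
      have : a * c = u⁻¹ * (u * a * u⁻¹ * (u * c * u⁻¹)) * u := by group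
      rw [this, h1]; group
  have hmem : g ∈ ((Q ⊔ centralizer (Q : Set G) : Subgroup G) : Set G) := hg
  rw [coe_mul_of_left_le_normalizer_right Q _ hnorm] at hmem
  obtain ⟨q, hq, c, hc, rfl⟩ := hmem
  have hq' : q ∈ Q := hq
  have hc' : c ∈ centralizer (Q : Set G) := hc
  have hpow : ∀ j : ℕ, ∃ d ∈ centralizer (Q : Set G), (q * c) ^ j = q ^ j * d := by
    intro j
    induction j with
    | zero => exact ⟨1, one_mem _, by simp⟩
    | succ j ih =>
      obtain ⟨d, hd, e⟩ := ih
      refine ⟨q⁻¹ * d * q * c, mul_mem ?_ hc', ?_⟩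
      · have := (mem_normalizer_iff.mp (hnorm (inv_mem hq')) d).mp hd
        simpa using this
      · rw [pow_succ, e, pow_succ]; group
  obtain ⟨d, hd, e⟩ := hpow 4
  have h5 : (q * c) ^ 4 ∈ centralizer (Q : Set G) := by
    rw [e, h4 q hq', one_mul]; exact hd
  exact mem_of_pow_mem_of_coprime _ _ 4 (orderOf_pos _).ne' h5
    (by have := Nat.Coprime.pow_right 2 hodd; simpa using this)

theorem map_conj_val (P : Subgroup G) (A : Subgroup ↥P) (s : ↥P) :
    (A.map (MulAut.conj s).toMonoidHom).map P.subtype =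
      (A.map P.subtype).map (MulAut.conj (s : G)).toMonoidHom := by
  rw [Subgroup.map_map, Subgroup.map_map]
  congr 1

/-- odd-order normalizing elements centralize when there are no odd automorphisms -/
theorem mem_centralizer_of_oddAutTrivial [Finite G] (X : Subgroup G) (hX : OddAutTrivial X) (g : G)
    (hg : g ∈ normalizer (X : Set G)) (hodd : (orderOf g).Coprime 2) :
    g ∈ centralizer (X : Set G) := by
  have h1 : X.normalizerMonoidHom ⟨g, hg⟩ = 1 := by
    apply hX _ (orderOf g) (Nat.Coprime.odd_of_right hodd)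
    rw [← map_pow]
    have : (⟨g, hg⟩ : normalizer (X : Set G)) ^ orderOf g = 1 :=
      Subtype.ext (by simp [pow_orderOf_eq_one g])
    rw [this, map_one]
  have h2 : (⟨g, hg⟩ : normalizer (X : Set G)) ∈ X.normalizerMonoidHom.ker := h1
  rw [normalizerMonoidHom_ker, mem_subgroupOf] at h2
  exact h2

end general

section sylow

variable {G : Type*} [Group G] [Finite G] {S : Sylow 2 G} {m : ℕ} {x y : ↥(S : Subgroup G)}

/-- **Frobenius condition** for a quasi-dihedral Sylow 2-subgroup with both local indices 2 -/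
theorem IsQD.frobCond_of_relIndex_two (h : IsQD ↥(S : Subgroup G) m x y)
    (T : Subgroup G) (hT : IsKleinFour T) (hTS : T ≤ S) (Q : Subgroup G) (hQS : Q ≤ S)
    (eQ : Q ≃* QuaternionGroup 2)
    (h₁ : (centralizer (T : Set G)).relIndex (normalizer (T : Set G)) = 2)
    (h₂ : (Q ⊔ centralizer (Q : Set G)).relIndex (normalizer (Q : Set G)) = 2) :
    Cfsg.Agent.Lib.Helper29.FrobCond 2 G := by
  have : Fact (Nat.Prime 2) := ⟨Nat.prime_two⟩
  apply Cfsg.Agent.Lib.Helper29.frobCond_of_sylow S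
  intro X hXS g hg hodd
  have e := Subgroup.subgroupOfEquivOfLe hXS
  rcases h.subgroup_trichotomy (X.subgroupOf S) with h0 | h0 | h0
  · exact mem_centralizer_of_oddAutTrivial X (h0.of_mulEquiv e) g hg hodd
  · -- Klein four
    obtain ⟨k, hk⟩ := h.klein_eq (X.subgroupOf S) h0
    have hT' : IsKleinFour (T.subgroupOf S) :=
      ⟨by rw [Nat.card_congr (Subgroup.subgroupOfEquivOfLe hTS).toEquiv]; exact hT.card_four,
        by rw [Monoid.exponent_eq_of_mulEquiv (Subgroup.subgroupOfEquivOfLe hTS)]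
           exact hT.exponent_two⟩
    obtain ⟨k', hk'⟩ := h.klein_eq (T.subgroupOf S) hT'
    obtain ⟨s, hs⟩ := h.conj_K k' k
    have hXT : X = T.map (MulAut.conj (s : G)).toMonoidHom := by
      rw [← Subgroup.map_subgroupOf_eq_of_le hXS, ← Subgroup.map_subgroupOf_eq_of_le hTS, hk, hk',
        ← map_conj_val, hs]
    refine odd_normalizer_conj T X (s : G) ?_ ?_ g hg hodd
    · intro u
      rw [hXT]; exact Cfsg.Agent.Lib.Helper12.mem_map_conj_iff T (s : G) u
    · intro g' hg' hodd'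
      exact mem_of_coprime_of_relIndex_two _ _ h₁ g' hg' hodd'
  · -- quaternion
    obtain ⟨h0⟩ := h0
    obtain ⟨k, hk⟩ := h.q8_eq (X.subgroupOf S) h0
    obtain ⟨k', hk'⟩ := h.q8_eq (Q.subgroupOf S) ((Subgroup.subgroupOfEquivOfLe hQS).trans eQ)
    obtain ⟨s, hs⟩ := h.conj_Q8 k' k
    have hXQ : X = Q.map (MulAut.conj (s : G)).toMonoidHom := by
      rw [← Subgroup.map_subgroupOf_eq_of_le hXS, ← Subgroup.map_subgroupOf_eq_of_le hQS, hk, hk',
        ← map_conj_val, hs]
    refine odd_normalizer_conj Q X (s : G) ?_ ?_ g hg hodd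
    · intro u
      rw [hXQ]; exact Cfsg.Agent.Lib.Helper12.mem_map_conj_iff Q (s : G) u
    · intro g' hg' hodd'
      have h4 : ∀ q ∈ Q, q ^ 4 = 1 := by
        intro q hq
        have h5 : ∀ u : QuaternionGroup 2, u ^ 4 = 1 := by decide
        have := h5 (eQ ⟨q, hq⟩)
        rw [← map_pow, MulEquiv.map_eq_one_iff] at this
        simpa using congrArg Subtype.val this
      exact mem_centralizer_of_mem_sup_of_coprime Q h4 g'
        (mem_of_coprime_of_relIndex_two _ _ h₂ g' hg' hodd') hodd'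

/-- under the Frobenius condition `z` and `y` are not fused -/
theorem IsQD.not_isConj_z_y (h : IsQD ↥(S : Subgroup G) m x y)
    (hF : Cfsg.Agent.Lib.Helper29.FrobCond 2 G) :
    ¬ IsConj ((x : G) ^ (2 ^ (m + 2))) (y : G) := by
  have : Fact (Nat.Prime 2) := ⟨Nat.prime_two⟩
  intro hc
  obtain ⟨c, hc⟩ := isConj_iff.mp hc
  have hzS : (x : G) ^ (2 ^ (m + 2)) ∈ (S : Subgroup G) := pow_mem x.2 _
  obtain ⟨s, hs, e⟩ := hF.control_fusion S _ hzS c⁻¹ (by rw [inv_inv, hc]; exact y.2)
  rw [inv_inv, hc] at e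
  -- `s⁻¹ z s = z`
  have h1 := h.z_central ⟨s, hs⟩
  have h2 : (s : G) * (x : G) ^ (2 ^ (m + 2)) = (x : G) ^ (2 ^ (m + 2)) * s := by
    simpa using congrArg Subtype.val h1
  have h3 : s⁻¹ * (x : G) ^ (2 ^ (m + 2)) * s = (x : G) ^ (2 ^ (m + 2)) := by
    rw [mul_assoc, ← h2]; group
  rw [h3] at e
  apply h.y_ne_z
  exact Subtype.ext (by simpa using e.symm)

/-- under the Frobenius condition `v` and `x y` are not fused -/
theorem IsQD.not_isConj_v_xy (h : IsQD ↥(S : Subgroup G) m x y)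
    (hF : Cfsg.Agent.Lib.Helper29.FrobCond 2 G) :
    ¬ IsConj ((x : G) ^ (2 ^ (m + 1))) ((x : G) * y) := by
  have : Fact (Nat.Prime 2) := ⟨Nat.prime_two⟩
  intro hc
  obtain ⟨c, hc⟩ := isConj_iff.mp hc
  have hvS : (x : G) ^ (2 ^ (m + 1)) ∈ (S : Subgroup G) := pow_mem x.2 _
  obtain ⟨s, hs, e⟩ := hF.control_fusion S _ hvS c⁻¹
    (by rw [inv_inv, hc]; exact mul_mem x.2 y.2)
  rw [inv_inv, hc] at e
  have h1 := h.conj_v_cases (⟨s, hs⟩ : ↥(S : Subgroup G))⁻¹
  have hxy : x * y ∉ zpowers x := by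
    have := h.xy_not_mem 1
    rwa [pow_one] at this
  have e' : (⟨s, hs⟩ : ↥(S : Subgroup G))⁻¹ * x ^ (2 ^ (m + 1)) * (⟨s, hs⟩ : ↥(S : Subgroup G))⁻¹⁻¹
      = x * y := Subtype.ext (by simpa using e)
  rcases h1 with h1 | h1
  · apply hxy; rw [← e', h1]; exact pow_mem (mem_zpowers x) _
  · apply hxy; rw [← e', h1]; exact inv_mem (pow_mem (mem_zpowers x) _)

theorem IsQD.card_classes_invol_eq_two (h : IsQD ↥(S : Subgroup G) m x y)
    (hc : ¬ IsConj ((x : G) ^ (2 ^ (m + 2))) (y : G)) :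
    Nat.card {C : ConjClasses G // ∃ t : G, orderOf t = 2 ∧ ConjClasses.mk t = C} = 2 := by
  apply IsQD.card_subtype_eq_two _ (ConjClasses.mk ((x : G) ^ (2 ^ (m + 2))))
    (ConjClasses.mk (y : G))
  · intro e; exact hc (ConjClasses.mk_eq_mk_iff_isConj.mp e)
  · intro C
    constructor
    · rintro ⟨t, ht, rfl⟩
      obtain ⟨g, hg⟩ := exists_conj_mem_sylow_two_of_orderOf S t 1 (by rw [ht, pow_one])
      have ho : orderOf (g * t * g⁻¹) = 2 := by
        have := (MulAut.conj g).orderOf_eq t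
        rw [MulAut.conj_apply] at this
        rw [this, ht]
      have h0 : IsConj t (g * t * g⁻¹) := isConj_iff.mpr ⟨g, rfl⟩
      rcases h.invol_cases_val _ hg ho with e | ⟨k, e⟩
      · left; rw [e] at h0; exact ConjClasses.mk_eq_mk_iff_isConj.mpr h0
      · right; rw [e] at h0
        exact ConjClasses.mk_eq_mk_iff_isConj.mpr (h0.trans (h.isConj_y_val k).symm)
    · rintro (rfl | rfl)
      · exact ⟨_, h.z_orderOf_val, rfl⟩
      · exact ⟨_, by rw [Subgroup.orderOf_coe]; exact h.hy, rfl⟩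

theorem IsQD.card_classes_four_eq_two (h : IsQD ↥(S : Subgroup G) m x y)
    (hc : ¬ IsConj ((x : G) ^ (2 ^ (m + 1))) ((x : G) * y)) :
    Nat.card {C : ConjClasses G // ∃ t : G, orderOf t = 4 ∧ ConjClasses.mk t = C} = 2 := by
  apply IsQD.card_subtype_eq_two _ (ConjClasses.mk ((x : G) ^ (2 ^ (m + 1))))
    (ConjClasses.mk ((x : G) * y))
  · intro e; exact hc (ConjClasses.mk_eq_mk_iff_isConj.mp e)
  · intro C
    constructor
    · rintro ⟨t, ht, rfl⟩
      obtain ⟨g, hg⟩ := exists_conj_mem_sylow_two_of_orderOf S t 2 (by rw [ht]; norm_num)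
      have ho : orderOf (g * t * g⁻¹) = 4 := by
        have := (MulAut.conj g).orderOf_eq t
        rw [MulAut.conj_apply] at this
        rw [this, ht]
      have h0 : IsConj t (g * t * g⁻¹) := isConj_iff.mpr ⟨g, rfl⟩
      rcases h.four_cases_val _ hg ho with e | e | ⟨k, e⟩
      · left; rw [e] at h0; exact ConjClasses.mk_eq_mk_iff_isConj.mpr h0
      · left; rw [e] at h0
        exact ConjClasses.mk_eq_mk_iff_isConj.mpr (h0.trans h.isConj_v_inv_val.symm)
      · right; rw [e] at h0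
        exact ConjClasses.mk_eq_mk_iff_isConj.mpr (h0.trans (h.isConj_xy_val k).symm)
    · rintro (rfl | rfl)
      · exact ⟨_, h.v_orderOf_val, rfl⟩
      · refine ⟨_, ?_, rfl⟩
        have := h.orderOf_xy_odd 0
        rw [← Subgroup.orderOf_coe] at this
        simpa using this

end sylow

end Cfsg.Agent.Lib.Helper18
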