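import Mathlib
import Cfsg.Agent.Lib.Helper18.QDFrobenius

set_option autoImplicit false

/-!
# Quasi-dihedral Sylow 2-subgroups: consequences of local index 2

If `|N_G(T) : C_G(T)| = 2` then `N_G(T)` fixes the central involution; if `|N_G(Q) : Q C_G(Q)| = 2`
then `N_G(Q)` normalizes `⟨v⟩`.  Non-fusion statements via extremal conjugation.
-/

namespace Cfsg.Agent.Lib.Helper18

open Subgroup

section general

variable {G : Type*} [Group G]

theorem mem_or_of_relIndex_two (C N : Subgroup G) (hCN : C.relIndex N = 2) (s : G) (hsN : s ∈ N)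
    (hsC : s ∉ C) (n : G) (hn : n ∈ N) : n ∈ C ∨ s⁻¹ * n ∈ C := by
  by_cases hnC : n ∈ C
  · exact Or.inl hnC
  · right
    have h1 : (⟨s, hsN⟩ : N)⁻¹ * ⟨n, hn⟩ ∈ C.subgroupOf N := by
      rw [mul_mem_iff_of_index_two hCN]
      constructor
      · intro h2
        exact absurd (by simpa [mem_subgroupOf] using h2) hsC
      · intro h2
        exact absurd (by simpa [mem_subgroupOf] using h2) hnC
    simpa [mem_subgroupOf] using h1

theorem mem_normalizer_map_subtype (P : Subgroup G) (A : Subgroup ↥P) (r : ↥P)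
    (hr : r ∈ normalizer (A : Set ↥P)) :
    (r : G) ∈ normalizer ((A.map P.subtype : Subgroup G) : Set G) := by
  rw [mem_normalizer_iff_map_conj_eq] at hr ⊢
  have h1 : A.map (MulAut.conj r).toMonoidHom = A := hr
  have h2 := map_conj_val P A r
  rw [h1] at h2
  exact h2.symm

theorem le_normalizer_centralizer (Q : Subgroup G) :
    Q ≤ normalizer ((centralizer (Q : Set G) : Subgroup G) : Set G) := by
  intro u hu
  rw [mem_normalizer_iff]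
  intro c
  constructor
  · intro hc
    rw [mem_centralizer_iff] at hc ⊢
    intro a ha
    have h1 := hc (u⁻¹ * a * u) (mul_mem (mul_mem (inv_mem hu) ha) hu)
    have : a * (u * c * u⁻¹) = u * (u⁻¹ * a * u * c) * u⁻¹ := by group
    rw [this, h1]; group
  · intro hc
    rw [mem_centralizer_iff] at hc ⊢
    intro a ha
    have h1 := hc (u * a * u⁻¹) (mul_mem (mul_mem hu ha) (inv_mem hu))
    have : a * c = u⁻¹ * (u * a * u⁻¹ * (u * c * u⁻¹)) * u := by group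
    rw [this, h1]; group

theorem exists_of_mem_sup_centralizer (Q : Subgroup G) (g : G)
    (hg : g ∈ Q ⊔ centralizer (Q : Set G)) :
    ∃ q ∈ Q, ∃ c ∈ centralizer (Q : Set G), g = q * c := by
  have hmem : g ∈ ((Q ⊔ centralizer (Q : Set G) : Subgroup G) : Set G) := hg
  rw [coe_mul_of_left_le_normalizer_right Q _ (le_normalizer_centralizer Q)] at hmem
  obtain ⟨q, hq, c, hc, rfl⟩ := hmem
  exact ⟨q, hq, c, hc, rfl⟩

end general

namespace IsQD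

variable {S : Type*} [Group S] {m : ℕ} {x y : S}

/-- an element of `N_S(T_k)` swapping `t` and `t z` -/
theorem exists_swap_K (h : IsQD S m x y) (k : ℕ) :
    ∃ s : S, s ∈ normalizer
      ((zpowers (x ^ (2 ^ (m + 2))) ⊔ zpowers (x ^ (2 * k) * y) : Subgroup S) : Set S) ∧
      s * (x ^ (2 * k) * y) * s⁻¹ = x ^ (2 * k) * y * x ^ (2 ^ (m + 2)) := by
  obtain ⟨s, hs⟩ := h.conj_shift (2 * k) (2 ^ (m + 1))
  have hs' : s * (x ^ (2 * k) * y) * s⁻¹ = x ^ (2 * k) * y * x ^ (2 ^ (m + 2)) := by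
    rw [hs, pow_add, show 2 * 2 ^ (m + 1) = 2 ^ (m + 2) by ring, mul_assoc, mul_assoc, h.z_comm_y]
  refine ⟨s, ?_, hs'⟩
  rw [mem_normalizer_iff_map_conj_eq, Subgroup.map_sup, MonoidHom.map_zpowers,
    MonoidHom.map_zpowers]
  simp only [MonoidHom.coe_coe, MulAut.conj_apply]
  rw [hs', h.z_central s, mul_inv_cancel_right]
  apply le_antisymm
  · rw [sup_le_iff, zpowers_le, zpowers_le]
    exact ⟨h.z_mem_K k, mul_mem (h.t_mem_K k) (h.z_mem_K k)⟩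
  · rw [sup_le_iff, zpowers_le, zpowers_le]
    refine ⟨mem_sup_left (mem_zpowers _), ?_⟩
    have h1 : x ^ (2 * k) * y * x ^ (2 ^ (m + 2)) ∈
        zpowers (x ^ (2 ^ (m + 2))) ⊔ zpowers (x ^ (2 * k) * y * x ^ (2 ^ (m + 2))) :=
      mem_sup_right (mem_zpowers _)
    have h2 : x ^ (2 ^ (m + 2)) ∈
        zpowers (x ^ (2 ^ (m + 2))) ⊔ zpowers (x ^ (2 * k) * y * x ^ (2 ^ (m + 2))) :=
      mem_sup_left (mem_zpowers _)
    have := mul_mem h1 h2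
    have e : x ^ (2 * k) * y * x ^ (2 ^ (m + 2)) * x ^ (2 ^ (m + 2)) = x ^ (2 * k) * y := by
      rw [mul_assoc (x ^ (2 * k) * y), h.z_mul_self, mul_one]
    rwa [e] at this

/-- conjugating `q` by `r = x^(2^m)` -/
theorem conj_r_q (h : IsQD S m x y) (k : ℕ) :
    x ^ (2 ^ m) * (x ^ (2 * k + 1) * y) * (x ^ (2 ^ m))⁻¹ =
      (x ^ (2 ^ (m + 1)) * (x ^ (2 ^ (m + 2))) ^ (2 ^ m)) * (x ^ (2 * k + 1) * y) := by
  rw [h.conj_xy, show 2 * k + 1 + 2 * 2 ^ m = 2 ^ (m + 1) + (2 * k + 1) by ring, pow_add]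
  have c1 : Commute (x ^ (2 * k + 1)) ((x ^ (2 ^ (m + 2))) ^ (2 ^ m)) :=
    ((Commute.refl x).pow_pow _ _).pow_right _
  rw [mul_assoc (x ^ (2 ^ (m + 1))), c1.eq]
  simp only [mul_assoc]

theorem r_mem_normalizer_Q8 (h : IsQD S m x y) (k : ℕ) :
    x ^ (2 ^ m) ∈ normalizer
      ((zpowers (x ^ (2 ^ (m + 1))) ⊔ zpowers (x ^ (2 * k + 1) * y) : Subgroup S) : Set S) := by
  rw [h.normalizer_Q8]
  exact mem_sup_left (mem_zpowers _)

/-- `v z^j` is `v` or `v⁻¹` -/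
theorem v_mul_z_pow (h : IsQD S m x y) (j : ℕ) :
    x ^ (2 ^ (m + 1)) * (x ^ (2 ^ (m + 2))) ^ j = x ^ (2 ^ (m + 1)) ∨
      x ^ (2 ^ (m + 1)) * (x ^ (2 ^ (m + 2))) ^ j = (x ^ (2 ^ (m + 1)))⁻¹ := by
  rcases Nat.even_or_odd' j with ⟨l, rfl | rfl⟩
  · left; rw [h.z_pow_even, mul_one]
  · right
    rw [h.z_pow_odd, ← h.v_sq, pow_two]
    have h4 : (x ^ (2 ^ (m + 1))) ^ 4 = 1 := by rw [← h.v_orderOf]; exact pow_orderOf_eq_one _
    calc x ^ 2 ^ (m + 1) * (x ^ 2 ^ (m + 1) * x ^ 2 ^ (m + 1))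
        = (x ^ 2 ^ (m + 1)) ^ 4 * (x ^ 2 ^ (m + 1))⁻¹ := by group
      _ = _ := by rw [h4, one_mul]

/-- commutators of `q` with elements of `Q_k` lie in `⟨z⟩` -/
theorem comm_mem_z_of_mem_Q8 (h : IsQD S m x y) (k : ℕ) (a : S)
    (ha : a ∈ zpowers (x ^ (2 ^ (m + 1))) ⊔ zpowers (x ^ (2 * k + 1) * y)) :
    a * (x ^ (2 * k + 1) * y) * a⁻¹ * (x ^ (2 * k + 1) * y)⁻¹ ∈ zpowers (x ^ (2 ^ (m + 2))) := by
  have hq := h.conj_v_q (2 * k + 1)
  have key : ∀ j : ℤ, (x ^ (2 ^ (m + 1))) ^ j * (x ^ (2 * k + 1) * y) * ((x ^ (2 ^ (m + 1))) ^ j)⁻¹ *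
      (x ^ (2 * k + 1) * y)⁻¹ = (x ^ (2 ^ (m + 2))) ^ j := by
    intro j
    have e1 : (x ^ (2 * k + 1) * y) * ((x ^ (2 ^ (m + 1))) ^ j)⁻¹ * (x ^ (2 * k + 1) * y)⁻¹ =
        (x ^ (2 ^ (m + 1))) ^ j := by
      rw [← zpow_neg, ← conj_zpow, hq, inv_zpow, zpow_neg, inv_inv]
    calc (x ^ (2 ^ (m + 1))) ^ j * (x ^ (2 * k + 1) * y) * ((x ^ (2 ^ (m + 1))) ^ j)⁻¹ *
        (x ^ (2 * k + 1) * y)⁻¹
        = (x ^ (2 ^ (m + 1))) ^ j * ((x ^ (2 * k + 1) * y) * ((x ^ (2 ^ (m + 1))) ^ j)⁻¹ *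
          (x ^ (2 * k + 1) * y)⁻¹) := by group
      _ = (x ^ (2 ^ (m + 1))) ^ j * (x ^ (2 ^ (m + 1))) ^ j := by rw [e1]
      _ = ((x ^ (2 ^ (m + 1))) ^ 2) ^ j := by
          have hw : ∀ w : S, w ^ j * w ^ j = (w ^ 2) ^ j := by
            intro w
            rw [← zpow_add, ← zpow_natCast w 2, ← zpow_mul]
            congr 1; push_cast; ring
          exact hw _
      _ = (x ^ (2 ^ (m + 2))) ^ j := by rw [h.v_sq]
  rcases (h.mem_Q8_iff k a).mp ha with h1 | h1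
  · obtain ⟨j, rfl⟩ := mem_zpowers_iff.mp h1
    rw [key]; exact zpow_mem (mem_zpowers _) j
  · obtain ⟨j, hj⟩ := mem_zpowers_iff.mp h1
    have ea : a = (x ^ (2 * k + 1) * y) * (x ^ (2 ^ (m + 1))) ^ j := by rw [hj]; group
    have e2 : a * (x ^ (2 * k + 1) * y) * a⁻¹ * (x ^ (2 * k + 1) * y)⁻¹ =
        (x ^ (2 * k + 1) * y) * ((x ^ (2 ^ (m + 1))) ^ j * (x ^ (2 * k + 1) * y) *
          ((x ^ (2 ^ (m + 1))) ^ j)⁻¹ * (x ^ (2 * k + 1) * y)⁻¹) * (x ^ (2 * k + 1) * y)⁻¹ := by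
      rw [ea]; group
    rw [e2, key]
    have hc : Commute (x ^ (2 * k + 1) * y) ((x ^ (2 ^ (m + 2))) ^ j) :=
      (show Commute (x ^ (2 * k + 1) * y) (x ^ (2 ^ (m + 2))) from h.z_central _).zpow_right j
    rw [hc.eq, mul_assoc, mul_inv_cancel, mul_one]
    exact zpow_mem (mem_zpowers _) j

theorem v_not_mem_z (h : IsQD S m x y) : x ^ (2 ^ (m + 1)) ∉ zpowers (x ^ (2 ^ (m + 2))) := by
  intro h1
  rcases eq_one_or_eq_of_mem_zpowers_of_orderOf_two _ _ h.z_orderOf h1 with e | e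
  · have := h.v_orderOf; rw [e, orderOf_one] at this; omega
  · have := h.v_orderOf; rw [e, h.z_orderOf] at this; omega

theorem v_inv_not_mem_z (h : IsQD S m x y) :
    (x ^ (2 ^ (m + 1)))⁻¹ ∉ zpowers (x ^ (2 ^ (m + 2))) :=
  fun h1 => h.v_not_mem_z (inv_mem_iff.mp h1)

end IsQD

section ambient

variable {G : Type*} [Group G] {P : Subgroup G} {m : ℕ} {x y : ↥P}

/-- **F1**: if `|N_G(T) : C_G(T)| = 2` then `N_G(T)` fixes the central involution. -/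
theorem IsQD.normalizer_fixes_z (h : IsQD ↥P m x y) (k : ℕ)
    (h₁ : (centralizer ((zpowers ((x : G) ^ (2 ^ (m + 2))) ⊔ zpowers ((x : G) ^ (2 * k) * y) :
        Subgroup G) : Set G)).relIndex
      (normalizer ((zpowers ((x : G) ^ (2 ^ (m + 2))) ⊔ zpowers ((x : G) ^ (2 * k) * y) :
        Subgroup G) : Set G)) = 2) :
    ∀ n ∈ normalizer ((zpowers ((x : G) ^ (2 ^ (m + 2))) ⊔ zpowers ((x : G) ^ (2 * k) * y) :
        Subgroup G) : Set G), n * (x : G) ^ (2 ^ (m + 2)) * n⁻¹ = (x : G) ^ (2 ^ (m + 2)) := by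
  obtain ⟨s, hsN, hs⟩ := h.exists_swap_K k
  have hsN' := mem_normalizer_map_subtype P _ s hsN
  rw [← sup_zpowers_val] at hsN'
  simp only [Subgroup.coe_pow, Subgroup.coe_mul] at hsN'
  have hs' : (s : G) * ((x : G) ^ (2 * k) * y) * (s : G)⁻¹ =
      (x : G) ^ (2 * k) * y * (x : G) ^ (2 ^ (m + 2)) := by
    simpa using congrArg Subtype.val hs
  have hZT : (x : G) ^ (2 ^ (m + 2)) ∈
      (zpowers ((x : G) ^ (2 ^ (m + 2))) ⊔ zpowers ((x : G) ^ (2 * k) * y) : Subgroup G) :=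
    mem_sup_left (mem_zpowers _)
  have htT : (x : G) ^ (2 * k) * y ∈
      (zpowers ((x : G) ^ (2 ^ (m + 2))) ⊔ zpowers ((x : G) ^ (2 * k) * y) : Subgroup G) :=
    mem_sup_right (mem_zpowers _)
  have hZ1 : (x : G) ^ (2 ^ (m + 2)) ≠ 1 := by
    intro e
    have := h.z_orderOf_val
    rw [e, orderOf_one] at this; omega
  have hsC : (s : G) ∉ centralizer ((zpowers ((x : G) ^ (2 ^ (m + 2))) ⊔
      zpowers ((x : G) ^ (2 * k) * y) : Subgroup G) : Set G) := by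
    intro hc
    have h1 := (mem_centralizer_iff.mp hc) _ htT
    have h2 : (s : G) * ((x : G) ^ (2 * k) * y) * (s : G)⁻¹ = (x : G) ^ (2 * k) * y := by
      rw [← h1]; group
    rw [hs'] at h2
    exact hZ1 (mul_left_cancel (h2.trans (mul_one _).symm))
  have hsZ : (s : G) * (x : G) ^ (2 ^ (m + 2)) * (s : G)⁻¹ = (x : G) ^ (2 ^ (m + 2)) := by
    have h1 := h.z_central s
    have h2 : (s : G) * (x : G) ^ (2 ^ (m + 2)) = (x : G) ^ (2 ^ (m + 2)) * s := by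
      simpa using congrArg Subtype.val h1
    rw [h2]; group
  have hcZ : ∀ c ∈ centralizer ((zpowers ((x : G) ^ (2 ^ (m + 2))) ⊔
      zpowers ((x : G) ^ (2 * k) * y) : Subgroup G) : Set G),
      c * (x : G) ^ (2 ^ (m + 2)) * c⁻¹ = (x : G) ^ (2 ^ (m + 2)) := by
    intro c hc
    have h1 := (mem_centralizer_iff.mp hc) _ hZT
    rw [← h1]; group
  intro n hn
  rcases mem_or_of_relIndex_two _ _ h₁ (s : G) hsN' hsC n hn with h1 | h1
  · exact hcZ n h1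
  · have e : n * (x : G) ^ (2 ^ (m + 2)) * n⁻¹ =
        (s : G) * (((s : G)⁻¹ * n) * (x : G) ^ (2 ^ (m + 2)) * ((s : G)⁻¹ * n)⁻¹) * (s : G)⁻¹ := by
      group
    rw [e, hcZ _ h1, hsZ]

/-- **F2**: if `|N_G(Q) : Q C_G(Q)| = 2` then `N_G(Q)` normalizes `⟨v⟩`. -/
theorem IsQD.normalizer_normalizes_v (h : IsQD ↥P m x y) (k : ℕ)
    (h₂ : ((zpowers ((x : G) ^ (2 ^ (m + 1))) ⊔ zpowers ((x : G) ^ (2 * k + 1) * y) : Subgroup G) ⊔
        centralizer ((zpowers ((x : G) ^ (2 ^ (m + 1))) ⊔ zpowers ((x : G) ^ (2 * k + 1) * y) :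
          Subgroup G) : Set G)).relIndex
      (normalizer ((zpowers ((x : G) ^ (2 ^ (m + 1))) ⊔ zpowers ((x : G) ^ (2 * k + 1) * y) :
        Subgroup G) : Set G)) = 2) :
    ∀ n ∈ normalizer ((zpowers ((x : G) ^ (2 ^ (m + 1))) ⊔ zpowers ((x : G) ^ (2 * k + 1) * y) :
        Subgroup G) : Set G),
      n * (x : G) ^ (2 ^ (m + 1)) * n⁻¹ ∈ zpowers ((x : G) ^ (2 ^ (m + 1))) := by
  have hrN := mem_normalizer_map_subtype P _ _ (h.r_mem_normalizer_Q8 k)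
  rw [← sup_zpowers_val] at hrN
  simp only [Subgroup.coe_pow, Subgroup.coe_mul] at hrN
  have hqQ : (x : G) ^ (2 * k + 1) * y ∈
      (zpowers ((x : G) ^ (2 ^ (m + 1))) ⊔ zpowers ((x : G) ^ (2 * k + 1) * y) : Subgroup G) :=
    mem_sup_right (mem_zpowers _)
  have hVQ : (x : G) ^ (2 ^ (m + 1)) ∈
      (zpowers ((x : G) ^ (2 ^ (m + 1))) ⊔ zpowers ((x : G) ^ (2 * k + 1) * y) : Subgroup G) :=
    mem_sup_left (mem_zpowers _)
  have hQP : (zpowers ((x : G) ^ (2 ^ (m + 1))) ⊔ zpowers ((x : G) ^ (2 * k + 1) * y) :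
      Subgroup G) ≤ P :=
    sup_le (zpowers_le.mpr (pow_mem x.2 _)) (zpowers_le.mpr (mul_mem (pow_mem x.2 _) y.2))
  -- elements of `P` normalize `⟨v⟩`
  have hPv : ∀ a ∈ P, ∀ w ∈ zpowers ((x : G) ^ (2 ^ (m + 1))),
      a * w * a⁻¹ ∈ zpowers ((x : G) ^ (2 ^ (m + 1))) := by
    intro a ha w hw
    obtain ⟨j, rfl⟩ := mem_zpowers_iff.mp hw
    rw [← conj_zpow]
    apply zpow_mem
    rcases h.conj_v_cases ⟨a, ha⟩ with e | e
    · have : a * (x : G) ^ (2 ^ (m + 1)) * a⁻¹ = (x : G) ^ (2 ^ (m + 1)) := by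
        simpa using congrArg Subtype.val e
      rw [this]; exact mem_zpowers _
    · have : a * (x : G) ^ (2 ^ (m + 1)) * a⁻¹ = ((x : G) ^ (2 ^ (m + 1)))⁻¹ := by
        simpa using congrArg Subtype.val e
      rw [this]; exact inv_mem (mem_zpowers _)
  -- elements of `M` normalize `⟨v⟩`
  have hMv : ∀ g ∈ (zpowers ((x : G) ^ (2 ^ (m + 1))) ⊔ zpowers ((x : G) ^ (2 * k + 1) * y) :
      Subgroup G) ⊔ centralizer ((zpowers ((x : G) ^ (2 ^ (m + 1))) ⊔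
        zpowers ((x : G) ^ (2 * k + 1) * y) : Subgroup G) : Set G),
      g * (x : G) ^ (2 ^ (m + 1)) * g⁻¹ ∈ zpowers ((x : G) ^ (2 ^ (m + 1))) := by
    intro g hg
    obtain ⟨q₁, hq₁, c, hc, rfl⟩ := exists_of_mem_sup_centralizer _ g hg
    have h1 := (mem_centralizer_iff.mp hc) _ hVQ
    have e : q₁ * c * (x : G) ^ (2 ^ (m + 1)) * (q₁ * c)⁻¹ =
        q₁ * (c * (x : G) ^ (2 ^ (m + 1)) * c⁻¹) * q₁⁻¹ := by group
    have e2 : c * (x : G) ^ (2 ^ (m + 1)) * c⁻¹ = (x : G) ^ (2 ^ (m + 1)) := by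
      rw [← h1]; group
    rw [e, e2]
    exact hPv q₁ (hQP hq₁) _ (mem_zpowers _)
  -- `r ∉ M`
  have hrM : (x : G) ^ (2 ^ m) ∉ (zpowers ((x : G) ^ (2 ^ (m + 1))) ⊔
      zpowers ((x : G) ^ (2 * k + 1) * y) : Subgroup G) ⊔
      centralizer ((zpowers ((x : G) ^ (2 ^ (m + 1))) ⊔
        zpowers ((x : G) ^ (2 * k + 1) * y) : Subgroup G) : Set G) := by
    intro hr
    obtain ⟨q₁, hq₁, c, hc, e⟩ := exists_of_mem_sup_centralizer _ _ hr
    have h1 := (mem_centralizer_iff.mp hc) _ hqQ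
    have e2 : c * ((x : G) ^ (2 * k + 1) * y) * c⁻¹ = (x : G) ^ (2 * k + 1) * y := by
      rw [← h1]; group
    -- the commutator of `r` and `q`
    have e3 : (x : G) ^ (2 ^ m) * ((x : G) ^ (2 * k + 1) * y) * ((x : G) ^ (2 ^ m))⁻¹ *
        ((x : G) ^ (2 * k + 1) * y)⁻¹ =
        q₁ * ((x : G) ^ (2 * k + 1) * y) * q₁⁻¹ * ((x : G) ^ (2 * k + 1) * y)⁻¹ := by
      rw [e]
      have : q₁ * c * ((x : G) ^ (2 * k + 1) * y) * (q₁ * c)⁻¹ =
          q₁ * (c * ((x : G) ^ (2 * k + 1) * y) * c⁻¹) * q₁⁻¹ := by group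
      rw [this, e2]
    -- right side in `⟨z⟩`
    have hq₁P : q₁ ∈ P := hQP hq₁
    have hq₁Q : (⟨q₁, hq₁P⟩ : ↥P) ∈
        zpowers (x ^ (2 ^ (m + 1))) ⊔ zpowers (x ^ (2 * k + 1) * y) := by
      have := hq₁
      rw [show ((x : G) ^ (2 ^ (m + 1))) = ((x ^ (2 ^ (m + 1)) : ↥P) : G) by simp,
        show (x : G) ^ (2 * k + 1) * y = ((x ^ (2 * k + 1) * y : ↥P) : G) by simp, sup_zpowers_val,
        mem_map] at this
      obtain ⟨b, hb, hb'⟩ := this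
      have : b = ⟨q₁, hq₁P⟩ := Subtype.ext (by simpa using hb')
      rw [← this]; exact hb
    have h4 := h.comm_mem_z_of_mem_Q8 k _ hq₁Q
    have h5 := h.conj_r_q k
    have h6 : x ^ (2 ^ m) * (x ^ (2 * k + 1) * y) * (x ^ (2 ^ m))⁻¹ * (x ^ (2 * k + 1) * y)⁻¹ =
        x ^ (2 ^ (m + 1)) * (x ^ (2 ^ (m + 2))) ^ (2 ^ m) := by
      rw [h5]; group
    have h7 : (⟨q₁, hq₁P⟩ : ↥P) * (x ^ (2 * k + 1) * y) * (⟨q₁, hq₁P⟩ : ↥P)⁻¹ *
        (x ^ (2 * k + 1) * y)⁻¹ = x ^ (2 ^ (m + 1)) * (x ^ (2 ^ (m + 2))) ^ (2 ^ m) := by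
      rw [← h6]
      apply Subtype.ext
      simpa using e3.symm
    rw [h7] at h4
    rcases h.v_mul_z_pow (2 ^ m) with e' | e'
    · rw [e'] at h4; exact h.v_not_mem_z h4
    · rw [e'] at h4; exact h.v_inv_not_mem_z h4
  intro n hn
  rcases mem_or_of_relIndex_two _ _ h₂ _ hrN hrM n hn with h1 | h1
  · exact hMv n h1
  · have e : n * (x : G) ^ (2 ^ (m + 1)) * n⁻¹ =
        (x : G) ^ (2 ^ m) * ((((x : G) ^ (2 ^ m))⁻¹ * n) * (x : G) ^ (2 ^ (m + 1)) *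
          (((x : G) ^ (2 ^ m))⁻¹ * n)⁻¹) * ((x : G) ^ (2 ^ m))⁻¹ := by
      group
    rw [e]
    exact hPv _ (pow_mem x.2 _) _ (hMv _ h1)

end ambient

section transporter

variable {G : Type*} [Group G]

/-- if `g` and `s` both carry `T` onto `T'` then `s⁻¹ g` normalizes `T` -/
theorem mem_normalizer_of_map_conj_eq (T T' : Subgroup G) (g s : G)
    (h1 : T.map (MulAut.conj g).toMonoidHom = T') (h2 : T.map (MulAut.conj s).toMonoidHom = T') :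
    s⁻¹ * g ∈ normalizer (T : Set G) := by
  rw [mem_normalizer_iff]
  intro a
  constructor
  · intro ha
    have h3 : g * a * g⁻¹ ∈ T.map (MulAut.conj s).toMonoidHom := by
      rw [h2, ← h1]; exact Cfsg.Agent.Lib.Helper12.conj_mem_map_conj T g a ha
    have h4 := (Cfsg.Agent.Lib.Helper12.mem_map_conj_iff T s _).mp h3
    have e : s⁻¹ * g * a * (s⁻¹ * g)⁻¹ = s⁻¹ * (g * a * g⁻¹) * s := by group
    rw [e]; exact h4
  · intro ha
    have e : s⁻¹ * g * a * (s⁻¹ * g)⁻¹ = s⁻¹ * (g * a * g⁻¹) * s := by group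
    rw [e] at ha
    have h3 : g * a * g⁻¹ ∈ T.map (MulAut.conj g).toMonoidHom := by
      rw [h1, ← h2]; exact (Cfsg.Agent.Lib.Helper12.mem_map_conj_iff T s _).mpr ha
    have h4 := (Cfsg.Agent.Lib.Helper12.mem_map_conj_iff T g _).mp h3
    have e2 : g⁻¹ * (g * a * g⁻¹) * g = a := by group
    rwa [e2] at h4

theorem map_conj_sup_zpowers (g a b : G) :
    (zpowers a ⊔ zpowers b).map (MulAut.conj g).toMonoidHom =
      zpowers (g * a * g⁻¹) ⊔ zpowers (g * b * g⁻¹) := by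
  rw [Subgroup.map_sup, MonoidHom.map_zpowers, MonoidHom.map_zpowers]
  rfl

end transporter

section nonfusion

variable {G : Type*} [Group G] [Finite G] {S : Sylow 2 G} {m : ℕ} {x y : ↥(S : Subgroup G)}

theorem IsQD.q_not_mem_v_val (h : IsQD ↥(S : Subgroup G) m x y) (k : ℕ) :
    (x : G) ^ (2 * k + 1) * y ∉ zpowers ((x : G) ^ (2 ^ (m + 1))) := by
  intro hq
  apply h.q_not_mem_v k
  rw [show ((x : G) ^ (2 ^ (m + 1))) = ((x ^ (2 ^ (m + 1)) : ↥(S : Subgroup G)) : G) by simp,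
    zpowers_val, mem_map] at hq
  obtain ⟨b, hb, hb'⟩ := hq
  have : b = x ^ (2 * k + 1) * y := Subtype.ext (by simpa using hb')
  rw [← this]; exact hb

/-- G-level conjugacy of the four-subgroups of `S` -/
theorem IsQD.conj_K_val (h : IsQD ↥(S : Subgroup G) m x y) (k k' : ℕ) :
    ∃ s ∈ (S : Subgroup G),
      (zpowers ((x : G) ^ (2 ^ (m + 2))) ⊔ zpowers ((x : G) ^ (2 * k) * y)).map
        (MulAut.conj s).toMonoidHom =
      zpowers ((x : G) ^ (2 ^ (m + 2))) ⊔ zpowers ((x : G) ^ (2 * k') * y) := by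
  obtain ⟨s, hs⟩ := h.conj_K k k'
  refine ⟨s, s.2, ?_⟩
  have := map_conj_val (S : Subgroup G) _ s ▸ congrArg (Subgroup.map (S : Subgroup G).subtype) hs
  rw [← sup_zpowers_val, ← sup_zpowers_val] at this
  simpa using this

/-- G-level conjugacy of the quaternion subgroups of order 8 of `S` -/
theorem IsQD.conj_Q8_val (h : IsQD ↥(S : Subgroup G) m x y) (k k' : ℕ) :
    ∃ s ∈ (S : Subgroup G),
      (zpowers ((x : G) ^ (2 ^ (m + 1))) ⊔ zpowers ((x : G) ^ (2 * k + 1) * y)).map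
        (MulAut.conj s).toMonoidHom =
      zpowers ((x : G) ^ (2 ^ (m + 1))) ⊔ zpowers ((x : G) ^ (2 * k' + 1) * y) := by
  obtain ⟨s, hs⟩ := h.conj_Q8 k k'
  refine ⟨s, s.2, ?_⟩
  have := map_conj_val (S : Subgroup G) _ s ▸ congrArg (Subgroup.map (S : Subgroup G).subtype) hs
  rw [← sup_zpowers_val, ← sup_zpowers_val] at this
  simpa using this

end nonfusion

section nonfusion2

variable {G : Type*} [Group G] [Finite G] {S : Sylow 2 G} {m : ℕ} {x y : ↥(S : Subgroup G)}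

/-- **N1**: if `|N_G(T) : C_G(T)| = 2` then `z` and `y` are not fused (extremal conjugation). -/
theorem IsQD.not_isConj_z_y_of_relIndex_two (h : IsQD ↥(S : Subgroup G) m x y)
    (T : Subgroup G) (hT : IsKleinFour T) (hTS : T ≤ S)
    (h₁ : (centralizer (T : Set G)).relIndex (normalizer (T : Set G)) = 2) :
    ¬ IsConj ((x : G) ^ (2 ^ (m + 2))) (y : G) := by
  have : Fact (Nat.Prime 2) := ⟨Nat.prime_two⟩
  obtain ⟨k, hk⟩ := h.klein_eq_val T hT hTS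
  subst hk
  have hfix := h.normalizer_fixes_z k h₁
  intro hc
  have hc' : IsConj ((x : G) ^ (2 * k) * y) ((x : G) ^ (2 ^ (m + 2))) :=
    ((h.isConj_y_val k).symm.trans hc.symm)
  obtain ⟨g₀, hg₀⟩ := isConj_iff.mp hc'
  have hZcP : ∀ a ∈ (S : Subgroup G), a * (x : G) ^ (2 ^ (m + 2)) = (x : G) ^ (2 ^ (m + 2)) * a := by
    intro a ha
    simpa using congrArg Subtype.val (h.z_central ⟨a, ha⟩)
  have htZ : (x : G) ^ (2 * k) * y ≠ (x : G) ^ (2 ^ (m + 2)) := by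
    intro e
    apply h.xy_not_mem (2 * k)
    have : x ^ (2 * k) * y = x ^ (2 ^ (m + 2)) := Subtype.ext (by simpa using e)
    rw [this]; exact pow_mem (mem_zpowers x) _
  have htS : (x : G) ^ (2 * k) * y ∈ (S : Subgroup G) := mul_mem (pow_mem x.2 _) y.2
  -- `A = g₀ T g₀⁻¹` inside `C_G(z)`
  have hSH : (S : Subgroup G) ≤ centralizer ({(x : G) ^ (2 ^ (m + 2))} : Set G) := by
    intro a ha
    rw [mem_centralizer_singleton_iff]
    exact hZcP a ha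
  have hAH : (zpowers ((x : G) ^ (2 ^ (m + 2))) ⊔ zpowers ((x : G) ^ (2 * k) * y)).map
      (MulAut.conj g₀).toMonoidHom ≤ centralizer ({(x : G) ^ (2 ^ (m + 2))} : Set G) := by
    rintro _ ⟨b, hb, rfl⟩
    rw [mem_centralizer_singleton_iff]
    simp only [MulEquiv.coe_toMonoidHom, MulAut.conj_apply]
    have hbt : b * ((x : G) ^ (2 * k) * y) = ((x : G) ^ (2 * k) * y) * b := by
      rcases (h.mem_K_iff_val k b).mp hb with rfl | rfl | rfl | rfl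
      · simp
      · exact (hZcP _ htS).symm
      · rfl
      · rw [mul_assoc, ← hZcP _ htS, ← mul_assoc]
    rw [← hg₀]
    calc g₀ * b * g₀⁻¹ * (g₀ * ((x : G) ^ (2 * k) * y) * g₀⁻¹)
        = g₀ * (b * ((x : G) ^ (2 * k) * y)) * g₀⁻¹ := by group
      _ = g₀ * (((x : G) ^ (2 * k) * y) * b) * g₀⁻¹ := by rw [hbt]
      _ = _ := by group
  have hTp : IsPGroup 2 ↥(zpowers ((x : G) ^ (2 ^ (m + 2))) ⊔ zpowers ((x : G) ^ (2 * k) * y) :
      Subgroup G) := S.2.to_le hTS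
  obtain ⟨h', hh'H, hh'⟩ := Cfsg.Agent.Lib.Helper12.exists_conj_mem_sylow S _ _ hSH hAH
    (hTp.map _)
  rw [mem_centralizer_singleton_iff] at hh'H
  -- `g = h' g₀`
  have hgt : (h' * g₀) * ((x : G) ^ (2 * k) * y) * (h' * g₀)⁻¹ = (x : G) ^ (2 ^ (m + 2)) := by
    calc (h' * g₀) * ((x : G) ^ (2 * k) * y) * (h' * g₀)⁻¹
        = h' * (g₀ * ((x : G) ^ (2 * k) * y) * g₀⁻¹) * h'⁻¹ := by group
      _ = h' * (x : G) ^ (2 ^ (m + 2)) * h'⁻¹ := by rw [hg₀]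
      _ = _ := by rw [hh'H]; group
  have hgZS : (h' * g₀) * (x : G) ^ (2 ^ (m + 2)) * (h' * g₀)⁻¹ ∈ (S : Subgroup G) := by
    have := hh' (g₀ * (x : G) ^ (2 ^ (m + 2)) * g₀⁻¹)
      (Cfsg.Agent.Lib.Helper12.conj_mem_map_conj _ g₀ _ (mem_sup_left (mem_zpowers _)))
    have e : (h' * g₀) * (x : G) ^ (2 ^ (m + 2)) * (h' * g₀)⁻¹ =
        h' * (g₀ * (x : G) ^ (2 ^ (m + 2)) * g₀⁻¹) * h'⁻¹ := by group
    rw [e]; exact this
  have ho : orderOf ((h' * g₀) * (x : G) ^ (2 ^ (m + 2)) * (h' * g₀)⁻¹) = 2 := by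
    have := (MulAut.conj (h' * g₀)).orderOf_eq ((x : G) ^ (2 ^ (m + 2)))
    rw [MulAut.conj_apply] at this
    rw [this, h.z_orderOf_val]
  rcases h.invol_cases_val _ hgZS ho with e | ⟨k', e⟩
  · -- `g z g⁻¹ = z = g t g⁻¹`
    apply htZ
    have := e.trans hgt.symm
    exact (mul_left_cancel (mul_right_cancel this)).symm
  · -- `g T g⁻¹ = T_{k'}`
    have hmap : (zpowers ((x : G) ^ (2 ^ (m + 2))) ⊔ zpowers ((x : G) ^ (2 * k) * y)).map
        (MulAut.conj (h' * g₀)).toMonoidHom =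
        zpowers ((x : G) ^ (2 ^ (m + 2))) ⊔ zpowers ((x : G) ^ (2 * k') * y) := by
      rw [map_conj_sup_zpowers, e, hgt, sup_comm]
    obtain ⟨s, hs, hs'⟩ := h.conj_K_val k k'
    have hn := mem_normalizer_of_map_conj_eq _ _ _ _ hmap hs'
    have hnt : (s⁻¹ * (h' * g₀)) * ((x : G) ^ (2 * k) * y) * (s⁻¹ * (h' * g₀))⁻¹ =
        (x : G) ^ (2 ^ (m + 2)) := by
      calc (s⁻¹ * (h' * g₀)) * ((x : G) ^ (2 * k) * y) * (s⁻¹ * (h' * g₀))⁻¹
          = s⁻¹ * ((h' * g₀) * ((x : G) ^ (2 * k) * y) * (h' * g₀)⁻¹) * s := by group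
        _ = s⁻¹ * (x : G) ^ (2 ^ (m + 2)) * s := by rw [hgt]
        _ = _ := by rw [mul_assoc, ← hZcP s hs]; group
    have h5 := hfix _ (inv_mem hn)
    apply htZ
    rw [← hnt] at h5
    have e5 : (s⁻¹ * (h' * g₀))⁻¹ * ((s⁻¹ * (h' * g₀)) * ((x : G) ^ (2 * k) * y) *
        (s⁻¹ * (h' * g₀))⁻¹) * (s⁻¹ * (h' * g₀))⁻¹⁻¹ = (x : G) ^ (2 * k) * y := by group
    rw [e5] at h5
    rw [h5, hnt]

end nonfusion2

theorem mem_sup_zpowers_val_iff {G : Type*} [Group G] (P : Subgroup G) (a b c : ↥P) :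
    (c : G) ∈ zpowers (a : G) ⊔ zpowers (b : G) ↔ c ∈ zpowers a ⊔ zpowers b := by
  rw [sup_zpowers_val]
  exact Subgroup.mem_map_iff_mem P.subtype_injective

/-- `Q_k`-conjugates of `q` lie in `⟨q⟩` -/
theorem IsQD.conj_q_mem {S : Type*} [Group S] {m : ℕ} {x y : S} (h : IsQD S m x y) (k : ℕ) (a : S)
    (ha : a ∈ zpowers (x ^ (2 ^ (m + 1))) ⊔ zpowers (x ^ (2 * k + 1) * y)) :
    a * (x ^ (2 * k + 1) * y) * a⁻¹ ∈ zpowers (x ^ (2 * k + 1) * y) := by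
  have h1 := h.comm_mem_z_of_mem_Q8 k a ha
  have h2 : zpowers (x ^ (2 ^ (m + 2))) ≤ zpowers (x ^ (2 * k + 1) * y) := by
    apply zpowers_le.mpr
    rw [← h.q_mul_self k]
    exact mul_mem (mem_zpowers _) (mem_zpowers _)
  have := mul_mem (h2 h1) (mem_zpowers (x ^ (2 * k + 1) * y))
  rwa [inv_mul_cancel_right] at this

section nonfusion3

variable {G : Type*} [Group G] [Finite G] {S : Sylow 2 G} {m : ℕ} {x y : ↥(S : Subgroup G)}

/-- **N2**: if `|N_G(Q) : Q C_G(Q)| = 2` then `v` and `x y` are not fused. -/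
theorem IsQD.not_isConj_v_xy_of_relIndex_two (h : IsQD ↥(S : Subgroup G) m x y)
    (Q : Subgroup G) (hQS : Q ≤ S) (eQ : Q ≃* QuaternionGroup 2)
    (h₂ : (Q ⊔ centralizer (Q : Set G)).relIndex (normalizer (Q : Set G)) = 2) :
    ¬ IsConj ((x : G) ^ (2 ^ (m + 1))) ((x : G) * y) := by
  have : Fact (Nat.Prime 2) := ⟨Nat.prime_two⟩
  obtain ⟨k, hk⟩ := h.q8_eq_val Q hQS eQ
  subst hk
  have hnorm := h.normalizer_normalizes_v k h₂
  intro hc
  have hc' : IsConj ((x : G) ^ (2 * k + 1) * y) ((x : G) ^ (2 ^ (m + 1))) :=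
    ((h.isConj_xy_val k).symm.trans hc.symm)
  obtain ⟨g₀, hg₀⟩ := isConj_iff.mp hc'
  have hPv : ∀ a ∈ (S : Subgroup G), ∀ w ∈ zpowers ((x : G) ^ (2 ^ (m + 1))),
      a * w * a⁻¹ ∈ zpowers ((x : G) ^ (2 ^ (m + 1))) := by
    intro a ha w hw
    obtain ⟨j, rfl⟩ := mem_zpowers_iff.mp hw
    rw [← conj_zpow]
    apply zpow_mem
    rcases h.conj_v_cases ⟨a, ha⟩ with e | e
    · have : a * (x : G) ^ (2 ^ (m + 1)) * a⁻¹ = (x : G) ^ (2 ^ (m + 1)) := by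
        simpa using congrArg Subtype.val e
      rw [this]; exact mem_zpowers _
    · have : a * (x : G) ^ (2 ^ (m + 1)) * a⁻¹ = ((x : G) ^ (2 ^ (m + 1)))⁻¹ := by
        simpa using congrArg Subtype.val e
      rw [this]; exact inv_mem (mem_zpowers _)
  have hSH : (S : Subgroup G) ≤ normalizer ((zpowers ((x : G) ^ (2 ^ (m + 1))) : Subgroup G) :
      Set G) := by
    intro a ha
    rw [mem_normalizer_iff]
    intro w
    constructor
    · exact hPv a ha w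
    · intro hw
      have := hPv a⁻¹ (inv_mem ha) _ hw
      simpa [mul_assoc] using this
  -- `Q`-conjugates of `q`
  have hQq : ∀ b ∈ (zpowers ((x : G) ^ (2 ^ (m + 1))) ⊔ zpowers ((x : G) ^ (2 * k + 1) * y) :
      Subgroup G), b * ((x : G) ^ (2 * k + 1) * y) * b⁻¹ ∈ zpowers ((x : G) ^ (2 * k + 1) * y) := by
    intro b hb
    have hbP : b ∈ (S : Subgroup G) := hQS hb
    have hbQ : (⟨b, hbP⟩ : ↥(S : Subgroup G)) ∈
        zpowers (x ^ (2 ^ (m + 1))) ⊔ zpowers (x ^ (2 * k + 1) * y) := by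
      rw [← mem_sup_zpowers_val_iff]
      simpa using hb
    have h4 := h.conj_q_mem k _ hbQ
    obtain ⟨j, hj⟩ := mem_zpowers_iff.mp h4
    refine mem_zpowers_iff.mpr ⟨j, ?_⟩
    simpa using congrArg Subtype.val hj
  -- `A = g₀ Q g₀⁻¹` normalizes `⟨v⟩`
  have hAprop : ∀ a ∈ (zpowers ((x : G) ^ (2 ^ (m + 1))) ⊔
      zpowers ((x : G) ^ (2 * k + 1) * y)).map (MulAut.conj g₀).toMonoidHom,
      ∀ w ∈ zpowers ((x : G) ^ (2 ^ (m + 1))), a * w * a⁻¹ ∈ zpowers ((x : G) ^ (2 ^ (m + 1))) := by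
    rintro _ ⟨b, hb, rfl⟩ w hw
    simp only [MulEquiv.coe_toMonoidHom, MulAut.conj_apply]
    obtain ⟨j, rfl⟩ := mem_zpowers_iff.mp hw
    rw [← conj_zpow]
    apply zpow_mem
    obtain ⟨i, hi⟩ := mem_zpowers_iff.mp (hQq b hb)
    have e1 : g₀ * b * g₀⁻¹ * (x : G) ^ (2 ^ (m + 1)) * (g₀ * b * g₀⁻¹)⁻¹ =
        g₀ * (b * ((x : G) ^ (2 * k + 1) * y) * b⁻¹) * g₀⁻¹ := by
      rw [← hg₀]; group
    rw [e1, ← hi, ← conj_zpow, hg₀]
    exact zpow_mem (mem_zpowers _) i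
  have hAH : (zpowers ((x : G) ^ (2 ^ (m + 1))) ⊔
      zpowers ((x : G) ^ (2 * k + 1) * y)).map (MulAut.conj g₀).toMonoidHom ≤
      normalizer ((zpowers ((x : G) ^ (2 ^ (m + 1))) : Subgroup G) : Set G) := by
    intro a ha
    rw [mem_normalizer_iff]
    intro w
    constructor
    · exact hAprop a ha w
    · intro hw
      have := hAprop a⁻¹ (inv_mem ha) _ hw
      simpa [mul_assoc] using this
  have hQp : IsPGroup 2 ↥(zpowers ((x : G) ^ (2 ^ (m + 1))) ⊔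
      zpowers ((x : G) ^ (2 * k + 1) * y) : Subgroup G) := S.2.to_le hQS
  obtain ⟨h', hh'H, hh'⟩ := Cfsg.Agent.Lib.Helper12.exists_conj_mem_sylow S _ _ hSH hAH
    (hQp.map _)
  -- `g = h' g₀`
  have hgq : (h' * g₀) * ((x : G) ^ (2 * k + 1) * y) * (h' * g₀)⁻¹ ∈
      zpowers ((x : G) ^ (2 ^ (m + 1))) := by
    have e : (h' * g₀) * ((x : G) ^ (2 * k + 1) * y) * (h' * g₀)⁻¹ =
        h' * (g₀ * ((x : G) ^ (2 * k + 1) * y) * g₀⁻¹) * h'⁻¹ := by group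
    rw [e, hg₀]
    exact (mem_normalizer_iff.mp hh'H _).mp (mem_zpowers _)
  have hQ'S : (zpowers ((x : G) ^ (2 ^ (m + 1))) ⊔
      zpowers ((x : G) ^ (2 * k + 1) * y)).map (MulAut.conj (h' * g₀)).toMonoidHom ≤
      (S : Subgroup G) := by
    rintro _ ⟨b, hb, rfl⟩
    simp only [MulEquiv.coe_toMonoidHom, MulAut.conj_apply]
    have := hh' (g₀ * b * g₀⁻¹) (Cfsg.Agent.Lib.Helper12.conj_mem_map_conj _ g₀ _ hb)
    have e : (h' * g₀) * b * (h' * g₀)⁻¹ = h' * (g₀ * b * g₀⁻¹) * h'⁻¹ := by group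
    rw [e]; exact this
  have eQ' := ((zpowers ((x : G) ^ (2 ^ (m + 1))) ⊔
      zpowers ((x : G) ^ (2 * k + 1) * y)).equivMapOfInjective
      (MulAut.conj (h' * g₀)).toMonoidHom (MulAut.conj (h' * g₀)).injective).symm.trans eQ
  obtain ⟨k'', hk''⟩ := h.q8_eq_val _ hQ'S eQ'
  obtain ⟨s, hs, hs'⟩ := h.conj_Q8_val k k''
  have hn := mem_normalizer_of_map_conj_eq _ _ _ _ hk'' hs'
  have hnq : (s⁻¹ * (h' * g₀)) * ((x : G) ^ (2 * k + 1) * y) * (s⁻¹ * (h' * g₀))⁻¹ ∈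
      zpowers ((x : G) ^ (2 ^ (m + 1))) := by
    have e : (s⁻¹ * (h' * g₀)) * ((x : G) ^ (2 * k + 1) * y) * (s⁻¹ * (h' * g₀))⁻¹ =
        s⁻¹ * ((h' * g₀) * ((x : G) ^ (2 * k + 1) * y) * (h' * g₀)⁻¹) * s⁻¹⁻¹ := by group
    rw [e]
    exact hPv s⁻¹ (inv_mem hs) _ hgq
  obtain ⟨j, hj⟩ := mem_zpowers_iff.mp hnq
  have h5 := hnorm _ (inv_mem hn)
  apply h.q_not_mem_v_val k
  have e6 : (x : G) ^ (2 * k + 1) * y = (s⁻¹ * (h' * g₀))⁻¹ *
      ((s⁻¹ * (h' * g₀)) * ((x : G) ^ (2 * k + 1) * y) * (s⁻¹ * (h' * g₀))⁻¹) *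
      (s⁻¹ * (h' * g₀))⁻¹⁻¹ := by group
  rw [e6, ← hj, ← conj_zpow]
  exact zpow_mem h5 j

end nonfusion3

end Cfsg.Agent.Lib.Helper18
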