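import Mathlib
import Cfsg.Agent.Lib.Helper17.Coprime
import Cfsg.Agent.Lib.Helper18.Conj

/-!
Helper lemmas (helper18): coprime automorphisms of abelian `p`-groups (as conjugation by elements
normalizing an abelian `p`-subgroup) that are trivial on the elements of order `p` are trivial;
Sylow subgroups isomorphic to `Z/2^m × Z/2^m`: elements of the normalizer outside the centralizer
fix no involution of the Sylow subgroup.
-/

set_option autoImplicit false

namespace Cfsg.Agent.Lib.Helper18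

/-- If `n` normalizes the commutative `p`-subgroup `P`, `n ^ k = 1` with `k` prime to `p`, and `n`
centralizes every `x ∈ P` with `x ^ p = 1`, then `n` centralizes `P`. -/
theorem conj_eq_of_fixes_omega {G : Type*} [Group G] {p : ℕ} [hp : Fact p.Prime] (P : Subgroup G)
    (hPc : ∀ x ∈ P, ∀ y ∈ P, x * y = y * x) (hP : IsPGroup p P) (n : G)
    (hn : ∀ x ∈ P, n * x * n⁻¹ ∈ P) (k : ℕ) (hk : n ^ k = 1) (hkp : k.Coprime p)
    (hfix : ∀ x ∈ P, x ^ p = 1 → n * x * n⁻¹ = x) : ∀ x ∈ P, n * x * n⁻¹ = x := by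
  have key : ∀ j : ℕ, ∀ x ∈ P, x ^ (p ^ j) = 1 → n * x * n⁻¹ = x := by
    intro j
    induction j with
    | zero =>
      intro x _ hx
      rw [pow_zero, pow_one] at hx
      rw [hx]; group
    | succ j ih =>
      intro x hxP hx
      have h1 : n * x ^ p * n⁻¹ = x ^ p := by
        apply ih _ (P.pow_mem hxP p)
        rw [← pow_mul, ← pow_succ']; exact hx
      obtain ⟨w, hw⟩ : ∃ w, w = n * x * n⁻¹ * x⁻¹ := ⟨_, rfl⟩
      have hnx : n * x * n⁻¹ ∈ P := hn x hxP
      have hwP : w ∈ P := by rw [hw]; exact P.mul_mem hnx (P.inv_mem hxP)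
      have hcomm : Commute (n * x * n⁻¹) x⁻¹ := hPc _ hnx _ (P.inv_mem hxP)
      have hwp : w ^ p = 1 := by
        rw [hw, hcomm.mul_pow, conj_pow, h1, inv_pow, mul_inv_cancel]
      have hnw : n * w * n⁻¹ = w := hfix w hwP hwp
      have hxw : n * x * n⁻¹ = w * x := by rw [hw]; group
      have hiter : ∀ i : ℕ, n ^ i * x * (n ^ i)⁻¹ = w ^ i * x := by
        intro i
        induction i with
        | zero => simp
        | succ i ihi =>
          have hnwi : n * w ^ i * n⁻¹ = w ^ i := by rw [← conj_pow, hnw]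
          calc n ^ (i + 1) * x * (n ^ (i + 1))⁻¹ = n * (n ^ i * x * (n ^ i)⁻¹) * n⁻¹ := by
                rw [pow_succ']; group
            _ = n * (w ^ i * x) * n⁻¹ := by rw [ihi]
            _ = (n * w ^ i * n⁻¹) * (n * x * n⁻¹) := by group
            _ = w ^ i * (w * x) := by rw [hnwi, hxw]
            _ = w ^ (i + 1) * x := by rw [pow_succ, mul_assoc]
      have h2 := hiter k
      rw [hk] at h2
      have hwk : w ^ k = 1 := by
        have : x = w ^ k * x := by simpa using h2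
        exact (mul_eq_right.mp this.symm)
      have hw1 : w = 1 := by
        have h3 : orderOf w ∣ k := orderOf_dvd_of_pow_eq_one hwk
        have h4 : orderOf w ∣ p := orderOf_dvd_of_pow_eq_one hwp
        have h5 : orderOf w = 1 := Nat.eq_one_of_dvd_coprimes hkp h3 h4
        exact orderOf_eq_one_iff.mp h5
      rw [hxw, hw1, one_mul]
  intro x hxP
  obtain ⟨j, hj⟩ := hP ⟨x, hxP⟩
  apply key j x hxP
  have := congrArg Subtype.val hj
  simpa using this

theorem zmod_two_pow_add_self {m : ℕ} (hm : 1 ≤ m) (x : ZMod (2 ^ m)) (hx : x + x = 0) :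
    x = 0 ∨ x = ((2 ^ (m - 1) : ℕ) : ZMod (2 ^ m)) := by
  haveI : NeZero (2 ^ m) := ⟨by positivity⟩
  have h1 : ((x.val + x.val : ℕ) : ZMod (2 ^ m)) = 0 := by
    rw [Nat.cast_add, ZMod.natCast_zmod_val, hx]
  rw [ZMod.natCast_eq_zero_iff] at h1
  have h2 : x.val < 2 ^ m := ZMod.val_lt x
  have h3 : 2 ^ m = 2 ^ (m - 1) + 2 ^ (m - 1) := by
    rw [← two_mul, ← pow_succ']; congr 1; omega
  obtain ⟨c, hc⟩ := h1
  have hc' : c = 0 ∨ c = 1 := by
    rcases c with _ | _ | c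
    · left; rfl
    · right; rfl
    · exfalso
      have : 2 ^ m * (c + 1 + 1) ≥ 2 ^ m * 2 := Nat.mul_le_mul_left _ (by omega)
      omega
  rcases hc' with h | h
  · left
    rw [h, mul_zero] at hc
    have : x.val = 0 := by omega
    exact (ZMod.val_eq_zero x).mp this
  · right
    rw [h, mul_one] at hc
    have : x.val = 2 ^ (m - 1) := by omega
    rw [← this, ZMod.natCast_zmod_val]

theorem zmod_half_ne_zero {m : ℕ} (hm : 1 ≤ m) : ((2 ^ (m - 1) : ℕ) : ZMod (2 ^ m)) ≠ 0 := by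
  rw [Ne, ZMod.natCast_eq_zero_iff]
  intro h
  have h1 := Nat.le_of_dvd (by positivity) h
  have h2 : 2 ^ (m - 1) < 2 ^ m := Nat.pow_lt_pow_right (by norm_num) (by omega)
  omega

theorem zmod_half_add_self {m : ℕ} (hm : 1 ≤ m) :
    ((2 ^ (m - 1) : ℕ) : ZMod (2 ^ m)) + ((2 ^ (m - 1) : ℕ) : ZMod (2 ^ m)) = 0 := by
  rw [← Nat.cast_add, ZMod.natCast_eq_zero_iff]
  have h3 : 2 ^ m = 2 ^ (m - 1) + 2 ^ (m - 1) := by
    rw [← two_mul, ← pow_succ']; congr 1; omega
  rw [← h3]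

/-- The involutions of a group isomorphic to `Z/2^m × Z/2^m`. -/
theorem exists_involutions_of_homocyclic {G : Type*} [Group G] (P : Subgroup G) (m : ℕ)
    (hm : 1 ≤ m) (e : P ≃* Multiplicative (ZMod (2 ^ m) × ZMod (2 ^ m))) :
    (∀ x ∈ P, ∀ y ∈ P, x * y = y * x) ∧ ∃ t₁ t₂ : G, t₁ ∈ P ∧ t₂ ∈ P ∧ t₁ ≠ 1 ∧ t₂ ≠ 1 ∧ t₁ ≠ t₂ ∧
      t₁ * t₁ = 1 ∧ t₂ * t₂ = 1 ∧
      ∀ x ∈ P, x * x = 1 → x = 1 ∨ x = t₁ ∨ x = t₂ ∨ x = t₁ * t₂ := by
  set h : ZMod (2 ^ m) := ((2 ^ (m - 1) : ℕ) : ZMod (2 ^ m)) with hh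
  have hh0 : h ≠ 0 := zmod_half_ne_zero hm
  have hhh : h + h = 0 := zmod_half_add_self hm
  refine ⟨?_, ?_⟩
  · intro x hx y hy
    have h1 : e (⟨x, hx⟩ * ⟨y, hy⟩) = e (⟨y, hy⟩ * ⟨x, hx⟩) := by
      rw [map_mul, map_mul, mul_comm]
    have h2 := e.injective h1
    exact congrArg Subtype.val h2
  · set s₁ : P := e.symm (Multiplicative.ofAdd (h, 0)) with hs₁
    set s₂ : P := e.symm (Multiplicative.ofAdd (0, h)) with hs₂
    have he₁ : e s₁ = Multiplicative.ofAdd (h, 0) := by rw [hs₁, MulEquiv.apply_symm_apply]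
    have he₂ : e s₂ = Multiplicative.ofAdd (0, h) := by rw [hs₂, MulEquiv.apply_symm_apply]
    have hne : ∀ a b : P, e a ≠ e b → (a : G) ≠ b := by
      intro a b hab h'
      exact hab (by rw [Subtype.ext h'])
    refine ⟨s₁, s₂, s₁.2, s₂.2, ?_, ?_, ?_, ?_, ?_, ?_⟩
    · have := hne s₁ 1 (by
        rw [he₁, map_one]
        intro h'
        have := congrArg (fun z => (Multiplicative.toAdd z).1) h'
        simp at this
        exact hh0 this)
      simpa using this
    · have := hne s₂ 1 (by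
        rw [he₂, map_one]
        intro h'
        have := congrArg (fun z => (Multiplicative.toAdd z).2) h'
        simp at this
        exact hh0 this)
      simpa using this
    · apply hne
      rw [he₁, he₂]
      intro h'
      have := congrArg (fun z => (Multiplicative.toAdd z).1) h'
      simp at this
      exact hh0 this
    · have h1 : e (s₁ * s₁) = e 1 := by
        rw [map_mul, he₁, map_one, ← ofAdd_add, Prod.mk_add_mk, hhh, add_zero]; rfl
      have := e.injective h1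
      have := congrArg Subtype.val this
      simpa using this
    · have h1 : e (s₂ * s₂) = e 1 := by
        rw [map_mul, he₂, map_one, ← ofAdd_add, Prod.mk_add_mk, hhh, add_zero]; rfl
      have := e.injective h1
      have := congrArg Subtype.val this
      simpa using this
    · intro x hx hxx
      obtain ⟨⟨a, b⟩, hab⟩ : ∃ ab : ZMod (2 ^ m) × ZMod (2 ^ m), e ⟨x, hx⟩ = Multiplicative.ofAdd ab :=
        ⟨Multiplicative.toAdd (e ⟨x, hx⟩), rfl⟩
      have h1 : e (⟨x, hx⟩ * ⟨x, hx⟩) = 1 := by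
        have : (⟨x, hx⟩ * ⟨x, hx⟩ : P) = 1 := Subtype.ext hxx
        rw [this, map_one]
      rw [map_mul, hab, ← ofAdd_add, Prod.mk_add_mk] at h1
      have h2 : (a + a, b + b) = (0 : ZMod (2 ^ m) × ZMod (2 ^ m)) := by
        have := congrArg Multiplicative.toAdd h1
        simpa using this
      have ha : a + a = 0 := congrArg Prod.fst h2
      have hb : b + b = 0 := congrArg Prod.snd h2
      have key : ∀ y : P, e ⟨x, hx⟩ = e y → x = (y : G) := by
        intro y hy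
        have := e.injective hy
        exact congrArg Subtype.val this
      rcases zmod_two_pow_add_self hm a ha with ha' | ha' <;>
        rcases zmod_two_pow_add_self hm b hb with hb' | hb'
      · left
        have := key 1 (by rw [hab, ha', hb', map_one]; rfl)
        simpa using this
      · right; right; left
        exact key s₂ (by rw [hab, ha', hb', he₂])
      · right; left
        exact key s₁ (by rw [hab, ha', hb', he₁])
      · right; right; right
        have := key (s₁ * s₂) (by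
          rw [hab, ha', hb', map_mul, he₁, he₂, ← ofAdd_add, Prod.mk_add_mk, add_zero, zero_add])
        simpa using this


/-- An odd-order element normalizing an abelian 2-group whose involutions are exactly `t, a, b`,
and fixing `t`, centralizes the group. -/
theorem centralizes_of_fixes_involution {G : Type*} [Group G] (P : Subgroup G)
    (hPc : ∀ x ∈ P, ∀ y ∈ P, x * y = y * x) (hP : IsPGroup 2 P) (w : G)
    (hw : ∀ x ∈ P, w * x * w⁻¹ ∈ P) (K : ℕ) (hK : w ^ K = 1) (hKodd : Odd K)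
    (t a b : G) (ht1 : t ≠ 1) (ha1 : a ≠ 1) (hb1 : b ≠ 1) (hta : t ≠ a) (htb : t ≠ b)
    (hab : a ≠ b) (htt : t * t = 1) (haa : a * a = 1) (hbb : b * b = 1)
    (haP : a ∈ P) (hbP : b ∈ P)
    (hlist : ∀ x ∈ P, x * x = 1 → x = 1 ∨ x = t ∨ x = a ∨ x = b)
    (hfix : w * t * w⁻¹ = t) : ∀ x ∈ P, w * x * w⁻¹ = x := by
  haveI : Fact (Nat.Prime 2) := ⟨Nat.prime_two⟩
  have hinj : ∀ x y : G, w * x * w⁻¹ = w * y * w⁻¹ → x = y := by
    intro x y h
    have := congrArg (fun z => w⁻¹ * z * w) h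
    simpa [mul_assoc] using this
  have hsq : ∀ x : G, x * x = 1 → (w * x * w⁻¹) * (w * x * w⁻¹) = 1 := by
    intro x hx
    calc (w * x * w⁻¹) * (w * x * w⁻¹) = w * (x * x) * w⁻¹ := by group
      _ = 1 := by rw [hx]; group
  -- images of a and b
  have hca : w * a * w⁻¹ = a ∨ w * a * w⁻¹ = b := by
    rcases hlist _ (hw a haP) (hsq a haa) with h | h | h | h
    · exfalso; apply ha1
      have : w * a * w⁻¹ = w * 1 * w⁻¹ := by rw [h]; group
      exact hinj _ _ this
    · exfalso; apply hta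
      have : w * a * w⁻¹ = w * t * w⁻¹ := by rw [h, hfix]
      exact (hinj _ _ this).symm
    · left; exact h
    · right; exact h
  have hcb : w * b * w⁻¹ = a ∨ w * b * w⁻¹ = b := by
    rcases hlist _ (hw b hbP) (hsq b hbb) with h | h | h | h
    · exfalso; apply hb1
      have : w * b * w⁻¹ = w * 1 * w⁻¹ := by rw [h]; group
      exact hinj _ _ this
    · exfalso; apply htb
      have : w * b * w⁻¹ = w * t * w⁻¹ := by rw [h, hfix]
      exact (hinj _ _ this).symm
    · left; exact h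
    · right; exact h
  -- w^2 fixes every involution
  have hconj2 : ∀ x : G, w ^ 2 * x * (w ^ 2)⁻¹ = w * (w * x * w⁻¹) * w⁻¹ := by
    intro x; rw [pow_two]; group
  have h2 : ∀ x ∈ P, x * x = 1 → w ^ 2 * x * (w ^ 2)⁻¹ = x := by
    intro x hxP hxx
    rw [hconj2]
    rcases hlist x hxP hxx with h | h | h | h
    · rw [h]; group
    · rw [h, hfix, hfix]
    · rw [h]
      rcases hca with h' | h'
      · rw [h', h']
      · rw [h']
        rcases hcb with h'' | h''
        · exact h''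
        · exfalso; apply hab
          exact hinj _ _ (h'.trans h''.symm)
    · rw [h]
      rcases hcb with h' | h'
      · rw [h']
        rcases hca with h'' | h''
        · exfalso; apply hab
          exact (hinj _ _ (h'.trans h''.symm)).symm
        · exact h''
      · rw [h', h']
  -- odd order: w is a power of w^2
  obtain ⟨l, hl⟩ := hKodd
  have hwpow : w = (w ^ 2) ^ (l + 1) := by
    rw [← pow_mul]
    have : 2 * (l + 1) = K + 1 := by omega
    rw [this, pow_succ, hK, one_mul]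
  have hiter : ∀ i : ℕ, ∀ x ∈ P, x * x = 1 → (w ^ 2) ^ i * x * ((w ^ 2) ^ i)⁻¹ = x := by
    intro i
    induction i with
    | zero => intro x _ _; simp
    | succ i ih =>
      intro x hxP hxx
      calc (w ^ 2) ^ (i + 1) * x * ((w ^ 2) ^ (i + 1))⁻¹
          = w ^ 2 * ((w ^ 2) ^ i * x * ((w ^ 2) ^ i)⁻¹) * (w ^ 2)⁻¹ := by
            rw [pow_succ']; group
        _ = w ^ 2 * x * (w ^ 2)⁻¹ := by rw [ih x hxP hxx]
        _ = x := h2 x hxP hxx
  have hfixall : ∀ x ∈ P, x ^ 2 = 1 → w * x * w⁻¹ = x := by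
    intro x hxP hxx
    rw [pow_two] at hxx
    have := hiter (l + 1) x hxP hxx
    rw [← hwpow] at this
    exact this
  exact conj_eq_of_fixes_omega P hPc hP w hw K hK (Nat.Coprime.symm (Nat.coprime_two_left.mpr ⟨l, hl⟩)) hfixall

theorem mem_sylow_of_mem_normalizer_of_orderOf {G : Type*} [Group G] [Finite G] {p : ℕ}
    [Fact p.Prime] (P : Sylow p G) (u : G) (hu : u ∈ Subgroup.normalizer (P : Set G))
    (k : ℕ) (hk : orderOf u = p ^ k) : u ∈ (P : Subgroup G) := by
  have h1 : IsPGroup p (Subgroup.zpowers u) := by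
    apply IsPGroup.of_card (n := k)
    rw [Nat.card_zpowers, hk]
  have h2 := h1.inf_normalizer_sylow P
  have h3 : u ∈ Subgroup.zpowers u ⊓ Subgroup.normalizer (P : Set G) :=
    Subgroup.mem_inf.mpr ⟨Subgroup.mem_zpowers u, hu⟩
  rw [h2] at h3
  exact (Subgroup.mem_inf.mp h3).2

theorem sylow_two_centralizes_of_fixes_involution {G : Type*} [Group G] [Finite G] (P : Sylow 2 G)
    (hPc : ∀ x ∈ (P : Subgroup G), ∀ y ∈ (P : Subgroup G), x * y = y * x)
    (t₁ t₂ : G) (h₁P : t₁ ∈ (P : Subgroup G)) (h₂P : t₂ ∈ (P : Subgroup G))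
    (h₁1 : t₁ ≠ 1) (h₂1 : t₂ ≠ 1) (h12 : t₁ ≠ t₂)
    (h₁₁ : t₁ * t₁ = 1) (h₂₂ : t₂ * t₂ = 1)
    (hlist : ∀ x ∈ (P : Subgroup G), x * x = 1 → x = 1 ∨ x = t₁ ∨ x = t₂ ∨ x = t₁ * t₂)
    (n : G) (hn : n ∈ Subgroup.normalizer (P : Set G)) (t : G) (htP : t ∈ (P : Subgroup G))
    (ht1 : t ≠ 1) (htt : t * t = 1)
    (hfix : n * t * n⁻¹ = t) : ∀ x ∈ (P : Subgroup G), n * x * n⁻¹ = x := by
  have : Fact (Nat.Prime 2) := ⟨Nat.prime_two⟩
  obtain ⟨i, j, hnij, ⟨k, hk⟩, hcop⟩ := Cfsg.Agent.Lib.Helper17.exists_p_pprime_decomp 2 n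
  have huN : n ^ i ∈ Subgroup.normalizer (P : Set G) := Subgroup.zpow_mem _ hn i
  have hwN : n ^ j ∈ Subgroup.normalizer (P : Set G) := Subgroup.zpow_mem _ hn j
  have huP : n ^ i ∈ (P : Subgroup G) := mem_sylow_of_mem_normalizer_of_orderOf P _ huN k hk
  have hwnorm : ∀ x ∈ (P : Subgroup G), n ^ j * x * (n ^ j)⁻¹ ∈ (P : Subgroup G) := by
    intro x hx
    exact (Subgroup.mem_normalizer_iff.mp hwN x).mp hx
  have hcomm : Commute n t := by
    have : n * t = t * n := by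
      calc n * t = (n * t * n⁻¹) * n := by group
        _ = t * n := by rw [hfix]
    exact this
  have hwfix : n ^ j * t * (n ^ j)⁻¹ = t := by
    have := (hcomm.zpow_left j).eq
    rw [this]; group
  have hKodd : Odd (orderOf (n ^ j)) := by
    rcases Nat.even_or_odd (orderOf (n ^ j)) with h | h
    · exfalso
      have h2 : 2 ∣ orderOf (n ^ j) := h.two_dvd
      have := Nat.Coprime.eq_one_of_dvd hcop.symm h2
      omega
    · exact h
  have h3P : t₁ * t₂ ∈ (P : Subgroup G) := Subgroup.mul_mem _ h₁P h₂P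
  have h31 : t₁ * t₂ ≠ 1 := by
    intro h
    apply h12
    have : t₁ = t₂⁻¹ := eq_inv_of_mul_eq_one_left h
    rw [this]; exact inv_eq_of_mul_eq_one_left h₂₂
  have h3ne1 : t₁ * t₂ ≠ t₁ := by
    intro h; exact h₂1 (mul_eq_left.mp h)
  have h3ne2 : t₁ * t₂ ≠ t₂ := by
    intro h; exact h₁1 (mul_eq_right.mp h)
  have h33 : (t₁ * t₂) * (t₁ * t₂) = 1 := by
    have h := hPc t₁ h₁P t₂ h₂P
    calc (t₁ * t₂) * (t₁ * t₂) = t₁ * (t₂ * t₁) * t₂ := by group
      _ = t₁ * (t₁ * t₂) * t₂ := by rw [h]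
      _ = (t₁ * t₁) * (t₂ * t₂) := by group
      _ = 1 := by rw [h₁₁, h₂₂, one_mul]
  have hwc : ∀ x ∈ (P : Subgroup G), n ^ j * x * (n ^ j)⁻¹ = x := by
    rcases hlist t htP htt with h | h | h | h
    · exact absurd h ht1
    · subst h
      exact centralizes_of_fixes_involution (P : Subgroup G) hPc P.isPGroup' (n ^ j) hwnorm _
        (pow_orderOf_eq_one _) hKodd t t₂ (t * t₂) ht1 h₂1 h31 h12 (Ne.symm h3ne1) (Ne.symm h3ne2)
        htt h₂₂ h33 h₂P h3P hlist hwfix
    · subst h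
      exact centralizes_of_fixes_involution (P : Subgroup G) hPc P.isPGroup' (n ^ j) hwnorm _
        (pow_orderOf_eq_one _) hKodd t t₁ (t₁ * t) ht1 h₁1 h31 (Ne.symm h12) (Ne.symm h3ne2)
        (Ne.symm h3ne1) htt h₁₁ h33 h₁P h3P
        (fun x hx hxx => by
          rcases hlist x hx hxx with h | h | h | h
          · exact Or.inl h
          · exact Or.inr (Or.inr (Or.inl h))
          · exact Or.inr (Or.inl h)
          · exact Or.inr (Or.inr (Or.inr h))) hwfix
    · subst h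
      exact centralizes_of_fixes_involution (P : Subgroup G) hPc P.isPGroup' (n ^ j) hwnorm _
        (pow_orderOf_eq_one _) hKodd (t₁ * t₂) t₁ t₂ ht1 h₁1 h₂1 h3ne1 h3ne2 h12
        htt h₁₁ h₂₂ h₁P h₂P
        (fun x hx hxx => by
          rcases hlist x hx hxx with h | h | h | h
          · exact Or.inl h
          · exact Or.inr (Or.inr (Or.inl h))
          · exact Or.inr (Or.inr (Or.inr h))
          · exact Or.inr (Or.inl h)) hwfix
  intro x hx
  have hux : n ^ i * x * (n ^ i)⁻¹ = x := by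
    rw [hPc _ huP x hx]; group
  calc n * x * n⁻¹ = (n ^ i * n ^ j) * x * (n ^ i * n ^ j)⁻¹ := by rw [← hnij]
    _ = n ^ i * (n ^ j * x * (n ^ j)⁻¹) * (n ^ i)⁻¹ := by group
    _ = x := by rw [hwc x hx, hux]


theorem sylow_two_involutions_conj {G : Type*} [Group G] [Finite G] (P : Sylow 2 G)
    (hPc : ∀ x ∈ (P : Subgroup G), ∀ y ∈ (P : Subgroup G), x * y = y * x)
    (t₁ t₂ : G) (h₁P : t₁ ∈ (P : Subgroup G)) (h₂P : t₂ ∈ (P : Subgroup G))
    (h₁1 : t₁ ≠ 1) (h₂1 : t₂ ≠ 1) (h12 : t₁ ≠ t₂)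
    (h₁₁ : t₁ * t₁ = 1) (h₂₂ : t₂ * t₂ = 1)
    (hlist : ∀ x ∈ (P : Subgroup G), x * x = 1 → x = 1 ∨ x = t₁ ∨ x = t₂ ∨ x = t₁ * t₂)
    (n : G) (hn : n ∈ Subgroup.normalizer (P : Set G))
    (hnc : ¬ ∀ x ∈ (P : Subgroup G), n * x * n⁻¹ = x) :
    IsConj t₁ t₂ ∧ IsConj t₁ (t₁ * t₂) := by
  have hcore := sylow_two_centralizes_of_fixes_involution P hPc t₁ t₂ h₁P h₂P h₁1 h₂1 h12 h₁₁ h₂₂
    hlist n hn
  have hnorm : ∀ x ∈ (P : Subgroup G), n * x * n⁻¹ ∈ (P : Subgroup G) := by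
    intro x hx
    exact (Subgroup.mem_normalizer_iff.mp hn x).mp hx
  have hinj : ∀ x y : G, n * x * n⁻¹ = n * y * n⁻¹ → x = y := by
    intro x y h
    have := congrArg (fun z => n⁻¹ * z * n) h
    simpa [mul_assoc] using this
  have hsq : ∀ x : G, x * x = 1 → (n * x * n⁻¹) * (n * x * n⁻¹) = 1 := by
    intro x hx
    calc (n * x * n⁻¹) * (n * x * n⁻¹) = n * (x * x) * n⁻¹ := by group
      _ = 1 := by rw [hx]; group
  have h3P : t₁ * t₂ ∈ (P : Subgroup G) := Subgroup.mul_mem _ h₁P h₂P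
  have h31 : t₁ * t₂ ≠ 1 := by
    intro h
    apply h12
    have : t₁ = t₂⁻¹ := eq_inv_of_mul_eq_one_left h
    rw [this]; exact inv_eq_of_mul_eq_one_left h₂₂
  have h33 : (t₁ * t₂) * (t₁ * t₂) = 1 := by
    have h := hPc t₁ h₁P t₂ h₂P
    calc (t₁ * t₂) * (t₁ * t₂) = t₁ * (t₂ * t₁) * t₂ := by group
      _ = t₁ * (t₁ * t₂) * t₂ := by rw [h]
      _ = (t₁ * t₁) * (t₂ * t₂) := by group
      _ = 1 := by rw [h₁₁, h₂₂, one_mul]
  have hmov : ∀ t ∈ (P : Subgroup G), t ≠ 1 → t * t = 1 →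
      n * t * n⁻¹ ≠ 1 ∧ n * t * n⁻¹ ≠ t := by
    intro t htP ht1 htt
    refine ⟨?_, ?_⟩
    · intro h
      apply ht1
      have : n * t * n⁻¹ = n * 1 * n⁻¹ := by rw [h]; group
      exact hinj _ _ this
    · intro h
      exact hnc (hcore t htP ht1 htt h)
  have hmul : n * (t₁ * t₂) * n⁻¹ = (n * t₁ * n⁻¹) * (n * t₂ * n⁻¹) := by group
  have hc1 := hlist _ (hnorm _ h₁P) (hsq _ h₁₁)
  have hc2 := hlist _ (hnorm _ h₂P) (hsq _ h₂₂)
  have hm1 := hmov t₁ h₁P h₁1 h₁₁
  have hm2 := hmov t₂ h₂P h₂1 h₂₂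
  have hm3 := hmov (t₁ * t₂) h3P h31 h33
  have hcomm := hPc t₁ h₁P t₂ h₂P
  rcases hc1 with h | h | h | h
  · exact absurd h hm1.1
  · exact absurd h hm1.2
  · -- c t₁ = t₂
    rcases hc2 with h' | h' | h' | h'
    · exact absurd h' hm2.1
    · exfalso
      apply hm3.2
      rw [hmul, h, h', hcomm]
    · exact absurd h' hm2.2
    · have e1 : IsConj t₁ t₂ := isConj_iff.mpr ⟨n, h⟩
      have e2 : IsConj t₂ (t₁ * t₂) := isConj_iff.mpr ⟨n, h'⟩
      exact ⟨e1, e1.trans e2⟩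
  · -- c t₁ = t₁ t₂
    rcases hc2 with h' | h' | h' | h'
    · exact absurd h' hm2.1
    · have e1 : IsConj t₁ (t₁ * t₂) := isConj_iff.mpr ⟨n, h⟩
      have e2 : IsConj t₂ t₁ := isConj_iff.mpr ⟨n, h'⟩
      exact ⟨e2.symm, e1⟩
    · exact absurd h' hm2.2
    · exfalso
      exact h12 (hinj _ _ (h.trans h'.symm))

theorem exists_conj_mem_sylow_of_orderOf {G : Type*} [Group G] [Finite G] {p : ℕ}
    [Fact p.Prime] (P : Sylow p G) (s : G) (k : ℕ) (hk : orderOf s = p ^ k) :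
    ∃ g : G, g * s * g⁻¹ ∈ (P : Subgroup G) := by
  have h1 : IsPGroup p (Subgroup.zpowers s) := by
    apply IsPGroup.of_card (n := k)
    rw [Nat.card_zpowers, hk]
  obtain ⟨Q, hQ⟩ := h1.exists_le_sylow
  obtain ⟨g, hg⟩ := MulAction.exists_smul_eq G P Q
  have hs : s ∈ (Q : Subgroup G) := hQ (Subgroup.mem_zpowers s)
  rw [← hg, Sylow.coe_subgroup_smul, mem_conj_smul_iff'] at hs
  refine ⟨g⁻¹, ?_⟩
  rw [inv_inv]; exact hs


end Cfsg.Agent.Lib.Helper18
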