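import Mathlib
import Cfsg.Agent.Lib.Helper18.WreathedQuat

set_option autoImplicit false

/-!
# Wreathed 2-groups: quaternion subgroups of order 8 and the subgroups `V = Q Z(S)`

For a wreathed group `S = ⟨x, y, z⟩` and a quaternion subgroup `Q` of order 8 one can replace `z`
by another involution `z'` (again with `z' x z'⁻¹ = y`) such that
`Q Z(S) = ⟨xy⟩ ⟨u⟩ ⟨z'⟩` where `u = x^(2^(n-1))`.  We also describe the elements of that subgroup.
-/

namespace Cfsg.Agent.Lib.Helper18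

open Subgroup

set_option maxRecDepth 100000 in
/-- facts on two non-commuting elements of the quaternion group of order 8 -/
theorem quaternionGroup_two_noncomm : ∀ g h : QuaternionGroup 2, g * h ≠ h * g → g * g ≠ 1 ∧
    h * h = g * g ∧ (g * g) * (g * g) = 1 ∧ ∀ t : QuaternionGroup 2, t = 1 ∨ t = g ∨ t = g * g ∨
      t = g * g * g ∨ t = h ∨ t = h * g ∨ t = h * (g * g) ∨ t = h * (g * g * g) := by
  decide

theorem quaternionGroup_two_exists_noncomm : ∃ g h : QuaternionGroup 2, g * h ≠ h * g := by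
  decide

/-- elements of `H ⊔ ⟨g⟩` when `g` normalizes `H` and `g² ∈ H` -/
theorem mem_sup_zpowers_iff_of_normalizes {G : Type*} [Group G] (H : Subgroup G) (g : G)
    (hg : g * g ∈ H) (hn : ∀ a ∈ H, g * a * g⁻¹ ∈ H) (a : G) :
    a ∈ H ⊔ zpowers g ↔ a ∈ H ∨ g⁻¹ * a ∈ H := by
  have hn' : ∀ a ∈ H, g⁻¹ * a * g ∈ H := by
    intro a ha
    have h1 : (g * g)⁻¹ * a * (g * g) ∈ H := H.mul_mem (H.mul_mem (H.inv_mem hg) ha) hg
    have h2 := hn _ h1
    have e : g * ((g * g)⁻¹ * a * (g * g)) * g⁻¹ = g⁻¹ * a * g := by group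
    rwa [e] at h2
  have hgN : g ∈ normalizer (H : Set G) := by
    rw [mem_normalizer_iff]
    intro b
    constructor
    · exact hn b
    · intro hb
      have := hn' _ hb
      have e : g⁻¹ * (g * b * g⁻¹) * g = b := by group
      rwa [e] at this
  constructor
  · intro ha
    rw [sup_comm, ← SetLike.mem_coe,
      coe_mul_of_left_le_normalizer_right (zpowers g) H (zpowers_le.mpr hgN)] at ha
    obtain ⟨c, hc, b, hb, rfl⟩ := Set.mem_mul.mp ha
    obtain ⟨k, rfl⟩ := mem_zpowers_iff.mp hc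
    rcases Int.even_or_odd' k with ⟨j, rfl | rfl⟩
    · left
      refine H.mul_mem ?_ hb
      rw [zpow_mul, zpow_two]; exact H.zpow_mem hg j
    · right
      have e : g⁻¹ * (g ^ (2 * j + 1) * b) = g ^ (2 * j) * b := by
        rw [zpow_add, zpow_one]
        have : Commute (g ^ (2 * j)) g := (Commute.refl g).zpow_left _
        rw [this.eq]; group
      rw [e]
      refine H.mul_mem ?_ hb
      rw [zpow_mul, zpow_two]; exact H.zpow_mem hg j
  · rintro (ha | ha)
    · exact mem_sup_left ha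
    · have : a = g * (g⁻¹ * a) := by group
      rw [this]; exact mul_mem (mem_sup_right (mem_zpowers g)) (mem_sup_left ha)

namespace IsWr

variable {S : Type*} [Group S] {m : ℕ} {x y z : S}

/-- replacing `z` by another involution outside the base -/
theorem of_involution (h : IsWr S m x y z) (z' : S) (hz' : orderOf z' = 2) (hnot : z' ∉ h.base) :
    IsWr S m x y z' := by
  refine ⟨h.card, h.hx, h.comm, h.disj, hz', ?_⟩
  rcases h.involution_cases z' hz' with e | e | e | ⟨k, e⟩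
  · exfalso; apply hnot; rw [e]; exact h.base.pow_mem h.x_mem_base _
  · exfalso; apply hnot; rw [e]; exact h.base.pow_mem h.y_mem_base _
  · exfalso; apply hnot; rw [e]
    exact h.base.mul_mem (h.base.pow_mem h.x_mem_base _) (h.base.pow_mem h.y_mem_base _)
  · rw [e]
    have hc : (x * y⁻¹) ^ k ∈ h.base := h.base.zpow_mem h.c_mem_base k
    calc (x * y⁻¹) ^ k * z * x * ((x * y⁻¹) ^ k * z)⁻¹
        = (x * y⁻¹) ^ k * (z * x * z⁻¹) * ((x * y⁻¹) ^ k)⁻¹ := by group
      _ = (x * y⁻¹) ^ k * y * ((x * y⁻¹) ^ k)⁻¹ := by rw [h.rel]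
      _ = y := by rw [h.base_comm _ _ hc h.y_mem_base, mul_assoc, mul_inv_cancel, mul_one]

theorem base_of_involution (h : IsWr S m x y z) (z' : S) (hz' : orderOf z' = 2)
    (hnot : z' ∉ h.base) : (h.of_involution z' hz' hnot).base = h.base := by
  ext g; rfl

/-- conjugation by an element outside the base swaps `u` and `u'` -/
theorem conj_out_u (h : IsWr S m x y z) (b : S) (hb : b ∉ h.base) :
    b * x ^ (2 ^ (m + 1)) * b⁻¹ = y ^ (2 ^ (m + 1)) := by
  obtain ⟨k, l, e | e⟩ := h.cover b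
  · exact absurd (e ▸ h.xy_mem_base k l) hb
  · rw [e]
    have hu' : y ^ (2 ^ (m + 1)) ∈ h.base := h.base.pow_mem h.y_mem_base _
    calc x ^ k * y ^ l * z * x ^ (2 ^ (m + 1)) * (x ^ k * y ^ l * z)⁻¹
        = x ^ k * y ^ l * (z * x ^ (2 ^ (m + 1)) * z⁻¹) * (x ^ k * y ^ l)⁻¹ := by group
      _ = x ^ k * y ^ l * y ^ (2 ^ (m + 1)) * (x ^ k * y ^ l)⁻¹ := by rw [h.conj_u]
      _ = _ := by
          rw [h.base_comm _ _ (h.xy_mem_base k l) hu', mul_assoc, mul_inv_cancel, mul_one]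

/-- a quaternion subgroup `Q` of order 8: after changing `z`, `Q Z(S) = ⟨xy⟩⟨u⟩⟨z⟩` -/
theorem exists_of_quaternion (h : IsWr S m x y z) (Q : Subgroup S)
    (eQ : Q ≃* QuaternionGroup 2) :
    ∃ z' : S, IsWr S m x y z' ∧
      Q ⊔ center S = zpowers (x * y) ⊔ zpowers (x ^ (2 ^ (m + 1))) ⊔ zpowers z' := by
  -- two non-commuting elements of Q
  obtain ⟨g₀, h₀, hgh⟩ := quaternionGroup_two_exists_noncomm
  have hnc : ((eQ.symm g₀ : Q) : S) * (eQ.symm h₀ : Q) ≠ (eQ.symm h₀ : Q) * (eQ.symm g₀ : Q) := by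
    intro e
    apply hgh
    have e' : eQ.symm g₀ * eQ.symm h₀ = eQ.symm h₀ * eQ.symm g₀ := Subtype.ext e
    have := congrArg eQ e'
    simpa using this
  obtain ⟨a, b, haQ, hbQ, hab, hbb, hne⟩ : ∃ a b : S, a ∈ Q ∧ b ∈ Q ∧ a ∈ h.base ∧ b ∉ h.base ∧
      a * b ≠ b * a := by
    by_cases hg : ((eQ.symm g₀ : Q) : S) ∈ h.base <;> by_cases hh : ((eQ.symm h₀ : Q) : S) ∈ h.base
    · exact absurd (h.base_comm _ _ hg hh) hnc
    · exact ⟨_, _, (eQ.symm g₀).2, (eQ.symm h₀).2, hg, hh, hnc⟩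
    · exact ⟨_, _, (eQ.symm h₀).2, (eQ.symm g₀).2, hh, hg, fun e => hnc e.symm⟩
    · refine ⟨(eQ.symm g₀ : Q) * (eQ.symm h₀ : Q), _, Q.mul_mem (eQ.symm g₀).2 (eQ.symm h₀).2,
        (eQ.symm h₀).2, ?_, hh, ?_⟩
      · rw [mul_mem_iff_of_index_two h.index_base]
        exact ⟨fun h' => absurd h' hg, fun h' => absurd h' hh⟩
      · intro e
        apply hnc
        exact mul_right_cancel (e.trans (mul_assoc _ _ _).symm)
  -- quaternion facts
  have hq := quaternionGroup_two_noncomm (eQ ⟨a, haQ⟩) (eQ ⟨b, hbQ⟩) (by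
    intro e
    apply hne
    rw [← map_mul, ← map_mul] at e
    exact congrArg Subtype.val (eQ.injective e))
  obtain ⟨q1, q2, q3, q4⟩ := hq
  have haa1 : a * a ≠ 1 := by
    intro e
    apply q1
    rw [← map_mul]
    have : (⟨a, haQ⟩ : Q) * ⟨a, haQ⟩ = 1 := Subtype.ext e
    rw [this, map_one]
  have hbbaa : b * b = a * a := by
    rw [← map_mul, ← map_mul] at q2
    exact congrArg Subtype.val (eQ.injective q2)
  have haaaa : (a * a) * (a * a) = 1 := by
    rw [← map_mul, ← map_mul, ← map_one eQ] at q3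
    exact congrArg Subtype.val (eQ.injective q3)
  have hlist : ∀ t ∈ Q, t = 1 ∨ t = a ∨ t = a * a ∨ t = a * a * a ∨ t = b ∨ t = b * a ∨
      t = b * (a * a) ∨ t = b * (a * a * a) := by
    intro t ht
    have hcases := q4 (eQ ⟨t, ht⟩)
    simp only [← map_mul, ← map_one eQ, eQ.injective.eq_iff] at hcases
    rcases hcases with e | e | e | e | e | e | e | e <;> have e' := congrArg Subtype.val e
    · left; exact e'
    · right; left; exact e'
    · right; right; left; exact e'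
    · right; right; right; left; exact e'
    · right; right; right; right; left; exact e'
    · right; right; right; right; right; left; exact e'
    · right; right; right; right; right; right; left; exact e'
    · right; right; right; right; right; right; right; exact e'
  -- the central involution
  obtain ⟨k, l, eb | eb⟩ := h.cover b
  · exact absurd (eb ▸ h.xy_mem_base k l) hbb
  have hbsq : b * b = x ^ (k + l) * y ^ (k + l) := by rw [eb, h.sq_xyz]
  have hcomm : Commute x y := h.comm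
  have hec : a * a ∈ center S := by
    rw [← hbbaa, hbsq, ← hcomm.mul_zpow, h.center_eq]
    exact zpow_mem (mem_zpowers _) _
  have he2 : orderOf (a * a) = 2 := by
    apply orderOf_eq_prime
    · rw [pow_two]; exact haaaa
    · exact haa1
  have hee : a * a = x ^ (2 ^ (m + 1)) * y ^ (2 ^ (m + 1)) := h.central_involution _ he2 hec
  -- `a = u (xy)^j`
  obtain ⟨i, j, ea⟩ := hab
  have hasq : a * a = x ^ (i + i) * y ^ (j + j) := by
    rw [ea, zpow_add, zpow_add]
    have c := (h.commute_xy i j).eq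
    calc x ^ i * y ^ j * (x ^ i * y ^ j) = x ^ i * (y ^ j * x ^ i) * y ^ j := by group
      _ = x ^ i * (x ^ i * y ^ j) * y ^ j := by rw [c]
      _ = _ := by group
  have e1 := h.eq_of_eq (i + i) (j + j) ((2 ^ (m + 1) : ℕ) : ℤ) ((2 ^ (m + 1) : ℕ) : ℤ) (by
    rw [← hasq, hee, zpow_natCast, zpow_natCast])
  rw [zpow_natCast, zpow_natCast] at e1
  have e2 : x ^ (j + j) = x ^ (2 ^ (m + 1)) := by
    have h1 : y ^ (j + j - ((2 ^ (m + 1) : ℕ) : ℤ)) = 1 := by
      rw [zpow_sub, zpow_natCast, e1.2, mul_inv_cancel]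
    have h2 := (h.pow_eq_one_iff _).mpr h1
    rw [zpow_sub, zpow_natCast, mul_inv_eq_one] at h2
    exact h2
  have e3 : x ^ (i - j) * x ^ (i - j) = 1 := by
    have : x ^ (i - j) * x ^ (i - j) = x ^ (i + i) * (x ^ (j + j))⁻¹ := by
      rw [← zpow_add, ← zpow_neg, ← zpow_add]; congr 1; ring
    rw [this, e1.1, e2, mul_inv_cancel]
  have ea' : a = x ^ (i - j) * (x * y) ^ j := by
    rw [ea, hcomm.mul_zpow, ← mul_assoc, ← zpow_add]; congr 2; ring
  have hau : a = x ^ (2 ^ (m + 1)) * (x * y) ^ j := by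
    rcases h.x_pow_cases (i - j) e3 with e | e
    · exfalso
      apply hne
      rw [e, one_mul] at ea'
      have hc : Commute b (x * y) := h.xy_central b
      rw [ea']
      exact (hc.zpow_right j).eq.symm
    · rw [← e]; exact ea'
  -- the new involution
  have hub : x ^ (2 ^ (m + 1)) ∈ h.base := h.base.pow_mem h.x_mem_base _
  have hu'b : y ^ (2 ^ (m + 1)) ∈ h.base := h.base.pow_mem h.y_mem_base _
  have hz'not : b * x ^ (2 ^ (m + 1)) ∉ h.base := by
    intro h1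
    apply hbb
    have := h.base.mul_mem h1 (h.base.inv_mem hub)
    rwa [mul_inv_cancel_right] at this
  have hz'sq : (b * x ^ (2 ^ (m + 1))) * (b * x ^ (2 ^ (m + 1))) = 1 := by
    have c1 := h.base_comm _ _ hub hu'b
    calc (b * x ^ (2 ^ (m + 1))) * (b * x ^ (2 ^ (m + 1)))
        = (b * x ^ (2 ^ (m + 1)) * b⁻¹) * (b * b) * x ^ (2 ^ (m + 1)) := by group
      _ = y ^ (2 ^ (m + 1)) * (x ^ (2 ^ (m + 1)) * y ^ (2 ^ (m + 1))) * x ^ (2 ^ (m + 1)) := by
          rw [h.conj_out_u b hbb, hbbaa, hee]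
      _ = y ^ (2 ^ (m + 1)) * (y ^ (2 ^ (m + 1)) * x ^ (2 ^ (m + 1))) * x ^ (2 ^ (m + 1)) := by
          rw [c1]
      _ = (y ^ (2 ^ (m + 1)) * y ^ (2 ^ (m + 1))) * (x ^ (2 ^ (m + 1)) * x ^ (2 ^ (m + 1))) := by
          group
      _ = 1 := by rw [h.u_mul_self, h.u'_mul_self, one_mul]
  have hz'2 : orderOf (b * x ^ (2 ^ (m + 1))) = 2 := by
    apply orderOf_eq_prime
    · rw [pow_two]; exact hz'sq
    · intro e; apply hz'not; rw [e]; exact one_mem _
  refine ⟨b * x ^ (2 ^ (m + 1)), h.of_involution _ hz'2 hz'not, ?_⟩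
  have hxyR : x * y ∈ zpowers (x * y) ⊔ zpowers (x ^ (2 ^ (m + 1))) ⊔
      zpowers (b * x ^ (2 ^ (m + 1))) := mem_sup_left (mem_sup_left (mem_zpowers _))
  have huR : x ^ (2 ^ (m + 1)) ∈ zpowers (x * y) ⊔ zpowers (x ^ (2 ^ (m + 1))) ⊔
      zpowers (b * x ^ (2 ^ (m + 1))) := mem_sup_left (mem_sup_right (mem_zpowers _))
  have hzR : b * x ^ (2 ^ (m + 1)) ∈ zpowers (x * y) ⊔ zpowers (x ^ (2 ^ (m + 1))) ⊔
      zpowers (b * x ^ (2 ^ (m + 1))) := mem_sup_right (mem_zpowers _)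
  have haR : a ∈ zpowers (x * y) ⊔ zpowers (x ^ (2 ^ (m + 1))) ⊔
      zpowers (b * x ^ (2 ^ (m + 1))) := by
    rw [hau]; exact mul_mem huR (zpow_mem hxyR j)
  have hbR : b ∈ zpowers (x * y) ⊔ zpowers (x ^ (2 ^ (m + 1))) ⊔
      zpowers (b * x ^ (2 ^ (m + 1))) := by
    have := mul_mem hzR (inv_mem huR)
    rwa [mul_inv_cancel_right] at this
  apply le_antisymm
  · apply sup_le
    · intro t ht
      rcases hlist t ht with e | e | e | e | e | e | e | e <;> rw [e]
      · exact one_mem _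
      · exact haR
      · exact mul_mem haR haR
      · exact mul_mem (mul_mem haR haR) haR
      · exact hbR
      · exact mul_mem hbR haR
      · exact mul_mem hbR (mul_mem haR haR)
      · exact mul_mem hbR (mul_mem (mul_mem haR haR) haR)
    · rw [h.center_eq]
      exact le_sup_of_le_left le_sup_left
  · have hxyL : x * y ∈ Q ⊔ center S := by
      apply mem_sup_right
      rw [h.center_eq]; exact mem_zpowers _
    have huL : x ^ (2 ^ (m + 1)) ∈ Q ⊔ center S := by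
      have : x ^ (2 ^ (m + 1)) = a * ((x * y) ^ j)⁻¹ := by rw [hau, mul_inv_cancel_right]
      rw [this]
      exact mul_mem (mem_sup_left haQ) (inv_mem (zpow_mem hxyL j))
    apply sup_le
    · apply sup_le
      · rw [zpowers_le]; exact hxyL
      · rw [zpowers_le]; exact huL
    · rw [zpowers_le]
      exact mul_mem (mem_sup_left hbQ) huL

theorem u_inv (h : IsWr S m x y z) : (x ^ (2 ^ (m + 1)))⁻¹ = x ^ (2 ^ (m + 1)) :=
  inv_eq_of_mul_eq_one_right h.u_mul_self

/-- elements of `⟨xy⟩⟨u⟩` -/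
theorem mem_V0_iff (h : IsWr S m x y z) (g : S) :
    g ∈ zpowers (x * y) ⊔ zpowers (x ^ (2 ^ (m + 1))) ↔
      ∃ i : ℤ, g = (x * y) ^ i ∨ g = x ^ (2 ^ (m + 1)) * (x * y) ^ i := by
  have hn := normal_zpowers_of_central (x * y) h.xy_central
  rw [IsQD.mem_sup_zpowers_iff _ _ (by rw [h.u_mul_self]; exact one_mem _), h.u_inv]
  constructor
  · rintro (h1 | h1)
    · obtain ⟨i, hi⟩ := mem_zpowers_iff.mp h1
      exact ⟨i, Or.inl hi.symm⟩
    · obtain ⟨i, hi⟩ := mem_zpowers_iff.mp h1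
      refine ⟨i, Or.inr ?_⟩
      rw [hi, ← mul_assoc, h.u_mul_self, one_mul]
  · rintro ⟨i, rfl | rfl⟩
    · left; exact zpow_mem (mem_zpowers _) i
    · right
      rw [← mul_assoc, h.u_mul_self, one_mul]; exact zpow_mem (mem_zpowers _) i

theorem V0_le_base (h : IsWr S m x y z) :
    zpowers (x * y) ⊔ zpowers (x ^ (2 ^ (m + 1))) ≤ h.base := by
  apply sup_le
  · rw [zpowers_le]; exact h.base.mul_mem h.x_mem_base h.y_mem_base
  · rw [zpowers_le]; exact h.base.pow_mem h.x_mem_base _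

/-- `u' = u (xy)^(2^(n-1))` -/
theorem u'_eq (h : IsWr S m x y z) :
    y ^ (2 ^ (m + 1)) = x ^ (2 ^ (m + 1)) * (x * y) ^ (2 ^ (m + 1)) := by
  rw [← h.uu'_eq, ← mul_assoc, h.u_mul_self, one_mul]

theorem conj_z_V0 (h : IsWr S m x y z) (a : S)
    (ha : a ∈ zpowers (x * y) ⊔ zpowers (x ^ (2 ^ (m + 1)))) :
    z * a * z⁻¹ ∈ zpowers (x * y) ⊔ zpowers (x ^ (2 ^ (m + 1))) := by
  obtain ⟨i, rfl | rfl⟩ := (h.mem_V0_iff a).mp ha
  · have hc : Commute z (x * y) := h.xy_central z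
    rw [(hc.zpow_right i).eq, mul_inv_cancel_right]
    exact mem_sup_left (zpow_mem (mem_zpowers _) i)
  · have hc : Commute z (x * y) := h.xy_central z
    have e : z * (x ^ (2 ^ (m + 1)) * (x * y) ^ i) * z⁻¹ =
        (z * x ^ (2 ^ (m + 1)) * z⁻¹) * (z * (x * y) ^ i * z⁻¹) := by group
    rw [e, h.conj_u, (hc.zpow_right i).eq, mul_inv_cancel_right, h.u'_eq]
    exact mul_mem (mul_mem (mem_sup_right (mem_zpowers _))
      (mem_sup_left (pow_mem (mem_zpowers _) _))) (mem_sup_left (zpow_mem (mem_zpowers _) i))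

/-- elements of `V = ⟨xy⟩⟨u⟩⟨z⟩` -/
theorem mem_V_iff (h : IsWr S m x y z) (g : S) :
    g ∈ zpowers (x * y) ⊔ zpowers (x ^ (2 ^ (m + 1))) ⊔ zpowers z ↔
      ∃ i : ℤ, g = (x * y) ^ i ∨ g = x ^ (2 ^ (m + 1)) * (x * y) ^ i ∨ g = z * (x * y) ^ i ∨
        g = z * (x ^ (2 ^ (m + 1)) * (x * y) ^ i) := by
  rw [mem_sup_zpowers_iff_of_normalizes _ z (by rw [h.z_mul_self]; exact one_mem _) h.conj_z_V0,
    h.z_inv, h.mem_V0_iff, h.mem_V0_iff]
  constructor
  · rintro (⟨i, h1 | h1⟩ | ⟨i, h1 | h1⟩)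
    · exact ⟨i, Or.inl h1⟩
    · exact ⟨i, Or.inr (Or.inl h1)⟩
    · refine ⟨i, Or.inr (Or.inr (Or.inl ?_))⟩
      rw [← h1, ← mul_assoc, h.z_mul_self, one_mul]
    · refine ⟨i, Or.inr (Or.inr (Or.inr ?_))⟩
      rw [← h1, ← mul_assoc, h.z_mul_self, one_mul]
  · rintro ⟨i, rfl | rfl | rfl | rfl⟩
    · exact Or.inl ⟨i, Or.inl rfl⟩
    · exact Or.inl ⟨i, Or.inr rfl⟩
    · right
      refine ⟨i, Or.inl ?_⟩
      rw [← mul_assoc, h.z_mul_self, one_mul]
    · right
      refine ⟨i, Or.inr ?_⟩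
      rw [← mul_assoc, h.z_mul_self, one_mul]

end IsWr

end Cfsg.Agent.Lib.Helper18
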