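import Mathlib
import Cfsg.Agent.Lib.Helper18.WrSub
import Cfsg.Agent.Lib.Helper18.AbelianAut
import Cfsg.Agent.Lib.Helper18.OddAut
import Cfsg.Agent.Lib.Helper18.QDFusion

set_option autoImplicit false

/-!
# Fusion of involutions in groups with wreathed Sylow 2-subgroups

`S = ⟨x, y, z⟩` wreathed Sylow 2-subgroup of `G`, `U = ⟨x⟩ × ⟨y⟩`, `V = ⟨xy⟩⟨u⟩⟨z⟩`.
If `3` divides `|N_G(U) : C_G(U)|` then the central involution `u u'` is conjugate to `u`;
if `3` divides `|N_G(V) : V C_G(V)|` then `u` is conjugate to `z`.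
-/

namespace Cfsg.Agent.Lib.Helper18

open Subgroup

/-- if `3` divides the relative index `|N : N ∩ C|`, some element of `N` of `3`-power order lies
outside `C` -/
theorem exists_three_elt_of_dvd_relIndex {G : Type*} [Group G] [Finite G] (C N : Subgroup G)
    (h3 : 3 ∣ C.relIndex N) : ∃ d ∈ N, d ∉ C ∧ ∃ k : ℕ, orderOf d = 3 ^ k := by
  have : Fact (Nat.Prime 3) := ⟨Nat.prime_three⟩
  by_contra hcon
  push Not at hcon
  obtain ⟨R⟩ : Nonempty (Sylow 3 ↥N) := inferInstance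
  have hle : (R : Subgroup ↥N) ≤ C.subgroupOf N := by
    intro r hr
    rw [mem_subgroupOf]
    by_contra hrC
    obtain ⟨k, hk⟩ := R.2 ⟨r, hr⟩
    have hk' : r ^ (3 ^ k) = 1 := by
      have := congrArg Subtype.val hk
      simpa using this
    obtain ⟨j, -, hj⟩ := (Nat.dvd_prime_pow Nat.prime_three).mp (orderOf_dvd_of_pow_eq_one hk')
    exact hcon (r : G) r.2 hrC j (by rw [Subgroup.orderOf_coe, hj])
  have h1 : Nat.card (R : Subgroup ↥N) ∣ Nat.card (C.subgroupOf N) := Subgroup.card_dvd_of_le hle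
  have h2 : Nat.card (C.subgroupOf N) * C.relIndex N = Nat.card ↥N := (C.subgroupOf N).card_mul_index
  rw [Sylow.card_eq_multiplicity] at h1
  have h4 : 3 ^ ((Nat.card ↥N).factorization 3 + 1) ∣ Nat.card ↥N := by
    have := Nat.mul_dvd_mul h1 h3
    rw [h2] at this
    rwa [pow_succ]
  exact Nat.pow_succ_factorization_not_dvd Nat.card_pos.ne' Nat.prime_three h4

section val

variable {G : Type*} [Group G] {P : Subgroup G} {m : ℕ} {x y z : ↥P}

theorem IsWr.cover_val (h : IsWr ↥P m x y z) (g : G) (hg : g ∈ P) :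
    ∃ i j : ℤ, g = (x : G) ^ i * (y : G) ^ j ∨ g = (x : G) ^ i * (y : G) ^ j * (z : G) := by
  obtain ⟨i, j, e | e⟩ := h.cover ⟨g, hg⟩
  · refine ⟨i, j, Or.inl ?_⟩
    have := congrArg Subtype.val e
    simpa using this
  · refine ⟨i, j, Or.inr ?_⟩
    have := congrArg Subtype.val e
    simpa using this

/-- the base subgroup as a subgroup of the big group -/
def IsWr.baseG (h : IsWr ↥P m x y z) : Subgroup G := h.base.map P.subtype

theorem IsWr.mem_baseG_iff (h : IsWr ↥P m x y z) (g : G) :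
    g ∈ h.baseG ↔ ∃ i j : ℤ, g = (x : G) ^ i * (y : G) ^ j := by
  constructor
  · rintro ⟨g', ⟨i, j, e⟩, rfl⟩
    refine ⟨i, j, ?_⟩
    rw [e]; simp
  · rintro ⟨i, j, rfl⟩
    refine ⟨x ^ i * y ^ j, h.xy_mem_base i j, ?_⟩
    simp

theorem IsWr.baseG_le (h : IsWr ↥P m x y z) : h.baseG ≤ P := by
  rintro g ⟨g', -, rfl⟩
  exact g'.2

theorem IsWr.mem_baseG_iff' (h : IsWr ↥P m x y z) (g : ↥P) : (g : G) ∈ h.baseG ↔ g ∈ h.base := by
  constructor
  · rintro ⟨g', hg', e⟩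
    have : g' = g := Subtype.ext e
    rwa [← this]
  · intro hg
    exact ⟨g, hg, rfl⟩

theorem IsWr.baseG_comm (h : IsWr ↥P m x y z) (a b : G) (ha : a ∈ h.baseG) (hb : b ∈ h.baseG) :
    a * b = b * a := by
  obtain ⟨a', ha', rfl⟩ := ha
  obtain ⟨b', hb', rfl⟩ := hb
  have := h.base_comm a' b' ha' hb'
  exact congrArg Subtype.val this

/-- the commutative subgroup of index two is the base -/
theorem IsWr.eq_baseG (h : IsWr ↥P m x y z) (U : Subgroup G) (hUP : U ≤ P)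
    (hUab : IsMulCommutative U) (hUcard : Nat.card U = 2 ^ (2 * (m + 2))) : U = h.baseG := by
  have hc : IsMulCommutative (U.subgroupOf P) := by
    refine ⟨⟨fun a b => ?_⟩⟩
    have := hUab.is_comm.comm ⟨(a : G), a.2⟩ ⟨(b : G), b.2⟩
    have e : ((a : ↥P) : G) * ((b : ↥P) : G) = ((b : ↥P) : G) * ((a : ↥P) : G) :=
      congrArg Subtype.val this
    exact Subtype.ext (Subtype.ext e)
  have hcard : Nat.card (U.subgroupOf P) = 2 ^ (2 * (m + 2)) := by
    rw [← hUcard]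
    exact Nat.card_congr (Subgroup.subgroupOfEquivOfLe hUP).toEquiv
  have := h.eq_base_of_comm (U.subgroupOf P) hc hcard
  rw [IsWr.baseG, ← this, Subgroup.map_subgroupOf_eq_of_le hUP]

theorem IsWr.invol_cases_val (h : IsWr ↥P m x y z) (g : G) (hg : g ∈ P) (h2 : orderOf g = 2) :
    g = (x : G) ^ (2 ^ (m + 1)) ∨ g = (y : G) ^ (2 ^ (m + 1)) ∨
      g = (x : G) ^ (2 ^ (m + 1)) * (y : G) ^ (2 ^ (m + 1)) ∨
      ∃ k : ℤ, g = ((x : G) * (y : G)⁻¹) ^ k * (z : G) := by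
  have h2' : orderOf (⟨g, hg⟩ : ↥P) = 2 := by rw [← Subgroup.orderOf_coe]; exact h2
  rcases h.involution_cases ⟨g, hg⟩ h2' with e | e | e | ⟨k, e⟩
  · left
    have := congrArg Subtype.val e
    simpa using this
  · right; left
    have := congrArg Subtype.val e
    simpa using this
  · right; right; left
    have := congrArg Subtype.val e
    simpa using this
  · right; right; right
    refine ⟨k, ?_⟩
    have := congrArg Subtype.val e
    simpa using this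

theorem IsWr.cz_not_mem_baseG (h : IsWr ↥P m x y z) (k : ℤ) :
    ((x : G) * (y : G)⁻¹) ^ k * (z : G) ∉ h.baseG := by
  have e : ((x : G) * (y : G)⁻¹) ^ k * (z : G) = (((x * y⁻¹) ^ k * z : ↥P) : G) := by simp
  rw [e, h.mem_baseG_iff']
  intro h1
  apply h.z_not_mem
  have := h.base.mul_mem (h.base.inv_mem (h.base.zpow_mem h.c_mem_base k)) h1
  rwa [inv_mul_cancel_left] at this

theorem IsWr.isConj_z_cz_val (h : IsWr ↥P m x y z) (k : ℤ) :
    IsConj (z : G) (((x : G) * (y : G)⁻¹) ^ k * (z : G)) := by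
  obtain ⟨c, hc⟩ := isConj_iff.mp (h.isConj_z_cz k)
  rw [isConj_iff]
  refine ⟨(c : G), ?_⟩
  have := congrArg Subtype.val hc
  simpa using this

theorem IsWr.isConj_u_u'_val (h : IsWr ↥P m x y z) :
    IsConj ((x : G) ^ (2 ^ (m + 1))) ((y : G) ^ (2 ^ (m + 1))) := by
  rw [isConj_iff]
  refine ⟨(z : G), ?_⟩
  have := congrArg Subtype.val h.conj_u
  simpa using this

theorem IsWr.u_orderOf_val (h : IsWr ↥P m x y z) : orderOf ((x : G) ^ (2 ^ (m + 1))) = 2 := by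
  have := h.u_orderOf
  rw [← Subgroup.orderOf_coe] at this
  simpa using this

theorem IsWr.u_mem_baseG (h : IsWr ↥P m x y z) : (x : G) ^ (2 ^ (m + 1)) ∈ h.baseG :=
  (h.mem_baseG_iff _).mpr ⟨((2 ^ (m + 1) : ℕ) : ℤ), 0, by rw [zpow_natCast, zpow_zero, mul_one]⟩

theorem IsWr.u'_mem_baseG (h : IsWr ↥P m x y z) : (y : G) ^ (2 ^ (m + 1)) ∈ h.baseG :=
  (h.mem_baseG_iff _).mpr ⟨0, ((2 ^ (m + 1) : ℕ) : ℤ), by rw [zpow_natCast, zpow_zero, one_mul]⟩

/-- the elements of the base with trivial square -/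
theorem IsWr.baseG_invol (h : IsWr ↥P m x y z) (g : G) (hg : g ∈ h.baseG) (hgg : g * g = 1) :
    g = 1 ∨ g = (x : G) ^ (2 ^ (m + 1)) * (y : G) ^ (2 ^ (m + 1)) ∨
      g = (x : G) ^ (2 ^ (m + 1)) ∨ g = (y : G) ^ (2 ^ (m + 1)) := by
  by_cases h1 : g = 1
  · left; exact h1
  have h2 : orderOf g = 2 := orderOf_eq_prime (by rw [pow_two]; exact hgg) h1
  rcases h.invol_cases_val g (h.baseG_le hg) h2 with e | e | e | ⟨k, e⟩
  · right; right; left; exact e
  · right; right; right; exact e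
  · right; left; exact e
  · exfalso
    rw [e] at hg
    exact h.cz_not_mem_baseG k hg

theorem IsWr.u_val (_h : IsWr ↥P m x y z) :
    ((x ^ (2 ^ (m + 1)) : ↥P) : G) = (x : G) ^ (2 ^ (m + 1)) := by simp

theorem IsWr.u'_val (_h : IsWr ↥P m x y z) :
    ((y ^ (2 ^ (m + 1)) : ↥P) : G) = (y : G) ^ (2 ^ (m + 1)) := by simp

theorem IsWr.uu'_val (_h : IsWr ↥P m x y z) :
    ((x ^ (2 ^ (m + 1)) * y ^ (2 ^ (m + 1)) : ↥P) : G) =
      (x : G) ^ (2 ^ (m + 1)) * (y : G) ^ (2 ^ (m + 1)) := by simp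

/-- if `3` divides `|N_G(U) : C_G(U)|`, an element of 3-power order of `N_G(U)` moves the central
involution `u u'` to `u` or `u'` -/
theorem IsWr.exists_odd_conj_center [Finite G] (h : IsWr ↥P m x y z)
    (h3 : 3 ∣ (centralizer (h.baseG : Set G)).relIndex (normalizer (h.baseG : Set G))) :
    ∃ d ∈ normalizer (h.baseG : Set G), (∃ k : ℕ, orderOf d = 3 ^ k) ∧
      (d * ((x : G) ^ (2 ^ (m + 1)) * (y : G) ^ (2 ^ (m + 1))) * d⁻¹ = (x : G) ^ (2 ^ (m + 1)) ∨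
        d * ((x : G) ^ (2 ^ (m + 1)) * (y : G) ^ (2 ^ (m + 1))) * d⁻¹ = (y : G) ^ (2 ^ (m + 1))) := by
  obtain ⟨d, hdN, hdC, k, hk⟩ := exists_three_elt_of_dvd_relIndex _ _ h3
  refine ⟨d, hdN, ⟨k, hk⟩, ?_⟩
  by_contra hcon
  push Not at hcon
  apply hdC
  have hnorm : ∀ g ∈ h.baseG, d * g * d⁻¹ ∈ h.baseG := fun g hg =>
    (mem_normalizer_iff.mp hdN g).mp hg
  have hu1 : (x : G) ^ (2 ^ (m + 1)) ≠ 1 := by
    rw [← h.u_val]; intro e; exact h.u_ne_one (Subtype.ext e)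
  have hu'1 : (y : G) ^ (2 ^ (m + 1)) ≠ 1 := by
    rw [← h.u'_val]; intro e; exact h.u'_ne_one (Subtype.ext e)
  have huu' : (x : G) ^ (2 ^ (m + 1)) ≠ (y : G) ^ (2 ^ (m + 1)) := by
    rw [← h.u_val, ← h.u'_val]; intro e; exact h.u_ne_u' (Subtype.ext e)
  have huu : (x : G) ^ (2 ^ (m + 1)) * (x : G) ^ (2 ^ (m + 1)) = 1 := by
    have := congrArg Subtype.val h.u_mul_self
    simpa using this
  have hu'u' : (y : G) ^ (2 ^ (m + 1)) * (y : G) ^ (2 ^ (m + 1)) = 1 := by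
    have := congrArg Subtype.val h.u'_mul_self
    simpa using this
  have hcomm : (x : G) ^ (2 ^ (m + 1)) * (y : G) ^ (2 ^ (m + 1)) =
      (y : G) ^ (2 ^ (m + 1)) * (x : G) ^ (2 ^ (m + 1)) :=
    h.baseG_comm _ _ h.u_mem_baseG h.u'_mem_baseG
  have hcc : ((x : G) ^ (2 ^ (m + 1)) * (y : G) ^ (2 ^ (m + 1))) *
      ((x : G) ^ (2 ^ (m + 1)) * (y : G) ^ (2 ^ (m + 1))) = 1 := by
    calc ((x : G) ^ (2 ^ (m + 1)) * (y : G) ^ (2 ^ (m + 1))) *
        ((x : G) ^ (2 ^ (m + 1)) * (y : G) ^ (2 ^ (m + 1)))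
        = (x : G) ^ (2 ^ (m + 1)) * ((y : G) ^ (2 ^ (m + 1)) * (x : G) ^ (2 ^ (m + 1))) *
          (y : G) ^ (2 ^ (m + 1)) := by group
      _ = ((x : G) ^ (2 ^ (m + 1)) * (x : G) ^ (2 ^ (m + 1))) *
          ((y : G) ^ (2 ^ (m + 1)) * (y : G) ^ (2 ^ (m + 1))) := by rw [← hcomm]; group
      _ = 1 := by rw [huu, hu'u', one_mul]
  have hc1 : (x : G) ^ (2 ^ (m + 1)) * (y : G) ^ (2 ^ (m + 1)) ≠ 1 := by
    intro e
    apply huu'
    calc (x : G) ^ (2 ^ (m + 1)) = (x : G) ^ (2 ^ (m + 1)) *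
        ((y : G) ^ (2 ^ (m + 1)) * (y : G) ^ (2 ^ (m + 1))) := by rw [hu'u', mul_one]
      _ = _ := by rw [← mul_assoc, e, one_mul]
  have hcu : (x : G) ^ (2 ^ (m + 1)) * (y : G) ^ (2 ^ (m + 1)) ≠ (x : G) ^ (2 ^ (m + 1)) := by
    intro e; exact hu'1 (mul_eq_left.mp e)
  have hcu' : (x : G) ^ (2 ^ (m + 1)) * (y : G) ^ (2 ^ (m + 1)) ≠ (y : G) ^ (2 ^ (m + 1)) := by
    intro e; exact hu1 (mul_eq_right.mp e)
  have hcmem : (x : G) ^ (2 ^ (m + 1)) * (y : G) ^ (2 ^ (m + 1)) ∈ h.baseG :=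
    h.baseG.mul_mem h.u_mem_baseG h.u'_mem_baseG
  have hfix : d * ((x : G) ^ (2 ^ (m + 1)) * (y : G) ^ (2 ^ (m + 1))) * d⁻¹ =
      (x : G) ^ (2 ^ (m + 1)) * (y : G) ^ (2 ^ (m + 1)) := by
    have hsq : (d * ((x : G) ^ (2 ^ (m + 1)) * (y : G) ^ (2 ^ (m + 1))) * d⁻¹) *
        (d * ((x : G) ^ (2 ^ (m + 1)) * (y : G) ^ (2 ^ (m + 1))) * d⁻¹) = 1 := by
      calc (d * ((x : G) ^ (2 ^ (m + 1)) * (y : G) ^ (2 ^ (m + 1))) * d⁻¹) *
          (d * ((x : G) ^ (2 ^ (m + 1)) * (y : G) ^ (2 ^ (m + 1))) * d⁻¹)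
          = d * (((x : G) ^ (2 ^ (m + 1)) * (y : G) ^ (2 ^ (m + 1))) *
            ((x : G) ^ (2 ^ (m + 1)) * (y : G) ^ (2 ^ (m + 1)))) * d⁻¹ := by group
        _ = 1 := by rw [hcc]; group
    rcases h.baseG_invol _ (hnorm _ hcmem) hsq with e | e | e | e
    · exfalso
      apply hc1
      have : d⁻¹ * (d * ((x : G) ^ (2 ^ (m + 1)) * (y : G) ^ (2 ^ (m + 1))) * d⁻¹) * d = 1 := by
        rw [e]; group
      rw [← this]; group
    · exact e
    · exact absurd e hcon.1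
    · exact absurd e hcon.2
  have key := centralizes_of_fixes_involution h.baseG
    (fun a ha b hb => h.baseG_comm a b ha hb)
    (h.isPGroup.to_le h.baseG_le) d hnorm (3 ^ k) (by rw [← hk]; exact pow_orderOf_eq_one d)
    (Odd.pow (by decide)) ((x : G) ^ (2 ^ (m + 1)) * (y : G) ^ (2 ^ (m + 1)))
    ((x : G) ^ (2 ^ (m + 1))) ((y : G) ^ (2 ^ (m + 1))) hc1 hu1 hu'1 hcu hcu' huu' hcc huu hu'u'
    h.u_mem_baseG h.u'_mem_baseG (fun g hg hgg => h.baseG_invol g hg hgg) hfix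
  rw [mem_centralizer_iff]
  intro g hg
  have := key g hg
  calc g * d = (d * g * d⁻¹) * d := by rw [this]
    _ = d * g := by group

/-- the subgroup `V = ⟨xy⟩⟨u⟩⟨z⟩` in the big group -/
def IsWr.VG (_h : IsWr ↥P m x y z) : Subgroup G :=
  zpowers ((x : G) * (y : G)) ⊔ zpowers ((x : G) ^ (2 ^ (m + 1))) ⊔ zpowers (z : G)

theorem IsWr.map_V (h : IsWr ↥P m x y z) :
    (zpowers (x * y) ⊔ zpowers (x ^ (2 ^ (m + 1))) ⊔ zpowers z).map P.subtype = h.VG := by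
  rw [Subgroup.map_sup, Subgroup.map_sup, MonoidHom.map_zpowers, MonoidHom.map_zpowers,
    MonoidHom.map_zpowers]
  simp [IsWr.VG]

theorem IsWr.VG_le (h : IsWr ↥P m x y z) : h.VG ≤ P := by
  rw [← h.map_V]
  rintro g ⟨g', -, rfl⟩
  exact g'.2

theorem IsWr.mem_VG (h : IsWr ↥P m x y z) (g : G) (hg : g ∈ h.VG) :
    ∃ i : ℤ, g = ((x : G) * (y : G)) ^ i ∨ g = (x : G) ^ (2 ^ (m + 1)) * ((x : G) * (y : G)) ^ i ∨
      g = (z : G) * ((x : G) * (y : G)) ^ i ∨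
      g = (z : G) * ((x : G) ^ (2 ^ (m + 1)) * ((x : G) * (y : G)) ^ i) := by
  rw [← h.map_V] at hg
  obtain ⟨g', hg', rfl⟩ := hg
  obtain ⟨i, e | e | e | e⟩ := (h.mem_V_iff g').mp hg'
  · exact ⟨i, Or.inl (by rw [e]; simp)⟩
  · exact ⟨i, Or.inr (Or.inl (by rw [e]; simp))⟩
  · exact ⟨i, Or.inr (Or.inr (Or.inl (by rw [e]; simp)))⟩
  · exact ⟨i, Or.inr (Or.inr (Or.inr (by rw [e]; simp)))⟩

theorem IsWr.w_mem_VG (h : IsWr ↥P m x y z) : (x : G) * (y : G) ∈ h.VG :=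
  mem_sup_left (mem_sup_left (mem_zpowers _))

theorem IsWr.u_mem_VG (h : IsWr ↥P m x y z) : (x : G) ^ (2 ^ (m + 1)) ∈ h.VG :=
  mem_sup_left (mem_sup_right (mem_zpowers _))

theorem IsWr.z_mem_VG (h : IsWr ↥P m x y z) : (z : G) ∈ h.VG :=
  mem_sup_right (mem_zpowers _)

theorem IsWr.w_comm_val (h : IsWr ↥P m x y z) (g : G) (hg : g ∈ P) :
    g * ((x : G) * (y : G)) = (x : G) * (y : G) * g := by
  have := congrArg Subtype.val (h.xy_central ⟨g, hg⟩)
  simpa using this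

theorem IsWr.z_u_ne_val (h : IsWr ↥P m x y z) :
    (z : G) * (x : G) ^ (2 ^ (m + 1)) ≠ (x : G) ^ (2 ^ (m + 1)) * (z : G) := by
  intro e
  apply h.u_ne_u'
  have e' : z * x ^ (2 ^ (m + 1)) = x ^ (2 ^ (m + 1)) * z := by
    apply Subtype.ext; simpa using e
  rw [← h.conj_u, e', mul_inv_cancel_right]

theorem IsWr.z_not_mem_baseG (h : IsWr ↥P m x y z) : (z : G) ∉ h.baseG := by
  rw [h.mem_baseG_iff']; exact h.z_not_mem

theorem IsWr.w_mem_baseG (h : IsWr ↥P m x y z) : (x : G) * (y : G) ∈ h.baseG :=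
  (h.mem_baseG_iff _).mpr ⟨1, 1, by simp⟩

theorem IsWr.orderOf_w_val (h : IsWr ↥P m x y z) : orderOf ((x : G) * (y : G)) = 2 ^ (m + 2) := by
  have := h.orderOf_xy
  rw [← Subgroup.orderOf_coe] at this
  simpa using this

/-- an element of odd order normalizing `V` and mapping `u` into `U` centralizes `V` -/
theorem IsWr.odd_centralizes_VG [Finite G] (h : IsWr ↥P m x y z) (d : G) (K : ℕ) (hK : Odd K)
    (hdK : d ^ K = 1) (hd : d ∈ normalizer (h.VG : Set G))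
    (hdu : d * (x : G) ^ (2 ^ (m + 1)) * d⁻¹ ∈ h.baseG) : d ∈ centralizer (h.VG : Set G) := by
  have hφK : (MulAut.conj d) ^ K = 1 := by rw [← map_pow, hdK, map_one]
  have hnorm : ∀ g ∈ h.VG, d * g * d⁻¹ ∈ h.VG := fun g hg => (mem_normalizer_iff.mp hd g).mp hg
  have hnorm' : ∀ g ∈ h.VG, d⁻¹ * g * d ∈ h.VG := by
    intro g hg
    rw [mem_normalizer_iff.mp hd (d⁻¹ * g * d)]
    have e : d * (d⁻¹ * g * d) * d⁻¹ = g := by group
    rwa [e]
  have hwc : ∀ (i : ℤ) (g : G), g ∈ P → g * ((x : G) * (y : G)) ^ i = ((x : G) * (y : G)) ^ i * g := by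
    intro i g hg
    have : Commute g ((x : G) * (y : G)) := h.w_comm_val g hg
    exact (this.zpow_right i).eq
  have hzP : (z : G) ∈ P := z.2
  have huP : (x : G) ^ (2 ^ (m + 1)) ∈ P := h.VG_le h.u_mem_VG
  have hzinv : (z : G)⁻¹ = (z : G) := by
    have := congrArg Subtype.val h.z_inv
    simpa using this
  have huu : (x : G) ^ (2 ^ (m + 1)) * (x : G) ^ (2 ^ (m + 1)) = 1 := by
    have := congrArg Subtype.val h.u_mul_self
    simpa using this
  have hwib : ∀ i : ℤ, ((x : G) * (y : G)) ^ i ∈ h.baseG := fun i => zpow_mem h.w_mem_baseG i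
  -- the centre of `V`
  have hcentral : ∀ g ∈ h.VG, (∀ v ∈ h.VG, g * v = v * g) → g ∈ zpowers ((x : G) * (y : G)) := by
    intro g hg hcomm
    obtain ⟨i, e | e | e | e⟩ := h.mem_VG g hg
    · rw [e]; exact zpow_mem (mem_zpowers _) i
    · exfalso
      apply h.z_u_ne_val
      have h1 := hcomm _ h.z_mem_VG
      rw [e, mul_assoc, ← hwc i _ hzP, ← mul_assoc, ← mul_assoc] at h1
      exact (mul_right_cancel h1).symm
    · exfalso
      apply h.z_u_ne_val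
      have h1 := hcomm _ h.u_mem_VG
      rw [e, mul_assoc, ← hwc i _ huP, ← mul_assoc, ← mul_assoc] at h1
      exact mul_right_cancel h1
    · exfalso
      apply h.z_u_ne_val
      have h1 := hcomm _ h.u_mem_VG
      rw [e, mul_assoc, mul_assoc, ← hwc i _ huP, ← mul_assoc, ← mul_assoc, ← mul_assoc,
        ← mul_assoc] at h1
      have h2 := mul_right_cancel h1
      have h3 := mul_right_cancel h2
      exact h3
  -- `d` fixes `w = xy`
  have hw_fix : (MulAut.conj d) ((x : G) * (y : G)) = (x : G) * (y : G) := by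
    apply aut_fixes_of_odd_of_mem_zpowers (MulAut.conj d) K hK hφK _ (m + 2) h.orderOf_w_val
    rw [MulAut.conj_apply]
    apply hcentral _ (hnorm _ h.w_mem_VG)
    intro v hv
    have hv0 := hnorm' v hv
    have hc := h.w_comm_val _ (h.VG_le hv0)
    calc d * ((x : G) * (y : G)) * d⁻¹ * v
        = d * (((x : G) * (y : G)) * (d⁻¹ * v * d)) * d⁻¹ := by group
      _ = d * ((d⁻¹ * v * d) * ((x : G) * (y : G))) * d⁻¹ := by rw [hc]
      _ = _ := by group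
  have hwi_fix : ∀ i : ℤ, (MulAut.conj d) (((x : G) * (y : G)) ^ i) = ((x : G) * (y : G)) ^ i := by
    intro i; rw [map_zpow, hw_fix]
  have hwpow : ((x : G) * (y : G)) ^ (2 ^ (m + 2)) = 1 := by
    rw [← h.orderOf_w_val]; exact pow_orderOf_eq_one _
  -- `d` fixes `u`
  have hu_fix : (MulAut.conj d) ((x : G) ^ (2 ^ (m + 1))) = (x : G) ^ (2 ^ (m + 1)) := by
    have hmem : (MulAut.conj d) ((x : G) ^ (2 ^ (m + 1))) ∈ h.VG := by
      rw [MulAut.conj_apply]; exact hnorm _ h.u_mem_VG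
    have hmemb : (MulAut.conj d) ((x : G) ^ (2 ^ (m + 1))) ∈ h.baseG := by
      rw [MulAut.conj_apply]; exact hdu
    obtain ⟨i, e | e | e | e⟩ := h.mem_VG _ hmem
    · exfalso
      apply h.z_u_ne_val
      rw [← hwi_fix i] at e
      have e' := (MulAut.conj d).injective e
      rw [e']
      exact hwc i _ hzP
    · exact aut_fixes_of_odd_of_coset (MulAut.conj d) K hK hφK _ _ (m + 2) hwpow hw_fix i e
    · exfalso
      apply h.z_not_mem_baseG
      rw [e] at hmemb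
      have := h.baseG.mul_mem hmemb (h.baseG.inv_mem (hwib i))
      rwa [mul_inv_cancel_right] at this
    · exfalso
      apply h.z_not_mem_baseG
      rw [e] at hmemb
      have := h.baseG.mul_mem hmemb
        (h.baseG.inv_mem (h.baseG.mul_mem h.u_mem_baseG (hwib i)))
      rwa [mul_inv_cancel_right] at this
  -- `d²` fixes `z`
  have hφ2K : ((MulAut.conj d) ^ 2) ^ K = 1 := by
    rw [← pow_mul, mul_comm, pow_mul, hφK, one_pow]
  have hw_fix2 : ((MulAut.conj d) ^ 2) ((x : G) * (y : G)) = (x : G) * (y : G) := by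
    rw [pow_two, MulAut.mul_apply, hw_fix, hw_fix]
  have hz_fix2 : ((MulAut.conj d) ^ 2) (z : G) = (z : G) := by
    have hmem : (MulAut.conj d) (z : G) ∈ h.VG := by
      rw [MulAut.conj_apply]; exact hnorm _ h.z_mem_VG
    obtain ⟨i, e | e | e | e⟩ := h.mem_VG _ hmem
    · exfalso
      apply h.z_not_mem_baseG
      rw [← hwi_fix i] at e
      rw [(MulAut.conj d).injective e]
      exact hwib i
    · exfalso
      apply h.z_not_mem_baseG
      have e2 : (MulAut.conj d) ((x : G) ^ (2 ^ (m + 1)) * ((x : G) * (y : G)) ^ i) =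
          (x : G) ^ (2 ^ (m + 1)) * ((x : G) * (y : G)) ^ i := by
        rw [map_mul, hu_fix, hwi_fix]
      rw [← e2] at e
      rw [(MulAut.conj d).injective e]
      exact h.baseG.mul_mem h.u_mem_baseG (hwib i)
    · apply aut_fixes_of_odd_of_coset ((MulAut.conj d) ^ 2) K hK hφ2K _ _ (m + 2) hwpow hw_fix2
        (i + i)
      rw [pow_two, MulAut.mul_apply, e, map_mul, e, hwi_fix, mul_assoc, ← zpow_add]
    · apply aut_fixes_of_odd_of_coset ((MulAut.conj d) ^ 2) K hK hφ2K _ _ (m + 2) hwpow hw_fix2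
        (i + i)
      rw [pow_two, MulAut.mul_apply, e, map_mul, map_mul, e, hwi_fix, hu_fix, zpow_add]
      have c1 := hwc i _ huP
      calc (z : G) * ((x : G) ^ (2 ^ (m + 1)) * ((x : G) * (y : G)) ^ i) *
          ((x : G) ^ (2 ^ (m + 1)) * ((x : G) * (y : G)) ^ i)
          = (z : G) * (x : G) ^ (2 ^ (m + 1)) * (((x : G) * (y : G)) ^ i *
            (x : G) ^ (2 ^ (m + 1))) * ((x : G) * (y : G)) ^ i := by group
        _ = (z : G) * ((x : G) ^ (2 ^ (m + 1)) * (x : G) ^ (2 ^ (m + 1))) *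
            ((x : G) * (y : G)) ^ i * ((x : G) * (y : G)) ^ i := by rw [← c1]; group
        _ = _ := by rw [huu, mul_one, mul_assoc]
  -- `d²` centralizes `V`
  have hd2 : ∀ g : G, ((MulAut.conj d) ^ 2) g = d ^ 2 * g * (d ^ 2)⁻¹ := by
    intro g
    rw [← map_pow, MulAut.conj_apply]
  have hcomm2 : ∀ g : G, ((MulAut.conj d) ^ 2) g = g → g * d ^ 2 = d ^ 2 * g := by
    intro g hg
    rw [hd2] at hg
    calc g * d ^ 2 = (d ^ 2 * g * (d ^ 2)⁻¹) * d ^ 2 := by rw [hg]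
      _ = d ^ 2 * g := by group
  have hu_fix2 : ((MulAut.conj d) ^ 2) ((x : G) ^ (2 ^ (m + 1))) = (x : G) ^ (2 ^ (m + 1)) := by
    rw [pow_two, MulAut.mul_apply, hu_fix, hu_fix]
  have hle : h.VG ≤ centralizer ({d ^ 2} : Set G) := by
    apply sup_le
    · apply sup_le
      · rw [zpowers_le, mem_centralizer_singleton_iff]; exact hcomm2 _ hw_fix2
      · rw [zpowers_le, mem_centralizer_singleton_iff]; exact hcomm2 _ hu_fix2
    · rw [zpowers_le, mem_centralizer_singleton_iff]; exact hcomm2 _ hz_fix2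
  obtain ⟨l, hl⟩ := hK
  have hdpow : d = (d ^ 2) ^ (l + 1) := by
    rw [← pow_mul, show 2 * (l + 1) = K + 1 by omega, pow_succ, hdK, one_mul]
  rw [mem_centralizer_iff]
  intro g hg
  have h1 : Commute (d ^ 2) g := by
    have := hle hg
    rw [mem_centralizer_singleton_iff] at this
    exact this.symm
  rw [hdpow]
  exact (h1.pow_left (l + 1)).eq.symm

/-- if `3` divides `|N_G(V) : V C_G(V)|` then `u` and `z` are conjugate -/
theorem IsWr.isConj_u_z_of_dvd [Finite G] (h : IsWr ↥P m x y z)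
    (h3 : 3 ∣ (h.VG ⊔ centralizer (h.VG : Set G)).relIndex (normalizer (h.VG : Set G))) :
    IsConj ((x : G) ^ (2 ^ (m + 1))) (z : G) := by
  obtain ⟨d, hdN, hdC, k, hk⟩ := exists_three_elt_of_dvd_relIndex _ _ h3
  have hnot : d * (x : G) ^ (2 ^ (m + 1)) * d⁻¹ ∉ h.baseG := fun hmem =>
    hdC (mem_sup_right (h.odd_centralizes_VG d (3 ^ k) (Odd.pow (by decide))
      (by rw [← hk]; exact pow_orderOf_eq_one d) hdN hmem))
  have hmem : d * (x : G) ^ (2 ^ (m + 1)) * d⁻¹ ∈ h.VG :=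
    (mem_normalizer_iff.mp hdN _).mp h.u_mem_VG
  have ho : orderOf (d * (x : G) ^ (2 ^ (m + 1)) * d⁻¹) = 2 := by
    have := (MulAut.conj d).orderOf_eq ((x : G) ^ (2 ^ (m + 1)))
    rw [MulAut.conj_apply] at this
    rw [this, h.u_orderOf_val]
  have h0 : IsConj ((x : G) ^ (2 ^ (m + 1))) (d * (x : G) ^ (2 ^ (m + 1)) * d⁻¹) :=
    isConj_iff.mpr ⟨d, rfl⟩
  rcases h.invol_cases_val _ (h.VG_le hmem) ho with e | e | e | ⟨j, e⟩
  · exact absurd (by rw [e]; exact h.u_mem_baseG) hnot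
  · exact absurd (by rw [e]; exact h.u'_mem_baseG) hnot
  · exact absurd (by rw [e]; exact h.baseG.mul_mem h.u_mem_baseG h.u'_mem_baseG) hnot
  · rw [e] at h0
    exact h0.trans (h.isConj_z_cz_val j).symm

end val

namespace IsWr

variable {S : Type*} [Group S] {m : ℕ} {x y z : S}

theorem parity_of_pow_eq_u (h : IsWr S m x y z) (i j : ℤ)
    (e : (x ^ i * y ^ j) ^ (2 ^ (m + 1)) = x ^ (2 ^ (m + 1))) : Odd i ∧ Even j := by
  have e0 : (x ^ i * y ^ j) ^ (2 ^ (m + 1)) =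
      x ^ (i * ((2 ^ (m + 1) : ℕ) : ℤ)) * y ^ (j * ((2 ^ (m + 1) : ℕ) : ℤ)) := by
    rw [(h.commute_xy i j).mul_pow, zpow_mul, zpow_mul, zpow_natCast, zpow_natCast]
  have e1 := h.eq_of_eq (i * ((2 ^ (m + 1) : ℕ) : ℤ)) (j * ((2 ^ (m + 1) : ℕ) : ℤ))
    ((2 ^ (m + 1) : ℕ) : ℤ) 0 (by rw [← e0, e, zpow_natCast, zpow_zero, mul_one])
  have hx2 : x ^ (2 * ((2 ^ (m + 1) : ℕ) : ℤ)) = 1 := by
    have : (2 * ((2 ^ (m + 1) : ℕ) : ℤ)) = ((2 ^ (m + 2) : ℕ) : ℤ) := by push_cast; ring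
    rw [this, zpow_natCast, h.x_pow_card]
  have hy2 : y ^ (2 * ((2 ^ (m + 1) : ℕ) : ℤ)) = 1 := by
    have : (2 * ((2 ^ (m + 1) : ℕ) : ℤ)) = ((2 ^ (m + 2) : ℕ) : ℤ) := by push_cast; ring
    rw [this, zpow_natCast, h.y_pow_card]
  constructor
  · rw [← Int.not_even_iff_odd]
    rintro ⟨i', rfl⟩
    apply h.u_ne_one
    have := e1.1
    rw [zpow_natCast] at this
    rw [← this, show (i' + i') * ((2 ^ (m + 1) : ℕ) : ℤ) = (2 * ((2 ^ (m + 1) : ℕ) : ℤ)) * i' by ring,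
      zpow_mul, hx2, one_zpow]
  · rw [← Int.not_odd_iff_even]
    rintro ⟨j', rfl⟩
    apply h.u'_ne_one
    have := e1.2
    rw [zpow_zero, show (2 * j' + 1) * ((2 ^ (m + 1) : ℕ) : ℤ) =
      (2 * ((2 ^ (m + 1) : ℕ) : ℤ)) * j' + ((2 ^ (m + 1) : ℕ) : ℤ) by ring, zpow_add, zpow_mul, hy2,
      one_zpow, one_mul, zpow_natCast] at this
    exact this

theorem parity_of_pow_eq_u' (h : IsWr S m x y z) (i j : ℤ)
    (e : (x ^ i * y ^ j) ^ (2 ^ (m + 1)) = y ^ (2 ^ (m + 1))) : Even i ∧ Odd j := by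
  have e0 : (x ^ i * y ^ j) ^ (2 ^ (m + 1)) =
      x ^ (i * ((2 ^ (m + 1) : ℕ) : ℤ)) * y ^ (j * ((2 ^ (m + 1) : ℕ) : ℤ)) := by
    rw [(h.commute_xy i j).mul_pow, zpow_mul, zpow_mul, zpow_natCast, zpow_natCast]
  have e1 := h.eq_of_eq (i * ((2 ^ (m + 1) : ℕ) : ℤ)) (j * ((2 ^ (m + 1) : ℕ) : ℤ))
    0 ((2 ^ (m + 1) : ℕ) : ℤ) (by rw [← e0, e, zpow_natCast, zpow_zero, one_mul])
  have hx2 : x ^ (2 * ((2 ^ (m + 1) : ℕ) : ℤ)) = 1 := by
    have : (2 * ((2 ^ (m + 1) : ℕ) : ℤ)) = ((2 ^ (m + 2) : ℕ) : ℤ) := by push_cast; ring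
    rw [this, zpow_natCast, h.x_pow_card]
  have hy2 : y ^ (2 * ((2 ^ (m + 1) : ℕ) : ℤ)) = 1 := by
    have : (2 * ((2 ^ (m + 1) : ℕ) : ℤ)) = ((2 ^ (m + 2) : ℕ) : ℤ) := by push_cast; ring
    rw [this, zpow_natCast, h.y_pow_card]
  constructor
  · rw [← Int.not_odd_iff_even]
    rintro ⟨i', rfl⟩
    apply h.u_ne_one
    have := e1.1
    rw [zpow_zero, show (2 * i' + 1) * ((2 ^ (m + 1) : ℕ) : ℤ) =
      (2 * ((2 ^ (m + 1) : ℕ) : ℤ)) * i' + ((2 ^ (m + 1) : ℕ) : ℤ) by ring, zpow_add, zpow_mul, hx2,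
      one_zpow, one_mul, zpow_natCast] at this
    exact this
  · rw [← Int.not_even_iff_odd]
    rintro ⟨j', rfl⟩
    apply h.u'_ne_one
    have := e1.2
    rw [zpow_natCast] at this
    rw [← this, show (j' + j') * ((2 ^ (m + 1) : ℕ) : ℤ) = (2 * ((2 ^ (m + 1) : ℕ) : ℤ)) * j' by ring,
      zpow_mul, hy2, one_zpow]

end IsWr

section sylow

variable {G : Type*} [Group G] [Finite G] {S : Sylow 2 G} {m : ℕ} {x y z : ↥(S : Subgroup G)}

/-- with both fusions every involution is conjugate to `u` -/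
theorem IsWr.invol_isConj_u (h : IsWr ↥(S : Subgroup G) m x y z)
    (hc1 : IsConj ((x : G) ^ (2 ^ (m + 1)) * (y : G) ^ (2 ^ (m + 1))) ((x : G) ^ (2 ^ (m + 1))))
    (hc2 : IsConj ((x : G) ^ (2 ^ (m + 1))) (z : G)) (t : G) (ht : orderOf t = 2) :
    IsConj t ((x : G) ^ (2 ^ (m + 1))) := by
  obtain ⟨g, hg⟩ := exists_conj_mem_sylow_two_of_orderOf S t 1 (by rw [ht, pow_one])
  have ho : orderOf (g * t * g⁻¹) = 2 := by
    have := (MulAut.conj g).orderOf_eq t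
    rw [MulAut.conj_apply] at this
    rw [this, ht]
  have h0 : IsConj t (g * t * g⁻¹) := isConj_iff.mpr ⟨g, rfl⟩
  rcases h.invol_cases_val _ hg ho with e | e | e | ⟨k, e⟩
  · rw [e] at h0; exact h0
  · rw [e] at h0; exact h0.trans h.isConj_u_u'_val.symm
  · rw [e] at h0; exact h0.trans hc1
  · rw [e] at h0
    exact h0.trans ((h.isConj_z_cz_val k).symm.trans hc2.symm)

theorem IsWr.card_classes_invol_eq_one (h : IsWr ↥(S : Subgroup G) m x y z)
    (hc1 : IsConj ((x : G) ^ (2 ^ (m + 1)) * (y : G) ^ (2 ^ (m + 1))) ((x : G) ^ (2 ^ (m + 1))))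
    (hc2 : IsConj ((x : G) ^ (2 ^ (m + 1))) (z : G)) :
    Nat.card {C : ConjClasses G // ∃ t : G, orderOf t = 2 ∧ ConjClasses.mk t = C} = 1 := by
  apply card_subtype_eq_one _ (ConjClasses.mk ((x : G) ^ (2 ^ (m + 1))))
    ⟨_, h.u_orderOf_val, rfl⟩
  rintro C ⟨t, ht, rfl⟩
  exact ConjClasses.mk_eq_mk_iff_isConj.mpr (h.invol_isConj_u hc1 hc2 t ht)

/-- with both fusions (the first one realised in `N_G(U)`) there is no subgroup of index two -/
theorem IsWr.no_index_two (h : IsWr ↥(S : Subgroup G) m x y z) (d : G)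
    (hdN : d ∈ normalizer (h.baseG : Set G))
    (hd : d * ((x : G) ^ (2 ^ (m + 1)) * (y : G) ^ (2 ^ (m + 1))) * d⁻¹ = (x : G) ^ (2 ^ (m + 1)) ∨
      d * ((x : G) ^ (2 ^ (m + 1)) * (y : G) ^ (2 ^ (m + 1))) * d⁻¹ = (y : G) ^ (2 ^ (m + 1)))
    (hc2 : IsConj ((x : G) ^ (2 ^ (m + 1))) (z : G)) (H : Subgroup G) : H.index ≠ 2 := by
  have : Fact (Nat.Prime 2) := ⟨Nat.prime_two⟩
  intro hH
  have hn : H.Normal := normal_of_index_eq_two hH
  have hcc : (x : G) ^ (2 ^ (m + 1)) * (y : G) ^ (2 ^ (m + 1)) =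
      ((x : G) * (y : G)) ^ (2 ^ (m + 1)) := by
    have := congrArg Subtype.val h.uu'_eq
    simpa using this
  have hc0 : (x : G) ^ (2 ^ (m + 1)) * (y : G) ^ (2 ^ (m + 1)) ∈ H := by
    have := sq_mem_of_index_two hH (((x : G) * (y : G)) ^ (2 ^ m))
    rwa [← pow_mul, show 2 ^ m * 2 = 2 ^ (m + 1) by ring, ← hcc] at this
  have hzinv : (z : G)⁻¹ = (z : G) := by
    have := congrArg Subtype.val h.z_inv
    simpa using this
  have hrel : (z : G) * (x : G) * (z : G)⁻¹ = (y : G) := by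
    have := congrArg Subtype.val h.rel
    simpa using this
  have hrel_y : (z : G) * (y : G) * (z : G)⁻¹ = (x : G) := by
    have := congrArg Subtype.val h.rel_y
    simpa using this
  have hconj_u : (z : G) * (x : G) ^ (2 ^ (m + 1)) * (z : G)⁻¹ = (y : G) ^ (2 ^ (m + 1)) := by
    rw [← conj_pow, hrel]
  have hu : (x : G) ^ (2 ^ (m + 1)) ∈ H := by
    rcases hd with e | e
    · rw [← e]; exact hn.conj_mem _ hc0 d
    · have h1 : (y : G) ^ (2 ^ (m + 1)) ∈ H := by rw [← e]; exact hn.conj_mem _ hc0 d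
      have h2 := hn.conj_mem _ h1 (z : G)
      rwa [← conj_pow, hrel_y] at h2
  have hz : (z : G) ∈ H := by
    obtain ⟨c, hc⟩ := isConj_iff.mp hc2
    rw [← hc]; exact hn.conj_mem _ hu c
  have hw : (x : G) * (y : G) ∈ H := by
    have := sq_mem_of_index_two hH ((x : G) * (z : G))
    have e : ((x : G) * (z : G)) ^ 2 = (x : G) * (y : G) := by
      rw [pow_two, ← hrel, hzinv]
      simp only [mul_assoc]
    rwa [e] at this
  have hx2 : (x : G) ^ 2 ∈ H := sq_mem_of_index_two hH _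
  have hy2 : (y : G) ^ 2 ∈ H := sq_mem_of_index_two hH _
  -- the conjugate of `xy` under `d`
  have ha : d * ((x : G) * (y : G)) * d⁻¹ ∈ H := hn.conj_mem _ hw d
  have hab : d * ((x : G) * (y : G)) * d⁻¹ ∈ h.baseG :=
    (mem_normalizer_iff.mp hdN _).mp h.w_mem_baseG
  obtain ⟨i, j, eij⟩ := (h.mem_baseG_iff _).mp hab
  have hpow : ((x : G) ^ i * (y : G) ^ j) ^ (2 ^ (m + 1)) =
      d * ((x : G) ^ (2 ^ (m + 1)) * (y : G) ^ (2 ^ (m + 1))) * d⁻¹ := by
    rw [← eij, conj_pow, hcc]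
  have hxe : ∀ k : ℤ, (x : G) ^ (2 * k) ∈ H := by
    intro k
    rw [zpow_mul]
    exact zpow_mem (by rw [zpow_ofNat]; exact hx2) k
  have hye : ∀ k : ℤ, (y : G) ^ (2 * k) ∈ H := by
    intro k
    rw [zpow_mul]
    exact zpow_mem (by rw [zpow_ofNat]; exact hy2) k
  have hX_of : Odd i → Even j → (x : G) ∈ H := by
    rintro ⟨i', rfl⟩ ⟨j', rfl⟩
    rw [eij] at ha
    have e : (x : G) = ((x : G) ^ (2 * i'))⁻¹ * ((x : G) ^ (2 * i' + 1) * (y : G) ^ (j' + j')) *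
        ((y : G) ^ (2 * j'))⁻¹ := by group
    rw [e]
    exact H.mul_mem (H.mul_mem (H.inv_mem (hxe i')) ha) (H.inv_mem (hye j'))
  have hY_of : Even i → Odd j → (y : G) ∈ H := by
    rintro ⟨i', rfl⟩ ⟨j', rfl⟩
    rw [eij] at ha
    have e : (y : G) = ((x : G) ^ (2 * i'))⁻¹ * ((x : G) ^ (i' + i') * (y : G) ^ (2 * j' + 1)) *
        ((y : G) ^ (2 * j'))⁻¹ := by group
    rw [e]
    exact H.mul_mem (H.mul_mem (H.inv_mem (hxe i')) ha) (H.inv_mem (hye j'))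
  have hXY : (x : G) ∈ H ∧ (y : G) ∈ H := by
    rcases hd with e | e
    · have e' : (x ^ i * y ^ j) ^ (2 ^ (m + 1)) = x ^ (2 ^ (m + 1)) := by
        apply Subtype.ext
        rw [e] at hpow
        simpa using hpow
      obtain ⟨p1, p2⟩ := h.parity_of_pow_eq_u i j e'
      have hX := hX_of p1 p2
      refine ⟨hX, ?_⟩
      rw [← hrel]; exact hn.conj_mem _ hX _
    · have e' : (x ^ i * y ^ j) ^ (2 ^ (m + 1)) = y ^ (2 ^ (m + 1)) := by
        apply Subtype.ext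
        rw [e] at hpow
        simpa using hpow
      obtain ⟨p1, p2⟩ := h.parity_of_pow_eq_u' i j e'
      have hY := hY_of p1 p2
      refine ⟨?_, hY⟩
      rw [← hrel_y]; exact hn.conj_mem _ hY _
  have hle : (S : Subgroup G) ≤ H := by
    intro g hg
    obtain ⟨i, j, rfl | rfl⟩ := h.cover_val g hg
    · exact mul_mem (zpow_mem hXY.1 i) (zpow_mem hXY.2 j)
    · exact mul_mem (mul_mem (zpow_mem hXY.1 i) (zpow_mem hXY.2 j)) hz
  have hd' : H.index ∣ (S : Subgroup G).index := index_dvd_of_le hle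
  rw [hH] at hd'
  exact S.not_dvd_index hd'

/-- common setup for the statements on wreathed Sylow 2-subgroups: generators adapted to `U` and
to `V = Q Z(S)` -/
theorem wreathed_setup {G : Type*} [Group G] (S : Sylow 2 G)
    (hS : Cfsg.IsWreathed (S : Subgroup G)) (n : ℕ) (hn : Nat.card S = 2 ^ (2 * n + 1))
    (U : Subgroup G) (hUS : U ≤ S) (hUab : IsMulCommutative U) (hUcard : Nat.card U = 2 ^ (2 * n))
    (Q : Subgroup G) (hQS : Q ≤ S) (eQ : Q ≃* QuaternionGroup 2) :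
    ∃ (m : ℕ) (x y z : ↥(S : Subgroup G)) (h : IsWr ↥(S : Subgroup G) m x y z),
      n = m + 2 ∧ U = h.baseG ∧
      Q ⊔ ((Subgroup.center (S : Subgroup G)).map (S : Subgroup G).subtype) = h.VG := by
  obtain ⟨m, x, y, z, h⟩ := exists_isWr hS
  have hnm : n = m + 2 := by
    have h1 : Nat.card ↥(S : Subgroup G) = 2 ^ (2 * n + 1) := hn
    rw [h.card] at h1
    have := Nat.pow_right_injective (le_refl 2) h1
    omega
  obtain ⟨z', h', hV⟩ := h.exists_of_quaternion (Q.subgroupOf S)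
    ((Subgroup.subgroupOfEquivOfLe hQS).trans eQ)
  refine ⟨m, x, y, z', h', hnm, ?_, ?_⟩
  · apply h'.eq_baseG U hUS hUab
    rw [hUcard, hnm]
  · rw [← h'.map_V, ← hV, Subgroup.map_sup, Subgroup.map_subgroupOf_eq_of_le hQS]

end sylow

end Cfsg.Agent.Lib.Helper18
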