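import Mathlib
import Cfsg.Agent.Lib.Helper18.WrFusion
import Cfsg.Agent.Lib.Helper18.QDLocal
import Cfsg.Agent.Lib.Helper17.Basic

set_option autoImplicit false

/-!
# Wreathed Sylow 2-subgroups: non-fusion of `z` and the central involution

If `|N_G(V) : V C_G(V)| = 2` (more precisely: squares of elements of `N_G(V)` lie in `V C_G(V)`),
then the involution `z` is not conjugate to the central involution `u u'` of `S`.
-/

namespace Cfsg.Agent.Lib.Helper18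

open Subgroup

section val

variable {G : Type*} [Group G] {P : Subgroup G} {m : ℕ} {x y z : ↥P}

theorem IsWr.u_sq_val (h : IsWr ↥P m x y z) :
    (x : G) ^ (2 ^ (m + 1)) * (x : G) ^ (2 ^ (m + 1)) = 1 := by
  have := congrArg Subtype.val h.u_mul_self
  simpa using this

theorem IsWr.u'_sq_val (h : IsWr ↥P m x y z) :
    (y : G) ^ (2 ^ (m + 1)) * (y : G) ^ (2 ^ (m + 1)) = 1 := by
  have := congrArg Subtype.val h.u'_mul_self
  simpa using this

theorem IsWr.u_ne_one_val (h : IsWr ↥P m x y z) : (x : G) ^ (2 ^ (m + 1)) ≠ 1 := by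
  rw [← h.u_val]; intro e; exact h.u_ne_one (Subtype.ext e)

theorem IsWr.u'_ne_one_val (h : IsWr ↥P m x y z) : (y : G) ^ (2 ^ (m + 1)) ≠ 1 := by
  rw [← h.u'_val]; intro e; exact h.u'_ne_one (Subtype.ext e)

theorem IsWr.u_ne_u'_val (h : IsWr ↥P m x y z) :
    (x : G) ^ (2 ^ (m + 1)) ≠ (y : G) ^ (2 ^ (m + 1)) := by
  rw [← h.u_val, ← h.u'_val]; intro e; exact h.u_ne_u' (Subtype.ext e)

theorem IsWr.uu'_comm_val (h : IsWr ↥P m x y z) :
    (x : G) ^ (2 ^ (m + 1)) * (y : G) ^ (2 ^ (m + 1)) =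
      (y : G) ^ (2 ^ (m + 1)) * (x : G) ^ (2 ^ (m + 1)) :=
  h.baseG_comm _ _ h.u_mem_baseG h.u'_mem_baseG

theorem IsWr.c0_sq_val (h : IsWr ↥P m x y z) :
    ((x : G) ^ (2 ^ (m + 1)) * (y : G) ^ (2 ^ (m + 1))) *
      ((x : G) ^ (2 ^ (m + 1)) * (y : G) ^ (2 ^ (m + 1))) = 1 := by
  calc ((x : G) ^ (2 ^ (m + 1)) * (y : G) ^ (2 ^ (m + 1))) *
      ((x : G) ^ (2 ^ (m + 1)) * (y : G) ^ (2 ^ (m + 1)))
      = (x : G) ^ (2 ^ (m + 1)) * ((y : G) ^ (2 ^ (m + 1)) * (x : G) ^ (2 ^ (m + 1))) *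
        (y : G) ^ (2 ^ (m + 1)) := by group
    _ = ((x : G) ^ (2 ^ (m + 1)) * (x : G) ^ (2 ^ (m + 1))) *
        ((y : G) ^ (2 ^ (m + 1)) * (y : G) ^ (2 ^ (m + 1))) := by rw [← h.uu'_comm_val]; group
    _ = 1 := by rw [h.u_sq_val, h.u'_sq_val, one_mul]

theorem IsWr.c0_ne_one_val (h : IsWr ↥P m x y z) :
    (x : G) ^ (2 ^ (m + 1)) * (y : G) ^ (2 ^ (m + 1)) ≠ 1 := by
  intro e
  apply h.u_ne_u'_val
  calc (x : G) ^ (2 ^ (m + 1)) = (x : G) ^ (2 ^ (m + 1)) *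
      ((y : G) ^ (2 ^ (m + 1)) * (y : G) ^ (2 ^ (m + 1))) := by rw [h.u'_sq_val, mul_one]
    _ = _ := by rw [← mul_assoc, e, one_mul]

theorem IsWr.c0_orderOf_val (h : IsWr ↥P m x y z) :
    orderOf ((x : G) ^ (2 ^ (m + 1)) * (y : G) ^ (2 ^ (m + 1))) = 2 := by
  have : Fact (Nat.Prime 2) := ⟨Nat.prime_two⟩
  exact orderOf_eq_prime (by rw [pow_two]; exact h.c0_sq_val) h.c0_ne_one_val

theorem IsWr.c0_mem_baseG (h : IsWr ↥P m x y z) :
    (x : G) ^ (2 ^ (m + 1)) * (y : G) ^ (2 ^ (m + 1)) ∈ h.baseG :=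
  h.baseG.mul_mem h.u_mem_baseG h.u'_mem_baseG

theorem IsWr.c0_eq_val (h : IsWr ↥P m x y z) :
    (x : G) ^ (2 ^ (m + 1)) * (y : G) ^ (2 ^ (m + 1)) = ((x : G) * (y : G)) ^ (2 ^ (m + 1)) := by
  have := congrArg Subtype.val h.uu'_eq
  simpa using this

theorem IsWr.c0_central_val (h : IsWr ↥P m x y z) (g : G) (hg : g ∈ P) :
    g * ((x : G) ^ (2 ^ (m + 1)) * (y : G) ^ (2 ^ (m + 1))) =
      (x : G) ^ (2 ^ (m + 1)) * (y : G) ^ (2 ^ (m + 1)) * g := by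
  have := congrArg Subtype.val (h.uu'_central ⟨g, hg⟩)
  simpa using this

theorem IsWr.z_sq_val (h : IsWr ↥P m x y z) : (z : G) * (z : G) = 1 := by
  have := congrArg Subtype.val h.z_mul_self
  simpa using this

theorem IsWr.z_inv_val (h : IsWr ↥P m x y z) : (z : G)⁻¹ = (z : G) :=
  inv_eq_of_mul_eq_one_right h.z_sq_val

theorem IsWr.z_ne_c0_val (h : IsWr ↥P m x y z) :
    (z : G) ≠ (x : G) ^ (2 ^ (m + 1)) * (y : G) ^ (2 ^ (m + 1)) := by
  intro e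
  apply h.z_not_mem_baseG
  rw [e]; exact h.c0_mem_baseG

theorem IsWr.conj_u_val (h : IsWr ↥P m x y z) :
    (z : G) * (x : G) ^ (2 ^ (m + 1)) * (z : G)⁻¹ = (y : G) ^ (2 ^ (m + 1)) := by
  have := congrArg Subtype.val h.conj_u
  simpa using this

/-- `u z u⁻¹ = c₀ z` -/
theorem IsWr.conj_z_by_u_val (h : IsWr ↥P m x y z) :
    (x : G) ^ (2 ^ (m + 1)) * (z : G) * ((x : G) ^ (2 ^ (m + 1)))⁻¹ =
      (x : G) ^ (2 ^ (m + 1)) * (y : G) ^ (2 ^ (m + 1)) * (z : G) := by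
  have e1 : (z : G) * ((x : G) ^ (2 ^ (m + 1)))⁻¹ = (y : G) ^ (2 ^ (m + 1)) * (z : G) := by
    have hinv : ((x : G) ^ (2 ^ (m + 1)))⁻¹ = (x : G) ^ (2 ^ (m + 1)) :=
      inv_eq_of_mul_eq_one_right h.u_sq_val
    rw [hinv, ← h.conj_u_val, h.z_inv_val, mul_assoc, mul_assoc, h.z_sq_val, mul_one]
  rw [mul_assoc, e1, mul_assoc]

/-- conjugation by elements of `S` outside `U` swaps `u` and `u'` -/
theorem IsWr.conj_out_u_val (h : IsWr ↥P m x y z) (b : G) (hbP : b ∈ P) (hb : b ∉ h.baseG) :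
    b * (x : G) ^ (2 ^ (m + 1)) * b⁻¹ = (y : G) ^ (2 ^ (m + 1)) := by
  have hb' : (⟨b, hbP⟩ : ↥P) ∉ h.base := fun h1 => hb ((h.mem_baseG_iff' ⟨b, hbP⟩).mpr h1)
  have := congrArg Subtype.val (h.conj_out_u ⟨b, hbP⟩ hb')
  simpa using this

/-- `Ω₁(U)` as a subgroup of the big group -/
def IsWr.omegaG (h : IsWr ↥P m x y z) : Subgroup G where
  carrier := {a | a ∈ h.baseG ∧ a * a = 1}
  one_mem' := ⟨one_mem _, by simp⟩
  mul_mem' := by
    rintro a b ⟨ha, haa⟩ ⟨hb, hbb⟩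
    refine ⟨mul_mem ha hb, ?_⟩
    calc a * b * (a * b) = a * (b * a) * b := by group
      _ = a * (a * b) * b := by rw [h.baseG_comm b a hb ha]
      _ = (a * a) * (b * b) := by group
      _ = 1 := by rw [haa, hbb, one_mul]
  inv_mem' := by
    rintro a ⟨ha, haa⟩
    refine ⟨inv_mem ha, ?_⟩
    rw [← mul_inv_rev, haa, inv_one]

theorem IsWr.mem_omegaG_iff (h : IsWr ↥P m x y z) (a : G) :
    a ∈ h.omegaG ↔ a ∈ h.baseG ∧ a * a = 1 := Iff.rfl

/-- the centre of `V` is `⟨xy⟩` -/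
theorem IsWr.center_VG (h : IsWr ↥P m x y z) (g : G) (hg : g ∈ h.VG)
    (hcomm : ∀ v ∈ h.VG, g * v = v * g) : g ∈ zpowers ((x : G) * (y : G)) := by
  have hwc : ∀ (i : ℤ) (g : G), g ∈ P → g * ((x : G) * (y : G)) ^ i = ((x : G) * (y : G)) ^ i * g := by
    intro i g hg
    have : Commute g ((x : G) * (y : G)) := h.w_comm_val g hg
    exact (this.zpow_right i).eq
  have hzP : (z : G) ∈ P := z.2
  have huP : (x : G) ^ (2 ^ (m + 1)) ∈ P := h.VG_le h.u_mem_VG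
  obtain ⟨i, e | e | e | e⟩ := h.mem_VG g hg
  · rw [e]; exact zpow_mem (mem_zpowers _) i
  · exfalso
    apply h.z_u_ne_val
    have h1 := hcomm _ h.z_mem_VG
    rw [e, mul_assoc, ← hwc i _ hzP, ← mul_assoc, ← mul_assoc] at h1
    exact (mul_right_cancel h1).symm
  · exfalso
    apply h.z_u_ne_val
    have h1 := hcomm _ h.u_mem_VG
    rw [e, mul_assoc, ← hwc i _ huP, ← mul_assoc, ← mul_assoc] at h1
    exact mul_right_cancel h1
  · exfalso
    apply h.z_u_ne_val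
    have h1 := hcomm _ h.u_mem_VG
    rw [e, mul_assoc, mul_assoc, ← hwc i _ huP, ← mul_assoc, ← mul_assoc, ← mul_assoc,
      ← mul_assoc] at h1
    have h2 := mul_right_cancel h1
    have h3 := mul_right_cancel h2
    exact h3

/-- `V`-conjugates of `z` -/
theorem IsWr.conj_VG_z (h : IsWr ↥P m x y z) (v : G) (hv : v ∈ h.VG) :
    v * (z : G) * v⁻¹ = (z : G) ∨
      v * (z : G) * v⁻¹ = (x : G) ^ (2 ^ (m + 1)) * (y : G) ^ (2 ^ (m + 1)) * (z : G) := by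
  have hwc : ∀ (i : ℤ), (z : G) * ((x : G) * (y : G)) ^ i = ((x : G) * (y : G)) ^ i * (z : G) := by
    intro i
    have : Commute (z : G) ((x : G) * (y : G)) := h.w_comm_val _ z.2
    exact (this.zpow_right i).eq
  have hc0z : (z : G) * ((x : G) ^ (2 ^ (m + 1)) * (y : G) ^ (2 ^ (m + 1))) =
      (x : G) ^ (2 ^ (m + 1)) * (y : G) ^ (2 ^ (m + 1)) * (z : G) := h.c0_central_val _ z.2
  have hconjw : ∀ (i : ℤ) (a : G), (a * ((x : G) * (y : G)) ^ i) * (z : G) *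
      (a * ((x : G) * (y : G)) ^ i)⁻¹ = a * (z : G) * a⁻¹ := by
    intro i a
    calc (a * ((x : G) * (y : G)) ^ i) * (z : G) * (a * ((x : G) * (y : G)) ^ i)⁻¹
        = a * (((x : G) * (y : G)) ^ i * (z : G)) * (((x : G) * (y : G)) ^ i)⁻¹ * a⁻¹ := by group
      _ = a * ((z : G) * ((x : G) * (y : G)) ^ i) * (((x : G) * (y : G)) ^ i)⁻¹ * a⁻¹ := by
          rw [hwc i]
      _ = _ := by group
  obtain ⟨i, e | e | e | e⟩ := h.mem_VG v hv
  · left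
    have := hconjw i 1
    rw [one_mul] at this
    rw [e, this]; group
  · right
    rw [e, hconjw i, h.conj_z_by_u_val]
  · left
    rw [e, hconjw i]; group
  · right
    rw [e, ← mul_assoc, hconjw i]
    calc (z : G) * (x : G) ^ (2 ^ (m + 1)) * (z : G) * ((z : G) * (x : G) ^ (2 ^ (m + 1)))⁻¹
        = (z : G) * ((x : G) ^ (2 ^ (m + 1)) * (z : G) * ((x : G) ^ (2 ^ (m + 1)))⁻¹) * (z : G)⁻¹ := by
          group
      _ = (z : G) * ((x : G) ^ (2 ^ (m + 1)) * (y : G) ^ (2 ^ (m + 1)) * (z : G)) * (z : G)⁻¹ := by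
          rw [h.conj_z_by_u_val]
      _ = _ := by rw [← mul_assoc, hc0z]; group

end val

section sylow

variable {G : Type*} [Group G] [Finite G] {S : Sylow 2 G} {m : ℕ} {x y z : ↥(S : Subgroup G)}

theorem IsWr.sylow_le_normalizer_omegaG (h : IsWr ↥(S : Subgroup G) m x y z) :
    (S : Subgroup G) ≤ normalizer (h.omegaG : Set G) := by
  intro s hs
  apply Cfsg.Agent.Lib.Helper17.mem_normalizer_of_forall_conj_mem
  rintro a ⟨ha, haa⟩
  refine ⟨?_, ?_⟩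
  · obtain ⟨a', ha', rfl⟩ := ha
    have := h.normal_base.conj_mem a' ha' ⟨s, hs⟩
    exact ⟨_, this, by simp⟩
  · calc s * a * s⁻¹ * (s * a * s⁻¹) = s * (a * a) * s⁻¹ := by group
      _ = 1 := by rw [haa]; group

/-- if `z` is conjugate to the central involution, some element conjugates `V` into `S` and `z`
into `U` -/
theorem IsWr.exists_conj_VG_of_isConj (h : IsWr ↥(S : Subgroup G) m x y z)
    (hc : IsConj (z : G) ((x : G) ^ (2 ^ (m + 1)) * (y : G) ^ (2 ^ (m + 1)))) :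
    ∃ g : G, (∀ v ∈ h.VG, g * v * g⁻¹ ∈ (S : Subgroup G)) ∧ g * (z : G) * g⁻¹ ∈ h.baseG := by
  have : Fact (Nat.Prime 2) := ⟨Nat.prime_two⟩
  obtain ⟨g₀, hg₀⟩ := isConj_iff.mp hc
  -- Step 1: extremal conjugation inside `C_G(c₀)`
  have hSH : (S : Subgroup G) ≤
      centralizer ({(x : G) ^ (2 ^ (m + 1)) * (y : G) ^ (2 ^ (m + 1))} : Set G) := by
    intro s hs
    rw [mem_centralizer_singleton_iff]
    exact h.c0_central_val s hs
  have hQ₁H : zpowers (g₀ * ((x : G) * (y : G)) * g₀⁻¹) ≤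
      centralizer ({(x : G) ^ (2 ^ (m + 1)) * (y : G) ^ (2 ^ (m + 1))} : Set G) := by
    rw [zpowers_le, mem_centralizer_singleton_iff, ← hg₀]
    have hc' := h.w_comm_val _ z.2
    calc g₀ * ((x : G) * (y : G)) * g₀⁻¹ * (g₀ * (z : G) * g₀⁻¹)
        = g₀ * (((x : G) * (y : G)) * (z : G)) * g₀⁻¹ := by group
      _ = g₀ * ((z : G) * ((x : G) * (y : G))) * g₀⁻¹ := by rw [hc']
      _ = _ := by group
  have hQ₁p : IsPGroup 2 ↥(zpowers (g₀ * ((x : G) * (y : G)) * g₀⁻¹)) := by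
    apply IsPGroup.of_card (n := m + 2)
    rw [Nat.card_zpowers]
    have := (MulAut.conj g₀).orderOf_eq ((x : G) * (y : G))
    rw [MulAut.conj_apply] at this
    rw [this, h.orderOf_w_val]
  obtain ⟨c, hcH, hcQ⟩ := Cfsg.Agent.Lib.Helper12.exists_conj_mem_sylow S _ _ hSH hQ₁H hQ₁p
  rw [mem_centralizer_singleton_iff] at hcH
  have hg₁z : (c * g₀) * (z : G) * (c * g₀)⁻¹ =
      (x : G) ^ (2 ^ (m + 1)) * (y : G) ^ (2 ^ (m + 1)) := by
    calc (c * g₀) * (z : G) * (c * g₀)⁻¹ = c * (g₀ * (z : G) * g₀⁻¹) * c⁻¹ := by group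
      _ = c * ((x : G) ^ (2 ^ (m + 1)) * (y : G) ^ (2 ^ (m + 1))) * c⁻¹ := by rw [hg₀]
      _ = _ := by rw [hcH]; group
  have hb₁S : (c * g₀) * ((x : G) * (y : G)) * (c * g₀)⁻¹ ∈ (S : Subgroup G) := by
    have := hcQ _ (mem_zpowers _)
    have e : (c * g₀) * ((x : G) * (y : G)) * (c * g₀)⁻¹ =
        c * (g₀ * ((x : G) * (y : G)) * g₀⁻¹) * c⁻¹ := by group
    rwa [e]
  obtain ⟨g₁, hg₁⟩ : ∃ g₁ : G, g₁ = c * g₀ := ⟨_, rfl⟩
  rw [← hg₁] at hg₁z hb₁S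
  -- Step 1': the image of `c₀` is `u` or `u'`
  have hpow : (g₁ * ((x : G) * (y : G)) * g₁⁻¹) ^ (2 ^ (m + 1)) =
      g₁ * ((x : G) ^ (2 ^ (m + 1)) * (y : G) ^ (2 ^ (m + 1))) * g₁⁻¹ := by
    rw [conj_pow, h.c0_eq_val]
  have hne : g₁ * ((x : G) ^ (2 ^ (m + 1)) * (y : G) ^ (2 ^ (m + 1))) * g₁⁻¹ ≠
      (x : G) ^ (2 ^ (m + 1)) * (y : G) ^ (2 ^ (m + 1)) := by
    intro e
    apply h.z_ne_c0_val
    have e2 := e.trans hg₁z.symm
    have := congrArg (fun t => g₁⁻¹ * t * g₁) e2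
    beta_reduce at this
    have e3 : g₁⁻¹ * (g₁ * (z : G) * g₁⁻¹) * g₁ = (z : G) := by group
    have e4 : g₁⁻¹ * (g₁ * ((x : G) ^ (2 ^ (m + 1)) * (y : G) ^ (2 ^ (m + 1))) * g₁⁻¹) * g₁ =
        (x : G) ^ (2 ^ (m + 1)) * (y : G) ^ (2 ^ (m + 1)) := by group
    rw [e3, e4] at this
    exact this.symm
  have heo : orderOf (g₁ * ((x : G) ^ (2 ^ (m + 1)) * (y : G) ^ (2 ^ (m + 1))) * g₁⁻¹) = 2 := by
    have := (MulAut.conj g₁).orderOf_eq ((x : G) ^ (2 ^ (m + 1)) * (y : G) ^ (2 ^ (m + 1)))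
    rw [MulAut.conj_apply] at this
    rw [this, h.c0_orderOf_val]
  have hb₁U : g₁ * ((x : G) * (y : G)) * g₁⁻¹ ∈ h.baseG := by
    by_contra hnot
    obtain ⟨i, j, e | e⟩ := h.cover_val _ hb₁S
    · exact hnot ((h.mem_baseG_iff _).mpr ⟨i, j, e⟩)
    · apply hne
      -- the power is a central involution
      have e1 : ((x ^ i * y ^ j * z : ↥(S : Subgroup G)) : G) = g₁ * ((x : G) * (y : G)) * g₁⁻¹ := by
        rw [e]; simp
      have e2 : (x ^ i * y ^ j * z) ^ (2 ^ (m + 1)) = ((x * y) ^ (i + j)) ^ (2 ^ m) := by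
        rw [show 2 ^ (m + 1) = 2 * 2 ^ m by ring, pow_mul, pow_two, h.sq_xyz,
          (show Commute x y from h.comm).mul_zpow]
      have e3 : (((x ^ i * y ^ j * z) ^ (2 ^ (m + 1)) : ↥(S : Subgroup G)) : G) =
          g₁ * ((x : G) ^ (2 ^ (m + 1)) * (y : G) ^ (2 ^ (m + 1))) * g₁⁻¹ := by
        rw [← hpow, ← e1]; simp
      have ho : orderOf ((x ^ i * y ^ j * z) ^ (2 ^ (m + 1))) = 2 := by
        rw [← Subgroup.orderOf_coe, e3, heo]
      have hcen : (x ^ i * y ^ j * z) ^ (2 ^ (m + 1)) ∈ center ↥(S : Subgroup G) := by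
        rw [e2, h.center_eq]
        exact pow_mem (zpow_mem (mem_zpowers _) _) _
      have := h.central_involution _ ho hcen
      rw [← e3, this]; simp
  have heU : g₁ * ((x : G) ^ (2 ^ (m + 1)) * (y : G) ^ (2 ^ (m + 1))) * g₁⁻¹ ∈ h.baseG := by
    rw [← hpow]; exact pow_mem hb₁U _
  have hee : (g₁ * ((x : G) ^ (2 ^ (m + 1)) * (y : G) ^ (2 ^ (m + 1))) * g₁⁻¹) *
      (g₁ * ((x : G) ^ (2 ^ (m + 1)) * (y : G) ^ (2 ^ (m + 1))) * g₁⁻¹) = 1 := by
    have := pow_orderOf_eq_one (g₁ * ((x : G) ^ (2 ^ (m + 1)) * (y : G) ^ (2 ^ (m + 1))) * g₁⁻¹)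
    rwa [heo, pow_two] at this
  -- Step 2: `g₁ V g₁⁻¹` normalizes `Ω₁(U)`
  have hc0Ω : (x : G) ^ (2 ^ (m + 1)) * (y : G) ^ (2 ^ (m + 1)) ∈ h.omegaG :=
    ⟨h.c0_mem_baseG, h.c0_sq_val⟩
  have heΩ : g₁ * ((x : G) ^ (2 ^ (m + 1)) * (y : G) ^ (2 ^ (m + 1))) * g₁⁻¹ ∈ h.omegaG :=
    ⟨heU, hee⟩
  have hlist : ∀ a ∈ h.omegaG, a = 1 ∨ a = (x : G) ^ (2 ^ (m + 1)) * (y : G) ^ (2 ^ (m + 1)) ∨
      a = g₁ * ((x : G) ^ (2 ^ (m + 1)) * (y : G) ^ (2 ^ (m + 1))) * g₁⁻¹ ∨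
      a = (x : G) ^ (2 ^ (m + 1)) * (y : G) ^ (2 ^ (m + 1)) *
        (g₁ * ((x : G) ^ (2 ^ (m + 1)) * (y : G) ^ (2 ^ (m + 1))) * g₁⁻¹) := by
    rintro a ⟨ha, haa⟩
    have he1 : g₁ * ((x : G) ^ (2 ^ (m + 1)) * (y : G) ^ (2 ^ (m + 1))) * g₁⁻¹ ≠ 1 := by
      intro e; rw [e, orderOf_one] at heo; omega
    have hcu : (x : G) ^ (2 ^ (m + 1)) * (y : G) ^ (2 ^ (m + 1)) * (x : G) ^ (2 ^ (m + 1)) =
        (y : G) ^ (2 ^ (m + 1)) := by
      rw [h.uu'_comm_val, mul_assoc, h.u_sq_val, mul_one]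
    have hcu' : (x : G) ^ (2 ^ (m + 1)) * (y : G) ^ (2 ^ (m + 1)) * (y : G) ^ (2 ^ (m + 1)) =
        (x : G) ^ (2 ^ (m + 1)) := by
      rw [mul_assoc, h.u'_sq_val, mul_one]
    rcases h.baseG_invol _ heU hee with e | e | e | e
    · exact absurd e he1
    · exact absurd e hne
    · rcases h.baseG_invol a ha haa with e' | e' | e' | e'
      · left; exact e'
      · right; left; exact e'
      · right; right; left; rw [e', e]
      · right; right; right; rw [e', e, hcu]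
    · rcases h.baseG_invol a ha haa with e' | e' | e' | e'
      · left; exact e'
      · right; left; exact e'
      · right; right; right; rw [e', e, hcu']
      · right; right; left; rw [e', e]
  have hV₁N : h.VG.map (MulAut.conj g₁).toMonoidHom ≤ normalizer (h.omegaG : Set G) := by
    rintro _ ⟨v, hv, rfl⟩
    simp only [MulEquiv.coe_toMonoidHom, MulAut.conj_apply]
    apply Cfsg.Agent.Lib.Helper17.mem_normalizer_of_forall_conj_mem
    have hvS : v ∈ (S : Subgroup G) := h.VG_le hv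
    have h1 : (g₁ * v * g₁⁻¹) * ((x : G) ^ (2 ^ (m + 1)) * (y : G) ^ (2 ^ (m + 1))) *
        (g₁ * v * g₁⁻¹)⁻¹ ∈ h.omegaG := by
      have e : (g₁ * v * g₁⁻¹) * ((x : G) ^ (2 ^ (m + 1)) * (y : G) ^ (2 ^ (m + 1))) *
          (g₁ * v * g₁⁻¹)⁻¹ = g₁ * (v * (z : G) * v⁻¹) * g₁⁻¹ := by
        rw [← hg₁z]; group
      rw [e]
      rcases h.conj_VG_z v hv with e' | e'
      · rw [e', hg₁z]; exact hc0Ω
      · rw [e']
        have e'' : g₁ * ((x : G) ^ (2 ^ (m + 1)) * (y : G) ^ (2 ^ (m + 1)) * (z : G)) * g₁⁻¹ =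
            (g₁ * ((x : G) ^ (2 ^ (m + 1)) * (y : G) ^ (2 ^ (m + 1))) * g₁⁻¹) *
              (g₁ * (z : G) * g₁⁻¹) := by group
        rw [e'', hg₁z]
        exact mul_mem heΩ hc0Ω
    have h2 : (g₁ * v * g₁⁻¹) * (g₁ * ((x : G) ^ (2 ^ (m + 1)) * (y : G) ^ (2 ^ (m + 1))) * g₁⁻¹) *
        (g₁ * v * g₁⁻¹)⁻¹ ∈ h.omegaG := by
      have e : (g₁ * v * g₁⁻¹) * (g₁ * ((x : G) ^ (2 ^ (m + 1)) * (y : G) ^ (2 ^ (m + 1))) * g₁⁻¹) *
          (g₁ * v * g₁⁻¹)⁻¹ =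
          g₁ * (v * ((x : G) ^ (2 ^ (m + 1)) * (y : G) ^ (2 ^ (m + 1))) * v⁻¹) * g₁⁻¹ := by group
      rw [e, h.c0_central_val v hvS, mul_inv_cancel_right]
      exact heΩ
    intro a ha
    rcases hlist a ha with e | e | e | e
    · rw [e]; simp [one_mem]
    · rw [e]; exact h1
    · rw [e]; exact h2
    · rw [e]
      have e' : ∀ t a b : G, t * (a * b) * t⁻¹ = (t * a * t⁻¹) * (t * b * t⁻¹) := by
        intro t a b; group
      rw [e']
      exact mul_mem h1 h2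
  have hV₁p : IsPGroup 2 ↥(h.VG.map (MulAut.conj g₁).toMonoidHom) :=
    (S.2.to_le h.VG_le).map _
  obtain ⟨n₁, hn₁N, hn₁⟩ := Cfsg.Agent.Lib.Helper12.exists_conj_mem_sylow S _ _
    h.sylow_le_normalizer_omegaG hV₁N hV₁p
  refine ⟨n₁ * g₁, ?_, ?_⟩
  · intro v hv
    have := hn₁ _ ⟨v, hv, rfl⟩
    simp only [MulEquiv.coe_toMonoidHom, MulAut.conj_apply] at this
    have e : n₁ * g₁ * v * (n₁ * g₁)⁻¹ = n₁ * (g₁ * v * g₁⁻¹) * n₁⁻¹ := by group
    rwa [e]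
  · have e : n₁ * g₁ * (z : G) * (n₁ * g₁)⁻¹ = n₁ * (g₁ * (z : G) * g₁⁻¹) * n₁⁻¹ := by group
    rw [e, hg₁z]
    exact ((mem_normalizer_iff.mp hn₁N _).mp hc0Ω).1

end sylow

namespace IsWr

variable {S : Type*} [Group S] {m : ℕ} {x y z : S}

theorem conj_xpow_z (h : IsWr S m x y z) (k : ℤ) :
    x ^ k * z * (x ^ k)⁻¹ = (x * y⁻¹) ^ k * z := by
  rw [h.c_zpow]
  calc x ^ k * z * (x ^ k)⁻¹ = x ^ k * (z * x ^ (-k)) := by group
    _ = x ^ k * (y ^ (-k) * z) := by rw [h.z_mul_x]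
    _ = _ := by group

/-- `x^(2^m) z x^(-2^m) = u (xy)^(-2^m) z` -/
theorem conj_s0_z (h : IsWr S m x y z) :
    x ^ (2 ^ m) * z * (x ^ (2 ^ m))⁻¹ = x ^ (2 ^ (m + 1)) * ((x * y) ^ (2 ^ m))⁻¹ * z := by
  have := h.conj_xpow_z ((2 ^ m : ℕ) : ℤ)
  rw [zpow_natCast] at this
  rw [this, h.c_zpow, zpow_natCast, zpow_neg, zpow_natCast,
    (show Commute x y from h.comm).mul_pow, mul_inv_rev]
  have e : x ^ (2 ^ (m + 1)) = x ^ (2 ^ m) * x ^ (2 ^ m) := by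
    rw [← pow_add]; congr 1; ring
  rw [e]
  have c1 : Commute (x ^ (2 ^ m)) ((y ^ (2 ^ m))⁻¹) :=
    ((show Commute x y from h.comm).pow_pow _ _).inv_right
  calc x ^ (2 ^ m) * (y ^ (2 ^ m))⁻¹ * z
      = x ^ (2 ^ m) * x ^ (2 ^ m) * ((x ^ (2 ^ m))⁻¹ * (y ^ (2 ^ m))⁻¹) * z := by group
    _ = _ := by rw [(c1.inv_left).eq]

end IsWr

section sylow2

variable {G : Type*} [Group G] [Finite G] {S : Sylow 2 G} {m : ℕ} {x y z : ↥(S : Subgroup G)}

/-- a conjugate of `V = Q Z(S)` inside `S` is conjugate to `V` under a power of `x` -/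
theorem IsWr.exists_normalizer_of_conj_le (h : IsWr ↥(S : Subgroup G) m x y z) (Q : Subgroup G)
    (eQ : Q ≃* QuaternionGroup 2)
    (hQV : Q ⊔ ((Subgroup.center (S : Subgroup G)).map (S : Subgroup G).subtype) = h.VG) (g : G)
    (hgV : ∀ v ∈ h.VG, g * v * g⁻¹ ∈ (S : Subgroup G)) :
    ∃ k : ℤ, ((x : G) ^ k)⁻¹ * g ∈ normalizer (h.VG : Set G) := by
  have hQle : Q ≤ h.VG := by rw [← hQV]; exact le_sup_left
  have hZG : (Subgroup.center (S : Subgroup G)).map (S : Subgroup G).subtype =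
      zpowers ((x : G) * (y : G)) := by
    rw [h.center_eq, MonoidHom.map_zpowers]; simp
  have hQ'S : Q.map (MulAut.conj g).toMonoidHom ≤ (S : Subgroup G) := by
    rintro _ ⟨q, hq, rfl⟩
    exact hgV q (hQle hq)
  obtain ⟨z'', h'', hV''⟩ := h.exists_of_quaternion ((Q.map (MulAut.conj g).toMonoidHom).subgroupOf S)
    ((Subgroup.subgroupOfEquivOfLe hQ'S).trans
      ((Q.equivMapOfInjective _ (MulAut.conj g).injective).symm.trans eQ))
  have hV''G : Q.map (MulAut.conj g).toMonoidHom ⊔ zpowers ((x : G) * (y : G)) = h''.VG := by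
    rw [← h''.map_V, ← hV'', Subgroup.map_sup, Subgroup.map_subgroupOf_eq_of_le hQ'S, hZG]
  -- the image of `xy` is central
  have hcS : g * ((x : G) * (y : G)) * g⁻¹ ∈ (S : Subgroup G) := hgV _ h.w_mem_VG
  have hle : h''.VG ≤ centralizer ({g * ((x : G) * (y : G)) * g⁻¹} : Set G) := by
    rw [← hV''G]
    apply sup_le
    · rintro _ ⟨q, hq, rfl⟩
      rw [mem_centralizer_singleton_iff]
      simp only [MulEquiv.coe_toMonoidHom, MulAut.conj_apply]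
      have hc := h.w_comm_val q (h.VG_le (hQle hq))
      calc g * q * g⁻¹ * (g * ((x : G) * (y : G)) * g⁻¹) = g * (q * ((x : G) * (y : G))) * g⁻¹ := by
            group
        _ = g * (((x : G) * (y : G)) * q) * g⁻¹ := by rw [hc]
        _ = _ := by group
    · rw [zpowers_le, mem_centralizer_singleton_iff]
      exact (h.w_comm_val _ hcS).symm
  have hcu : g * ((x : G) * (y : G)) * g⁻¹ * (x : G) ^ (2 ^ (m + 1)) =
      (x : G) ^ (2 ^ (m + 1)) * (g * ((x : G) * (y : G)) * g⁻¹) := by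
    have := hle h''.u_mem_VG
    rw [mem_centralizer_singleton_iff] at this
    exact this.symm
  have hcz : g * ((x : G) * (y : G)) * g⁻¹ * (z'' : G) = (z'' : G) * (g * ((x : G) * (y : G)) * g⁻¹) := by
    have := hle h''.z_mem_VG
    rw [mem_centralizer_singleton_iff] at this
    exact this.symm
  have hcb : g * ((x : G) * (y : G)) * g⁻¹ ∈ h.baseG := by
    by_contra hnot
    apply h.u_ne_u'_val
    rw [← h.conj_out_u_val _ hcS hnot, hcu, mul_inv_cancel_right]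
  have hcZ : g * ((x : G) * (y : G)) * g⁻¹ ∈ zpowers ((x : G) * (y : G)) := by
    have h1 : (⟨g * ((x : G) * (y : G)) * g⁻¹, hcS⟩ : ↥(S : Subgroup G)) ∈
        center ↥(S : Subgroup G) := by
      apply h''.central_of_comm_outside _ z'' ((h.mem_baseG_iff' _).mp hcb) h''.z_not_mem
      apply Subtype.ext
      simpa using hcz.symm
    rw [h.center_eq] at h1
    obtain ⟨i, hi⟩ := mem_zpowers_iff.mp h1
    rw [mem_zpowers_iff]
    refine ⟨i, ?_⟩
    have := congrArg Subtype.val hi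
    simpa using this
  have hzp : zpowers (g * ((x : G) * (y : G)) * g⁻¹) = zpowers ((x : G) * (y : G)) := by
    apply Subgroup.eq_of_le_of_card_ge (zpowers_le.mpr hcZ)
    rw [Nat.card_zpowers, Nat.card_zpowers]
    have := (MulAut.conj g).orderOf_eq ((x : G) * (y : G))
    rw [MulAut.conj_apply] at this
    rw [this]
  have hW : h.VG.map (MulAut.conj g).toMonoidHom = h''.VG := by
    rw [← hQV, Subgroup.map_sup, hZG, MonoidHom.map_zpowers]
    simp only [MulEquiv.coe_toMonoidHom, MulAut.conj_apply]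
    rw [hzp, hV''G]
  -- `z''` is a conjugate of `z` under a power of `x`
  have hz''not : z'' ∉ h.base := h''.z_not_mem
  obtain ⟨k, hk⟩ : ∃ k : ℤ, z'' = (x * y⁻¹) ^ k * z := by
    rcases h.involution_cases z'' h''.hz with e | e | e | e
    · exfalso; apply hz''not; rw [e]; exact h.base.pow_mem h.x_mem_base _
    · exfalso; apply hz''not; rw [e]; exact h.base.pow_mem h.y_mem_base _
    · exfalso; apply hz''not; rw [e]
      exact h.base.mul_mem (h.base.pow_mem h.x_mem_base _) (h.base.pow_mem h.y_mem_base _)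
    · exact e
  have hsz : (x : G) ^ k * (z : G) * ((x : G) ^ k)⁻¹ = (z'' : G) := by
    have := congrArg Subtype.val (h.conj_xpow_z k)
    rw [← hk] at this
    simpa using this
  have hs : h.VG.map (MulAut.conj ((x : G) ^ k)).toMonoidHom = h''.VG := by
    have hxkb : (x : G) ^ k ∈ h.baseG := (h.mem_baseG_iff _).mpr ⟨k, 0, by simp⟩
    have e1 : (x : G) ^ k * ((x : G) * (y : G)) * ((x : G) ^ k)⁻¹ = (x : G) * (y : G) := by
      rw [h.baseG_comm _ _ hxkb h.w_mem_baseG, mul_inv_cancel_right]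
    have e2 : (x : G) ^ k * (x : G) ^ (2 ^ (m + 1)) * ((x : G) ^ k)⁻¹ = (x : G) ^ (2 ^ (m + 1)) := by
      rw [h.baseG_comm _ _ hxkb h.u_mem_baseG, mul_inv_cancel_right]
    rw [IsWr.VG, IsWr.VG, Subgroup.map_sup, Subgroup.map_sup, MonoidHom.map_zpowers,
      MonoidHom.map_zpowers, MonoidHom.map_zpowers]
    simp only [MulEquiv.coe_toMonoidHom, MulAut.conj_apply]
    rw [e1, e2, hsz]
  refine ⟨k, ?_⟩
  apply Cfsg.Agent.Lib.Helper17.mem_normalizer_of_forall_conj_mem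
  intro v hv
  have h1 : g * v * g⁻¹ ∈ h.VG.map (MulAut.conj ((x : G) ^ k)).toMonoidHom := by
    rw [hs, ← hW]
    exact ⟨v, hv, rfl⟩
  obtain ⟨v', hv', e⟩ := h1
  simp only [MulEquiv.coe_toMonoidHom, MulAut.conj_apply] at e
  have : ((x : G) ^ k)⁻¹ * g * v * (((x : G) ^ k)⁻¹ * g)⁻¹ = v' := by
    calc ((x : G) ^ k)⁻¹ * g * v * (((x : G) ^ k)⁻¹ * g)⁻¹
        = ((x : G) ^ k)⁻¹ * (g * v * g⁻¹) * (x : G) ^ k := by group
      _ = ((x : G) ^ k)⁻¹ * ((x : G) ^ k * v' * ((x : G) ^ k)⁻¹) * (x : G) ^ k := by rw [e]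
      _ = v' := by group
  rw [this]; exact hv'

omit [Finite G] in
/-- elements of `N_G(V)` fix the central involution -/
theorem IsWr.normalizer_VG_fixes_c0 (h : IsWr ↥(S : Subgroup G) m x y z) (t : G)
    (ht : t ∈ normalizer (h.VG : Set G)) :
    t * ((x : G) ^ (2 ^ (m + 1)) * (y : G) ^ (2 ^ (m + 1))) * t⁻¹ =
      (x : G) ^ (2 ^ (m + 1)) * (y : G) ^ (2 ^ (m + 1)) := by
  have hnorm : ∀ g ∈ h.VG, t * g * t⁻¹ ∈ h.VG := fun g hg => (mem_normalizer_iff.mp ht g).mp hg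
  have hnorm' : ∀ g ∈ h.VG, t⁻¹ * g * t ∈ h.VG := by
    intro g hg
    rw [mem_normalizer_iff.mp ht (t⁻¹ * g * t)]
    have e : t * (t⁻¹ * g * t) * t⁻¹ = g := by group
    rwa [e]
  have hmem : t * ((x : G) * (y : G)) * t⁻¹ ∈ zpowers ((x : G) * (y : G)) := by
    apply h.center_VG _ (hnorm _ h.w_mem_VG)
    intro v hv
    have hv0 := hnorm' v hv
    have hc := h.w_comm_val _ (h.VG_le hv0)
    calc t * ((x : G) * (y : G)) * t⁻¹ * v
        = t * (((x : G) * (y : G)) * (t⁻¹ * v * t)) * t⁻¹ := by group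
      _ = t * ((t⁻¹ * v * t) * ((x : G) * (y : G))) * t⁻¹ := by rw [hc]
      _ = _ := by group
  obtain ⟨i, hi⟩ := mem_zpowers_iff.mp hmem
  have e1 : t * ((x : G) ^ (2 ^ (m + 1)) * (y : G) ^ (2 ^ (m + 1))) * t⁻¹ =
      ((x : G) ^ (2 ^ (m + 1)) * (y : G) ^ (2 ^ (m + 1))) ^ i := by
    rw [h.c0_eq_val, ← conj_pow, ← hi, ← zpow_natCast, ← zpow_natCast, ← zpow_mul, ← zpow_mul,
      mul_comm]
  rcases Int.even_or_odd' i with ⟨j, rfl | rfl⟩
  · exfalso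
    apply h.c0_ne_one_val
    have e2 : ((x : G) ^ (2 ^ (m + 1)) * (y : G) ^ (2 ^ (m + 1))) ^ (2 * j) = 1 := by
      rw [zpow_mul, zpow_two, h.c0_sq_val, one_zpow]
    rw [e2] at e1
    have : t⁻¹ * (t * ((x : G) ^ (2 ^ (m + 1)) * (y : G) ^ (2 ^ (m + 1))) * t⁻¹) * t = 1 := by
      rw [e1]; group
    rw [← this]; group
  · rw [e1, zpow_add, zpow_mul, zpow_two, h.c0_sq_val, one_zpow, one_mul, zpow_one]

/-- if squares of elements of `N_G(V)` lie in `V C_G(V)`, no element of `N_G(V)` maps `z` into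
`U` -/
theorem IsWr.false_of_normalizer_conj (h : IsWr ↥(S : Subgroup G) m x y z)
    (hsq : ∀ t ∈ normalizer (h.VG : Set G), t * t ∈ h.VG ⊔ centralizer (h.VG : Set G))
    (n' : G) (hn' : n' ∈ normalizer (h.VG : Set G)) (hz : n' * (z : G) * n'⁻¹ ∈ h.baseG) :
    False := by
  have : Fact (Nat.Prime 2) := ⟨Nat.prime_two⟩
  -- conjugation by squares is inner
  have hinner : ∀ t ∈ normalizer (h.VG : Set G), ∀ a ∈ h.VG, ∃ v ∈ h.VG,
      (t * t) * a * (t * t)⁻¹ = v * a * v⁻¹ := by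
    intro t ht a ha
    obtain ⟨v, hv, c, hc, e⟩ := exists_of_mem_sup_centralizer _ _ (hsq t ht)
    refine ⟨v, hv, ?_⟩
    rw [mem_centralizer_iff] at hc
    have := hc a ha
    rw [e]
    calc v * c * a * (v * c)⁻¹ = v * (c * a) * c⁻¹ * v⁻¹ := by group
      _ = v * (a * c) * c⁻¹ * v⁻¹ := by rw [this]
      _ = _ := by group
  have hsqz : ∀ t ∈ normalizer (h.VG : Set G), (t * t) * (z : G) * (t * t)⁻¹ = (z : G) ∨
      (t * t) * (z : G) * (t * t)⁻¹ =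
        (x : G) ^ (2 ^ (m + 1)) * (y : G) ^ (2 ^ (m + 1)) * (z : G) := by
    intro t ht
    obtain ⟨v, hv, e⟩ := hinner t ht _ h.z_mem_VG
    rw [e]
    exact h.conj_VG_z v hv
  -- the image of `z` under `n'` is `u` or `u'`
  have hz1sq : (n' * (z : G) * n'⁻¹) * (n' * (z : G) * n'⁻¹) = 1 := by
    calc (n' * (z : G) * n'⁻¹) * (n' * (z : G) * n'⁻¹) = n' * ((z : G) * (z : G)) * n'⁻¹ := by group
      _ = 1 := by rw [h.z_sq_val]; group
  have hz1 : n' * (z : G) * n'⁻¹ = (x : G) ^ (2 ^ (m + 1)) ∨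
      n' * (z : G) * n'⁻¹ = (y : G) ^ (2 ^ (m + 1)) := by
    rcases h.baseG_invol _ hz hz1sq with e | e | e | e
    · exfalso
      apply h.z_not_mem_baseG
      have : (z : G) = n'⁻¹ * (n' * (z : G) * n'⁻¹) * n' := by group
      rw [this, e]; simp [one_mem]
    · exfalso
      apply h.z_ne_c0_val
      have e2 := e.trans (h.normalizer_VG_fixes_c0 n' hn').symm
      have := congrArg (fun t => n'⁻¹ * t * n') e2
      beta_reduce at this
      have e3 : n'⁻¹ * (n' * (z : G) * n'⁻¹) * n' = (z : G) := by group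
      have e4 : n'⁻¹ * (n' * ((x : G) ^ (2 ^ (m + 1)) * (y : G) ^ (2 ^ (m + 1))) * n'⁻¹) * n' =
          (x : G) ^ (2 ^ (m + 1)) * (y : G) ^ (2 ^ (m + 1)) := by group
      rw [e3, e4] at this
      exact this
    · left; exact e
    · right; exact e
  -- the element `s₀ = x^(2^m)`
  have hs₀b : (x : G) ^ (2 ^ m) ∈ h.baseG :=
    (h.mem_baseG_iff _).mpr ⟨((2 ^ m : ℕ) : ℤ), 0, by rw [zpow_natCast, zpow_zero, mul_one]⟩
  have hs₀z : (x : G) ^ (2 ^ m) * (z : G) * ((x : G) ^ (2 ^ m))⁻¹ =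
      (x : G) ^ (2 ^ (m + 1)) * (((x : G) * (y : G)) ^ (2 ^ m))⁻¹ * (z : G) := by
    have := congrArg Subtype.val h.conj_s0_z
    simpa using this
  have hs₀N : (x : G) ^ (2 ^ m) ∈ normalizer (h.VG : Set G) := by
    apply Cfsg.Agent.Lib.Helper17.mem_normalizer_of_map_conj_le
    have e1 : (x : G) ^ (2 ^ m) * ((x : G) * (y : G)) * ((x : G) ^ (2 ^ m))⁻¹ = (x : G) * (y : G) := by
      rw [h.baseG_comm _ _ hs₀b h.w_mem_baseG, mul_inv_cancel_right]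
    have e2 : (x : G) ^ (2 ^ m) * (x : G) ^ (2 ^ (m + 1)) * ((x : G) ^ (2 ^ m))⁻¹ =
        (x : G) ^ (2 ^ (m + 1)) := by
      rw [h.baseG_comm _ _ hs₀b h.u_mem_baseG, mul_inv_cancel_right]
    conv_lhs => rw [IsWr.VG, Subgroup.map_sup, Subgroup.map_sup, MonoidHom.map_zpowers,
      MonoidHom.map_zpowers, MonoidHom.map_zpowers]
    simp only [MulEquiv.coe_toMonoidHom, MulAut.conj_apply]
    rw [e1, e2, hs₀z]
    apply sup_le
    · apply sup_le
      · rw [zpowers_le]; exact h.w_mem_VG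
      · rw [zpowers_le]; exact h.u_mem_VG
    · rw [zpowers_le]
      exact mul_mem (mul_mem h.u_mem_VG (inv_mem (pow_mem h.w_mem_VG _))) h.z_mem_VG
  have htN : (x : G) ^ (2 ^ m) * n' ∈ normalizer (h.VG : Set G) := mul_mem hs₀N hn'
  -- conjugation by `s₀` on `U` is trivial
  have hs₀U : ∀ a ∈ h.baseG, (x : G) ^ (2 ^ m) * a * ((x : G) ^ (2 ^ m))⁻¹ = a := by
    intro a ha
    rw [h.baseG_comm _ _ hs₀b ha, mul_inv_cancel_right]
  -- `n'` maps `n' z n'⁻¹` to `z` or `c₀ z`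
  have hn'2 : n' * (n' * (z : G) * n'⁻¹) * n'⁻¹ = (z : G) ∨ n' * (n' * (z : G) * n'⁻¹) * n'⁻¹ =
      (x : G) ^ (2 ^ (m + 1)) * (y : G) ^ (2 ^ (m + 1)) * (z : G) := by
    have e : n' * (n' * (z : G) * n'⁻¹) * n'⁻¹ = (n' * n') * (z : G) * (n' * n')⁻¹ := by group
    rw [e]; exact hsqz n' hn'
  -- compute `t² z t⁻²` for `t = s₀ n'`
  have ht2 : ((x : G) ^ (2 ^ m) * n' * ((x : G) ^ (2 ^ m) * n')) * (z : G) *
      ((x : G) ^ (2 ^ m) * n' * ((x : G) ^ (2 ^ m) * n'))⁻¹ =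
      (x : G) ^ (2 ^ m) * (n' * (n' * (z : G) * n'⁻¹) * n'⁻¹) * ((x : G) ^ (2 ^ m))⁻¹ := by
    have e1 : ((x : G) ^ (2 ^ m) * n' * ((x : G) ^ (2 ^ m) * n')) * (z : G) *
        ((x : G) ^ (2 ^ m) * n' * ((x : G) ^ (2 ^ m) * n'))⁻¹ =
        (x : G) ^ (2 ^ m) * (n' * ((x : G) ^ (2 ^ m) * (n' * (z : G) * n'⁻¹) *
          ((x : G) ^ (2 ^ m))⁻¹) * n'⁻¹) * ((x : G) ^ (2 ^ m))⁻¹ := by group
    rw [e1, hs₀U _ hz]
  have hc0s : (x : G) ^ (2 ^ m) * ((x : G) ^ (2 ^ (m + 1)) * (y : G) ^ (2 ^ (m + 1)) * (z : G)) *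
      ((x : G) ^ (2 ^ m))⁻¹ = (x : G) ^ (2 ^ (m + 1)) * (y : G) ^ (2 ^ (m + 1)) *
        ((x : G) ^ (2 ^ m) * (z : G) * ((x : G) ^ (2 ^ m))⁻¹) := by
    have := hs₀U _ h.c0_mem_baseG
    calc (x : G) ^ (2 ^ m) * ((x : G) ^ (2 ^ (m + 1)) * (y : G) ^ (2 ^ (m + 1)) * (z : G)) *
        ((x : G) ^ (2 ^ m))⁻¹
        = ((x : G) ^ (2 ^ m) * ((x : G) ^ (2 ^ (m + 1)) * (y : G) ^ (2 ^ (m + 1))) *
          ((x : G) ^ (2 ^ m))⁻¹) * ((x : G) ^ (2 ^ m) * (z : G) * ((x : G) ^ (2 ^ m))⁻¹) := by group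
      _ = _ := by rw [this]
  -- in all cases `u (xy)^(-2^m)` lies in `⟨xy⟩`
  have hc0w : (x : G) ^ (2 ^ (m + 1)) * (y : G) ^ (2 ^ (m + 1)) ∈ zpowers ((x : G) * (y : G)) := by
    rw [h.c0_eq_val]; exact pow_mem (mem_zpowers _) _
  have hp : (x : G) ^ (2 ^ (m + 1)) * (((x : G) * (y : G)) ^ (2 ^ m))⁻¹ ∈
      zpowers ((x : G) * (y : G)) := by
    have hcases := hsqz _ htN
    rw [ht2] at hcases
    have hc0inv : ((x : G) ^ (2 ^ (m + 1)) * (y : G) ^ (2 ^ (m + 1)))⁻¹ =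
        (x : G) ^ (2 ^ (m + 1)) * (y : G) ^ (2 ^ (m + 1)) :=
      inv_eq_of_mul_eq_one_right h.c0_sq_val
    rcases hn'2 with e | e
    · rw [e, hs₀z] at hcases
      rcases hcases with e' | e'
      · have := mul_right_cancel (e'.trans (one_mul _).symm)
        rw [this]; exact one_mem _
      · have := mul_right_cancel e'
        rw [this]; exact hc0w
    · rw [e, hc0s, hs₀z] at hcases
      rcases hcases with e' | e'
      · rw [← mul_assoc, ← mul_assoc] at e'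
        have := mul_right_cancel (e'.trans (one_mul _).symm)
        have e2 : (x : G) ^ (2 ^ (m + 1)) * (((x : G) * (y : G)) ^ (2 ^ m))⁻¹ =
            ((x : G) ^ (2 ^ (m + 1)) * (y : G) ^ (2 ^ (m + 1)))⁻¹ := by
          rw [mul_assoc] at this
          exact eq_inv_of_mul_eq_one_right this
        rw [e2]; exact inv_mem hc0w
      · rw [← mul_assoc, ← mul_assoc] at e'
        have := mul_right_cancel e'
        rw [mul_assoc] at this
        have := mul_left_cancel (this.trans (mul_one _).symm)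
        rw [this]; exact one_mem _
  -- hence `u` is a power of `xy`, so central: contradiction
  have hu : (x : G) ^ (2 ^ (m + 1)) ∈ zpowers ((x : G) * (y : G)) := by
    have := mul_mem hp (pow_mem (mem_zpowers ((x : G) * (y : G))) (2 ^ m))
    rwa [inv_mul_cancel_right] at this
  obtain ⟨i, hi⟩ := mem_zpowers_iff.mp hu
  apply h.z_u_ne_val
  rw [← hi]
  have : Commute (z : G) ((x : G) * (y : G)) := h.w_comm_val _ z.2
  exact (this.zpow_right i).eq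

/-- **Non-fusion**: if squares of elements of `N_G(V)` lie in `V C_G(V)` (e.g. when the index is
2), then `z` is not conjugate to the central involution `u u'` -/
theorem IsWr.not_isConj_z_c0 (h : IsWr ↥(S : Subgroup G) m x y z) (Q : Subgroup G)
    (eQ : Q ≃* QuaternionGroup 2)
    (hQV : Q ⊔ ((Subgroup.center (S : Subgroup G)).map (S : Subgroup G).subtype) = h.VG)
    (hsq : ∀ t ∈ normalizer (h.VG : Set G), t * t ∈ h.VG ⊔ centralizer (h.VG : Set G)) :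
    ¬ IsConj (z : G) ((x : G) ^ (2 ^ (m + 1)) * (y : G) ^ (2 ^ (m + 1))) := by
  intro hc
  obtain ⟨g, hgV, hgz⟩ := h.exists_conj_VG_of_isConj hc
  obtain ⟨k, hk⟩ := h.exists_normalizer_of_conj_le Q eQ hQV g hgV
  apply h.false_of_normalizer_conj hsq _ hk
  have hxkb : (x : G) ^ k ∈ h.baseG := (h.mem_baseG_iff _).mpr ⟨k, 0, by simp⟩
  have e : ((x : G) ^ k)⁻¹ * g * (z : G) * (((x : G) ^ k)⁻¹ * g)⁻¹ =
      ((x : G) ^ k)⁻¹ * (g * (z : G) * g⁻¹) * (x : G) ^ k := by group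
  rw [e]
  exact mul_mem (mul_mem (inv_mem hxkb) hgz) hxkb

end sylow2

end Cfsg.Agent.Lib.Helper18
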