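import Mathlib
import Cfsg.Agent.Lib.Helper18.WrNonFusion

set_option autoImplicit false

/-!
# Wreathed Sylow 2-subgroups: `z` is not fused into `U` when `|N_G(V) : V C_G(V)| = 2`

Generalizes `IsWr.not_isConj_z_c0`: under the same hypothesis `z` is not conjugate to any element
of `U`.
-/

namespace Cfsg.Agent.Lib.Helper18

open Subgroup

section val

variable {G : Type*} [Group G] {P : Subgroup G} {m : ℕ} {x y z : ↥P}

/-- the elements of `Ω₁(U)` in terms of two distinct non-identity elements -/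
theorem IsWr.omegaG_list (h : IsWr ↥P m x y z) (a t₁ e : G) (ha : a ∈ h.omegaG)
    (ht₁ : t₁ ∈ h.omegaG) (he : e ∈ h.omegaG) (ht₁1 : t₁ ≠ 1) (he1 : e ≠ 1) (hne : t₁ ≠ e) :
    a = 1 ∨ a = t₁ ∨ a = e ∨ a = t₁ * e := by
  by_cases h1 : a = 1
  · left; exact h1
  by_cases h2 : a = t₁
  · right; left; exact h2
  by_cases h3 : a = e
  · right; right; left; exact h3
  right; right; right
  have lift : ∀ b : G, b ∈ h.omegaG → ∃ b₂ : ↥(zpowers (x ^ (2 ^ (m + 1)) * y ^ (2 ^ (m + 1))) ⊔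
      zpowers (x ^ (2 ^ (m + 1)))), ((b₂ : ↥P) : G) = b := by
    rintro b ⟨⟨b₁, hb₁, rfl⟩, hbb⟩
    have hb₁' : b₁ * b₁ = 1 := Subtype.ext (by simpa using hbb)
    exact ⟨⟨b₁, (h.mem_T_iff b₁).mpr ⟨hb₁, hb₁'⟩⟩, rfl⟩
  obtain ⟨a₂, rfl⟩ := lift a ha
  obtain ⟨t₂, rfl⟩ := lift t₁ ht₁
  obtain ⟨e₂, rfl⟩ := lift e he
  have := h.T_klein
  have key : a₂ = t₂ * e₂ := by
    apply IsKleinFour.eq_mul_of_ne_all
    · intro e'; apply ht₁1; rw [e']; rfl
    · intro e'; apply he1; rw [e']; rfl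
    · intro e'; apply hne; rw [e']
    · intro e'; apply h1; rw [e']; rfl
    · intro e'; apply h2; rw [e']
    · intro e'; apply h3; rw [e']
  rw [key]; rfl

end val

section sylow

variable {G : Type*} [Group G] [Finite G] {S : Sylow 2 G} {m : ℕ} {x y z : ↥(S : Subgroup G)}

/-- abstract form of the second step of the extremal argument: if `g₁` maps `z` and `u u'` into
`Ω₁(U)`, some element conjugates `V` into `S` and `z` into `U` -/
theorem IsWr.exists_conj_VG_of_omega (h : IsWr ↥(S : Subgroup G) m x y z) (g₁ : G)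
    (ht₁ : g₁ * (z : G) * g₁⁻¹ ∈ h.omegaG)
    (he : g₁ * ((x : G) ^ (2 ^ (m + 1)) * (y : G) ^ (2 ^ (m + 1))) * g₁⁻¹ ∈ h.omegaG) :
    ∃ g : G, (∀ v ∈ h.VG, g * v * g⁻¹ ∈ (S : Subgroup G)) ∧ g * (z : G) * g⁻¹ ∈ h.baseG := by
  have : Fact (Nat.Prime 2) := ⟨Nat.prime_two⟩
  have hinj : ∀ a b : G, g₁ * a * g₁⁻¹ = g₁ * b * g₁⁻¹ → a = b := by
    intro a b e
    have := congrArg (fun t => g₁⁻¹ * t * g₁) e
    simpa [mul_assoc] using this
  have ht₁1 : g₁ * (z : G) * g₁⁻¹ ≠ 1 := by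
    intro e
    apply h.z_not_mem_baseG
    have : (z : G) = 1 := hinj _ _ (by rw [e]; group)
    rw [this]; exact one_mem _
  have he1 : g₁ * ((x : G) ^ (2 ^ (m + 1)) * (y : G) ^ (2 ^ (m + 1))) * g₁⁻¹ ≠ 1 := by
    intro e
    apply h.c0_ne_one_val
    exact hinj _ _ (by rw [e]; group)
  have hne : g₁ * (z : G) * g₁⁻¹ ≠
      g₁ * ((x : G) ^ (2 ^ (m + 1)) * (y : G) ^ (2 ^ (m + 1))) * g₁⁻¹ := by
    intro e
    exact h.z_ne_c0_val (hinj _ _ e)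
  have hV₁N : h.VG.map (MulAut.conj g₁).toMonoidHom ≤ normalizer (h.omegaG : Set G) := by
    rintro _ ⟨v, hv, rfl⟩
    simp only [MulEquiv.coe_toMonoidHom, MulAut.conj_apply]
    apply Cfsg.Agent.Lib.Helper17.mem_normalizer_of_forall_conj_mem
    have hvS : v ∈ (S : Subgroup G) := h.VG_le hv
    have h1 : (g₁ * v * g₁⁻¹) * (g₁ * (z : G) * g₁⁻¹) * (g₁ * v * g₁⁻¹)⁻¹ ∈ h.omegaG := by
      have e : (g₁ * v * g₁⁻¹) * (g₁ * (z : G) * g₁⁻¹) * (g₁ * v * g₁⁻¹)⁻¹ =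
          g₁ * (v * (z : G) * v⁻¹) * g₁⁻¹ := by group
      rw [e]
      rcases h.conj_VG_z v hv with e' | e'
      · rw [e']; exact ht₁
      · rw [e']
        have e'' : g₁ * ((x : G) ^ (2 ^ (m + 1)) * (y : G) ^ (2 ^ (m + 1)) * (z : G)) * g₁⁻¹ =
            (g₁ * ((x : G) ^ (2 ^ (m + 1)) * (y : G) ^ (2 ^ (m + 1))) * g₁⁻¹) *
              (g₁ * (z : G) * g₁⁻¹) := by group
        rw [e'']
        exact mul_mem he ht₁
    have h2 : (g₁ * v * g₁⁻¹) * (g₁ * ((x : G) ^ (2 ^ (m + 1)) * (y : G) ^ (2 ^ (m + 1))) * g₁⁻¹) *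
        (g₁ * v * g₁⁻¹)⁻¹ ∈ h.omegaG := by
      have e : (g₁ * v * g₁⁻¹) * (g₁ * ((x : G) ^ (2 ^ (m + 1)) * (y : G) ^ (2 ^ (m + 1))) * g₁⁻¹) *
          (g₁ * v * g₁⁻¹)⁻¹ =
          g₁ * (v * ((x : G) ^ (2 ^ (m + 1)) * (y : G) ^ (2 ^ (m + 1))) * v⁻¹) * g₁⁻¹ := by group
      rw [e, h.c0_central_val v hvS, mul_inv_cancel_right]
      exact he
    intro a ha
    rcases h.omegaG_list a _ _ ha ht₁ he ht₁1 he1 hne with e | e | e | e
    · rw [e]; simp [one_mem]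
    · rw [e]; exact h1
    · rw [e]; exact h2
    · rw [e]
      have e' : ∀ t a b : G, t * (a * b) * t⁻¹ = (t * a * t⁻¹) * (t * b * t⁻¹) := by
        intro t a b; group
      rw [e']
      exact mul_mem h1 h2
  have hV₁p : IsPGroup 2 ↥(h.VG.map (MulAut.conj g₁).toMonoidHom) :=
    (S.2.to_le h.VG_le).map _
  obtain ⟨n₁, hn₁N, hn₁⟩ := Cfsg.Agent.Lib.Helper12.exists_conj_mem_sylow S _ _
    h.sylow_le_normalizer_omegaG hV₁N hV₁p
  refine ⟨n₁ * g₁, ?_, ?_⟩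
  · intro v hv
    have := hn₁ _ ⟨v, hv, rfl⟩
    simp only [MulEquiv.coe_toMonoidHom, MulAut.conj_apply] at this
    have e : n₁ * g₁ * v * (n₁ * g₁)⁻¹ = n₁ * (g₁ * v * g₁⁻¹) * n₁⁻¹ := by group
    rwa [e]
  · have e : n₁ * g₁ * (z : G) * (n₁ * g₁)⁻¹ = n₁ * (g₁ * (z : G) * g₁⁻¹) * n₁⁻¹ := by group
    rw [e]
    exact ((mem_normalizer_iff.mp hn₁N _).mp ht₁).1

omit [Finite G] in
/-- `U` is weakly closed in `S` -/
theorem IsWr.map_conj_baseG_eq (h : IsWr ↥(S : Subgroup G) m x y z) (a : G)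
    (hUT : h.baseG.map (MulAut.conj a).toMonoidHom ≤ (S : Subgroup G)) :
    h.baseG.map (MulAut.conj a).toMonoidHom = h.baseG := by
  apply h.eq_baseG
  · exact hUT
  · refine ⟨⟨?_⟩⟩
    rintro ⟨_, ⟨b₁, hb₁, rfl⟩⟩ ⟨_, ⟨b₂, hb₂, rfl⟩⟩
    apply Subtype.ext
    simp only [MulEquiv.coe_toMonoidHom, MulAut.conj_apply, Subgroup.coe_mul]
    calc a * b₁ * a⁻¹ * (a * b₂ * a⁻¹) = a * (b₁ * b₂) * a⁻¹ := by group
      _ = a * (b₂ * b₁) * a⁻¹ := by rw [h.baseG_comm _ _ hb₁ hb₂]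
      _ = _ := by group
  · rw [← Nat.card_congr (h.baseG.equivMapOfInjective _ (MulAut.conj a).injective).toEquiv]
    rw [IsWr.baseG, ← Nat.card_congr (h.base.equivMapOfInjective _
      (S : Subgroup G).subtype_injective).toEquiv, h.card_base]
    ring

/-- if `u ≁ u u'` then `U` is a Sylow 2-subgroup of `C_G(u)` -/
theorem IsWr.not_dvd_relIndex_centralizer_u (h : IsWr ↥(S : Subgroup G) m x y z)
    (hn : ¬ IsConj ((x : G) ^ (2 ^ (m + 1))) ((x : G) ^ (2 ^ (m + 1)) * (y : G) ^ (2 ^ (m + 1)))) :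
    ¬ 2 ∣ h.baseG.relIndex (centralizer ({(x : G) ^ (2 ^ (m + 1))} : Set G)) := by
  have : Fact (Nat.Prime 2) := ⟨Nat.prime_two⟩
  have hUH : h.baseG ≤ centralizer ({(x : G) ^ (2 ^ (m + 1))} : Set G) := by
    intro a ha
    rw [mem_centralizer_singleton_iff]
    exact h.baseG_comm _ _ ha h.u_mem_baseG
  have hp : IsPGroup 2 ↥(h.baseG.subgroupOf (centralizer ({(x : G) ^ (2 ^ (m + 1))} : Set G))) :=
    (h.isPGroup.to_le h.baseG_le).comap_subtype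
  obtain ⟨R, hR⟩ := hp.exists_le_sylow
  by_cases hEq : (R : Subgroup ↥(centralizer ({(x : G) ^ (2 ^ (m + 1))} : Set G))) =
      h.baseG.subgroupOf (centralizer ({(x : G) ^ (2 ^ (m + 1))} : Set G))
  · rw [relIndex, ← hEq]
    exact R.not_dvd_index
  exfalso
  apply hn
  obtain ⟨t, htR, htU⟩ : ∃ t, t ∈ (R : Subgroup ↥(centralizer ({(x : G) ^ (2 ^ (m + 1))} : Set G))) ∧
      t ∉ h.baseG.subgroupOf (centralizer ({(x : G) ^ (2 ^ (m + 1))} : Set G)) := by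
    by_contra hcon
    push Not at hcon
    exact hEq (le_antisymm hcon hR)
  -- conjugate the Sylow subgroup `R` of `C_G(u)` into `S`
  have hTp : IsPGroup 2 ↥((R : Subgroup ↥(centralizer ({(x : G) ^ (2 ^ (m + 1))} : Set G))).map
      (centralizer ({(x : G) ^ (2 ^ (m + 1))} : Set G)).subtype) := R.2.map _
  obtain ⟨a, -, ha⟩ := Cfsg.Agent.Lib.Helper12.exists_conj_mem_sylow S ⊤ _ le_top le_top hTp
  have hUT : ∀ b ∈ h.baseG, a * b * a⁻¹ ∈ (S : Subgroup G) := by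
    intro b hb
    exact ha b ⟨⟨b, hUH hb⟩, hR (by simpa [mem_subgroupOf] using hb), rfl⟩
  -- `a U a⁻¹ = U`
  have hUeq : h.baseG.map (MulAut.conj a).toMonoidHom = h.baseG := by
    apply h.map_conj_baseG_eq
    rintro _ ⟨b, hb, rfl⟩
    exact hUT b hb
  have htS : a * (t : G) * a⁻¹ ∈ (S : Subgroup G) := ha _ ⟨t, htR, rfl⟩
  have htnot : a * (t : G) * a⁻¹ ∉ h.baseG := by
    intro hmem
    rw [← hUeq] at hmem
    obtain ⟨b, hb, e⟩ := hmem
    simp only [MulEquiv.coe_toMonoidHom, MulAut.conj_apply] at e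
    have : b = (t : G) := by
      have := congrArg (fun s => a⁻¹ * s * a) e
      simpa [mul_assoc] using this
    apply htU
    rw [mem_subgroupOf, ← this]; exact hb
  have hauU : a * (x : G) ^ (2 ^ (m + 1)) * a⁻¹ ∈ h.baseG := by
    rw [← hUeq]; exact ⟨_, h.u_mem_baseG, rfl⟩
  have htu : (t : G) * (x : G) ^ (2 ^ (m + 1)) = (x : G) ^ (2 ^ (m + 1)) * (t : G) := by
    have := t.2
    rwa [mem_centralizer_singleton_iff] at this
  -- the conjugate of `u` is central in `S`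
  have hcen : (⟨a * (x : G) ^ (2 ^ (m + 1)) * a⁻¹, h.baseG_le hauU⟩ : ↥(S : Subgroup G)) ∈
      center ↥(S : Subgroup G) := by
    apply h.central_of_comm_outside _ ⟨a * (t : G) * a⁻¹, htS⟩ ((h.mem_baseG_iff' _).mp hauU)
      (fun h1 => htnot ((h.mem_baseG_iff' _).mpr h1))
    apply Subtype.ext
    simp only [Subgroup.coe_mul]
    calc a * (t : G) * a⁻¹ * (a * (x : G) ^ (2 ^ (m + 1)) * a⁻¹)
        = a * ((t : G) * (x : G) ^ (2 ^ (m + 1))) * a⁻¹ := by group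
      _ = a * ((x : G) ^ (2 ^ (m + 1)) * (t : G)) * a⁻¹ := by rw [htu]
      _ = _ := by group
  have ho : orderOf (⟨a * (x : G) ^ (2 ^ (m + 1)) * a⁻¹, h.baseG_le hauU⟩ : ↥(S : Subgroup G)) = 2 := by
    rw [← Subgroup.orderOf_coe]
    have := (MulAut.conj a).orderOf_eq ((x : G) ^ (2 ^ (m + 1)))
    rw [MulAut.conj_apply] at this
    rw [this, h.u_orderOf_val]
  have := congrArg Subtype.val (h.central_involution _ ho hcen)
  rw [isConj_iff]
  refine ⟨a, ?_⟩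
  simpa using this

/-- if `z ~ u` and `u ≁ u u'`, some element conjugates `V` into `S` and `z` into `U` -/
theorem IsWr.exists_conj_VG_of_isConj_u (h : IsWr ↥(S : Subgroup G) m x y z)
    (hn : ¬ IsConj ((x : G) ^ (2 ^ (m + 1))) ((x : G) ^ (2 ^ (m + 1)) * (y : G) ^ (2 ^ (m + 1))))
    (hc : IsConj (z : G) ((x : G) ^ (2 ^ (m + 1)))) :
    ∃ g : G, (∀ v ∈ h.VG, g * v * g⁻¹ ∈ (S : Subgroup G)) ∧ g * (z : G) * g⁻¹ ∈ h.baseG := by
  have : Fact (Nat.Prime 2) := ⟨Nat.prime_two⟩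
  obtain ⟨g₀, hg₀⟩ := isConj_iff.mp hc
  have hQ₁H : zpowers (g₀ * ((x : G) * (y : G)) * g₀⁻¹) ≤
      centralizer ({(x : G) ^ (2 ^ (m + 1))} : Set G) := by
    rw [zpowers_le, mem_centralizer_singleton_iff, ← hg₀]
    have hc' := h.w_comm_val _ z.2
    calc g₀ * ((x : G) * (y : G)) * g₀⁻¹ * (g₀ * (z : G) * g₀⁻¹)
        = g₀ * (((x : G) * (y : G)) * (z : G)) * g₀⁻¹ := by group
      _ = g₀ * ((z : G) * ((x : G) * (y : G))) * g₀⁻¹ := by rw [hc']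
      _ = _ := by group
  have hQ₁p : IsPGroup 2 ↥(zpowers (g₀ * ((x : G) * (y : G)) * g₀⁻¹)) := by
    apply IsPGroup.of_card (n := m + 2)
    rw [Nat.card_zpowers]
    have := (MulAut.conj g₀).orderOf_eq ((x : G) * (y : G))
    rw [MulAut.conj_apply] at this
    rw [this, h.orderOf_w_val]
  obtain ⟨c, hcH, hcQ⟩ := Cfsg.Agent.Lib.Helper12.exists_conj_mem_of_relIndex h.baseG _ _
    (h.isPGroup.to_le h.baseG_le) (h.not_dvd_relIndex_centralizer_u hn) hQ₁H hQ₁p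
  rw [mem_centralizer_singleton_iff] at hcH
  have hg₁z : (c * g₀) * (z : G) * (c * g₀)⁻¹ = (x : G) ^ (2 ^ (m + 1)) := by
    calc (c * g₀) * (z : G) * (c * g₀)⁻¹ = c * (g₀ * (z : G) * g₀⁻¹) * c⁻¹ := by group
      _ = c * (x : G) ^ (2 ^ (m + 1)) * c⁻¹ := by rw [hg₀]
      _ = _ := by rw [hcH]; group
  have hb₁U : (c * g₀) * ((x : G) * (y : G)) * (c * g₀)⁻¹ ∈ h.baseG := by
    have := hcQ _ (mem_zpowers _)
    have e : (c * g₀) * ((x : G) * (y : G)) * (c * g₀)⁻¹ =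
        c * (g₀ * ((x : G) * (y : G)) * g₀⁻¹) * c⁻¹ := by group
    rwa [e]
  apply h.exists_conj_VG_of_omega (c * g₀)
  · rw [hg₁z]; exact ⟨h.u_mem_baseG, h.u_sq_val⟩
  · have hpow : ((c * g₀) * ((x : G) * (y : G)) * (c * g₀)⁻¹) ^ (2 ^ (m + 1)) =
        (c * g₀) * ((x : G) ^ (2 ^ (m + 1)) * (y : G) ^ (2 ^ (m + 1))) * (c * g₀)⁻¹ := by
      rw [conj_pow, h.c0_eq_val]
    refine ⟨?_, ?_⟩
    · rw [← hpow]; exact pow_mem hb₁U _
    · calc (c * g₀) * ((x : G) ^ (2 ^ (m + 1)) * (y : G) ^ (2 ^ (m + 1))) * (c * g₀)⁻¹ *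
          ((c * g₀) * ((x : G) ^ (2 ^ (m + 1)) * (y : G) ^ (2 ^ (m + 1))) * (c * g₀)⁻¹)
          = (c * g₀) * (((x : G) ^ (2 ^ (m + 1)) * (y : G) ^ (2 ^ (m + 1))) *
            ((x : G) ^ (2 ^ (m + 1)) * (y : G) ^ (2 ^ (m + 1)))) * (c * g₀)⁻¹ := by group
        _ = 1 := by rw [h.c0_sq_val]; group

/-- **Non-fusion, general form**: if squares of elements of `N_G(V)` lie in `V C_G(V)`, then `z`
is not conjugate to any element of `U` -/
theorem IsWr.not_isConj_z_of_mem_baseG (h : IsWr ↥(S : Subgroup G) m x y z) (Q : Subgroup G)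
    (eQ : Q ≃* QuaternionGroup 2)
    (hQV : Q ⊔ ((Subgroup.center (S : Subgroup G)).map (S : Subgroup G).subtype) = h.VG)
    (hsq : ∀ t ∈ normalizer (h.VG : Set G), t * t ∈ h.VG ⊔ centralizer (h.VG : Set G))
    (t : G) (ht : t ∈ h.baseG) : ¬ IsConj (z : G) t := by
  intro hc
  have hnf0 := h.not_isConj_z_c0 Q eQ hQV hsq
  have key : ¬ IsConj (z : G) ((x : G) ^ (2 ^ (m + 1))) := by
    intro hcu
    by_cases hn : IsConj ((x : G) ^ (2 ^ (m + 1)))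
        ((x : G) ^ (2 ^ (m + 1)) * (y : G) ^ (2 ^ (m + 1)))
    · exact hnf0 (hcu.trans hn)
    · obtain ⟨g, hgV, hgz⟩ := h.exists_conj_VG_of_isConj_u hn hcu
      obtain ⟨k, hk⟩ := h.exists_normalizer_of_conj_le Q eQ hQV g hgV
      apply h.false_of_normalizer_conj hsq _ hk
      have hxkb : (x : G) ^ k ∈ h.baseG := (h.mem_baseG_iff _).mpr ⟨k, 0, by simp⟩
      have e : ((x : G) ^ k)⁻¹ * g * (z : G) * (((x : G) ^ k)⁻¹ * g)⁻¹ =
          ((x : G) ^ k)⁻¹ * (g * (z : G) * g⁻¹) * (x : G) ^ k := by group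
      rw [e]
      exact mul_mem (mul_mem (inv_mem hxkb) hgz) hxkb
  -- `t` is an involution of `U`
  obtain ⟨g, hg⟩ := isConj_iff.mp hc
  have htt : t * t = 1 := by
    rw [← hg]
    calc g * (z : G) * g⁻¹ * (g * (z : G) * g⁻¹) = g * ((z : G) * (z : G)) * g⁻¹ := by group
      _ = 1 := by rw [h.z_sq_val]; group
  rcases h.baseG_invol t ht htt with e | e | e | e
  · apply h.z_not_mem_baseG
    have : (z : G) = g⁻¹ * t * g := by rw [← hg]; group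
    rw [this, e]; simp [one_mem]
  · exact hnf0 (e ▸ hc)
  · exact key (e ▸ hc)
  · exact key ((e ▸ hc).trans h.isConj_u_u'_val.symm)

end sylow

end Cfsg.Agent.Lib.Helper18
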