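import Mathlib
import Cfsg.Agent.Lib.Helper18.WrNonFusion2

set_option autoImplicit false

/-!
# Wreathed Sylow 2-subgroups: the indices `|N_G(U) : C_G(U)|` and `|N_G(V) : V C_G(V)|` are 2 or 6
-/

namespace Cfsg.Agent.Lib.Helper18

open Subgroup

section abstract

variable {G : Type*} [Group G]

/-- if a prime `r` divides the relative index `|N : N ∩ C|`, some element of `N` of `r`-power order
lies outside `C` -/
theorem exists_prime_pow_elt_of_dvd_relIndex [Finite G] (C N : Subgroup G) (r : ℕ)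
    (hr : r.Prime) (h3 : r ∣ C.relIndex N) : ∃ d ∈ N, d ∉ C ∧ ∃ k : ℕ, orderOf d = r ^ k := by
  have : Fact (Nat.Prime r) := ⟨hr⟩
  by_contra hcon
  push Not at hcon
  obtain ⟨R⟩ : Nonempty (Sylow r ↥N) := inferInstance
  have hle : (R : Subgroup ↥N) ≤ C.subgroupOf N := by
    intro a ha
    rw [mem_subgroupOf]
    by_contra hrC
    obtain ⟨k, hk⟩ := R.2 ⟨a, ha⟩
    have hk' : a ^ (r ^ k) = 1 := by
      have := congrArg Subtype.val hk
      simpa using this
    obtain ⟨j, -, hj⟩ := (Nat.dvd_prime_pow hr).mp (orderOf_dvd_of_pow_eq_one hk')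
    exact hcon (a : G) a.2 hrC j (by rw [Subgroup.orderOf_coe, hj])
  have h1 : Nat.card (R : Subgroup ↥N) ∣ Nat.card (C.subgroupOf N) := Subgroup.card_dvd_of_le hle
  have h2 : Nat.card (C.subgroupOf N) * C.relIndex N = Nat.card ↥N := (C.subgroupOf N).card_mul_index
  rw [Sylow.card_eq_multiplicity] at h1
  have h4 : r ^ ((Nat.card ↥N).factorization r + 1) ∣ Nat.card ↥N := by
    have := Nat.mul_dvd_mul h1 h3
    rw [h2] at this
    rwa [pow_succ]
  exact Nat.pow_succ_factorization_not_dvd Nat.card_pos.ne' hr h4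

/-- the relative index is a power of 2 when elements of odd prime-power order of `N` lie in `C` -/
theorem relIndex_eq_two_pow [Finite G] (C N : Subgroup G)
    (hodd : ∀ d ∈ N, ∀ r k : ℕ, r.Prime → r ≠ 2 → orderOf d = r ^ k → d ∈ C) :
    ∃ a : ℕ, C.relIndex N = 2 ^ a := by
  refine ⟨_, Nat.eq_prime_pow_of_unique_prime_dvd ?_ ?_⟩
  · exact Subgroup.index_ne_zero_of_finite
  · intro r hr hdvd
    by_contra hr2
    obtain ⟨d, hdN, hdC, k, hk⟩ := exists_prime_pow_elt_of_dvd_relIndex C N r hr hdvd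
    exact hdC (hodd d hdN r k hr hr2 hk)

/-- index at most 3 from a function with at most three values separating the cosets -/
theorem relIndex_le_three {α : Type*} (N₁ N : Subgroup G) (f : G → α) (p q r : α)
    (hf : ∀ a ∈ N, f a = p ∨ f a = q ∨ f a = r)
    (hinj : ∀ a ∈ N, ∀ b ∈ N, f a = f b → a⁻¹ * b ∈ N₁) : N₁.relIndex N ≤ 3 := by
  classical
  let F : (↥N ⧸ N₁.subgroupOf N) → ({p, q, r} : Finset α) := fun c =>
    ⟨f ((Quotient.out c : ↥N) : G), by
      have := hf _ (Quotient.out c : ↥N).2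
      simp only [Finset.mem_insert, Finset.mem_singleton]
      exact this⟩
  have hFinj : Function.Injective F := by
    intro c c' e
    have e' : f ((Quotient.out c : ↥N) : G) = f ((Quotient.out c' : ↥N) : G) :=
      congrArg Subtype.val e
    have := hinj _ (Quotient.out c : ↥N).2 _ (Quotient.out c' : ↥N).2 e'
    rw [← QuotientGroup.out_eq' c, ← QuotientGroup.out_eq' c', QuotientGroup.eq]
    rw [mem_subgroupOf]
    simpa using this
  have h1 := Nat.card_le_card_of_injective F hFinj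
  rw [relIndex, index]
  refine h1.trans ?_
  rw [Nat.card_eq_fintype_card, Fintype.card_coe]
  exact Finset.card_le_three

/-- the arithmetic of the two indices -/
theorem relIndex_two_or_six [Finite G] (D N₁ N : Subgroup G) (hDN₁ : D ≤ N₁) (hN₁N : N₁ ≤ N)
    (h3 : N₁.relIndex N ≤ 3)
    (hodd : ∀ d ∈ N₁, ∀ r k : ℕ, r.Prime → r ≠ 2 → orderOf d = r ^ k → d ∈ D)
    (h2 : 2 ∣ D.relIndex N) (h4 : ¬ 4 ∣ D.relIndex N) :
    D.relIndex N = 2 ∨ D.relIndex N = 6 := by
  obtain ⟨a, ha⟩ := relIndex_eq_two_pow D N₁ hodd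
  have hmul := relIndex_mul_relIndex D N₁ N hDN₁ hN₁N
  have hc0 : N₁.relIndex N ≠ 0 := Subgroup.index_ne_zero_of_finite
  rw [ha] at hmul
  rw [← hmul] at h2 h4 ⊢
  have hc : N₁.relIndex N = 1 ∨ N₁.relIndex N = 2 ∨ N₁.relIndex N = 3 := by omega
  rcases hc with e | e | e <;> rw [e] at h2 h4 ⊢
  · rcases a with _ | _ | a
    · omega
    · left; norm_num
    · exfalso; apply h4; rw [pow_succ, pow_succ]; exact ⟨2 ^ a, by ring⟩
  · rcases a with _ | a
    · left; norm_num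
    · exfalso; apply h4; rw [pow_succ]; exact ⟨2 ^ a, by ring⟩
  · rcases a with _ | _ | a
    · omega
    · right; norm_num
    · exfalso; apply h4; rw [pow_succ, pow_succ]; exact ⟨2 ^ a * 3, by ring⟩

/-- the 2-part of the index `|N : N ∩ D|` is at most 2 -/
theorem not_four_dvd_relIndex [Finite G] (D N T : Subgroup G) (hTN : T ≤ N)
    (hTi : ¬ 2 ∣ T.relIndex N)
    (hmul : ∀ a ∈ T, ∀ b ∈ T, a ∉ D → b ∉ D → b * a ∈ D) : ¬ 4 ∣ D.relIndex N := by
  intro h4
  have e1 : Nat.card ((D ⊓ T : Subgroup G).subgroupOf N) ∣ Nat.card (D.subgroupOf N) := by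
    apply Subgroup.card_dvd_of_le
    intro a ha
    rw [mem_subgroupOf] at ha ⊢
    exact ha.1
  have e1' : Nat.card ((D ⊓ T : Subgroup G).subgroupOf N) = Nat.card (D ⊓ T : Subgroup G) :=
    Nat.card_congr (Subgroup.subgroupOfEquivOfLe (inf_le_right.trans hTN)).toEquiv
  have e2 : Nat.card (D.subgroupOf N) * D.relIndex N = Nat.card ↥N :=
    (D.subgroupOf N).card_mul_index
  have e3 : Nat.card (T.subgroupOf N) * T.relIndex N = Nat.card ↥N :=
    (T.subgroupOf N).card_mul_index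
  have e3' : Nat.card (T.subgroupOf N) = Nat.card T :=
    Nat.card_congr (Subgroup.subgroupOfEquivOfLe hTN).toEquiv
  have e4 : Nat.card (D.subgroupOf T) * D.relIndex T = Nat.card ↥T :=
    (D.subgroupOf T).card_mul_index
  have e4' : Nat.card (D.subgroupOf T) = Nat.card (D ⊓ T : Subgroup G) := by
    rw [← Subgroup.inf_subgroupOf_right]
    exact Nat.card_congr (Subgroup.subgroupOfEquivOfLe inf_le_right).toEquiv
  have hj := relIndex_eq_one_or_two D T hmul
  have hcpos : 0 < Nat.card (D ⊓ T : Subgroup G) := Nat.card_pos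
  obtain ⟨c', hc'⟩ := e1
  obtain ⟨i', hi'⟩ := h4
  rw [e1'] at hc'
  rw [e3', ← e4, e4'] at e3
  rw [hc', hi'] at e2
  have e5 : Nat.card (D ⊓ T : Subgroup G) * (c' * (4 * i')) =
      Nat.card (D ⊓ T : Subgroup G) * (D.relIndex T * T.relIndex N) := by
    rw [← mul_assoc, e2, ← mul_assoc, e3]
  have e6 := Nat.eq_of_mul_eq_mul_left hcpos e5
  apply hTi
  rcases hj with e | e <;> rw [e] at e6
  · exact ⟨c' * 2 * i', by rw [one_mul] at e6; rw [← e6]; ring⟩
  · exact ⟨c' * i', by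
      have : 2 * (c' * (2 * i')) = 2 * T.relIndex N := by rw [← e6]; ring
      have := Nat.eq_of_mul_eq_mul_left (by norm_num : 0 < 2) this
      rw [← this]; ring⟩

/-- an element of `N` outside `D` with square in `D` forces even index -/
theorem two_dvd_relIndex [Finite G] (D N : Subgroup G)
    (hnorm : ∀ n ∈ N, ∀ d ∈ D, n * d * n⁻¹ ∈ D) (s : G) (hsN : s ∈ N) (hsD : s ∉ D)
    (hss : s * s ∈ D) : 2 ∣ D.relIndex N := by
  have hn : (D.subgroupOf N).Normal := by
    constructor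
    intro d hd n
    rw [mem_subgroupOf] at hd ⊢
    simpa using hnorm n n.2 d hd
  have ho : orderOf ((⟨s, hsN⟩ : ↥N) : ↥N ⧸ D.subgroupOf N) = 2 := by
    apply orderOf_eq_prime
    · rw [← QuotientGroup.mk_pow, QuotientGroup.eq_one_iff, mem_subgroupOf, pow_two]
      simpa using hss
    · rw [Ne, QuotientGroup.eq_one_iff, mem_subgroupOf]
      simpa using hsD
  have := orderOf_dvd_natCard ((⟨s, hsN⟩ : ↥N) : ↥N ⧸ D.subgroupOf N)
  rw [ho] at this
  exact this

end abstract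

namespace IsWr

variable {S : Type*} [Group S] {m : ℕ} {x y z : S}

/-- `u ∉ ⟨xy⟩` -/
theorem u_not_mem_w (h : IsWr S m x y z) : x ^ (2 ^ (m + 1)) ∉ zpowers (x * y) := by
  intro hu
  obtain ⟨i, hi⟩ := mem_zpowers_iff.mp hu
  apply h.u_ne_u'
  rw [← h.conj_u, ← hi]
  have : Commute z (x * y) := h.xy_central z
  rw [(this.zpow_right i).eq, mul_inv_cancel_right]

theorem s0_mul_self (_h : IsWr S m x y z) : x ^ (2 ^ m) * x ^ (2 ^ m) = x ^ (2 ^ (m + 1)) := by
  rw [← pow_add]; congr 1; ring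

theorem orderOf_s0 (h : IsWr S m x y z) : orderOf (x ^ (2 ^ m)) = 4 := by
  rw [orderOf_pow_of_dvd (by positivity) (by rw [h.hx]; exact pow_dvd_pow 2 (by omega)), h.hx]
  rw [show m + 2 = 2 + m by ring, pow_add]
  exact Nat.mul_div_cancel _ (by positivity)

/-- elements conjugating `z` into `V` lie in `V ∪ s₀ V` -/
theorem mem_V_or_of_conj_z_mem (h : IsWr S m x y z) (a : S)
    (ha : a * z * a⁻¹ ∈ zpowers (x * y) ⊔ zpowers (x ^ (2 ^ (m + 1))) ⊔ zpowers z) :
    a ∈ zpowers (x * y) ⊔ zpowers (x ^ (2 ^ (m + 1))) ⊔ zpowers z ∨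
      (x ^ (2 ^ m))⁻¹ * a ∈ zpowers (x * y) ⊔ zpowers (x ^ (2 ^ (m + 1))) ⊔ zpowers z := by
  have hzV : z ∈ zpowers (x * y) ⊔ zpowers (x ^ (2 ^ (m + 1))) ⊔ zpowers z :=
    mem_sup_right (mem_zpowers _)
  have hwV : ∀ j : ℤ, (x * y) ^ j ∈ zpowers (x * y) ⊔ zpowers (x ^ (2 ^ (m + 1))) ⊔ zpowers z :=
    fun j => mem_sup_left (mem_sup_left (zpow_mem (mem_zpowers _) j))
  have huV : x ^ (2 ^ (m + 1)) ∈ zpowers (x * y) ⊔ zpowers (x ^ (2 ^ (m + 1))) ⊔ zpowers z :=
    mem_sup_left (mem_sup_right (mem_zpowers _))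
  have hwz : ∀ j : ℤ, (x * y) ^ j * z = z * (x * y) ^ j := by
    intro j
    have : Commute z (x * y) := h.xy_central z
    exact ((this.zpow_right j).eq).symm
  have hwxy : ∀ j : ℤ, (x * y) ^ j = x ^ j * y ^ j := fun j =>
    (show Commute x y from h.comm).mul_zpow j
  -- Step 1
  obtain ⟨k, v, hv, hvz, ea⟩ : ∃ (k : ℤ) (v : S),
      v ∈ zpowers (x * y) ⊔ zpowers (x ^ (2 ^ (m + 1))) ⊔ zpowers z ∧ v * z * v⁻¹ = z ∧
        a = x ^ k * v := by
    obtain ⟨i, j, rfl | rfl⟩ := h.cover a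
    · refine ⟨i - j, (x * y) ^ j, hwV j, ?_, ?_⟩
      · rw [hwz, mul_inv_cancel_right]
      · rw [hwxy, ← mul_assoc, ← zpow_add, sub_add_cancel]
    · refine ⟨i - j, (x * y) ^ j * z, mul_mem (hwV j) hzV, ?_, ?_⟩
      · rw [mul_inv_rev, hwz]
        group
      · rw [hwxy, ← mul_assoc, ← mul_assoc, ← zpow_add, sub_add_cancel]
  have hconj : a * z * a⁻¹ = (x * y⁻¹) ^ k * z := by
    rw [← h.conj_xpow_z, ea]
    calc x ^ k * v * z * (x ^ k * v)⁻¹ = x ^ k * (v * z * v⁻¹) * (x ^ k)⁻¹ := by group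
      _ = _ := by rw [hvz]
  -- Step 2
  have hcV : x ^ k * y ^ (-k) ∈ zpowers (x * y) ⊔ zpowers (x ^ (2 ^ (m + 1))) ⊔ zpowers z := by
    rw [hconj, h.c_zpow] at ha
    have := mul_mem ha (inv_mem hzV)
    rwa [mul_inv_cancel_right] at this
  have hnotz : ∀ b : S, b ∈ h.base → x ^ k * y ^ (-k) ≠ z * b := by
    intro b hb e
    apply h.z_not_mem
    have e2 : z = (x ^ k * y ^ (-k)) * b⁻¹ := by rw [e, mul_inv_cancel_right]
    have := mul_mem (h.xy_mem_base k (-k)) (inv_mem hb)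
    rwa [← e2] at this
  have hx2k : x ^ k * x ^ k = 1 ∨ x ^ k * x ^ k = x ^ (2 ^ (m + 1)) := by
    obtain ⟨l, e | e | e | e⟩ := (h.mem_V_iff _).mp hcV
    · left
      rw [hwxy] at e
      obtain ⟨e1, e2⟩ := h.eq_of_eq _ _ _ _ e
      have h1 : y ^ (k + l) = 1 := by
        rw [zpow_add, ← e2, ← zpow_add, add_neg_cancel, zpow_zero]
      have h2 : x ^ (k + l) = 1 := (h.pow_eq_one_iff _).mpr h1
      have h3 : x ^ (k - l) = 1 := by rw [zpow_sub, e1, mul_inv_cancel]
      calc x ^ k * x ^ k = x ^ (k - l) * x ^ (k + l) := by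
            rw [← zpow_add, ← zpow_add]; congr 1; ring
        _ = 1 := by rw [h2, h3, one_mul]
    · right
      rw [hwxy, ← mul_assoc] at e
      have e' : x ^ k * y ^ (-k) = x ^ (((2 ^ (m + 1) : ℕ) : ℤ) + l) * y ^ l := by
        rw [e, zpow_add, zpow_natCast]
      obtain ⟨e1, e2⟩ := h.eq_of_eq _ _ _ _ e'
      have h1 : y ^ (k + l) = 1 := by
        rw [zpow_add, ← e2, ← zpow_add, add_neg_cancel, zpow_zero]
      have h2 : x ^ (k + l) = 1 := (h.pow_eq_one_iff _).mpr h1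
      have h3 : x ^ (k - l) = x ^ (2 ^ (m + 1)) := by
        rw [zpow_sub, e1, zpow_add, zpow_natCast, mul_inv_cancel_right]
      calc x ^ k * x ^ k = x ^ (k - l) * x ^ (k + l) := by
            rw [← zpow_add, ← zpow_add]; congr 1; ring
        _ = _ := by rw [h2, h3, mul_one]
    · exact absurd e (hnotz _ (by rw [hwxy]; exact h.xy_mem_base _ _))
    · refine absurd e (hnotz _ ?_)
      rw [hwxy]
      exact mul_mem (by
        have := h.xy_mem_base ((2 ^ (m + 1) : ℕ) : ℤ) 0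
        rwa [zpow_natCast, zpow_zero, mul_one] at this) (h.xy_mem_base _ _)
  -- Step 3
  have hx4 : (x ^ k) ^ 4 = 1 := by
    have : (x ^ k) ^ 4 = (x ^ k * x ^ k) * (x ^ k * x ^ k) := by group
    rw [this]
    rcases hx2k with e | e <;> rw [e]
    · rw [one_mul]
    · exact h.u_mul_self
  have hmem : x ^ k ∈ zpowers (x ^ (2 ^ m)) := by
    apply mem_zpowers_of_orderOf_dvd x
    · rw [h.hx]; positivity
    · exact zpow_mem (mem_zpowers x) k
    · exact pow_mem (mem_zpowers x) _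
    · rw [h.orderOf_s0]; exact orderOf_dvd_of_pow_eq_one hx4
  obtain ⟨l, hl⟩ := mem_zpowers_iff.mp hmem
  -- Step 4
  have hcase : x ^ k ∈ zpowers (x * y) ⊔ zpowers (x ^ (2 ^ (m + 1))) ⊔ zpowers z ∨
      (x ^ (2 ^ m))⁻¹ * x ^ k ∈ zpowers (x * y) ⊔ zpowers (x ^ (2 ^ (m + 1))) ⊔ zpowers z := by
    rcases Int.even_or_odd l with ⟨l', rfl⟩ | ⟨l', rfl⟩
    · left
      have e : (x ^ (2 ^ m)) ^ (l' + l') = (x ^ (2 ^ (m + 1))) ^ l' := by
        rw [← h.s0_mul_self, zpow_add, (Commute.refl (x ^ (2 ^ m))).mul_zpow]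
      rw [← hl, e]
      exact zpow_mem huV l'
    · right
      have e : (x ^ (2 ^ m))⁻¹ * (x ^ (2 ^ m)) ^ (2 * l' + 1) = (x ^ (2 ^ (m + 1))) ^ l' := by
        rw [← h.s0_mul_self, (Commute.refl (x ^ (2 ^ m))).mul_zpow]
        group
      rw [← hl, e]
      exact zpow_mem huV l'
  -- Step 5
  rcases hcase with h1 | h1
  · left; rw [ea]; exact mul_mem h1 hv
  · right; rw [ea, ← mul_assoc]; exact mul_mem h1 hv


/-- `⟨xy⟩⟨u⟩` is normal in `S` -/
theorem normal_V0 (h : IsWr S m x y z) :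
    (zpowers (x * y) ⊔ zpowers (x ^ (2 ^ (m + 1)))).Normal := by
  constructor
  intro a ha g
  obtain ⟨i, j, rfl | rfl⟩ := h.cover g
  · have := h.base_comm _ _ (h.xy_mem_base i j) (h.V0_le_base ha)
    rw [this, mul_inv_cancel_right]; exact ha
  · have e : x ^ i * y ^ j * z * a * (x ^ i * y ^ j * z)⁻¹ =
        (x ^ i * y ^ j) * (z * a * z⁻¹) * (x ^ i * y ^ j)⁻¹ := by group
    rw [e]
    have h1 := h.conj_z_V0 a ha
    have := h.base_comm _ _ (h.xy_mem_base i j) (h.V0_le_base h1)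
    rw [this, mul_inv_cancel_right]; exact h1

end IsWr

section generic

variable {G : Type*} [Group G]

theorem conj_mem_centralizer_of_normalizes (H : Subgroup G) (n : G)
    (hn : n ∈ normalizer (H : Set G)) (d : G) (hd : d ∈ centralizer (H : Set G)) :
    n * d * n⁻¹ ∈ centralizer (H : Set G) := by
  rw [mem_centralizer_iff] at hd ⊢
  intro a ha
  have ha' : n⁻¹ * a * n ∈ H := by
    rw [mem_normalizer_iff.mp hn]
    have e : n * (n⁻¹ * a * n) * n⁻¹ = a := by group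
    rwa [e]
  have := hd _ ha'
  calc a * (n * d * n⁻¹) = n * ((n⁻¹ * a * n) * d) * n⁻¹ := by group
    _ = n * (d * (n⁻¹ * a * n)) * n⁻¹ := by rw [this]
    _ = _ := by group

theorem sup_zpowers_mul_eq (Z : Subgroup G) (t c : G) (hc : c ∈ Z) :
    Z ⊔ zpowers (t * c) = Z ⊔ zpowers t := by
  apply le_antisymm
  · exact sup_le le_sup_left
      (zpowers_le.mpr (mul_mem (mem_sup_right (mem_zpowers t)) (mem_sup_left hc)))
  · refine sup_le le_sup_left (zpowers_le.mpr ?_)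
    have h1 : (t * c) * c⁻¹ ∈ Z ⊔ zpowers (t * c) :=
      mul_mem (mem_sup_right (mem_zpowers _)) (mem_sup_left (inv_mem hc))
    rwa [mul_inv_cancel_right] at h1

end generic

section val

variable {G : Type*} [Group G] {P : Subgroup G} {m : ℕ} {x y z : ↥P}

/-- `V ∩ U = ⟨xy⟩⟨u⟩` inside `G` -/
def IsWr.W1G (_h : IsWr ↥P m x y z) : Subgroup G :=
  zpowers ((x : G) * (y : G)) ⊔ zpowers ((x : G) ^ (2 ^ (m + 1)))

theorem IsWr.map_V0 (h : IsWr ↥P m x y z) :
    (zpowers (x * y) ⊔ zpowers (x ^ (2 ^ (m + 1)))).map P.subtype = h.W1G := by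
  rw [Subgroup.map_sup, MonoidHom.map_zpowers, MonoidHom.map_zpowers]
  simp [IsWr.W1G]

theorem IsWr.W1G_le_VG (h : IsWr ↥P m x y z) : h.W1G ≤ h.VG := le_sup_left

theorem IsWr.W1G_le_baseG (h : IsWr ↥P m x y z) : h.W1G ≤ h.baseG :=
  sup_le (zpowers_le.mpr h.w_mem_baseG) (zpowers_le.mpr h.u_mem_baseG)

theorem IsWr.mem_VG_iff' (h : IsWr ↥P m x y z) (g : ↥P) :
    (g : G) ∈ h.VG ↔ g ∈ zpowers (x * y) ⊔ zpowers (x ^ (2 ^ (m + 1))) ⊔ zpowers z := by
  rw [← h.map_V]
  constructor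
  · rintro ⟨g', hg', e⟩
    have : g' = g := Subtype.ext e
    rwa [← this]
  · intro hg
    exact ⟨g, hg, rfl⟩

theorem IsWr.u_not_mem_w_val (h : IsWr ↥P m x y z) :
    (x : G) ^ (2 ^ (m + 1)) ∉ zpowers ((x : G) * (y : G)) := by
  intro hu
  obtain ⟨i, hi⟩ := mem_zpowers_iff.mp hu
  apply h.u_not_mem_w
  rw [mem_zpowers_iff]
  exact ⟨i, Subtype.ext (by simpa using hi)⟩

theorem IsWr.s0_sq_val (_h : IsWr ↥P m x y z) :
    (x : G) ^ (2 ^ m) * (x : G) ^ (2 ^ m) = (x : G) ^ (2 ^ (m + 1)) := by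
  rw [← pow_add]; congr 1; ring

theorem IsWr.s0_conj_z_val (h : IsWr ↥P m x y z) :
    (x : G) ^ (2 ^ m) * (z : G) * ((x : G) ^ (2 ^ m))⁻¹ =
      (x : G) ^ (2 ^ (m + 1)) * (((x : G) * (y : G)) ^ (2 ^ m))⁻¹ * (z : G) := by
  have := congrArg Subtype.val h.conj_s0_z
  simpa using this

theorem IsWr.s0_mem_normalizer_VG [Finite G] (h : IsWr ↥P m x y z) :
    (x : G) ^ (2 ^ m) ∈ normalizer (h.VG : Set G) := by
  have hs₀b : (x : G) ^ (2 ^ m) ∈ h.baseG :=
    (h.mem_baseG_iff _).mpr ⟨((2 ^ m : ℕ) : ℤ), 0, by rw [zpow_natCast, zpow_zero, mul_one]⟩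
  apply Cfsg.Agent.Lib.Helper17.mem_normalizer_of_map_conj_le
  have e1 : (x : G) ^ (2 ^ m) * ((x : G) * (y : G)) * ((x : G) ^ (2 ^ m))⁻¹ = (x : G) * (y : G) := by
    rw [h.baseG_comm _ _ hs₀b h.w_mem_baseG, mul_inv_cancel_right]
  have e2 : (x : G) ^ (2 ^ m) * (x : G) ^ (2 ^ (m + 1)) * ((x : G) ^ (2 ^ m))⁻¹ =
      (x : G) ^ (2 ^ (m + 1)) := by
    rw [h.baseG_comm _ _ hs₀b h.u_mem_baseG, mul_inv_cancel_right]
  conv_lhs => rw [IsWr.VG, Subgroup.map_sup, Subgroup.map_sup, MonoidHom.map_zpowers,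
    MonoidHom.map_zpowers, MonoidHom.map_zpowers]
  simp only [MulEquiv.coe_toMonoidHom, MulAut.conj_apply]
  rw [e1, e2, h.s0_conj_z_val]
  apply sup_le
  · apply sup_le
    · rw [zpowers_le]; exact h.w_mem_VG
    · rw [zpowers_le]; exact h.u_mem_VG
  · rw [zpowers_le]
    exact mul_mem (mul_mem h.u_mem_VG (inv_mem (pow_mem h.w_mem_VG _))) h.z_mem_VG

theorem IsWr.s0_not_mem_sup (h : IsWr ↥P m x y z) :
    (x : G) ^ (2 ^ m) ∉ h.VG ⊔ centralizer (h.VG : Set G) := by
  intro hs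
  obtain ⟨v, hv, c, hc, e⟩ := exists_of_mem_sup_centralizer _ _ hs
  rw [mem_centralizer_iff] at hc
  have h1 : (x : G) ^ (2 ^ m) * (z : G) * ((x : G) ^ (2 ^ m))⁻¹ = v * (z : G) * v⁻¹ := by
    rw [e]
    have := hc _ h.z_mem_VG
    calc v * c * (z : G) * (v * c)⁻¹ = v * (c * (z : G)) * c⁻¹ * v⁻¹ := by group
      _ = v * ((z : G) * c) * c⁻¹ * v⁻¹ := by rw [this]
      _ = _ := by group
  rw [h.s0_conj_z_val] at h1
  have hc0w : (x : G) ^ (2 ^ (m + 1)) * (y : G) ^ (2 ^ (m + 1)) ∈ zpowers ((x : G) * (y : G)) := by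
    rw [h.c0_eq_val]; exact pow_mem (mem_zpowers _) _
  have hp : (x : G) ^ (2 ^ (m + 1)) * (((x : G) * (y : G)) ^ (2 ^ m))⁻¹ ∈
      zpowers ((x : G) * (y : G)) := by
    rcases h.conj_VG_z v hv with e' | e'
    · rw [e'] at h1
      have := mul_right_cancel (h1.trans (one_mul _).symm)
      rw [this]; exact one_mem _
    · rw [e'] at h1
      have := mul_right_cancel h1
      rw [this]; exact hc0w
  apply h.u_not_mem_w_val
  have := mul_mem hp (pow_mem (mem_zpowers ((x : G) * (y : G))) (2 ^ m))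
  rwa [inv_mul_cancel_right] at this

end val

section sylow

variable {G : Type*} [Group G] [Finite G] {S : Sylow 2 G} {m : ℕ} {x y z : ↥(S : Subgroup G)}

theorem IsWr.sylow_le_normalizer_baseG (h : IsWr ↥(S : Subgroup G) m x y z) :
    (S : Subgroup G) ≤ normalizer (h.baseG : Set G) := by
  intro s hs
  apply Cfsg.Agent.Lib.Helper17.mem_normalizer_of_forall_conj_mem
  rintro _ ⟨a, ha, rfl⟩
  exact ⟨⟨s, hs⟩ * a * ⟨s, hs⟩⁻¹, h.normal_base.conj_mem a ha ⟨s, hs⟩, by simp⟩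

omit [Finite G] in
theorem IsWr.baseG_le_centralizer (h : IsWr ↥(S : Subgroup G) m x y z) :
    h.baseG ≤ centralizer (h.baseG : Set G) := by
  intro a ha
  rw [mem_centralizer_iff]
  intro b hb
  exact h.baseG_comm b a hb ha

omit [Finite G] in
/-- the product of two elements of `S` outside `U` lies in `U` -/
theorem IsWr.mul_mem_baseG_of_not_mem (h : IsWr ↥(S : Subgroup G) m x y z) (a b : G)
    (ha : a ∈ (S : Subgroup G)) (hb : b ∈ (S : Subgroup G)) (haU : a ∉ h.baseG)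
    (hbU : b ∉ h.baseG) : b * a ∈ h.baseG := by
  have h1 : (⟨b, hb⟩ : ↥(S : Subgroup G)) * ⟨a, ha⟩ ∈ h.base := by
    rw [mul_mem_iff_of_index_two h.index_base]
    constructor
    · intro h2; exact absurd ((h.mem_baseG_iff' ⟨b, hb⟩).mpr h2) hbU
    · intro h2; exact absurd ((h.mem_baseG_iff' ⟨a, ha⟩).mpr h2) haU
  exact (h.mem_baseG_iff' _).mpr h1

/-- **`|N_G(U) : C_G(U)|` is 2 or 6** -/
theorem IsWr.relIndex_baseG (h : IsWr ↥(S : Subgroup G) m x y z) :
    (centralizer (h.baseG : Set G)).relIndex (normalizer (h.baseG : Set G)) = 2 ∨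
      (centralizer (h.baseG : Set G)).relIndex (normalizer (h.baseG : Set G)) = 6 := by
  have : Fact (Nat.Prime 2) := ⟨Nat.prime_two⟩
  have hcu : (x : G) ^ (2 ^ (m + 1)) * (y : G) ^ (2 ^ (m + 1)) ≠ (x : G) ^ (2 ^ (m + 1)) := by
    intro e; exact h.u'_ne_one_val (mul_eq_left.mp e)
  have hcu' : (x : G) ^ (2 ^ (m + 1)) * (y : G) ^ (2 ^ (m + 1)) ≠ (y : G) ^ (2 ^ (m + 1)) := by
    intro e; exact h.u_ne_one_val (mul_eq_right.mp e)
  have hnormC : ∀ n ∈ normalizer (h.baseG : Set G), ∀ d ∈ centralizer (h.baseG : Set G),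
      n * d * n⁻¹ ∈ centralizer (h.baseG : Set G) := by
    intro n hn d hd
    rw [mem_centralizer_iff] at hd ⊢
    intro a ha
    have ha' : n⁻¹ * a * n ∈ h.baseG := by
      rw [mem_normalizer_iff.mp hn]
      have e : n * (n⁻¹ * a * n) * n⁻¹ = a := by group
      rwa [e]
    have := hd _ ha'
    calc a * (n * d * n⁻¹) = n * ((n⁻¹ * a * n) * d) * n⁻¹ := by group
      _ = n * (d * (n⁻¹ * a * n)) * n⁻¹ := by rw [this]
      _ = _ := by group
  have hzN : (z : G) ∈ normalizer (h.baseG : Set G) := h.sylow_le_normalizer_baseG z.2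
  have hzC : (z : G) ∉ centralizer (h.baseG : Set G) := by
    intro hz
    rw [mem_centralizer_iff] at hz
    exact h.z_u_ne_val (hz _ h.u_mem_baseG).symm
  apply relIndex_two_or_six (centralizer (h.baseG : Set G))
    (normalizer (h.baseG : Set G) ⊓ centralizer ({(x : G) ^ (2 ^ (m + 1))} : Set G))
    (normalizer (h.baseG : Set G))
  · apply le_inf (centralizer_le_normalizer _)
    apply centralizer_le
    intro a ha
    rw [Set.mem_singleton_iff] at ha
    rw [ha]; exact h.u_mem_baseG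
  · exact inf_le_left
  · apply relIndex_le_three _ _ (fun a => a * (x : G) ^ (2 ^ (m + 1)) * a⁻¹)
      ((x : G) ^ (2 ^ (m + 1)) * (y : G) ^ (2 ^ (m + 1))) ((x : G) ^ (2 ^ (m + 1)))
      ((y : G) ^ (2 ^ (m + 1)))
    · intro a ha
      have h1 : a * (x : G) ^ (2 ^ (m + 1)) * a⁻¹ ∈ h.baseG :=
        (mem_normalizer_iff.mp ha _).mp h.u_mem_baseG
      have h2 : (a * (x : G) ^ (2 ^ (m + 1)) * a⁻¹) * (a * (x : G) ^ (2 ^ (m + 1)) * a⁻¹) = 1 := by
        calc (a * (x : G) ^ (2 ^ (m + 1)) * a⁻¹) * (a * (x : G) ^ (2 ^ (m + 1)) * a⁻¹)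
            = a * ((x : G) ^ (2 ^ (m + 1)) * (x : G) ^ (2 ^ (m + 1))) * a⁻¹ := by group
          _ = 1 := by rw [h.u_sq_val]; group
      rcases h.baseG_invol _ h1 h2 with e | e | e | e
      · exfalso
        apply h.u_ne_one_val
        have : (x : G) ^ (2 ^ (m + 1)) = a⁻¹ * (a * (x : G) ^ (2 ^ (m + 1)) * a⁻¹) * a := by group
        rw [this, e]; group
      · left; exact e
      · right; left; exact e
      · right; right; exact e
    · intro a ha b hb e
      beta_reduce at e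
      refine mem_inf.mpr ⟨mul_mem (inv_mem ha) hb, ?_⟩
      rw [mem_centralizer_singleton_iff]
      have : a⁻¹ * b * (x : G) ^ (2 ^ (m + 1)) = a⁻¹ * (b * (x : G) ^ (2 ^ (m + 1)) * b⁻¹) * b := by
        group
      rw [this, ← e]; group
  · intro d hd r k hr hr2 hk
    obtain ⟨hdN, hdu⟩ := mem_inf.mp hd
    rw [mem_centralizer_singleton_iff] at hdu
    have hfix : d * (x : G) ^ (2 ^ (m + 1)) * d⁻¹ = (x : G) ^ (2 ^ (m + 1)) := by
      rw [hdu, mul_inv_cancel_right]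
    have hp : IsPGroup 2 ↥h.baseG := h.isPGroup.to_le h.baseG_le
    have hnorm : ∀ g ∈ h.baseG, d * g * d⁻¹ ∈ h.baseG := fun g hg =>
      (mem_normalizer_iff.mp hdN g).mp hg
    have hrodd : Odd (r ^ k) := Odd.pow (hr.odd_of_ne_two hr2)
    have key := centralizes_of_fixes_involution h.baseG
      (fun a ha b hb => h.baseG_comm a b ha hb) hp d hnorm (r ^ k)
      (by rw [← hk]; exact pow_orderOf_eq_one d) hrodd
      ((x : G) ^ (2 ^ (m + 1))) ((x : G) ^ (2 ^ (m + 1)) * (y : G) ^ (2 ^ (m + 1)))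
      ((y : G) ^ (2 ^ (m + 1))) h.u_ne_one_val h.c0_ne_one_val h.u'_ne_one_val hcu.symm
      h.u_ne_u'_val hcu' h.u_sq_val h.c0_sq_val h.u'_sq_val h.c0_mem_baseG h.u'_mem_baseG
      (by
        intro g hg hgg
        rcases h.baseG_invol g hg hgg with e2 | e2 | e2 | e2
        · left; exact e2
        · right; right; left; exact e2
        · right; left; exact e2
        · right; right; right; exact e2) hfix
    rw [mem_centralizer_iff]
    intro a ha
    have := key a ha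
    calc a * d = (d * a * d⁻¹) * d := by rw [this]
      _ = d * a := by group
  · exact two_dvd_relIndex _ _ hnormC (z : G) hzN hzC (by rw [h.z_sq_val]; exact one_mem _)
  · apply not_four_dvd_relIndex _ _ (S : Subgroup G) h.sylow_le_normalizer_baseG
    · intro h2
      have := relIndex_mul_index h.sylow_le_normalizer_baseG
      exact S.not_dvd_index (this ▸ Dvd.dvd.mul_right h2 _)
    · intro a ha b hb haC hbC
      apply h.baseG_le_centralizer
      exact h.mul_mem_baseG_of_not_mem a b ha hb (fun h1 => haC (h.baseG_le_centralizer h1))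
        (fun h1 => hbC (h.baseG_le_centralizer h1))

theorem IsWr.sylow_le_normalizer_W1G (h : IsWr ↥(S : Subgroup G) m x y z) :
    (S : Subgroup G) ≤ normalizer (h.W1G : Set G) := by
  intro s hs
  apply Cfsg.Agent.Lib.Helper17.mem_normalizer_of_forall_conj_mem
  intro a ha
  rw [← h.map_V0] at ha ⊢
  obtain ⟨a', ha', rfl⟩ := ha
  have := h.normal_V0.conj_mem a' ha' ⟨s, hs⟩
  exact ⟨_, this, by simp⟩

omit [Finite G] in
theorem IsWr.normalizer_VG_conj_w (h : IsWr ↥(S : Subgroup G) m x y z) (t : G)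
    (ht : t ∈ normalizer (h.VG : Set G)) :
    t * ((x : G) * (y : G)) * t⁻¹ ∈ zpowers ((x : G) * (y : G)) := by
  have hnorm : ∀ g ∈ h.VG, t * g * t⁻¹ ∈ h.VG := fun g hg => (mem_normalizer_iff.mp ht g).mp hg
  have hnorm' : ∀ g ∈ h.VG, t⁻¹ * g * t ∈ h.VG := by
    intro g hg
    rw [mem_normalizer_iff.mp ht (t⁻¹ * g * t)]
    have e : t * (t⁻¹ * g * t) * t⁻¹ = g := by group
    rwa [e]
  apply h.center_VG _ (hnorm _ h.w_mem_VG)
  intro v hv
  have hv0 := hnorm' v hv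
  have hc := h.w_comm_val _ (h.VG_le hv0)
  calc t * ((x : G) * (y : G)) * t⁻¹ * v
      = t * (((x : G) * (y : G)) * (t⁻¹ * v * t)) * t⁻¹ := by group
    _ = t * ((t⁻¹ * v * t) * ((x : G) * (y : G))) * t⁻¹ := by rw [hc]
    _ = _ := by group

theorem IsWr.zpowers_conj_w_eq (h : IsWr ↥(S : Subgroup G) m x y z) (t : G)
    (ht : t ∈ normalizer (h.VG : Set G)) :
    zpowers (t * ((x : G) * (y : G)) * t⁻¹) = zpowers ((x : G) * (y : G)) := by
  apply Subgroup.eq_of_le_of_card_ge (zpowers_le.mpr (h.normalizer_VG_conj_w t ht))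
  rw [Nat.card_zpowers, Nat.card_zpowers]
  have := (MulAut.conj t).orderOf_eq ((x : G) * (y : G))
  rw [MulAut.conj_apply] at this
  rw [this]

/-- the conjugates of `V ∩ U` under `N_G(V)` -/
theorem IsWr.map_conj_W1G_cases (h : IsWr ↥(S : Subgroup G) m x y z) (n : G)
    (hn : n ∈ normalizer (h.VG : Set G)) :
    h.W1G.map (MulAut.conj n).toMonoidHom = h.W1G ∨
      h.W1G.map (MulAut.conj n).toMonoidHom = zpowers ((x : G) * (y : G)) ⊔ zpowers (z : G) ∨
      h.W1G.map (MulAut.conj n).toMonoidHom =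
        zpowers ((x : G) * (y : G)) ⊔ zpowers ((z : G) * (x : G) ^ (2 ^ (m + 1))) := by
  have hnu : n * (x : G) ^ (2 ^ (m + 1)) * n⁻¹ ∈ h.VG := (mem_normalizer_iff.mp hn _).mp h.u_mem_VG
  rw [IsWr.W1G, map_conj_sup_zpowers, h.zpowers_conj_w_eq n hn]
  obtain ⟨i, e | e | e | e⟩ := h.mem_VG _ hnu
  · exfalso
    apply h.u_not_mem_w_val
    have h1 := h.normalizer_VG_conj_w n⁻¹ (inv_mem hn)
    have e2 : (x : G) ^ (2 ^ (m + 1)) = n⁻¹ * ((x : G) * (y : G)) ^ i * n⁻¹⁻¹ := by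
      rw [← e]; group
    rw [e2, ← conj_zpow]
    exact zpow_mem h1 i
  · left
    rw [e]
    exact sup_zpowers_mul_eq _ _ _ (zpow_mem (mem_zpowers _) i)
  · right; left
    rw [e]
    exact sup_zpowers_mul_eq _ _ _ (zpow_mem (mem_zpowers _) i)
  · right; right
    rw [e, ← mul_assoc]
    exact sup_zpowers_mul_eq _ _ _ (zpow_mem (mem_zpowers _) i)

/-- `N_S(V)` is a Sylow 2-subgroup of `N_G(V)` -/
theorem IsWr.not_two_dvd_relIndex_normalizer_VG (h : IsWr ↥(S : Subgroup G) m x y z)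
    (Q : Subgroup G) (eQ : Q ≃* QuaternionGroup 2)
    (hQV : Q ⊔ ((Subgroup.center (S : Subgroup G)).map (S : Subgroup G).subtype) = h.VG) :
    ¬ 2 ∣ ((S : Subgroup G) ⊓ normalizer (h.VG : Set G)).relIndex (normalizer (h.VG : Set G)) := by
  have : Fact (Nat.Prime 2) := ⟨Nat.prime_two⟩
  have hp : IsPGroup 2 ↥(((S : Subgroup G) ⊓ normalizer (h.VG : Set G)).subgroupOf
      (normalizer (h.VG : Set G))) := (S.2.to_le inf_le_left).comap_subtype
  obtain ⟨R, hR⟩ := hp.exists_le_sylow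
  have hEq : (R : Subgroup ↥(normalizer (h.VG : Set G))) =
      ((S : Subgroup G) ⊓ normalizer (h.VG : Set G)).subgroupOf (normalizer (h.VG : Set G)) := by
    symm
    apply Subgroup.eq_of_le_of_card_ge hR
    have hRp : IsPGroup 2 ↥((R : Subgroup ↥(normalizer (h.VG : Set G))).map
        (normalizer (h.VG : Set G)).subtype) := R.2.map _
    obtain ⟨g, -, hg⟩ := Cfsg.Agent.Lib.Helper12.exists_conj_mem_sylow S ⊤ _ le_top le_top hRp
    have hVR : ∀ v ∈ h.VG, v ∈ (R : Subgroup ↥(normalizer (h.VG : Set G))).map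
        (normalizer (h.VG : Set G)).subtype := by
      intro v hv
      exact ⟨⟨v, le_normalizer hv⟩, hR (by
        rw [mem_subgroupOf]; exact mem_inf.mpr ⟨h.VG_le hv, le_normalizer hv⟩), rfl⟩
    obtain ⟨k, hk⟩ := h.exists_normalizer_of_conj_le Q eQ hQV g (fun v hv => hg v (hVR v hv))
    have hle : ((R : Subgroup ↥(normalizer (h.VG : Set G))).map
        (normalizer (h.VG : Set G)).subtype).map
          (MulAut.conj (((x : G) ^ k)⁻¹ * g)).toMonoidHom ≤
        (S : Subgroup G) ⊓ normalizer (h.VG : Set G) := by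
      rintro _ ⟨a, ha, rfl⟩
      simp only [MulEquiv.coe_toMonoidHom, MulAut.conj_apply]
      refine mem_inf.mpr ⟨?_, ?_⟩
      · have e : ((x : G) ^ k)⁻¹ * g * a * (((x : G) ^ k)⁻¹ * g)⁻¹ =
            ((x : G) ^ k)⁻¹ * (g * a * g⁻¹) * (x : G) ^ k := by group
        rw [e]
        exact mul_mem (mul_mem (inv_mem (zpow_mem x.2 k)) (hg a ha)) (zpow_mem x.2 k)
      · obtain ⟨b, -, rfl⟩ := ha
        exact (normalizer (h.VG : Set G)).mul_mem (mul_mem hk b.2) (inv_mem hk)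
    calc Nat.card ↥(R : Subgroup ↥(normalizer (h.VG : Set G)))
        = Nat.card ↥((R : Subgroup ↥(normalizer (h.VG : Set G))).map
            (normalizer (h.VG : Set G)).subtype) :=
          Nat.card_congr ((R : Subgroup ↥(normalizer (h.VG : Set G))).equivMapOfInjective _
            (normalizer (h.VG : Set G)).subtype_injective).toEquiv
      _ = Nat.card ↥(((R : Subgroup ↥(normalizer (h.VG : Set G))).map
            (normalizer (h.VG : Set G)).subtype).map
              (MulAut.conj (((x : G) ^ k)⁻¹ * g)).toMonoidHom) :=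
          Nat.card_congr (((R : Subgroup ↥(normalizer (h.VG : Set G))).map
            (normalizer (h.VG : Set G)).subtype).equivMapOfInjective _
              (MulAut.conj (((x : G) ^ k)⁻¹ * g)).injective).toEquiv
      _ ≤ Nat.card ↥((S : Subgroup G) ⊓ normalizer (h.VG : Set G)) := Subgroup.card_le_of_le hle
      _ = Nat.card ↥(((S : Subgroup G) ⊓ normalizer (h.VG : Set G)).subgroupOf
            (normalizer (h.VG : Set G))) :=
          (Nat.card_congr (Subgroup.subgroupOfEquivOfLe inf_le_right).toEquiv).symm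
  rw [relIndex, ← hEq]
  exact R.not_dvd_index

/-- **`|N_G(V) : V C_G(V)|` is 2 or 6** -/
theorem IsWr.relIndex_VG (h : IsWr ↥(S : Subgroup G) m x y z)
    (Q : Subgroup G) (eQ : Q ≃* QuaternionGroup 2)
    (hQV : Q ⊔ ((Subgroup.center (S : Subgroup G)).map (S : Subgroup G).subtype) = h.VG) :
    (h.VG ⊔ centralizer (h.VG : Set G)).relIndex (normalizer (h.VG : Set G)) = 2 ∨
      (h.VG ⊔ centralizer (h.VG : Set G)).relIndex (normalizer (h.VG : Set G)) = 6 := by
  have : Fact (Nat.Prime 2) := ⟨Nat.prime_two⟩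
  have hnormD : ∀ n ∈ normalizer (h.VG : Set G), ∀ d ∈ h.VG ⊔ centralizer (h.VG : Set G),
      n * d * n⁻¹ ∈ h.VG ⊔ centralizer (h.VG : Set G) := by
    intro n hn d hd
    obtain ⟨v, hv, c, hc, rfl⟩ := exists_of_mem_sup_centralizer _ _ hd
    have e : n * (v * c) * n⁻¹ = (n * v * n⁻¹) * (n * c * n⁻¹) := by group
    rw [e]
    exact mul_mem (mem_sup_left ((mem_normalizer_iff.mp hn _).mp hv))
      (mem_sup_right (conj_mem_centralizer_of_normalizes _ n hn c hc))
  apply relIndex_two_or_six (h.VG ⊔ centralizer (h.VG : Set G))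
    (normalizer (h.VG : Set G) ⊓ normalizer (h.W1G : Set G)) (normalizer (h.VG : Set G))
  · apply sup_le
    · exact le_inf le_normalizer (h.VG_le.trans h.sylow_le_normalizer_W1G)
    · apply le_inf (centralizer_le_normalizer _)
      exact (centralizer_le (show (h.W1G : Set G) ⊆ h.VG from h.W1G_le_VG)).trans
        (centralizer_le_normalizer _)
  · exact inf_le_left
  · apply relIndex_le_three _ _ (fun a => h.W1G.map (MulAut.conj a).toMonoidHom) h.W1G
      (zpowers ((x : G) * (y : G)) ⊔ zpowers (z : G))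
      (zpowers ((x : G) * (y : G)) ⊔ zpowers ((z : G) * (x : G) ^ (2 ^ (m + 1))))
    · intro a ha
      exact h.map_conj_W1G_cases a ha
    · intro a ha b hb e
      exact mem_inf.mpr ⟨mul_mem (inv_mem ha) hb,
        mem_normalizer_of_map_conj_eq h.W1G _ b a rfl e⟩
  · intro d hd r k hr hr2 hk
    obtain ⟨hdN, hdW⟩ := mem_inf.mp hd
    apply mem_sup_right
    apply h.odd_centralizes_VG d (r ^ k) (Odd.pow (hr.odd_of_ne_two hr2))
      (by rw [← hk]; exact pow_orderOf_eq_one d) hdN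
    apply h.W1G_le_baseG
    exact (mem_normalizer_iff.mp hdW _).mp (mem_sup_right (mem_zpowers _))
  · apply two_dvd_relIndex _ _ hnormD ((x : G) ^ (2 ^ m)) h.s0_mem_normalizer_VG h.s0_not_mem_sup
    rw [h.s0_sq_val]; exact mem_sup_left h.u_mem_VG
  · apply not_four_dvd_relIndex _ _ ((S : Subgroup G) ⊓ normalizer (h.VG : Set G)) inf_le_right
      (h.not_two_dvd_relIndex_normalizer_VG Q eQ hQV)
    have key : ∀ c ∈ (S : Subgroup G) ⊓ normalizer (h.VG : Set G),
        c ∉ h.VG ⊔ centralizer (h.VG : Set G) → ((x : G) ^ (2 ^ m))⁻¹ * c ∈ h.VG := by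
      intro c hc hcD
      obtain ⟨hcS, hcN⟩ := mem_inf.mp hc
      have h1 : (⟨c, hcS⟩ : ↥(S : Subgroup G)) * z * (⟨c, hcS⟩ : ↥(S : Subgroup G))⁻¹ ∈
          zpowers (x * y) ⊔ zpowers (x ^ (2 ^ (m + 1))) ⊔ zpowers z := by
        rw [← h.mem_VG_iff']
        have := (mem_normalizer_iff.mp hcN _).mp h.z_mem_VG
        simpa using this
      rcases h.mem_V_or_of_conj_z_mem _ h1 with h2 | h2
      · exact absurd (mem_sup_left ((h.mem_VG_iff' _).mpr h2)) hcD
      · have := (h.mem_VG_iff' _).mpr h2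
        simpa using this
    intro a ha b hb haD hbD
    apply mem_sup_left
    have h1 := key a ha haD
    have h2 := key b hb hbD
    have e : b * a = ((x : G) ^ (2 ^ m) * (x : G) ^ (2 ^ m)) *
        (((x : G) ^ (2 ^ m))⁻¹ * (((x : G) ^ (2 ^ m))⁻¹ * b) * ((x : G) ^ (2 ^ m))⁻¹⁻¹) *
        (((x : G) ^ (2 ^ m))⁻¹ * a) := by group
    rw [e, h.s0_sq_val]
    refine mul_mem (mul_mem h.u_mem_VG ?_) h1
    exact (mem_normalizer_iff.mp (inv_mem h.s0_mem_normalizer_VG) _).mp h2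

end sylow

end Cfsg.Agent.Lib.Helper18
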