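import Mathlib
import Cfsg.Agent.Lib.Helper18.QDLocal
import Cfsg.Agent.Lib.Helper8.TransferMod

set_option autoImplicit false

/-!
# Transfer into a quotient of order 2 of a Sylow 2-subgroup

General lemmas: the sign homomorphism of a subgroup of index 2, a Thompson-type transfer criterion
for a normal subgroup of index 2, Sylow subgroups of a normal subgroup, and a criterion for a group
to have no subgroup of index 2.
-/

namespace Cfsg.Agent.Lib.Helper18

open Subgroup

/-- the homomorphism onto `{±1}` with kernel a given subgroup of index 2 -/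
noncomputable def indexTwoHom {S : Type*} [Group S] (M : Subgroup S) (hM : M.index = 2) :
    S →* ℤˣ where
  toFun a := by classical exact if a ∈ M then 1 else -1
  map_one' := by simp [one_mem]
  map_mul' a b := by
    classical
    have := mul_mem_iff_of_index_two hM (a := a) (b := b)
    by_cases ha : a ∈ M <;> by_cases hb : b ∈ M <;> simp [ha, hb, this]

theorem indexTwoHom_of_mem {S : Type*} [Group S] (M : Subgroup S) (hM : M.index = 2) (a : S)
    (ha : a ∈ M) : indexTwoHom M hM a = 1 := by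
  classical
  simp [indexTwoHom, ha]

theorem indexTwoHom_of_not_mem {S : Type*} [Group S] (M : Subgroup S) (hM : M.index = 2) (a : S)
    (ha : a ∉ M) : indexTwoHom M hM a = -1 := by
  classical
  simp [indexTwoHom, ha]

/-- **Transfer criterion** for a normal subgroup of index 2 avoiding `u`. -/
theorem exists_normal_index_two_of_transfer {G : Type*} [Group G] [Finite G] (S : Sylow 2 G)
    (M : Subgroup ↥(S : Subgroup G)) (hM : M.index = 2) (u : G) (huS : u ∈ (S : Subgroup G))
    (hodd : ∀ (j : ℕ) (g : G) (hg : g⁻¹ * u ^ j * g ∈ (S : Subgroup G)), Odd j →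
      (⟨_, hg⟩ : ↥(S : Subgroup G)) ∉ M)
    (heven : ∀ (j : ℕ) (g : G) (hg : g⁻¹ * u ^ j * g ∈ (S : Subgroup G)), Even j →
      (⟨_, hg⟩ : ↥(S : Subgroup G)) ∈ M) :
    ∃ K : Subgroup G, K.Normal ∧ K.index = 2 ∧ u ∉ K := by
  have : Fact (Nat.Prime 2) := ⟨Nat.prime_two⟩
  have huM : (⟨u, huS⟩ : ↥(S : Subgroup G)) ∉ M := by
    have := hodd 1 1 (by simpa using huS) (by decide)
    simpa using this
  have hϕu : indexTwoHom M hM ⟨u, huS⟩ = -1 := indexTwoHom_of_not_mem M hM _ huM
  have htr : MonoidHom.transfer (indexTwoHom M hM) u = -1 := by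
    rw [Cfsg.Agent.Lib.Helper8.transfer_eq_pow_mod (indexTwoHom M hM) u huS, hϕu]
    · have hoddidx : Odd (S : Subgroup G).index := by
        rw [← Nat.not_even_iff_odd, even_iff_two_dvd]
        exact S.not_dvd_index
      exact hoddidx.neg_one_pow
    · intro j g₀ hj
      rw [hϕu]
      rcases Nat.even_or_odd j with hj' | hj'
      · rw [indexTwoHom_of_mem M hM _ (heven j g₀ hj hj'), hj'.neg_one_pow]
      · rw [indexTwoHom_of_not_mem M hM _ (hodd j g₀ hj hj'), hj'.neg_one_pow]
  refine ⟨(MonoidHom.transfer (indexTwoHom M hM)).ker, MonoidHom.normal_ker _, ?_, ?_⟩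
  · rw [Subgroup.index_ker]
    have hrange : (MonoidHom.transfer (indexTwoHom M hM)).range = ⊤ := by
      rw [eq_top_iff]
      intro a _
      rcases Int.units_eq_one_or a with rfl | rfl
      · exact one_mem _
      · exact ⟨u, htr⟩
    rw [hrange]
    simp [Nat.card_eq_fintype_card]
  · intro hu
    rw [MonoidHom.mem_ker, htr] at hu
    exact absurd hu (by decide)

/-- the intersection of a normal subgroup of index 2 with the Sylow subgroup -/
theorem inf_sylow_eq_of_index_two {G : Type*} [Group G] (S K : Subgroup G)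
    (M : Subgroup ↥S) (hM : M.index = 2) (hMK : M.map S.subtype ≤ K) (u : G) (huS : u ∈ S)
    (huK : u ∉ K) : K ⊓ S = M.map S.subtype := by
  apply le_antisymm
  · intro a ha
    obtain ⟨haK, haS⟩ := mem_inf.mp ha
    by_contra hnot
    have haM : (⟨a, haS⟩ : ↥S) ∉ M := fun h1 => hnot ⟨_, h1, rfl⟩
    have huM : (⟨u, huS⟩ : ↥S) ∉ M := fun h1 => huK (hMK ⟨_, h1, rfl⟩)
    have h2 : (⟨a, haS⟩ : ↥S)⁻¹ * ⟨u, huS⟩ ∈ M := by
      rw [mul_mem_iff_of_index_two hM]
      constructor
      · intro h3; exact absurd (inv_mem_iff.mp h3) haM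
      · intro h3; exact absurd h3 huM
    have h3 : a⁻¹ * u ∈ K := hMK ⟨_, h2, rfl⟩
    apply huK
    have := K.mul_mem haK h3
    rwa [mul_inv_cancel_left] at this
  · exact le_inf hMK (Subgroup.map_subtype_le M)

/-- for `K` normal, `K ∩ S` is a Sylow subgroup of `K` -/
theorem exists_sylow_eq_inf_subgroupOf {G : Type*} [Group G] [Finite G] (S : Sylow 2 G)
    (K : Subgroup G) [hK : K.Normal] :
    ∃ P₂ : Sylow 2 ↥K, (P₂ : Subgroup ↥K) = (K ⊓ (S : Subgroup G)).subgroupOf K := by
  have : Fact (Nat.Prime 2) := ⟨Nat.prime_two⟩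
  have hp : IsPGroup 2 ↥((K ⊓ (S : Subgroup G)).subgroupOf K) :=
    (S.2.to_le inf_le_right).of_equiv (Subgroup.subgroupOfEquivOfLe inf_le_left).symm
  obtain ⟨P₂, hP₂⟩ := hp.exists_le_sylow
  refine ⟨P₂, ?_⟩
  symm
  apply Subgroup.eq_of_le_of_card_ge hP₂
  -- conjugate `P₂` into `S`
  have hp2 : IsPGroup 2 ↥((P₂ : Subgroup ↥K).map K.subtype) := P₂.2.map _
  obtain ⟨g, -, hg⟩ := Cfsg.Agent.Lib.Helper12.exists_conj_mem_sylow S ⊤
    ((P₂ : Subgroup ↥K).map K.subtype) le_top le_top hp2
  have hle : ((P₂ : Subgroup ↥K).map K.subtype).map (MulAut.conj g).toMonoidHom ≤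
      K ⊓ (S : Subgroup G) := by
    rintro _ ⟨a, ha, rfl⟩
    simp only [MulEquiv.coe_toMonoidHom, MulAut.conj_apply]
    refine mem_inf.mpr ⟨?_, hg a ha⟩
    obtain ⟨b, -, rfl⟩ := ha
    exact hK.conj_mem _ b.2 g
  calc Nat.card ↥(P₂ : Subgroup ↥K)
      = Nat.card ↥((P₂ : Subgroup ↥K).map K.subtype) :=
        Nat.card_congr ((P₂ : Subgroup ↥K).equivMapOfInjective _ K.subtype_injective).toEquiv
    _ = Nat.card ↥(((P₂ : Subgroup ↥K).map K.subtype).map (MulAut.conj g).toMonoidHom) :=
        Nat.card_congr (((P₂ : Subgroup ↥K).map K.subtype).equivMapOfInjective _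
          (MulAut.conj g).injective).toEquiv
    _ ≤ Nat.card ↥(K ⊓ (S : Subgroup G)) := Subgroup.card_le_of_le hle
    _ = Nat.card ↥((K ⊓ (S : Subgroup G)).subgroupOf K) :=
        (Nat.card_congr (Subgroup.subgroupOfEquivOfLe inf_le_left).toEquiv).symm

/-- a group whose Sylow 2-subgroup is generated by conjugates of `c`, two of which have a product
conjugate to `c`, has no subgroup of index 2 -/
theorem no_index_two_of_fused {K : Type*} [Group K] [Finite K] (P : Sylow 2 K) (c w₁ w₂ : K)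
    (h1 : IsConj c w₁) (h2 : IsConj c w₂) (h12 : IsConj c (w₁ * w₂))
    (hgen : ∀ H : Subgroup K, (∀ a ∈ (P : Subgroup K), IsConj c a → a ∈ H) →
      (P : Subgroup K) ≤ H) :
    ∀ H : Subgroup K, H.index ≠ 2 := by
  have : Fact (Nat.Prime 2) := ⟨Nat.prime_two⟩
  intro H hH
  have hn : H.Normal := normal_of_index_eq_two hH
  have hconj : ∀ a b : K, IsConj a b → a ∈ H → b ∈ H := by
    intro a b hab ha
    obtain ⟨g, hg⟩ := isConj_iff.mp hab
    rw [← hg]; exact hn.conj_mem _ ha g
  by_cases hc : c ∈ H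
  · have hle := hgen H (fun a _ hca => hconj c a hca hc)
    have hd : H.index ∣ (P : Subgroup K).index := index_dvd_of_le hle
    rw [hH] at hd
    exact P.not_dvd_index hd
  · have hw₁ : w₁ ∉ H := fun h => hc (hconj _ _ h1.symm h)
    have hw₂ : w₂ ∉ H := fun h => hc (hconj _ _ h2.symm h)
    have h3 : w₁ * w₂ ∈ H := by
      rw [mul_mem_iff_of_index_two hH]
      exact ⟨fun h => absurd h hw₁, fun h => absurd h hw₂⟩
    exact hc (hconj _ _ h12.symm h3)

end Cfsg.Agent.Lib.Helper18
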