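import Mathlib
import Cfsg.Agent.Lib.Helper18.WrNonFusion
import Cfsg.Agent.Lib.Helper18.QDTransfer

set_option autoImplicit false

/-!
# Wreathed Sylow 2-subgroups: the case `|N_G(U):C_G(U)| = 6`, `z` not fused to `U`

Then `G` has a normal subgroup `K` of index 2 with `K ∩ S = U`, `K` has no subgroup of index 2 and
`G` has exactly two classes of involutions.
-/

namespace Cfsg.Agent.Lib.Helper18

open Subgroup

/-- squares of elements of `N` lie in `C` when `|N : N ∩ C| = 2` -/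
theorem sq_mem_of_relIndex_two {G : Type*} [Group G] (C N : Subgroup G) (h : C.relIndex N = 2)
    (t : G) (ht : t ∈ N) : t * t ∈ C := by
  have h1 : (⟨t, ht⟩ : N) ^ 2 ∈ C.subgroupOf N := sq_mem_of_index_two h _
  simpa [mem_subgroupOf, pow_two] using h1

/-- elements of odd order lie in every subgroup of index two -/
theorem mem_of_odd_of_index_two {G : Type*} [Group G] (H : Subgroup G) (hH : H.index = 2) (g : G)
    (K : ℕ) (hK : Odd K) (hg : g ^ K = 1) : g ∈ H := by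
  obtain ⟨l, hl⟩ := hK
  have h1 : g = (g ^ 2) ^ (l + 1) := by
    rw [← pow_mul, show 2 * (l + 1) = K + 1 by omega, pow_succ, hg, one_mul]
  rw [h1]
  exact pow_mem (sq_mem_of_index_two hH g) _

section sylow

variable {G : Type*} [Group G] [Finite G] {S : Sylow 2 G} {m : ℕ} {x y z : ↥(S : Subgroup G)}

omit [Finite G] in
/-- with the fusion element `d ∈ N_G(U)`, every subgroup of index two contains `x` and `y` -/
theorem IsWr.xy_mem_of_index_two (h : IsWr ↥(S : Subgroup G) m x y z) (d : G)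
    (hdN : d ∈ normalizer (h.baseG : Set G))
    (hd : d * ((x : G) ^ (2 ^ (m + 1)) * (y : G) ^ (2 ^ (m + 1))) * d⁻¹ = (x : G) ^ (2 ^ (m + 1)) ∨
      d * ((x : G) ^ (2 ^ (m + 1)) * (y : G) ^ (2 ^ (m + 1))) * d⁻¹ = (y : G) ^ (2 ^ (m + 1)))
    (H : Subgroup G) (hH : H.index = 2) : (x : G) ∈ H ∧ (y : G) ∈ H := by
  have hn : H.Normal := normal_of_index_eq_two hH
  have hrel : (z : G) * (x : G) * (z : G)⁻¹ = (y : G) := by
    have := congrArg Subtype.val h.rel
    simpa using this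
  have hrel_y : (z : G) * (y : G) * (z : G)⁻¹ = (x : G) := by
    have := congrArg Subtype.val h.rel_y
    simpa using this
  have hw : (x : G) * (y : G) ∈ H := by
    have := sq_mem_of_index_two hH ((x : G) * (z : G))
    have e : ((x : G) * (z : G)) ^ 2 = (x : G) * (y : G) := by
      rw [pow_two, ← hrel, h.z_inv_val]
      simp only [mul_assoc]
    rwa [e] at this
  have hx2 : (x : G) ^ 2 ∈ H := sq_mem_of_index_two hH _
  have hy2 : (y : G) ^ 2 ∈ H := sq_mem_of_index_two hH _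
  have ha : d * ((x : G) * (y : G)) * d⁻¹ ∈ H := hn.conj_mem _ hw d
  have hab : d * ((x : G) * (y : G)) * d⁻¹ ∈ h.baseG :=
    (mem_normalizer_iff.mp hdN _).mp h.w_mem_baseG
  obtain ⟨i, j, eij⟩ := (h.mem_baseG_iff _).mp hab
  have hpow : ((x : G) ^ i * (y : G) ^ j) ^ (2 ^ (m + 1)) =
      d * ((x : G) ^ (2 ^ (m + 1)) * (y : G) ^ (2 ^ (m + 1))) * d⁻¹ := by
    rw [← eij, conj_pow, h.c0_eq_val]
  have hxe : ∀ k : ℤ, (x : G) ^ (2 * k) ∈ H := by
    intro k
    rw [zpow_mul]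
    exact zpow_mem (by rw [zpow_ofNat]; exact hx2) k
  have hye : ∀ k : ℤ, (y : G) ^ (2 * k) ∈ H := by
    intro k
    rw [zpow_mul]
    exact zpow_mem (by rw [zpow_ofNat]; exact hy2) k
  have hX_of : Odd i → Even j → (x : G) ∈ H := by
    rintro ⟨i', rfl⟩ ⟨j', rfl⟩
    rw [eij] at ha
    have e : (x : G) = ((x : G) ^ (2 * i'))⁻¹ * ((x : G) ^ (2 * i' + 1) * (y : G) ^ (j' + j')) *
        ((y : G) ^ (2 * j'))⁻¹ := by group
    rw [e]
    exact H.mul_mem (H.mul_mem (H.inv_mem (hxe i')) ha) (H.inv_mem (hye j'))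
  have hY_of : Even i → Odd j → (y : G) ∈ H := by
    rintro ⟨i', rfl⟩ ⟨j', rfl⟩
    rw [eij] at ha
    have e : (y : G) = ((x : G) ^ (2 * i'))⁻¹ * ((x : G) ^ (i' + i') * (y : G) ^ (2 * j' + 1)) *
        ((y : G) ^ (2 * j'))⁻¹ := by group
    rw [e]
    exact H.mul_mem (H.mul_mem (H.inv_mem (hxe i')) ha) (H.inv_mem (hye j'))
  rcases hd with e | e
  · have e' : (x ^ i * y ^ j) ^ (2 ^ (m + 1)) = x ^ (2 ^ (m + 1)) := by
      apply Subtype.ext
      rw [e] at hpow
      simpa using hpow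
    obtain ⟨p1, p2⟩ := h.parity_of_pow_eq_u i j e'
    have hX := hX_of p1 p2
    refine ⟨hX, ?_⟩
    rw [← hrel]; exact hn.conj_mem _ hX _
  · have e' : (x ^ i * y ^ j) ^ (2 ^ (m + 1)) = y ^ (2 ^ (m + 1)) := by
      apply Subtype.ext
      rw [e] at hpow
      simpa using hpow
    obtain ⟨p1, p2⟩ := h.parity_of_pow_eq_u' i j e'
    have hY := hY_of p1 p2
    refine ⟨?_, hY⟩
    rw [← hrel_y]; exact hn.conj_mem _ hY _

omit [Finite G] in
theorem IsWr.baseG_le_of_index_two (h : IsWr ↥(S : Subgroup G) m x y z) (d : G)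
    (hdN : d ∈ normalizer (h.baseG : Set G))
    (hd : d * ((x : G) ^ (2 ^ (m + 1)) * (y : G) ^ (2 ^ (m + 1))) * d⁻¹ = (x : G) ^ (2 ^ (m + 1)) ∨
      d * ((x : G) ^ (2 ^ (m + 1)) * (y : G) ^ (2 ^ (m + 1))) * d⁻¹ = (y : G) ^ (2 ^ (m + 1)))
    (H : Subgroup G) (hH : H.index = 2) : h.baseG ≤ H := by
  obtain ⟨hX, hY⟩ := h.xy_mem_of_index_two d hdN hd H hH
  intro g hg
  obtain ⟨i, j, rfl⟩ := (h.mem_baseG_iff g).mp hg
  exact mul_mem (zpow_mem hX i) (zpow_mem hY j)

omit [Finite G] in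
/-- the fusion element `d` has no nontrivial fixed points on `U` -/
theorem IsWr.eq_one_of_fixed (h : IsWr ↥(S : Subgroup G) m x y z) (d : G)
    (hdN : d ∈ normalizer (h.baseG : Set G)) (K : ℕ) (hK : d ^ K = 1) (hKodd : Odd K)
    (hd : d * ((x : G) ^ (2 ^ (m + 1)) * (y : G) ^ (2 ^ (m + 1))) * d⁻¹ = (x : G) ^ (2 ^ (m + 1)) ∨
      d * ((x : G) ^ (2 ^ (m + 1)) * (y : G) ^ (2 ^ (m + 1))) * d⁻¹ = (y : G) ^ (2 ^ (m + 1)))
    (e : G) (he : e ∈ h.baseG) (hfix : d * e * d⁻¹ = e) : e = 1 := by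
  have : Fact (Nat.Prime 2) := ⟨Nat.prime_two⟩
  by_contra hne
  have hnorm : ∀ g ∈ h.baseG, d * g * d⁻¹ ∈ h.baseG := fun g hg =>
    (mem_normalizer_iff.mp hdN g).mp hg
  have hcu : (x : G) ^ (2 ^ (m + 1)) * (y : G) ^ (2 ^ (m + 1)) ≠ (x : G) ^ (2 ^ (m + 1)) := by
    intro e; exact h.u'_ne_one_val (mul_eq_left.mp e)
  have hcu' : (x : G) ^ (2 ^ (m + 1)) * (y : G) ^ (2 ^ (m + 1)) ≠ (y : G) ^ (2 ^ (m + 1)) := by
    intro e; exact h.u_ne_one_val (mul_eq_right.mp e)
  have hmoves : d * ((x : G) ^ (2 ^ (m + 1)) * (y : G) ^ (2 ^ (m + 1))) * d⁻¹ ≠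
      (x : G) ^ (2 ^ (m + 1)) * (y : G) ^ (2 ^ (m + 1)) := by
    intro e'
    rcases hd with e'' | e''
    · exact hcu (e'.symm.trans e'')
    · exact hcu' (e'.symm.trans e'')
  -- an involution fixed by `d`
  have hp : IsPGroup 2 ↥h.baseG := h.isPGroup.to_le h.baseG_le
  obtain ⟨j, hj⟩ := hp ⟨e, he⟩
  have hj' : e ^ (2 ^ j) = 1 := by
    have := congrArg Subtype.val hj
    simpa using this
  obtain ⟨l, -, hl⟩ := (Nat.dvd_prime_pow Nat.prime_two).mp (orderOf_dvd_of_pow_eq_one hj')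
  have hl0 : l ≠ 0 := by
    rintro rfl
    rw [pow_zero, orderOf_eq_one_iff] at hl
    exact hne hl
  obtain ⟨l', rfl⟩ : ∃ l', l = l' + 1 := ⟨l - 1, by omega⟩
  have hto : orderOf (e ^ (2 ^ l')) = 2 := by
    rw [orderOf_pow_of_dvd (by positivity) (by rw [hl]; exact pow_dvd_pow 2 (by omega)), hl,
      pow_succ]
    exact Nat.mul_div_cancel_left 2 (by positivity)
  have htb : e ^ (2 ^ l') ∈ h.baseG := pow_mem he _
  have htfix : d * e ^ (2 ^ l') * d⁻¹ = e ^ (2 ^ l') := by rw [← conj_pow, hfix]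
  have htt : e ^ (2 ^ l') * e ^ (2 ^ l') = 1 := by
    have := pow_orderOf_eq_one (e ^ (2 ^ l')); rwa [hto, pow_two] at this
  have hlist : ∀ g ∈ h.baseG, g * g = 1 → g = 1 ∨
      g = (x : G) ^ (2 ^ (m + 1)) * (y : G) ^ (2 ^ (m + 1)) ∨
      g = (x : G) ^ (2 ^ (m + 1)) ∨ g = (y : G) ^ (2 ^ (m + 1)) := fun g hg hgg =>
    h.baseG_invol g hg hgg
  rcases h.baseG_invol _ htb htt with e1 | e1 | e1 | e1
  · rw [e1, orderOf_one] at hto; omega
  · rw [e1] at htfix; exact hmoves htfix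
  · rw [e1] at htfix
    apply hmoves
    have key := centralizes_of_fixes_involution h.baseG
      (fun a ha b hb => h.baseG_comm a b ha hb) hp d hnorm K hK hKodd
      ((x : G) ^ (2 ^ (m + 1))) ((x : G) ^ (2 ^ (m + 1)) * (y : G) ^ (2 ^ (m + 1)))
      ((y : G) ^ (2 ^ (m + 1))) h.u_ne_one_val h.c0_ne_one_val h.u'_ne_one_val hcu.symm
      h.u_ne_u'_val hcu' h.u_sq_val h.c0_sq_val h.u'_sq_val h.c0_mem_baseG h.u'_mem_baseG
      (by
        intro g hg hgg
        rcases hlist g hg hgg with e2 | e2 | e2 | e2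
        · left; exact e2
        · right; right; left; exact e2
        · right; left; exact e2
        · right; right; right; exact e2) htfix
    exact key _ h.c0_mem_baseG
  · rw [e1] at htfix
    apply hmoves
    have key := centralizes_of_fixes_involution h.baseG
      (fun a ha b hb => h.baseG_comm a b ha hb) hp d hnorm K hK hKodd
      ((y : G) ^ (2 ^ (m + 1))) ((x : G) ^ (2 ^ (m + 1)) * (y : G) ^ (2 ^ (m + 1)))
      ((x : G) ^ (2 ^ (m + 1))) h.u'_ne_one_val h.c0_ne_one_val h.u_ne_one_val hcu'.symm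
      h.u_ne_u'_val.symm hcu h.u'_sq_val h.c0_sq_val h.u_sq_val h.c0_mem_baseG h.u_mem_baseG
      (by
        intro g hg hgg
        rcases hlist g hg hgg with e2 | e2 | e2 | e2
        · left; exact e2
        · right; right; left; exact e2
        · right; right; right; exact e2
        · right; left; exact e2) htfix
    exact key _ h.c0_mem_baseG

/-- every element of `U` has the form `a⁻¹ (d a d⁻¹)` -/
theorem IsWr.exists_comm_form (h : IsWr ↥(S : Subgroup G) m x y z) (d : G)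
    (hdN : d ∈ normalizer (h.baseG : Set G)) (K : ℕ) (hK : d ^ K = 1) (hKodd : Odd K)
    (hd : d * ((x : G) ^ (2 ^ (m + 1)) * (y : G) ^ (2 ^ (m + 1))) * d⁻¹ = (x : G) ^ (2 ^ (m + 1)) ∨
      d * ((x : G) ^ (2 ^ (m + 1)) * (y : G) ^ (2 ^ (m + 1))) * d⁻¹ = (y : G) ^ (2 ^ (m + 1)))
    (b : G) (hb : b ∈ h.baseG) : ∃ a ∈ h.baseG, b = a⁻¹ * (d * a * d⁻¹) := by
  have hnorm : ∀ g ∈ h.baseG, d * g * d⁻¹ ∈ h.baseG := fun g hg =>
    (mem_normalizer_iff.mp hdN g).mp hg
  let f : ↥h.baseG → ↥h.baseG := fun a =>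
    ⟨(a : G)⁻¹ * (d * a * d⁻¹), mul_mem (inv_mem a.2) (hnorm _ a.2)⟩
  have hinj : Function.Injective f := by
    intro a b hab
    have e1 : (a : G)⁻¹ * (d * a * d⁻¹) = (b : G)⁻¹ * (d * b * d⁻¹) := congrArg Subtype.val hab
    have hfix : d * ((b : G) * (a : G)⁻¹) * d⁻¹ = (b : G) * (a : G)⁻¹ := by
      have c1 := h.baseG_comm _ _ (inv_mem a.2) (hnorm _ a.2)
      have c2 := h.baseG_comm _ _ (inv_mem b.2) (hnorm _ b.2)
      have c3 := h.baseG_comm _ _ b.2 (inv_mem a.2)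
      have e2 : d * ((b : G) * (a : G)⁻¹) * d⁻¹ = (d * b * d⁻¹) * (d * a * d⁻¹)⁻¹ := by group
      rw [e2]
      -- from e1: (d b d⁻¹) = b a⁻¹ (d a d⁻¹)
      have e3 : d * (b : G) * d⁻¹ = (b : G) * ((a : G)⁻¹ * (d * a * d⁻¹)) := by
        rw [e1, mul_inv_cancel_left]
      rw [e3]; group
    have := h.eq_one_of_fixed d hdN K hK hKodd hd _ (mul_mem b.2 (inv_mem a.2)) hfix
    apply Subtype.ext
    exact (mul_inv_eq_one.mp this).symm
  have hsurj : Function.Surjective f := Finite.injective_iff_surjective.mp hinj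
  obtain ⟨a, ha⟩ := hsurj ⟨b, hb⟩
  exact ⟨a, a.2, (congrArg Subtype.val ha).symm⟩

/-- **The abelian case**: `c₀ ~ u` via `d ∈ N_G(U)` of odd order and `z ≁ c₀`. -/
theorem IsWr.abelian_case (h : IsWr ↥(S : Subgroup G) m x y z) (d : G)
    (hdN : d ∈ normalizer (h.baseG : Set G)) (k : ℕ) (hdk : orderOf d = 3 ^ k)
    (hd : d * ((x : G) ^ (2 ^ (m + 1)) * (y : G) ^ (2 ^ (m + 1))) * d⁻¹ = (x : G) ^ (2 ^ (m + 1)) ∨
      d * ((x : G) ^ (2 ^ (m + 1)) * (y : G) ^ (2 ^ (m + 1))) * d⁻¹ = (y : G) ^ (2 ^ (m + 1)))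
    (hnf : ¬ IsConj (z : G) ((x : G) ^ (2 ^ (m + 1)) * (y : G) ^ (2 ^ (m + 1)))) :
    (∃ K : Subgroup G, K.Normal ∧ K.index = 2 ∧ h.baseG ≤ K ∧ ∀ H : Subgroup ↥K, H.index ≠ 2) ∧
      Nat.card {C : ConjClasses G // ∃ t : G, orderOf t = 2 ∧ ConjClasses.mk t = C} = 2 := by
  have : Fact (Nat.Prime 2) := ⟨Nat.prime_two⟩
  have hc1 : IsConj ((x : G) ^ (2 ^ (m + 1)) * (y : G) ^ (2 ^ (m + 1))) ((x : G) ^ (2 ^ (m + 1))) := by
    rcases hd with e | e
    · exact isConj_iff.mpr ⟨d, e⟩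
    · exact (isConj_iff.mpr ⟨d, e⟩).trans h.isConj_u_u'_val.symm
  have hdK3 : d ^ (3 ^ k) = 1 := by rw [← hdk]; exact pow_orderOf_eq_one d
  have hodd3 : Odd (3 ^ k) := Odd.pow (by decide)
  -- involutions of `U` are conjugate to `c₀`
  have hUinv : ∀ t ∈ h.baseG, t * t = 1 → t ≠ 1 →
      IsConj t ((x : G) ^ (2 ^ (m + 1)) * (y : G) ^ (2 ^ (m + 1))) := by
    intro t ht htt ht1
    rcases h.baseG_invol t ht htt with e | e | e | e
    · exact absurd e ht1
    · rw [e]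
    · rw [e]; exact hc1.symm
    · rw [e]; exact h.isConj_u_u'_val.symm.trans hc1.symm
  have hZpow : ∀ j : ℕ, Odd j → (z : G) ^ j = z := by
    rintro j ⟨l, rfl⟩
    rw [pow_succ, pow_mul, pow_two, h.z_sq_val, one_pow, one_mul]
  have hZpow' : ∀ j : ℕ, Even j → (z : G) ^ j = 1 := by
    rintro j ⟨l, rfl⟩
    rw [← two_mul, pow_mul, pow_two, h.z_sq_val, one_pow]
  have hz1 : (z : G) ≠ 1 := by
    intro e
    apply h.z_not_mem_baseG
    rw [e]; exact one_mem _
  obtain ⟨K, hKn, hKi, hzK⟩ := exists_normal_index_two_of_transfer S h.base h.index_base (z : G) z.2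
    (by
      intro j g hg hj hmem
      have hval : g⁻¹ * (z : G) ^ j * g = g⁻¹ * z * g := by rw [hZpow j hj]
      have hb : g⁻¹ * (z : G) * g ∈ h.baseG := by
        have := (h.mem_baseG_iff' _).mpr hmem
        simpa only [hval] using this
      apply hnf
      have h1 : IsConj (z : G) (g⁻¹ * (z : G) * g) := isConj_iff.mpr ⟨g⁻¹, by group⟩
      refine h1.trans (hUinv _ hb ?_ ?_)
      · calc g⁻¹ * (z : G) * g * (g⁻¹ * (z : G) * g) = g⁻¹ * ((z : G) * (z : G)) * g := by group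
          _ = 1 := by rw [h.z_sq_val]; group
      · intro e
        apply hz1
        have : (z : G) = g * (g⁻¹ * (z : G) * g) * g⁻¹ := by group
        rw [this, e]; group)
    (by
      intro j g hg hj
      have : (⟨_, hg⟩ : ↥(S : Subgroup G)) = 1 := Subtype.ext (by simp [hZpow' j hj])
      rw [this]; exact one_mem _)
  have hUK : h.baseG ≤ K := h.baseG_le_of_index_two d hdN hd K hKi
  constructor
  · refine ⟨K, hKn, hKi, hUK, ?_⟩
    intro H hH
    have hHn : H.Normal := normal_of_index_eq_two hH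
    have hdK : d ∈ K := mem_of_odd_of_index_two K hKi d _ hodd3 hdK3
    have hdH : (⟨d, hdK⟩ : ↥K) ∈ H :=
      mem_of_odd_of_index_two H hH _ _ hodd3 (Subtype.ext (by simpa using hdK3))
    have hUH : h.baseG ≤ H.map K.subtype := by
      intro b hb
      obtain ⟨a, ha, hb'⟩ := h.exists_comm_form d hdN _ hdK3 hodd3 hd b hb
      have h1 : (⟨a, hUK ha⟩ : ↥K)⁻¹ * ⟨d, hdK⟩ * (⟨a, hUK ha⟩ : ↥K)⁻¹⁻¹ ∈ H :=
        hHn.conj_mem _ hdH _
      have h2 := H.mul_mem h1 (H.inv_mem hdH)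
      refine ⟨_, h2, ?_⟩
      rw [hb']
      simp only [Subgroup.subtype_apply, Subgroup.coe_mul, Subgroup.coe_inv, inv_inv]
      group
    have hidx : (H.map K.subtype).index = 4 := by
      rw [Subgroup.index_map_subtype, hH, hKi]
    have hUidx : h.baseG.index = 2 * (S : Subgroup G).index := by
      rw [← relIndex_mul_index h.baseG_le]
      congr 1
      have : h.baseG.subgroupOf (S : Subgroup G) = h.base := by
        rw [IsWr.baseG, Subgroup.subgroupOf]
        exact Subgroup.comap_map_eq_self_of_injective (S : Subgroup G).subtype_injective _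
      rw [relIndex, this, h.index_base]
    have hdvd := index_dvd_of_le hUH
    rw [hidx, hUidx] at hdvd
    have : 2 ∣ (S : Subgroup G).index := by
      have h4 : (4 : ℕ) = 2 * 2 := by norm_num
      rw [h4] at hdvd
      exact Nat.dvd_of_mul_dvd_mul_left (by norm_num) hdvd
    exact S.not_dvd_index this
  · apply IsQD.card_subtype_eq_two _ (ConjClasses.mk ((x : G) ^ (2 ^ (m + 1))))
      (ConjClasses.mk (z : G))
    · intro e
      apply hnf
      exact (ConjClasses.mk_eq_mk_iff_isConj.mp e).symm.trans hc1.symm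
    · intro C
      constructor
      · rintro ⟨t, ht, rfl⟩
        obtain ⟨g, hg⟩ := exists_conj_mem_sylow_two_of_orderOf S t 1 (by rw [ht, pow_one])
        have ho : orderOf (g * t * g⁻¹) = 2 := by
          have := (MulAut.conj g).orderOf_eq t
          rw [MulAut.conj_apply] at this
          rw [this, ht]
        have h0 : IsConj t (g * t * g⁻¹) := isConj_iff.mpr ⟨g, rfl⟩
        rcases h.invol_cases_val _ hg ho with e | e | e | ⟨j, e⟩
        · left; rw [e] at h0; exact ConjClasses.mk_eq_mk_iff_isConj.mpr h0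
        · left; rw [e] at h0
          exact ConjClasses.mk_eq_mk_iff_isConj.mpr (h0.trans h.isConj_u_u'_val.symm)
        · left; rw [e] at h0
          exact ConjClasses.mk_eq_mk_iff_isConj.mpr (h0.trans hc1)
        · right; rw [e] at h0
          exact ConjClasses.mk_eq_mk_iff_isConj.mpr (h0.trans (h.isConj_z_cz_val j).symm)
      · rintro (rfl | rfl)
        · exact ⟨_, h.u_orderOf_val, rfl⟩
        · exact ⟨_, by rw [Subgroup.orderOf_coe]; exact h.hz, rfl⟩

end sylow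

end Cfsg.Agent.Lib.Helper18
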