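import Mathlib
import Cfsg.Agent.Lib.Helper18.WrNonFusion2
import Cfsg.Agent.Lib.Helper18.WrAbelianCase
import Cfsg.Agent.Lib.Helper18.QDTransfer
import Cfsg.Agent.Lib.Helper17.WeaklyClosed
import Cfsg.Agent.Lib.Helper1.NormalPComplement
import Cfsg.Agent.Lib.Helper12.PComplement
import Cfsg.Agent.Lib.Helper12.PNilpotent
import Cfsg.Agent.Lib.Helper29.PrimePowerElement

set_option autoImplicit false

/-!
# Wreathed Sylow 2-subgroups: the case `|N_G(U):C_G(U)| = 2`, `z` not fused into `U`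

Then `G` has a normal 2-complement and exactly three classes of involutions.
-/

namespace Cfsg.Agent.Lib.Helper18

open Subgroup

/-- **Transfer criterion** for a normal subgroup of index 2 avoiding `u`, with a membership
criterion. -/
theorem exists_normal_index_two_of_transfer' {G : Type*} [Group G] [Finite G] (S : Sylow 2 G)
    (M : Subgroup ↥(S : Subgroup G)) (hM : M.index = 2) (u : G) (huS : u ∈ (S : Subgroup G))
    (hodd : ∀ (j : ℕ) (g : G) (hg : g⁻¹ * u ^ j * g ∈ (S : Subgroup G)), Odd j →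
      (⟨_, hg⟩ : ↥(S : Subgroup G)) ∉ M)
    (heven : ∀ (j : ℕ) (g : G) (hg : g⁻¹ * u ^ j * g ∈ (S : Subgroup G)), Even j →
      (⟨_, hg⟩ : ↥(S : Subgroup G)) ∈ M) :
    ∃ K : Subgroup G, K.Normal ∧ K.index = 2 ∧ u ∉ K ∧
      ∀ (a : G) (_ : a ∈ (S : Subgroup G)),
        (∀ (j : ℕ) (g : G) (hg : g⁻¹ * a ^ j * g ∈ (S : Subgroup G)),
          (⟨_, hg⟩ : ↥(S : Subgroup G)) ∈ M) → a ∈ K := by
  have : Fact (Nat.Prime 2) := ⟨Nat.prime_two⟩
  have huM : (⟨u, huS⟩ : ↥(S : Subgroup G)) ∉ M := by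
    have := hodd 1 1 (by simpa using huS) (by decide)
    simpa using this
  have hϕu : indexTwoHom M hM ⟨u, huS⟩ = -1 := indexTwoHom_of_not_mem M hM _ huM
  have htr : MonoidHom.transfer (indexTwoHom M hM) u = -1 := by
    rw [Cfsg.Agent.Lib.Helper8.transfer_eq_pow_mod (indexTwoHom M hM) u huS, hϕu]
    · have hoddidx : Odd (S : Subgroup G).index := by
        rw [← Nat.not_even_iff_odd, even_iff_two_dvd]
        exact S.not_dvd_index
      exact hoddidx.neg_one_pow
    · intro j g₀ hj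
      rw [hϕu]
      rcases Nat.even_or_odd j with hj' | hj'
      · rw [indexTwoHom_of_mem M hM _ (heven j g₀ hj hj'), hj'.neg_one_pow]
      · rw [indexTwoHom_of_not_mem M hM _ (hodd j g₀ hj hj'), hj'.neg_one_pow]
  refine ⟨(MonoidHom.transfer (indexTwoHom M hM)).ker, MonoidHom.normal_ker _, ?_, ?_, ?_⟩
  · rw [Subgroup.index_ker]
    have hrange : (MonoidHom.transfer (indexTwoHom M hM)).range = ⊤ := by
      rw [eq_top_iff]
      intro a _
      rcases Int.units_eq_one_or a with rfl | rfl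
      · exact one_mem _
      · exact ⟨u, htr⟩
    rw [hrange]
    simp [Nat.card_eq_fintype_card]
  · intro hu
    rw [MonoidHom.mem_ker, htr] at hu
    exact absurd hu (by decide)
  · intro a haS hkey
    rw [MonoidHom.mem_ker]
    have haM : (⟨a, haS⟩ : ↥(S : Subgroup G)) ∈ M := by
      have := hkey 1 1 (by simpa using haS)
      simpa using this
    have hϕa : indexTwoHom M hM ⟨a, haS⟩ = 1 := indexTwoHom_of_mem M hM _ haM
    rw [Cfsg.Agent.Lib.Helper8.transfer_eq_pow_mod (indexTwoHom M hM) a haS, hϕa, one_pow]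
    intro j g₀ hj
    rw [hϕa, one_pow]
    exact indexTwoHom_of_mem M hM _ (hkey j g₀ hj)

/-- a normal subgroup of `p`-power index with a normal `p`-complement -/
theorem hasNormalPComplement_of_normal_subgroup {X : Type*} [Group X] [Finite X] {p : ℕ}
    [Fact p.Prime] (K : Subgroup X) [hKn : K.Normal] (a : ℕ) (hidx : K.index = p ^ a)
    (hK : Cfsg.HasNormalPComplement p ↥K) : Cfsg.HasNormalPComplement p X := by
  obtain ⟨P, N₀, hN₀n, hN₀⟩ := hK
  have hcop : (Nat.card N₀).Coprime p :=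
    Cfsg.Agent.Lib.Helper12.coprime_card_of_isComplement' P N₀ hN₀
  obtain ⟨k, hk⟩ : ∃ k, N₀.index = p ^ k := by
    rw [hN₀.symm.index_eq_card]
    exact IsPGroup.iff_card.mp P.2
  have hmem : ∀ b : ↥K, (orderOf b).Coprime p → b ∈ N₀ := by
    intro b hb
    have h1 : b ^ (p ^ k) ∈ N₀ := by
      have h2 : ((b : ↥K ⧸ N₀)) ^ Nat.card (↥K ⧸ N₀) = 1 := pow_card_eq_one'
      rw [← Subgroup.index_eq_card, hk, ← QuotientGroup.mk_pow, QuotientGroup.eq_one_iff] at h2
      exact h2
    exact mem_of_pow_mem_of_coprime N₀ b (p ^ k) (orderOf_pos b).ne' h1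
      (Nat.Coprime.pow_right k hb)
  refine Cfsg.Agent.Lib.Helper12.hasNormalPComplement_of_normal (N₀.map K.subtype) ?_ ?_ (k + a) ?_
  · constructor
    rintro _ ⟨b, hb, rfl⟩ g
    have hgK : g * (b : X) * g⁻¹ ∈ K := hKn.conj_mem _ b.2 g
    refine ⟨⟨g * (b : X) * g⁻¹, hgK⟩, hmem _ ?_, rfl⟩
    have e1 : orderOf (⟨g * (b : X) * g⁻¹, hgK⟩ : ↥K) = orderOf b := by
      rw [← Subgroup.orderOf_coe, ← Subgroup.orderOf_coe]
      have := (MulAut.conj g).orderOf_eq (b : X)
      rwa [MulAut.conj_apply] at this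
    rw [e1]
    have e2 : orderOf b ∣ Nat.card N₀ := by
      have : orderOf (⟨b, hb⟩ : ↥N₀) ∣ Nat.card N₀ := orderOf_dvd_natCard _
      rwa [← Subgroup.orderOf_coe] at this
    exact Nat.Coprime.coprime_dvd_left e2 hcop
  · rw [← Nat.card_congr (N₀.equivMapOfInjective _ K.subtype_injective).toEquiv]
    exact hcop
  · rw [Subgroup.index_map_subtype, hk, hidx, pow_add]

section abstract

variable {S : Type*} [Group S] {m : ℕ} {x y z : S}

/-- a nontrivial power of `x` has the involution `u` as a `2`-power power -/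
theorem IsWr.exists_pow_eq_u (h : IsWr S m x y z) (j : ℕ) (hj : x ^ j ≠ 1) :
    ∃ l : ℕ, (x ^ j) ^ (2 ^ l) = x ^ (2 ^ (m + 1)) := by
  have hd : orderOf (x ^ j) ∣ 2 ^ (m + 2) := by
    rw [← h.hx]; exact orderOf_pow_dvd j
  obtain ⟨l', -, hl'⟩ := (Nat.dvd_prime_pow Nat.prime_two).mp hd
  have hl0 : l' ≠ 0 := by
    rintro rfl
    rw [pow_zero, orderOf_eq_one_iff] at hl'
    exact hj hl'
  obtain ⟨l, rfl⟩ : ∃ l, l' = l + 1 := ⟨l' - 1, by omega⟩
  refine ⟨l, ?_⟩
  have hne : (x ^ j) ^ (2 ^ l) ≠ 1 := by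
    intro e
    have := orderOf_dvd_of_pow_eq_one e
    rw [hl'] at this
    have := Nat.le_of_dvd (by positivity) this
    rw [pow_succ] at this
    have : 0 < 2 ^ l := by positivity
    omega
  have hsq : (x ^ j) ^ (2 ^ l) * (x ^ j) ^ (2 ^ l) = 1 := by
    rw [← pow_add, ← two_mul, ← pow_succ', ← hl']
    exact pow_orderOf_eq_one _
  have e : (x ^ j) ^ (2 ^ l) = x ^ (((j * 2 ^ l : ℕ)) : ℤ) := by
    rw [zpow_natCast, pow_mul]
  rw [e] at hsq hne ⊢
  rcases h.x_pow_cases _ hsq with e1 | e1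
  · exact absurd e1 hne
  · exact e1

end abstract

section sylow

variable {G : Type*} [Group G] [Finite G] {S : Sylow 2 G} {m : ℕ} {x y z : ↥(S : Subgroup G)}

omit [Finite G] in
/-- conjugates of powers of `x` lying in `S` lie in `U`, when `u` is not fused to `z` or `u u'` -/
theorem IsWr.conj_x_pow_mem_base (h : IsWr ↥(S : Subgroup G) m x y z)
    (hcu : ¬ IsConj ((x : G) ^ (2 ^ (m + 1)) * (y : G) ^ (2 ^ (m + 1))) ((x : G) ^ (2 ^ (m + 1))))
    (hzu : ¬ IsConj (z : G) ((x : G) ^ (2 ^ (m + 1))))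
    (j : ℕ) (g : G) (hg : g⁻¹ * (x : G) ^ j * g ∈ (S : Subgroup G)) :
    (⟨_, hg⟩ : ↥(S : Subgroup G)) ∈ h.base := by
  by_contra hnot
  have hp : ∀ n : ℕ, (g⁻¹ * (x : G) ^ j * g) ^ n = g⁻¹ * ((x : G) ^ j) ^ n * g := by
    intro n
    induction n with
    | zero => simp
    | succ n ih => rw [pow_succ, ih, pow_succ]; group
  have hxj : x ^ j ≠ 1 := by
    intro e
    apply hnot
    have e' : (x : G) ^ j = 1 := by
      have := congrArg Subtype.val e
      simpa using this
    have : (⟨_, hg⟩ : ↥(S : Subgroup G)) = 1 := Subtype.ext (by simp [e'])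
    rw [this]; exact one_mem _
  obtain ⟨l, hl⟩ := h.exists_pow_eq_u j hxj
  have hl' : ((x : G) ^ j) ^ (2 ^ l) = (x : G) ^ (2 ^ (m + 1)) := by
    have := congrArg Subtype.val hl
    simpa using this
  have hconj : IsConj ((g⁻¹ * (x : G) ^ j * g) ^ (2 ^ l)) ((x : G) ^ (2 ^ (m + 1))) := by
    rw [hp, hl', isConj_iff]
    exact ⟨g, by group⟩
  have ho : orderOf ((g⁻¹ * (x : G) ^ j * g) ^ (2 ^ l)) = 2 := by
    obtain ⟨c, hc⟩ := isConj_iff.mp hconj
    have := (MulAut.conj c).orderOf_eq ((g⁻¹ * (x : G) ^ j * g) ^ (2 ^ l))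
    rw [MulAut.conj_apply, hc, h.u_orderOf_val] at this
    exact this.symm
  rcases Nat.eq_zero_or_pos l with rfl | hlpos
  · -- `t` is an involution outside `U`
    rw [pow_zero, pow_one] at hconj ho
    rcases h.invol_cases_val _ hg ho with e | e | e | ⟨k, e⟩
    · apply hnot
      rw [← h.mem_baseG_iff']; change g⁻¹ * (x : G) ^ j * g ∈ h.baseG
      rw [e]; exact h.u_mem_baseG
    · apply hnot
      rw [← h.mem_baseG_iff']; change g⁻¹ * (x : G) ^ j * g ∈ h.baseG
      rw [e]; exact h.u'_mem_baseG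
    · apply hnot
      rw [← h.mem_baseG_iff']; change g⁻¹ * (x : G) ^ j * g ∈ h.baseG
      rw [e]; exact h.c0_mem_baseG
    · apply hzu
      rw [e] at hconj
      exact (h.isConj_z_cz_val k).trans hconj
  · -- the square of `t` is central
    obtain ⟨l₀, rfl⟩ : ∃ l₀, l = l₀ + 1 := ⟨l - 1, by omega⟩
    obtain ⟨i, k, e | e⟩ := h.cover (⟨_, hg⟩ : ↥(S : Subgroup G))
    · exact hnot (e ▸ h.xy_mem_base i k)
    · have hsq : (⟨_, hg⟩ : ↥(S : Subgroup G)) ^ 2 = (x * y) ^ (i + k) := by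
        rw [pow_two, e, h.sq_xyz, (show Commute x y from h.comm).mul_zpow]
      have hcen : (⟨_, hg⟩ : ↥(S : Subgroup G)) ^ (2 ^ (l₀ + 1)) ∈ center ↥(S : Subgroup G) := by
        rw [pow_succ', pow_mul, hsq, h.center_eq]
        exact pow_mem (zpow_mem (mem_zpowers _) _) _
      have ho' : orderOf ((⟨_, hg⟩ : ↥(S : Subgroup G)) ^ (2 ^ (l₀ + 1))) = 2 := by
        rw [← Subgroup.orderOf_coe]
        simpa using ho
      have := congrArg Subtype.val (h.central_involution _ ho' hcen)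
      apply hcu
      have e2 : (g⁻¹ * (x : G) ^ j * g) ^ (2 ^ (l₀ + 1)) =
          (x : G) ^ (2 ^ (m + 1)) * (y : G) ^ (2 ^ (m + 1)) := by
        simpa using this
      rw [e2] at hconj
      exact hconj

/-- **The nilpotent case**: `|N_G(U) : C_G(U)| = 2` and `z` is not fused into `U`. -/
theorem IsWr.nilpotent_case (h : IsWr ↥(S : Subgroup G) m x y z)
    (h₁ : (centralizer (h.baseG : Set G)).relIndex (normalizer (h.baseG : Set G)) = 2)
    (hnf : ∀ t ∈ h.baseG, ¬ IsConj (z : G) t) :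
    Cfsg.HasNormalPComplement 2 G ∧
      Nat.card {C : ConjClasses G // ∃ t : G, orderOf t = 2 ∧ ConjClasses.mk t = C} = 3 := by
  have : Fact (Nat.Prime 2) := ⟨Nat.prime_two⟩
  have hrel : (z : G) * (x : G) * (z : G)⁻¹ = (y : G) := by
    have := congrArg Subtype.val h.rel
    simpa using this
  have hzN : (z : G) ∈ normalizer (h.baseG : Set G) := by
    apply Cfsg.Agent.Lib.Helper17.mem_normalizer_of_forall_conj_mem
    rintro _ ⟨a, ha, rfl⟩
    exact ⟨z * a * z⁻¹, h.conj_z_mem_base a ha, by simp⟩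
  have hzC : (z : G) ∉ centralizer (h.baseG : Set G) := by
    intro hz
    rw [mem_centralizer_iff] at hz
    exact h.z_u_ne_val (hz _ h.u_mem_baseG).symm
  have hc0u : (x : G) ^ (2 ^ (m + 1)) * (y : G) ^ (2 ^ (m + 1)) ≠ (x : G) ^ (2 ^ (m + 1)) := by
    intro e; exact h.u'_ne_one_val (mul_eq_left.mp e)
  -- `u u'` is not fused to `u`
  have hcu : ¬ IsConj ((x : G) ^ (2 ^ (m + 1)) * (y : G) ^ (2 ^ (m + 1)))
      ((x : G) ^ (2 ^ (m + 1))) := by
    intro hc
    obtain ⟨g, hg⟩ := isConj_iff.mp hc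
    obtain ⟨n, hnN, hn⟩ := Cfsg.Agent.Lib.Helper17.fusion_of_weaklyClosed_abelian S h.baseG_le
      (fun a ha b hb => h.baseG_comm a b ha hb) (fun a ha => h.map_conj_baseG_eq a ha)
      h.c0_mem_baseG g (by rw [hg]; exact h.u_mem_baseG)
    rw [hg] at hn
    apply hc0u
    refine Eq.trans (Eq.symm ?_) hn
    rcases mem_or_of_relIndex_two _ _ h₁ (z : G) hzN hzC n hnN with hC | hC
    · rw [mem_centralizer_iff] at hC
      rw [← hC _ h.c0_mem_baseG, mul_inv_cancel_right]
    · rw [mem_centralizer_iff] at hC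
      have e1 := hC _ h.c0_mem_baseG
      have e2 : n * ((x : G) ^ (2 ^ (m + 1)) * (y : G) ^ (2 ^ (m + 1))) * n⁻¹ =
          (z : G) * ((x : G) ^ (2 ^ (m + 1)) * (y : G) ^ (2 ^ (m + 1))) * (z : G)⁻¹ := by
        have : n = (z : G) * ((z : G)⁻¹ * n) := by group
        rw [this, mul_assoc (z : G), ← e1]
        group
      rw [e2, h.c0_central_val _ z.2, mul_inv_cancel_right]
  have hzu : ¬ IsConj (z : G) ((x : G) ^ (2 ^ (m + 1))) := hnf _ h.u_mem_baseG
  have hzc0 : ¬ IsConj (z : G) ((x : G) ^ (2 ^ (m + 1)) * (y : G) ^ (2 ^ (m + 1))) :=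
    hnf _ h.c0_mem_baseG
  constructor
  · -- the normal 2-complement
    have hZpow : ∀ j : ℕ, Odd j → (z : G) ^ j = z := by
      rintro j ⟨l, rfl⟩
      rw [pow_succ, pow_mul, pow_two, h.z_sq_val, one_pow, one_mul]
    have hZpow' : ∀ j : ℕ, Even j → (z : G) ^ j = 1 := by
      rintro j ⟨l, rfl⟩
      rw [← two_mul, pow_mul, pow_two, h.z_sq_val, one_pow]
    obtain ⟨K, hKn, hKi, hzK, hKmem⟩ := exists_normal_index_two_of_transfer' S h.base
      h.index_base (z : G) z.2
      (by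
        intro j g hg hj hmem
        have hval : g⁻¹ * (z : G) ^ j * g = g⁻¹ * z * g := by rw [hZpow j hj]
        have hb : g⁻¹ * (z : G) * g ∈ h.baseG := by
          have := (h.mem_baseG_iff' _).mpr hmem
          simpa only [hval] using this
        exact hnf _ hb (isConj_iff.mpr ⟨g⁻¹, by group⟩))
      (by
        intro j g hg hj
        have : (⟨_, hg⟩ : ↥(S : Subgroup G)) = 1 := Subtype.ext (by simp [hZpow' j hj])
        rw [this]; exact one_mem _)
    have hxK : (x : G) ∈ K := hKmem (x : G) x.2 (fun j g hg => h.conj_x_pow_mem_base hcu hzu j g hg)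
    have hyK : (y : G) ∈ K := by rw [← hrel]; exact hKn.conj_mem _ hxK _
    have hUK : h.baseG ≤ K := by
      intro g hg
      obtain ⟨i, j, rfl⟩ := (h.mem_baseG_iff g).mp hg
      exact mul_mem (zpow_mem hxK i) (zpow_mem hyK j)
    have hinf : K ⊓ (S : Subgroup G) = h.baseG :=
      inf_sylow_eq_of_index_two (S : Subgroup G) K h.base h.index_base hUK (z : G) z.2 hzK
    have := hKn
    obtain ⟨P₂, hP₂⟩ := exists_sylow_eq_inf_subgroupOf S K
    rw [hinf] at hP₂
    have hmemP₂ : ∀ b : ↥K, b ∈ (P₂ : Subgroup ↥K) ↔ (b : G) ∈ h.baseG := by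
      intro b
      rw [hP₂, mem_subgroupOf]
    have hK2 : Cfsg.HasNormalPComplement 2 ↥K := by
      apply Cfsg.Agent.Lib.Helper1.hasNormalPComplement_of_normalizer_le_centralizer P₂
      intro n hn
      by_contra hnC
      -- `n` normalizes `U` in `G`
      have hnN : ∀ n' ∈ normalizer ((P₂ : Subgroup ↥K) : Set ↥K),
          (n' : G) ∈ normalizer (h.baseG : Set G) := by
        intro n' hn'
        apply Cfsg.Agent.Lib.Helper17.mem_normalizer_of_forall_conj_mem
        intro b hb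
        have h1 : (⟨b, hUK hb⟩ : ↥K) ∈ (P₂ : Subgroup ↥K) := (hmemP₂ _).mpr hb
        have h2 := (mem_normalizer_iff.mp hn' _).mp h1
        have h3 := (hmemP₂ _).mp h2
        simpa using h3
      have hCC : ∀ n' : ↥K, (n' : G) ∈ centralizer (h.baseG : Set G) →
          n' ∈ centralizer ((P₂ : Subgroup ↥K) : Set ↥K) := by
        intro n' hn'
        rw [mem_centralizer_iff] at hn' ⊢
        intro b hb
        apply Subtype.ext
        have := hn' (b : G) ((hmemP₂ b).mp hb)
        simpa using this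
      obtain ⟨g', hg'z, hg'C, r, k, hr, hg'o⟩ :=
        Cfsg.Agent.Lib.Helper29.exists_prime_pow_order_not_mem
          (centralizer ((P₂ : Subgroup ↥K) : Set ↥K)) _ n rfl hnC
      have hg'N : g' ∈ normalizer ((P₂ : Subgroup ↥K) : Set ↥K) :=
        (zpowers_le.mpr hn) hg'z
      apply hg'C
      by_cases hr2 : r = 2
      · subst hr2
        have hg'P : g' ∈ (P₂ : Subgroup ↥K) :=
          mem_sylow_of_mem_normalizer_of_orderOf P₂ g' hg'N k hg'o
        rw [mem_centralizer_iff]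
        intro b hb
        apply Subtype.ext
        exact h.baseG_comm _ _ ((hmemP₂ b).mp hb) ((hmemP₂ g').mp hg'P)
      · apply hCC
        apply mem_of_coprime_of_relIndex_two _ _ h₁ (g' : G) (hnN g' hg'N)
        rw [Subgroup.orderOf_coe, hg'o]
        exact Nat.Coprime.pow_left k ((Nat.coprime_primes hr Nat.prime_two).mpr hr2)
    exact hasNormalPComplement_of_normal_subgroup K 1 (by rw [hKi, pow_one]) hK2
  · -- three classes of involutions
    apply card_subtype_eq_three _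
      (ConjClasses.mk ((x : G) ^ (2 ^ (m + 1)) * (y : G) ^ (2 ^ (m + 1))))
      (ConjClasses.mk ((x : G) ^ (2 ^ (m + 1)))) (ConjClasses.mk (z : G))
    · intro e
      exact hcu (ConjClasses.mk_eq_mk_iff_isConj.mp e)
    · intro e
      exact hzc0 (ConjClasses.mk_eq_mk_iff_isConj.mp e).symm
    · intro e
      exact hzu (ConjClasses.mk_eq_mk_iff_isConj.mp e).symm
    · intro C
      constructor
      · rintro ⟨t, ht, rfl⟩
        obtain ⟨g, hg⟩ := exists_conj_mem_sylow_two_of_orderOf S t 1 (by rw [ht, pow_one])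
        have ho : orderOf (g * t * g⁻¹) = 2 := by
          have := (MulAut.conj g).orderOf_eq t
          rw [MulAut.conj_apply] at this
          rw [this, ht]
        have h0 : IsConj t (g * t * g⁻¹) := isConj_iff.mpr ⟨g, rfl⟩
        rcases h.invol_cases_val _ hg ho with e | e | e | ⟨j, e⟩
        · right; left; rw [e] at h0; exact ConjClasses.mk_eq_mk_iff_isConj.mpr h0
        · right; left; rw [e] at h0
          exact ConjClasses.mk_eq_mk_iff_isConj.mpr (h0.trans h.isConj_u_u'_val.symm)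
        · left; rw [e] at h0
          exact ConjClasses.mk_eq_mk_iff_isConj.mpr h0
        · right; right; rw [e] at h0
          exact ConjClasses.mk_eq_mk_iff_isConj.mpr (h0.trans (h.isConj_z_cz_val j).symm)
      · rintro (rfl | rfl | rfl)
        · refine ⟨_, ?_, rfl⟩
          exact orderOf_eq_prime (by rw [pow_two]; exact h.c0_sq_val) h.c0_ne_one_val
        · exact ⟨_, h.u_orderOf_val, rfl⟩
        · exact ⟨_, by rw [Subgroup.orderOf_coe]; exact h.hz, rfl⟩

end sylow

end Cfsg.Agent.Lib.Helper18
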