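import Mathlib
import Cfsg.Agent.Lib.Helper18.WrNilpotentCase
import Cfsg.Agent.Lib.Helper18.WrIndices

set_option autoImplicit false

/-!
# Wreathed Sylow 2-subgroups: the case `|N_G(U):C_G(U)| = 2`, `|N_G(V) : V C_G(V)| = 6`

Then the focal subgroup of `S` is the generalized quaternion subgroup `Y₀ = ⟨x y⁻¹, u z⟩`, the
kernel `K` of the transfer into `S / S*` has index `2^n`, generalized quaternion Sylow 2-subgroups
and no subgroup of index 2; the subgroups of `Z(S)` are weakly closed and there are two classes of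
involutions.
-/

namespace Cfsg.Agent.Lib.Helper18

open Subgroup
open scoped commutatorElement


theorem pow_eq_self_of_sq_eq_one {A : Type*} [Monoid A] (q : A) (hq : q ^ 2 = 1) (k : ℕ)
    (hk : Odd k) : q ^ k = q := by
  obtain ⟨l, rfl⟩ := hk
  rw [pow_succ, pow_mul, hq, one_pow, one_mul]

theorem pow_eq_one_of_sq_eq_one {A : Type*} [Monoid A] (q : A) (hq : q ^ 2 = 1) (k : ℕ)
    (hk : Even k) : q ^ k = 1 := by
  obtain ⟨l, rfl⟩ := hk
  rw [← two_mul, pow_mul, hq, one_pow]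

namespace IsWr

variable {S : Type*} [Group S] {m : ℕ} {x y z : S}

theorem c_eq_comm (h : IsWr S m x y z) : x * y⁻¹ = ⁅x, z⁆ := by
  rw [commutatorElement_def, ← h.rel]
  group

theorem u_not_mem_Y0 (h : IsWr S m x y z) :
    x ^ (2 ^ (m + 1)) ∉ zpowers (x * y⁻¹) ⊔ zpowers (x ^ (2 ^ (m + 1)) * z) := by
  intro hu
  rcases (h.mem_Y0_iff _).mp hu with h1 | h1
  · exact h.u_not_mem_c h1
  · apply h.z_not_mem
    have e : (x ^ (2 ^ (m + 1)) * z)⁻¹ * x ^ (2 ^ (m + 1)) = z⁻¹ * (x ^ (2 ^ (m + 1)))⁻¹ *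
        x ^ (2 ^ (m + 1)) := by group
    rw [e, inv_mul_cancel_right] at h1
    have := h.zpowers_xy_inv_le h1
    exact inv_mem_iff.mp this

theorem c0_mem_c (h : IsWr S m x y z) :
    x ^ (2 ^ (m + 1)) * y ^ (2 ^ (m + 1)) ∈ zpowers (x * y⁻¹) := by
  rw [← h.c_pow_half]; exact pow_mem (mem_zpowers _) _

/-- `S = Y₀ ⟨x⟩` -/
theorem sup_Y0_zpowers_x (h : IsWr S m x y z) :
    zpowers (x * y⁻¹) ⊔ zpowers (x ^ (2 ^ (m + 1)) * z) ⊔ zpowers x = ⊤ := by
  rw [eq_top_iff]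
  intro g _
  have hx : x ∈ zpowers (x * y⁻¹) ⊔ zpowers (x ^ (2 ^ (m + 1)) * z) ⊔ zpowers x :=
    mem_sup_right (mem_zpowers x)
  have hc : x * y⁻¹ ∈ zpowers (x * y⁻¹) ⊔ zpowers (x ^ (2 ^ (m + 1)) * z) ⊔ zpowers x :=
    mem_sup_left (mem_sup_left (mem_zpowers _))
  have huz : x ^ (2 ^ (m + 1)) * z ∈
      zpowers (x * y⁻¹) ⊔ zpowers (x ^ (2 ^ (m + 1)) * z) ⊔ zpowers x :=
    mem_sup_left (mem_sup_right (mem_zpowers _))
  have hz : z ∈ zpowers (x * y⁻¹) ⊔ zpowers (x ^ (2 ^ (m + 1)) * z) ⊔ zpowers x := by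
    have := mul_mem (inv_mem (pow_mem hx (2 ^ (m + 1)))) huz
    rwa [inv_mul_cancel_left] at this
  have hy : y ∈ zpowers (x * y⁻¹) ⊔ zpowers (x ^ (2 ^ (m + 1)) * z) ⊔ zpowers x := by
    have := mul_mem (inv_mem hc) hx
    have e : (x * y⁻¹)⁻¹ * x = y := by
      rw [mul_inv_rev, inv_inv, mul_assoc, inv_mul_cancel, mul_one]
    rwa [e] at this
  obtain ⟨i, j, rfl | rfl⟩ := h.cover g
  · exact mul_mem (zpow_mem hx i) (zpow_mem hy j)
  · exact mul_mem (mul_mem (zpow_mem hx i) (zpow_mem hy j)) hz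

/-- a nontrivial element of `⟨x⟩` has the involution `u` as a `2`-power power -/
theorem exists_pow_eq_u' (h : IsWr S m x y z) (a : S) (ha : a ∈ zpowers x) (ha1 : a ≠ 1) :
    ∃ l : ℕ, a ^ (2 ^ l) = x ^ (2 ^ (m + 1)) := by
  obtain ⟨i, rfl⟩ := mem_zpowers_iff.mp ha
  have hd : orderOf (x ^ i) ∣ 2 ^ (m + 2) := by
    rw [← h.hx]; exact orderOf_dvd_of_mem_zpowers ha
  obtain ⟨l', -, hl'⟩ := (Nat.dvd_prime_pow Nat.prime_two).mp hd
  have hl0 : l' ≠ 0 := by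
    rintro rfl
    rw [pow_zero, orderOf_eq_one_iff] at hl'
    exact ha1 hl'
  obtain ⟨l, rfl⟩ : ∃ l, l' = l + 1 := ⟨l' - 1, by omega⟩
  refine ⟨l, ?_⟩
  have hne : (x ^ i) ^ (2 ^ l) ≠ 1 := by
    intro e
    have := orderOf_dvd_of_pow_eq_one e
    rw [hl'] at this
    have := Nat.le_of_dvd (by positivity) this
    rw [pow_succ] at this
    have : 0 < 2 ^ l := by positivity
    omega
  have hsq : (x ^ i) ^ (2 ^ l) * (x ^ i) ^ (2 ^ l) = 1 := by
    rw [← pow_add, ← two_mul, ← pow_succ', ← hl']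
    exact pow_orderOf_eq_one _
  have e : (x ^ i) ^ (2 ^ l) = x ^ (i * ((2 ^ l : ℕ) : ℤ)) := by
    rw [zpow_mul, zpow_natCast]
  rw [e] at hsq hne ⊢
  rcases h.x_pow_cases _ hsq with e1 | e1
  · exact absurd e1 hne
  · exact e1

/-- a central element is not congruent modulo `Y₀` to an element outside `U` with the same
square -/
theorem false_of_center_conj (h : IsWr S m x y z) (i k l : ℤ)
    (h1 : (x * y) ^ i * (x * y) ^ i = x ^ (k + l) * y ^ (k + l))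
    (h2 : ((x * y) ^ i)⁻¹ * (x ^ k * y ^ l * z) ∈
      zpowers (x * y⁻¹) ⊔ zpowers (x ^ (2 ^ (m + 1)) * z)) : False := by
  have hwxy : ∀ j : ℤ, (x * y) ^ j = x ^ j * y ^ j := fun j =>
    (show Commute x y from h.comm).mul_zpow j
  have e1 : x ^ (i + i) = x ^ (k + l) := by
    have : x ^ (i + i) * y ^ (i + i) = x ^ (k + l) * y ^ (k + l) := by
      rw [← h1, ← zpow_add, hwxy]
    exact (h.eq_of_eq _ _ _ _ this).1
  have hbase : ((x * y) ^ i)⁻¹ * (x ^ k * y ^ l) ∈ h.base := by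
    rw [hwxy]
    exact mul_mem (inv_mem (h.xy_mem_base _ _)) (h.xy_mem_base _ _)
  rcases (h.mem_Y0_iff _).mp h2 with h3 | h3
  · apply h.z_not_mem
    have h4 := h.zpowers_xy_inv_le h3
    have := mul_mem (inv_mem hbase) h4
    have e : (((x * y) ^ i)⁻¹ * (x ^ k * y ^ l))⁻¹ * (((x * y) ^ i)⁻¹ * (x ^ k * y ^ l * z)) = z := by
      group
    rwa [e] at this
  · obtain ⟨e, he⟩ := mem_zpowers_iff.mp h3
    rw [h.c_zpow] at he
    -- compute the left-hand side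
    have hN : (x ^ (2 ^ (m + 1)))⁻¹ = x ^ (((2 ^ (m + 1) : ℕ)) : ℤ) := by
      rw [zpow_natCast]; exact h.u_inv
    have e2 : (x ^ (2 ^ (m + 1)) * z)⁻¹ * (((x * y) ^ i)⁻¹ * (x ^ k * y ^ l * z)) =
        x ^ (l - i) * y ^ (((2 ^ (m + 1) : ℕ) : ℤ) + k - i) := by
      have e3 : (x ^ (2 ^ (m + 1)) * z)⁻¹ * (((x * y) ^ i)⁻¹ * (x ^ k * y ^ l * z)) =
          z⁻¹ * ((x ^ (2 ^ (m + 1)))⁻¹ * ((x * y) ^ i)⁻¹ * (x ^ k * y ^ l)) * z := by group
      have e4 : (x ^ (2 ^ (m + 1)))⁻¹ * ((x * y) ^ i)⁻¹ * (x ^ k * y ^ l) =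
          x ^ (((2 ^ (m + 1) : ℕ) : ℤ) + k - i) * y ^ (l - i) := by
        rw [hN, hwxy, mul_inv_rev]
        have c1 := (h.commute_xy (-i) (-i)).eq
        have c2 := (h.commute_xy k (-i)).eq
        calc x ^ (((2 ^ (m + 1) : ℕ)) : ℤ) * ((y ^ i)⁻¹ * (x ^ i)⁻¹) * (x ^ k * y ^ l)
            = x ^ (((2 ^ (m + 1) : ℕ)) : ℤ) * (y ^ (-i) * x ^ (-i)) * (x ^ k * y ^ l) := by
              rw [zpow_neg, zpow_neg]
          _ = x ^ (((2 ^ (m + 1) : ℕ)) : ℤ) * (x ^ (-i) * y ^ (-i)) * (x ^ k * y ^ l) := by rw [c1]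
          _ = x ^ (((2 ^ (m + 1) : ℕ)) : ℤ) * x ^ (-i) * (y ^ (-i) * x ^ k) * y ^ l := by group
          _ = x ^ (((2 ^ (m + 1) : ℕ)) : ℤ) * x ^ (-i) * (x ^ k * y ^ (-i)) * y ^ l := by rw [c2]
          _ = (x ^ (((2 ^ (m + 1) : ℕ)) : ℤ) * x ^ (-i) * x ^ k) * (y ^ (-i) * y ^ l) := by group
          _ = _ := by
              rw [← zpow_add, ← zpow_add, ← zpow_add]
              congr 2 <;> ring
      rw [e3, e4]
      have := h.z_mul_xy (((2 ^ (m + 1) : ℕ) : ℤ) + k - i) (l - i)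
      calc z⁻¹ * (x ^ (((2 ^ (m + 1) : ℕ) : ℤ) + k - i) * y ^ (l - i)) * z
          = z⁻¹ * (z * (x ^ (l - i) * y ^ (((2 ^ (m + 1) : ℕ) : ℤ) + k - i))) * z⁻¹ * z := by
            rw [h.z_mul_xy]; group
        _ = _ := by group
    rw [e2] at he
    obtain ⟨e5, e6⟩ := h.eq_of_eq _ _ _ _ he
    -- `x^e = x^(l-i)`, `y^(-e) = y^(N+k-i)`
    have e7 : y ^ (((2 ^ (m + 1) : ℕ) : ℤ) + k - i + e) = 1 := by
      rw [zpow_add, ← e6, ← zpow_add, neg_add_cancel, zpow_zero]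
    have e8 : x ^ (((2 ^ (m + 1) : ℕ) : ℤ) + k - i + e) = 1 := (h.pow_eq_one_iff _).mpr e7
    have e9 : x ^ (l - i - e) = 1 := by
      rw [zpow_sub, ← e5, mul_inv_cancel]
    have e10 : x ^ (k + l - (i + i)) = 1 := by
      rw [zpow_sub, ← e1, mul_inv_cancel]
    apply h.u_ne_one
    have : x ^ (2 ^ (m + 1)) = x ^ (((2 ^ (m + 1) : ℕ) : ℤ) + k - i + e) * x ^ (l - i - e) *
        (x ^ (k + l - (i + i)))⁻¹ := by
      rw [← zpow_natCast, ← zpow_add, ← zpow_neg, ← zpow_add]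
      congr 1; ring
    rw [this, e8, e9, e10]; simp


open scoped IsMulCommutative in
/-- involutions other than `u u'` are congruent to `u` modulo `Y₀` -/
theorem mk_invol_eq (h : IsWr S m x y z) (t : S) (ht : orderOf t = 2)
    (hne : t ≠ x ^ (2 ^ (m + 1)) * y ^ (2 ^ (m + 1))) :
    (QuotientGroup.mk t : S ⧸ (zpowers (x * y⁻¹) ⊔ zpowers (x ^ (2 ^ (m + 1)) * z))) =
      QuotientGroup.mk (x ^ (2 ^ (m + 1))) := by
  have hcY : ∀ j : ℤ, (x * y⁻¹) ^ j ∈ zpowers (x * y⁻¹) ⊔ zpowers (x ^ (2 ^ (m + 1)) * z) :=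
    fun j => mem_sup_left (zpow_mem (mem_zpowers _) j)
  rcases h.involution_cases t ht with e | e | e | ⟨j, e⟩
  · rw [e]
  · rw [e, QuotientGroup.eq]
    have : x ^ (2 ^ (m + 1)) * y ^ (2 ^ (m + 1)) ∈
        zpowers (x * y⁻¹) ⊔ zpowers (x ^ (2 ^ (m + 1)) * z) := mem_sup_left h.c0_mem_c
    have e2 : (y ^ (2 ^ (m + 1)))⁻¹ * x ^ (2 ^ (m + 1)) =
        x ^ (2 ^ (m + 1)) * y ^ (2 ^ (m + 1)) := by
      rw [h.u'_inv]
      exact ((show Commute x y from h.comm).pow_pow _ _).eq.symm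
    rw [e2]; exact this
  · exact absurd e hne
  · rw [e, QuotientGroup.eq]
    have h1 : ((x * y⁻¹) ^ j * z)⁻¹ * x ^ (2 ^ (m + 1)) =
        (x ^ (2 ^ (m + 1)) * z)⁻¹ * ((x ^ (2 ^ (m + 1)) * (x * y⁻¹) ^ j *
          (x ^ (2 ^ (m + 1)))⁻¹)⁻¹ * (x ^ (2 ^ (m + 1)) * x ^ (2 ^ (m + 1)))) := by group
    rw [h1, h.u_mul_self, mul_one]
    have hub : x ^ (2 ^ (m + 1)) ∈ h.base := h.base.pow_mem h.x_mem_base _
    have hcb : (x * y⁻¹) ^ j ∈ h.base := h.base.zpow_mem h.c_mem_base j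
    rw [h.base_comm _ _ hub hcb, mul_inv_cancel_right]
    exact mul_mem (inv_mem (mem_sup_right (mem_zpowers _))) (inv_mem (hcY j))

end IsWr

section sylow

variable {G : Type*} [Group G] [Finite G] {S : Sylow 2 G} {m : ℕ} {x y z : ↥(S : Subgroup G)}

/-- the generalized quaternion subgroup inside `G` -/
def IsWr.Y0G (_h : IsWr ↥(S : Subgroup G) m x y z) : Subgroup G :=
  (zpowers (x * y⁻¹) ⊔ zpowers (x ^ (2 ^ (m + 1)) * z)).map (S : Subgroup G).subtype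

omit [Finite G] in
theorem IsWr.mem_Y0G_iff' (h : IsWr ↥(S : Subgroup G) m x y z) (g : ↥(S : Subgroup G)) :
    (g : G) ∈ h.Y0G ↔ g ∈ zpowers (x * y⁻¹) ⊔ zpowers (x ^ (2 ^ (m + 1)) * z) := by
  constructor
  · rintro ⟨g', hg', e⟩
    have : g' = g := Subtype.ext e
    rwa [← this]
  · intro hg
    exact ⟨g, hg, rfl⟩

omit [Finite G] in
theorem IsWr.Y0G_le (h : IsWr ↥(S : Subgroup G) m x y z) : h.Y0G ≤ (S : Subgroup G) := by
  rintro g ⟨g', -, rfl⟩
  exact g'.2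

omit [Finite G] in
theorem IsWr.conj_xpow_z_val (h : IsWr ↥(S : Subgroup G) m x y z) (k : ℤ) :
    (x : G) ^ k * (z : G) * ((x : G) ^ k)⁻¹ = ((x : G) * (y : G)⁻¹) ^ k * (z : G) := by
  have := congrArg Subtype.val (h.conj_xpow_z k)
  simpa using this

omit [Finite G] in
theorem IsWr.mem_Y0G_cases (h : IsWr ↥(S : Subgroup G) m x y z) (b : G) (hb : b ∈ h.Y0G) :
    ∃ i : ℤ, b = ((x : G) * (y : G)⁻¹) ^ i ∨
      b = ((x : G) ^ (2 ^ (m + 1)) * (z : G)) * ((x : G) * (y : G)⁻¹) ^ i := by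
  obtain ⟨b', hb', rfl⟩ := hb
  rcases (h.mem_Y0_iff b').mp hb' with h1 | h1
  · obtain ⟨i, hi⟩ := mem_zpowers_iff.mp h1
    refine ⟨i, Or.inl ?_⟩
    rw [← hi]; simp
  · obtain ⟨i, hi⟩ := mem_zpowers_iff.mp h1
    refine ⟨i, Or.inr ?_⟩
    have : b' = (x ^ (2 ^ (m + 1)) * z) * (x * y⁻¹) ^ i := by rw [hi]; group
    rw [this]; simp

omit [Finite G] in
theorem IsWr.cuz_mem_Y0G (h : IsWr ↥(S : Subgroup G) m x y z) (i : ℤ) :
    ((x : G) * (y : G)⁻¹) ^ i * ((x : G) ^ (2 ^ (m + 1)) * (z : G)) ∈ h.Y0G := by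
  refine ⟨(x * y⁻¹) ^ i * (x ^ (2 ^ (m + 1)) * z), ?_, by simp⟩
  exact mul_mem (mem_sup_left (zpow_mem (mem_zpowers _) i)) (mem_sup_right (mem_zpowers _))

omit [Finite G] in
theorem IsWr.z_not_mem_centralizer_baseG (h : IsWr ↥(S : Subgroup G) m x y z) :
    (z : G) ∉ centralizer (h.baseG : Set G) := by
  intro hz
  rw [mem_centralizer_iff] at hz
  exact h.z_u_ne_val (hz _ h.u_mem_baseG).symm

/-- fusion in `U` when `|N_G(U) : C_G(U)| = 2` -/
theorem IsWr.conj_eq_or_of_relIndex_two (h : IsWr ↥(S : Subgroup G) m x y z)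
    (h₁ : (centralizer (h.baseG : Set G)).relIndex (normalizer (h.baseG : Set G)) = 2)
    (a : G) (ha : a ∈ h.baseG) (g : G) (hg : g * a * g⁻¹ ∈ h.baseG) :
    g * a * g⁻¹ = a ∨ g * a * g⁻¹ = (z : G) * a * (z : G)⁻¹ := by
  have : Fact (Nat.Prime 2) := ⟨Nat.prime_two⟩
  obtain ⟨n, hnN, hn⟩ := Cfsg.Agent.Lib.Helper17.fusion_of_weaklyClosed_abelian S h.baseG_le
    (fun a ha b hb => h.baseG_comm a b ha hb) (fun a ha => h.map_conj_baseG_eq a ha) ha g hg
  rw [← hn]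
  rcases mem_or_of_relIndex_two _ _ h₁ (z : G) (h.sylow_le_normalizer_baseG z.2)
    h.z_not_mem_centralizer_baseG n hnN with hC | hC
  · left
    rw [mem_centralizer_iff] at hC
    rw [← hC _ ha, mul_inv_cancel_right]
  · right
    rw [mem_centralizer_iff] at hC
    have e1 := hC _ ha
    have : n * a * n⁻¹ = (z : G) * (((z : G)⁻¹ * n) * a * ((z : G)⁻¹ * n)⁻¹) * (z : G)⁻¹ := by
      group
    rw [this, ← e1, mul_inv_cancel_right]

theorem IsWr.not_isConj_c0_u_of_relIndex_two (h : IsWr ↥(S : Subgroup G) m x y z)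
    (h₁ : (centralizer (h.baseG : Set G)).relIndex (normalizer (h.baseG : Set G)) = 2) :
    ¬ IsConj ((x : G) ^ (2 ^ (m + 1)) * (y : G) ^ (2 ^ (m + 1))) ((x : G) ^ (2 ^ (m + 1))) := by
  intro hc
  obtain ⟨g, hg⟩ := isConj_iff.mp hc
  have hc0u : (x : G) ^ (2 ^ (m + 1)) * (y : G) ^ (2 ^ (m + 1)) ≠ (x : G) ^ (2 ^ (m + 1)) := by
    intro e; exact h.u'_ne_one_val (mul_eq_left.mp e)
  rcases h.conj_eq_or_of_relIndex_two h₁ _ h.c0_mem_baseG g
    (by rw [hg]; exact h.u_mem_baseG) with e | e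
  · rw [hg] at e; exact hc0u e.symm
  · rw [hg, h.c0_central_val _ z.2, mul_inv_cancel_right] at e; exact hc0u e.symm

set_option maxHeartbeats 800000 in
open scoped IsMulCommutative in
/-- the transfer into `S / Y₀` detects `u` -/
theorem IsWr.u_not_mem_commutator (h : IsWr ↥(S : Subgroup G) m x y z)
    (hcu : ¬ IsConj ((x : G) ^ (2 ^ (m + 1)) * (y : G) ^ (2 ^ (m + 1))) ((x : G) ^ (2 ^ (m + 1)))) :
    (x : G) ^ (2 ^ (m + 1)) ∉ commutator G := by
  have : Fact (Nat.Prime 2) := ⟨Nat.prime_two⟩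
  have hY0n := h.Y0_normal
  have hcomm : IsMulCommutative
      (↥(S : Subgroup G) ⧸ (zpowers (x * y⁻¹) ⊔ zpowers (x ^ (2 ^ (m + 1)) * z))) :=
    Normal.quotient_commutative_iff_commutator_le.mpr (by rw [h.commutator_eq]; exact le_sup_left)
  intro hu
  have huS : (x : G) ^ (2 ^ (m + 1)) ∈ (S : Subgroup G) := pow_mem x.2 _
  have hueq : (⟨(x : G) ^ (2 ^ (m + 1)), huS⟩ : ↥(S : Subgroup G)) = x ^ (2 ^ (m + 1)) :=
    Subtype.ext (by simp)
  have hsq : (QuotientGroup.mk' (zpowers (x * y⁻¹) ⊔ zpowers (x ^ (2 ^ (m + 1)) * z))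
      (x ^ (2 ^ (m + 1)))) ^ 2 = 1 := by
    rw [← map_pow, pow_two, h.u_mul_self, map_one]
  have hne : (QuotientGroup.mk' (zpowers (x * y⁻¹) ⊔ zpowers (x ^ (2 ^ (m + 1)) * z))
      (x ^ (2 ^ (m + 1)))) ≠ 1 := by
    intro e
    exact h.u_not_mem_Y0 ((QuotientGroup.eq_one_iff _).mp e)
  have hoddpow : ∀ k : ℕ, Odd k →
      (QuotientGroup.mk' (zpowers (x * y⁻¹) ⊔ zpowers (x ^ (2 ^ (m + 1)) * z))
        (x ^ (2 ^ (m + 1)))) ^ k =
      QuotientGroup.mk' (zpowers (x * y⁻¹) ⊔ zpowers (x ^ (2 ^ (m + 1)) * z))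
        (x ^ (2 ^ (m + 1))) := fun k hk => pow_eq_self_of_sq_eq_one _ hsq k hk
  have hevenpow : ∀ k : ℕ, Even k →
      (QuotientGroup.mk' (zpowers (x * y⁻¹) ⊔ zpowers (x ^ (2 ^ (m + 1)) * z))
        (x ^ (2 ^ (m + 1)))) ^ k = 1 := fun k hk => pow_eq_one_of_sq_eq_one _ hsq k hk
  have key := Cfsg.Agent.Lib.Helper8.transfer_eq_pow_mod
    (QuotientGroup.mk' (zpowers (x * y⁻¹) ⊔ zpowers (x ^ (2 ^ (m + 1)) * z)))
    ((x : G) ^ (2 ^ (m + 1))) huS (by
      intro k g₀ hk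
      rw [hueq]
      rcases Nat.even_or_odd k with hk' | hk'
      · rw [hevenpow k hk']
        have e1 : ((x : G) ^ (2 ^ (m + 1))) ^ k = 1 :=
          pow_eq_one_of_sq_eq_one _ (by rw [pow_two, h.u_sq_val]) k hk'
        have : (⟨_, hk⟩ : ↥(S : Subgroup G)) = 1 := Subtype.ext (by simp [e1])
        rw [this, map_one]
      · rw [hoddpow k hk']
        have e1 : ((x : G) ^ (2 ^ (m + 1))) ^ k = (x : G) ^ (2 ^ (m + 1)) :=
          pow_eq_self_of_sq_eq_one _ (by rw [pow_two, h.u_sq_val]) k hk'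
        have hconj : IsConj ((x : G) ^ (2 ^ (m + 1)))
            (g₀⁻¹ * ((x : G) ^ (2 ^ (m + 1))) ^ k * g₀) := by
          rw [e1, isConj_iff]; exact ⟨g₀⁻¹, by group⟩
        have ho : orderOf (⟨_, hk⟩ : ↥(S : Subgroup G)) = 2 := by
          rw [← Subgroup.orderOf_coe]
          obtain ⟨c, hc⟩ := isConj_iff.mp hconj
          have := (MulAut.conj c).orderOf_eq ((x : G) ^ (2 ^ (m + 1)))
          rw [MulAut.conj_apply, hc, h.u_orderOf_val] at this
          exact this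
        apply h.mk_invol_eq _ ho
        intro e
        apply hcu
        have e' := congrArg Subtype.val e
        simp only [Subgroup.coe_mul, Subgroup.coe_pow] at e'
        rw [e'] at hconj
        exact hconj.symm)
  have hker : MonoidHom.transfer
      (QuotientGroup.mk' (zpowers (x * y⁻¹) ⊔ zpowers (x ^ (2 ^ (m + 1)) * z)))
      ((x : G) ^ (2 ^ (m + 1))) = 1 := by
    have := Abelianization.commutator_subset_ker (MonoidHom.transfer
      (QuotientGroup.mk' (zpowers (x * y⁻¹) ⊔ zpowers (x ^ (2 ^ (m + 1)) * z)))) hu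
    exact this
  rw [key, hueq] at hker
  have hoddidx : Odd (S : Subgroup G).index := by
    rw [← Nat.not_even_iff_odd, even_iff_two_dvd]
    exact S.not_dvd_index
  rw [hoddpow _ hoddidx] at hker
  exact hne hker

/-- **the focal subgroup of `S` is `Y₀`** -/
theorem IsWr.focalSubgroup_eq (h : IsWr ↥(S : Subgroup G) m x y z)
    (hcu : ¬ IsConj ((x : G) ^ (2 ^ (m + 1)) * (y : G) ^ (2 ^ (m + 1))) ((x : G) ^ (2 ^ (m + 1))))
    (huz : IsConj ((x : G) ^ (2 ^ (m + 1))) (z : G)) :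
    (S : Subgroup G).focalSubgroup = h.Y0G := by
  have huS : (x : G) ^ (2 ^ (m + 1)) ∈ (S : Subgroup G) := pow_mem x.2 _
  have hY0le : h.Y0G ≤ (S : Subgroup G).focalSubgroup := by
    rw [IsWr.Y0G, Subgroup.map_sup, MonoidHom.map_zpowers, MonoidHom.map_zpowers, sup_le_iff,
      zpowers_le, zpowers_le]
    constructor
    · apply Subgroup.subset_closure
      refine ⟨(x * y⁻¹).2, (x : G), x.2, (z : G), ?_⟩
      have := congrArg Subtype.val h.c_eq_comm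
      simpa [commutatorElement_def] using this
    · obtain ⟨g, hg⟩ := isConj_iff.mp huz
      apply Subgroup.subset_closure
      refine ⟨(x ^ (2 ^ (m + 1)) * z).2, (x : G) ^ (2 ^ (m + 1)), huS, g, ?_⟩
      rw [commutatorElement_def]
      have e1 : (x : G) ^ (2 ^ (m + 1)) * g * ((x : G) ^ (2 ^ (m + 1)))⁻¹ * g⁻¹ =
          (x : G) ^ (2 ^ (m + 1)) * (g * (x : G) ^ (2 ^ (m + 1)) * g⁻¹)⁻¹ := by group
      rw [e1, hg, h.z_inv_val]
      simp
  apply le_antisymm _ hY0le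
  intro s hs
  have hsS : s ∈ (S : Subgroup G) := focalSubgroup_le _ hs
  have hY0n := h.Y0_normal
  have hmem : (⟨s, hsS⟩ : ↥(S : Subgroup G)) ∈
      zpowers (x * y⁻¹) ⊔ zpowers (x ^ (2 ^ (m + 1)) * z) ⊔ zpowers x := by
    rw [h.sup_Y0_zpowers_x]; trivial
  rw [← SetLike.mem_coe, Subgroup.normal_mul] at hmem
  obtain ⟨y₀, hy₀, a, ha, e⟩ := Set.mem_mul.mp hmem
  by_cases ha1 : a = 1
  · subst ha1
    rw [mul_one] at e
    have : s = (y₀ : G) := by rw [e]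
    rw [this]
    exact ⟨y₀, hy₀, rfl⟩
  · exfalso
    obtain ⟨l, hl⟩ := h.exists_pow_eq_u' a ha ha1
    apply h.u_not_mem_commutator hcu
    apply focalSubgroup_le_commutator (S : Subgroup G)
    have ha' : (a : G) ∈ (S : Subgroup G).focalSubgroup := by
      have e' : (a : G) = (y₀ : G)⁻¹ * s := by
        have := congrArg Subtype.val e
        simp only [Subgroup.coe_mul] at this
        rw [← this]; group
      rw [e']
      exact mul_mem (inv_mem (hY0le ⟨y₀, hy₀, rfl⟩)) hs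
    have := pow_mem ha' (2 ^ l)
    have e2 : (a : G) ^ (2 ^ l) = (x : G) ^ (2 ^ (m + 1)) := by
      have := congrArg Subtype.val hl
      simpa using this
    rwa [e2] at this

omit [Finite G] in
theorem IsWr.cz_inv_val (h : IsWr ↥(S : Subgroup G) m x y z) (i : ℤ) :
    (((x : G) * (y : G)⁻¹) ^ i * (z : G))⁻¹ = ((x : G) * (y : G)⁻¹) ^ i * (z : G) := by
  apply inv_eq_of_mul_eq_one_right
  have h1 := h.cz_orderOf i
  have h2 : ((x * y⁻¹) ^ i * z) * ((x * y⁻¹) ^ i * z) = 1 := by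
    have := pow_orderOf_eq_one ((x * y⁻¹) ^ i * z)
    rwa [h1, pow_two] at this
  have := congrArg Subtype.val h2
  simpa using this

omit [Finite G] in
theorem IsWr.c_zpow_mem_baseG (h : IsWr ↥(S : Subgroup G) m x y z) (i : ℤ) :
    ((x : G) * (y : G)⁻¹) ^ i ∈ h.baseG := by
  have : (((x * y⁻¹) ^ i : ↥(S : Subgroup G)) : G) ∈ h.baseG :=
    (h.mem_baseG_iff' _).mpr (h.base.zpow_mem h.c_mem_base i)
  simpa using this

omit [Finite G] in
/-- the commutator `[u, x^e d x^(-e)]` -/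
theorem IsWr.comm_u_conj (h : IsWr ↥(S : Subgroup G) m x y z) (d : G) (j : ℤ)
    (hdu : d * (x : G) ^ (2 ^ (m + 1)) * d⁻¹ = ((x : G) * (y : G)⁻¹) ^ j * (z : G)) (i : ℤ) :
    (x : G) ^ (2 ^ (m + 1)) * ((x : G) ^ (i - j) * d * ((x : G) ^ (i - j))⁻¹) *
        ((x : G) ^ (2 ^ (m + 1)))⁻¹ * ((x : G) ^ (i - j) * d * ((x : G) ^ (i - j))⁻¹)⁻¹ =
      ((x : G) * (y : G)⁻¹) ^ i * ((x : G) ^ (2 ^ (m + 1)) * (z : G)) := by
  have hXb : (x : G) ^ (i - j) ∈ h.baseG := (h.mem_baseG_iff _).mpr ⟨i - j, 0, by simp⟩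
  have hXu : ((x : G) ^ (i - j))⁻¹ * ((x : G) ^ (2 ^ (m + 1)))⁻¹ * (x : G) ^ (i - j) =
      ((x : G) ^ (2 ^ (m + 1)))⁻¹ := by
    rw [mul_assoc, h.baseG_comm _ _ (inv_mem h.u_mem_baseG) hXb, inv_mul_cancel_left]
  have hXc : (x : G) ^ (i - j) * ((x : G) * (y : G)⁻¹) ^ j * ((x : G) ^ (i - j))⁻¹ =
      ((x : G) * (y : G)⁻¹) ^ j := by
    rw [h.baseG_comm _ _ hXb (h.c_zpow_mem_baseG j), mul_inv_cancel_right]
  have hconj : (x : G) ^ (i - j) * (((x : G) * (y : G)⁻¹) ^ j * (z : G)) * ((x : G) ^ (i - j))⁻¹ =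
      ((x : G) * (y : G)⁻¹) ^ i * (z : G) := by
    calc (x : G) ^ (i - j) * (((x : G) * (y : G)⁻¹) ^ j * (z : G)) * ((x : G) ^ (i - j))⁻¹
        = ((x : G) ^ (i - j) * ((x : G) * (y : G)⁻¹) ^ j * ((x : G) ^ (i - j))⁻¹) *
          ((x : G) ^ (i - j) * (z : G) * ((x : G) ^ (i - j))⁻¹) := by group
      _ = ((x : G) * (y : G)⁻¹) ^ j * (((x : G) * (y : G)⁻¹) ^ (i - j) * (z : G)) := by
          rw [hXc, h.conj_xpow_z_val]
      _ = _ := by rw [← mul_assoc, ← zpow_add, add_sub_cancel]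
  calc (x : G) ^ (2 ^ (m + 1)) * ((x : G) ^ (i - j) * d * ((x : G) ^ (i - j))⁻¹) *
        ((x : G) ^ (2 ^ (m + 1)))⁻¹ * ((x : G) ^ (i - j) * d * ((x : G) ^ (i - j))⁻¹)⁻¹
      = (x : G) ^ (2 ^ (m + 1)) * (x : G) ^ (i - j) * (d * (((x : G) ^ (i - j))⁻¹ *
          ((x : G) ^ (2 ^ (m + 1)))⁻¹ * (x : G) ^ (i - j)) * d⁻¹) * ((x : G) ^ (i - j))⁻¹ := by
        group
    _ = (x : G) ^ (2 ^ (m + 1)) * (x : G) ^ (i - j) * (d * (x : G) ^ (2 ^ (m + 1)) * d⁻¹)⁻¹ *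
          ((x : G) ^ (i - j))⁻¹ := by rw [hXu]; group
    _ = (x : G) ^ (2 ^ (m + 1)) * ((x : G) ^ (i - j) * (((x : G) * (y : G)⁻¹) ^ j * (z : G)) *
          ((x : G) ^ (i - j))⁻¹)⁻¹ := by rw [hdu]; group
    _ = (x : G) ^ (2 ^ (m + 1)) * (((x : G) * (y : G)⁻¹) ^ i * (z : G)) := by
        rw [hconj, h.cz_inv_val]
    _ = _ := by
        rw [← mul_assoc, h.baseG_comm _ _ h.u_mem_baseG (h.c_zpow_mem_baseG i), mul_assoc]

/-- `K` has no subgroup of index 2 -/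
theorem IsWr.no_index_two_of_ker (h : IsWr ↥(S : Subgroup G) m x y z) (K : Subgroup G)
    [hKn : K.Normal] (hKS : K ⊓ (S : Subgroup G) = h.Y0G)
    (hKodd : ∀ (g : G) (N : ℕ), Odd N → g ^ N = 1 → g ∈ K)
    (d : G) (k : ℕ) (hdk : d ^ (3 ^ k) = 1) (j : ℤ)
    (hdu : d * (x : G) ^ (2 ^ (m + 1)) * d⁻¹ = ((x : G) * (y : G)⁻¹) ^ j * (z : G))
    (H : Subgroup ↥K) : H.index ≠ 2 := by
  have : Fact (Nat.Prime 2) := ⟨Nat.prime_two⟩
  intro hH
  have hodd3 : Odd (3 ^ k) := Odd.pow (by decide)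
  have hYK : h.Y0G ≤ K := by rw [← hKS]; exact inf_le_left
  have key : ∀ (i : ℤ) (hi : ((x : G) * (y : G)⁻¹) ^ i * ((x : G) ^ (2 ^ (m + 1)) * (z : G)) ∈ K),
      (⟨_, hi⟩ : ↥K) ∈ H := by
    intro i hi
    have hd'pow : ((x : G) ^ (i - j) * d * ((x : G) ^ (i - j))⁻¹) ^ (3 ^ k) = 1 := by
      rw [conj_pow, hdk]; group
    have hd'K : (x : G) ^ (i - j) * d * ((x : G) ^ (i - j))⁻¹ ∈ K := hKodd _ _ hodd3 hd'pow
    have hud'pow : ((x : G) ^ (2 ^ (m + 1)) * ((x : G) ^ (i - j) * d * ((x : G) ^ (i - j))⁻¹) *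
        ((x : G) ^ (2 ^ (m + 1)))⁻¹) ^ (3 ^ k) = 1 := by
      rw [conj_pow, hd'pow]; group
    have hud'K : (x : G) ^ (2 ^ (m + 1)) * ((x : G) ^ (i - j) * d * ((x : G) ^ (i - j))⁻¹) *
        ((x : G) ^ (2 ^ (m + 1)))⁻¹ ∈ K := hKodd _ _ hodd3 hud'pow
    have h1 : (⟨_, hud'K⟩ : ↥K) ∈ H :=
      mem_of_odd_of_index_two H hH _ _ hodd3 (Subtype.ext (by simpa using hud'pow))
    have h2 : (⟨_, hd'K⟩ : ↥K) ∈ H :=
      mem_of_odd_of_index_two H hH _ _ hodd3 (Subtype.ext (by simpa using hd'pow))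
    have h3 := H.mul_mem h1 (H.inv_mem h2)
    have e : (⟨_, hi⟩ : ↥K) = (⟨_, hud'K⟩ : ↥K) * (⟨_, hd'K⟩ : ↥K)⁻¹ := by
      apply Subtype.ext
      simp only [Subgroup.coe_mul, Subgroup.coe_inv]
      exact (h.comm_u_conj d j hdu i).symm
    rw [e]; exact h3
  obtain ⟨P₂, hP₂⟩ := exists_sylow_eq_inf_subgroupOf S K
  rw [hKS] at hP₂
  have hle : (P₂ : Subgroup ↥K) ≤ H := by
    intro b hb
    rw [hP₂, mem_subgroupOf] at hb
    have h0 := key 0 (hYK (h.cuz_mem_Y0G 0))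
    obtain ⟨i, e | e⟩ := h.mem_Y0G_cases _ hb
    · have hi := key i (hYK (h.cuz_mem_Y0G i))
      have : b = (⟨_, hYK (h.cuz_mem_Y0G i)⟩ : ↥K) * (⟨_, hYK (h.cuz_mem_Y0G 0)⟩ : ↥K)⁻¹ := by
        apply Subtype.ext
        simp only [Subgroup.coe_mul, Subgroup.coe_inv]
        rw [e]; group
      rw [this]; exact H.mul_mem hi (H.inv_mem h0)
    · have hi := key i (hYK (h.cuz_mem_Y0G i))
      have : b = (⟨_, hYK (h.cuz_mem_Y0G 0)⟩ : ↥K) * ((⟨_, hYK (h.cuz_mem_Y0G i)⟩ : ↥K) *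
          (⟨_, hYK (h.cuz_mem_Y0G 0)⟩ : ↥K)⁻¹) := by
        apply Subtype.ext
        simp only [Subgroup.coe_mul, Subgroup.coe_inv]
        rw [e]; group
      rw [this]; exact H.mul_mem h0 (H.mul_mem hi (H.inv_mem h0))
  have := index_dvd_of_le hle
  rw [hH] at this
  exact P₂.not_dvd_index this

/-- an element of 3-power order of `N_G(V)` mapping `u` outside `U` -/
theorem IsWr.exists_odd_conj_u_eq (h : IsWr ↥(S : Subgroup G) m x y z)
    (h3 : 3 ∣ (h.VG ⊔ centralizer (h.VG : Set G)).relIndex (normalizer (h.VG : Set G))) :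
    ∃ (d : G) (k : ℕ) (j : ℤ), d ^ (3 ^ k) = 1 ∧
      d * (x : G) ^ (2 ^ (m + 1)) * d⁻¹ = ((x : G) * (y : G)⁻¹) ^ j * (z : G) := by
  obtain ⟨d, hdN, hdC, k, hk⟩ := exists_three_elt_of_dvd_relIndex _ _ h3
  have hdk : d ^ (3 ^ k) = 1 := by rw [← hk]; exact pow_orderOf_eq_one d
  have hnot : d * (x : G) ^ (2 ^ (m + 1)) * d⁻¹ ∉ h.baseG := fun hmem =>
    hdC (mem_sup_right (h.odd_centralizes_VG d (3 ^ k) (Odd.pow (by decide)) hdk hdN hmem))
  have hmem : d * (x : G) ^ (2 ^ (m + 1)) * d⁻¹ ∈ h.VG :=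
    (mem_normalizer_iff.mp hdN _).mp h.u_mem_VG
  have ho : orderOf (d * (x : G) ^ (2 ^ (m + 1)) * d⁻¹) = 2 := by
    have := (MulAut.conj d).orderOf_eq ((x : G) ^ (2 ^ (m + 1)))
    rw [MulAut.conj_apply] at this
    rw [this, h.u_orderOf_val]
  rcases h.invol_cases_val _ (h.VG_le hmem) ho with e | e | e | ⟨j, e⟩
  · exact absurd (by rw [e]; exact h.u_mem_baseG) hnot
  · exact absurd (by rw [e]; exact h.u'_mem_baseG) hnot
  · exact absurd (by rw [e]; exact h.baseG.mul_mem h.u_mem_baseG h.u'_mem_baseG) hnot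
  · exact ⟨d, k, j, hdk, e⟩

/-- weak closure of the subgroups of `Z(S)` -/
theorem IsWr.center_subgroups_weaklyClosed (h : IsWr ↥(S : Subgroup G) m x y z)
    (h₁ : (centralizer (h.baseG : Set G)).relIndex (normalizer (h.baseG : Set G)) = 2)
    (hfocal : (S : Subgroup G).focalSubgroup = h.Y0G) (Z₀ : Subgroup G)
    (hZ₀ : Z₀ ≤ (Subgroup.center ↥(S : Subgroup G)).map (S : Subgroup G).subtype) :
    Cfsg.IsWeaklyClosed Z₀ (S : Subgroup G) := by
  have hZS : Z₀ ≤ (S : Subgroup G) := by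
    intro a ha
    obtain ⟨a', -, rfl⟩ := hZ₀ ha
    exact a'.2
  refine ⟨hZS, ?_⟩
  intro g hg
  -- conjugation by `z` fixes central elements
  have hzc : ∀ c' : ↥(S : Subgroup G), c' ∈ center ↥(S : Subgroup G) →
      (z : G) * (c' : G) * (z : G)⁻¹ = (c' : G) := by
    intro c' hc'
    have := mem_center_iff.mp hc' z
    have e := congrArg Subtype.val this
    simp only [Subgroup.coe_mul] at e
    rw [e, mul_inv_cancel_right]
  have key : ∀ a ∈ Z₀, g * a * g⁻¹ = a := by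
    intro a ha
    have hbS : g * a * g⁻¹ ∈ (S : Subgroup G) := hg ⟨a, ha, rfl⟩
    obtain ⟨a', ha', rfl⟩ := hZ₀ ha
    have ha'c := ha'
    rw [h.center_eq] at ha'
    obtain ⟨i, rfl⟩ := mem_zpowers_iff.mp ha'
    simp only [Subgroup.subtype_apply] at hbS ⊢
    have hwb : x * y ∈ h.base := by
      have := h.xy_mem_base 1 1
      simpa using this
    have haU : (((x * y) ^ i : ↥(S : Subgroup G)) : G) ∈ h.baseG :=
      (h.mem_baseG_iff' _).mpr (h.base.zpow_mem hwb i)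
    by_cases hbU : g * (((x * y) ^ i : ↥(S : Subgroup G)) : G) * g⁻¹ ∈ h.baseG
    · rcases h.conj_eq_or_of_relIndex_two h₁ _ haU g hbU with e | e
      · exact e
      · rw [e]; exact hzc _ ha'c
    · exfalso
      obtain ⟨k, l, e | e⟩ := h.cover ⟨_, hbS⟩
      · apply hbU
        have := (h.mem_baseG_iff' ⟨_, hbS⟩).mpr (e ▸ h.xy_mem_base k l)
        exact this
      · -- squares
        have ha2c : (x * y) ^ i * (x * y) ^ i ∈ center ↥(S : Subgroup G) := mul_mem ha'c ha'c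
        have ha2U : ((((x * y) ^ i * (x * y) ^ i : ↥(S : Subgroup G))) : G) ∈ h.baseG :=
          (h.mem_baseG_iff' _).mpr (mul_mem (h.base.zpow_mem hwb i) (h.base.zpow_mem hwb i))
        have hbb : (⟨_, hbS⟩ : ↥(S : Subgroup G)) * ⟨_, hbS⟩ = x ^ (k + l) * y ^ (k + l) := by
          rw [e, h.sq_xyz]
        have hconj2 : g * ((((x * y) ^ i * (x * y) ^ i : ↥(S : Subgroup G))) : G) * g⁻¹ =
            (((⟨_, hbS⟩ : ↥(S : Subgroup G)) * ⟨_, hbS⟩ : ↥(S : Subgroup G)) : G) := by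
          simp only [Subgroup.coe_mul]
          group
        have hb2U : g * ((((x * y) ^ i * (x * y) ^ i : ↥(S : Subgroup G))) : G) * g⁻¹ ∈ h.baseG := by
          rw [hconj2, hbb]
          exact (h.mem_baseG_iff' _).mpr (h.xy_mem_base _ _)
        have hsq : (x * y) ^ i * (x * y) ^ i = x ^ (k + l) * y ^ (k + l) := by
          rw [← hbb]
          apply Subtype.ext
          rw [← hconj2]
          rcases h.conj_eq_or_of_relIndex_two h₁ _ ha2U g hb2U with e' | e'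
          · exact e'.symm
          · rw [e']; exact (hzc _ ha2c).symm
        -- the focal subgroup
        have hfoc : (((x * y) ^ i : ↥(S : Subgroup G)) : G)⁻¹ *
            (g * (((x * y) ^ i : ↥(S : Subgroup G)) : G) * g⁻¹) ∈ (S : Subgroup G).focalSubgroup := by
          apply Subgroup.subset_closure
          refine ⟨mul_mem (inv_mem (SetLike.coe_mem _)) hbS,
            (((x * y) ^ i : ↥(S : Subgroup G)) : G)⁻¹, inv_mem (SetLike.coe_mem _), g, ?_⟩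
          rw [commutatorElement_def]; group
        rw [hfocal] at hfoc
        apply h.false_of_center_conj i k l hsq
        rw [← e, ← h.mem_Y0G_iff']
        simpa using hfoc
  ext b
  constructor
  · rintro ⟨a, ha, rfl⟩
    simp only [MulEquiv.coe_toMonoidHom, MulAut.conj_apply]
    rw [key a ha]; exact ha
  · intro hb
    exact ⟨b, hb, by simp [key b hb]⟩

omit [Finite G] in
theorem IsWr.card_sylow_eq (h : IsWr ↥(S : Subgroup G) m x y z) :
    Nat.card ↥(S : Subgroup G) = 2 * (2 ^ (m + 2) * 2 ^ (m + 2)) := by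
  have := h.base.index_mul_card
  rw [h.index_base, h.card_base] at this
  exact this.symm

/-- **The quaternion case**: `|N_G(U) : C_G(U)| = 2` and `3 ∣ |N_G(V) : V C_G(V)|`. -/
theorem IsWr.quat_case (h : IsWr ↥(S : Subgroup G) m x y z)
    (h₁ : (centralizer (h.baseG : Set G)).relIndex (normalizer (h.baseG : Set G)) = 2)
    (h₂ : 3 ∣ (h.VG ⊔ centralizer (h.VG : Set G)).relIndex (normalizer (h.VG : Set G))) :
    (∃ K : Subgroup G, K.Normal ∧ K.index = 2 ^ (m + 2) ∧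
      (∀ P : Sylow 2 ↥K, ∃ m' : ℕ, 1 ≤ m' ∧
        Nonempty ((P : Subgroup ↥K) ≃* QuaternionGroup (2 ^ m'))) ∧
      (∀ H : Subgroup ↥K, H.index ≠ 2)) ∧
    (∀ Z₀ : Subgroup G, Z₀ ≤ (Subgroup.center ↥(S : Subgroup G)).map (S : Subgroup G).subtype →
      Cfsg.IsWeaklyClosed Z₀ (S : Subgroup G)) ∧
    Nat.card {C : ConjClasses G // ∃ t : G, orderOf t = 2 ∧ ConjClasses.mk t = C} = 2 := by
  have : Fact (Nat.Prime 2) := ⟨Nat.prime_two⟩
  have hcu := h.not_isConj_c0_u_of_relIndex_two h₁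
  have huz := h.isConj_u_z_of_dvd h₂
  have hfocal := h.focalSubgroup_eq hcu huz
  refine ⟨?_, h.center_subgroups_weaklyClosed h₁ hfocal, ?_⟩
  · have hKS : (S : Subgroup G).transferFocal.ker ⊓ (S : Subgroup G) = h.Y0G := by
      rw [← hfocal]; exact ker_transferFocal_inf_eq_focalSubgroup S
    have hYK : h.Y0G ≤ (S : Subgroup G).transferFocal.ker := by rw [← hKS]; exact inf_le_left
    have hKodd : ∀ (g : G) (N : ℕ), Odd N → g ^ N = 1 → g ∈ (S : Subgroup G).transferFocal.ker := by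
      intro g N hN hg
      rw [MonoidHom.mem_ker]
      have hp : IsPGroup 2 (↥(S : Subgroup G) ⧸ (S : Subgroup G).focalSubgroupOf) :=
        S.2.to_quotient _
      obtain ⟨a, ha⟩ := hp ((S : Subgroup G).transferFocal g)
      have h1 : orderOf ((S : Subgroup G).transferFocal g) ∣ N := by
        apply orderOf_dvd_of_pow_eq_one
        rw [← map_pow, hg, map_one]
      have h2 : orderOf ((S : Subgroup G).transferFocal g) ∣ 2 ^ a := orderOf_dvd_of_pow_eq_one ha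
      have hcop : Nat.Coprime N (2 ^ a) :=
        Nat.Coprime.pow_right a (Nat.coprime_two_right.mpr hN)
      have := Nat.Coprime.eq_one_of_dvd (Nat.Coprime.coprime_dvd_left h1 hcop) h2
      exact orderOf_eq_one_iff.mp this
    obtain ⟨d, k, j, hdk, hdu⟩ := h.exists_odd_conj_u_eq h₂
    refine ⟨(S : Subgroup G).transferFocal.ker, MonoidHom.normal_ker _, ?_, ?_, ?_⟩
    · -- the index
      have e1 : (S : Subgroup G).transferFocal.ker.index =
          Nat.card (↥(S : Subgroup G) ⧸ (S : Subgroup G).focalSubgroupOf) := by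
        rw [Subgroup.index_eq_card]
        exact Nat.card_congr
          (Subgroup.transferFocal.quotientKerMulEquivQuotientFocalSubroupOf S).toEquiv
      have e2 : (S : Subgroup G).focalSubgroupOf =
          zpowers (x * y⁻¹) ⊔ zpowers (x ^ (2 ^ (m + 1)) * z) := by
        rw [focalSubgroupOf_def, hfocal, IsWr.Y0G, Subgroup.subgroupOf]
        exact Subgroup.comap_map_eq_self_of_injective (S : Subgroup G).subtype_injective _
      rw [e1, ← Subgroup.index_eq_card, e2]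
      have e3 := (zpowers (x * y⁻¹) ⊔ zpowers (x ^ (2 ^ (m + 1)) * z)).index_mul_card
      rw [h.card_Y0, h.card_sylow_eq] at e3
      have e4 : (2 : ℕ) * (2 ^ (m + 2) * 2 ^ (m + 2)) = 2 ^ (m + 2) * 2 ^ (m + 3) := by ring
      rw [e4] at e3
      exact Nat.eq_of_mul_eq_mul_right (by positivity) e3
    · -- Sylow subgroups are generalized quaternion
      intro P
      have : ((S : Subgroup G).transferFocal.ker).Normal := MonoidHom.normal_ker _
      obtain ⟨P₂, hP₂⟩ := exists_sylow_eq_inf_subgroupOf S (S : Subgroup G).transferFocal.ker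
      rw [hKS] at hP₂
      obtain ⟨eY⟩ := h.Y0_iso
      refine ⟨m + 1, by omega, ⟨?_⟩⟩
      exact (Sylow.equiv P P₂).trans ((MulEquiv.subgroupCongr hP₂).trans
        ((Subgroup.subgroupOfEquivOfLe hYK).trans
          (((zpowers (x * y⁻¹) ⊔ zpowers (x ^ (2 ^ (m + 1)) * z)).equivMapOfInjective _
            (S : Subgroup G).subtype_injective).symm.trans eY)))
    · have : ((S : Subgroup G).transferFocal.ker).Normal := MonoidHom.normal_ker _
      exact h.no_index_two_of_ker _ hKS hKodd d k hdk j hdu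
  · -- two classes of involutions
    apply IsQD.card_subtype_eq_two _
      (ConjClasses.mk ((x : G) ^ (2 ^ (m + 1)) * (y : G) ^ (2 ^ (m + 1))))
      (ConjClasses.mk ((x : G) ^ (2 ^ (m + 1))))
    · intro e
      exact hcu (ConjClasses.mk_eq_mk_iff_isConj.mp e)
    · intro C
      constructor
      · rintro ⟨t, ht, rfl⟩
        obtain ⟨g, hg⟩ := exists_conj_mem_sylow_two_of_orderOf S t 1 (by rw [ht, pow_one])
        have ho : orderOf (g * t * g⁻¹) = 2 := by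
          have := (MulAut.conj g).orderOf_eq t
          rw [MulAut.conj_apply] at this
          rw [this, ht]
        have h0 : IsConj t (g * t * g⁻¹) := isConj_iff.mpr ⟨g, rfl⟩
        rcases h.invol_cases_val _ hg ho with e | e | e | ⟨j, e⟩
        · right; rw [e] at h0; exact ConjClasses.mk_eq_mk_iff_isConj.mpr h0
        · right; rw [e] at h0
          exact ConjClasses.mk_eq_mk_iff_isConj.mpr (h0.trans h.isConj_u_u'_val.symm)
        · left; rw [e] at h0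
          exact ConjClasses.mk_eq_mk_iff_isConj.mpr h0
        · right; rw [e] at h0
          exact ConjClasses.mk_eq_mk_iff_isConj.mpr
            ((h0.trans (h.isConj_z_cz_val j).symm).trans huz.symm)
      · rintro (rfl | rfl)
        · refine ⟨_, ?_, rfl⟩
          exact orderOf_eq_prime (by rw [pow_two]; exact h.c0_sq_val) h.c0_ne_one_val
        · exact ⟨_, h.u_orderOf_val, rfl⟩

end sylow

end Cfsg.Agent.Lib.Helper18
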