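import Mathlib
import Cfsg.Prelude
import Cfsg.Agent.Lib.Helper18.WrQuatCase
import Cfsg.Agent.Lib.Helper18.SylowTransport

/-!
# Centralizers of involutions in groups with wreathed Sylow 2-subgroups and no subgroup of index 2

We construct a quaternion subgroup `Q` of order 8 of a wreathed 2-group with `Q Z(S) = V`, show
that in a group without subgroups of index two both local indices are 6 (so all involutions are
conjugate), and apply the "quaternion case" inside the centralizer of the central involution.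
-/

set_option autoImplicit false

namespace Cfsg.Agent.Lib.Helper18

open Subgroup

namespace IsWr

variable {S : Type*} [Group S] {m : ℕ} {x y z : S}

theorem orderOf_a0 (h : IsWr S m x y z) : orderOf ((x * y⁻¹) ^ (2 ^ m)) = 4 := by
  rw [orderOf_pow_of_dvd (by positivity) (by rw [h.orderOf_xy_inv]; exact pow_dvd_pow 2 (by omega)),
    h.orderOf_xy_inv]
  rw [show m + 2 = 2 + m by ring, pow_add]
  exact Nat.mul_div_cancel _ (by positivity)

theorem a0_sq (_h : IsWr S m x y z) :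
    ((x * y⁻¹) ^ (2 ^ m)) ^ 2 = (x * y⁻¹) ^ (2 ^ (m + 1)) := by
  rw [← pow_mul, ← pow_succ]

theorem conj_uz_a0 (h : IsWr S m x y z) :
    (x ^ (2 ^ (m + 1)) * z) * (x * y⁻¹) ^ (2 ^ m) * (x ^ (2 ^ (m + 1)) * z)⁻¹ =
      ((x * y⁻¹) ^ (2 ^ m))⁻¹ := by
  rw [← conj_pow, h.conj_uz_c, inv_pow]

/-- `c^(2^m) = u (xy)^(-2^m)` -/
theorem a0_eq (h : IsWr S m x y z) :
    (x * y⁻¹) ^ (2 ^ m) = x ^ (2 ^ (m + 1)) * ((x * y) ^ (2 ^ m))⁻¹ := by
  have hc : Commute x y := h.comm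
  have e1 : (x * y⁻¹) ^ (2 ^ m) = x ^ 2 ^ m * (y ^ 2 ^ m)⁻¹ := by
    rw [hc.inv_right.mul_pow, inv_pow]
  have e2 : (x * y) ^ (2 ^ m) = x ^ 2 ^ m * y ^ 2 ^ m := hc.mul_pow _
  have e3 : x ^ 2 ^ (m + 1) = x ^ 2 ^ m * x ^ 2 ^ m := by rw [← pow_add]; congr 1; ring
  have hc2 : Commute (x ^ 2 ^ m) (y ^ 2 ^ m) := hc.pow_pow _ _
  rw [e1, e2, e3, hc2.eq]
  group

/-- a quaternion subgroup `Q` of order 8 with `Q Z(S) = V` -/
theorem exists_quaternion (h : IsWr S m x y z) :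
    ∃ Q : Subgroup S, Nonempty (Q ≃* QuaternionGroup 2) ∧
      Q ⊔ center S = zpowers (x * y) ⊔ zpowers (x ^ (2 ^ (m + 1))) ⊔ zpowers z := by
  have hbb : (x ^ (2 ^ (m + 1)) * z) * (x ^ (2 ^ (m + 1)) * z) ∈ zpowers ((x * y⁻¹) ^ (2 ^ m)) := by
    rw [h.uz_sq, ← h.a0_sq]
    exact pow_mem (mem_zpowers _) _
  have hnorm : ∀ a ∈ zpowers ((x * y⁻¹) ^ (2 ^ m)),
      (x ^ (2 ^ (m + 1)) * z) * a * (x ^ (2 ^ (m + 1)) * z)⁻¹ ∈ zpowers ((x * y⁻¹) ^ (2 ^ m)) := by
    intro a ha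
    obtain ⟨k, rfl⟩ := mem_zpowers_iff.mp ha
    have e : (x ^ (2 ^ (m + 1)) * z) * ((x * y⁻¹) ^ (2 ^ m)) ^ k * (x ^ (2 ^ (m + 1)) * z)⁻¹ =
        (((x * y⁻¹) ^ (2 ^ m))⁻¹) ^ k := by
      rw [← h.conj_uz_a0, conj_zpow]
    rw [e]
    exact zpow_mem (inv_mem (mem_zpowers _)) k
  refine ⟨zpowers ((x * y⁻¹) ^ (2 ^ m)) ⊔ zpowers (x ^ (2 ^ (m + 1)) * z), ?_, ?_⟩
  · have haQ : (x * y⁻¹) ^ (2 ^ m) ∈
        zpowers ((x * y⁻¹) ^ (2 ^ m)) ⊔ zpowers (x ^ (2 ^ (m + 1)) * z) :=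
      mem_sup_left (mem_zpowers _)
    have hbQ : x ^ (2 ^ (m + 1)) * z ∈
        zpowers ((x * y⁻¹) ^ (2 ^ m)) ⊔ zpowers (x ^ (2 ^ (m + 1)) * z) :=
      mem_sup_right (mem_zpowers _)
    apply nonempty_mulEquiv_quaternionGroup ⟨(x * y⁻¹) ^ (2 ^ m), haQ⟩
      ⟨x ^ (2 ^ (m + 1)) * z, hbQ⟩ 2
    · rw [Subgroup.orderOf_mk, h.orderOf_a0]
    · apply Subtype.ext
      simp only [Subgroup.coe_pow]
      rw [pow_two, h.uz_sq, h.a0_sq]
    · apply Subtype.ext
      simp only [Subgroup.coe_mul, Subgroup.coe_inv]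
      exact h.conj_uz_a0
    · intro h1
      obtain ⟨k, hk⟩ := mem_zpowers_iff.mp h1
      have := congrArg Subtype.val hk
      simp only [Subgroup.coe_zpow] at this
      apply h.uz_not_mem_c
      rw [← this]
      exact zpow_mem (pow_mem (mem_zpowers _) _) k
    · rintro ⟨g, hg⟩
      rcases (mem_sup_zpowers_iff_of_normalizes _ _ hbb hnorm g).mp hg with h1 | h1
      · left
        obtain ⟨k, hk⟩ := mem_zpowers_iff.mp h1
        exact mem_zpowers_iff.mpr ⟨k, Subtype.ext (by simpa using hk)⟩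
      · right
        obtain ⟨k, hk⟩ := mem_zpowers_iff.mp h1
        refine ⟨⟨(x ^ (2 ^ (m + 1)) * z)⁻¹ * g,
          le_sup_left (a := zpowers ((x * y⁻¹) ^ (2 ^ m))) h1⟩,
          mem_zpowers_iff.mpr ⟨k, Subtype.ext (by simpa using hk)⟩, ?_⟩
        apply Subtype.ext
        simp only [Subgroup.coe_mul]
        group
  · rw [h.center_eq]
    have hw : x * y ∈ zpowers (x * y) ⊔ zpowers (x ^ (2 ^ (m + 1))) ⊔ zpowers z :=
      mem_sup_left (mem_sup_left (mem_zpowers _))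
    have hu : x ^ (2 ^ (m + 1)) ∈ zpowers (x * y) ⊔ zpowers (x ^ (2 ^ (m + 1))) ⊔ zpowers z :=
      mem_sup_left (mem_sup_right (mem_zpowers _))
    have hz : z ∈ zpowers (x * y) ⊔ zpowers (x ^ (2 ^ (m + 1))) ⊔ zpowers z :=
      mem_sup_right (mem_zpowers _)
    apply le_antisymm
    · apply sup_le (sup_le _ _) (zpowers_le.mpr hw)
      · rw [zpowers_le, h.a0_eq]
        exact mul_mem hu (inv_mem (pow_mem hw _))
      · rw [zpowers_le]
        exact mul_mem hu hz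
    · have ha' : (x * y⁻¹) ^ (2 ^ m) ∈
          zpowers ((x * y⁻¹) ^ (2 ^ m)) ⊔ zpowers (x ^ (2 ^ (m + 1)) * z) ⊔ zpowers (x * y) :=
        mem_sup_left (mem_sup_left (mem_zpowers _))
      have hb' : x ^ (2 ^ (m + 1)) * z ∈
          zpowers ((x * y⁻¹) ^ (2 ^ m)) ⊔ zpowers (x ^ (2 ^ (m + 1)) * z) ⊔ zpowers (x * y) :=
        mem_sup_left (mem_sup_right (mem_zpowers _))
      have hw' : x * y ∈
          zpowers ((x * y⁻¹) ^ (2 ^ m)) ⊔ zpowers (x ^ (2 ^ (m + 1)) * z) ⊔ zpowers (x * y) :=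
        mem_sup_right (mem_zpowers _)
      have hu' : x ^ (2 ^ (m + 1)) ∈
          zpowers ((x * y⁻¹) ^ (2 ^ m)) ⊔ zpowers (x ^ (2 ^ (m + 1)) * z) ⊔ zpowers (x * y) := by
        have e : x ^ (2 ^ (m + 1)) = (x * y⁻¹) ^ (2 ^ m) * (x * y) ^ (2 ^ m) := by
          rw [h.a0_eq, inv_mul_cancel_right]
        have := mul_mem ha' (pow_mem hw' (2 ^ m))
        rwa [← e] at this
      apply sup_le (sup_le (zpowers_le.mpr hw') (zpowers_le.mpr hu')) (zpowers_le.mpr _)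
      have := mul_mem (inv_mem hu') hb'
      rwa [inv_mul_cancel_left] at this

end IsWr

section val

variable {G : Type*} [Group G] {P : Subgroup G} {m : ℕ} {x y z : ↥P}

/-- a quaternion subgroup `Q` of order 8 with `Q Z(P) = V`, inside the ambient group -/
theorem IsWr.exists_quaternion_val (h : IsWr ↥P m x y z) :
    ∃ Q : Subgroup G, Nonempty (Q ≃* QuaternionGroup 2) ∧
      Q ⊔ ((Subgroup.center ↥P).map P.subtype) = h.VG := by
  obtain ⟨Q₀, ⟨e⟩, hQ⟩ := h.exists_quaternion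
  refine ⟨Q₀.map P.subtype,
    ⟨(Q₀.equivMapOfInjective P.subtype P.subtype_injective).symm.trans e⟩, ?_⟩
  rw [← Subgroup.map_sup, hQ, h.map_V]

end val

section sylow

variable {G : Type*} [Group G] [Finite G] {S : Sylow 2 G} {m : ℕ} {x y z : ↥(S : Subgroup G)}

/-- if `z` is not fused into `U` then `G` has a subgroup of index two -/
theorem IsWr.exists_index_two_of_not_isConj (h : IsWr ↥(S : Subgroup G) m x y z)
    (hnf : ∀ t ∈ h.baseG, ¬ IsConj (z : G) t) : ∃ K : Subgroup G, K.index = 2 := by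
  have hZpow : ∀ j : ℕ, Odd j → (z : G) ^ j = z := by
    rintro j ⟨l, rfl⟩
    rw [pow_succ, pow_mul, pow_two, h.z_sq_val, one_pow, one_mul]
  have hZpow' : ∀ j : ℕ, Even j → (z : G) ^ j = 1 := by
    rintro j ⟨l, rfl⟩
    rw [← two_mul, pow_mul, pow_two, h.z_sq_val, one_pow]
  obtain ⟨K, -, hKi, -⟩ := exists_normal_index_two_of_transfer S h.base
    h.index_base (z : G) z.2
    (by
      intro j g hg hj hmem
      have hval : g⁻¹ * (z : G) ^ j * g = g⁻¹ * z * g := by rw [hZpow j hj]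
      have hb : g⁻¹ * (z : G) * g ∈ h.baseG := by
        have := (h.mem_baseG_iff' _).mpr hmem
        simpa only [hval] using this
      exact hnf _ hb (isConj_iff.mpr ⟨g⁻¹, by group⟩))
    (by
      intro j g hg hj
      have : (⟨_, hg⟩ : ↥(S : Subgroup G)) = 1 := Subtype.ext (by simp [hZpow' j hj])
      rw [this]; exact one_mem _)
  exact ⟨K, hKi⟩

/-- in a group without subgroups of index two both local indices are divisible by 3 -/
theorem IsWr.three_dvd_of_no_index_two (h : IsWr ↥(S : Subgroup G) m x y z)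
    (hG : ∀ H : Subgroup G, H.index ≠ 2) :
    3 ∣ (centralizer (h.baseG : Set G)).relIndex (normalizer (h.baseG : Set G)) ∧
      3 ∣ (h.VG ⊔ centralizer (h.VG : Set G)).relIndex (normalizer (h.VG : Set G)) := by
  obtain ⟨Q, ⟨eQ⟩, hQV⟩ := h.exists_quaternion_val
  have h₂ : 3 ∣ (h.VG ⊔ centralizer (h.VG : Set G)).relIndex (normalizer (h.VG : Set G)) := by
    rcases h.relIndex_VG Q eQ hQV with h2 | h6
    · exfalso
      obtain ⟨K, hK⟩ := h.exists_index_two_of_not_isConj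
        (fun t ht => h.not_isConj_z_of_mem_baseG Q eQ hQV
          (fun t ht => sq_mem_of_relIndex_two _ _ h2 t ht) t ht)
      exact hG K hK
    · rw [h6]; norm_num
  refine ⟨?_, h₂⟩
  rcases h.relIndex_baseG with h2 | h6
  · exfalso
    obtain ⟨⟨K, hKn, hKi, -, -⟩, -, -⟩ := h.quat_case h2 h₂
    obtain ⟨H, hH⟩ := exists_index_two_of_normal_index_pow K (m + 1) hKi
    exact hG H hH
  · rw [h6]; norm_num

/-- in a group without subgroups of index two all involutions are conjugate to the central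
involution of `S` -/
theorem IsWr.invol_isConj_c0 (h : IsWr ↥(S : Subgroup G) m x y z)
    (hG : ∀ H : Subgroup G, H.index ≠ 2) (t : G) (ht : orderOf t = 2) :
    IsConj ((x : G) ^ (2 ^ (m + 1)) * (y : G) ^ (2 ^ (m + 1))) t := by
  obtain ⟨h₁, h₂⟩ := h.three_dvd_of_no_index_two hG
  have hc1 : IsConj ((x : G) ^ (2 ^ (m + 1)) * (y : G) ^ (2 ^ (m + 1)))
      ((x : G) ^ (2 ^ (m + 1))) := by
    obtain ⟨d, -, -, hd | hd⟩ := h.exists_odd_conj_center h₁
    · exact isConj_iff.mpr ⟨d, hd⟩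
    · exact (isConj_iff.mpr ⟨d, hd⟩).trans h.isConj_u_u'_val.symm
  exact hc1.trans (h.invol_isConj_u hc1 (h.isConj_u_z_of_dvd h₂) t ht).symm

/-- `u` is conjugate to `z` by an element centralizing the central involution -/
theorem IsWr.exists_conj_u_z_fixing (h : IsWr ↥(S : Subgroup G) m x y z)
    (h3 : 3 ∣ (h.VG ⊔ centralizer (h.VG : Set G)).relIndex (normalizer (h.VG : Set G))) :
    ∃ g : G, g * ((x : G) ^ (2 ^ (m + 1)) * (y : G) ^ (2 ^ (m + 1))) =
        (x : G) ^ (2 ^ (m + 1)) * (y : G) ^ (2 ^ (m + 1)) * g ∧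
      g * (x : G) ^ (2 ^ (m + 1)) * g⁻¹ = (z : G) := by
  obtain ⟨d, hdN, hdC, k, hk⟩ := exists_three_elt_of_dvd_relIndex _ _ h3
  have hnot : d * (x : G) ^ (2 ^ (m + 1)) * d⁻¹ ∉ h.baseG := fun hmem =>
    hdC (mem_sup_right (h.odd_centralizes_VG d (3 ^ k) (Odd.pow (by decide))
      (by rw [← hk]; exact pow_orderOf_eq_one d) hdN hmem))
  have hmem : d * (x : G) ^ (2 ^ (m + 1)) * d⁻¹ ∈ h.VG :=
    (mem_normalizer_iff.mp hdN _).mp h.u_mem_VG
  have ho : orderOf (d * (x : G) ^ (2 ^ (m + 1)) * d⁻¹) = 2 := by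
    have := (MulAut.conj d).orderOf_eq ((x : G) ^ (2 ^ (m + 1)))
    rw [MulAut.conj_apply] at this
    rw [this, h.u_orderOf_val]
  have hd0 := h.normalizer_VG_fixes_c0 d hdN
  rcases h.invol_cases_val _ (h.VG_le hmem) ho with e | e | e | ⟨j, e⟩
  · exact absurd (by rw [e]; exact h.u_mem_baseG) hnot
  · exact absurd (by rw [e]; exact h.u'_mem_baseG) hnot
  · exact absurd (by rw [e]; exact h.baseG.mul_mem h.u_mem_baseG h.u'_mem_baseG) hnot
  · obtain ⟨s, hs⟩ := isConj_iff.mp (h.isConj_z_cz j)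
    have hs' : (s : G) * (z : G) * (s : G)⁻¹ = ((x : G) * (y : G)⁻¹) ^ j * (z : G) := by
      have := congrArg Subtype.val hs
      simpa using this
    have hs0 := h.c0_central_val ((s : G)⁻¹) (inv_mem s.2)
    refine ⟨(s : G)⁻¹ * d, ?_, ?_⟩
    · have hd0' : d * ((x : G) ^ (2 ^ (m + 1)) * (y : G) ^ (2 ^ (m + 1))) =
          (x : G) ^ (2 ^ (m + 1)) * (y : G) ^ (2 ^ (m + 1)) * d := by
        calc d * ((x : G) ^ (2 ^ (m + 1)) * (y : G) ^ (2 ^ (m + 1)))
            = d * ((x : G) ^ (2 ^ (m + 1)) * (y : G) ^ (2 ^ (m + 1))) * d⁻¹ * d := by group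
          _ = _ := by rw [hd0]
      rw [mul_assoc, hd0', ← mul_assoc, hs0, mul_assoc]
    · have e2 : (s : G)⁻¹ * d * (x : G) ^ (2 ^ (m + 1)) * ((s : G)⁻¹ * d)⁻¹ =
          (s : G)⁻¹ * (d * (x : G) ^ (2 ^ (m + 1)) * d⁻¹) * (s : G) := by group
      rw [e2, e, ← hs']
      group

/-- the quaternion case, when the central involution of `S` is central in `G` and `u ∼ z` -/
theorem IsWr.quat_case_of_central (h : IsWr ↥(S : Subgroup G) m x y z)
    (hcen : ∀ d : G, d * ((x : G) ^ (2 ^ (m + 1)) * (y : G) ^ (2 ^ (m + 1))) =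
      (x : G) ^ (2 ^ (m + 1)) * (y : G) ^ (2 ^ (m + 1)) * d)
    (huz : IsConj ((x : G) ^ (2 ^ (m + 1))) (z : G)) :
    (∃ K : Subgroup G, K.Normal ∧ (∃ a : ℕ, K.index = 2 ^ a) ∧
      (∀ H : Subgroup ↥K, H.index ≠ 2) ∧
      (∀ P : Sylow 2 ↥K, ∃ m' : ℕ, 1 ≤ m' ∧
        Nonempty ((P : Subgroup ↥K) ≃* QuaternionGroup (2 ^ m')))) ∧
    (∀ Z₀ : Subgroup G, Z₀ ≤ (Subgroup.center ↥(S : Subgroup G)).map (S : Subgroup G).subtype →
      Cfsg.IsWeaklyClosed Z₀ (S : Subgroup G)) := by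
  have h₁ : (centralizer (h.baseG : Set G)).relIndex (normalizer (h.baseG : Set G)) = 2 := by
    rcases h.relIndex_baseG with h2 | h6
    · exact h2
    · exfalso
      obtain ⟨d, -, -, hd | hd⟩ := h.exists_odd_conj_center (by rw [h6]; norm_num)
      · rw [hcen d, mul_inv_cancel_right] at hd
        exact h.u'_ne_one_val (mul_eq_left.mp hd)
      · rw [hcen d, mul_inv_cancel_right] at hd
        exact h.u_ne_one_val (mul_eq_right.mp hd)
  obtain ⟨Q, ⟨eQ⟩, hQV⟩ := h.exists_quaternion_val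
  have h₂ : 3 ∣ (h.VG ⊔ centralizer (h.VG : Set G)).relIndex (normalizer (h.VG : Set G)) := by
    rcases h.relIndex_VG Q eQ hQV with h2 | h6
    · exfalso
      exact h.not_isConj_z_of_mem_baseG Q eQ hQV
        (fun t ht => sq_mem_of_relIndex_two _ _ h2 t ht) _ h.u_mem_baseG huz.symm
    · rw [h6]; norm_num
  obtain ⟨⟨K, hKn, hKi, hKq, hK2⟩, hwc, -⟩ := h.quat_case h₁ h₂
  exact ⟨⟨K, hKn, ⟨m + 2, hKi⟩, hK2, hKq⟩, hwc⟩

/-- **Centralizer of the central involution** in a group without subgroups of index two. -/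
theorem IsWr.centralizer_case (h : IsWr ↥(S : Subgroup G) m x y z)
    (hG : ∀ H : Subgroup G, H.index ≠ 2) (t : G)
    (ht : t = (x : G) ^ (2 ^ (m + 1)) * (y : G) ^ (2 ^ (m + 1))) :
    ∃ R : Sylow 2 ↥(centralizer ({t} : Set G)), Nat.card R = Nat.card S ∧
      (∃ K : Subgroup ↥(centralizer ({t} : Set G)), K.Normal ∧ (∃ a : ℕ, K.index = 2 ^ a) ∧
        (∀ H : Subgroup ↥K, H.index ≠ 2) ∧
        (∀ P : Sylow 2 ↥K, ∃ m' : ℕ, 1 ≤ m' ∧
          Nonempty ((P : Subgroup ↥K) ≃* QuaternionGroup (2 ^ m')))) ∧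
      (∀ Z₀ : Subgroup ↥(centralizer ({t} : Set G)),
        Z₀ ≤ (Subgroup.center (R : Subgroup ↥(centralizer ({t} : Set G)))).map
          (R : Subgroup ↥(centralizer ({t} : Set G))).subtype →
        Cfsg.IsWeaklyClosed Z₀ (R : Subgroup ↥(centralizer ({t} : Set G)))) := by
  have hle : (S : Subgroup G) ≤ centralizer ({t} : Set G) := by
    intro s hs
    rw [mem_centralizer_singleton_iff, ht]
    exact h.c0_central_val s hs
  have ĥ := h.map_equiv (sylowSubtypeEquiv S hle)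
  obtain ⟨-, h₂⟩ := h.three_dvd_of_no_index_two hG
  obtain ⟨g, hg0, hgu⟩ := h.exists_conj_u_z_fixing h₂
  refine ⟨S.subtype hle, card_sylow_subtype S hle, ?_⟩
  apply ĥ.quat_case_of_central
  · intro d
    apply Subtype.ext
    have := mem_centralizer_singleton_iff.mp d.2
    simp only [Subgroup.coe_mul, Subgroup.coe_pow, sylowSubtypeEquiv_coe]
    rw [← ht]; exact this
  · rw [isConj_iff]
    refine ⟨⟨g, mem_centralizer_singleton_iff.mpr (by rw [ht]; exact hg0)⟩, Subtype.ext ?_⟩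
    simp only [Subgroup.coe_mul, Subgroup.coe_pow, Subgroup.coe_inv, sylowSubtypeEquiv_coe]
    exact hgu

end sylow

end Cfsg.Agent.Lib.Helper18
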