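import Mathlib
import Cfsg.Agent.Lib.Helper18.WrCentralizer
import Cfsg.Agent.S1201

set_option autoImplicit false

/-!
# Wreathed 2-groups: self-centralizing subgroups with an automorphism of odd order

`X ≤ S` with `C_S(X) ≤ X` and `Aut X` not a 2-group is the base or `⟨xy⟩⟨u⟩⟨z'⟩ = Q Z(S)`.
-/

namespace Cfsg.Agent.Lib.Helper18

open Subgroup

section generic

variable {X : Type*} [Group X]

/-- `φ s = s * r` with `r` a fixed point of 2-power order forces `φ s = s` -/
theorem aut_fixes_of_mul_fixed (φ : MulAut X) (m : ℕ) (hm : Odd m) (hφ : φ ^ m = 1) (r s : X)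
    (k : ℕ) (hr : r ^ (2 ^ k) = 1) (hfix : φ r = r) (hs : φ s = s * r) : φ s = s :=
  aut_fixes_of_odd_of_coset φ m hm hφ r s k hr hfix 1 (by rw [zpow_one]; exact hs)

/-- one step of a chain of invariant subsets with steps of index two -/
theorem aut_fix_step (hX : IsPGroup 2 X) (φ : MulAut X) (m : ℕ) (hm : Odd m)
    (hφ : φ ^ m = 1) (P Q : X → Prop) (hP : ∀ a, P a → φ a = a) (hQ : ∀ a, Q a → Q (φ a))
    (hPQ : ∀ a b, Q a → Q b → ¬ P a → ¬ P b → P (a⁻¹ * b)) : ∀ a, Q a → φ a = a := by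
  intro a ha
  by_cases hPa : P a
  · exact hP a hPa
  · have hPa' : ¬ P (φ a) := by
      intro h1
      have h2 := hP _ h1
      have h3 := φ.injective h2
      exact hPa (h3 ▸ h1)
    have h1 := hPQ a (φ a) ha (hQ a ha) hPa hPa'
    obtain ⟨k, hk⟩ := hX (a⁻¹ * φ a)
    apply aut_fixes_of_mul_fixed φ m hm hφ (a⁻¹ * φ a) a k hk (hP _ h1)
    group

end generic

namespace IsWr

variable {S : Type*} [Group S] {m : ℕ} {x y z : S}

/-- `⟨x⟩ ∩ Z(S) = 1` -/
theorem x_zpow_eq_one_of_mem_center (h : IsWr S m x y z) (k : ℤ) (hk : x ^ k ∈ center S) :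
    x ^ k = 1 := by
  rw [h.center_eq] at hk
  obtain ⟨l, hl⟩ := mem_zpowers_iff.mp hk
  rw [(show Commute x y from h.comm).mul_zpow] at hl
  have e : x ^ l * y ^ l = x ^ k * y ^ (0 : ℤ) := by rw [hl, zpow_zero, mul_one]
  obtain ⟨e1, e2⟩ := h.eq_of_eq _ _ _ _ e
  rw [zpow_zero] at e2
  rw [← e1]
  exact (h.pow_eq_one_iff l).mpr e2

/-- elements of the base whose square is central lie in `⟨xy⟩⟨u⟩` -/
theorem mem_V0_of_sq_mem_center (h : IsWr S m x y z) (t : S) (ht : t ∈ h.base)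
    (hsq : t * t ∈ center S) : t ∈ zpowers (x * y) ⊔ zpowers (x ^ (2 ^ (m + 1))) := by
  obtain ⟨i, j, rfl⟩ := ht
  have hw : ∀ l : ℤ, (x * y) ^ l ∈ center S := fun l => by
    rw [h.center_eq]; exact zpow_mem (mem_zpowers _) l
  have e1 : x ^ i * y ^ j = x ^ (i - j) * (x * y) ^ j := by
    rw [(show Commute x y from h.comm).mul_zpow, ← mul_assoc, ← zpow_add]
    congr 2; ring
  have hc : Commute (x ^ (i - j)) ((x * y) ^ j) := mem_center_iff.mp (hw j) _
  have e2 : x ^ i * y ^ j * (x ^ i * y ^ j) = x ^ (2 * (i - j)) * (x * y) ^ (2 * j) := by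
    rw [e1, two_mul, two_mul, zpow_add, zpow_add]
    calc x ^ (i - j) * (x * y) ^ j * (x ^ (i - j) * (x * y) ^ j)
        = x ^ (i - j) * ((x * y) ^ j * x ^ (i - j)) * (x * y) ^ j := by group
      _ = x ^ (i - j) * (x ^ (i - j) * (x * y) ^ j) * (x * y) ^ j := by rw [hc.eq]
      _ = _ := by group
  rw [e2] at hsq
  have h3 : x ^ (2 * (i - j)) ∈ center S := by
    have := (center S).mul_mem hsq ((center S).inv_mem (hw (2 * j)))
    rwa [mul_inv_cancel_right] at this
  have h4 := h.x_zpow_eq_one_of_mem_center _ h3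
  rw [two_mul, zpow_add] at h4
  rw [e1, h.mem_V0_iff]
  rcases h.x_pow_cases _ h4 with e | e
  · exact ⟨j, Or.inl (by rw [e, one_mul])⟩
  · exact ⟨j, Or.inr (by rw [e])⟩

/-- squares of elements outside the base are central -/
theorem sq_mem_center_of_not_mem_base (h : IsWr S m x y z) (t : S) (ht : t ∉ h.base) :
    t * t ∈ center S := by
  obtain ⟨i, j, rfl | rfl⟩ := h.cover t
  · exact absurd (h.xy_mem_base i j) ht
  · rw [h.sq_xyz, h.center_eq, ← (show Commute x y from h.comm).mul_zpow]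
    exact zpow_mem (mem_zpowers _) _

/-- the base has exponent `2^(m+2)` -/
theorem pow_card_eq_one_of_mem_base (h : IsWr S m x y z) (t : S) (ht : t ∈ h.base) :
    t ^ (2 ^ (m + 2)) = 1 := by
  obtain ⟨i, j, rfl⟩ := ht
  rw [((h.commute_xy i j)).mul_pow, ← zpow_natCast, ← zpow_natCast, ← zpow_mul, ← zpow_mul,
    mul_comm i, mul_comm j, zpow_mul, zpow_mul, zpow_natCast, zpow_natCast, h.x_pow_card,
    h.y_pow_card, one_zpow, one_zpow, one_mul]

/-- an element outside the base of order at most `2^(m+2)` yields an involution outside the base -/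
theorem exists_involution_of_pow_eq_one (h : IsWr S m x y z) (X : Subgroup S) (hZ : center S ≤ X)
    (t : S) (htX : t ∈ X) (ht : t ∉ h.base) (hpow : t ^ (2 ^ (m + 2)) = 1) :
    ∃ z' ∈ X, z' ∉ h.base ∧ orderOf z' = 2 := by
  obtain ⟨i, j, e | e⟩ := h.cover t
  · exact absurd (e ▸ h.xy_mem_base i j) ht
  have hsq : t * t = (x * y) ^ (i + j) := by
    rw [e, h.sq_xyz, (show Commute x y from h.comm).mul_zpow]
  have h1 : (x * y) ^ ((i + j) * ((2 ^ (m + 1) : ℕ) : ℤ)) = 1 := by
    rw [zpow_mul, ← hsq, zpow_natCast, ← pow_two, ← pow_mul, ← pow_succ']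
    exact hpow
  rw [← orderOf_dvd_iff_zpow_eq_one, h.orderOf_xy] at h1
  have h2 : (2 : ℤ) ∣ i + j := by
    have e2 : ((2 ^ (m + 2) : ℕ) : ℤ) = 2 * ((2 ^ (m + 1) : ℕ) : ℤ) := by
      push_cast; ring
    rw [e2] at h1
    exact (mul_dvd_mul_iff_right (by positivity : ((2 ^ (m + 1) : ℕ) : ℤ) ≠ 0)).mp h1
  obtain ⟨l, hl⟩ := h2
  have hwl : (x * y) ^ l ∈ center S := by
    rw [h.center_eq]; exact zpow_mem (mem_zpowers _) l
  have hwb : (x * y) ^ l ∈ h.base := h.center_le_base hwl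
  refine ⟨t * ((x * y) ^ l)⁻¹, X.mul_mem htX (X.inv_mem (hZ hwl)), ?_, ?_⟩
  · intro h3
    apply ht
    have := h.base.mul_mem h3 hwb
    rwa [inv_mul_cancel_right] at this
  · have hne : t * ((x * y) ^ l)⁻¹ ≠ 1 := by
      intro h3
      apply ht
      rw [mul_inv_eq_one] at h3
      rw [h3]; exact hwb
    apply orderOf_eq_prime _ hne
    have hc : Commute t ((x * y) ^ l)⁻¹ :=
      (mem_center_iff.mp ((center S).inv_mem hwl) t)
    rw [pow_two]
    calc t * ((x * y) ^ l)⁻¹ * (t * ((x * y) ^ l)⁻¹)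
        = t * (((x * y) ^ l)⁻¹ * t) * ((x * y) ^ l)⁻¹ := by group
      _ = t * (t * ((x * y) ^ l)⁻¹) * ((x * y) ^ l)⁻¹ := by rw [hc.eq]
      _ = (t * t) * (((x * y) ^ l)⁻¹ * ((x * y) ^ l)⁻¹) := by group
      _ = 1 := by
          rw [hsq, hl, two_mul, zpow_add]; group

/-- an automorphism of odd order of `X ≥ Z(S)` leaving `X ∩ base` and `Z(S)` invariant is trivial -/
theorem aut_eq_one_of_invariant (h : IsWr S m x y z) (X : Subgroup S) (hZ : center S ≤ X)
    (φ : MulAut X) (k : ℕ) (hk : Odd k) (hφ : φ ^ k = 1)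
    (hinv : ∀ t : X, (t : S) ∈ h.base → (φ t : S) ∈ h.base)
    (hcen : ∀ t : X, (t : S) ∈ center S → (φ t : S) ∈ center S) : φ = 1 := by
  have := h.finite
  have hXp : IsPGroup 2 X := h.isPGroup.to_subgroup X
  have hwc : x * y ∈ center S := by rw [h.center_eq]; exact mem_zpowers _
  -- step 1: the centre is fixed pointwise
  have hw' : φ ⟨x * y, hZ hwc⟩ = ⟨x * y, hZ hwc⟩ := by
    apply aut_fixes_of_odd_of_mem_zpowers φ k hk hφ _ (m + 2)
    · rw [Subgroup.orderOf_mk, h.orderOf_xy]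
    · have h1 := hcen ⟨x * y, hZ hwc⟩ hwc
      rw [h.center_eq] at h1
      obtain ⟨l, hl⟩ := mem_zpowers_iff.mp h1
      rw [mem_zpowers_iff]
      refine ⟨l, Subtype.ext ?_⟩
      rw [Subgroup.coe_zpow]; exact hl
  have hfixZ : ∀ t : X, (t : S) ∈ center S → φ t = t := by
    intro t ht
    rw [h.center_eq] at ht
    obtain ⟨l, hl⟩ := mem_zpowers_iff.mp ht
    have e : t = (⟨x * y, hZ hwc⟩ : X) ^ l := Subtype.ext (by rw [Subgroup.coe_zpow]; exact hl.symm)
    rw [e, map_zpow, hw']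
  -- step 2: the chain
  have hchain : ∀ (j : ℕ) (t : X), ((t : S) ∈ h.base ∧ (t : S) ^ (2 ^ j) ∈ center S) → φ t = t := by
    intro j
    induction j with
    | zero =>
      intro t ht
      rw [pow_zero, pow_one] at ht
      exact hfixZ t ht.2
    | succ j ih =>
      apply aut_fix_step hXp φ k hk hφ _ _ ih
      · rintro a ⟨ha1, ha2⟩
        refine ⟨hinv a ha1, ?_⟩
        have := hcen (a ^ (2 ^ (j + 1))) (by rw [Subgroup.coe_pow]; exact ha2)
        rwa [map_pow, Subgroup.coe_pow] at this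
      · rintro a b ⟨ha1, ha2⟩ ⟨hb1, hb2⟩ ha3 hb3
        have key : ∀ c : S, c ∈ h.base → c ^ (2 ^ (j + 1)) ∈ center S → c ^ (2 ^ j) ∉ center S →
            ∃ i : ℤ, c ^ (2 ^ j) = x ^ (2 ^ (m + 1)) * (x * y) ^ i := by
          intro c hc1 hc2 hc3
          have h1 : c ^ (2 ^ j) ∈ zpowers (x * y) ⊔ zpowers (x ^ (2 ^ (m + 1))) := by
            apply h.mem_V0_of_sq_mem_center _ (h.base.pow_mem hc1 _)
            rw [← pow_add, ← two_mul, ← pow_succ']; exact hc2
          obtain ⟨i, e | e⟩ := (h.mem_V0_iff _).mp h1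
          · exfalso; apply hc3; rw [e, h.center_eq]; exact zpow_mem (mem_zpowers _) i
          · exact ⟨i, e⟩
        obtain ⟨i, hi⟩ := key a ha1 ha2 (fun h' => ha3 ⟨ha1, h'⟩)
        obtain ⟨i', hi'⟩ := key b hb1 hb2 (fun h' => hb3 ⟨hb1, h'⟩)
        refine ⟨?_, ?_⟩
        · rw [Subgroup.coe_mul, Subgroup.coe_inv]
          exact h.base.mul_mem (h.base.inv_mem ha1) hb1
        · rw [Subgroup.coe_mul, Subgroup.coe_inv]
          have hc : Commute ((a : S)⁻¹) (b : S) := h.base_comm _ _ (h.base.inv_mem ha1) hb1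
          rw [hc.mul_pow, inv_pow, hi, hi']
          have e : (x ^ (2 ^ (m + 1)) * (x * y) ^ i)⁻¹ * (x ^ (2 ^ (m + 1)) * (x * y) ^ i') =
              (x * y) ^ (i' - i) := by
            rw [zpow_sub]
            have hc3 : Commute ((x * y) ^ i') ((x * y) ^ i)⁻¹ :=
              ((Commute.refl (x * y)).zpow_zpow i' i).inv_right
            rw [hc3.eq]; group
          rw [e, h.center_eq]; exact zpow_mem (mem_zpowers _) _
  -- step 3: the base part is fixed pointwise
  have hfixA : ∀ t : X, (t : S) ∈ h.base → φ t = t := by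
    intro t ht
    apply hchain (m + 2) t ⟨ht, ?_⟩
    rw [h.pow_card_eq_one_of_mem_base _ ht]; exact one_mem _
  -- step 4
  have hall : ∀ t : X, True → φ t = t := by
    apply aut_fix_step hXp φ k hk hφ (fun t : X => (t : S) ∈ h.base) (fun _ => True) hfixA
      (fun _ _ => trivial)
    intro a b _ _ ha hb
    show ((a⁻¹ * b : X) : S) ∈ h.base
    rw [Subgroup.coe_mul, Subgroup.coe_inv, mul_mem_iff_of_index_two h.index_base, inv_mem_iff]
    exact ⟨fun h' => absurd h' ha, fun h' => absurd h' hb⟩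
  ext t
  rw [hall t trivial]; rfl

theorem isWreathed (h : IsWr S m x y z) : Cfsg.IsWreathed S :=
  ⟨m + 2, by omega, h.card, x, y, z, h.hx, h.comm, h.disj, h.hz, h.rel⟩

/-- for non-commutative `X ≥ Z(S)`, automorphisms of `X` preserve `Z(S)` -/
theorem center_invariant_of_noncomm (h : IsWr S m x y z) (X : Subgroup S)
    (hX : ¬ IsMulCommutative X) (φ : MulAut X) (t : X) (ht : (t : S) ∈ center S) :
    (φ t : S) ∈ center S := by
  have := h.finite
  have h1 : t ∈ center X := by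
    rw [mem_center_iff]
    intro b
    exact Subtype.ext (mem_center_iff.mp ht b)
  have h2 : φ t ∈ center X := by
    have := (Subgroup.characteristic_iff_comap_eq.mp (Subgroup.centerCharacteristic (G := X))) φ
    rw [← this] at h1
    exact h1
  exact Cfsg.Agent.S1201.result h.isWreathed X hX ⟨φ t, h2, rfl⟩

/-- case without involutions outside the base -/
theorem aut_eq_one_of_no_involution (h : IsWr S m x y z) (X : Subgroup S) (hZ : center S ≤ X)
    (g : S) (hgX : g ∈ X) (hgb : g ∉ h.base)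
    (hno : ∀ t ∈ X, t ∉ h.base → orderOf t ≠ 2)
    (φ : MulAut X) (k : ℕ) (hk : Odd k) (hφ : φ ^ k = 1) : φ = 1 := by
  have hinv : ∀ t : X, (t : S) ∈ h.base → (φ t : S) ∈ h.base := by
    intro t ht
    by_contra hnot
    have h1 : ((φ t : X) : S) ^ (2 ^ (m + 2)) = 1 := by
      rw [← Subgroup.coe_pow, ← map_pow]
      have : t ^ (2 ^ (m + 2)) = 1 :=
        Subtype.ext (by rw [Subgroup.coe_pow]; exact h.pow_card_eq_one_of_mem_base _ ht)
      rw [this, map_one]; rfl
    obtain ⟨z', hz'X, hz'b, hz'⟩ := h.exists_involution_of_pow_eq_one X hZ _ (φ t).2 hnot h1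
    exact hno z' hz'X hz'b hz'
  apply h.aut_eq_one_of_invariant X hZ φ k hk hφ hinv
  by_cases hX : IsMulCommutative X
  · intro t ht
    have h1 := hinv t (h.center_le_base ht)
    apply h.central_of_comm_outside _ g h1 hgb
    have := hX.is_comm.comm ⟨g, hgX⟩ (φ t)
    exact congrArg Subtype.val this
  · exact fun t ht => h.center_invariant_of_noncomm X hX φ t ht

/-- case with an element of the base whose square is not central -/
theorem aut_eq_one_of_sq_not_central (h : IsWr S m x y z) (X : Subgroup S) (hZ : center S ≤ X)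
    (g : S) (hgX : g ∈ X) (hgb : g ∉ h.base) (e : S) (heX : e ∈ X) (heb : e ∈ h.base)
    (hee : e * e ∉ center S)
    (φ : MulAut X) (k : ℕ) (hk : Odd k) (hφ : φ ^ k = 1) : φ = 1 := by
  have hX : ¬ IsMulCommutative X := by
    intro hX
    apply hee
    apply (center S).mul_mem <;>
    · apply h.central_of_comm_outside _ g heb hgb
      have := hX.is_comm.comm ⟨g, hgX⟩ ⟨e, heX⟩
      exact congrArg Subtype.val this
  have hcen : ∀ (ψ : MulAut X) (t : X), (t : S) ∈ center S → (ψ t : S) ∈ center S :=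
    fun ψ t ht => h.center_invariant_of_noncomm X hX ψ t ht
  -- elements with non-central square are mapped into the base
  have h1 : ∀ s : X, (s : S) * (s : S) ∉ center S → (φ s : S) ∈ h.base := by
    intro s hs
    by_contra hnot
    apply hs
    have h2 := h.sq_mem_center_of_not_mem_base _ hnot
    have h3 := hcen φ⁻¹ (φ s * φ s) (by rw [Subgroup.coe_mul]; exact h2)
    rw [← map_mul, MulAut.inv_apply_self] at h3
    rwa [Subgroup.coe_mul] at h3
  have hinv : ∀ t : X, (t : S) ∈ h.base → (φ t : S) ∈ h.base := by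
    intro t ht
    by_cases htt : (t : S) * (t : S) ∈ center S
    · have h2 : ((t * ⟨e, heX⟩ : X) : S) * ((t * ⟨e, heX⟩ : X) : S) ∉ center S := by
        intro h3
        apply hee
        rw [Subgroup.coe_mul] at h3
        have e1 : (t : S) * e * ((t : S) * e) = ((t : S) * (t : S)) * (e * e) := by
          have := h.base_comm _ _ ht heb
          calc (t : S) * e * ((t : S) * e) = (t : S) * (e * (t : S)) * e := by group
            _ = (t : S) * ((t : S) * e) * e := by rw [this]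
            _ = _ := by group
        rw [e1] at h3
        have := (center S).mul_mem ((center S).inv_mem htt) h3
        rwa [inv_mul_cancel_left] at this
      have h3 := h1 _ h2
      have h4 := h1 ⟨e, heX⟩ hee
      rw [map_mul, Subgroup.coe_mul] at h3
      have := h.base.mul_mem h3 (h.base.inv_mem h4)
      rwa [mul_inv_cancel_right] at this
    · exact h1 t htt
  exact h.aut_eq_one_of_invariant X hZ φ k hk hφ hinv (hcen φ)

/-- elements of a commutative `X ∋ z`: `(xy)^i` or `(xy)^i z` -/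
theorem comm_cases (h : IsWr S m x y z) (X : Subgroup S) (hzX : z ∈ X)
    (hX : IsMulCommutative X) (t : S) (ht : t ∈ X) :
    ∃ i : ℤ, t = (x * y) ^ i ∨ t = (x * y) ^ i * z := by
  have key : ∀ c ∈ X, c ∈ h.base → ∃ i : ℤ, c = (x * y) ^ i := by
    intro c hcX hcb
    have h1 : c ∈ center S := by
      apply h.central_of_comm_outside c z hcb h.z_not_mem
      have := hX.is_comm.comm ⟨z, hzX⟩ ⟨c, hcX⟩
      exact congrArg Subtype.val this
    rw [h.center_eq] at h1
    obtain ⟨i, hi⟩ := mem_zpowers_iff.mp h1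
    exact ⟨i, hi.symm⟩
  by_cases htb : t ∈ h.base
  · obtain ⟨i, hi⟩ := key t ht htb
    exact ⟨i, Or.inl hi⟩
  · have h1 : t * z ∈ h.base := by
      rw [mul_mem_iff_of_index_two h.index_base]
      exact ⟨fun h' => absurd h' htb, fun h' => absurd h' h.z_not_mem⟩
    obtain ⟨i, hi⟩ := key _ (X.mul_mem ht hzX) h1
    refine ⟨i, Or.inr ?_⟩
    rw [← hi, mul_assoc, h.z_mul_self, mul_one]

theorem z_pow_two_pow (h : IsWr S m x y z) : z ^ (2 ^ (m + 1)) = 1 := by
  rw [pow_succ', pow_mul, pow_two, h.z_mul_self, one_pow]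

/-- `(xy)^(i 2^(m+1))` is `1` or the central involution -/
theorem w_zpow_half_cases (h : IsWr S m x y z) (i : ℤ) :
    ((x * y) ^ i) ^ (2 ^ (m + 1)) = 1 ∧ Even i ∨
      ((x * y) ^ i) ^ (2 ^ (m + 1)) = (x * y) ^ (2 ^ (m + 1)) ∧ Odd i := by
  have hc0 : ((x * y) ^ (2 ^ (m + 1))) ^ 2 = 1 := by
    rw [← pow_mul, ← pow_succ, ← h.orderOf_xy]; exact pow_orderOf_eq_one _
  have e : ((x * y) ^ i) ^ (2 ^ (m + 1)) = ((x * y) ^ (2 ^ (m + 1))) ^ i := by
    rw [← zpow_natCast, ← zpow_mul, mul_comm, zpow_mul, zpow_natCast]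
  rw [e]
  rcases Int.even_or_odd' i with ⟨l, rfl | rfl⟩
  · left
    refine ⟨?_, ⟨l, by ring⟩⟩
    rw [zpow_mul, zpow_two, ← pow_two, hc0, one_zpow]
  · right
    refine ⟨?_, ⟨l, rfl⟩⟩
    rw [zpow_add, zpow_one, zpow_mul, zpow_two, ← pow_two, hc0, one_zpow, one_mul]

/-- commutative case with an involution outside the base -/
theorem aut_eq_one_of_comm_involution (h : IsWr S m x y z) (X : Subgroup S) (hZ : center S ≤ X)
    (hzX : z ∈ X) (hX : IsMulCommutative X)
    (φ : MulAut X) (k : ℕ) (hk : Odd k) (hφ : φ ^ k = 1) : φ = 1 := by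
  have := h.finite
  have hXp : IsPGroup 2 X := h.isPGroup.to_subgroup X
  have hwz : ∀ i : ℤ, Commute ((x * y) ^ i) z := fun i =>
    ((show Commute z (x * y) from h.xy_central z).zpow_right i).symm
  have hwc : x * y ∈ center S := by rw [h.center_eq]; exact mem_zpowers _
  have hc0 : (x * y) ^ (2 ^ (m + 1)) ≠ 1 := by
    apply pow_ne_one_of_lt_orderOf (by positivity)
    rw [h.orderOf_xy]
    exact Nat.pow_lt_pow_right (by norm_num) (by omega)
  -- `2^(m+1)`-th powers
  have hpow : ∀ t : S, t ∈ X → ∃ i : ℤ, (t = (x * y) ^ i ∨ t = (x * y) ^ i * z) ∧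
      t ^ (2 ^ (m + 1)) = ((x * y) ^ i) ^ (2 ^ (m + 1)) := by
    intro t ht
    obtain ⟨i, e | e⟩ := h.comm_cases X hzX hX t ht
    · exact ⟨i, Or.inl e, by rw [e]⟩
    · refine ⟨i, Or.inr e, ?_⟩
      rw [e, (hwz i).mul_pow, h.z_pow_two_pow, mul_one]
  -- step 0: squares of central elements are fixed
  have hsw : ∀ (a : X) (i : ℤ), (a ^ i) ^ 2 = (a ^ 2) ^ i := by
    intro a i
    rw [← zpow_natCast (a ^ i), ← zpow_mul, mul_comm, zpow_mul, zpow_natCast]
  have hφw : φ ((⟨x * y, hZ hwc⟩ : X) ^ 2) ∈ zpowers ((⟨x * y, hZ hwc⟩ : X) ^ 2) := by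
    obtain ⟨i, e | e⟩ := h.comm_cases X hzX hX _ (φ ⟨x * y, hZ hwc⟩).2
    · have e' : φ ⟨x * y, hZ hwc⟩ = (⟨x * y, hZ hwc⟩ : X) ^ i :=
        Subtype.ext (by rw [Subgroup.coe_zpow]; exact e)
      rw [map_pow, e', hsw]
      exact zpow_mem (mem_zpowers _) i
    · have e' : φ ⟨x * y, hZ hwc⟩ = (⟨x * y, hZ hwc⟩ : X) ^ i * ⟨z, hzX⟩ :=
        Subtype.ext (by rw [Subgroup.coe_mul, Subgroup.coe_zpow]; exact e)
      have hc : Commute ((⟨x * y, hZ hwc⟩ : X) ^ i) (⟨z, hzX⟩ : X) :=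
        Subtype.ext (by
          rw [Subgroup.coe_mul, Subgroup.coe_mul, Subgroup.coe_zpow]; exact (hwz i).eq)
      have hz2 : (⟨z, hzX⟩ : X) ^ 2 = 1 :=
        Subtype.ext (by rw [Subgroup.coe_pow, pow_two]; exact h.z_mul_self)
      rw [map_pow, e', hc.mul_pow, hz2, mul_one, hsw]
      exact zpow_mem (mem_zpowers _) i
  obtain ⟨k2, hk2⟩ := (IsPGroup.iff_orderOf.mp hXp) ((⟨x * y, hZ hwc⟩ : X) ^ 2)
  have hfix2 := aut_fixes_of_odd_of_mem_zpowers φ k hk hφ _ k2 hk2 hφw
  have hsq : ∀ t : X, (∃ i : ℤ, (t : S) = (x * y) ^ (2 * i)) → φ t = t := by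
    rintro t ⟨i, hi⟩
    have e : t = ((⟨x * y, hZ hwc⟩ : X) ^ 2) ^ i :=
      Subtype.ext (by
        rw [Subgroup.coe_zpow, Subgroup.coe_pow, hi, zpow_mul, zpow_two, pow_two])
    rw [e, map_zpow, hfix2]
  -- step 1
  have hstep1 : ∀ t : X, (t : S) ^ (2 ^ (m + 1)) = 1 → φ t = t := by
    apply aut_fix_step hXp φ k hk hφ _ _ hsq
    · intro a ha
      rw [← Subgroup.coe_pow, ← map_pow]
      have : a ^ (2 ^ (m + 1)) = 1 := Subtype.ext (by rw [Subgroup.coe_pow]; exact ha)
      rw [this, map_one]; rfl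
    · intro a b ha hb ha' hb'
      have key : ∀ c : X, (c : S) ^ (2 ^ (m + 1)) = 1 →
          (¬ ∃ i : ℤ, (c : S) = (x * y) ^ (2 * i)) → ∃ l : ℤ, (c : S) = (x * y) ^ (2 * l) * z := by
        intro c hc hc'
        obtain ⟨i, e, e2⟩ := hpow c c.2
        rw [hc] at e2
        rcases h.w_zpow_half_cases i with ⟨_, ⟨l, hl⟩⟩ | ⟨h3, _⟩
        · have hl' : i = 2 * l := by omega
          rcases e with e | e
          · exact absurd ⟨l, by rw [e, hl']⟩ hc'
          · exact ⟨l, by rw [e, hl']⟩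
        · exfalso
          rw [h3] at e2
          exact hc0 e2.symm
      obtain ⟨l, hl⟩ := key a ha ha'
      obtain ⟨l', hl'⟩ := key b hb hb'
      refine ⟨l' - l, ?_⟩
      rw [Subgroup.coe_mul, Subgroup.coe_inv, hl, hl']
      have e : ((x * y) ^ (2 * l) * z)⁻¹ * ((x * y) ^ (2 * l') * z) =
          z⁻¹ * ((x * y) ^ (2 * (l' - l)) * z) := by
        rw [mul_sub, zpow_sub]; group
      rw [e, (hwz _).eq, inv_mul_cancel_left]
  -- step 2
  have hall : ∀ t : X, True → φ t = t := by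
    apply aut_fix_step hXp φ k hk hφ (fun t : X => (t : S) ^ (2 ^ (m + 1)) = 1) (fun _ => True)
      hstep1 (fun _ _ => trivial)
    intro a b _ _ ha hb
    show ((a⁻¹ * b : X) : S) ^ (2 ^ (m + 1)) = 1
    have key : ∀ c : X, (c : S) ^ (2 ^ (m + 1)) ≠ 1 →
        (c : S) ^ (2 ^ (m + 1)) = (x * y) ^ (2 ^ (m + 1)) := by
      intro c hc
      obtain ⟨i, -, e2⟩ := hpow c c.2
      rcases h.w_zpow_half_cases i with ⟨h3, _⟩ | ⟨h3, _⟩
      · exact absurd (e2.trans h3) hc
      · exact e2.trans h3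
    have hcomm : Commute ((a : S)⁻¹) (b : S) := by
      have := hX.is_comm.comm a⁻¹ b
      have h2 := congrArg Subtype.val this
      rw [Subgroup.coe_mul, Subgroup.coe_mul, Subgroup.coe_inv] at h2
      exact h2
    rw [Subgroup.coe_mul, Subgroup.coe_inv, hcomm.mul_pow, inv_pow, key a ha, key b hb,
      inv_mul_cancel]
  ext t
  rw [hall t trivial]; rfl

/-- all squares of `X ∩ base` central and `X` not commutative: `X = ⟨xy⟩⟨u⟩⟨z⟩` -/
theorem eq_V_of_sq_central (h : IsWr S m x y z) (X : Subgroup S) (hZ : center S ≤ X)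
    (hzX : z ∈ X) (hX : ¬ IsMulCommutative X)
    (hsq : ∀ e ∈ X, e ∈ h.base → e * e ∈ center S) :
    X = zpowers (x * y) ⊔ zpowers (x ^ (2 ^ (m + 1))) ⊔ zpowers z := by
  have hV0 : ∀ e ∈ X, e ∈ h.base → e ∈ zpowers (x * y) ⊔ zpowers (x ^ (2 ^ (m + 1))) :=
    fun e heX heb => h.mem_V0_of_sq_mem_center e heb (hsq e heX heb)
  obtain ⟨t, htX, htb, htc⟩ : ∃ t ∈ X, t ∈ h.base ∧ t ∉ center S := by
    by_contra hcon
    push Not at hcon
    apply hX
    refine ⟨⟨fun a b => Subtype.ext ?_⟩⟩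
    show (a : S) * b = b * a
    by_cases ha : (a : S) ∈ h.base
    · exact (mem_center_iff.mp (hcon _ a.2 ha) _).symm
    · by_cases hb : (b : S) ∈ h.base
      · exact mem_center_iff.mp (hcon _ b.2 hb) _
      · have h1 : (a : S)⁻¹ * b ∈ h.base := by
          rw [mul_mem_iff_of_index_two h.index_base, inv_mem_iff]
          exact ⟨fun h' => absurd h' ha, fun h' => absurd h' hb⟩
        have h2 := hcon _ (X.mul_mem (X.inv_mem a.2) b.2) h1
        have h3 := mem_center_iff.mp h2 (a : S)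
        calc (a : S) * b = (a : S) * ((a : S) * ((a : S)⁻¹ * (b : S))) := by group
          _ = (a : S) * (((a : S)⁻¹ * (b : S)) * (a : S)) := by rw [h3]
          _ = (b : S) * (a : S) := by group
  have huX : x ^ (2 ^ (m + 1)) ∈ X := by
    obtain ⟨i, e | e⟩ := (h.mem_V0_iff t).mp (hV0 t htX htb)
    · exfalso; apply htc; rw [e, h.center_eq]; exact zpow_mem (mem_zpowers _) i
    · have hwi : (x * y) ^ i ∈ X := hZ (by rw [h.center_eq]; exact zpow_mem (mem_zpowers _) i)
      have := X.mul_mem htX (X.inv_mem hwi)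
      rwa [e, mul_inv_cancel_right] at this
  apply le_antisymm
  · intro a ha
    by_cases hab : a ∈ h.base
    · exact mem_sup_left (hV0 a ha hab)
    · have h1 : a * z ∈ h.base := by
        rw [mul_mem_iff_of_index_two h.index_base]
        exact ⟨fun h' => absurd h' hab, fun h' => absurd h' h.z_not_mem⟩
      have h2 := hV0 _ (X.mul_mem ha hzX) h1
      have e : a = (a * z) * z⁻¹ := by group
      rw [e]
      exact mul_mem (mem_sup_left h2) (inv_mem (mem_sup_right (mem_zpowers z)))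
  · apply sup_le
    · apply sup_le
      · rw [zpowers_le]; exact hZ (by rw [h.center_eq]; exact mem_zpowers _)
      · rw [zpowers_le]; exact huX
    · rw [zpowers_le]; exact hzX

/-- the classification: self-centralizing subgroups with an automorphism of odd order -/
theorem selfCentralizing_cases [Finite S] (h : IsWr S m x y z) (X : Subgroup S)
    (hC : centralizer (X : Set S) ≤ X) (hA : ¬ IsPGroup 2 (MulAut X)) :
    X = h.base ∨ ∃ z' : S, IsWr S m x y z' ∧
      X = zpowers (x * y) ⊔ zpowers (x ^ (2 ^ (m + 1))) ⊔ zpowers z' := by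
  have hZ : center S ≤ X := (Subgroup.center_le_centralizer _).trans hC
  by_cases hXb : X ≤ h.base
  · left
    apply le_antisymm hXb
    intro a ha
    apply hC
    rw [mem_centralizer_iff]
    intro b hb
    exact h.base_comm _ _ (hXb hb) ha
  · right
    obtain ⟨g, hgX, hgb⟩ : ∃ g ∈ X, g ∉ h.base := by
      by_contra hcon
      push Not at hcon
      exact hXb hcon
    by_contra hcon
    apply hA
    apply isPGroup_two_mulAut_of_odd_trivial
    intro φ k hk hφ
    by_cases hinv : ∃ z' ∈ X, z' ∉ h.base ∧ orderOf z' = 2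
    · obtain ⟨z', hz'X, hz'b, hz'⟩ := hinv
      have h' := h.of_involution z' hz' hz'b
      have hbase : h'.base = h.base := h.base_of_involution z' hz' hz'b
      by_cases hXc : IsMulCommutative X
      · exact h'.aut_eq_one_of_comm_involution X hZ hz'X hXc φ k hk hφ
      · by_cases he : ∃ e ∈ X, e ∈ h.base ∧ e * e ∉ center S
        · obtain ⟨e, heX, heb, hee⟩ := he
          exact h.aut_eq_one_of_sq_not_central X hZ g hgX hgb e heX heb hee φ k hk hφ
        · push Not at he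
          exfalso
          apply hcon
          refine ⟨z', h', h'.eq_V_of_sq_central X hZ hz'X hXc ?_⟩
          intro e heX heb
          rw [hbase] at heb
          exact he e heX heb
    · push Not at hinv
      exact h.aut_eq_one_of_no_involution X hZ g hgX hgb hinv φ k hk hφ

/-- `|N_S(V) : V| = 2` for `V = ⟨xy⟩⟨u⟩⟨z⟩` -/
theorem relIndex_normalizer_V [Finite S] (h : IsWr S m x y z) :
    (zpowers (x * y) ⊔ zpowers (x ^ (2 ^ (m + 1))) ⊔ zpowers z).relIndex
      (normalizer ((zpowers (x * y) ⊔ zpowers (x ^ (2 ^ (m + 1))) ⊔ zpowers z : Subgroup S) :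
        Set S)) = 2 := by
  have hwV : x * y ∈ zpowers (x * y) ⊔ zpowers (x ^ (2 ^ (m + 1))) ⊔ zpowers z :=
    mem_sup_left (mem_sup_left (mem_zpowers _))
  have huV : x ^ (2 ^ (m + 1)) ∈ zpowers (x * y) ⊔ zpowers (x ^ (2 ^ (m + 1))) ⊔ zpowers z :=
    mem_sup_left (mem_sup_right (mem_zpowers _))
  have hzV : z ∈ zpowers (x * y) ⊔ zpowers (x ^ (2 ^ (m + 1))) ⊔ zpowers z :=
    mem_sup_right (mem_zpowers _)
  have hwb : x * y ∈ h.base := h.base.mul_mem h.x_mem_base h.y_mem_base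
  have hub : x ^ (2 ^ (m + 1)) ∈ h.base := h.base.pow_mem h.x_mem_base _
  have hs₀b : x ^ (2 ^ m) ∈ h.base := h.base.pow_mem h.x_mem_base _
  have hs₀N : x ^ (2 ^ m) ∈ normalizer
      ((zpowers (x * y) ⊔ zpowers (x ^ (2 ^ (m + 1))) ⊔ zpowers z : Subgroup S) : Set S) := by
    apply Cfsg.Agent.Lib.Helper17.mem_normalizer_of_map_conj_le
    have e1 : x ^ (2 ^ m) * (x * y) * (x ^ (2 ^ m))⁻¹ = x * y := by
      rw [h.base_comm _ _ hs₀b hwb, mul_inv_cancel_right]
    have e2 : x ^ (2 ^ m) * x ^ (2 ^ (m + 1)) * (x ^ (2 ^ m))⁻¹ = x ^ (2 ^ (m + 1)) := by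
      rw [h.base_comm _ _ hs₀b hub, mul_inv_cancel_right]
    rw [Subgroup.map_sup, Subgroup.map_sup, MonoidHom.map_zpowers, MonoidHom.map_zpowers,
      MonoidHom.map_zpowers]
    simp only [MulEquiv.coe_toMonoidHom, MulAut.conj_apply]
    rw [e1, e2, h.conj_s0_z]
    apply sup_le
    · apply sup_le
      · rw [zpowers_le]; exact hwV
      · rw [zpowers_le]; exact huV
    · rw [zpowers_le]
      exact mul_mem (mul_mem huV (inv_mem (pow_mem hwV _))) hzV
  have hs₀V : x ^ (2 ^ m) ∉ zpowers (x * y) ⊔ zpowers (x ^ (2 ^ (m + 1))) ⊔ zpowers z := by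
    intro hs
    have h1 : x ^ (2 ^ m) ∈ zpowers (x * y) ⊔ zpowers (x ^ (2 ^ (m + 1))) := by
      obtain ⟨i, e | e | e | e⟩ := (h.mem_V_iff _).mp hs
      · rw [e]; exact mem_sup_left (zpow_mem (mem_zpowers _) i)
      · rw [e]
        exact mul_mem (mem_sup_right (mem_zpowers _)) (mem_sup_left (zpow_mem (mem_zpowers _) i))
      · exfalso; apply h.z_not_mem
        have hb : (x * y) ^ i ∈ h.base := h.base.zpow_mem hwb i
        have := h.base.mul_mem hs₀b (h.base.inv_mem hb)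
        rwa [e, mul_inv_cancel_right] at this
      · exfalso; apply h.z_not_mem
        have hb : x ^ (2 ^ (m + 1)) * (x * y) ^ i ∈ h.base :=
          h.base.mul_mem hub (h.base.zpow_mem hwb i)
        have := h.base.mul_mem hs₀b (h.base.inv_mem hb)
        rwa [e, mul_inv_cancel_right] at this
    apply h.u_not_mem_w
    obtain ⟨i, e | e⟩ := (h.mem_V0_iff _).mp h1
    · rw [← h.s0_mul_self, e, ← zpow_add]; exact zpow_mem (mem_zpowers _) _
    · rw [← h.s0_mul_self, e]
      have hc : Commute (x ^ (2 ^ (m + 1))) ((x * y) ^ i) :=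
        mem_center_iff.mp (by rw [h.center_eq]; exact zpow_mem (mem_zpowers _) i) _
      have e3 : x ^ (2 ^ (m + 1)) * (x * y) ^ i * (x ^ (2 ^ (m + 1)) * (x * y) ^ i) =
          (x * y) ^ (i + i) := by
        calc x ^ (2 ^ (m + 1)) * (x * y) ^ i * (x ^ (2 ^ (m + 1)) * (x * y) ^ i)
            = x ^ (2 ^ (m + 1)) * ((x * y) ^ i * x ^ (2 ^ (m + 1))) * (x * y) ^ i := by group
          _ = x ^ (2 ^ (m + 1)) * (x ^ (2 ^ (m + 1)) * (x * y) ^ i) * (x * y) ^ i := by
              rw [hc.eq]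
          _ = (x ^ (2 ^ (m + 1)) * x ^ (2 ^ (m + 1))) * ((x * y) ^ i * (x * y) ^ i) := by group
          _ = _ := by rw [h.u_mul_self, one_mul, zpow_add]
      rw [e3]; exact zpow_mem (mem_zpowers _) _
  rw [relIndex_eq_two_iff_exists_notMem_and']
  refine ⟨(x ^ (2 ^ m))⁻¹, inv_mem hs₀N, fun h' => hs₀V (by simpa using inv_mem h'), ?_⟩
  intro b hb
  have h1 : b * z * b⁻¹ ∈ zpowers (x * y) ⊔ zpowers (x ^ (2 ^ (m + 1))) ⊔ zpowers z :=
    (mem_normalizer_iff.mp hb z).mp hzV
  rcases h.mem_V_or_of_conj_z_mem b h1 with h2 | h2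
  · exact Or.inr h2
  · exact Or.inl h2

/-- the subgroups `⟨xy⟩⟨u⟩⟨z'⟩` are all conjugate -/
theorem exists_conj_V (h : IsWr S m x y z) (z' : S) (h' : IsWr S m x y z') :
    ∃ s : S, (zpowers (x * y) ⊔ zpowers (x ^ (2 ^ (m + 1))) ⊔ zpowers z).map
        (MulAut.conj s).toMonoidHom =
      zpowers (x * y) ⊔ zpowers (x ^ (2 ^ (m + 1))) ⊔ zpowers z' := by
  have hz'b : z' ∉ h.base := by
    intro hb
    apply h'.z_not_mem
    rw [h'.mem_base_iff]; exact (h.mem_base_iff _).mp hb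
  obtain ⟨k, hk⟩ : ∃ k : ℤ, z' = (x * y⁻¹) ^ k * z := by
    rcases h.involution_cases z' h'.hz with e | e | e | e
    · exfalso; apply hz'b; rw [e]; exact h.base.pow_mem h.x_mem_base _
    · exfalso; apply hz'b; rw [e]; exact h.base.pow_mem h.y_mem_base _
    · exfalso; apply hz'b; rw [e]
      exact h.base.mul_mem (h.base.pow_mem h.x_mem_base _) (h.base.pow_mem h.y_mem_base _)
    · exact e
  refine ⟨x ^ k, ?_⟩
  have hsb : x ^ k ∈ h.base := h.base.zpow_mem h.x_mem_base k
  have e1 : x ^ k * (x * y) * (x ^ k)⁻¹ = x * y := by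
    rw [h.base_comm _ _ hsb (h.base.mul_mem h.x_mem_base h.y_mem_base), mul_inv_cancel_right]
  have e2 : x ^ k * x ^ (2 ^ (m + 1)) * (x ^ k)⁻¹ = x ^ (2 ^ (m + 1)) := by
    rw [h.base_comm _ _ hsb (h.base.pow_mem h.x_mem_base _), mul_inv_cancel_right]
  rw [Subgroup.map_sup, Subgroup.map_sup, MonoidHom.map_zpowers, MonoidHom.map_zpowers,
    MonoidHom.map_zpowers]
  simp only [MulEquiv.coe_toMonoidHom, MulAut.conj_apply]
  rw [e1, e2, h.conj_xpow_z, ← hk]

end IsWr

end Cfsg.Agent.Lib.Helper18
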