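import Mathlib
import Cfsg.Agent.Lib.Helper16.NM.Base
import Cfsg.Agent.Lib.Helper16.NM.Tool

/-!
S4146 leaf FL (helper18): the fixed-point lemma.
-/

set_option autoImplicit false

namespace Cfsg.Agent.Lib.Helper18.NM

open Cfsg.Agent.Lib.Helper22.ClsSet Cfsg.Agent.Lib.Helper16.NM

variable {G : Type*} [Group G] [Finite G] {n m : ℕ}

/-- `idx g = n * m` as soon as `n * m ∣ idx g` -/
theorem idx_eq_nm_of_dvd (h : CS G n m) {g : G} (hd : n * m ∣ idx g) : idx g = n * m :=
  h.idx_of_dvd_dvd (dvd_trans (dvd_mul_right n m) hd) (dvd_trans (dvd_mul_left m n) hd)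

/-- subgroups of a finite group with `H ≤ K` and equal index are equal -/
theorem eq_of_le_of_index_eq {H K : Subgroup G} (hle : H ≤ K) (hi : H.index = K.index) : H = K := by
  apply Subgroup.eq_of_le_of_card_ge hle
  have h1 := Subgroup.card_mul_index H
  have h2 := Subgroup.card_mul_index K
  rw [hi] at h1
  have h3 : K.index ≠ 0 := Subgroup.index_ne_zero_of_finite
  have : Nat.card H = Nat.card K :=
    Nat.eq_of_mul_eq_mul_right (Nat.pos_of_ne_zero h3) (h1.trans h2.symm)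
  exact this.ge

/-- the commutator map `v ↦ v⁻¹ (h0 v h0⁻¹)` on an abelian normal subgroup -/
noncomputable def commHom (V : Subgroup G) [V.Normal] (hVc : ∀ v ∈ V, ∀ w ∈ V, Commute v w) (h0 : G) :
    V →* G :=
  MonoidHom.mk' (fun v => (v : G)⁻¹ * (h0 * v * h0⁻¹)) (by
    intro a b
    have ha' : h0 * (a : G) * h0⁻¹ ∈ V := ‹V.Normal›.conj_mem _ a.2 h0
    have hb' : h0 * (b : G) * h0⁻¹ ∈ V := ‹V.Normal›.conj_mem _ b.2 h0
    have hc : Commute ((b : G)⁻¹) ((a : G)⁻¹ * (h0 * a * h0⁻¹)) :=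
      hVc _ (V.inv_mem b.2) _ (V.mul_mem (V.inv_mem a.2) ha')
    have e : ((a * b : V) : G) = (a : G) * (b : G) := rfl
    rw [e]
    calc ((a : G) * b)⁻¹ * (h0 * ((a : G) * b) * h0⁻¹)
        = (b : G)⁻¹ * ((a : G)⁻¹ * (h0 * a * h0⁻¹)) * (h0 * b * h0⁻¹) := by group
      _ = ((a : G)⁻¹ * (h0 * a * h0⁻¹)) * (b : G)⁻¹ * (h0 * b * h0⁻¹) := by rw [hc.eq]
      _ = (a : G)⁻¹ * (h0 * a * h0⁻¹) * ((b : G)⁻¹ * (h0 * b * h0⁻¹)) := by group)

theorem commHom_apply (V : Subgroup G) [V.Normal] (hVc : ∀ v ∈ V, ∀ w ∈ V, Commute v w) (h0 : G)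
    (v : V) : commHom V hVc h0 v = (v : G)⁻¹ * (h0 * v * h0⁻¹) := rfl

/-- the key step: an `s`-element `g` with `C(g) ≤ C(h0)` cannot exist -/
theorem FL_key {s : ℕ} [Fact s.Prime]
    (V : Subgroup G) [V.Normal] (hVs : ∀ v ∈ V, PEl s v)
    (hVc : ∀ v ∈ V, ∀ w ∈ V, Commute v w)
    {h0 : G} (hcop : (orderOf h0).Coprime s)
    {v0 : G} (hv0 : v0 ∈ V) (hv0c : ¬ Commute v0 h0)
    {g : G} (hg : PEl s g) (hgc : Commute g h0)
    (hle : Subgroup.centralizer ({g} : Set G) ≤ Subgroup.centralizer ({h0} : Set G)) : False := by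
  classical
  have hs : s.Prime := Fact.out
  set φ := commHom V hVc h0 with hφ
  set W : Subgroup G := φ.range with hW
  -- `W ≤ V`
  have hWV : W ≤ V := by
    rintro w ⟨v, rfl⟩
    rw [commHom_apply]
    exact V.mul_mem (V.inv_mem v.2) (‹V.Normal›.conj_mem _ v.2 h0)
  -- `V` is an `s`-group
  have hVp : IsPGroup s V := by
    intro v
    obtain ⟨k, hk⟩ := hVs v v.2
    refine ⟨k, ?_⟩
    apply Subtype.ext
    rw [Subgroup.coe_pow, ← hk, pow_orderOf_eq_one]
    rfl
  have hWp : IsPGroup s W := hVp.to_le hWV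
  -- `W ≠ ⊥`
  have hw0 : φ ⟨v0, hv0⟩ ∈ W := ⟨⟨v0, hv0⟩, rfl⟩
  have hw0ne : φ ⟨v0, hv0⟩ ≠ 1 := by
    intro e
    rw [commHom_apply] at e
    apply hv0c
    have e1 : h0 * v0 * h0⁻¹ = v0 := by
      have : (v0 : G)⁻¹ * (h0 * v0 * h0⁻¹) = 1 := e
      calc h0 * v0 * h0⁻¹ = v0 * (v0⁻¹ * (h0 * v0 * h0⁻¹)) := by group
        _ = v0 := by rw [this, mul_one]
    have : h0 * v0 = v0 * h0 := by
      calc h0 * v0 = (h0 * v0 * h0⁻¹) * h0 := by group
        _ = v0 * h0 := by rw [e1]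
    exact this.symm
  -- `W ⊓ C(h0) = 1`
  have hdisj : ∀ w ∈ W, Commute w h0 → w = 1 := by
    rintro w ⟨v, rfl⟩ hc
    set w := φ v with hw
    have hwdef : h0 * (v : G) * h0⁻¹ = (v : G) * w := by
      rw [hw, commHom_apply]; group
    have key : ∀ k : ℕ, h0 ^ k * (v : G) * (h0 ^ k)⁻¹ = (v : G) * w ^ k := by
      intro k
      induction k with
      | zero => simp
      | succ k ih =>
        have hc' : h0 * w ^ k * h0⁻¹ = w ^ k := by
          have : Commute h0 (w ^ k) := (hc.symm).pow_right k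
          rw [this.eq]; group
        calc h0 ^ (k + 1) * (v : G) * (h0 ^ (k + 1))⁻¹
            = h0 * (h0 ^ k * (v : G) * (h0 ^ k)⁻¹) * h0⁻¹ := by rw [pow_succ']; group
          _ = h0 * ((v : G) * w ^ k) * h0⁻¹ := by rw [ih]
          _ = (h0 * (v : G) * h0⁻¹) * (h0 * w ^ k * h0⁻¹) := by group
          _ = (v : G) * w * w ^ k := by rw [hwdef, hc']
          _ = (v : G) * w ^ (k + 1) := by rw [pow_succ']; group
    have h1 := key (orderOf h0)
    rw [pow_orderOf_eq_one, inv_one, mul_one, one_mul] at h1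
    have h2 : w ^ orderOf h0 = 1 := by
      have := h1.symm
      exact mul_left_cancel (a := (v : G)) (by rw [this, mul_one])
    obtain ⟨j, hj⟩ := hVs w (hWV ⟨v, rfl⟩)
    have h3 : orderOf w ∣ orderOf h0 := orderOf_dvd_of_pow_eq_one h2
    have h4 : Nat.Coprime (orderOf w) (orderOf h0) := by
      rw [hj]; exact (Nat.Coprime.pow_left j hcop.symm)
    have h5 : orderOf w = 1 := Nat.Coprime.eq_one_of_dvd h4 h3
    exact orderOf_eq_one_iff.1 h5
  -- `zpowers g` normalizes `W`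
  have hnorm : ∀ a ∈ Subgroup.zpowers g, ∀ w ∈ W, a * w * a⁻¹ ∈ W := by
    intro a ha w hw
    have hac : Commute a h0 := by
      obtain ⟨k, rfl⟩ := Subgroup.mem_zpowers_iff.1 ha
      exact hgc.zpow_left k
    obtain ⟨v, rfl⟩ := hw
    refine ⟨⟨a * v * a⁻¹, ‹V.Normal›.conj_mem _ v.2 a⟩, ?_⟩
    rw [commHom_apply, commHom_apply]
    have e1 : h0 * a = a * h0 := hac.eq.symm
    have e2 : a⁻¹ * h0⁻¹ = h0⁻¹ * a⁻¹ := by rw [← mul_inv_rev, ← mul_inv_rev, e1]
    show (a * (v : G) * a⁻¹)⁻¹ * (h0 * (a * (v : G) * a⁻¹) * h0⁻¹)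
      = a * ((v : G)⁻¹ * (h0 * v * h0⁻¹)) * a⁻¹
    calc (a * (v : G) * a⁻¹)⁻¹ * (h0 * (a * (v : G) * a⁻¹) * h0⁻¹)
        = a * (v : G)⁻¹ * a⁻¹ * ((h0 * a) * (v : G) * (a⁻¹ * h0⁻¹)) := by group
      _ = a * (v : G)⁻¹ * a⁻¹ * ((a * h0) * (v : G) * (h0⁻¹ * a⁻¹)) := by rw [e1, e2]
      _ = a * ((v : G)⁻¹ * (h0 * v * h0⁻¹)) * a⁻¹ := by group
  letI act : MulAction (Subgroup.zpowers g) W :=
    { smul := fun a w => ⟨(a : G) * (w : G) * (a : G)⁻¹, hnorm a a.2 w w.2⟩
      one_smul := fun w => Subtype.ext (by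
        show ((1 : Subgroup.zpowers g) : G) * (w : G) * ((1 : Subgroup.zpowers g) : G)⁻¹ = w
        simp)
      mul_smul := fun a b w => Subtype.ext (by
        show ((a * b : Subgroup.zpowers g) : G) * (w : G) * ((a * b : Subgroup.zpowers g) : G)⁻¹
          = (a : G) * ((b : G) * (w : G) * (b : G)⁻¹) * (a : G)⁻¹
        simp [mul_assoc]) }
  have hgp : IsPGroup s (Subgroup.zpowers g) := by
    obtain ⟨k, hk⟩ := hg
    exact IsPGroup.of_card (n := k) (by rw [Nat.card_zpowers, hk])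
  have hcardW : s ∣ Nat.card W := by
    obtain ⟨k, hk⟩ := IsPGroup.iff_card.1 hWp
    rw [hk]
    have hk0 : k ≠ 0 := by
      rintro rfl
      rw [pow_zero] at hk
      have hbot : W = ⊥ := Subgroup.card_eq_one.1 hk
      rw [hbot, Subgroup.mem_bot] at hw0
      exact hw0ne hw0
    exact dvd_pow_self s hk0
  have h1fix : (1 : W) ∈ MulAction.fixedPoints (Subgroup.zpowers g) W := by
    intro a
    apply Subtype.ext
    show (a : G) * ((1 : W) : G) * (a : G)⁻¹ = ((1 : W) : G)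
    simp
  obtain ⟨b, hbfix, hb1⟩ := hgp.exists_fixed_point_of_prime_dvd_card_of_fixed_point W hcardW h1fix
  -- `b` commutes with `g`
  have hbg : (g : G) * (b : G) * g⁻¹ = (b : G) := by
    have := hbfix ⟨g, Subgroup.mem_zpowers g⟩
    exact congrArg Subtype.val this
  have hbC : (b : G) ∈ Subgroup.centralizer ({g} : Set G) := by
    rw [mem_cent_singleton]
    calc g * (b : G) = (g * (b : G) * g⁻¹) * g := by group
      _ = (b : G) * g := by rw [hbg]
  have hbh0 := hle hbC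
  rw [mem_cent_singleton] at hbh0
  have hb1' : (b : G) = 1 := hdisj b b.2 hbh0.symm
  apply hb1
  apply Subtype.ext
  rw [hb1']
  rfl

/-- **FL** (fixed-point lemma) -/
theorem FL (h : CS G n m) (hlt : m < n) {s : ℕ} [Fact s.Prime] (hsn : s ∣ n)
    (V : Subgroup G) [V.Normal] (hV : ∀ g, g ∈ V ↔ g ∈ M h hlt ∧ PEl s g)
    (hVc : ∀ v ∈ V, ∀ w ∈ V, Commute v w)
    (hno : ∀ g : G, PEl s g → idx g ≠ n)
    {h0 : G} (hcop : (orderOf h0).Coprime s) (hidx : n ∣ idx h0)
    (hfix : ∀ v ∈ V, Commute v h0 → v ∈ Subgroup.center G)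
    (hnt : ¬ V ≤ Subgroup.center G) :
    (∀ g : G, PEl s g → g ∈ V) ∧
    (Nat.card G).factorization s =
      n.factorization s + (Nat.card (Subgroup.center G)).factorization s := by
  have hs : s.Prime := Fact.out
  have hn0 : n ≠ 0 := by have := h.one_lt_n; omega
  have hm0 : m ≠ 0 := by have := h.one_lt_m; omega
  have hsm : ¬ s ∣ m := by
    intro hd
    have h1 := Nat.dvd_gcd hsn hd
    rw [h.cop] at h1
    exact hs.one_lt.ne' (Nat.dvd_one.1 h1)
  have hfac : (n * m).factorization s = n.factorization s := by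
    rw [Nat.factorization_mul hn0 hm0, Finsupp.add_apply,
      Nat.factorization_eq_zero_of_not_dvd hsm, add_zero]
  obtain ⟨v0, hv0, hv0z⟩ : ∃ v0 ∈ V, v0 ∉ Subgroup.center G := by
    by_contra hcon
    push Not at hcon
    exact hnt hcon
  have hv0c : ¬ Commute v0 h0 := fun hc => hv0z (hfix v0 hv0 hc)
  have claim1 : ∀ g : G, PEl s g → Commute g h0 → g ∈ Subgroup.center G := by
    intro g hg hgc
    rcases h.cs g with h1 | h1 | h1 | h1
    · exact (idx_eq_one_iff g).1 h1
    · exact absurd h1 (hno g hg)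
    · have hgV : g ∈ V := (hV g).2 ⟨(mem_M h hlt g).2 (Or.inr h1), hg⟩
      exact hfix g hgV hgc
    · exfalso
      obtain ⟨k, hk⟩ := hg
      have hco : (orderOf g).Coprime (orderOf h0) := by
        rw [hk]; exact Nat.Coprime.pow_left k hcop.symm
      have hd : idx g ∣ idx (g * h0) := idx_dvd_mul_left_of_coprime hgc hco
      rw [h1] at hd
      have h2 : idx (g * h0) = n * m := idx_eq_nm_of_dvd h hd
      have h3 : Subgroup.centralizer ({g * h0} : Set G) =
          Subgroup.centralizer ({g} : Set G) ⊓ Subgroup.centralizer ({h0} : Set G) :=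
        cent_mul_of_coprime hgc hco
      have h4 : Subgroup.centralizer ({g} : Set G) ⊓ Subgroup.centralizer ({h0} : Set G) =
          Subgroup.centralizer ({g} : Set G) := by
        apply eq_of_le_of_index_eq inf_le_left
        rw [← h3]
        change idx (g * h0) = idx g
        rw [h2, h1]
      have hle : Subgroup.centralizer ({g} : Set G) ≤ Subgroup.centralizer ({h0} : Set G) := by
        rw [← h4]; exact inf_le_right
      exact FL_key V (fun v hv => ((hV v).1 hv).2) hVc hcop hv0 hv0c ⟨k, hk⟩ hgc hle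
  have hidx0 : (idx h0).factorization s = n.factorization s := by
    have h0cases : idx h0 = n ∨ idx h0 = n * m := by
      rcases h.cs h0 with h1 | h1 | h1 | h1
      · exfalso
        rw [h1] at hidx
        have := Nat.le_of_dvd one_pos hidx
        have := h.one_lt_n
        omega
      · exact Or.inl h1
      · exfalso
        rw [h1] at hidx
        have h5 := Nat.dvd_gcd (dvd_refl n) hidx
        rw [h.cop] at h5
        have := Nat.le_of_dvd one_pos h5
        have := h.one_lt_n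
        omega
      · exact Or.inr h1
    rcases h0cases with h1 | h1
    · rw [h1]
    · rw [h1, hfac]
  refine ⟨?_, ?_⟩
  · intro g hg
    rw [hV]
    refine ⟨?_, hg⟩
    rw [mem_M]
    rcases h.cs g with h1 | h1 | h1 | h1
    · exact Or.inl h1
    · exact absurd h1 (hno g hg)
    · exact Or.inr h1
    · exfalso
      have hle : (idx h0).factorization s ≤ (idx g).factorization s := by
        rw [hidx0, h1, hfac]
      have hz := central_of_factorization_le claim1 hg hle
      have h6 := (idx_eq_one_iff g).2 hz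
      rw [h1] at h6
      have := h.one_lt_n
      have := h.one_lt_m
      nlinarith
  · rw [factorization_card_eq claim1, hidx0]

end Cfsg.Agent.Lib.Helper18.NM
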