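import Mathlib
import Cfsg.Agent.Lib.Helper16.NM.Base
import Cfsg.Agent.Lib.Helper4.CoprimeIndex
import Cfsg.Agent.Lib.Helper17.ClassGraph1
import Cfsg.Agent.Lib.Helper17.Coprime

/-!
S4146 leaf M2 (helper18): elements of `M` of order prime to `n` centralize every element of index `n`.
Route: all-or-none (coprime indices: `G = C(z) C(x)`), Sylow for `p`-elements, induction on the order.
-/

set_option autoImplicit false

namespace Cfsg.Agent.Lib.Helper18.NM

open Cfsg.Agent.Lib.Helper22.ClsSet Cfsg.Agent.Lib.Helper16.NM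
open scoped Pointwise

variable {G : Type*} [Group G] [Finite G] {n m : ℕ}

/-- all-or-none: an element of `M` commuting with one conjugate of `x` (index `n`) commutes with `x` -/
theorem commute_of_commute_conj (h : CS G n m) (hlt : m < n) {x z : G} (hix : idx x = n)
    (hz : z ∈ M h hlt) (g : G) (hc : Commute z (g * x * g⁻¹)) : Commute x z := by
  rcases (mem_M h hlt z).1 hz with h1 | h1
  · have hzc : z ∈ Subgroup.center G := (idx_eq_one_iff z).1 h1
    exact (Subgroup.mem_center_iff.1 hzc x)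
  · have hcop : Nat.Coprime (Subgroup.centralizer ({z} : Set G)).index
        (Subgroup.centralizer ({x} : Set G)).index := by
      change Nat.Coprime (idx z) (idx x)
      rw [h1, hix]
      exact h.cop.symm
    obtain ⟨a, ha, b, hb, hg⟩ := Cfsg.Agent.Lib.Helper4.forall_mul_of_coprime_index _ _ hcop g
    rw [mem_cent_singleton] at ha hb
    -- g x g⁻¹ = a x a⁻¹
    have e1 : g * x * g⁻¹ = a * x * a⁻¹ := by
      rw [hg]
      have : b * x * b⁻¹ = x := by rw [← hb]; group
      calc a * b * x * (a * b)⁻¹ = a * (b * x * b⁻¹) * a⁻¹ := by group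
        _ = a * x * a⁻¹ := by rw [this]
    rw [e1] at hc
    -- conjugate back by a
    have e2 : z * (a * x * a⁻¹) = (a * x * a⁻¹) * z := hc.eq
    have e3 : a⁻¹ * z * a = z := by rw [mul_assoc, ha]; group
    have e4 : z * x = x * z := by
      calc z * x = (a⁻¹ * z * a) * x := by rw [e3]
        _ = a⁻¹ * (z * (a * x * a⁻¹)) * a := by group
        _ = a⁻¹ * ((a * x * a⁻¹) * z) * a := by rw [e2]
        _ = x * (a⁻¹ * z * a) := by group
        _ = x * z := by rw [e3]
    exact e4.symm

/-- `p`-elements of `M`, `p ∤ n` -/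
theorem commute_of_pEl (h : CS G n m) (hlt : m < n) {x y : G} (hix : idx x = n)
    (hy : y ∈ M h hlt) {p : ℕ} [Fact p.Prime] (hp : ¬ p ∣ n) (hyp : PEl p y) : Commute x y := by
  obtain ⟨Q, hQ⟩ := Cfsg.Agent.Lib.Helper17.ClassGraph.exists_sylow_le_of_not_dvd_index
    (q := p) (Subgroup.centralizer ({x} : Set G)) (by
      change ¬ p ∣ idx x
      rw [hix]; exact hp)
  have hpg : IsPGroup p (Subgroup.zpowers y) := by
    obtain ⟨k, hk⟩ := hyp
    apply IsPGroup.of_card (n := k)
    rw [Nat.card_zpowers, hk]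
  obtain ⟨Q', hQ'⟩ := hpg.exists_le_sylow
  obtain ⟨g, hg⟩ := MulAction.exists_smul_eq G Q Q'
  -- `g • Q = Q'`, so `g⁻¹ y g ∈ Q`
  have hyQ' : y ∈ (Q' : Subgroup G) := hQ' (Subgroup.mem_zpowers y)
  have h1 : g⁻¹ * y * g ∈ (Q : Subgroup G) := by
    rw [← hg] at hyQ'
    have h2 : y ∈ MulAut.conj g • (Q : Subgroup G) := hyQ'
    rw [Subgroup.mem_pointwise_smul_iff_inv_smul_mem] at h2
    simpa [MulAut.smul_def] using h2
  have h3 := hQ h1
  rw [mem_cent_singleton] at h3
  -- `x` commutes with `g⁻¹ y g`, so `g x g⁻¹` commutes with `y`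
  apply commute_of_commute_conj h hlt hix hy g
  have e : y * (g * x * g⁻¹) = g * ((g⁻¹ * y * g) * x) * g⁻¹ := by group
  have e' : (g * x * g⁻¹) * y = g * (x * (g⁻¹ * y * g)) * g⁻¹ := by group
  change y * (g * x * g⁻¹) = (g * x * g⁻¹) * y
  rw [e, e', h3]

/-- **M2** -/
theorem M2 (h : CS G n m) (hlt : m < n) {x y : G} (hix : idx x = n) (hy : y ∈ M h hlt)
    (hcop : (orderOf y).Coprime n) : Commute x y := by
  -- strong induction on the order of `y`
  induction hN : orderOf y using Nat.strong_induction_on generalizing y with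
  | _ N ih =>
    by_cases h1 : y = 1
    · rw [h1]; exact Commute.one_right x
    have hN1 : orderOf y ≠ 1 := fun e => h1 (orderOf_eq_one_iff.1 e)
    obtain ⟨p, hp, hpd⟩ := Nat.exists_prime_and_dvd hN1
    haveI : Fact p.Prime := ⟨hp⟩
    have hpn : ¬ p ∣ n := by
      intro hdn
      have := Nat.dvd_gcd hpd hdn
      rw [hcop] at this
      exact hp.one_lt.ne' (Nat.dvd_one.1 this)
    obtain ⟨i, j, hdec, hpi, hpj⟩ := Cfsg.Agent.Lib.Helper17.exists_p_pprime_decomp p y
    have hyi : y ^ i ∈ M h hlt := Subgroup.zpow_mem _ hy i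
    have hyj : y ^ j ∈ M h hlt := Subgroup.zpow_mem _ hy j
    have c1 : Commute x (y ^ i) := commute_of_pEl h hlt hix hyi hpn hpi
    have hdj : orderOf (y ^ j) ∣ orderOf y := orderOf_dvd_of_pow_eq_one (by
      rw [← zpow_natCast, ← zpow_mul, mul_comm, zpow_mul, zpow_natCast, pow_orderOf_eq_one, one_zpow])
    have hlt' : orderOf (y ^ j) < N := by
      rw [← hN]
      apply lt_of_le_of_ne (Nat.le_of_dvd (orderOf_pos y) hdj)
      intro e
      rw [e] at hpj
      have := Nat.dvd_gcd hpd (dvd_refl p)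
      rw [hpj] at this
      exact hp.one_lt.ne' (Nat.dvd_one.1 this)
    have c2 : Commute x (y ^ j) :=
      ih _ hlt' hyj (Nat.Coprime.coprime_dvd_left hdj hcop) rfl
    rw [hdec]
    exact c1.mul_right c2

end Cfsg.Agent.Lib.Helper18.NM
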