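import Mathlib
import Cfsg.Agent.Lib.Helper16.OOEndConDefs

/-!
# S2344 Part III (b) leaf CA (planner helper16): `ubarMat` is additive and preserves the form (helper18)
-/

set_option autoImplicit false

namespace Cfsg.Agent.Lib.Helper18.OOEndCA

open Matrix Cfsg.Agent.Lib.Helper16.OOEnd Cfsg.Agent.Lib.Helper26.OOMin Cfsg.Agent.Lib.Helper27.OPMin

variable {F : Type*} [Field F] {m : ℕ}

/-- sums over `Ix (m+1)` with the index `0` split off -/
theorem sum_Ix_succ (g : Ix (m + 1) → F) :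
    ∑ k, g k = g (.inl ()) + ((g (.inr (.inl 0)) + ∑ i : Fin m, g (.inr (.inl i.succ))) +
      (g (.inr (.inr 0)) + ∑ i : Fin m, g (.inr (.inr i.succ)))) := by
  rw [Fintype.sum_sum_type, Fintype.sum_sum_type, Fin.sum_univ_succ, Fin.sum_univ_succ]
  simp

theorem e0_dotProduct (u : Ix (m + 1) → F) : e0 ⬝ᵥ u = u (.inr (.inl 0)) := by
  unfold e0
  rw [single_one_dotProduct]

theorem hat_inl (z : Ix m → F) : hat z (.inl ()) = c0 z := rfl
theorem hat_e0 (z : Ix m → F) : hat z (.inr (.inl 0)) = 0 := rfl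
theorem hat_f0 (z : Ix m → F) : hat z (.inr (.inr 0)) = 0 := rfl
theorem hat_x (z : Ix m → F) (i : Fin m) : hat z (.inr (.inl i.succ)) = cx z i := rfl
theorem hat_y (z : Ix m → F) (i : Fin m) : hat z (.inr (.inr i.succ)) = cy z i := rfl
theorem hatJ_inl (z : Ix m → F) : hatJ z (.inl ()) = 2 * c0 z := rfl
theorem hatJ_e0 (z : Ix m → F) : hatJ z (.inr (.inl 0)) = 0 := rfl
theorem hatJ_f0 (z : Ix m → F) : hatJ z (.inr (.inr 0)) = 0 := rfl
theorem hatJ_x (z : Ix m → F) (i : Fin m) : hatJ z (.inr (.inl i.succ)) = cy z i := rfl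
theorem hatJ_y (z : Ix m → F) (i : Fin m) : hatJ z (.inr (.inr i.succ)) = cx z i := rfl
theorem f0_inl : (f0 : Ix (m + 1) → F) (.inl ()) = 0 := rfl
theorem f0_e0 : (f0 : Ix (m + 1) → F) (.inr (.inl 0)) = 0 := rfl
theorem f0_f0 : (f0 : Ix (m + 1) → F) (.inr (.inr 0)) = 1 := by simp [f0]
theorem f0_x (i : Fin m) : (f0 : Ix (m + 1) → F) (.inr (.inl i.succ)) = 0 := rfl
theorem f0_y (i : Fin m) : (f0 : Ix (m + 1) → F) (.inr (.inr i.succ)) = 0 := by
  simp [f0, Fin.succ_ne_zero]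

theorem hatJ_dotProduct (z : Ix m → F) (u : Ix (m + 1) → F) :
    hatJ z ⬝ᵥ u = 2 * c0 z * u (.inl ()) + ∑ i : Fin m, cy z i * u (.inr (.inl i.succ)) +
      ∑ i : Fin m, cx z i * u (.inr (.inr i.succ)) := by
  unfold dotProduct
  rw [sum_Ix_succ]
  simp only [hatJ_inl, hatJ_e0, hatJ_f0, hatJ_x, hatJ_y]
  ring

theorem e0_dotProduct_hat (z : Ix m → F) : e0 ⬝ᵥ hat z = 0 := by
  rw [e0_dotProduct, hat_e0]

theorem e0_dotProduct_f0 : (e0 : Ix (m + 1) → F) ⬝ᵥ f0 = 0 := by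
  rw [e0_dotProduct, f0_e0]

theorem hatJ_dotProduct_f0 (z : Ix m → F) : hatJ z ⬝ᵥ f0 = 0 := by
  rw [hatJ_dotProduct]
  simp only [f0_inl, f0_x, f0_y, mul_zero, Finset.sum_const_zero, add_zero]

theorem hat_add (z z' : Ix m → F) : hat (z + z') = hat z + hat z' := by
  funext k
  rcases k with u | k | k
  · rfl
  · refine Fin.cases ?_ (fun i => ?_) k
    · simp [hat]
    · rfl
  · refine Fin.cases ?_ (fun i => ?_) k
    · simp [hat]
    · rfl

theorem hatJ_add (z z' : Ix m → F) : hatJ (z + z') = hatJ z + hatJ z' := by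
  funext k
  rcases k with u | k | k
  · show 2 * (c0 z + c0 z') = 2 * c0 z + 2 * c0 z'
    ring
  · refine Fin.cases ?_ (fun i => ?_) k
    · simp [hatJ]
    · rfl
  · refine Fin.cases ?_ (fun i => ?_) k
    · simp [hatJ]
    · rfl

theorem hat_zero : hat (0 : Ix m → F) = 0 := by
  funext k
  rcases k with u | k | k
  · rfl
  · refine Fin.cases ?_ (fun i => ?_) k
    · rfl
    · rfl
  · refine Fin.cases ?_ (fun i => ?_) k
    · rfl
    · rfl

theorem hatJ_zero : hatJ (0 : Ix m → F) = 0 := by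
  funext k
  rcases k with u | k | k
  · show 2 * (0 : F) = 0
    ring
  · refine Fin.cases ?_ (fun i => ?_) k
    · rfl
    · rfl
  · refine Fin.cases ?_ (fun i => ?_) k
    · rfl
    · rfl

theorem Qp_zero : Qp (0 : Ix m → F) = 0 := by
  simp [Qp, Cfsg.quadFormOdd]

theorem hatJ_dotProduct_hat (z z' : Ix m → F) :
    hatJ z ⬝ᵥ hat z' = 2 * c0 z * c0 z' + cy z ⬝ᵥ cx z' + cx z ⬝ᵥ cy z' := by
  rw [hatJ_dotProduct]
  rfl

theorem Qp_add (z z' : Ix m → F) : Qp (z + z') = Qp z + Qp z' + hatJ z ⬝ᵥ hat z' := by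
  rw [hatJ_dotProduct_hat, Qp_eq, Qp_eq, Qp_eq]
  have h0 : c0 (z + z') = c0 z + c0 z' := rfl
  have hx : cx (z + z') = cx z + cx z' := rfl
  have hy : cy (z + z') = cy z + cy z' := rfl
  rw [h0, hx, hy, add_dotProduct, dotProduct_add, dotProduct_add, dotProduct_comm (cy z) (cx z')]
  ring

/-- **leaf CA (1)** -/
theorem ubarMat_mulVec (z : Ix m → F) (u : Ix (m + 1) → F) :
    ubarMat z *ᵥ u =
      u + (e0 ⬝ᵥ u) • hat z - (hatJ z ⬝ᵥ u) • f0 - (Qp z * (e0 ⬝ᵥ u)) • f0 := by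
  unfold ubarMat
  rw [sub_mulVec, sub_mulVec, add_mulVec, one_mulVec, smul_mulVec, vecMulVec_mulVec,
    vecMulVec_mulVec, vecMulVec_mulVec, mul_smul]
  simp only [op_smul_eq_smul]

/-- **leaf CA (2)** -/
theorem ubarMat_zero : ubarMat (0 : Ix m → F) = 1 := by
  unfold ubarMat
  rw [hat_zero, hatJ_zero, Qp_zero, zero_smul, sub_zero]
  ext i j
  simp

/-- **leaf CA (3)** -/
theorem ubarMat_add (z z' : Ix m → F) : ubarMat (z + z') = ubarMat z * ubarMat z' := by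
  rw [ext_iff_mulVec]
  intro u
  rw [← mulVec_mulVec, ubarMat_mulVec z, ubarMat_mulVec z' u, ubarMat_mulVec (z + z') u]
  simp only [dotProduct_add, dotProduct_sub, dotProduct_smul, e0_dotProduct_hat, e0_dotProduct_f0,
    hatJ_dotProduct_f0, hat_add, hatJ_add, add_dotProduct, Qp_add, smul_eq_mul, mul_zero, add_zero,
    sub_zero]
  module

/-- **leaf CA (4)** -/
theorem quadFormOdd_ubarMat (z : Ix m → F) (u : Ix (m + 1) → F) :
    Cfsg.quadFormOdd (m + 1) F (ubarMat z *ᵥ u) = Cfsg.quadFormOdd (m + 1) F u := by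
  rw [ubarMat_mulVec, e0_dotProduct, hatJ_dotProduct]
  unfold Cfsg.quadFormOdd
  rw [Fin.sum_univ_succ, Fin.sum_univ_succ]
  simp only [Pi.add_apply, Pi.sub_apply, Pi.smul_apply, smul_eq_mul, hat_inl, hat_e0, hat_f0, hat_x,
    hat_y, f0_inl, f0_e0, f0_f0, f0_x, f0_y, mul_zero, mul_one, add_zero, sub_zero]
  rw [Qp_eq]
  unfold dotProduct
  have key : ∑ i : Fin m, (u (.inr (.inl i.succ)) + u (.inr (.inl 0)) * cx z i) *
        (u (.inr (.inr i.succ)) + u (.inr (.inl 0)) * cy z i) =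
      ∑ i : Fin m, u (.inr (.inl i.succ)) * u (.inr (.inr i.succ)) +
        u (.inr (.inl 0)) * (∑ i : Fin m, cy z i * u (.inr (.inl i.succ)) +
          ∑ i : Fin m, cx z i * u (.inr (.inr i.succ))) +
        u (.inr (.inl 0)) ^ 2 * ∑ i : Fin m, cx z i * cy z i := by
    simp only [Finset.mul_sum, ← Finset.sum_add_distrib]
    refine Finset.sum_congr rfl fun i _ => ?_
    ring
  rw [key]
  ring

end Cfsg.Agent.Lib.Helper18.OOEndCA
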