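import Mathlib
import Cfsg.Agent.Lib.Helper16.OOEndConDefs

/-!
# S2344 Part III (b) leaf CE (planner helper16): `ubar (t e_j)` is the Levi image of a transvection (helper18)
-/

set_option autoImplicit false

namespace Cfsg.Agent.Lib.Helper18.OOEndCE

open Matrix Cfsg.Agent.Lib.Helper16.OOEnd Cfsg.Agent.Lib.Helper26.OOMin Cfsg.Agent.Lib.Helper27.OPMin

variable {F : Type*} [Field F] {m : ℕ}

theorem cons_zero_single (j : Fin m) (t : F) :
    (Fin.cons 0 (Pi.single j t : Fin m → F) : Fin (m + 1) → F) = Pi.single j.succ t := by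
  funext k
  refine Fin.cases ?_ (fun i => ?_) k
  · rw [Fin.cons_zero, Pi.single_eq_of_ne (Fin.succ_ne_zero j).symm]
  · rw [Fin.cons_succ]
    by_cases h : i = j
    · subst h
      rw [Pi.single_eq_same, Pi.single_eq_same]
    · rw [Pi.single_eq_of_ne h, Pi.single_eq_of_ne (fun h' => h (Fin.succ_injective _ h'))]

theorem cons_zero_zero : (Fin.cons 0 (0 : Fin m → F) : Fin (m + 1) → F) = 0 := by
  funext k
  refine Fin.cases ?_ (fun i => ?_) k
  · rfl
  · rfl

theorem transvection_inv_coe (j : Fin m) (t : F) :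
    ((1 : Matrix (Fin (m + 1)) (Fin (m + 1)) F) + Matrix.single j.succ 0 t)⁻¹ =
      1 - Matrix.single j.succ 0 t := by
  apply Matrix.inv_eq_right_inv
  rw [Matrix.add_mul, Matrix.mul_sub, Matrix.mul_sub,
    Matrix.single_mul_single_of_ne _ _ _ _ (Fin.succ_ne_zero j).symm]
  simp only [Matrix.one_mul, Matrix.mul_one]
  abel

/-- **leaf CE** -/
theorem ubarMat_single (j : Fin m) (t : F) :
    ubarMat (mk 0 (Pi.single j t : Fin m → F) 0) =
      leviMatO ((SpecialLinearGroup.transvection (Fin.succ_ne_zero j) t :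
        SpecialLinearGroup (Fin (m + 1)) F) : Matrix (Fin (m + 1)) (Fin (m + 1)) F) := by
  rw [SpecialLinearGroup.transvection_coe]
  unfold leviMatO leviMat embO
  rw [transvection_inv_coe]
  have hQ : Qp (mk 0 (Pi.single j t : Fin m → F) 0) = 0 := by
    rw [Qp_eq]
    simp
  have hhat : hat (mk 0 (Pi.single j t : Fin m → F) 0) = Pi.single (Sum.inr (Sum.inl j.succ)) t := by
    unfold hat
    rw [c0_mk, cx_mk, cy_mk, cons_zero_single, cons_zero_zero]
    funext k
    rcases k with u | k | k
    · simp
    · by_cases h : k = j.succ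
      · subst h
        simp
      · simp [h]
    · simp
  have hhatJ : hatJ (mk 0 (Pi.single j t : Fin m → F) 0) = Pi.single (Sum.inr (Sum.inr j.succ)) t := by
    unfold hatJ
    rw [c0_mk, cx_mk, cy_mk, cons_zero_single, cons_zero_zero]
    funext k
    rcases k with u | k | k
    · simp
    · simp
    · by_cases h : k = j.succ
      · subst h
        simp
      · simp [h]
  unfold ubarMat
  rw [hQ, hhat, hhatJ, zero_smul, sub_zero]
  unfold e0 f0
  ext a b
  rcases a with u | a | a <;> rcases b with v | b | b <;>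
    simp [Matrix.one_apply, Matrix.single_apply, vecMulVec_apply, Pi.single_apply, eq_comm,
      and_comm]
  · by_cases hb : b = 0 <;> by_cases ha : a = j.succ <;> simp [ha, hb]
  · by_cases hb : b = j.succ <;> by_cases ha : a = 0 <;> simp [ha, hb]


end Cfsg.Agent.Lib.Helper18.OOEndCE
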