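import Mathlib
import Cfsg.Agent.Lib.Helper22.FFAbF
import Cfsg.Agent.Lib.Helper27.Thompson
import Cfsg.Prelude.Def_JComponents

/-!
helper18: notation for the S2942 family (J(T)-components in the groups `L ∈ ℒ(T)` of ZN-groups).
`X` is the group `↥L`; `T : Sylow 2 X`; `JT T` is the (elementary abelian) Thompson subgroup of `T`
inside `X`, and `YT T` its normal closure in `X`.
-/

set_option autoImplicit false

namespace Cfsg.Agent.Lib.Helper18.JSub

open Subgroup

universe u
variable {X : Type u} [Group X]

/-- `J(T)`, elementary abelian version, inside `X` -/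
abbrev JT (T : Sylow 2 X) : Subgroup X := Cfsg.thompsonSubgroupOf 2 (T : Subgroup X)

/-- the normal closure of `J(T)` in `X` -/
abbrev YT (T : Sylow 2 X) : Subgroup X := normalClosure ((JT T : Subgroup X) : Set X)

end Cfsg.Agent.Lib.Helper18.JSub
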