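import Mathlib
import Cfsg.Agent.Lib.Helper1.MinNormal

/-!
# Solvable groups acting transitively on the nonidentity elements of an abelian group

If a finite solvable group `A` acts faithfully by automorphisms on a finite abelian group `V`,
transitively on `V \ {1}`, and `V` has more than two elements, then a minimal normal subgroup of `A`
acts semiregularly on `V \ {1}`; in particular some element of prime order `r ∤ |V|` of `A` fixes no
nonidentity element of `V`.
-/

set_option autoImplicit false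
set_option linter.unusedSectionVars false
set_option linter.style.haveILetI false

namespace Cfsg.Agent.Lib.Helper18.TransFpf

open Cfsg.Agent.Lib.Helper1

variable {A V : Type*} [Group A] [CommGroup V] [MulDistribMulAction A V]

/-- The stabilizer in `F` of a vector. -/
def stab (F : Subgroup A) (v : V) : Subgroup A := F ⊓ MulAction.stabilizer A v

theorem mem_stab {F : Subgroup A} {v : V} {f : A} : f ∈ stab F v ↔ f ∈ F ∧ f • v = v := by
  unfold stab
  rw [Subgroup.mem_inf, MulAction.mem_stabilizer_iff]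

theorem card_stab_smul (F : Subgroup A) [hF : F.Normal] (a : A) (v : V) :
    Nat.card (stab F (a • v)) = Nat.card (stab F v) := by
  have h : stab F (a • v) = (stab F v).map (MulAut.conj a).toMonoidHom := by
    ext x
    rw [mem_stab, Subgroup.mem_map]
    constructor
    · rintro ⟨hx, hxv⟩
      refine ⟨a⁻¹ * x * a, mem_stab.mpr ⟨?_, ?_⟩, ?_⟩
      · have := hF.conj_mem x hx a⁻¹
        simpa using this
      · rw [mul_smul, mul_smul, hxv, inv_smul_smul]
      · simp [mul_assoc]
    · rintro ⟨y, hy, rfl⟩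
      obtain ⟨hyF, hyv⟩ := mem_stab.mp hy
      refine ⟨?_, ?_⟩
      · simpa using hF.conj_mem y hyF a
      · simp only [MulEquiv.coe_toMonoidHom, MulAut.conj_apply]
        rw [mul_smul, mul_smul, inv_smul_smul, hyv]
  rw [h, Subgroup.card_map_of_injective (MulAut.conj a).injective]

variable [Finite A] [Finite V]

/-- The norm map of a finite subgroup `D` of `A` on `V`. -/
noncomputable def nrm (D : Subgroup A) (u : V) : V :=
  letI := Fintype.ofFinite D
  ∏ d : D, (d : A) • u

theorem nrm_mul (D : Subgroup A) (u u' : V) : nrm D (u * u') = nrm D u * nrm D u' := by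
  unfold nrm
  simp only [smul_mul']
  exact Finset.prod_mul_distrib

theorem nrm_one (D : Subgroup A) : nrm D (1 : V) = 1 := by
  unfold nrm
  simp

theorem nrm_inv (D : Subgroup A) (u : V) : nrm D u⁻¹ = (nrm D u)⁻¹ := by
  rw [eq_inv_iff_mul_eq_one, ← nrm_mul, inv_mul_cancel, nrm_one]

theorem smul_nrm (D : Subgroup A) (d₀ : A) (hd₀ : d₀ ∈ D) (u : V) : d₀ • nrm D u = nrm D u := by
  unfold nrm
  letI := Fintype.ofFinite D
  rw [Finset.smul_prod']
  refine Fintype.prod_equiv (Equiv.mulLeft (⟨d₀, hd₀⟩ : D)) _ _ (fun d => ?_)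
  simp [mul_smul]

theorem nrm_of_fixed (D : Subgroup A) (u : V) (hu : ∀ d ∈ D, d • u = u) :
    nrm D u = u ^ Nat.card D := by
  unfold nrm
  letI := Fintype.ofFinite D
  rw [Finset.prod_congr rfl (fun (d : D) _ => hu (d : A) d.2), Finset.prod_const, Finset.card_univ,
    Nat.card_eq_fintype_card]

theorem nrm_smul_of_commute (D : Subgroup A) (f : A) (hf : ∀ d ∈ D, f * d = d * f) (u : V) :
    nrm D (f • u) = f • nrm D u := by
  unfold nrm
  letI := Fintype.ofFinite D
  rw [Finset.smul_prod']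
  refine Finset.prod_congr rfl (fun d _ => ?_)
  rw [← mul_smul, ← mul_smul, hf d d.2]

theorem exists_fpf_of_transitive [Group.IsSolvable A]
    (hfaith : ∀ a : A, (∀ v : V, a • v = v) → a = 1)
    (htrans : ∀ v w : V, v ≠ 1 → w ≠ 1 → ∃ a : A, a • v = w)
    (hV : ∃ v w : V, v ≠ 1 ∧ w ≠ 1 ∧ v ≠ w) :
    ∃ (a : A) (r : ℕ), r.Prime ∧ ¬ r ∣ Nat.card V ∧ a ≠ 1 ∧ a ^ r = 1 ∧
      ∀ v : V, a • v = v → v = 1 := by
  classical
  obtain ⟨v₀, w₀, hv₀, hw₀, hvw₀⟩ := hV
  haveI : Nontrivial A := by
    obtain ⟨a, ha⟩ := htrans v₀ w₀ hv₀ hw₀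
    refine ⟨⟨a, 1, ?_⟩⟩
    rintro rfl
    rw [one_smul] at ha
    exact hvw₀ ha
  obtain ⟨F, hF⟩ := exists_isMinNormal (G := A)
  have hFc : IsMulCommutative F := hF.isMulCommutative
  obtain ⟨r, hr, hexp⟩ := hF.exists_prime_pow_eq_one
  haveI : Fact r.Prime := ⟨hr⟩
  obtain ⟨hFn, hF1, -⟩ := hF
  haveI := hFn
  have hcommF : ∀ f ∈ F, ∀ d ∈ F, f * d = d * f := by
    intro f hf d hd
    have := mul_comm' (⟨f, hf⟩ : F) ⟨d, hd⟩
    exact congrArg Subtype.val this
  have hFp : IsPGroup r F := by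
    intro x
    refine ⟨1, ?_⟩
    rw [pow_one]
    exact Subtype.ext (by simpa using hexp x x.2)
  -- `r` does not divide `|V|`
  have hrV : ¬ r ∣ Nat.card V := by
    intro hdvd
    have h1 : (1 : V) ∈ MulAction.fixedPoints F V := by
      intro f
      exact smul_one _
    obtain ⟨u, hu, hu1⟩ := hFp.exists_fixed_point_of_prime_dvd_card_of_fixed_point V hdvd h1
    apply hF1
    rw [eq_bot_iff]
    intro f hf
    rw [Subgroup.mem_bot]
    apply hfaith
    intro w
    by_cases hw : w = 1
    · rw [hw, smul_one]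
    · obtain ⟨a, rfl⟩ := htrans u w (Ne.symm hu1) hw
      have h2 : a⁻¹ * f * a ∈ F := by simpa using hFn.conj_mem f hf a⁻¹
      have h3 : (a⁻¹ * f * a) • u = u := hu ⟨_, h2⟩
      rw [mul_smul, mul_smul] at h3
      have h4 := congrArg (fun y => a • y) h3
      simpa [smul_inv_smul] using h4
  have hV1 : 1 < Nat.card V := by
    have : Nontrivial V := ⟨⟨v₀, 1, hv₀⟩⟩
    exact Finite.one_lt_card
  -- coprimality with subgroups of `F`
  have hcop : ∀ D : Subgroup A, D ≤ F → (Nat.card D).Coprime (Nat.card V) := by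
    intro D hD
    obtain ⟨k, hk⟩ := (IsPGroup.iff_card (p := r) (G := F)).mp hFp
    have h1 : Nat.card D ∣ r ^ k := hk ▸ Subgroup.card_dvd_of_le hD
    exact Nat.Coprime.coprime_dvd_left h1
      (Nat.Coprime.pow_left k ((Nat.Prime.coprime_iff_not_dvd hr).mpr hrV))
  -- all stabilizers are trivial
  have hstab : ∀ v : V, v ≠ 1 → stab F v = ⊥ := by
    intro v hv
    by_contra hD1
    set D := stab F v with hDdef
    have hDF : D ≤ F := inf_le_left
    have hDv : ∀ d ∈ D, d • v = v := fun d hd => (mem_stab.mp hd).2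
    obtain ⟨m, -, hm⟩ := Nat.exists_mul_mod_eq_one_of_coprime (hcop D hDF) hV1
    set n := Nat.card D with hn
    have hpow : ∀ u : V, (u ^ n) ^ m = u := by
      intro u
      rw [← pow_mul, ← pow_mod_natCard, hm, pow_one]
    have hfix1 : ∀ x : V, (∀ d ∈ D, d • x = x) → nrm D x = 1 → x = 1 := by
      intro x hx hx1
      rw [nrm_of_fixed D x hx] at hx1
      rw [← hpow x, hx1, one_pow]
    -- a nonidentity element of the kernel of the norm
    obtain ⟨k, hk1, hkn⟩ : ∃ k : V, k ≠ 1 ∧ nrm D k = 1 := by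
      obtain ⟨d, hd, hd1⟩ := (Subgroup.bot_or_exists_ne_one D).resolve_left hD1
      have : ∃ u : V, d • u ≠ u := by
        by_contra hcon
        push Not at hcon
        exact hd1 (hfaith d hcon)
      obtain ⟨u, hu⟩ := this
      set u₀ := (nrm D u) ^ m with hu₀
      have hu₀fix : ∀ d' ∈ D, d' • u₀ = u₀ := by
        intro d' hd'
        rw [hu₀, smul_pow', smul_nrm D d' hd']
      refine ⟨u * u₀⁻¹, ?_, ?_⟩
      · intro h
        have : u = u₀ := by rwa [mul_inv_eq_one] at h
        exact hu (this ▸ hu₀fix d hd)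
      · rw [nrm_mul, nrm_inv, nrm_of_fixed D u₀ hu₀fix, hu₀, ← pow_mul, mul_comm m, pow_mul,
          ← hn, hpow, mul_inv_cancel]
    have hknofix : ¬ ∀ d ∈ D, d • k = k := fun h => hk1 (hfix1 k h hkn)
    have hw1 : v * k ≠ 1 := by
      intro h
      have hk : k = v⁻¹ := eq_inv_of_mul_eq_one_right h
      apply hknofix
      intro d hd
      rw [hk, smul_inv', hDv d hd]
    -- the stabilizer of `v * k` is a proper subgroup of `D`
    have hle : stab F (v * k) ≤ D := by
      intro f hf
      obtain ⟨hfF, hfw⟩ := mem_stab.mp hf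
      rw [hDdef, mem_stab]
      refine ⟨hfF, ?_⟩
      have hcomm : ∀ d ∈ D, f * d = d * f := fun d hd => hcommF f hfF d (hDF hd)
      set x := v⁻¹ * f • v with hx
      have hx' : x = k * (f • k)⁻¹ := by
        rw [hx, inv_mul_eq_iff_eq_mul, ← mul_assoc, eq_mul_inv_iff_mul_eq, ← smul_mul', hfw]
      have hxfix : ∀ d ∈ D, d • x = x := by
        intro d hd
        rw [hx, smul_mul', smul_inv', hDv d hd, ← mul_smul, ← hcomm d hd, mul_smul, hDv d hd]
      have hxn : nrm D x = 1 := by
        rw [hx', nrm_mul, nrm_inv, nrm_smul_of_commute D f hcomm, hkn, smul_one, inv_one, mul_one]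
      have := hfix1 x hxfix hxn
      rw [hx, inv_mul_eq_one] at this
      exact this.symm
    obtain ⟨a, ha⟩ := htrans v (v * k) hv hw1
    have hcard : Nat.card D ≤ Nat.card (stab F (v * k)) := by
      rw [← ha, card_stab_smul]
    have heq := Subgroup.eq_of_le_of_card_ge hle hcard
    apply hknofix
    intro d hd
    have hd' : d ∈ stab F (v * k) := heq ▸ hd
    have h2 := (mem_stab.mp hd').2
    rw [smul_mul', hDv d hd] at h2
    exact mul_left_cancel h2
  obtain ⟨a, haF, ha1⟩ := (Subgroup.bot_or_exists_ne_one F).resolve_left hF1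
  refine ⟨a, r, hr, hrV, ha1, hexp a haF, ?_⟩
  intro v hav
  by_contra hv
  have : a ∈ stab F v := mem_stab.mpr ⟨haF, hav⟩
  rw [hstab v hv, Subgroup.mem_bot] at this
  exact ha1 this

/-- Internal version: a finite solvable group `H` acting by conjugation on a commutative normal subgroup
`V`, transitively on the nonidentity elements, `V` with at least three elements. Some element `h` of `H`
has no nonidentity fixed point (commuting element) in `V`, while `h ^ r` centralizes `V` for a prime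
`r` not dividing `|V|`. -/
theorem exists_fpf_of_transitive_conj {H : Type*} [Group H] [Finite H] [Group.IsSolvable H]
    (V : Subgroup H) [hVn : V.Normal] (hVc : IsMulCommutative V)
    (htr : ∀ v w : H, v ∈ V → w ∈ V → v ≠ 1 → w ≠ 1 → ∃ h : H, h * v * h⁻¹ = w)
    (hV : ∃ v w : H, v ∈ V ∧ w ∈ V ∧ v ≠ 1 ∧ w ≠ 1 ∧ v ≠ w) :
    ∃ (h : H) (r : ℕ), r.Prime ∧ ¬ r ∣ Nat.card V ∧ (∀ v ∈ V, h ^ r * v = v * h ^ r) ∧
      ∀ v ∈ V, h * v = v * h → v = 1 := by
  classical
  letI : CommGroup ↥V := { (inferInstance : Group ↥V) with mul_comm := fun a b => mul_comm' a b }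
  let φ : H →* MulAut ↥V := MulAut.conjNormal
  let A : Subgroup (MulAut ↥V) := φ.range
  haveI : Group.IsSolvable A :=
    Group.isSolvable_of_surjective (f := φ.rangeRestrict) φ.rangeRestrict_surjective
  have hfaith : ∀ a : A, (∀ v : V, a • v = v) → a = 1 := by
    intro a ha
    ext v
    exact congrArg Subtype.val (ha v)
  have htrans : ∀ v w : V, v ≠ 1 → w ≠ 1 → ∃ a : A, a • v = w := by
    intro v w hv hw
    obtain ⟨h, hh⟩ := htr v w v.2 w.2 (fun h => hv (Subtype.ext h)) (fun h => hw (Subtype.ext h))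
    refine ⟨⟨φ h, h, rfl⟩, Subtype.ext ?_⟩
    exact hh
  have hV' : ∃ v w : V, v ≠ 1 ∧ w ≠ 1 ∧ v ≠ w := by
    obtain ⟨v, w, hv, hw, hv1, hw1, hvw⟩ := hV
    exact ⟨⟨v, hv⟩, ⟨w, hw⟩, fun h => hv1 (congrArg Subtype.val h),
      fun h => hw1 (congrArg Subtype.val h), fun h => hvw (congrArg Subtype.val h)⟩
  obtain ⟨a, r, hr, hrV, ha1, har, hafpf⟩ :=
    exists_fpf_of_transitive (A := A) (V := V) hfaith htrans hV'
  obtain ⟨h, hh⟩ := a.2
  refine ⟨h, r, hr, hrV, ?_, ?_⟩
  · intro v hv
    have h1 : (φ h) ^ r = 1 := by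
      rw [hh, ← Subgroup.coe_pow, har, Subgroup.coe_one]
    have h2 : φ (h ^ r) ⟨v, hv⟩ = ⟨v, hv⟩ := by
      rw [map_pow, h1]; rfl
    have h3 := congrArg Subtype.val h2
    simp only [φ, MulAut.conjNormal_apply] at h3
    exact mul_inv_eq_iff_eq_mul.mp h3
  · intro v hv hcomm
    have h2 : a • (⟨v, hv⟩ : V) = ⟨v, hv⟩ := by
      apply Subtype.ext
      change ((a : MulAut V) ⟨v, hv⟩ : H) = v
      rw [← hh]
      simp only [φ, MulAut.conjNormal_apply]
      rw [hcomm]; group
    have := hafpf _ h2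
    exact congrArg Subtype.val this

end Cfsg.Agent.Lib.Helper18.TransFpf
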