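import Mathlib
import Cfsg.Prelude.Def_Solvable
import Cfsg.Agent.Lib.Helper12.Cores
import Cfsg.Agent.Lib.Helper18.TransFpf

/-!
# Solvable groups in which every element is real and all involutions are conjugate

A Sylow 2-subgroup has a unique involution.
-/

set_option autoImplicit false
set_option linter.unusedSectionVars false
set_option linter.style.haveILetI false

namespace Cfsg.Agent.Lib.Helper18.AmbivalentSolv

open Cfsg.Agent.Lib.Helper1 Cfsg.Agent.Lib.Helper18.TransFpf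
open scoped commutatorElement

section Inverting

variable {G : Type*} [Group G]

theorem commute_sq_of_inverts {g x : G} (h : g * x * g⁻¹ = x⁻¹) : Commute (g ^ 2) x := by
  have h1 : g * x = x⁻¹ * g := mul_inv_eq_iff_eq_mul.mp h
  have h2 : g * x⁻¹ = x * g := by
    have : g * x⁻¹ * g⁻¹ = x := by
      have h3 : (g * x * g⁻¹)⁻¹ = g * x⁻¹ * g⁻¹ := by group
      rw [← h3, h, inv_inv]
    exact mul_inv_eq_iff_eq_mul.mp this
  change g ^ 2 * x = x * g ^ 2
  rw [sq, mul_assoc, h1, ← mul_assoc, h2, mul_assoc]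

theorem commute_even_pow_of_inverts {g x : G} (h : g * x * g⁻¹ = x⁻¹) {k : ℕ} (hk : Even k) :
    Commute (g ^ k) x := by
  obtain ⟨j, rfl⟩ := hk
  rw [← two_mul, pow_mul]
  exact (commute_sq_of_inverts h).pow_left j

theorem odd_pow_inverts {g x : G} (h : g * x * g⁻¹ = x⁻¹) {k : ℕ} (hk : Odd k) :
    g ^ k * x * (g ^ k)⁻¹ = x⁻¹ := by
  obtain ⟨j, rfl⟩ := hk
  have hc : Commute (g ^ (2 * j)) x⁻¹ := (commute_even_pow_of_inverts h ⟨j, by ring⟩).inv_right
  rw [pow_succ, mul_inv_rev]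
  calc g ^ (2 * j) * g * x * (g⁻¹ * (g ^ (2 * j))⁻¹)
      = g ^ (2 * j) * (g * x * g⁻¹) * (g ^ (2 * j))⁻¹ := by group
    _ = x⁻¹ := by rw [h, hc.eq, mul_inv_cancel_right]

variable [Finite G]

/-- The 2-part of an element: an odd power which is a 2-element. -/
theorem exists_odd_pow_orderOf_two_pow (g : G) :
    ∃ m e : ℕ, Odd m ∧ orderOf (g ^ m) = 2 ^ e := by
  obtain ⟨e, m, hm, hn⟩ := Nat.exists_eq_two_pow_mul_odd (orderOf_pos g).ne'
  refine ⟨m, e, hm, ?_⟩
  rw [orderOf_pow_of_dvd hm.pos.ne' ⟨2 ^ e, by rw [hn, mul_comm]⟩, hn,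
    Nat.mul_div_cancel _ hm.pos]

/-- The odd part of an element: a `2`-power power which has odd order. -/
theorem exists_two_pow_pow_odd (g : G) : ∃ e : ℕ, Odd (orderOf (g ^ 2 ^ e)) := by
  obtain ⟨e, m, hm, hn⟩ := Nat.exists_eq_two_pow_mul_odd (orderOf_pos g).ne'
  refine ⟨e, ?_⟩
  rw [orderOf_pow_of_dvd (pow_pos two_pos e).ne' ⟨m, hn⟩, hn,
    Nat.mul_div_cancel_left _ (pow_pos two_pos e)]
  exact hm

/-- An element of odd order whose square is an involution or trivial is trivial. -/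
theorem eq_one_of_odd_of_pow_four {x : G} (hodd : Odd (orderOf x)) (h4 : x ^ 4 = 1) : x = 1 := by
  have h1 : orderOf x ∣ 4 := orderOf_dvd_of_pow_eq_one h4
  have h2 : orderOf x ∣ 2 ^ 2 := by simpa using h1
  obtain ⟨k, -, hk⟩ := (Nat.dvd_prime_pow Nat.prime_two).mp h2
  rcases Nat.eq_zero_or_pos k with rfl | hkpos
  · rw [pow_zero] at hk
    exact orderOf_eq_one_iff.mp hk
  · exfalso
    rw [hk] at hodd
    exact (Nat.not_even_iff_odd.mpr hodd) ((Nat.even_pow' hkpos.ne').mpr even_two)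

end Inverting

/-- **Key lemma.** A finite solvable group without nontrivial normal subgroups of odd order, in which
every element is real and all involutions are conjugate, has at most one involution. -/
theorem involution_unique_of_oddCore_trivial {H : Type*} [Group H] [Finite H] [Group.IsSolvable H]
    (hO : ∀ K : Subgroup H, K.Normal → Odd (Nat.card K) → K = ⊥)
    (hamb : ∀ x : H, IsConj x x⁻¹)
    (hone : ∀ s t : H, orderOf s = 2 → orderOf t = 2 → IsConj s t)
    {s t : H} (hs : orderOf s = 2) (ht : orderOf t = 2) : s = t := by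
  classical
  by_contra hst
  have hs1 : s ≠ 1 := fun h => by rw [h, orderOf_one] at hs; omega
  have ht1 : t ≠ 1 := fun h => by rw [h, orderOf_one] at ht; omega
  haveI : Nontrivial H := ⟨⟨s, 1, hs1⟩⟩
  obtain ⟨V, hV⟩ := exists_isMinNormal (G := H)
  have hVc := hV.isMulCommutative
  obtain ⟨p, hp, hexp⟩ := hV.exists_prime_pow_eq_one
  obtain ⟨hVn, hV1, -⟩ := hV
  haveI := hVn
  have hp2 : p = 2 := by
    by_contra hne
    apply hV1
    apply hO V hVn
    haveI : Fact p.Prime := ⟨hp⟩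
    have hVp : IsPGroup p V := fun x =>
      ⟨1, by rw [pow_one]; exact Subtype.ext (by simpa using hexp x x.2)⟩
    obtain ⟨k, hk⟩ := (IsPGroup.iff_card).mp hVp
    rw [hk]
    exact Odd.pow (hp.odd_of_ne_two hne)
  subst hp2
  obtain ⟨z₀, hz₀V, hz₀1⟩ := (Subgroup.bot_or_exists_ne_one V).resolve_left hV1
  have hz₀ : orderOf z₀ = 2 := orderOf_eq_prime (hexp z₀ hz₀V) hz₀1
  have hinV : ∀ x : H, orderOf x = 2 → x ∈ V := by
    intro x hx
    obtain ⟨c, hc⟩ := isConj_iff.mp (hone z₀ x hz₀ hx)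
    rw [← hc]
    exact hVn.conj_mem z₀ hz₀V c
  have hord : ∀ v ∈ V, v ≠ 1 → orderOf v = 2 := fun v hv hv1 =>
    orderOf_eq_prime (hexp v hv) hv1
  obtain ⟨h, r, hr, hrV, hcent, hfpf⟩ := exists_fpf_of_transitive_conj V hVc
    (fun v w hv hw hv1 hw1 => isConj_iff.mp (hone v w (hord v hv hv1) (hord w hw hw1)))
    ⟨s, t, hinV s hs, hinV t ht, hs1, ht1, hst⟩
  -- `r` is odd
  have h2V : 2 ∣ Nat.card V := by
    have h1 : orderOf (⟨z₀, hz₀V⟩ : V) = 2 := by
      rw [← Subgroup.orderOf_coe]; exact hz₀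
    rw [← h1]
    exact orderOf_dvd_natCard _
  have hr2 : r ≠ 2 := by
    rintro rfl
    exact hrV h2V
  -- the odd part `h'` of `h` is still fixed-point-free on `V`
  obtain ⟨e, he⟩ := exists_two_pow_pow_odd h
  obtain ⟨h', hh'⟩ : ∃ h' : H, h' = h ^ 2 ^ e := ⟨_, rfl⟩
  rw [← hh'] at he
  have hfpf' : ∀ v ∈ V, Commute h' v → v = 1 := by
    intro v hv hcomm
    apply hfpf v hv
    have hcop : Nat.Coprime (2 ^ e) r :=
      Nat.Coprime.pow_left e ((Nat.coprime_primes Nat.prime_two hr).mpr (Ne.symm hr2))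
    obtain ⟨i, -, hi⟩ := Nat.exists_mul_mod_eq_one_of_coprime hcop hr.one_lt
    obtain ⟨q, h1⟩ : ∃ q : ℕ, 2 ^ e * i = r * q + 1 := by
      refine ⟨2 ^ e * i / r, ?_⟩
      have := Nat.div_add_mod (2 ^ e * i) r
      omega
    have h2 : h' ^ i = (h ^ r) ^ q * h := by
      rw [hh', ← pow_mul, h1, pow_succ, pow_mul]
    have h3 : Commute ((h ^ r) ^ q) v := (show Commute (h ^ r) v from hcent v hv).pow_left _
    have h4 : Commute (h' ^ i) v := hcomm.pow_left i
    have h5 : h = ((h ^ r) ^ q)⁻¹ * h' ^ i := by rw [h2, inv_mul_cancel_left]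
    have h6 : Commute h v := by
      rw [h5]
      exact h3.inv_left.mul_left h4
    exact h6.eq
  have hh'1 : h' ≠ 1 := by
    intro h1
    apply hs1
    apply hfpf' s (hinV s hs)
    rw [h1]
    exact Commute.one_left s
  -- an inverting 2-element
  obtain ⟨g₀, hg₀⟩ := isConj_iff.mp (hamb h')
  obtain ⟨m, f, hm, hf⟩ := exists_odd_pow_orderOf_two_pow g₀
  obtain ⟨g, hg⟩ : ∃ g : H, g = g₀ ^ m := ⟨_, rfl⟩
  rw [← hg] at hf
  have hinv : g * h' * g⁻¹ = h'⁻¹ := hg ▸ odd_pow_inverts hg₀ hm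
  have hf1 : f ≠ 0 := by
    rintro rfl
    rw [pow_zero, orderOf_eq_one_iff] at hf
    rw [hf, one_mul, inv_one, mul_one] at hinv
    apply hh'1
    apply eq_one_of_odd_of_pow_four he
    have : h' * h' = 1 := by
      nth_rewrite 2 [hinv]
      exact mul_inv_cancel h'
    calc h' ^ 4 = (h' ^ 2) ^ 2 := by rw [← pow_mul]
      _ = 1 := by rw [sq h', this, one_pow]
  obtain ⟨f', rfl⟩ := Nat.exists_eq_succ_of_ne_zero hf1
  obtain ⟨z, hz⟩ : ∃ z : H, z = g ^ 2 ^ f' := ⟨_, rfl⟩
  have hzord : orderOf z = 2 := by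
    rw [hz, orderOf_pow_of_dvd (pow_pos two_pos f').ne' ⟨2, by rw [hf, pow_succ]⟩, hf, pow_succ,
      Nat.mul_div_cancel_left _ (pow_pos two_pos f')]
  have hzV : z ∈ V := hinV z hzord
  have hz1 : z ≠ 1 := fun h => by rw [h, orderOf_one] at hzord; omega
  rcases Nat.eq_zero_or_pos f' with rfl | hf'pos
  · -- `z = g` inverts `h'`
    have hzg : z = g := by rw [hz, pow_zero, pow_one]
    rw [← hzg] at hinv
    apply hh'1
    apply eq_one_of_odd_of_pow_four he
    have h1 : h' * z * h'⁻¹ * z⁻¹ ∈ V := V.mul_mem (hVn.conj_mem z hzV h') (V.inv_mem hzV)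
    have h2 : h' * z * h'⁻¹ * z⁻¹ = h' ^ 2 := by
      have h3 : z * h'⁻¹ * z⁻¹ = h' := by
        have h4 : (z * h' * z⁻¹)⁻¹ = z * h'⁻¹ * z⁻¹ := by group
        rw [← h4, hinv, inv_inv]
      calc h' * z * h'⁻¹ * z⁻¹ = h' * (z * h'⁻¹ * z⁻¹) := by group
        _ = h' ^ 2 := by rw [h3, sq]
    rw [h2] at h1
    have := hexp _ h1
    rw [← pow_mul] at this
    exact this
  · -- `z` is an even power of `g`, so it commutes with `h'`
    have hev : Even (2 ^ f') := (Nat.even_pow' hf'pos.ne').mpr even_two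
    have hc : Commute z h' := hz ▸ commute_even_pow_of_inverts hinv hev
    exact hz1 (hfpf' z hzV hc.symm)

section Quotient

variable {G : Type*} [Group G] [Finite G]

/-- Lifting involutions along a quotient by a normal subgroup of odd order. -/
theorem exists_lift_involution (K : Subgroup G) [K.Normal] (hK : Odd (Nat.card K))
    (y : G ⧸ K) (hy : orderOf y = 2) : ∃ x : G, orderOf x = 2 ∧ (x : G ⧸ K) = y := by
  obtain ⟨x₀, rfl⟩ := QuotientGroup.mk_surjective y
  have hy2 : ((x₀ : G ⧸ K)) ^ 2 = 1 := by rw [← hy]; exact pow_orderOf_eq_one _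
  have hy1 : (x₀ : G ⧸ K) ≠ 1 := fun h => by rw [h, orderOf_one] at hy; omega
  have hx₀ : x₀ ^ 2 ∈ K := by
    rw [← QuotientGroup.eq_one_iff, QuotientGroup.mk_pow]
    exact hy2
  set m := orderOf (⟨x₀ ^ 2, hx₀⟩ : K) with hm
  have hmodd : Odd m := Odd.of_dvd_nat hK (orderOf_dvd_natCard _)
  have hpow : (x₀ ^ 2) ^ m = 1 := by
    have := pow_orderOf_eq_one (⟨x₀ ^ 2, hx₀⟩ : K)
    exact congrArg Subtype.val this
  have hmk : ((x₀ ^ m : G) : G ⧸ K) = (x₀ : G ⧸ K) := by
    obtain ⟨j, hj⟩ := hmodd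
    rw [QuotientGroup.mk_pow, hj, pow_succ, pow_mul, hy2, one_pow, one_mul]
  refine ⟨x₀ ^ m, ?_, hmk⟩
  apply orderOf_eq_prime
  · rw [← pow_mul, mul_comm, pow_mul]; exact hpow
  · intro h
    rw [h] at hmk
    exact hy1 hmk.symm

/-- In a finite solvable group in which every element is real and all involutions are conjugate, any
two involutions are congruent modulo `O(G)`. -/
theorem involution_inv_mul_mem_oddCore [Group.IsSolvable G]
    (hamb : ∀ x : G, IsConj x x⁻¹)
    (hone : ∀ s t : G, orderOf s = 2 → orderOf t = 2 → IsConj s t)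
    {s t : G} (hs : orderOf s = 2) (ht : orderOf t = 2) : s⁻¹ * t ∈ Cfsg.pPrimeCore 2 G := by
  classical
  set K := Cfsg.pPrimeCore 2 G with hK
  haveI hKn : K.Normal := by
    haveI := Cfsg.Agent.Lib.Helper12.pPrimeCore_characteristic (G := G) 2
    infer_instance
  have hKodd : Odd (Nat.card K) :=
    Nat.Coprime.odd_of_right (Cfsg.Agent.Lib.Helper12.pPrimeCore_coprime 2)
  have hnotK : ∀ x : G, orderOf x = 2 → x ∉ K := by
    intro x hx hxK
    have h1 : orderOf (⟨x, hxK⟩ : K) = 2 := by rw [← Subgroup.orderOf_coe]; exact hx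
    have h2 : 2 ∣ Nat.card K := h1 ▸ orderOf_dvd_natCard _
    exact (Nat.not_even_iff_odd.mpr hKodd) (even_iff_two_dvd.mpr h2)
  have hmkord : ∀ x : G, orderOf x = 2 → orderOf (x : G ⧸ K) = 2 := by
    intro x hx
    apply orderOf_eq_prime
    · rw [← QuotientGroup.mk_pow, ← hx, pow_orderOf_eq_one]; rfl
    · intro h
      exact hnotK x hx ((QuotientGroup.eq_one_iff x).mp h)
  have hO : ∀ L : Subgroup (G ⧸ K), L.Normal → Odd (Nat.card L) → L = ⊥ := by
    intro L hLn hLodd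
    have h1 : L.comap (QuotientGroup.mk' K) ≤ K := by
      apply Cfsg.Agent.Lib.Helper12.le_pPrimeCore
      · exact hLn.comap _
      · rw [Cfsg.Agent.Lib.Helper12.card_comap_mk']
        exact Nat.Coprime.symm (Nat.coprime_two_left.mpr (hKodd.mul hLodd))
    rw [eq_bot_iff]
    intro x hx
    obtain ⟨y, rfl⟩ := QuotientGroup.mk'_surjective K x
    rw [Subgroup.mem_bot]
    exact (QuotientGroup.eq_one_iff y).mpr (h1 hx)
  have hamb' : ∀ x : G ⧸ K, IsConj x x⁻¹ := by
    intro x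
    obtain ⟨y, rfl⟩ := QuotientGroup.mk'_surjective K x
    have := (QuotientGroup.mk' K).map_isConj (hamb y)
    simpa using this
  have hone' : ∀ a b : G ⧸ K, orderOf a = 2 → orderOf b = 2 → IsConj a b := by
    intro a b ha hb
    obtain ⟨x, hx, rfl⟩ := exists_lift_involution K hKodd a ha
    obtain ⟨y, hy, rfl⟩ := exists_lift_involution K hKodd b hb
    exact (QuotientGroup.mk' K).map_isConj (hone x y hx hy)
  have := involution_unique_of_oddCore_trivial hO hamb' hone' (hmkord s hs) (hmkord t ht)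
  exact QuotientGroup.eq.mp this

/-- A Sylow 2-subgroup has a unique involution. -/
theorem sylow_involution_unique [Group.IsSolvable G]
    (hamb : ∀ x : G, IsConj x x⁻¹)
    (hone : ∀ s t : G, orderOf s = 2 → orderOf t = 2 → IsConj s t) (S : Sylow 2 G)
    {s t : G} (hsS : s ∈ S) (htS : t ∈ S) (hs : orderOf s = 2) (ht : orderOf t = 2) : s = t := by
  have h1 := involution_inv_mul_mem_oddCore hamb hone hs ht
  have h2 : s⁻¹ * t ∈ (S : Subgroup G) := S.mul_mem (S.inv_mem hsS) htS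
  have hcop : (Nat.card (Cfsg.pPrimeCore 2 G)).Coprime 2 :=
    Cfsg.Agent.Lib.Helper12.pPrimeCore_coprime 2
  obtain ⟨k, hk⟩ := S.2 ⟨s⁻¹ * t, h2⟩
  have hk' : (s⁻¹ * t) ^ 2 ^ k = 1 := congrArg Subtype.val hk
  have h3 : orderOf (s⁻¹ * t) ∣ 2 ^ k := orderOf_dvd_of_pow_eq_one hk'
  have h4 : orderOf (s⁻¹ * t) ∣ Nat.card (Cfsg.pPrimeCore 2 G) := by
    have : orderOf (⟨s⁻¹ * t, h1⟩ : Cfsg.pPrimeCore 2 G) = orderOf (s⁻¹ * t) := by
      rw [← Subgroup.orderOf_coe]
    rw [← this]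
    exact orderOf_dvd_natCard _
  have h5 : orderOf (s⁻¹ * t) = 1 :=
    Nat.eq_one_of_dvd_coprimes (Nat.Coprime.pow_right k hcop) h4 h3
  rw [orderOf_eq_one_iff] at h5
  exact inv_mul_eq_one.mp h5

end Quotient

section Structure

variable {G : Type*} [Group G] [Finite G]

/-- An element of odd order inverted by an element of odd order is trivial. -/
theorem eq_one_of_odd_inverts {k c : G} (h : k * c * k⁻¹ = c⁻¹) (hk : Odd (orderOf k))
    (hc : Odd (orderOf c)) : c = 1 := by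
  have h1 := odd_pow_inverts h hk
  rw [pow_orderOf_eq_one, one_mul, inv_one, mul_one] at h1
  apply eq_one_of_odd_of_pow_four hc
  have h2 : c * c = 1 := by
    nth_rewrite 2 [h1]
    exact mul_inv_cancel c
  calc c ^ 4 = (c ^ 2) ^ 2 := by rw [← pow_mul]
    _ = 1 := by rw [sq c, h2, one_pow]

/-- If every element is real and a Sylow 2-subgroup is cyclic, it has order at most 2. -/
theorem sylow_card_two_of_isCyclic (hamb : ∀ x : G, IsConj x x⁻¹) (heven : 2 ∣ Nat.card G)
    (S : Sylow 2 G) (hS : IsCyclic S) : Nat.card S = 2 := by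
  have hmin : (Nat.card G).minFac = 2 := (Nat.minFac_eq_two_iff _).mpr heven
  have hNC := hS.normalizer_le_centralizer hmin
  obtain ⟨x, hx⟩ := hS.exists_generator
  have hgen : ∀ y ∈ (S : Subgroup G), ∃ k : ℤ, (x : G) ^ k = y := by
    intro y hy
    obtain ⟨k, hk⟩ := Subgroup.mem_zpowers_iff.mp (hx ⟨y, hy⟩)
    refine ⟨k, ?_⟩
    have := congrArg Subtype.val hk
    simpa using this
  obtain ⟨g, hg⟩ := isConj_iff.mp (hamb (x : G))
  have hconj : ∀ g' : G, g' * (x : G) * g'⁻¹ = (x : G)⁻¹ → ∀ y ∈ (S : Subgroup G),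
      g' * y * g'⁻¹ ∈ (S : Subgroup G) := by
    intro g' hg' y hy
    obtain ⟨k, rfl⟩ := hgen y hy
    rw [← conj_zpow, hg']
    exact S.zpow_mem (S.inv_mem x.2) k
  have hg' : g⁻¹ * (x : G) * g⁻¹⁻¹ = (x : G)⁻¹ := by
    have h1 : (x : G) = g⁻¹ * (x : G)⁻¹ * g := by rw [← hg]; group
    have h2 : (g⁻¹ * (x : G)⁻¹ * g)⁻¹ = g⁻¹ * (x : G) * g⁻¹⁻¹ := by group
    rw [← h2, ← h1]
  have hgN : g ∈ Subgroup.normalizer ((S : Subgroup G) : Set G) := by
    rw [Subgroup.mem_normalizer_iff]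
    intro y
    refine ⟨hconj g hg y, fun hy => ?_⟩
    have := hconj g⁻¹ hg' _ hy
    have h3 : g⁻¹ * (g * y * g⁻¹) * g⁻¹⁻¹ = y := by group
    rwa [h3] at this
  have hgC := hNC hgN
  have hcomm := (Subgroup.mem_centralizer_iff.mp hgC) (x : G) x.2
  have hxx : (x : G) = (x : G)⁻¹ := by
    rw [← hg, ← hcomm, mul_inv_cancel_right]
  have hx2 : (x : G) ^ 2 = 1 := by
    rw [sq]
    nth_rewrite 2 [hxx]
    exact mul_inv_cancel _
  have hord : orderOf x ∣ 2 := by
    rw [← Subgroup.orderOf_coe]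
    exact orderOf_dvd_of_pow_eq_one hx2
  rw [orderOf_eq_card_of_forall_mem_zpowers hx] at hord
  exact Nat.dvd_antisymm hord (S.dvd_card_of_dvd_card heven)

/-- The structure of a group with all elements real and Sylow 2-subgroups of order 2. -/
theorem structure_of_sylow_card_two (hamb : ∀ x : G, IsConj x x⁻¹) (S : Sylow 2 G)
    (hS2 : Nat.card S = 2) :
    (S : Subgroup G).IsComplement' (Cfsg.pPrimeCore 2 G) ∧
      Cfsg.pPrimeCore 2 G = commutator G ∧
      ∀ t : G, t ∈ S → t ≠ 1 → ∀ x : G, x ∈ Cfsg.pPrimeCore 2 G → t * x * t⁻¹ = x⁻¹ := by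
  classical
  have heven : 2 ∣ Nat.card G := hS2 ▸ Subgroup.card_subgroup_dvd_card (S : Subgroup G)
  have hmin : (Nat.card G).minFac = 2 := (Nat.minFac_eq_two_iff _).mpr heven
  have hScyc : IsCyclic S := isCyclic_of_prime_card hS2
  have hcompl := IsCyclic.isComplement' hmin hScyc
  have hNC := hScyc.normalizer_le_centralizer hmin
  set Q := (MonoidHom.transferSylow S hNC).ker with hQ
  have hQodd : ¬ 2 ∣ Nat.card Q := MonoidHom.not_dvd_card_ker_transferSylow S hNC
  have hcard : Nat.card Q * 2 = Nat.card G := by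
    rw [← hS2]; exact hcompl.card_mul_card
  set K := Cfsg.pPrimeCore 2 G with hK
  haveI hKn : K.Normal := by
    haveI := Cfsg.Agent.Lib.Helper12.pPrimeCore_characteristic (G := G) 2
    infer_instance
  have hKodd : Odd (Nat.card K) :=
    Nat.Coprime.odd_of_right (Cfsg.Agent.Lib.Helper12.pPrimeCore_coprime 2)
  have hQK : Q ≤ K :=
    Cfsg.Agent.Lib.Helper12.le_pPrimeCore 2 Q inferInstance
      (Nat.Coprime.symm ((Nat.Prime.coprime_iff_not_dvd Nat.prime_two).mpr hQodd))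
  have hKQ : Q = K := by
    apply Subgroup.eq_of_le_of_card_ge hQK
    have h1 : Nat.card K ∣ Nat.card Q * 2 := hcard ▸ Subgroup.card_subgroup_dvd_card K
    have h2 : Nat.card K ∣ Nat.card Q :=
      (Nat.Coprime.dvd_mul_right (Nat.coprime_two_right.mpr hKodd)).mp h1
    exact Nat.le_of_dvd Nat.card_pos h2
  have hcomplK : (S : Subgroup G).IsComplement' K := by
    rw [← hKQ]; exact hcompl.symm
  have hindex : K.index = 2 := by
    rw [hcomplK.index_eq_card, hS2]
  have hdisj : ∀ y : G, y ∈ S → y ∈ K → y = 1 := by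
    intro y hyS hyK
    have := hcomplK.disjoint
    rw [Subgroup.disjoint_def] at this
    exact this hyS hyK
  have hoddK : ∀ y ∈ K, Odd (orderOf y) := by
    intro y hy
    have h1 : orderOf (⟨y, hy⟩ : K) = orderOf y := by rw [← Subgroup.orderOf_coe]
    rw [← h1]
    exact Odd.of_dvd_nat hKodd (orderOf_dvd_natCard _)
  -- the inversion property
  have hinvert : ∀ t : G, t ∈ S → t ≠ 1 → ∀ x : G, x ∈ K → t * x * t⁻¹ = x⁻¹ := by
    intro t htS ht1 x hxK
    have htK : t ∉ K := fun h => ht1 (hdisj t htS h)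
    have ht2 : t * t = 1 := by
      have h1 : orderOf (⟨t, htS⟩ : S) ∣ Nat.card S := orderOf_dvd_natCard _
      rw [hS2] at h1
      have h2 : (⟨t, htS⟩ : S) ^ 2 = 1 := orderOf_dvd_iff_pow_eq_one.mp h1
      have h3 := congrArg Subtype.val h2
      rw [sq] at h3
      exact h3
    have htinv : t⁻¹ = t := inv_eq_of_mul_eq_one_right ht2
    -- fixed points of `t` on `K` are trivial
    have hfix : ∀ c ∈ K, t * c * t⁻¹ = c → c = 1 := by
      intro c hcK hc
      obtain ⟨g, hg⟩ := isConj_iff.mp (hamb c)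
      obtain ⟨k, hkK, hk⟩ : ∃ k ∈ K, k * c * k⁻¹ = c⁻¹ := by
        by_cases hgK : g ∈ K
        · exact ⟨g, hgK, hg⟩
        · refine ⟨g * t, ?_, ?_⟩
          · rw [Subgroup.mul_mem_iff_of_index_two hindex]
            exact ⟨fun h => absurd h hgK, fun h => absurd h htK⟩
          · rw [mul_inv_rev]
            calc g * t * c * (t⁻¹ * g⁻¹) = g * (t * c * t⁻¹) * g⁻¹ := by group
              _ = c⁻¹ := by rw [hc, hg]
      exact eq_one_of_odd_inverts hk (hoddK k hkK) (hoddK c hcK)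
    let f : K → K := fun k => ⟨(k : G)⁻¹ * (t * (k : G) * t⁻¹),
      K.mul_mem (K.inv_mem k.2) (hKn.conj_mem k k.2 t)⟩
    have hfinj : Function.Injective f := by
      intro k l hkl
      have h1 : (k : G)⁻¹ * (t * (k : G) * t⁻¹) = (l : G)⁻¹ * (t * (l : G) * t⁻¹) :=
        congrArg Subtype.val hkl
      have h2 : t * ((l : G) * (k : G)⁻¹) * t⁻¹ = (l : G) * (k : G)⁻¹ := by
        have h3 : t * ((l : G) * (k : G)⁻¹) * t⁻¹ = (t * l * t⁻¹) * (t * k * t⁻¹)⁻¹ := by group
        have h4 : t * (k : G) * t⁻¹ = k * ((l : G)⁻¹ * (t * l * t⁻¹)) := by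
          rw [← h1]; group
        rw [h3, h4]; group
      have h5 := hfix _ (K.mul_mem l.2 (K.inv_mem k.2)) h2
      exact Subtype.ext (mul_inv_eq_one.mp h5).symm
    obtain ⟨k, hk⟩ := (Finite.injective_iff_surjective.mp hfinj) ⟨x, hxK⟩
    have hk' : (k : G)⁻¹ * (t * (k : G) * t⁻¹) = x := congrArg Subtype.val hk
    rw [← hk']
    calc t * ((k : G)⁻¹ * (t * k * t⁻¹)) * t⁻¹
        = (t * (k : G)⁻¹ * t⁻¹) * ((t * t) * k * (t * t)⁻¹) := by group
      _ = ((k : G)⁻¹ * (t * k * t⁻¹))⁻¹ := by rw [ht2]; group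
  refine ⟨hcomplK, ?_, hinvert⟩
  -- `K = G'`
  apply le_antisymm
  · intro x hxK
    have hSne : (S : Subgroup G) ≠ ⊥ := by
      intro h
      have : Nat.card (S : Subgroup G) = 1 := by rw [h, Subgroup.card_bot]
      omega
    obtain ⟨t, htS, ht1⟩ := (Subgroup.bot_or_exists_ne_one (S : Subgroup G)).resolve_left hSne
    obtain ⟨j, hj⟩ := hoddK x hxK
    set y := x ^ (j + 1) with hy
    have hyK : y ∈ K := K.pow_mem hxK _
    have hyy : y * y = x := by
      rw [hy, ← pow_add]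
      have : j + 1 + (j + 1) = orderOf x + 1 := by omega
      rw [this, pow_succ, pow_orderOf_eq_one, one_mul]
    have hcomm : ⁅t, y⁻¹⁆ = x := by
      rw [commutatorElement_def, hinvert t htS ht1 y⁻¹ (K.inv_mem hyK), inv_inv, hyy]
    rw [commutator_def, ← hcomm]
    exact Subgroup.commutator_mem_commutator (Subgroup.mem_top _) (Subgroup.mem_top _)
  · rw [commutator_def, Subgroup.commutator_le]
    intro a _ b _
    rw [commutatorElement_def, Subgroup.mul_mem_iff_of_index_two hindex, inv_mem_iff,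
      hKn.mem_comm_iff, inv_mul_cancel_left]

end Structure

end Cfsg.Agent.Lib.Helper18.AmbivalentSolv
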