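import Mathlib
import Cfsg.Agent.Lib.Helper18.AGenC
import Cfsg.Agent.Lib.Helper20.AltIndexGlue

/-!
# Groups generated by two cycles of prime lengths (helper18): degree `6`

A primitive subgroup of `A₆` containing a `5`-cycle is `A₆` or isomorphic to `A₅`.
-/

set_option autoImplicit false

namespace Cfsg.Agent.Lib.Helper18.AGen

open Equiv Equiv.Perm MulAction
open Cfsg.Agent.Lib.Helper9

/-- An embedding `Fin 2 ↪ α` from two distinct points. -/
def embOfD2 {α : Type*} {a b : α} (hab : a ≠ b) : Fin 2 ↪ α where
  toFun := ![a, b]
  inj' := by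
    intro i j hij
    fin_cases i <;> fin_cases j <;> simp_all

theorem sharp2_of_isMultiplyPretransitive {G α : Type*} [Group G] [MulAction G α]
    (h2 : MulAction.IsMultiplyPretransitive G α 2)
    (hsharp : ∀ x : Fin 2 ↪ α, MulAction.stabilizer G x = ⊥) : Sharp2 G α := by
  refine ⟨?_, ?_⟩
  · intro a b a' b' hab hab'
    obtain ⟨g, hg⟩ := h2.exists_smul_eq (embOfD2 hab) (embOfD2 hab')
    have key : ∀ i : Fin 2, g • (embOfD2 hab) i = (embOfD2 hab') i := by
      intro i
      rw [← hg]
      rfl
    exact ⟨g, key 0, key 1⟩
  · intro g a b hab ha hb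
    have : g ∈ MulAction.stabilizer G (embOfD2 hab) := by
      rw [MulAction.mem_stabilizer_iff]
      ext i
      fin_cases i
      · exact ha
      · exact hb
    rw [hsharp] at this
    exact Subgroup.mem_bot.mp this

section Six

variable {β : Type*} [Fintype β] [DecidableEq β]

/-- a subgroup of index `6` of `A₆` is isomorphic to `A₅`. -/
theorem iso_alt_five_of_index_six (hcard : Fintype.card β = 6)
    (H : Subgroup (alternatingGroup β)) (hH : H.index = 6) :
    Nonempty (H ≃* alternatingGroup (Fin 5)) := by
  classical
  have hncard : Nat.card β = 6 := by rw [Nat.card_eq_fintype_card, hcard]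
  have : Nontrivial β := by
    rw [← Fintype.one_lt_card_iff_nontrivial, hcard]; norm_num
  have hA : Nat.card (alternatingGroup β) = 360 := by
    have := two_mul_nat_card_alternatingGroup (α := β)
    rw [Nat.card_perm, hncard] at this
    have e1 : Nat.factorial 6 = 720 := by decide
    omega
  have : IsSimpleGroup (alternatingGroup β) := alternatingGroup.isSimpleGroup (by omega)
  have hns : ¬ Group.IsSolvable (alternatingGroup β) := by
    apply Cfsg.Agent.Lib.Helper20.A8Sub.not_isSolvable_of_simple_of_not_prime
    rw [hA]; norm_num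
  let Ω := alternatingGroup β ⧸ H
  let _ : Fintype Ω := Fintype.ofFinite _
  let ρ : alternatingGroup β →* Perm Ω := MulAction.toPermHom (alternatingGroup β) Ω
  have hcardΩ : Fintype.card Ω = 6 := by
    rw [← Nat.card_eq_fintype_card, ← Subgroup.index_eq_card, hH]
  have hHtop : H ≠ ⊤ := by
    intro h
    rw [h, Subgroup.index_top] at hH
    omega
  have hker : ρ.ker = ⊥ := by
    rcases ρ.normal_ker.eq_bot_or_eq_top with h | h
    · exact h
    · exfalso
      apply hHtop
      rw [eq_top_iff]
      intro g _
      have hg : g ∈ ρ.ker := by rw [h]; trivial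
      rw [MonoidHom.mem_ker] at hg
      have h1 : ρ g ((1 : alternatingGroup β) : Ω) = ((1 : alternatingGroup β) : Ω) := by
        rw [hg]; rfl
      have h2 : ρ g ((1 : alternatingGroup β) : Ω) = ((g * 1 : alternatingGroup β) : Ω) := rfl
      rw [h2, mul_one] at h1
      have h3 := QuotientGroup.eq.mp h1
      have h4 : g⁻¹ ∈ H := by simpa using h3
      simpa using H.inv_mem h4
  have hρ : Function.Injective ρ := (MonoidHom.ker_eq_bot_iff ρ).mp hker
  have hsign : ∀ g, Perm.sign (ρ g) = 1 :=
    fun g => Cfsg.Agent.Lib.Helper20.A8Sub.sign_eq_one_of_simple hns ρ g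
  let o : Ω := ((1 : alternatingGroup β) : Ω)
  have hfix : ∀ h : H, ρ (h : alternatingGroup β) o = o := by
    intro h
    show (((h : alternatingGroup β) * 1 : alternatingGroup β) : Ω) = ((1 : alternatingGroup β) : Ω)
    rw [mul_one]
    apply QuotientGroup.eq.mpr
    simpa using H.inv_mem h.2
  have hpres : ∀ (h : H) (w : Ω), ρ (h : alternatingGroup β) w ≠ o ↔ w ≠ o := by
    intro h w
    constructor
    · intro h1 h2
      apply h1
      rw [h2]
      exact hfix h
    · intro h1 h2
      apply h1
      have := (ρ (h : alternatingGroup β)).injective (h2.trans (hfix h).symm)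
      exact this
  let φ : H →* Perm {w : Ω // w ≠ o} :=
    { toFun := fun h => (ρ (h : alternatingGroup β)).subtypePerm (hpres h)
      map_one' := by
        ext w
        simp
      map_mul' := by
        intro a b
        ext w
        show ρ ((a * b : H) : alternatingGroup β) w = ρ a (ρ b w)
        rw [Subgroup.coe_mul, map_mul]
        rfl }
  have hφsign : ∀ h : H, Perm.sign (φ h) = 1 := by
    intro h
    show Perm.sign ((ρ (h : alternatingGroup β)).subtypePerm (hpres h)) = 1
    rw [sign_subtypePerm]
    · exact hsign _
    · intro w hw hwo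
      apply hw
      rw [hwo]
      exact hfix h
  let ψ : H →* alternatingGroup {w : Ω // w ≠ o} :=
    φ.codRestrict (alternatingGroup {w : Ω // w ≠ o}) (fun h => mem_alternatingGroup.2 (hφsign h))
  have hψ : Function.Injective ψ := by
    rw [injective_iff_map_eq_one]
    intro h hh
    have h1 : φ h = 1 := congrArg Subtype.val hh
    have h2 : ρ (h : alternatingGroup β) = 1 := by
      ext w
      by_cases hw : w = o
      · rw [hw]
        exact hfix h
      · have := congrArg (fun σ : Perm {w : Ω // w ≠ o} => (σ ⟨w, hw⟩ : Ω)) h1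
        simpa [φ] using this
    have h3 : (h : alternatingGroup β) = 1 := hρ (h2.trans (map_one ρ).symm)
    exact Subtype.ext h3
  have hcardS : Fintype.card {w : Ω // w ≠ o} = 5 := by
    rw [Fintype.card_subtype_compl, hcardΩ]
    simp
  have hcardH : Nat.card H = 60 := by
    have := H.index_mul_card
    rw [hH, hA] at this
    omega
  have : Nontrivial {w : Ω // w ≠ o} := by
    rw [← Fintype.one_lt_card_iff_nontrivial, hcardS]; norm_num
  have hcardT : Nat.card (alternatingGroup {w : Ω // w ≠ o}) = 60 := by
    have := two_mul_nat_card_alternatingGroup (α := {w : Ω // w ≠ o})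
    have e0 : Nat.card {w : Ω // w ≠ o} = 5 := by rw [Nat.card_eq_fintype_card, hcardS]
    rw [Nat.card_perm, e0] at this
    have e1 : Nat.factorial 5 = 120 := by decide
    omega
  have hbij : Function.Bijective ψ := by
    rw [Nat.bijective_iff_injective_and_card]
    exact ⟨hψ, by rw [hcardH, hcardT]⟩
  exact ⟨(MulEquiv.ofBijective ψ hbij).trans (Equiv.altCongrHom (Fintype.equivFinOfCardEq hcardS))⟩

/-- A primitive group of even permutations of degree `6` containing a `5`-cycle is `A₆` or is
isomorphic to `A₅`. -/
theorem six_cases {K : Subgroup (Perm β)} (hcard : Fintype.card β = 6)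
    (hKalt : K ≤ alternatingGroup β) (hprim : IsPreprimitive K β) {Y : Perm β}
    (hY : Y.IsCycle) (hY5 : Y.support.card = 5) (hYK : Y ∈ K) :
    alternatingGroup β ≤ K ∨ Nonempty (K ≃* alternatingGroup (Fin 5)) := by
  classical
  have hncard : Nat.card β = 6 := by rw [Nat.card_eq_fintype_card, hcard]
  have h2 : IsMultiplyPretransitive K β 2 :=
    multTrans_of_prime_cycle hprim Nat.prime_five (r := 1) (by norm_num) (by rw [hcard]) hY hY5 hYK
  have hne : Fintype.card (Fin 2) ≤ Fintype.card β := by rw [Fintype.card_fin, hcard]; norm_num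
  obtain ⟨x⟩ := Function.Embedding.nonempty_of_card_le hne
  have hc := Cfsg.Agent.Lib.Helper20.Miller.card_stab_mul h2 x
  rw [hncard] at hc
  have hc' : Nat.card (stabilizer ↥K x) * 720 = Nat.card K * 24 := by
    have e1 : Nat.factorial 6 = 720 := by decide
    have e2 : Nat.factorial (6 - 2) = 24 := by decide
    rw [e1, e2] at hc
    exact hc
  have : Nontrivial β := by
    rw [← Fintype.one_lt_card_iff_nontrivial, hcard]; norm_num
  have hA : Nat.card (alternatingGroup β) = 360 := by
    have := two_mul_nat_card_alternatingGroup (α := β)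
    rw [Nat.card_perm, hncard] at this
    have e1 : Nat.factorial 6 = 720 := by decide
    omega
  have : IsSimpleGroup (alternatingGroup β) := alternatingGroup.isSimpleGroup (by omega)
  set K' : Subgroup (alternatingGroup β) := K.subgroupOf (alternatingGroup β) with hK'
  have hcardK' : Nat.card K' = Nat.card K :=
    Nat.card_congr (Subgroup.subgroupOfEquivOfLe hKalt).toEquiv
  by_cases htop : K' = ⊤
  · left
    exact Subgroup.subgroupOf_eq_top.mp htop
  · right
    have hdvd := card_dvd_factorial_index K' htop
    have hidx := K'.index_mul_card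
    rw [hcardK', hA] at hidx
    rw [hA] at hdvd
    have h6 : 6 ≤ K'.index := by
      by_contra hlt
      push Not at hlt
      have h1 : (K'.index).factorial ≤ Nat.factorial 5 := Nat.factorial_le (by omega)
      have h2 : Nat.factorial 5 = 120 := by decide
      have h3 : 0 < (K'.index).factorial := Nat.factorial_pos _
      have := Nat.le_of_dvd h3 hdvd
      omega
    have hpos : 0 < Nat.card (stabilizer ↥K x) := Nat.card_pos
    -- index * c = 12
    have hprod : K'.index * Nat.card (stabilizer ↥K x) = 12 := by
      have e : K'.index * (Nat.card (stabilizer ↥K x) * 720) = K'.index * (Nat.card K * 24) := by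
        rw [hc']
      have e2 : K'.index * (Nat.card K * 24) = 360 * 24 := by
        rw [← mul_assoc, hidx]
      nlinarith
    have hcle : Nat.card (stabilizer ↥K x) ≤ 2 := by
      by_contra hgt
      push Not at hgt
      nlinarith
    rcases Nat.lt_or_ge (Nat.card (stabilizer ↥K x)) 2 with hlt | hge
    · exfalso
      have hc1 : Nat.card (stabilizer ↥K x) = 1 := by omega
      have hsharp : ∀ x' : Fin 2 ↪ β, stabilizer ↥K x' = ⊥ := by
        intro x'
        have := Cfsg.Agent.Lib.Helper20.Miller.card_stab_eq h2 x' x
        exact Subgroup.card_eq_one.mp (this.trans hc1)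
      have hS : Sharp2 K β := sharp2_of_isMultiplyPretransitive h2 hsharp
      exact not_sharp2 hS (Or.inl hncard)
    · have hc2 : Nat.card (stabilizer ↥K x) = 2 := by omega
      have hidx6 : K'.index = 6 := by
        rw [hc2] at hprod
        omega
      obtain ⟨e⟩ := iso_alt_five_of_index_six hcard K' hidx6
      exact ⟨(Subgroup.subgroupOfEquivOfLe hKalt).symm.trans e⟩

end Six

end Cfsg.Agent.Lib.Helper18.AGen
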