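import Mathlib
import Cfsg.Agent.Lib.Helper18.AGenC

/-!
# Degree 13: a 3-transitive group containing an element of order 5 (helper18)

A primitive, `3`-transitive group of degree `13` containing an element of order `5` contains the
alternating group: the element is a `5`-cycle (Jordan), or has exactly three fixed points, and
then Miller's argument (helper20's `MSet` machinery, route B with `p = 5`, `k = 2`, `r = 3`)
applies.
-/

set_option autoImplicit false

namespace Cfsg.Agent.Lib.Helper18.AGen

open Equiv Equiv.Perm MulAction Cfsg.Agent.Lib.Helper20.Miller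

variable {β : Type*} [Fintype β] [DecidableEq β]

/-- an element of order `5` moving at most `9` points is a `5`-cycle. -/
theorem isCycle_of_order_five {u : Perm β} (hu : orderOf u = 5) (hs : u.support.card ≤ 9) :
    u.IsCycle ∧ u.support.card = 5 := by
  have : Fact (Nat.Prime 5) := ⟨Nat.prime_five⟩
  obtain ⟨n, hn⟩ := cycleType_prime_order (by rw [hu]; exact Nat.prime_five : (orderOf u).Prime)
  rw [hu] at hn
  have hsum : u.support.card = (n + 1) * 5 := by
    rw [← sum_cycleType, hn, Multiset.sum_replicate, smul_eq_mul]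
  have hn0 : n = 0 := by omega
  subst hn0
  refine ⟨?_, by rw [hsum]⟩
  rw [← card_cycleType_eq_one, hn]
  simp

/-- a primitive group of degree `13` containing an element of order `5` moving at most `9`
points contains the alternating group. -/
theorem alt_le_of_small_five {K : Subgroup (Perm β)} (hcard : Fintype.card β = 13)
    (hprim : IsPreprimitive K β) {u : Perm β} (huK : u ∈ K) (hu : orderOf u = 5)
    (hs : u.support.card ≤ 9) : alternatingGroup β ≤ K := by
  obtain ⟨hc, h5⟩ := isCycle_of_order_five hu hs
  exact jordan_prime_cycle hprim Nat.prime_five (by rw [hcard]; norm_num) hc h5 huK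


/-- in a `5`-group of permutations, a non-trivial element has a power of order `5` -/
theorem exists_pow_order_five {Q : Subgroup (Perm β)} (hQ : IsPGroup 5 Q) {u : Perm β}
    (hu : u ∈ Q) (hu1 : u ≠ 1) : ∃ j : ℕ, orderOf (u ^ j) = 5 := by
  obtain ⟨k, hk⟩ := hQ ⟨u, hu⟩
  have hk' : u ^ (5 ^ k) = 1 := by
    have := congrArg (Subtype.val) hk
    simpa using this
  have hdvd : orderOf u ∣ 5 ^ k := orderOf_dvd_of_pow_eq_one hk'
  obtain ⟨j, hjk, hj⟩ := (Nat.dvd_prime_pow Nat.prime_five).mp hdvd
  have hj0 : j ≠ 0 := by
    rintro rfl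
    rw [pow_zero, orderOf_eq_one_iff] at hj
    exact hu1 hj
  refine ⟨5 ^ (j - 1), ?_⟩
  rw [orderOf_pow_of_dvd (by positivity) (by rw [hj]; exact pow_dvd_pow 5 (Nat.sub_le j 1)), hj]
  have : j = (j - 1) + 1 := by omega
  conv_lhs => rw [this, pow_succ]
  exact Nat.mul_div_cancel_left 5 (by positivity)

/-- **Degree 13, order 5.** -/
theorem alt_le_of_order_five {K : Subgroup (Perm β)} (hcard : Fintype.card β = 13)
    (hprim : IsPreprimitive K β) (h3 : IsMultiplyPretransitive K β 3) {z : Perm β}
    (hzK : z ∈ K) (hz : orderOf z = 5) : alternatingGroup β ≤ K := by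
  classical
  have : Fact (Nat.Prime 5) := ⟨Nat.prime_five⟩
  have hncard : Nat.card β = 13 := by rw [Nat.card_eq_fintype_card, hcard]
  by_cases hs : z.support.card ≤ 9
  · exact alt_le_of_small_five hcard hprim hzK hz hs
  push Not at hs
  -- the support has exactly ten points
  obtain ⟨n, hn⟩ := cycleType_prime_order (by rw [hz]; exact Nat.prime_five : (orderOf z).Prime)
  rw [hz] at hn
  have hsum : z.support.card = (n + 1) * 5 := by
    rw [← sum_cycleType, hn, Multiset.sum_replicate, smul_eq_mul]
  have hle : z.support.card ≤ 13 := by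
    rw [← hcard]; exact Finset.card_le_univ _
  have hs10 : z.support.card = 10 := by omega
  -- the three fixed points
  have hfixcard : (z.supportᶜ).card = 3 := by
    rw [Finset.card_compl, hcard, hs10]
  let e : (z.supportᶜ : Finset β) ≃ Fin 3 := Finset.equivFinOfCardEq hfixcard
  let x : Fin 3 ↪ β := e.symm.toEmbedding.trans (Function.Embedding.subtype _)
  have hxmem : ∀ i, x i ∈ z.supportᶜ := fun i => (e.symm i).2
  have hxfix : ∀ i, z (x i) = x i := by
    intro i
    have := hxmem i
    rw [Finset.mem_compl, Perm.mem_support, not_not] at this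
    exact this
  have hxrange : ∀ a, a ∈ z.supportᶜ → ∃ i, x i = a := by
    intro a ha
    refine ⟨e ⟨a, ha⟩, ?_⟩
    show ((e.symm (e ⟨a, ha⟩) : (z.supportᶜ : Finset β)) : β) = a
    rw [Equiv.symm_apply_apply]
  -- z in the stabilizer
  have hzst : (⟨z, hzK⟩ : ↥K) ∈ stabilizer ↥K x := by
    rw [mem_stabilizer_iff]
    ext i
    exact hxfix i
  let z'' : stabilizer ↥K x := ⟨⟨z, hzK⟩, hzst⟩
  have hz''ord : orderOf z'' = 5 := by
    have h1 : orderOf z'' = orderOf (z'' : ↥K) := (Subgroup.orderOf_coe z'').symm
    have h2 : orderOf ((z'' : ↥K)) = orderOf (((z'' : ↥K)) : Perm β) :=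
      (Subgroup.orderOf_coe (z'' : ↥K)).symm
    rw [h1, h2]
    exact hz
  have hpg : IsPGroup 5 (Subgroup.zpowers z'') := by
    apply IsPGroup.of_card (n := 1)
    rw [Nat.card_zpowers, hz''ord, pow_one]
  obtain ⟨P, hP⟩ := hpg.exists_le_sylow
  set Q := sylQ K x P with hQ
  have hzQ : z ∈ Q := by
    refine ⟨⟨z, hzK⟩, ⟨z'', hP (Subgroup.mem_zpowers z''), rfl⟩, rfl⟩
  have hQp : IsPGroup 5 Q := sylQ_isPGroup P
  -- the fixed points of Q
  have hfixQ : fixF Q = Finset.univ.map x := by
    apply Finset.Subset.antisymm
    · intro a ha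
      have hza : z a = a := mem_fixF.mp ha z hzQ
      have : a ∈ z.supportᶜ := by
        rw [Finset.mem_compl, Perm.mem_support, not_not]; exact hza
      obtain ⟨i, hi⟩ := hxrange a this
      rw [Finset.mem_map]
      exact ⟨i, Finset.mem_univ _, hi⟩
    · intro a ha
      rw [Finset.mem_map] at ha
      obtain ⟨i, _, rfl⟩ := ha
      exact range_fix_subset P i
  have hΔcard : (fixF Q).card = 3 := by
    rw [hfixQ, Finset.card_map, Finset.card_univ, Fintype.card_fin]
  have S : MSet K Q (fixF Q) 5 2 :=
    mset_of_pgroup Nat.prime_five (sylQ_le P) hQp (by norm_num) (by rw [hΔcard, hcard])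
  by_cases hsemi : ∃ u ∈ Q, u ≠ 1 ∧ ∃ c, c ∉ fixF Q ∧ u c = c
  · -- an element of order five with at least four fixed points
    obtain ⟨u, huQ, hu1, c, hc, huc⟩ := hsemi
    obtain ⟨j, hj⟩ := exists_pow_order_five hQp huQ hu1
    have hujQ : u ^ j ∈ Q := Q.pow_mem huQ j
    apply alt_le_of_small_five hcard hprim (sylQ_le P hujQ) hj
    have hsub : (u ^ j).support ⊆ (insert c (fixF Q))ᶜ := by
      intro a ha
      rw [Finset.mem_compl, Finset.mem_insert, not_or]
      rw [Perm.mem_support] at ha
      constructor
      · rintro rfl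
        apply ha
        have : ∀ t : ℕ, (u ^ t) a = a := by
          intro t
          induction t with
          | zero => simp
          | succ t ih => rw [pow_succ, Perm.mul_apply, huc, ih]
        exact this j
      · intro haF
        exact ha (mem_fixF.mp haF _ hujQ)
    have h1 := Finset.card_le_card hsub
    rw [Finset.card_compl, hcard, Finset.card_insert_of_notMem hc, hΔcard] at h1
    omega
  · -- Q acts semiregularly outside its fixed points, so has order five
    push Not at hsemi
    have hex : ∃ c, c ∉ fixF Q := by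
      by_contra hall
      push Not at hall
      have : Finset.univ ⊆ fixF Q := fun a _ => hall a
      have := Finset.card_le_card this
      rw [Finset.card_univ, hcard, hΔcard] at this
      omega
    obtain ⟨c, hc⟩ := hex
    have hstab : stabilizer ↥Q c = ⊥ := by
      rw [Subgroup.eq_bot_iff_forall]
      intro u hu
      rw [mem_stabilizer_iff] at hu
      by_contra hne
      have hne' : (u : Perm β) ≠ 1 := fun h => hne (Subtype.ext h)
      exact hsemi u u.2 hne' c hc hu
    have hQcard : Nat.card Q = 5 := by
      have h1 := MulAction.index_stabilizer ↥Q c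
      rw [hstab, Subgroup.index_bot] at h1
      rw [h1]
      exact S.orbit_ncard hc
    have hcyc : IsCyclic ↥Q := isCyclic_of_prime_card hQcard
    have htrans := witt_trans h3 P S
    have hsurj : (resHom K Q (fixF Q)).range = ⊤ := by
      apply eq_top_of_isMultiplyPretransitive
      have hc3 : Nat.card {a // a ∈ fixF Q} = 3 := by
        rw [Nat.card_eq_fintype_card, Fintype.card_coe, hΔcard]
      rw [hc3]
      exact isMultiplyPretransitive_of_le (n := 3) (by norm_num) (by rw [hc3])
    exact S.alt_le_of_routeB hcyc (by norm_num) (by rw [hΔcard]) (by rw [hΔcard]; norm_num)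
      (by norm_num) hsurj (m := 3) (by rw [hΔcard]) (by norm_num) h3 (by rw [hcard]; norm_num)

end Cfsg.Agent.Lib.Helper18.AGen
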