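import Mathlib
import Cfsg.Agent.Lib.Helper18.AGenC

/-!
# Degree 13: the case where `5` does not divide the order (helper18)

A primitive group of even permutations of degree `13` containing an `11`-cycle has order
divisible by `5`: otherwise the normaliser of the Sylow `11`-subgroup in the stabiliser of two
points would be self-centralising, Burnside's transfer theorem gives a normal complement, which
is trivial by primitivity of the action of prime degree `11`, and the group would be sharply
`3`-transitive of degree `13`, which is impossible.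
-/

set_option autoImplicit false

namespace Cfsg.Agent.Lib.Helper18.AGen

open Equiv Equiv.Perm MulAction
open Cfsg.Agent.Lib.Helper9

variable {β : Type*} [Fintype β] [DecidableEq β]

/-- a permutation commuting with a cycle and fixing all points outside its support is a power of
the cycle. -/
theorem mem_zpowers_of_commute_of_fix {X c : Perm β} (hX : X.IsCycle) (hc : Commute c X)
    (hfix : ∀ a, a ∉ X.support → c a = a) : c ∈ Subgroup.zpowers X := by
  obtain ⟨hc', h⟩ := hX.commute_iff.mp hc
  have : ofSubtype (subtypePerm c hc') = c := by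
    apply ofSubtype_subtypePerm
    intro a ha
    by_contra h'
    exact ha (hfix a h')
  rwa [this] at h

/-- iterating a conjugation relation -/
theorem conj_pow_eq {G : Type*} [Group G] {ν X : G} {j : ℕ} (h : ν * X * ν⁻¹ = X ^ j) (k : ℕ) :
    ν ^ k * X * (ν ^ k)⁻¹ = X ^ (j ^ k) := by
  induction k with
  | zero => simp
  | succ k ih =>
    have h1 : ν ^ (k + 1) * X * (ν ^ (k + 1))⁻¹ = ν * (ν ^ k * X * (ν ^ k)⁻¹) * ν⁻¹ := by
      rw [pow_succ']; group
    rw [h1, ih]
    have h2 : ν * X ^ (j ^ k) * ν⁻¹ = (ν * X * ν⁻¹) ^ (j ^ k) := by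
      rw [conj_pow]
    rw [h2, h, ← pow_mul, pow_succ']

/-- conjugating a power -/
theorem conj_zpow_eq {G : Type*} [Group G] {ν X Z : G} (h : ν * X * ν⁻¹ = Z) (i : ℤ) :
    ν * X ^ i * ν⁻¹ = Z ^ i := by
  rw [← h, conj_zpow]


/-- an involution inverting an `11`-cycle and fixing the other two points of a set of `13` points
is odd. -/
theorem sign_of_inverting_involution {X ν : Perm β}
    (hX : X.IsCycle) (hX11 : X.support.card = 11) (hν2 : ν ^ 2 = 1) (hν1 : ν ≠ 1)
    (hνX : ν * X * ν⁻¹ = X⁻¹) (hνfix : ∀ a, a ∉ X.support → ν a = a) :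
    Perm.sign ν = -1 := by
  have hord : orderOf ν = 2 := orderOf_eq_prime hν2 hν1
  have : Fact (Nat.Prime 2) := ⟨Nat.prime_two⟩
  obtain ⟨k, hk⟩ := cycleType_prime_order (by rw [hord]; exact Nat.prime_two : (orderOf ν).Prime)
  rw [hord] at hk
  have hsum : ν.support.card = (k + 1) * 2 := by
    rw [← sum_cycleType, hk, Multiset.sum_replicate, smul_eq_mul]
  -- the support of ν lies in the support of X
  have hsub : ν.support ⊆ X.support := by
    intro a ha
    by_contra h
    exact (mem_support.mp ha) (hνfix a h)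
  have hle : ν.support.card ≤ 11 := hX11 ▸ Finset.card_le_card hsub
  -- at most one fixed point on the support of X
  have hfix1 : (X.support \ ν.support).card ≤ 1 := by
    rw [Finset.card_le_one]
    intro u hu v hv
    rw [Finset.mem_sdiff, notMem_support] at hu hv
    obtain ⟨hu1, hu2⟩ := hu
    obtain ⟨hv1, hv2⟩ := hv
    obtain ⟨i, hi⟩ := hX.sameCycle (mem_support.mp hu1) (mem_support.mp hv1)
    have h1 : ν * X ^ i * ν⁻¹ = X⁻¹ ^ i := conj_zpow_eq hνX i
    have h2 : ν ((X ^ i) u) = (X⁻¹ ^ i) u := by
      have := congrArg (fun f : Perm β => f (ν u)) h1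
      simp only [Perm.mul_apply] at this
      rw [show ν⁻¹ (ν u) = u by simp] at this
      rw [this, hu2]
    rw [hi, hv2, ← hi] at h2
    -- X^(2i) u = u
    have h3 : (X ^ (2 * i)) u = u := by
      have : X ^ (2 * i) = X ^ i * X ^ i := by rw [two_mul, zpow_add]
      rw [this, Perm.mul_apply]
      conv_lhs => rw [h2]
      rw [inv_zpow]
      simp
    rw [cycle_zpow_mem_support_iff hX (mem_support.mp hu1), hX11] at h3
    have h4 : (11 : ℤ) ∣ i := by omega
    have h5 : X ^ i = 1 := by
      have : ((orderOf X : ℕ) : ℤ) ∣ i := by rw [hX.orderOf, hX11]; exact_mod_cast h4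
      exact orderOf_dvd_iff_zpow_eq_one.mp this
    rw [h5] at hi
    exact hi
  have hdiff : (X.support \ ν.support).card = 11 - ν.support.card := by
    rw [Finset.card_sdiff_of_subset hsub, hX11]
  have hk4 : k = 4 := by omega
  subst hk4
  rw [sign_of_cycleType, hk]
  simp
  decide


theorem sq_mod_eleven : ∀ r : Fin 11, (r.val * r.val) % 11 = 1 → r.val = 1 ∨ r.val = 10 := by
  decide

/-- an even permutation normalising the group generated by an `11`-cycle `X`, fixing the points
outside the support of `X`, and of order prime to `5`, commutes with `X`. -/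
theorem commute_of_normalizes {X ν : Perm β} (hX : X.IsCycle) (hX11 : X.support.card = 11)
    (hνs : Perm.sign ν = 1) (hνfix : ∀ a, a ∉ X.support → ν a = a)
    (hνX : ν * X * ν⁻¹ ∈ Subgroup.zpowers X) (h5 : ¬ 5 ∣ orderOf ν) : Commute ν X := by
  have hord : orderOf X = 11 := by rw [hX.orderOf, hX11]
  have : Fact (Nat.Prime 11) := ⟨by norm_num⟩
  have hX1 : X ≠ 1 := hX.ne_one
  -- the exponent
  rw [← mem_powers_iff_mem_zpowers, Submonoid.mem_powers_iff] at hνX
  obtain ⟨j, hj⟩ := hνX
  have hj' : ν * X * ν⁻¹ = X ^ j := hj.symm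
  have hjne : ¬ 11 ∣ j := by
    intro hd
    have : X ^ j = 1 := by
      rw [← hord] at hd
      exact orderOf_dvd_iff_pow_eq_one.mp hd
    rw [this] at hj'
    apply hX1
    have h2 : X = ν⁻¹ * (ν * X * ν⁻¹) * ν := by group
    rw [h2, hj']; group
  -- Fermat
  have hjz : (j : ZMod 11) ≠ 0 := by
    rwa [Ne, ZMod.natCast_eq_zero_iff]
  have hferm : j ^ 10 ≡ 1 [MOD 11] := by
    have := ZMod.pow_card_sub_one_eq_one hjz
    rw [← ZMod.natCast_eq_natCast_iff]
    push_cast
    exact this
  have hpow10 : ν ^ 10 * X * (ν ^ 10)⁻¹ = X := by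
    rw [conj_pow_eq hj' 10]
    have : X ^ (j ^ 10) = X ^ 1 := by
      rw [pow_eq_pow_iff_modEq, hord]; exact hferm
    rw [this, pow_one]
  have hc10 : Commute (ν ^ 10) X := by
    rw [commute_iff_eq]
    calc ν ^ 10 * X = (ν ^ 10 * X * (ν ^ 10)⁻¹) * ν ^ 10 := by group
      _ = X * ν ^ 10 := by rw [hpow10]
  -- the square commutes
  have hw : Commute (ν ^ 2) X := by
    have hcop : Nat.Coprime 5 (orderOf (ν ^ 2)) := by
      rw [Nat.Prime.coprime_iff_not_dvd Nat.prime_five]
      intro hd
      exact h5 (hd.trans (orderOf_pow_dvd 2))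
    obtain ⟨t, ht⟩ := exists_pow_eq_self_of_coprime hcop
    have h10 : (ν ^ 2) ^ 5 = ν ^ 10 := by rw [← pow_mul]
    rw [← ht, h10]
    exact hc10.pow_left t
  -- j² ≡ 1
  have hj2 : X ^ (j ^ 2) = X ^ 1 := by
    rw [← conj_pow_eq hj' 2, pow_one]
    calc ν ^ 2 * X * (ν ^ 2)⁻¹ = X * ν ^ 2 * (ν ^ 2)⁻¹ := by rw [hw.eq]
      _ = X := by group
  rw [pow_eq_pow_iff_modEq, hord] at hj2
  have hjr : j % 11 = 1 ∨ j % 11 = 10 := by
    have hlt : j % 11 < 11 := Nat.mod_lt _ (by norm_num)
    have := sq_mod_eleven ⟨j % 11, hlt⟩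
    apply this
    show (j % 11 * (j % 11)) % 11 = 1
    have h1 : j ^ 2 % 11 = 1 := hj2
    rw [pow_two, Nat.mul_mod] at h1
    exact h1
  have hXj : X ^ j = X ^ (j % 11) := by rw [← hord, pow_mod_orderOf]
  rcases hjr with h | h
  · rw [hXj, h, pow_one] at hj'
    rw [commute_iff_eq]
    calc ν * X = (ν * X * ν⁻¹) * ν := by group
      _ = X * ν := by rw [hj']
  · exfalso
    have hX10 : X ^ 10 = X⁻¹ := by
      apply eq_inv_of_mul_eq_one_left
      rw [← pow_succ]
      show X ^ 11 = 1
      rw [← hord, pow_orderOf_eq_one]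
    rw [hXj, h, hX10] at hj'
    -- ν² is a power of X
    have hwfix : ∀ a, a ∉ X.support → (ν ^ 2) a = a := by
      intro a ha
      rw [pow_two, Perm.mul_apply, hνfix a ha, hνfix a ha]
    obtain ⟨i, hi⟩ := Subgroup.mem_zpowers_iff.mp (mem_zpowers_of_commute_of_fix hX hw hwfix)
    have h1 : ν * X ^ i * ν⁻¹ = X⁻¹ ^ i := conj_zpow_eq hj' i
    have h2 : ν * ν ^ 2 * ν⁻¹ = ν ^ 2 := by group
    rw [hi, h2, inv_zpow, hi] at h1
    -- so ν² = (ν²)⁻¹
    have h3 : (ν ^ 2) ^ 2 = 1 := by
      rw [pow_two]
      nth_rewrite 1 [h1]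
      exact inv_mul_cancel _
    have h4 : (ν ^ 2) ^ 11 = 1 := by
      rw [← hi, ← zpow_natCast, ← zpow_mul, mul_comm, zpow_mul, zpow_natCast, ← hord,
        pow_orderOf_eq_one, one_zpow]
    have h5' : ν ^ 2 = 1 := by
      have : ν ^ 2 = (ν ^ 2) ^ 11 * (((ν ^ 2) ^ 2) ^ 5)⁻¹ := by
        rw [← pow_mul, ← pow_mul, ← pow_mul]; group
      rw [this, h4, h3]; simp
    have hν1 : ν ≠ 1 := by
      rintro rfl
      have : X = X⁻¹ := by simpa using hj'
      have h6 : X ^ 2 = 1 := by
        rw [pow_two]; nth_rewrite 1 [this]; exact inv_mul_cancel _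
      have := orderOf_dvd_of_pow_eq_one h6
      rw [hord] at this
      omega
    have := sign_of_inverting_involution hX hX11 h5' hν1 hj' hνfix
    rw [hνs] at this
    exact absurd this (by decide)


theorem factorial_thirteen : Nat.factorial 13 = 6227020800 := by
  norm_num [Nat.factorial]

theorem factorial_eleven : Nat.factorial 11 = 39916800 := by
  norm_num [Nat.factorial]

theorem factorial_ten : Nat.factorial 10 = 3628800 := by
  norm_num [Nat.factorial]

/-- **Degree 13, `5 ∤ |K|`.** -/
theorem thirteen_caseB {K : Subgroup (Perm β)} (hcard : Fintype.card β = 13)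
    (hKalt : K ≤ alternatingGroup β) (hprim : IsPreprimitive K β) {X : Perm β} (hX : X.IsCycle)
    (hX11 : X.support.card = 11) (hXK : X ∈ K) (h5 : ¬ 5 ∣ Nat.card K) : False := by
  classical
  have : Fact (Nat.Prime 11) := ⟨by norm_num⟩
  have hncard : Nat.card β = 13 := by rw [Nat.card_eq_fintype_card, hcard]
  have hord : orderOf X = 11 := by rw [hX.orderOf, hX11]
  have h3 : IsMultiplyPretransitive K β 3 :=
    multTrans_of_prime_cycle hprim (by norm_num : Nat.Prime 11) (r := 2) (by norm_num)
      (by rw [hcard]) hX hX11 hXK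
  have h2 : IsMultiplyPretransitive K β 2 :=
    isMultiplyPretransitive_of_le (n := 3) (by norm_num) (by rw [hncard]; norm_num)
  have hK13 : Nat.card K ∣ Nat.factorial 13 := by
    have := Subgroup.card_subgroup_dvd_card K
    rwa [Nat.card_perm, hncard] at this
  have h121 : ¬ 121 ∣ Nat.factorial 13 := by
    rw [factorial_thirteen]; norm_num
  -- the stabilizer of the two fixed points of X
  have hsn : ((X.support : Set β)ᶜ).ncard = 2 := by
    apply Nat.add_left_cancel (n := (X.support : Set β).ncard)
    rw [Set.ncard_add_ncard_compl, Set.ncard_coe_finset, hX11, hncard]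
  have hidx := h2.index_of_fixingSubgroup_mul hsn
  rw [hncard] at hidx
  have hidx' : (fixingSubgroup ↥K ((X.support : Set β)ᶜ)).index = 156 := by
    have e : (13 - 2).factorial = Nat.factorial 11 := rfl
    rw [e, factorial_eleven, factorial_thirteen] at hidx
    omega
  have htr := isPretransitive_of_isCycle_mem hX hXK
  have hTcard : Nat.card (SubMulAction.ofFixingSubgroup ↥K ((X.support : Set β)ᶜ)) = 11 := by
    rw [Nat.card_eq_fintype_card, Fintype.card_subtype, ← hX11]
    apply congr_arg
    ext x
    simp [SubMulAction.mem_ofFixingSubgroup_iff]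
  have hTprim : IsPreprimitive (fixingSubgroup ↥K ((X.support : Set β)ᶜ))
      (SubMulAction.ofFixingSubgroup ↥K ((X.support : Set β)ᶜ)) := by
    apply IsPreprimitive.of_prime_card
    rw [hTcard]; norm_num
  set L : Subgroup ↥K := fixingSubgroup ↥K ((X.support : Set β)ᶜ) with hL
  -- the embedding of L into the permutations
  let φ : ↥L →* Perm β := K.subtype.comp L.subtype
  have hφ : Function.Injective φ :=
    (Subgroup.subtype_injective K).comp (Subgroup.subtype_injective L)
  have hLfix : ∀ n : ↥L, ∀ a, a ∉ X.support → (φ n) a = a := by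
    intro n a ha
    have : (n : ↥K) ∈ fixingSubgroup ↥K ((X.support : Set β)ᶜ) := n.2
    rw [mem_fixingSubgroup_iff] at this
    exact this a (by simpa using ha)
  have hLK : Nat.card L ∣ Nat.card K := Subgroup.card_subgroup_dvd_card L
  -- X as an element of L
  have hXL : (⟨X, hXK⟩ : ↥K) ∈ L := by
    show (⟨X, hXK⟩ : ↥K) ∈ fixingSubgroup ↥K ((X.support : Set β)ᶜ)
    rw [mem_fixingSubgroup_iff]
    intro a ha
    have : a ∉ X.support := by simpa using ha
    exact notMem_support.mp this
  set XL : ↥L := ⟨⟨X, hXK⟩, hXL⟩ with hXLdef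
  have hφX : φ XL = X := rfl
  have hordL : orderOf XL = 11 := by
    rw [← orderOf_injective φ hφ XL, hφX, hord]
  have hpg : IsPGroup 11 (Subgroup.zpowers XL) := by
    apply IsPGroup.of_card (n := 1)
    rw [Nat.card_zpowers, hordL, pow_one]
  obtain ⟨P, hP⟩ := hpg.exists_le_sylow
  have hPcard : Nat.card (P : Subgroup ↥L) = 11 := by
    obtain ⟨k, hk⟩ := IsPGroup.iff_card.mp P.isPGroup'
    have h1 : 11 ∣ Nat.card (P : Subgroup ↥L) := by
      have := Subgroup.card_dvd_of_le hP
      rwa [Nat.card_zpowers, hordL] at this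
    have h2 : Nat.card (P : Subgroup ↥L) ∣ Nat.factorial 13 :=
      ((Subgroup.card_subgroup_dvd_card _).trans hLK).trans hK13
    rw [hk] at h1 h2 ⊢
    have hk0 : k ≠ 0 := by
      rintro rfl
      norm_num at h1
    have hk2 : k < 2 := by
      by_contra hh
      push Not at hh
      exact h121 ((pow_dvd_pow 11 hh).trans h2)
    have : k = 1 := by omega
    rw [this, pow_one]
  have hPeq : Subgroup.zpowers XL = (P : Subgroup ↥L) := by
    apply Subgroup.eq_of_le_of_card_ge hP
    rw [hPcard, Nat.card_zpowers, hordL]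
  -- the normalizer centralizes
  have hNC : Subgroup.normalizer ((P : Subgroup ↥L) : Set ↥L) ≤
      Subgroup.centralizer ((P : Subgroup ↥L) : Set ↥L) := by
    intro n hn
    have hconj : n * XL * n⁻¹ ∈ (P : Subgroup ↥L) :=
      (Subgroup.mem_normalizer_iff.mp hn XL).mp (hP (Subgroup.mem_zpowers XL))
    rw [← hPeq, Subgroup.mem_zpowers_iff] at hconj
    obtain ⟨i, hi⟩ := hconj
    have hi' : X ^ i = φ n * X * (φ n)⁻¹ := by
      have := congrArg φ hi
      rwa [map_zpow, map_mul, map_mul, map_inv, hφX] at this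
    have hcomm : Commute (φ n) X := by
      apply commute_of_normalizes hX hX11
      · exact mem_alternatingGroup.mp (hKalt (n : ↥K).2)
      · exact hLfix n
      · rw [← hi']; exact Subgroup.zpow_mem_zpowers X i
      · intro hd
        apply h5
        rw [orderOf_injective φ hφ n] at hd
        exact (hd.trans (orderOf_dvd_natCard n)).trans hLK
    have hcommL : Commute n XL := by
      apply hφ
      rw [map_mul, map_mul, hφX]
      exact hcomm.eq
    rw [Subgroup.mem_centralizer_iff]
    intro h hh
    rw [SetLike.mem_coe, ← hPeq, Subgroup.mem_zpowers_iff] at hh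
    obtain ⟨t, rfl⟩ := hh
    exact ((hcommL.zpow_right t).eq).symm
  -- Burnside's transfer
  have hcompl := MonoidHom.ker_transferSylow_isComplement' P hNC
  set O : Subgroup ↥L := (MonoidHom.transferSylow P hNC).ker with hO
  have hOn : O.Normal := MonoidHom.normal_ker _
  have hcardO : Nat.card O * 11 = Nat.card L := by
    rw [← hPcard]; exact hcompl.card_mul_card
  have hO11 : ¬ 11 ∣ Nat.card O := by
    intro hd
    apply h121
    have : 121 ∣ Nat.card L := by
      rw [← hcardO]
      exact Nat.mul_dvd_mul hd (dvd_refl 11)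
    exact (this.trans hLK).trans hK13
  -- the complement is trivial
  have hObot : O = ⊥ := by
    by_contra hne
    have hfp : fixedPoints O (SubMulAction.ofFixingSubgroup ↥K ((X.support : Set β)ᶜ)) ≠
        Set.univ := by
      intro hall
      apply hne
      rw [Subgroup.eq_bot_iff_forall]
      intro o ho
      apply hφ
      rw [map_one]
      ext a
      by_cases ha : a ∈ X.support
      · have hmem : a ∈ SubMulAction.ofFixingSubgroup ↥K ((X.support : Set β)ᶜ) := by
          rw [SubMulAction.mem_ofFixingSubgroup_iff]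
          simpa using ha
        have h1 : (⟨a, hmem⟩ : SubMulAction.ofFixingSubgroup ↥K ((X.support : Set β)ᶜ)) ∈
            fixedPoints O (SubMulAction.ofFixingSubgroup ↥K ((X.support : Set β)ᶜ)) := by
          rw [hall]; exact Set.mem_univ _
        have h2 := h1 ⟨o, ho⟩
        have h3 := congrArg Subtype.val h2
        exact h3
      · exact hLfix o a ha
    have htrO : IsPretransitive O (SubMulAction.ofFixingSubgroup ↥K ((X.support : Set β)ᶜ)) :=
      IsQuasiPreprimitive.isPretransitive_of_normal hfp
    have hne' : Nonempty (SubMulAction.ofFixingSubgroup ↥K ((X.support : Set β)ᶜ)) := by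
      rw [← Finite.card_pos_iff, hTcard]; norm_num
    obtain ⟨t₀⟩ := hne'
    have h1 := MulAction.index_stabilizer_of_transitive (G := O) (x := t₀)
    rw [hTcard] at h1
    apply hO11
    rw [← h1]
    exact Subgroup.index_dvd_card _
  have hLcard : Nat.card L = 11 := by
    rw [← hcardO, hObot, Subgroup.card_bot]
  have hKcard : Nat.card K = 1716 := by
    rw [← L.index_mul_card, hidx', hLcard]
  -- sharply three-transitive
  have hsharp : ∀ x' : Fin 3 ↪ β, stabilizer ↥K x' = ⊥ := by
    intro x'
    have hc := Cfsg.Agent.Lib.Helper20.Miller.card_stab_mul h3 x'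
    rw [hncard, hKcard] at hc
    have e : (13 - 3).factorial = Nat.factorial 10 := rfl
    rw [e, factorial_ten, factorial_thirteen] at hc
    apply Subgroup.card_eq_one.mp
    have hc' : Nat.card (stabilizer ↥K x') * 6227020800 = 1716 * 3628800 := hc
    clear * - hc'
    omega
  have hS : Sharp3 K β := sharp3_of_isMultiplyPretransitive h3 hsharp
  exact not_sharp3 hS (Or.inr hncard)

end Cfsg.Agent.Lib.Helper18.AGen
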