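import Mathlib
import Cfsg.Agent.Lib.Helper18.AGenE
import Cfsg.Agent.Lib.Helper18.AGenI

/-!
# Degree 13: a primitive group of even permutations containing an 11-cycle (helper18)
-/

set_option autoImplicit false

namespace Cfsg.Agent.Lib.Helper18.AGen

open Equiv Equiv.Perm MulAction

variable {β : Type*} [Fintype β] [DecidableEq β]

/-- A primitive group of even permutations of degree `13` containing an `11`-cycle is `A₁₃`. -/
theorem alt_le_of_thirteen {K : Subgroup (Perm β)} (hcard : Fintype.card β = 13)
    (hKalt : K ≤ alternatingGroup β) (hprim : IsPreprimitive K β) {X : Perm β}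
    (hX : X.IsCycle) (hX11 : X.support.card = 11) (hXK : X ∈ K) : alternatingGroup β ≤ K := by
  have h3 : IsMultiplyPretransitive K β 3 :=
    multTrans_of_prime_cycle hprim (by norm_num : Nat.Prime 11) (r := 2) (by norm_num)
      (by rw [hcard]) hX hX11 hXK
  by_cases h5 : 5 ∣ Nat.card K
  · have : Fact (Nat.Prime 5) := ⟨Nat.prime_five⟩
    obtain ⟨z, hz⟩ := exists_prime_orderOf_dvd_card' 5 h5
    exact alt_le_of_order_five hcard hprim h3 z.2 (by rw [Subgroup.orderOf_coe]; exact hz)
  · exact (thirteen_caseB hcard hKalt hprim hX hX11 hXK h5).elim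

end Cfsg.Agent.Lib.Helper18.AGen
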