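import Mathlib
import Cfsg.Agent.Lib.Helper18.AGenD

/-!
# Two elements of prime orders in an alternating group (helper18): reduction lemmas
-/

set_option autoImplicit false

namespace Cfsg.Agent.Lib.Helper18.AGen

open Equiv Equiv.Perm MulAction

variable {β : Type*} [Fintype β] [DecidableEq β]

/-- if all cycles of `X` have length `p`, the supports of `X` and `Y` cover everything and
`p + |supp Y|` exceeds the degree, then every point can be moved into `supp Y` by a power
of `X`. -/
theorem move_of_cycleType {X Y : Perm β} {p : ℕ} (hX : ∀ n ∈ X.cycleType, n = p)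
    (hcover : ∀ a, a ∈ X.support ∨ a ∈ Y.support)
    (hpq : Fintype.card β < p + Y.support.card) :
    ∀ a : β, ∃ i : ℤ, (X ^ i) a ∈ Y.support := by
  intro a
  by_cases ha : a ∈ X.support
  · have hmem : (X.cycleOf a).support.card ∈ X.cycleType := by
      rw [cycleType_def]
      apply Multiset.mem_map_of_mem (Finset.card ∘ support) (a := X.cycleOf a)
      exact (cycleOf_mem_cycleFactorsFinset_iff.mpr ha)
    have hcard : (X.cycleOf a).support.card = p := hX _ hmem
    have hnd : ¬ Disjoint (X.cycleOf a).support Y.support := by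
      intro hd
      have := Finset.card_union_of_disjoint hd
      have h2 := Finset.card_le_univ ((X.cycleOf a).support ∪ Y.support)
      omega
    rw [Finset.not_disjoint_iff] at hnd
    obtain ⟨b, hb1, hb2⟩ := hnd
    rw [mem_support_cycleOf_iff] at hb1
    obtain ⟨i, hi⟩ := hb1.1
    exact ⟨i, by rw [hi]; exact hb2⟩
  · rcases hcover a with h | h
    · exact absurd h ha
    · exact ⟨0, by simpa using h⟩


section Glue

/-- the subgroup generated by two elements of a subgroup -/
theorem closure_pair_subtype {G : Type*} [Group G] (H : Subgroup G) (x y : H) :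
    Nonempty (Subgroup.closure ({x, y} : Set H) ≃*
      Subgroup.closure ({(x : G), (y : G)} : Set G)) := by
  have h : (Subgroup.closure ({x, y} : Set H)).map H.subtype =
      Subgroup.closure ({(x : G), (y : G)} : Set G) := by
    rw [MonoidHom.map_closure]
    congr 1
    simp [Set.image_pair]
  exact ⟨((Subgroup.closure ({x, y} : Set H)).equivMapOfInjective H.subtype
    H.subtype_injective).trans (MulEquiv.subgroupCongr h)⟩

variable {α : Type*} [Fintype α] [DecidableEq α]

theorem mem_iff_of_support_subset {X : Perm α} {s : Finset α} (hX : X.support ⊆ s) (a : α) :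
    X a ∈ s ↔ a ∈ s := by
  by_cases ha : a ∈ X.support
  · exact ⟨fun _ => hX ha, fun _ => hX (apply_mem_support.mpr ha)⟩
  · rw [notMem_support] at ha
    rw [ha]

/-- restriction of two permutations to a set containing their supports -/
theorem exists_restrict_pair (X Y : Perm α) (s : Finset α) (hX : X.support ⊆ s)
    (hY : Y.support ⊆ s) :
    ∃ X₀ Y₀ : Perm {a // a ∈ s},
      (∀ a, ((X₀ a : {a // a ∈ s}) : α) = X a) ∧ (∀ a, ((Y₀ a : {a // a ∈ s}) : α) = Y a) ∧
      X₀.cycleType = X.cycleType ∧ Y₀.cycleType = Y.cycleType ∧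
      Nonempty (Subgroup.closure ({X, Y} : Set (Perm α)) ≃*
        Subgroup.closure ({X₀, Y₀} : Set (Perm {a // a ∈ s}))) := by
  have hX1 : ∀ a, X a ∈ s ↔ a ∈ s := fun a => (mem_iff_of_support_subset hX a)
  have hY1 : ∀ a, Y a ∈ s ↔ a ∈ s := fun a => (mem_iff_of_support_subset hY a)
  have hX2 : ∀ a, X a ≠ a → a ∈ s := fun a ha => hX (mem_support.mpr ha)
  have hY2 : ∀ a, Y a ≠ a → a ∈ s := fun a ha => hY (mem_support.mpr ha)
  have eX : ofSubtype (X.subtypePerm hX1) = X := ofSubtype_subtypePerm hX1 hX2
  have eY : ofSubtype (Y.subtypePerm hY1) = Y := ofSubtype_subtypePerm hY1 hY2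
  refine ⟨X.subtypePerm hX1, Y.subtypePerm hY1, fun a => rfl, fun a => rfl, ?_, ?_, ?_⟩
  · rw [← cycleType_ofSubtype, eX]
  · rw [← cycleType_ofSubtype, eY]
  · have h : (Subgroup.closure ({X.subtypePerm hX1, Y.subtypePerm hY1} :
        Set (Perm {a // a ∈ s}))).map (ofSubtype : Perm {a // a ∈ s} →* Perm α) =
        Subgroup.closure ({X, Y} : Set (Perm α)) := by
      rw [MonoidHom.map_closure]
      congr 1
      rw [Set.image_pair, eX, eY]
    exact ⟨(((Subgroup.closure ({X.subtypePerm hX1, Y.subtypePerm hY1} :
      Set (Perm {a // a ∈ s}))).equivMapOfInjective _ ofSubtype_injective).trans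
      (MulEquiv.subgroupCongr h)).symm⟩

end Glue

end Cfsg.Agent.Lib.Helper18.AGen
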