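import Mathlib
import Cfsg.Agent.Lib.Helper18.AGenF
import Cfsg.Agent.Lib.Helper18.AGenG

/-!
# Two elements of prime orders `p < q` in an alternating group of degree `≤ 2p` (helper18)
-/

set_option autoImplicit false

namespace Cfsg.Agent.Lib.Helper18.AGen

open Equiv Equiv.Perm MulAction

/-- The main reduction: two elements of prime orders `p < q` of an alternating group of degree
at most `2p` generate an alternating group, provided the numerical side conditions `hA`, `hB`
(which select the applicable theorem of Jordan type for each possible degree `d` of the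
support) hold. -/
theorem two_primes_generate {α : Type*} [Fintype α] [DecidableEq α] {p q : ℕ} (hp : p.Prime)
    (hq : q.Prime) (hpq : p < q) (h2p : Fintype.card α ≤ 2 * p) (hq5 : 5 ≤ q)
    (hA : ∀ d, q ≤ d → d ≤ Fintype.card α →
      (p = 3 ∨ p + 3 ≤ d ∨ q + 3 ≤ d ∨ (p = 5 ∧ d = 7) ∨ (p = 11 ∧ d = 13)))
    (hB : Fintype.card α = 2 * p → (q + 3 ≤ 2 * p ∨ (p = 3 ∧ q = 5)))
    (x y : alternatingGroup α) (hx : orderOf x = p) (hy : orderOf y = q) :
    ∃ d : ℕ, 5 ≤ d ∧ Nonempty (Subgroup.closure ({x, y} : Set (alternatingGroup α)) ≃*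
      alternatingGroup (Fin d)) := by
  classical
  obtain ⟨e0⟩ := closure_pair_subtype (alternatingGroup α) x y
  have hsX : Perm.sign (x : Perm α) = 1 := mem_alternatingGroup.mp x.2
  have hsY : Perm.sign (y : Perm α) = 1 := mem_alternatingGroup.mp y.2
  have hXo : orderOf (x : Perm α) = p := by rw [Subgroup.orderOf_coe]; exact hx
  have hYo : orderOf (y : Perm α) = q := by rw [Subgroup.orderOf_coe]; exact hy
  generalize (x : Perm α) = X at *
  generalize (y : Perm α) = Y at *
  -- cycle types
  have : Fact p.Prime := ⟨hp⟩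
  have : Fact q.Prime := ⟨hq⟩
  obtain ⟨n, hn⟩ := cycleType_prime_order (by rw [hXo]; exact hp : (orderOf X).Prime)
  obtain ⟨n', hn'⟩ := cycleType_prime_order (by rw [hYo]; exact hq : (orderOf Y).Prime)
  rw [hXo] at hn
  rw [hYo] at hn'
  have hXsum : X.support.card = (n + 1) * p := by
    rw [← sum_cycleType, hn, Multiset.sum_replicate, smul_eq_mul]
  have hYsum : Y.support.card = (n' + 1) * q := by
    rw [← sum_cycleType, hn', Multiset.sum_replicate, smul_eq_mul]
  have hXle : X.support.card ≤ Fintype.card α := Finset.card_le_univ _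
  have hYle : Y.support.card ≤ Fintype.card α := Finset.card_le_univ _
  have hppos := hp.pos
  have hn'0 : n' = 0 := by
    by_contra h
    have : 2 ≤ n' + 1 := by omega
    have : 2 * q ≤ (n' + 1) * q := Nat.mul_le_mul_right q this
    omega
  have hn1 : n ≤ 1 := by
    by_contra h
    have : 3 ≤ n + 1 := by omega
    have : 3 * p ≤ (n + 1) * p := Nat.mul_le_mul_right p this
    omega
  subst hn'0
  rw [zero_add, one_mul] at hYsum
  set s := X.support ∪ Y.support with hs
  obtain ⟨X₀, Y₀, hX₀, hY₀, hcX, hcY, ⟨e1⟩⟩ :=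
    exists_restrict_pair X Y s Finset.subset_union_left Finset.subset_union_right
  have hcardβ : Fintype.card {a // a ∈ s} = s.card := Fintype.card_coe s
  have hqd : q ≤ s.card := by
    rw [← hYsum]; exact Finset.card_le_card Finset.subset_union_right
  have hpd : X.support.card ≤ s.card := Finset.card_le_card Finset.subset_union_left
  have hdm : s.card ≤ Fintype.card α := Finset.card_le_univ _
  -- Y₀ is a q-cycle
  have hY₀c : Y₀.IsCycle := by
    rw [← card_cycleType_eq_one, hcY, hn']; simp
  have hY₀q : Y₀.support.card = q := by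
    rw [← sum_cycleType, hcY, hn']; simp
  -- signs
  have hsX₀ : Perm.sign X₀ = 1 := by
    rw [sign_of_cycleType, hcX, ← sign_of_cycleType]; exact hsX
  have hsY₀ : Perm.sign Y₀ = 1 := by
    rw [sign_of_cycleType, hcY, ← sign_of_cycleType]; exact hsY
  -- supports
  have hsuppX : ∀ a : {a // a ∈ s}, (a : α) ∈ X.support → a ∈ X₀.support := by
    intro a ha
    rw [mem_support] at ha ⊢
    intro h
    apply ha
    rw [← hX₀ a, h]
  have hsuppY : ∀ a : {a // a ∈ s}, (a : α) ∈ Y.support → a ∈ Y₀.support := by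
    intro a ha
    rw [mem_support] at ha ⊢
    intro h
    apply ha
    rw [← hY₀ a, h]
  have hcover : ∀ a, a ∈ X₀.support ∨ a ∈ Y₀.support := by
    intro a
    have : (a : α) ∈ X.support ∪ Y.support := a.2
    rcases Finset.mem_union.mp this with h | h
    · exact Or.inl (hsuppX a h)
    · exact Or.inr (hsuppY a h)
  have hXtype : ∀ k ∈ X₀.cycleType, k = p := by
    rw [hcX, hn]
    intro k hk
    exact Multiset.eq_of_mem_replicate hk
  have hmove := move_of_cycleType hXtype hcover (by rw [hcardβ, hY₀q]; omega)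
  have h2q : Fintype.card {a // a ∈ s} < 2 * q := by rw [hcardβ]; omega
  have hprim := isPreprimitive_closure_of_orbits hq hY₀c hY₀q h2q hmove
  have hX₀m : X₀ ∈ Subgroup.closure ({X₀, Y₀} : Set (Perm {a // a ∈ s})) :=
    Subgroup.subset_closure (by simp)
  have hY₀m : Y₀ ∈ Subgroup.closure ({X₀, Y₀} : Set (Perm {a // a ∈ s})) :=
    Subgroup.subset_closure (by simp)
  have hKalt : Subgroup.closure ({X₀, Y₀} : Set (Perm {a // a ∈ s})) ≤
      alternatingGroup {a // a ∈ s} := by
    rw [Subgroup.closure_le]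
    intro z hz
    rcases hz with rfl | hz
    · exact mem_alternatingGroup.mpr hsX₀
    · rw [Set.mem_singleton_iff] at hz
      subst hz
      exact mem_alternatingGroup.mpr hsY₀
  -- finishing
  have finish : alternatingGroup {a // a ∈ s} ≤
      Subgroup.closure ({X₀, Y₀} : Set (Perm {a // a ∈ s})) →
      ∃ d : ℕ, 5 ≤ d ∧ Nonempty (Subgroup.closure ({x, y} : Set (alternatingGroup α)) ≃*
        alternatingGroup (Fin d)) := by
    intro h
    have hK := closure_eq_alt hsX₀ hsY₀ h
    exact ⟨s.card, by omega, ⟨e0.trans (e1.trans ((MulEquiv.subgroupCongr hK).trans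
      (Equiv.altCongrHom (Fintype.equivFinOfCardEq hcardβ))))⟩⟩
  rcases Nat.le_one_iff_eq_zero_or_eq_one.mp hn1 with h0 | h1
  · -- X₀ is a p-cycle
    subst h0
    have hX₀c : X₀.IsCycle := by
      rw [← card_cycleType_eq_one, hcX, hn]; simp
    have hX₀p : X₀.support.card = p := by
      rw [← sum_cycleType, hcX, hn]; simp
    rcases hA s.card hqd hdm with h | h | h | ⟨h1, h2⟩ | ⟨h1, h2⟩
    · exact finish (alt_le_closure_of_jordan hp hq hX₀c hX₀p hY₀c hY₀q h2q hmove (Or.inl h))
    · exact finish (alt_le_closure_of_jordan hp hq hX₀c hX₀p hY₀c hY₀q h2q hmove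
        (Or.inr (Or.inl (by rw [hcardβ]; exact h))))
    · exact finish (alt_le_closure_of_jordan hp hq hX₀c hX₀p hY₀c hY₀q h2q hmove
        (Or.inr (Or.inr (by rw [hcardβ]; exact h))))
    · subst h1
      exact finish (alt_le_of_seven (by rw [hcardβ, h2]) hKalt hprim hX₀c hX₀p hX₀m)
    · subst h1
      exact finish (alt_le_of_thirteen (by rw [hcardβ, h2]) hKalt hprim hX₀c hX₀p hX₀m)
  · -- X₀ is a product of two p-cycles
    subst h1
    have hsall : s.card = 2 * p := by omega
    have hcα : Fintype.card α = 2 * p := by omega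
    rcases hB hcα with h | ⟨h1, h2⟩
    · exact finish (alt_le_closure_of_jordan' hq hY₀c hY₀q h2q hmove
        (by rw [hcardβ, hsall]; exact h))
    · subst h1 h2
      rcases six_cases (by rw [hcardβ, hsall]) hKalt hprim hY₀c hY₀q hY₀m with h | ⟨⟨e⟩⟩
      · exact finish h
      · exact ⟨5, le_rfl, ⟨e0.trans (e1.trans e)⟩⟩

end Cfsg.Agent.Lib.Helper18.AGen
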