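import Mathlib
import Cfsg.Agent.Lib.Helper20.AschDefs
import Cfsg.Agent.Lib.Helper18.AschA89Defs

/-!
S5630, block (A89), sub-market F2, leaves F2-B1 `geo_of_alt_gram` and F2-B2 `geo_of_symm_gram`: from an invertible Gram matrix
`G` all of whose `H`-translates `gᵀ G g` are multiples of `G` to the class C8 (symplectic resp. orthogonal).
-/

set_option autoImplicit false
set_option linter.unusedSectionVars false
set_option linter.unusedVariables false

namespace Cfsg.Agent.Lib.Helper18.AschLeaf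
open Matrix Cfsg.Geo Cfsg.Agent.Lib.Helper20.Asch Cfsg.Agent.Lib.Helper18.AschA89
open scoped Kronecker

variable {F : Type*} [Field F] [Fintype F] {n : ℕ} {H : Subgroup (GL (Fin n) F)}

/-- the bilinear form of a Gram matrix -/
def gform (G : Matrix (Fin n) (Fin n) F) (u v : Fin n → F) : F := u ⬝ᵥ G *ᵥ v

lemma gform_bilinear (G : Matrix (Fin n) (Fin n) F) : IsBilinearForm (gform G) where
  add_left x y v := by unfold gform; rw [add_dotProduct]
  smul_left c x v := by unfold gform; rw [smul_dotProduct, smul_eq_mul]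
  add_right v x y := by unfold gform; rw [Matrix.mulVec_add, dotProduct_add]
  smul_right c v x := by unfold gform; rw [Matrix.mulVec_smul, dotProduct_smul, smul_eq_mul]

lemma mulVec_dotProduct_eq (A : Matrix (Fin n) (Fin n) F) (u w : Fin n → F) :
    (A *ᵥ u) ⬝ᵥ w = u ⬝ᵥ Aᵀ *ᵥ w := by
  rw [Matrix.mulVec_transpose, dotProduct_comm, Matrix.dotProduct_mulVec, dotProduct_comm]

lemma gform_swap (G : Matrix (Fin n) (Fin n) F) (u v : Fin n → F) :
    gform G u v = gform Gᵀ v u := by
  unfold gform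
  rw [dotProduct_comm, mulVec_dotProduct_eq]

lemma gform_similarity (G g : Matrix (Fin n) (Fin n) F) (c : F) (h : gᵀ * G * g = c • G)
    (u v : Fin n → F) : gform G (g *ᵥ u) (g *ᵥ v) = c * gform G u v := by
  unfold gform
  rw [mulVec_dotProduct_eq, Matrix.mulVec_mulVec, Matrix.mulVec_mulVec, h,
    Matrix.smul_mulVec, dotProduct_smul, smul_eq_mul]

lemma gform_nondegenerate (G : Matrix (Fin n) (Fin n) F) (hdet : IsUnit G.det) :
    IsNondegenerateForm (gform G) := by
  have hd : G.det ≠ 0 := hdet.ne_zero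
  intro v hv
  constructor
  · have hw : G *ᵥ v ≠ 0 := fun h => hv (Matrix.eq_zero_of_mulVec_eq_zero hd h)
    obtain ⟨i, hi⟩ : ∃ i, (G *ᵥ v) i ≠ 0 := by
      by_contra hcon
      push Not at hcon
      exact hw (funext hcon)
    refine ⟨Pi.single i 1, ?_⟩
    unfold gform
    rw [single_dotProduct, one_mul]
    exact hi
  · have hw : v ᵥ* G ≠ 0 := fun h => hv (Matrix.eq_zero_of_vecMul_eq_zero hd h)
    obtain ⟨i, hi⟩ : ∃ i, (v ᵥ* G) i ≠ 0 := by
      by_contra hcon
      push Not at hcon
      exact hw (funext hcon)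
    refine ⟨Pi.single i 1, ?_⟩
    unfold gform
    rw [Matrix.dotProduct_mulVec, dotProduct_single, mul_one]
    exact hi

/-- F2-B1: an invertible alternating Gram matrix all of whose `H`-translates are multiples of it puts `H` into the
similarity group of the symplectic form `f u v := u ⬝ᵥ G *ᵥ v` (`Geo.of_C8s`). -/
theorem geo_of_alt_gram (G : Matrix (Fin n) (Fin n) F) (hdet : IsUnit G.det) (hskew : Gᵀ = -G)
    (halt : ∀ v : Fin n → F, v ⬝ᵥ G *ᵥ v = 0) (hev : Even n) (h4 : 4 ≤ n)
    (hH : ∀ g ∈ H, ∃ c : Fˣ, (g : Matrix (Fin n) (Fin n) F)ᵀ * G * (g : Matrix (Fin n) (Fin n) F) = (c : F) • G) :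
    Geo H := by
  have hf : IsSymplecticForm (gform G) := by
    refine ⟨gform_bilinear G, ?_, halt, gform_nondegenerate G hdet⟩
    intro v w
    rw [gform_swap, hskew]
    unfold gform
    rw [Matrix.neg_mulVec, dotProduct_neg]
  refine Geo.of_C8s (gform G) hf hev h4 ?_
  intro g hg
  obtain ⟨c, hc⟩ := hH g hg
  exact ⟨c, fun u v => gform_similarity G _ _ hc u v⟩

/-- F2-B2: an invertible symmetric Gram matrix, `|F|` odd: `Q v := v ⬝ᵥ G *ᵥ v` is a non-degenerate quadratic form
(`polar Q u v = 2 * (u ⬝ᵥ G *ᵥ v)`, `2 ≠ 0`) and `H ≤ quadSimilarityGroup Q` (`Geo.of_C8q`). -/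
theorem geo_of_symm_gram (G : Matrix (Fin n) (Fin n) F) (hdet : IsUnit G.det) (hsymm : Gᵀ = G)
    (hodd : Odd (Fintype.card F)) (h3 : 3 ≤ n)
    (hH : ∀ g ∈ H, ∃ c : Fˣ, (g : Matrix (Fin n) (Fin n) F)ᵀ * G * (g : Matrix (Fin n) (Fin n) F) = (c : F) • G) :
    Geo H := by
  have h2 : (2 : F) ≠ 0 := by
    intro h
    have hchar : ringChar F = 2 := by
      have h3 : ((2 : ℕ) : F) = 0 := by exact_mod_cast h
      have hdvd : ringChar F ∣ 2 := (ringChar.spec F 2).mp h3
      rcases (Nat.dvd_prime Nat.prime_two).mp hdvd with h1 | h2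
      · exact absurd (CharP.ringChar_ne_one (R := F)) (by rw [h1]; simp)
      · exact h2
    have := FiniteField.even_card_of_char_two hchar
    have := Nat.odd_iff.mp hodd
    omega
  let Q : (Fin n → F) → F := fun v => gform G v v
  have hpol : ∀ u v, QuadraticMap.polar Q u v = 2 * gform G u v := by
    intro u v
    have hb := gform_bilinear G
    have hsw : gform G v u = gform G u v := by rw [gform_swap, hsymm]
    simp only [QuadraticMap.polar, Q]
    rw [hb.add_left, hb.add_right, hb.add_right, hsw]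
    ring
  have hQ : IsNondegenerateQuadraticForm Q := by
    have hb := gform_bilinear G
    refine ⟨?_, ⟨?_, ?_, ?_, ?_⟩, ?_⟩
    · intro c v
      simp only [Q]
      rw [hb.smul_left, hb.smul_right]
      ring
    · intro x y v
      rw [hpol, hpol, hpol, hb.add_left]
      ring
    · intro c x v
      rw [hpol, hpol, hb.smul_left]
      ring
    · intro v x y
      rw [hpol, hpol, hpol, hb.add_right]
      ring
    · intro c v x
      rw [hpol, hpol, hb.smul_right]
      ring
    · intro v hv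
      obtain ⟨⟨x, hx⟩, ⟨y, hy⟩⟩ := gform_nondegenerate G hdet v hv
      exact ⟨⟨x, by rw [hpol]; exact mul_ne_zero h2 hx⟩, ⟨y, by rw [hpol]; exact mul_ne_zero h2 hy⟩⟩
  refine Geo.of_C8q Q hQ hodd h3 ?_
  intro g hg
  obtain ⟨c, hc⟩ := hH g hg
  exact ⟨c, fun v => gform_similarity G _ _ hc v v⟩

end Cfsg.Agent.Lib.Helper18.AschLeaf
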