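/-
helper18: S2262 leaves CH1-4 and CH5 (planner helper19): characteristic polynomials of conjugates, of the
entrywise field automorphism and of the inverse transpose in `GL_n(F)`; Cayley-Hamilton puts a power of `L` in the
kernel of `conjAHom`.
-/
import Cfsg.Agent.Lib.Helper19.AutPSLDefs

set_option autoImplicit false

namespace Cfsg.Agent.Lib.Helper18.AutPSLCH

open Matrix Polynomial Cfsg.Agent.Lib.Helper18.PSLnAut Cfsg.Agent.Lib.Helper19.AutPSL

variable {n : ℕ} {F : Type*} [Field F]

/-- (CH1) similar matrices. -/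
theorem charpoly_conj (g L : GL (Fin n) F) :
    ((g⁻¹ * L * g : GL (Fin n) F) : Matrix (Fin n) (Fin n) F).charpoly =
      (L : Matrix (Fin n) (Fin n) F).charpoly := by
  rw [Units.val_mul, Units.val_mul, Matrix.coe_units_inv]
  exact Matrix.charpoly_units_conj' g (L : Matrix (Fin n) (Fin n) F)

/-- (CH2) `Matrix.charpoly_map`. -/
theorem charpoly_mapGL (σ : F ≃+* F) (L : GL (Fin n) F) :
    ((mapGL σ L : GL (Fin n) F) : Matrix (Fin n) (Fin n) F).charpoly =
      ((L : Matrix (Fin n) (Fin n) F).charpoly).map (σ : F →+* F) := by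
  rw [mapGL_coe]
  exact Matrix.charpoly_map (L : Matrix (Fin n) (Fin n) F) (σ : F →+* F)

/-- (CH4) the constant coefficient is `± det`. -/
theorem charpoly_coeff_zero_ne (L : GL (Fin n) F) :
    ((L : Matrix (Fin n) (Fin n) F).charpoly).coeff 0 ≠ 0 := by
  intro h
  have hdet := Matrix.det_eq_sign_charpoly_coeff (L : Matrix (Fin n) (Fin n) F)
  rw [h, mul_zero] at hdet
  have hu : IsUnit (L : Matrix (Fin n) (Fin n) F).det :=
    (Matrix.isUnit_iff_isUnit_det _).1 L.isUnit
  rw [hdet] at hu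
  exact not_isUnit_zero hu

/-- (CH3) `Matrix.charpoly_transpose`, `Matrix.charpoly_inv`, `Matrix.reverse_charpoly`; the constant
coefficient of the characteristic polynomial is `± det ≠ 0`, so `mirror = reverse`. -/
theorem charpoly_gtiHom (L : GL (Fin n) F) :
    ∃ u : F, u ≠ 0 ∧ ((gtiHom L : GL (Fin n) F) : Matrix (Fin n) (Fin n) F).charpoly =
      C u * ((L : Matrix (Fin n) (Fin n) F).charpoly).mirror := by
  have hu : IsUnit (L : Matrix (Fin n) (Fin n) F) := L.isUnit
  have hdet : IsUnit (L : Matrix (Fin n) (Fin n) F).det := (Matrix.isUnit_iff_isUnit_det _).1 hu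
  have hd0 : (L : Matrix (Fin n) (Fin n) F).det ≠ 0 := hdet.ne_zero
  refine ⟨(-1) ^ Fintype.card (Fin n) * ((L : Matrix (Fin n) (Fin n) F).det)⁻¹,
    mul_ne_zero (pow_ne_zero _ (neg_ne_zero.2 one_ne_zero)) (inv_ne_zero hd0), ?_⟩
  have hmir : ((L : Matrix (Fin n) (Fin n) F).charpoly).mirror =
      (L : Matrix (Fin n) (Fin n) F).charpolyRev := by
    rw [Polynomial.mirror, Polynomial.natTrailingDegree_eq_zero.2 (Or.inr (charpoly_coeff_zero_ne L)),
      pow_zero, mul_one, Matrix.reverse_charpoly]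
  rw [gtiHom_apply, gti_coe, Matrix.charpoly_transpose, Matrix.coe_units_inv,
    Matrix.charpoly_inv _ hu, hmir, Ring.inverse_eq_inv']
  simp only [map_mul, map_pow, map_neg, map_one]

/-- (CH5) Cayley-Hamilton: `L^j = c`, a scalar matrix, central, so in the kernel of `conjAHom`
(`ker_conjAHom`). -/
theorem conjAHom_pow_eq_one (hn : 2 ≤ n) (L : GL (Fin n) F) (j : ℕ) (c : F)
    (h : (L : Matrix (Fin n) (Fin n) F).charpoly ∣ X ^ j - C c) :
    (conjAHom L) ^ j = 1 := by
  obtain ⟨Q, hQ⟩ := h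
  have h0 : Polynomial.aeval (L : Matrix (Fin n) (Fin n) F) (X ^ j - C c : F[X]) = 0 := by
    rw [hQ, map_mul, Matrix.aeval_self_charpoly, zero_mul]
  rw [map_sub, map_pow, Polynomial.aeval_X, Polynomial.aeval_C, sub_eq_zero] at h0
  -- `L ^ j` is the scalar matrix `c`
  have hcen : L ^ j ∈ Subgroup.center (GL (Fin n) F) := by
    rw [Subgroup.mem_center_iff]
    intro g
    apply Units.ext
    rw [Units.val_mul, Units.val_mul, Units.val_pow_eq_pow_val, h0, Algebra.commutes]
  rw [← ker_conjAHom hn, MonoidHom.mem_ker, map_pow] at hcen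
  exact hcen

end Cfsg.Agent.Lib.Helper18.AutPSLCH
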