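/-
helper18: S2262 leaf TH (planner helper19): the two endomorphisms `mapGL σ`, `gtiHom` of `GL_n(F)`
and how `fieldAHom σ`, `itAut` normalise the conjugations `conjAHom`.
-/
import Cfsg.Agent.Lib.Helper19.AutPSLDefs

set_option autoImplicit false

namespace Cfsg.Agent.Lib.Helper18.AutPSLTH

open Matrix Polynomial Cfsg.Agent.Lib.Helper18.PSLnAut Cfsg.Agent.Lib.Helper19.AutPSL

variable {n : ℕ} {F : Type*} [Field F]

/-- (TH1) `fieldA_conjA`. -/
theorem fieldAHom_mul_conjAHom (σ : F ≃+* F) (x : GL (Fin n) F) :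
    fieldAHom σ * conjAHom x = conjAHom (mapGL σ x) * fieldAHom σ := by
  ext y
  rw [MulAut.mul_apply, MulAut.mul_apply, fieldAHom_apply, conjAHom_apply, conjAHom_apply,
    fieldAHom_apply]
  exact fieldA_conjA σ x y

/-- (TH2) `itA_conjA`. -/
theorem itAut_mul_conjAHom (x : GL (Fin n) F) :
    (itAut : MulAut (ProjectiveSpecialLinearGroup (Fin n) F)) * conjAHom x =
      conjAHom (gtiHom x) * itAut := by
  ext y
  rw [MulAut.mul_apply, MulAut.mul_apply, itAut_apply, itAut_apply, conjAHom_apply, conjAHom_apply,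
    gtiHom_apply]
  exact itA_conjA x y

/-- (TH3) `itA_itA`. -/
theorem itAut_mul_itAut :
    (itAut : MulAut (ProjectiveSpecialLinearGroup (Fin n) F)) * itAut = 1 := by
  ext y
  rw [MulAut.mul_apply, MulAut.one_apply, itAut_apply, itAut_apply]
  exact itA_itA y

/-- (TH4) `itA_fieldA`. -/
theorem fieldAHom_mul_itAut (σ : F ≃+* F) :
    fieldAHom σ * (itAut : MulAut (ProjectiveSpecialLinearGroup (Fin n) F)) =
      itAut * fieldAHom σ := by
  ext y
  rw [MulAut.mul_apply, MulAut.mul_apply, itAut_apply, itAut_apply, fieldAHom_apply,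
    fieldAHom_apply]
  exact (itA_fieldA σ y).symm

/-- (TH5) iterates of the entrywise field automorphism. -/
theorem mapGL_iterate (σ : F ≃+* F) (k : ℕ) (x : GL (Fin n) F) :
    ((mapGL σ)^[k]) x = mapGL (σ ^ k) x := by
  induction k generalizing x with
  | zero =>
    apply Units.ext
    ext i j
    rw [Function.iterate_zero, id_eq, pow_zero, mapGL_coe, Matrix.map_apply]
    rfl
  | succ k ih =>
    rw [Function.iterate_succ_apply', ih]
    apply Units.ext
    ext i j
    rw [mapGL_coe, mapGL_coe, mapGL_coe, Matrix.map_apply, Matrix.map_apply, Matrix.map_apply,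
      pow_succ']
    rfl

/-- (TH6) -/
theorem mapGL_one (x : GL (Fin n) F) : mapGL (1 : F ≃+* F) x = x := by
  apply Units.ext
  ext i j
  rw [mapGL_coe, Matrix.map_apply]
  rfl

/-- (TH7) the inverse transpose is an involution. -/
theorem gtiHom_gtiHom (x : GL (Fin n) F) : gtiHom (gtiHom x) = x := by
  apply Units.ext
  rw [gtiHom_apply, gtiHom_apply, gti_coe, gti_inv_coe, Matrix.transpose_transpose]

/-- (TH8) and commutes with the field automorphisms. -/
theorem mapGL_gtiHom (σ : F ≃+* F) (x : GL (Fin n) F) :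
    mapGL σ (gtiHom x) = gtiHom (mapGL σ x) := by
  apply Units.ext
  rw [gtiHom_apply, gtiHom_apply, mapGL_coe, gti_coe, gti_coe, ← map_inv (mapGL σ) x, mapGL_coe,
    Matrix.transpose_map]

end Cfsg.Agent.Lib.Helper18.AutPSLTH
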