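import Mathlib
import Cfsg.Prelude.Def_Solvable
import Cfsg.Agent.Lib.Helper12.Cores
import Cfsg.Agent.Lib.Helper16.Minimal
import Cfsg.Agent.Lib.Helper18.AbelianAut

/-!
# Groups with an abelian Sylow 2-subgroup of rank two (Brauer)

Group-theoretic part of Brauer's theorem: if the Sylow 2-subgroup `P` of `G` is abelian with exactly
three involutions, `|P| > 4` and `O(G) = 1`, then `P` is normal, self-centralizing and of index 1 or 3.
The character-theoretic input is taken as a hypothesis (`Interface`).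
-/

set_option autoImplicit false
set_option linter.unusedSectionVars false
set_option linter.style.haveILetI false

namespace Cfsg.Agent.Lib.Helper18.BrauerRank2

open Cfsg.Agent.Lib.Helper18

universe u

/-- `P` is commutative and its involutions are exactly `t₁`, `t₂`, `t₁ * t₂`. -/
structure R2Hyp {G : Type*} [Group G] (P : Subgroup G) (t₁ t₂ : G) : Prop where
  comm : ∀ x ∈ P, ∀ y ∈ P, x * y = y * x
  mem₁ : t₁ ∈ P
  mem₂ : t₂ ∈ P
  ne₁ : t₁ ≠ 1
  ne₂ : t₂ ≠ 1
  ne₁₂ : t₁ ≠ t₂
  sq₁ : t₁ * t₁ = 1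
  sq₂ : t₂ * t₂ = 1
  list : ∀ x ∈ P, x * x = 1 → x = 1 ∨ x = t₁ ∨ x = t₂ ∨ x = t₁ * t₂

/-- The character-theoretic input (to be supplied by lead's Brauer–Leonard library). -/
def Interface : Prop :=
  ∀ {G : Type u} [Group G] [Finite G] (P : Sylow 2 G), IsMulCommutative P → 16 ≤ Nat.card P →
    (Subgroup.centralizer ((P : Subgroup G) : Set G)).relIndex
        (Subgroup.normalizer ((P : Subgroup G) : Set G)) = 3 →
    (∀ y : G, y ∈ (P : Subgroup G) → y ≠ 1 →
        Subgroup.centralizer ({y} : Set G) ⊓ Subgroup.normalizer ((P : Subgroup G) : Set G) =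
          Subgroup.centralizer ((P : Subgroup G) : Set G)) →
    ∀ t : G, orderOf t = 2 → ∃ K : Subgroup G, K.Normal ∧ t ∈ K ∧ K ≠ ⊤

/-- The conclusion. -/
def Concl {G : Type*} [Group G] (P : Subgroup G) : Prop :=
  P.Normal ∧ Subgroup.centralizer (P : Set G) = P ∧ (P.index = 1 ∨ P.index = 3)

section Basic

variable {G : Type*} [Group G] [Finite G] (P : Sylow 2 G) {t₁ t₂ : G}

/-- An element of the normalizer of `P` fixing a nonidentity element of `P` centralizes `P`. -/
theorem centralizes_of_fixes (h : R2Hyp (P : Subgroup G) t₁ t₂) {n : G}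
    (hn : n ∈ Subgroup.normalizer ((P : Subgroup G) : Set G)) {y : G} (hy : y ∈ (P : Subgroup G))
    (hy1 : y ≠ 1) (hfix : n * y * n⁻¹ = y) : ∀ x ∈ (P : Subgroup G), n * x * n⁻¹ = x := by
  haveI : Fact (Nat.Prime 2) := ⟨Nat.prime_two⟩
  have hP2 : IsPGroup 2 (P : Subgroup G) := P.2
  obtain ⟨k, hk⟩ := ((IsPGroup.iff_orderOf (p := 2) (G := (P : Subgroup G))).mp hP2) ⟨y, hy⟩
  rw [Subgroup.orderOf_mk] at hk
  have hk0 : k ≠ 0 := by
    rintro rfl
    rw [pow_zero, orderOf_eq_one_iff] at hk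
    exact hy1 hk
  obtain ⟨k', rfl⟩ := Nat.exists_eq_succ_of_ne_zero hk0
  have hvord : orderOf (y ^ 2 ^ k') = 2 := by
    rw [orderOf_pow_of_dvd (pow_pos two_pos k').ne' ⟨2, by rw [hk, pow_succ]⟩, hk, pow_succ,
      Nat.mul_div_cancel_left _ (pow_pos two_pos k')]
  have hv1 : y ^ 2 ^ k' ≠ 1 := fun h => by rw [h, orderOf_one] at hvord; omega
  have hvv : y ^ 2 ^ k' * y ^ 2 ^ k' = 1 := by
    have := pow_orderOf_eq_one (y ^ 2 ^ k')
    rw [hvord, sq] at this
    exact this
  have hvfix : n * y ^ 2 ^ k' * n⁻¹ = y ^ 2 ^ k' := by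
    rw [← conj_pow, hfix]
  exact sylow_two_centralizes_of_fixes_involution P h.comm t₁ t₂ h.mem₁ h.mem₂ h.ne₁ h.ne₂ h.ne₁₂
    h.sq₁ h.sq₂ h.list n hn _ (P.pow_mem hy _) hv1 hvv hvfix

theorem mem_centralizer_of_fixes (h : R2Hyp (P : Subgroup G) t₁ t₂) {n : G}
    (hn : n ∈ Subgroup.normalizer ((P : Subgroup G) : Set G)) {y : G} (hy : y ∈ (P : Subgroup G))
    (hy1 : y ≠ 1) (hfix : n * y * n⁻¹ = y) :
    n ∈ Subgroup.centralizer ((P : Subgroup G) : Set G) := by
  rw [Subgroup.mem_centralizer_iff]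
  intro x hx
  have := centralizes_of_fixes P h hn hy hy1 hfix x hx
  exact (mul_inv_eq_iff_eq_mul.mp this).symm

theorem le_centralizer (h : R2Hyp (P : Subgroup G) t₁ t₂) :
    (P : Subgroup G) ≤ Subgroup.centralizer ((P : Subgroup G) : Set G) := by
  intro x hx
  rw [Subgroup.mem_centralizer_iff]
  intro y hy
  exact h.comm y hy x hx

/-- The Frobenius-type condition of the interface. -/
theorem frob_condition (h : R2Hyp (P : Subgroup G) t₁ t₂) (y : G) (hy : y ∈ (P : Subgroup G))
    (hy1 : y ≠ 1) :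
    Subgroup.centralizer ({y} : Set G) ⊓ Subgroup.normalizer ((P : Subgroup G) : Set G) =
      Subgroup.centralizer ((P : Subgroup G) : Set G) := by
  apply le_antisymm
  · rintro n ⟨hnc, hnN⟩
    have hfix : n * y * n⁻¹ = y := by
      have := Subgroup.mem_centralizer_singleton_iff.mp hnc
      rw [this, mul_inv_cancel_right]
    exact mem_centralizer_of_fixes P h hnN hy hy1 hfix
  · refine le_inf ?_ (Subgroup.centralizer_le_normalizer _)
    exact Subgroup.centralizer_le (Set.singleton_subset_iff.mpr hy)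

end Basic

section Index

variable {G : Type*} [Group G] [Finite G] (P : Sylow 2 G) {t₁ t₂ : G}

/-- A conjugate of `t₁` by an element of the normalizer is one of the three involutions. -/
theorem conj_mem_list (h : R2Hyp (P : Subgroup G) t₁ t₂) {n : G}
    (hn : n ∈ Subgroup.normalizer ((P : Subgroup G) : Set G)) :
    n * t₁ * n⁻¹ = t₁ ∨ n * t₁ * n⁻¹ = t₂ ∨ n * t₁ * n⁻¹ = t₁ * t₂ := by
  have h1 : n * t₁ * n⁻¹ ∈ (P : Subgroup G) := (Subgroup.mem_normalizer_iff.mp hn t₁).mp h.mem₁
  have h2 : (n * t₁ * n⁻¹) * (n * t₁ * n⁻¹) = 1 := by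
    calc (n * t₁ * n⁻¹) * (n * t₁ * n⁻¹) = n * (t₁ * t₁) * n⁻¹ := by group
      _ = 1 := by rw [h.sq₁]; group
  rcases h.list _ h1 h2 with h3 | h3
  · exfalso
    apply h.ne₁
    have : t₁ = n⁻¹ * (n * t₁ * n⁻¹) * n := by group
    rw [this, h3]; group
  · exact h3

/-- `|N_G(P) : C_G(P)| = 3` unless `N_G(P) = C_G(P)`. -/
theorem relIndex_eq_three (h : R2Hyp (P : Subgroup G) t₁ t₂) {g : G}
    (hgN : g ∈ Subgroup.normalizer ((P : Subgroup G) : Set G))
    (hgC : g ∉ Subgroup.centralizer ((P : Subgroup G) : Set G)) :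
    (Subgroup.centralizer ((P : Subgroup G) : Set G)).relIndex
      (Subgroup.normalizer ((P : Subgroup G) : Set G)) = 3 := by
  classical
  haveI : Fact (Nat.Prime 2) := ⟨Nat.prime_two⟩
  set N := Subgroup.normalizer ((P : Subgroup G) : Set G) with hN
  set C := Subgroup.centralizer ((P : Subgroup G) : Set G) with hC
  letI : MulAction ↥N G := MulAction.compHom G ((MulAut.conj (G := G)).comp N.subtype)
  have hsmul : ∀ (n : ↥N) (x : G), n • x = (n : G) * x * (n : G)⁻¹ := fun n x => rfl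
  have hstab : MulAction.stabilizer ↥N t₁ = C.subgroupOf N := by
    ext n
    rw [MulAction.mem_stabilizer_iff, hsmul, Subgroup.mem_subgroupOf]
    constructor
    · intro hfix
      exact mem_centralizer_of_fixes P h n.2 h.mem₁ h.ne₁ hfix
    · intro hn
      have := (Subgroup.mem_centralizer_iff.mp hn) t₁ h.mem₁
      rw [← this, mul_inv_cancel_right]
  have horb : MulAction.orbit ↥N t₁ ⊆ (({t₁, t₂, t₁ * t₂} : Finset G) : Set G) := by
    rintro _ ⟨n, rfl⟩
    change n • t₁ ∈ _
    rw [hsmul]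
    simp only [Finset.coe_insert, Finset.coe_singleton, Set.mem_insert_iff,
      Set.mem_singleton_iff]
    exact conj_mem_list P h n.2
  have hle : C.relIndex N ≤ 3 := by
    have h1 : C.relIndex N = (MulAction.orbit ↥N t₁).ncard := by
      rw [← MulAction.index_stabilizer, hstab]; rfl
    rw [h1]
    calc (MulAction.orbit ↥N t₁).ncard
        ≤ (({t₁, t₂, t₁ * t₂} : Finset G) : Set G).ncard :=
          Set.ncard_le_ncard horb (Finset.finite_toSet _)
      _ = ({t₁, t₂, t₁ * t₂} : Finset G).card := Set.ncard_coe_finset _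
      _ ≤ 3 := Finset.card_le_three
  have hodd : ¬ 2 ∣ C.relIndex N := by
    intro h2
    have h3 : C.relIndex N ∣ (P : Subgroup G).relIndex N :=
      Subgroup.relIndex_dvd_of_le_left N (le_centralizer P h)
    have h4 : (P : Subgroup G).relIndex N ∣ (P : Subgroup G).index :=
      Subgroup.relIndex_dvd_index_of_le Subgroup.le_normalizer
    exact P.not_dvd_index (h2.trans (h3.trans h4))
  have hne1 : C.relIndex N ≠ 1 := by
    intro h1
    exact hgC (Subgroup.relIndex_eq_one.mp h1 hgN)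
  have hne0 : C.relIndex N ≠ 0 := by
    have : (C.subgroupOf N).index ≠ 0 := Subgroup.index_ne_zero_of_finite
    exact this
  have : C.relIndex N = 2 ∨ C.relIndex N = 3 := by omega
  rcases this with h2 | h3
  · exfalso; exact hodd (h2 ▸ dvd_rfl)
  · exact h3

/-- If `N_G(P) ≠ C_G(P)` then `|P| ≥ 16`. -/
theorem sixteen_le_card (h : R2Hyp (P : Subgroup G) t₁ t₂) (h4 : 4 < Nat.card P) {g : G}
    (hgN : g ∈ Subgroup.normalizer ((P : Subgroup G) : Set G))
    (hgC : g ∉ Subgroup.centralizer ((P : Subgroup G) : Set G)) : 16 ≤ Nat.card P := by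
  classical
  haveI : Fact (Nat.Prime 2) := ⟨Nat.prime_two⟩
  haveI : Fact (Nat.Prime 3) := ⟨Nat.prime_three⟩
  set N := Subgroup.normalizer ((P : Subgroup G) : Set G) with hN
  set C := Subgroup.centralizer ((P : Subgroup G) : Set G) with hC
  have hrel := relIndex_eq_three P h hgN hgC
  set σ : MulAut (P : Subgroup G) := (P : Subgroup G).normalizerMonoidHom ⟨g, hgN⟩ with hσ
  have hσ3 : σ ^ 3 = 1 := by
    have h1 : (⟨g, hgN⟩ : ↥N) ^ 3 ∈ C.subgroupOf N := by
      haveI : (C.subgroupOf N).Normal :=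
        Subgroup.normal_subgroupOf_centralizer_normalizer ((P : Subgroup G) : Set G)
      have := Subgroup.pow_index_mem (C.subgroupOf N) (⟨g, hgN⟩ : ↥N)
      have hidx : (C.subgroupOf N).index = 3 := hrel
      rwa [hidx] at this
    rw [← Subgroup.normalizerMonoidHom_ker, MonoidHom.mem_ker, map_pow] at h1
    exact h1
  have hσapp : ∀ y : (P : Subgroup G), ((σ y : (P : Subgroup G)) : G) = g * y * g⁻¹ := fun y => rfl
  set Z : Subgroup (MulAut (P : Subgroup G)) := Subgroup.zpowers σ with hZ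
  have hZp : IsPGroup 3 Z := by
    rintro ⟨τ, hτ⟩
    obtain ⟨k, rfl⟩ := Subgroup.mem_zpowers_iff.mp hτ
    refine ⟨1, Subtype.ext ?_⟩
    rw [pow_one, Subgroup.coe_pow, Subgroup.coe_one, ← zpow_natCast, ← zpow_mul, mul_comm,
      zpow_mul, zpow_natCast, hσ3, one_zpow]
  have hfixed : MulAction.fixedPoints Z (P : Subgroup G) = {1} := by
    ext y
    rw [MulAction.mem_fixedPoints, Set.mem_singleton_iff]
    constructor
    · intro hy
      by_contra hy1
      have h1 : (⟨σ, Subgroup.mem_zpowers σ⟩ : Z) • y = y := hy _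
      have h2 : σ y = y := h1
      have h3 : g * (y : G) * g⁻¹ = (y : G) := by rw [← hσapp, h2]
      exact hgC (mem_centralizer_of_fixes P h hgN y.2 (fun h => hy1 (Subtype.ext h)) h3)
    · rintro rfl τ
      exact smul_one τ
  have hmod := hZp.card_modEq_card_fixedPoints (P : Subgroup G)
  rw [hfixed] at hmod
  have hone : Nat.card (({1} : Set (P : Subgroup G))) = 1 := by
    rw [Nat.card_eq_one_iff_unique]
    exact ⟨inferInstance, ⟨⟨1, rfl⟩⟩⟩
  rw [hone] at hmod
  obtain ⟨j, hj⟩ := (IsPGroup.iff_card (p := 2) (G := (P : Subgroup G))).mp P.2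
  rw [hj] at hmod h4 ⊢
  by_contra hlt
  push Not at hlt
  have hj4 : j < 4 := by
    by_contra hge
    push Not at hge
    have : 2 ^ 4 ≤ 2 ^ j := Nat.pow_le_pow_right two_pos hge
    omega
  unfold Nat.ModEq at hmod
  interval_cases j <;> omega

end Index

section Odd

/-- `G` has no nontrivial normal subgroup of odd order. -/
def NoOdd (G : Type*) [Group G] : Prop :=
  ∀ N : Subgroup G, N.Normal → Odd (Nat.card N) → N = ⊥

variable {G : Type*} [Group G] [Finite G]

theorem mem_of_pow_mem_of_coprime {H : Subgroup G} {x : G} {n : ℕ} (hx : x ^ n ∈ H)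
    (hcop : n.Coprime (orderOf x)) : x ∈ H := by
  by_cases h1 : orderOf x = 1
  · rw [orderOf_eq_one_iff.mp h1]; exact H.one_mem
  · have hlt : 1 < orderOf x := by
      have := orderOf_pos x
      omega
    obtain ⟨a, -, ha⟩ := Nat.exists_mul_mod_eq_one_of_coprime hcop hlt
    have : (x ^ n) ^ a = x := by
      rw [← pow_mul, ← pow_mod_orderOf, ha, pow_one]
    rw [← this]
    exact H.pow_mem hx a

/-- Normal subgroups inherit the absence of normal subgroups of odd order. -/
theorem NoOdd.of_normal (hO : NoOdd G) (L : Subgroup G) [hL : L.Normal] : NoOdd ↥L := by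
  intro M hMn hModd
  set OL := Cfsg.pPrimeCore 2 ↥L with hOL
  haveI : OL.Characteristic := Cfsg.Agent.Lib.Helper12.pPrimeCore_characteristic 2
  have hn : (OL.map L.subtype).Normal := ConjAct.normal_of_characteristic_of_normal
  have hodd : Odd (Nat.card (OL.map L.subtype)) := by
    rw [Subgroup.card_map_of_injective L.subtype_injective]
    exact Nat.Coprime.odd_of_right (Cfsg.Agent.Lib.Helper12.pPrimeCore_coprime 2)
  have h1 := hO _ hn hodd
  have h2 : OL = ⊥ := (Subgroup.map_eq_bot_iff_of_injective OL L.subtype_injective).mp h1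
  have h3 : M ≤ OL :=
    Cfsg.Agent.Lib.Helper12.le_pPrimeCore 2 M hMn (Nat.coprime_two_right.mpr hModd)
  rw [h2] at h3
  exact le_bot_iff.mp h3

/-- `L P` inherits the absence of normal subgroups of odd order, for `L` normal and `P` a 2-group. -/
theorem NoOdd.of_normal_sup (hO : NoOdd G) (L : Subgroup G) [hL : L.Normal] (P : Subgroup G)
    (hP : IsPGroup 2 P) (X : Subgroup G) (hX : X = P ⊔ L) : NoOdd ↥X := by
  haveI : Fact (Nat.Prime 2) := ⟨Nat.prime_two⟩
  intro M hMn hModd
  have hLX : L ≤ X := hX ▸ le_sup_right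
  -- elements of `M` lie in `L`
  have hML : ∀ m : ↥X, m ∈ M → (m : G) ∈ L := by
    intro m hm
    have hmem : (m : G) ∈ ((P ⊔ L : Subgroup G) : Set G) := hX ▸ m.2
    rw [Subgroup.mul_normal] at hmem
    obtain ⟨p, hp, l, hl, hpl⟩ := Set.mem_mul.mp hmem
    obtain ⟨j, hj⟩ := (IsPGroup.iff_orderOf.mp hP) ⟨p, hp⟩
    rw [Subgroup.orderOf_mk] at hj
    have hpow : (m : G) ^ 2 ^ j ∈ L := by
      rw [← QuotientGroup.eq_one_iff, QuotientGroup.mk_pow, ← hpl, QuotientGroup.mk_mul,
        (QuotientGroup.eq_one_iff l).mpr hl, mul_one, ← QuotientGroup.mk_pow, ← hj,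
        pow_orderOf_eq_one]
      rfl
    apply mem_of_pow_mem_of_coprime hpow
    have hodd : Odd (orderOf (m : G)) := by
      have h1 : orderOf (⟨m, hm⟩ : M) = orderOf (m : G) := by
        rw [← Subgroup.orderOf_coe, ← Subgroup.orderOf_coe]
      rw [← h1]
      exact Odd.of_dvd_nat hModd (orderOf_dvd_natCard _)
    exact Nat.Coprime.pow_left j (Nat.coprime_two_left.mpr hodd)
  set ML : Subgroup ↥L := (M.map X.subtype).subgroupOf L with hMLdef
  have hle : M.map X.subtype ≤ L := by
    rintro _ ⟨m, hm, rfl⟩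
    exact hML m hm
  have hMLn : ML.Normal := by
    constructor
    intro y hy l
    rw [hMLdef, Subgroup.mem_subgroupOf] at hy ⊢
    obtain ⟨m, hm, hmy⟩ := hy
    refine ⟨⟨l, hLX l.2⟩ * m * ⟨l, hLX l.2⟩⁻¹, hMn.conj_mem m hm _, ?_⟩
    simp only [Subgroup.coe_subtype, Subgroup.coe_mul, Subgroup.coe_inv] at hmy ⊢
    rw [hmy]
  have hMLodd : Odd (Nat.card ML) := by
    rw [hMLdef, Nat.card_congr (Subgroup.subgroupOfEquivOfLe hle).toEquiv,
      Subgroup.card_map_of_injective X.subtype_injective]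
    exact hModd
  have hbot := (hO.of_normal L) ML hMLn hMLodd
  rw [eq_bot_iff]
  intro m hm
  have h1 : (⟨(m : G), hML m hm⟩ : ↥L) ∈ ML := by
    rw [hMLdef, Subgroup.mem_subgroupOf]
    exact ⟨m, hm, rfl⟩
  rw [hbot, Subgroup.mem_bot] at h1
  rw [Subgroup.mem_bot]
  apply Subtype.ext
  have h2 := congrArg (fun z : ↥L => (z : G)) h1
  exact h2

/-- Burnside: if `N_G(P) ≤ C_G(P)` and `O(G) = 1` then `G = P`. -/
theorem eq_top_of_normalizer_le_centralizer (hO : NoOdd G) (P : Sylow 2 G)
    (hNC : Subgroup.normalizer ((P : Subgroup G) : Set G) ≤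
      Subgroup.centralizer ((P : Subgroup G) : Set G)) : (P : Subgroup G) = ⊤ := by
  haveI : Fact (Nat.Prime 2) := ⟨Nat.prime_two⟩
  have hcompl := MonoidHom.ker_transferSylow_isComplement' P hNC
  have hodd : ¬ 2 ∣ Nat.card (MonoidHom.transferSylow P hNC).ker :=
    MonoidHom.not_dvd_card_ker_transferSylow P hNC
  have hK : (MonoidHom.transferSylow P hNC).ker = ⊥ :=
    hO _ inferInstance (Nat.odd_iff.mpr (Nat.two_dvd_ne_zero.mp hodd))
  have hcard := hcompl.card_mul_card
  rw [hK, Subgroup.card_bot, one_mul] at hcard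
  exact (Subgroup.card_eq_iff_eq_top _).mp hcard

end Odd

section Local

variable {G : Type*} [Group G] [Finite G] (P : Sylow 2 G) {t₁ t₂ : G}

/-- A normal subgroup of index `2 ^ (a + 1)` lies in a subgroup of index two. -/
theorem exists_index_two_ge (K : Subgroup G) [K.Normal] (a : ℕ) (hK : K.index = 2 ^ (a + 1)) :
    ∃ H : Subgroup G, K ≤ H ∧ H.index = 2 := by
  have : Fact (Nat.Prime 2) := ⟨Nat.prime_two⟩
  have hcard : Nat.card (G ⧸ K) = 2 ^ (a + 1) := by rw [← hK]; rfl
  obtain ⟨H, hH⟩ := Sylow.exists_subgroup_card_pow_prime (G := G ⧸ K) 2 (n := a)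
    (by rw [hcard]; exact pow_dvd_pow 2 (Nat.le_succ a))
  refine ⟨H.comap (QuotientGroup.mk' K), ?_, ?_⟩
  · intro x hx
    rw [Subgroup.mem_comap]
    have : QuotientGroup.mk' K x = 1 := (QuotientGroup.eq_one_iff x).mpr hx
    rw [this]
    exact H.one_mem
  · rw [Subgroup.index_comap_of_surjective _ (QuotientGroup.mk'_surjective K)]
    have h1 := H.card_mul_index
    rw [hH, hcard, pow_succ] at h1
    exact Nat.eq_of_mul_eq_mul_left (by positivity) h1

/-- Restriction of the hypothesis to a Sylow subgroup of a subgroup. -/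
theorem R2Hyp.restrict (h : R2Hyp (P : Subgroup G) t₁ t₂) (X : Subgroup G) (Q : Subgroup ↥X)
    (hQ : Q.map X.subtype = (P : Subgroup G) ⊓ X) (h₁ : t₁ ∈ X) (h₂ : t₂ ∈ X) :
    R2Hyp Q (⟨t₁, h₁⟩ : ↥X) ⟨t₂, h₂⟩ := by
  have hmem : ∀ y : ↥X, y ∈ Q ↔ (y : G) ∈ (P : Subgroup G) := by
    intro y
    have h1 : (y : G) ∈ Q.map X.subtype ↔ y ∈ Q :=
      Subgroup.mem_map_iff_mem X.subtype_injective (x := y)
    rw [← h1, hQ, Subgroup.mem_inf]
    exact ⟨fun h => h.1, fun h => ⟨h, y.2⟩⟩
  refine ⟨?_, (hmem _).mpr h.mem₁, (hmem _).mpr h.mem₂, ?_, ?_, ?_, ?_, ?_, ?_⟩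
  · intro x hx y hy
    exact Subtype.ext (h.comm x ((hmem x).mp hx) y ((hmem y).mp hy))
  · exact fun hh => h.ne₁ (congrArg Subtype.val hh)
  · exact fun hh => h.ne₂ (congrArg Subtype.val hh)
  · exact fun hh => h.ne₁₂ (congrArg Subtype.val hh)
  · exact Subtype.ext h.sq₁
  · exact Subtype.ext h.sq₂
  · intro x hx hxx
    rcases h.list x ((hmem x).mp hx) (congrArg Subtype.val hxx) with h1 | h1 | h1 | h1
    · exact Or.inl (Subtype.ext h1)
    · exact Or.inr (Or.inl (Subtype.ext h1))
    · exact Or.inr (Or.inr (Or.inl (Subtype.ext h1)))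
    · exact Or.inr (Or.inr (Or.inr (Subtype.ext h1)))

/-- If the normal subgroup `L` normalizes `P ∩ L` (into `P`), then `P ∩ L` is normal in `G`. -/
theorem inf_normal_of_conj_mem (L : Subgroup G) [hL : L.Normal]
    (hconj : ∀ l ∈ L, ∀ x ∈ (P : Subgroup G) ⊓ L, l * x * l⁻¹ ∈ (P : Subgroup G)) :
    ((P : Subgroup G) ⊓ L).Normal := by
  haveI : Fact (Nat.Prime 2) := ⟨Nat.prime_two⟩
  obtain ⟨Q, hQ⟩ := Cfsg.Agent.Lib.Helper16.exists_sylow_of_normal_inf P L
  have hmem : ∀ y : ↥L, y ∈ (Q : Subgroup ↥L) ↔ (y : G) ∈ (P : Subgroup G) ⊓ L := by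
    intro y
    rw [← hQ]
    exact (Subgroup.mem_map_iff_mem L.subtype_injective (x := y)).symm
  have hQn : (Q : Subgroup ↥L).Normal := by
    constructor
    intro q hq l
    rw [hmem] at hq ⊢
    refine ⟨?_, (l * q * l⁻¹).2⟩
    have h1 := hconj l l.2 q hq
    simp only [Subgroup.coe_mul, Subgroup.coe_inv]
    exact h1
  haveI : (Q : Subgroup ↥L).Characteristic := Sylow.characteristic_of_normal Q hQn
  have : ((Q : Subgroup ↥L).map L.subtype).Normal := ConjAct.normal_of_characteristic_of_normal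
  rwa [hQ] at this

/-- If some normal 2-subgroup `W ≤ P` contains an involution, the conclusion holds. -/
theorem concl_of_normal_subgroup (h : R2Hyp (P : Subgroup G) t₁ t₂) (hO : NoOdd G)
    (W : Subgroup G) [hW : W.Normal] (ht₁W : t₁ ∈ W) (hWP : W ≤ (P : Subgroup G)) :
    Concl (P : Subgroup G) := by
  haveI : Fact (Nat.Prime 2) := ⟨Nat.prime_two⟩
  set D := Subgroup.centralizer (W : Set G) with hD
  haveI hDn : D.Normal := Subgroup.normal_centralizer
  have hPD : (P : Subgroup G) ≤ D := by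
    intro x hx
    rw [hD, Subgroup.mem_centralizer_iff]
    intro w hw
    exact h.comm w (hWP hw) x hx
  -- `D = P`
  have hDP : D = (P : Subgroup G) := by
    apply le_antisymm _ hPD
    set PD : Sylow 2 ↥D := P.subtype hPD with hPDdef
    have hPDmem : ∀ y : ↥D, y ∈ (PD : Subgroup ↥D) ↔ (y : G) ∈ (P : Subgroup G) := by
      intro y
      rw [hPDdef, Sylow.coe_subtype, Subgroup.mem_subgroupOf]
    have hNC : Subgroup.normalizer ((PD : Subgroup ↥D) : Set ↥D) ≤
        Subgroup.centralizer ((PD : Subgroup ↥D) : Set ↥D) := by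
      intro n hn
      have hnN : (n : G) ∈ Subgroup.normalizer ((P : Subgroup G) : Set G) := by
        apply Subgroup.mem_normalizer_fintype
        intro x hx
        have h1 : (⟨x, hPD hx⟩ : ↥D) ∈ (PD : Subgroup ↥D) := (hPDmem _).mpr hx
        have h2 := (Subgroup.mem_normalizer_iff.mp hn _).mp h1
        exact (hPDmem _).mp h2
      have hfix : (n : G) * t₁ * (n : G)⁻¹ = t₁ := by
        have := (Subgroup.mem_centralizer_iff.mp n.2) t₁ ht₁W
        rw [← this, mul_inv_cancel_right]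
      have hcent := centralizes_of_fixes P h hnN h.mem₁ h.ne₁ hfix
      rw [Subgroup.mem_centralizer_iff]
      intro y hy
      apply Subtype.ext
      have := hcent (y : G) ((hPDmem y).mp hy)
      simp only [Subgroup.coe_mul]
      exact (mul_inv_eq_iff_eq_mul.mp this).symm
    have htop := eq_top_of_normalizer_le_centralizer (hO.of_normal D) PD hNC
    intro x hx
    have : (⟨x, hx⟩ : ↥D) ∈ (PD : Subgroup ↥D) := by rw [htop]; exact Subgroup.mem_top _
    exact (hPDmem _).mp this
  have hPn : (P : Subgroup G).Normal := hDP ▸ hDn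
  have hcent : Subgroup.centralizer ((P : Subgroup G) : Set G) = (P : Subgroup G) := by
    apply le_antisymm _ (le_centralizer P h)
    calc Subgroup.centralizer ((P : Subgroup G) : Set G) ≤ Subgroup.centralizer (W : Set G) :=
          Subgroup.centralizer_le hWP
      _ = (P : Subgroup G) := hDP
  refine ⟨hPn, hcent, ?_⟩
  by_cases hall : ∀ g : G, g ∈ (P : Subgroup G)
  · left
    rw [Subgroup.index_eq_one, eq_top_iff]
    exact fun g _ => hall g
  · right
    push Not at hall
    obtain ⟨g, hg⟩ := hall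
    have hNtop : Subgroup.normalizer ((P : Subgroup G) : Set G) = ⊤ :=
      Subgroup.normalizer_eq_top (P : Subgroup G)
    have hgN : g ∈ Subgroup.normalizer ((P : Subgroup G) : Set G) := by
      rw [hNtop]; exact Subgroup.mem_top g
    have hgC : g ∉ Subgroup.centralizer ((P : Subgroup G) : Set G) := by rwa [hcent]
    have := relIndex_eq_three P h hgN hgC
    rwa [hNtop, hcent, Subgroup.relIndex_top_right] at this

/-- If a normal subgroup `Y` containing `t₁` normalizes `P ∩ Y` into `P`, the conclusion holds. -/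
theorem concl_of_normal_normalizing (h : R2Hyp (P : Subgroup G) t₁ t₂) (hO : NoOdd G)
    (Y : Subgroup G) [hY : Y.Normal] (ht₁Y : t₁ ∈ Y)
    (hconj : ∀ l ∈ Y, ∀ x ∈ (P : Subgroup G) ⊓ Y, l * x * l⁻¹ ∈ (P : Subgroup G)) :
    Concl (P : Subgroup G) := by
  haveI := inf_normal_of_conj_mem P Y hconj
  exact concl_of_normal_subgroup P h hO ((P : Subgroup G) ⊓ Y) ⟨h.mem₁, ht₁Y⟩ inf_le_left

end Local

section Main

/-- **Brauer's theorem on abelian Sylow 2-subgroups of rank two** (group-theoretic part), modulo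
the character-theoretic `Interface`. -/
theorem brauer_rank2 (hI : Interface.{u}) : ∀ (n : ℕ) (G : Type u) [Group G] [Finite G],
    Nat.card G = n → ∀ (P : Sylow 2 G) (t₁ t₂ : G), R2Hyp (P : Subgroup G) t₁ t₂ →
    4 < Nat.card P → NoOdd G → Concl (P : Subgroup G) := by
  intro n
  induction n using Nat.strong_induction_on with
  | _ n ih =>
    intro G _ _ hn P t₁ t₂ h h4 hO
    haveI : Fact (Nat.Prime 2) := ⟨Nat.prime_two⟩
    by_cases hNC : Subgroup.normalizer ((P : Subgroup G) : Set G) ≤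
        Subgroup.centralizer ((P : Subgroup G) : Set G)
    · have htop := eq_top_of_normalizer_le_centralizer hO P hNC
      refine ⟨htop ▸ inferInstance, ?_, Or.inl (by rw [htop, Subgroup.index_top])⟩
      apply le_antisymm _ (le_centralizer P h)
      rw [htop]; exact le_top
    · obtain ⟨g, hgN, hgC⟩ := SetLike.not_le_iff_exists.mp hNC
      have hrel := relIndex_eq_three P h hgN hgC
      have h16 := sixteen_le_card P h h4 hgN hgC
      have hab : IsMulCommutative (P : Subgroup G) :=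
        ⟨⟨fun a b => Subtype.ext (h.comm a a.2 b b.2)⟩⟩
      have ht₁ord : orderOf t₁ = 2 := orderOf_eq_prime (by rw [sq]; exact h.sq₁) h.ne₁
      obtain ⟨L, hLn, ht₁L, hLtop⟩ := hI P hab h16 hrel (frob_condition P h) t₁ ht₁ord
      haveI := hLn
      have hnc : ¬ ∀ x ∈ (P : Subgroup G), g * x * g⁻¹ = x := by
        intro hall
        apply hgC
        rw [Subgroup.mem_centralizer_iff]
        intro x hx
        exact (mul_inv_eq_iff_eq_mul.mp (hall x hx)).symm
      have hconj := sylow_two_involutions_conj P h.comm t₁ t₂ h.mem₁ h.mem₂ h.ne₁ h.ne₂ h.ne₁₂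
        h.sq₁ h.sq₂ h.list g hgN hnc
      have ht₂L : t₂ ∈ L := by
        obtain ⟨c, hc⟩ := isConj_iff.mp hconj.1
        rw [← hc]
        exact hLn.conj_mem _ ht₁L c
      have hlt : ∀ X : Subgroup G, X ≠ ⊤ → Nat.card X < n := by
        intro X hX
        rw [← hn]
        exact lt_of_le_of_ne (Subgroup.card_le_card_group X)
          (fun h => hX ((Subgroup.card_eq_iff_eq_top X).mp h))
      by_cases hLP : (P : Subgroup G) ⊔ L = ⊤
      · -- `G / L` is a nontrivial 2-group: pass to a normal subgroup of index 2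
        obtain ⟨j, hj⟩ := (IsPGroup.iff_card (p := 2) (G := (P : Subgroup G))).mp P.2
        have hidx : L.index ∣ 2 ^ j := by
          rw [← Subgroup.relIndex_top_right, ← hLP, Subgroup.relIndex_sup_right, ← hj]
          exact Subgroup.relIndex_dvd_card _ _
        obtain ⟨a, -, ha⟩ := (Nat.dvd_prime_pow Nat.prime_two).mp hidx
        have ha0 : a ≠ 0 := by
          rintro rfl
          rw [pow_zero, Subgroup.index_eq_one] at ha
          exact hLtop ha
        obtain ⟨a', rfl⟩ := Nat.exists_eq_succ_of_ne_zero ha0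
        obtain ⟨L₁, hLL₁, hL₁idx⟩ := exists_index_two_ge L a' ha
        haveI hL₁n : L₁.Normal := Subgroup.normal_of_index_eq_two hL₁idx
        have hL₁top : L₁ ≠ ⊤ := by
          intro htop
          rw [htop, Subgroup.index_top] at hL₁idx
          omega
        obtain ⟨Q, hQ⟩ := Cfsg.Agent.Lib.Helper16.exists_sylow_of_normal_inf P L₁
        have hR := h.restrict P L₁ (Q : Subgroup ↥L₁) hQ (hLL₁ ht₁L) (hLL₁ ht₂L)
        have hcardQ : 4 < Nat.card (Q : Subgroup ↥L₁) := by
          rw [← Subgroup.card_map_of_injective L₁.subtype_injective, hQ]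
          have h1 := Subgroup.relIndex_mul_relIndex ⊥ ((P : Subgroup G) ⊓ L₁) (P : Subgroup G)
            bot_le inf_le_left
          rw [Subgroup.relIndex_bot_left, Subgroup.relIndex_bot_left,
            Subgroup.inf_relIndex_left] at h1
          have h2 : L₁.relIndex (P : Subgroup G) ∣ 2 := by
            have := Subgroup.relIndex_dvd_index_of_normal L₁ (P : Subgroup G)
            rwa [hL₁idx] at this
          have h3 : L₁.relIndex (P : Subgroup G) ≤ 2 := Nat.le_of_dvd two_pos h2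
          have h5 : Nat.card ((P : Subgroup G) ⊓ L₁ : Subgroup G) * L₁.relIndex (P : Subgroup G)
              ≤ Nat.card ((P : Subgroup G) ⊓ L₁ : Subgroup G) * 2 := Nat.mul_le_mul_left _ h3
          have h4 : (16 : ℕ) ≤ Nat.card (P : Subgroup G) := h16
          omega
        have hC := ih (Nat.card ↥L₁) (hlt L₁ hL₁top) ↥L₁ rfl Q _ _ hR hcardQ (hO.of_normal L₁)
        have hQn : (Q : Subgroup ↥L₁).Normal := hC.1
        refine concl_of_normal_normalizing P h hO L₁ (hLL₁ ht₁L) ?_
        intro l hl x hx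
        have hxQ : (⟨x, hx.2⟩ : ↥L₁) ∈ (Q : Subgroup ↥L₁) := by
          have h1 : x ∈ (Q : Subgroup ↥L₁).map L₁.subtype := hQ ▸ hx
          obtain ⟨y, hy, hyx⟩ := h1
          have : y = ⟨x, hx.2⟩ := Subtype.ext hyx
          rwa [← this]
        have h2 := hQn.conj_mem _ hxQ ⟨l, hl⟩
        have h3 : (((⟨l, hl⟩ : ↥L₁) * ⟨x, hx.2⟩ * (⟨l, hl⟩ : ↥L₁)⁻¹ : ↥L₁) : G) ∈
            (Q : Subgroup ↥L₁).map L₁.subtype := ⟨_, h2, rfl⟩
        rw [hQ] at h3
        exact h3.1
      · -- `X = P L` is a proper subgroup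
        set X := (P : Subgroup G) ⊔ L with hX
        have hPX : (P : Subgroup G) ≤ X := le_sup_left
        have hLX : L ≤ X := le_sup_right
        set PX : Sylow 2 ↥X := P.subtype hPX with hPXdef
        have hPXmap : (PX : Subgroup ↥X).map X.subtype = (P : Subgroup G) ⊓ X := by
          rw [hPXdef, Sylow.coe_subtype, Subgroup.subgroupOf_map_subtype]
        have hR := h.restrict P X (PX : Subgroup ↥X) hPXmap (hLX ht₁L) (hLX ht₂L)
        have hcardPX : 4 < Nat.card (PX : Subgroup ↥X) := by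
          rw [← Subgroup.card_map_of_injective X.subtype_injective, hPXmap,
            inf_eq_left.mpr hPX]
          exact h4
        have hOX : NoOdd ↥X := hO.of_normal_sup L (P : Subgroup G) P.2 X hX
        have hC := ih (Nat.card ↥X) (hlt X hLP) ↥X rfl PX _ _ hR hcardPX hOX
        have hPXn : (PX : Subgroup ↥X).Normal := hC.1
        refine concl_of_normal_normalizing P h hO L ht₁L ?_
        intro l hl x hx
        have hxPX : (⟨x, hPX hx.1⟩ : ↥X) ∈ (PX : Subgroup ↥X) := by
          rw [hPXdef, Sylow.coe_subtype, Subgroup.mem_subgroupOf]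
          exact hx.1
        have h2 := hPXn.conj_mem _ hxPX ⟨l, hLX hl⟩
        rw [hPXdef, Sylow.coe_subtype, Subgroup.mem_subgroupOf] at h2
        exact h2

end Main

section Final

/-- S0949 modulo the interface. -/
theorem homocyclic_of_interface (hI : Interface.{u}) {G : Type u} [Group G] [Finite G]
    (P : Sylow 2 G) (m : ℕ) (hm : 2 ≤ m)
    (e : (P : Subgroup G) ≃* Multiplicative (ZMod (2 ^ m) × ZMod (2 ^ m)))
    (hO : ∀ N : Subgroup G, N.Normal → Odd (Nat.card N) → N = ⊥) :
    (P : Subgroup G).Normal ∧ Subgroup.centralizer (P : Set G) = (P : Subgroup G) ∧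
      ((P : Subgroup G).index = 1 ∨ (P : Subgroup G).index = 3) := by
  obtain ⟨hcomm, t₁, t₂, h₁P, h₂P, h₁1, h₂1, h12, h₁₁, h₂₂, hlist⟩ :=
    exists_involutions_of_homocyclic (P : Subgroup G) m (by omega) e
  have hR : R2Hyp (P : Subgroup G) t₁ t₂ := ⟨hcomm, h₁P, h₂P, h₁1, h₂1, h12, h₁₁, h₂₂, hlist⟩
  have hcard : 4 < Nat.card (P : Subgroup G) := by
    haveI : NeZero (2 ^ m) := ⟨(pow_pos two_pos m).ne'⟩
    rw [Nat.card_congr e.toEquiv]
    change 4 < Nat.card (ZMod (2 ^ m) × ZMod (2 ^ m))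
    rw [Nat.card_prod, Nat.card_zmod]
    have : 2 ^ 2 ≤ 2 ^ m := Nat.pow_le_pow_right two_pos hm
    nlinarith
  exact brauer_rank2 hI (Nat.card G) G rfl P t₁ t₂ hR hcard hO

end Final

end Cfsg.Agent.Lib.Helper18.BrauerRank2
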