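import Mathlib
import Cfsg.Prelude.Def_GeometricClasses
import Cfsg.Agent.Lib.Helper5.TMCalc
import Cfsg.Agent.Lib.Helper18.C2Defs

/-!
# S5634, m ≥ 2: leaf L1 (in-block transvections lie in the stabiliser)
-/

set_option autoImplicit false
set_option linter.unusedSectionVars false
set_option linter.unusedVariables false

namespace Cfsg.Agent.Lib.Helper18.C2Leaf
open Cfsg Matrix Cfsg.Agent.Lib.Helper5.TMCalc Cfsg.Agent.Lib.Helper18.C2

variable {F : Type*} [Field F] {n t m : ℕ} {D : Fin t → Submodule F (Fin n → F)}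

/-- L1: in-block transvections lie in `Hs D`. -/
theorem inblock_TM (hD : Cfsg.Geo.IsMDecomposition m D) {i : Fin t} {a : Fin n → F}
    {s : (Fin n → F) →ₗ[F] F} (ha : a ∈ D i) (hs : InBlock D i s) (hsa : s a = 0) :
    TM (Hs D) s a := by
  obtain ⟨g, hgS, hgv⟩ := exists_rank_one s a hsa
  refine ⟨hsa, g, ⟨?_, hgS⟩, hgv⟩
  refine mem_stab_of_mapsTo hD 1 g (fun j v hv => ?_)
  rw [hgv, Equiv.Perm.one_apply]
  by_cases hji : j = i
  · subst hji
    exact (D j).add_mem hv ((D j).smul_mem _ ha)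
  · rw [hs j hji v hv, zero_smul, add_zero]
    exact hv

end Cfsg.Agent.Lib.Helper18.C2Leaf
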