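import Mathlib
import Cfsg.Prelude.Def_GeometricClasses
import Cfsg.Agent.Lib.Helper5.TMCalc
import Cfsg.Agent.Lib.Helper18.C2Defs
import Cfsg.Agent.Lib.Helper18.C2Ex
import Cfsg.Agent.Lib.Helper18.C2L1

/-!
# S5634, m ≥ 2: leaf L3 (from a transvection with non-pure centre to a cross-block pure transvection)
-/

set_option autoImplicit false
set_option linter.unusedSectionVars false
set_option linter.unusedVariables false

namespace Cfsg.Agent.Lib.Helper18.C2Leaf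
open Cfsg Matrix Cfsg.Agent.Lib.Helper5.TMCalc Cfsg.Agent.Lib.Helper18.C2

variable {F : Type*} [Field F] {n t m : ℕ} {D : Fin t → Submodule F (Fin n → F)}

/-- non-pure vectors have two non-zero components -/
lemma exists_two_of_not_pure (hD : Cfsg.Geo.IsMDecomposition m D) {y : Fin n → F}
    (hy : ¬ Pure D y) : ∃ k₁ k₂ : Fin t, k₁ ≠ k₂ ∧ pr hD k₁ y ≠ 0 ∧ pr hD k₂ y ≠ 0 := by
  by_contra h
  push Not at h
  apply hy
  by_cases hk : ∃ k, pr hD k y ≠ 0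
  · obtain ⟨k, hk⟩ := hk
    refine ⟨k, ?_⟩
    have hsum := sum_pr hD y
    rw [Finset.sum_eq_single k] at hsum
    · rw [← hsum]; exact pr_mem hD k y
    · intro j _ hjk
      exact h k j (Ne.symm hjk) hk
    · intro h'; exact absurd (Finset.mem_univ k) h'
  · push Not at hk
    refine ⟨⟨0, by have := hD.two_le; omega⟩, ?_⟩
    have hsum := sum_pr hD y
    rw [Finset.sum_eq_zero (fun j _ => hk j)] at hsum
    rw [← hsum]
    exact Submodule.zero_mem _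

lemma exists_ne_of_not_pure (hD : Cfsg.Geo.IsMDecomposition m D) {y : Fin n → F}
    (hy : ¬ Pure D y) (i : Fin t) : ∃ k, k ≠ i ∧ pr hD k y ≠ 0 := by
  obtain ⟨k₁, k₂, h12, h1, h2⟩ := exists_two_of_not_pure hD hy
  by_cases h : k₁ = i
  · exact ⟨k₂, fun h' => h12 (h.trans h'.symm), h2⟩
  · exact ⟨k₁, h, h1⟩

/-- a non-zero functional has a non-zero block component -/
lemma exists_comp_ne_zero (hD : Cfsg.Geo.IsMDecomposition m D) {ψ : (Fin n → F) →ₗ[F] F}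
    (hψ : ψ ≠ 0) : ∃ i, ψ ∘ₗ pr hD i ≠ 0 := by
  by_contra h
  push Not at h
  apply hψ
  rw [← sum_comp_pr hD ψ]
  exact Finset.sum_eq_zero (fun i _ => h i)

lemma exists_apply_ne_zero (hD : Cfsg.Geo.IsMDecomposition m D) {ψ : (Fin n → F) →ₗ[F] F}
    {i : Fin t} (hψ : ψ ∘ₗ pr hD i ≠ 0) : ∃ x ∈ D i, ψ x ≠ 0 := by
  by_contra h
  push Not at h
  apply hψ
  apply LinearMap.ext
  intro v
  rw [LinearMap.comp_apply, LinearMap.zero_apply]
  exact h _ (pr_mem hD i v)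

/-- Route B: first make the functional pure, then the centre. -/
lemma cross_RB (hD : Cfsg.Geo.IsMDecomposition m D) (hm : 2 ≤ m)
    {M : Subgroup (GL (Fin n) F)} (hHM : Hs D ≤ M) {ψ : (Fin n → F) →ₗ[F] F} {y : Fin n → F}
    (hT : TM M ψ y) {i : Fin t} {x' : Fin n → F} (hx' : x' ∈ D i) (hψx : ψ x' ≠ 0)
    {φ' : (Fin n → F) →ₗ[F] F} (hφ0 : φ' ≠ 0) (hφ : InBlock D i φ') (hφx : φ' x' = 0)
    (hφy : φ' y = 0) {k : Fin t} (hki : k ≠ i) (hyk : pr hD k y ≠ 0) : Cross D M := by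
  have h' : TM M φ' x' := TM_mono hHM (inblock_TM hD hx' hφ hφx)
  have h1 : TM M (ψ x' • φ') y := TM_comm hT h' hφy
  obtain ⟨χ, hχ, hχ1⟩ := exists_inBlock_one hD (pr_mem hD k y) hyk
  obtain ⟨x'', hx'', hx''0, hχx⟩ := exists_ne_zero_kill1 hD hm k χ
  have h2 : TM M χ x'' := TM_mono hHM (inblock_TM hD hx'' hχ hχx)
  have hφx'' : (ψ x' • φ') x'' = 0 := by
    rw [LinearMap.smul_apply, hφ k hki x'' hx'', smul_zero]
  have h3 : TM M (χ y • (ψ x' • φ')) x'' := TM_comm h2 h1 hφx''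
  have hχy : χ y = 1 := by rw [hχ.apply hD y, hχ1]
  refine ⟨k, i, hki, x'', hx'', hx''0, χ y • (ψ x' • φ'), ?_, (hφ.smul _).smul _, h3⟩
  rw [hχy, one_smul]
  intro h
  apply hφ0
  rcases smul_eq_zero.mp h with h | h
  · exact absurd h hψx
  · exact h

/-- Route A: first make the centre pure, then the functional. -/
lemma cross_RA (hD : Cfsg.Geo.IsMDecomposition m D) (hm : 2 ≤ m)
    {M : Subgroup (GL (Fin n) F)} (hHM : Hs D ≤ M) {ψ : (Fin n → F) →ₗ[F] F} {y : Fin n → F}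
    (hT : TM M ψ y) {k : Fin t} {x' : Fin n → F} (hx' : x' ∈ D k) (hx0 : x' ≠ 0) (hψx : ψ x' = 0)
    {φ' : (Fin n → F) →ₗ[F] F} (hφ : InBlock D k φ') (hφx : φ' x' = 0)
    (hφy : φ' y ≠ 0) {i : Fin t} (hik : i ≠ k) (hψi : ψ ∘ₗ pr hD i ≠ 0) : Cross D M := by
  have h' : TM M φ' x' := TM_mono hHM (inblock_TM hD hx' hφ hφx)
  have h1 : TM M (φ' y • ψ) x' := TM_comm h' hT hψx
  obtain ⟨x₁, hx₁, hψx₁⟩ := exists_apply_ne_zero hD hψi
  obtain ⟨φ'', hφ''0, hφ'', hφ''x⟩ := exists_inBlock_kill1 hD hm hx₁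
  have h2 : TM M φ'' x₁ := TM_mono hHM (inblock_TM hD hx₁ hφ'' hφ''x)
  have h3 : TM M ((φ' y • ψ) x₁ • φ'') x' := TM_comm h1 h2 (hφ'' k (Ne.symm hik) x' hx')
  refine ⟨k, i, Ne.symm hik, x', hx', hx0, (φ' y • ψ) x₁ • φ'', ?_, hφ''.smul _, h3⟩
  intro h
  apply hφ''0
  rcases smul_eq_zero.mp h with h | h
  · rw [LinearMap.smul_apply, smul_eq_mul] at h
    rcases mul_eq_zero.mp h with h | h
    · exact absurd h hφy
    · exact absurd h hψx₁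
  · exact h

/-- a homology with centre in a block and functional in the same block stabilises every block -/
lemma homology_mapsTo {g : GL (Fin n) F} {s : (Fin n → F) →ₗ[F] F} {a : Fin n → F} {i : Fin t}
    (ha : a ∈ D i) (hs : InBlock D i s)
    (hg : ∀ v, (g : Matrix (Fin n) (Fin n) F) *ᵥ v = v + s v • a) :
    ∀ j, ∀ v ∈ D j, (g : Matrix (Fin n) (Fin n) F) *ᵥ v ∈ D j := by
  intro j v hv
  rw [hg]
  by_cases hji : j = i
  · subst hji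
    exact (D j).add_mem hv ((D j).smul_mem _ ha)
  · rw [hs j hji v hv, zero_smul, add_zero]
    exact hv

/-- the case analysis when `t ≥ 3` and the field has an element `δ ≠ 0, 1` -/
lemma cross_of_nonpure_aux (hD : Cfsg.Geo.IsMDecomposition m D) (hm : 2 ≤ m) (ht : 3 ≤ t)
    {δ : F} (hδ0 : δ ≠ 0) (hδ1 : δ ≠ 1)
    {M : Subgroup (GL (Fin n) F)} (hHM : Hs D ≤ M) {ψ : (Fin n → F) →ₗ[F] F} {y : Fin n → F}
    (hT : TM M ψ y) (hψ : ψ ≠ 0) (hy : ¬ Pure D y) : Cross D M := by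
  classical
  by_cases hB : ∃ i, ψ ∘ₗ pr hD i ≠ 0 ∧ (pr hD i y = 0 ∨ ψ (pr hD i y) ≠ 0)
  · obtain ⟨i, hψi, h⟩ := hB
    obtain ⟨k, hki, hyk⟩ := exists_ne_of_not_pure hD hy i
    rcases h with h | h
    · obtain ⟨x', hx', hψx'⟩ := exists_apply_ne_zero hD hψi
      obtain ⟨φ', hφ'0, hφ', hφ'x⟩ := exists_inBlock_kill1 hD hm hx'
      refine cross_RB hD hm hHM hT hx' hψx' hφ'0 hφ' hφ'x ?_ hki hyk
      rw [hφ'.apply hD y, h, map_zero]
    · obtain ⟨φ', hφ'0, hφ', hφ'x⟩ := exists_inBlock_kill1 hD hm (pr_mem hD i y)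
      refine cross_RB hD hm hHM hT (pr_mem hD i y) h hφ'0 hφ' hφ'x ?_ hki hyk
      rw [hφ'.apply hD y, hφ'x]
  push Not at hB
  by_cases hA : ∃ k, pr hD k y ≠ 0 ∧ ψ ∘ₗ pr hD k = 0
  · obtain ⟨k, hyk, hψk⟩ := hA
    obtain ⟨χ, hχ, hχ1⟩ := exists_inBlock_one hD (pr_mem hD k y) hyk
    obtain ⟨x', hx', hx'0, hχx⟩ := exists_ne_zero_kill1 hD hm k χ
    obtain ⟨i, hψi⟩ := exists_comp_ne_zero hD hψ
    have hik : i ≠ k := fun h => hψi (h ▸ hψk)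
    have hψx' : ψ x' = 0 := by
      have := LinearMap.congr_fun hψk x'
      rwa [LinearMap.comp_apply, pr_same hD hx', LinearMap.zero_apply] at this
    refine cross_RA hD hm hHM hT hx' hx'0 hψx' hχ hχx ?_ hik hψi
    rw [hχ.apply hD y, hχ1]
    exact one_ne_zero
  push Not at hA
  -- the bad case
  obtain ⟨k₁, k₂, h12, hy1, hy2⟩ := exists_two_of_not_pure hD hy
  have hψ1 := hA k₁ hy1
  have hψ2 := hA k₂ hy2
  have hψy1 : ψ (pr hD k₁ y) = 0 := (hB k₁ hψ1).2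
  obtain ⟨k₃, h31, h32⟩ : ∃ k₃ : Fin t, k₃ ≠ k₁ ∧ k₃ ≠ k₂ := by
    by_contra h
    push Not at h
    have hsub : (Finset.univ : Finset (Fin t)) ⊆ {k₁, k₂} := by
      intro k _
      by_cases hk : k = k₁
      · simp [hk]
      · simp [h k hk]
    have := Finset.card_le_card hsub
    rw [Finset.card_univ, Fintype.card_fin] at this
    have h2 : ({k₁, k₂} : Finset (Fin t)).card ≤ 2 := Finset.card_le_two
    omega
  obtain ⟨χ₁, hχ₁, hχ₁1⟩ := exists_inBlock_one hD (pr_mem hD k₁ y) hy1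
  obtain ⟨a₃, ha₃, ha₃0, hψa₃⟩ := exists_ne_zero_kill1 hD hm k₃ ψ
  obtain ⟨s₃, hs₃, hs₃1⟩ := exists_inBlock_one hD ha₃ ha₃0
  obtain ⟨ρ₁, hρ₁det, hρ₁⟩ := exists_homology ((δ - 1) • χ₁) (pr hD k₁ y) (by
    rw [LinearMap.smul_apply, hχ₁1, smul_eq_mul, mul_one, add_sub_cancel]; exact hδ0)
  obtain ⟨ρ₃, hρ₃det, hρ₃⟩ := exists_homology ((δ⁻¹ - 1) • s₃) a₃ (by
    rw [LinearMap.smul_apply, hs₃1, smul_eq_mul, mul_one, add_sub_cancel]; exact inv_ne_zero hδ0)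
  have hdH : ρ₁ * ρ₃ ∈ Hs D := by
    refine ⟨mem_stab_of_mapsTo hD 1 _ (fun j v hv => ?_), ?_⟩
    · rw [Units.val_mul, ← Matrix.mulVec_mulVec, Equiv.Perm.one_apply]
      exact homology_mapsTo (pr_mem hD k₁ y) (hχ₁.smul _) hρ₁ j _
        (homology_mapsTo ha₃ (hs₃.smul _) hρ₃ j v hv)
    · show ρ₁ * ρ₃ ∈ Cfsg.Geo.specialLinear (Fin n) F
      rw [mem_specialLinear_iff, Units.val_mul, Matrix.det_mul, hρ₁det, hρ₃det,
        LinearMap.smul_apply, hχ₁1, LinearMap.smul_apply, hs₃1, smul_eq_mul, mul_one, smul_eq_mul,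
        mul_one, add_sub_cancel, add_sub_cancel, mul_inv_cancel₀ hδ0]
  have hdM : ρ₁ * ρ₃ ∈ M := hHM hdH
  have hψd : ∀ v, ψ (((ρ₁ * ρ₃ : GL (Fin n) F) : Matrix (Fin n) (Fin n) F) *ᵥ v) = ψ v := by
    intro v
    rw [Units.val_mul, ← Matrix.mulVec_mulVec, hρ₁, map_add, map_smul, hψy1, smul_zero, add_zero,
      hρ₃, map_add, map_smul, hψa₃, smul_zero, add_zero]
  have hT1 := TM_conj hdM hT
  have hT2 : TM M ψ (((ρ₁ * ρ₃ : GL (Fin n) F) : Matrix (Fin n) (Fin n) F) *ᵥ y) := by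
    refine TM_of_eq (fun v => ?_) hT1
    rw [LinearMap.comp_apply, Matrix.toLin'_apply, ← hψd, Matrix.mulVec_mulVec, ← Units.val_mul,
      mul_inv_cancel, Units.val_one, Matrix.one_mulVec]
  have hT3 := TM_sub_center hT2 hT
  have hdy : ((ρ₁ * ρ₃ : GL (Fin n) F) : Matrix (Fin n) (Fin n) F) *ᵥ y - y =
      ((δ⁻¹ - 1) * s₃ y) • a₃ + (δ - 1) • pr hD k₁ y := by
    rw [Units.val_mul, ← Matrix.mulVec_mulVec, hρ₁, hρ₃]
    simp only [LinearMap.smul_apply, smul_eq_mul]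
    have h1 : χ₁ (y + ((δ⁻¹ - 1) * s₃ y) • a₃) = 1 := by
      rw [map_add, map_smul, hχ₁ k₃ h31 a₃ ha₃, smul_zero, add_zero, hχ₁.apply hD y, hχ₁1]
    rw [h1, mul_one]
    abel
  rw [hdy] at hT3
  set y' := ((δ⁻¹ - 1) * s₃ y) • a₃ + (δ - 1) • pr hD k₁ y with hy'
  have hy'2 : pr hD k₂ y' = 0 := by
    rw [hy', map_add, map_smul, map_smul, pr_ne hD h32 ha₃, pr_pr_ne hD h12,
      smul_zero, smul_zero, add_zero]
  have hy'1 : pr hD k₁ y' ≠ 0 := by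
    rw [hy', map_add, map_smul, map_smul, pr_ne hD h31 ha₃, pr_pr_same, smul_zero,
      zero_add]
    intro h
    rcases smul_eq_zero.mp h with h | h
    · exact hδ1 (sub_eq_zero.mp h)
    · exact hy1 h
  obtain ⟨x', hx', hψx'⟩ := exists_apply_ne_zero hD hψ2
  obtain ⟨φ', hφ'0, hφ', hφ'x⟩ := exists_inBlock_kill1 hD hm hx'
  refine cross_RB hD hm hHM hT3 hx' hψx' hφ'0 hφ' hφ'x ?_ h12 hy'1
  rw [hφ'.apply hD y', hy'2, map_zero]

/-- L3: a transvection of `M` with non-pure centre yields a cross-block pure transvection. -/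
theorem cross_of_nonpure (hD : Cfsg.Geo.IsMDecomposition m D) (hm : 2 ≤ m)
    (h3 : m = 2 → 3 ≤ t ∧ ∃ δ : F, δ ≠ 0 ∧ δ ≠ 1)
    {M : Subgroup (GL (Fin n) F)} (hHM : Hs D ≤ M) {ψ : (Fin n → F) →ₗ[F] F} {y : Fin n → F}
    (hT : TM M ψ y) (hψ : ψ ≠ 0) (hy : ¬ Pure D y) : Cross D M := by
  rcases Nat.lt_or_ge m 3 with hm3 | hm3
  · obtain ⟨ht, δ, hδ0, hδ1⟩ := h3 (by omega)
    exact cross_of_nonpure_aux hD hm ht hδ0 hδ1 hHM hT hψ hy
  · obtain ⟨i, hψi⟩ := exists_comp_ne_zero hD hψ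
    obtain ⟨x', hx', hψx'⟩ := exists_apply_ne_zero hD hψi
    obtain ⟨φ', hφ'0, hφ', hφ'x, hφ'y⟩ := exists_inBlock_kill2 hD hm3 hx' (pr_mem hD i y)
    obtain ⟨k, hki, hyk⟩ := exists_ne_of_not_pure hD hy i
    refine cross_RB hD hm hHM hT hx' hψx' hφ'0 hφ' hφ'x ?_ hki hyk
    rw [hφ'.apply hD y, hφ'y]

end Cfsg.Agent.Lib.Helper18.C2Leaf
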