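import Mathlib
import Cfsg.Prelude.Def_GeometricClasses
import Cfsg.Agent.Lib.Helper5.TMCalc
import Cfsg.Agent.Lib.Helper18.C2Defs
import Cfsg.Agent.Lib.Helper18.C2Ex
import Cfsg.Agent.Lib.Helper18.C2L1
import Cfsg.Agent.Lib.Helper18.C2L3
import Cfsg.Agent.Lib.Helper9.C2L2
import Cfsg.Agent.Lib.Helper9.C2L6
import Cfsg.Agent.Lib.Helper20.C2L4a
import Cfsg.Agent.Lib.Helper20.C2L4e
import Cfsg.Agent.Lib.Helper23.C2Swap
import Cfsg.Agent.Lib.Helper29.C2L4cd

/-!
# S5634 (KL class C2 in SL_n), blocks of dimension ≥ 2: the stabiliser of the decomposition is maximal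

Assembly of the leaves L1 .. L6 of notes/S5634_C2A_leaves.lean.
-/

set_option autoImplicit false
set_option linter.unusedSectionVars false
set_option linter.unusedVariables false

namespace Cfsg.Agent.Lib.Helper18.C2Leaf
open Cfsg Matrix Cfsg.Agent.Lib.Helper5.TMCalc Cfsg.Agent.Lib.Helper18.C2

/-- the stabiliser of a decomposition is a proper subgroup of `SL_n` (all block dimensions) -/
theorem stab_lt_sl {F : Type*} [Field F] {n t m : ℕ} {D : Fin t → Submodule F (Fin n → F)}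
    (hD : Cfsg.Geo.IsMDecomposition m D) :
    Cfsg.Geo.decompositionStabilizer D ⊓ Cfsg.Geo.specialLinear (Fin n) F <
      Cfsg.Geo.specialLinear (Fin n) F := by
  obtain ⟨g₀, hg₀S, hg₀⟩ := Cfsg.Agent.Lib.Helper9.C2Leaf.exists_sl_not_mem hD
  refine lt_of_le_of_ne inf_le_right (fun h => hg₀ ?_)
  have : g₀ ∈ Cfsg.Geo.decompositionStabilizer D ⊓ Cfsg.Geo.specialLinear (Fin n) F := by
    rw [h]; exact hg₀S
  exact this.1

/-- LEAF C2A of notes/S5634_plan.md (blocks of dimension ≥ 2). -/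
theorem decomp_maximal_of_two_le {F : Type*} [Field F] [Fintype F] (n : ℕ) (hn : 13 ≤ n) {t : ℕ}
    (m : ℕ) (D : Fin t → Submodule F (Fin n → F)) (hD : Cfsg.Geo.IsMDecomposition m D)
    (hm : 2 ≤ m) (h2 : ¬ (m = 2 ∧ Fintype.card F = 2)) :
    Cfsg.Geo.IsMaximalIn (Cfsg.Geo.specialLinear (Fin n) F)
      (Cfsg.Geo.decompositionStabilizer D ⊓ Cfsg.Geo.specialLinear (Fin n) F) := by
  classical
  have h3 : m = 2 → 3 ≤ t ∧ ∃ δ : F, δ ≠ 0 ∧ δ ≠ 1 := by
    intro hm2
    constructor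
    · have := Cfsg.Agent.Lib.Helper9.C2Leaf.card_eq_mul hD
      subst hm2
      omega
    · by_contra hcon
      push Not at hcon
      apply h2
      refine ⟨hm2, le_antisymm ?_ ?_⟩
      · have hsub : (Finset.univ : Finset F) ⊆ {0, 1} := by
          intro δ _
          by_cases h0 : δ = 0
          · simp [h0]
          · simp [hcon δ h0]
        calc Fintype.card F = (Finset.univ : Finset F).card := rfl
          _ ≤ ({0, 1} : Finset F).card := Finset.card_le_card hsub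
          _ ≤ 2 := Finset.card_le_two
      · exact Fintype.one_lt_card
  refine ⟨stab_lt_sl hD, fun M hHM hMS => ?_⟩
  by_cases hMH : M = Cfsg.Geo.decompositionStabilizer D ⊓ Cfsg.Geo.specialLinear (Fin n) F
  · left; exact hMH
  right
  obtain ⟨g, hgM, hgH⟩ := SetLike.exists_of_lt (lt_of_le_of_ne hHM (Ne.symm hMH))
  have hgs : g ∉ Cfsg.Geo.decompositionStabilizer D := fun h => hgH ⟨h, hMS hgM⟩
  obtain ⟨a, x, hx, hnp⟩ := Cfsg.Agent.Lib.Helper9.C2Leaf.exists_nonpure hD g hgs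
  obtain ⟨φ, hφ0, hφ, hφx⟩ := exists_inBlock_kill1 hD hm hx
  have hHM' : Hs D ≤ M := hHM
  have hT0 : TM M φ x := TM_mono hHM' (inblock_TM hD hx hφ hφx)
  have hT1 := TM_conj hgM hT0
  have hψ : φ ∘ₗ Matrix.toLin' ((g⁻¹ : GL (Fin n) F) : Matrix (Fin n) (Fin n) F) ≠ 0 := by
    intro h
    apply hφ0
    apply LinearMap.ext
    intro v
    have := LinearMap.congr_fun h ((g : Matrix (Fin n) (Fin n) F) *ᵥ v)
    rw [LinearMap.comp_apply, Matrix.toLin'_apply, Matrix.mulVec_mulVec, ← Units.val_mul,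
      inv_mul_cancel, Units.val_one, Matrix.one_mulVec] at this
    exact this
  obtain ⟨k, i, hki, z, hz, hz0, φ', hφ'0, hφ', hT'⟩ :=
    cross_of_nonpure hD hm h3 hHM' hT1 hψ hnp
  have hF := Cfsg.Agent.Lib.Helper20.C2Leaf.full_of_cross hD hm hHM' hki hz hz0 hφ'0 hφ' hT'
  have hall := Cfsg.Agent.Lib.Helper29.C2Leaf.full_all_of hD hHM'
    (fun a b hab => Cfsg.Agent.Lib.Helper23.C2Leaf.exists_swap hD a b hab) hki hF
  have hTM := Cfsg.Agent.Lib.Helper20.C2Leaf.all_TM_of_full hD hHM' hall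
  exact le_antisymm hMS (le_of_all_TM (by omega) hTM)

end Cfsg.Agent.Lib.Helper18.C2Leaf
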