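import Mathlib
import Cfsg.Prelude.Def_ClassicalGeometry
import Cfsg.Prelude.Def_GeometricClasses
import Cfsg.Agent.Lib.Helper18.T23.H2.SOTDefs
import Cfsg.Agent.Lib.Helper18.T23.H2.SOTGDefs
import Cfsg.Agent.Lib.Helper18.T23.H27.SOTLADefs
import Cfsg.Agent.Lib.Helper18.T23.H27.SOTLAMaincore
import Cfsg.Agent.Lib.Helper18.T23.H27.SOTLAFCcore
import Cfsg.Agent.Lib.Helper18.T23.H27.SOTLAU5
import Cfsg.Agent.Lib.Helper18.T23.H22.SOTLAFCA
import Cfsg.Agent.Lib.Helper18.T23.H1.SOTLAR1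

/-!
S5804 conjunct (7) (`Sp_2 ⊗ O_3 < Sp_6(q)`): the local lemmas (L1), (L2) at `a = 2`
(notes/S5804_C4_plan.md §1): (R1+) and `UA_mem_KG` are vacuous / one-liners for `a = 2`.
-/

set_option autoImplicit false
set_option linter.unusedSectionVars false
set_option linter.unusedVariables false

namespace Cfsg.Agent.Lib.Helper18.C4Local
open Matrix Module
open Cfsg.Agent.Lib.Helper25.Tens Cfsg.Agent.Lib.Helper25.SpT Cfsg.Agent.Lib.Helper19.OSub
open Cfsg.Agent.Lib.Helper18.T23.H2.SOT Cfsg.Agent.Lib.Helper18.T23.H27.SOTLA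
open Cfsg.Agent.Lib.Helper18.T23.H27.SOTLALeaf
open scoped Kronecker

variable {F : Type*} [Field F] [Fintype F] {b : ℕ} {G : Matrix (Fin b) (Fin b) F}
  {M : Subgroup (GL (Idx 2 b) F)}

lemma fin2_cases {o o' : Fin 2} (ho : o.val = 0) (ho' : o'.val = 1) (i : Fin 2) : i = o ∨ i = o' := by
  rcases Nat.lt_or_ge i.val 1 with h | h
  · left; apply Fin.ext; omega
  · right; apply Fin.ext; have := i.isLt; omega

lemma mid_eq_zero {o o' : Fin 2} (ho : o.val = 0) (ho' : o'.val = 1)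
    {θ : Fin 2 → Matrix (Fin b) (Fin b) F} (hθ : Mid o o' θ) : θ = 0 := by
  funext i
  rcases fin2_cases ho ho' i with rfl | rfl
  · exact hθ.1
  · exact hθ.2

/-- (R1+) at `a = 2` -/
theorem R1p_two {o o' : Fin 2} (ho : o.val = 0) (ho' : o'.val = 1)
    (hR1 : ∀ σ : Matrix (Fin b) (Fin b) F, InM M (uMat o o' 0 0 σ) → IsScal σ)
    (θ ρ : Fin 2 → Matrix (Fin b) (Fin b) F) (Ξ : Matrix (Fin b) (Fin b) F)
    (hθ : Mid o o' θ) (hρ : Mid o o' ρ) (hM : InM M (uMat o o' θ ρ Ξ)) :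
    (∀ i, IsScal (θ i)) ∧ (∀ j, IsScal (ρ j)) ∧ IsScal Ξ := by
  have h1 := mid_eq_zero ho ho' hθ
  have h2 := mid_eq_zero ho ho' hρ
  subst h1 h2
  exact ⟨fun i => isScal_zero, fun j => isScal_zero, hR1 Ξ hM⟩

/-- `UA_mem_KG` at `a = 2` -/
theorem UA_mem_KG_two (ea : Even 2) {o o' : Fin 2} (ho : o.val = 0) (ho' : o'.val = 1)
    (hR1 : ∀ σ : Matrix (Fin b) (Fin b) F, InM M (uMat o o' 0 0 σ) → IsScal σ)
    {g : GL (Idx 2 b) F} (hg : g ∈ M) (hU : UA o o' (g : Matrix (Idx 2 b) (Idx 2 b) F)) :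
    g ∈ KG 2 b F := by
  have hoo' : o ≠ o' := fun h => by rw [h] at ho; omega
  obtain ⟨hU1, hU2, hU3⟩ := hU
  have hval : (g : Matrix (Idx 2 b) (Idx 2 b) F) =
      uMat o o' 0 0 (ablk (g : Matrix (Idx 2 b) (Idx 2 b) F) o o') := by
    apply ext_ablk
    intro i j
    rw [ablk_uMat_gen]
    rcases fin2_cases ho ho' i with rfl | rfl <;> rcases fin2_cases ho ho' j with rfl | rfl
    · rw [hU2]; simp [hoo']
    · simp [hoo']
    · rw [hU1 _ _ hoo'.symm hoo']; simp [hoo', hoo'.symm]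
    · rw [hU3]; simp [hoo', hoo'.symm]
  obtain ⟨c, hc⟩ := hR1 _ ⟨g, hg, hval⟩
  have hgk : g = kA (Pi.single o 1) (-c) := by
    apply Units.ext
    rw [hval, kA_single_eq ea ho ho', hc, neg_neg]
  rw [hgk]
  exact kA_mem_KG _ _

end Cfsg.Agent.Lib.Helper18.C4Local
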