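import Mathlib
import Cfsg.Prelude.Def_ClassicalGeometry
import Cfsg.Prelude.Def_GeometricClasses
import Cfsg.Agent.Lib.Helper18.T23.H2.SOTDefs
import Cfsg.Agent.Lib.Helper18.T23.H1.SOTTools

/-!
S5804 conjunct (7), leaf N5 core: a similitude `B` of a nondegenerate symmetric form on `F³` which is `1`
on a subspace `W` (`0 ≠ W ≠ F³`) and `μ⁻¹` modulo `W` forces `μ² = 1`.
-/

set_option autoImplicit false
set_option linter.unusedSectionVars false
set_option linter.unusedVariables false

namespace Cfsg.Agent.Lib.Helper18.C4N5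
open Matrix Module
open Cfsg.Agent.Lib.Helper18.T23.H2.SOT
open Cfsg.Agent.Lib.Helper18.T23.H1.SOTLeaf

variable {F : Type*} [Field F]

theorem core3 {G : Matrix (Fin 3) (Fin 3) F} (hG : Gᵀ = G) (hnd : G.det ≠ 0) (h2 : (2 : F) ≠ 0)
    (W : Submodule F (Fin 3 → F)) (hW0 : W ≠ ⊥) (hWt : W ≠ ⊤) (B : Matrix (Fin 3) (Fin 3) F)
    (ν μ : F) (hsim : ∀ y y' : Fin 3 → F, fB G (B *ᵥ y) (B *ᵥ y') = ν * fB G y y')
    (hfix : ∀ y ∈ W, B *ᵥ y = y) (hmod : ∀ y : Fin 3 → F, B *ᵥ y - μ⁻¹ • y ∈ W)
    (hμ0 : μ ≠ 0) (hμ : μ ^ 2 ≠ 1) : False := by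
  classical
  have hμ1 : μ ≠ 1 := fun h => hμ (by rw [h]; ring)
  have hμi1 : μ⁻¹ ≠ 1 := fun h => hμ1 (by rw [← inv_inv μ, h, inv_one])
  have hμi2 : μ⁻¹ * μ⁻¹ ≠ 1 := by
    intro h
    apply hμ
    have : μ ^ 2 * (μ⁻¹ * μ⁻¹) = 1 := by field_simp
    rw [h, mul_one] at this
    exact this
  -- the bilinear form
  set Bf : LinearMap.BilinForm F (Fin 3 → F) := Matrix.toBilin' G with hBf
  have hBfa : ∀ y y', Bf y y' = fB G y y' := by
    intro y y'
    rw [hBf, Matrix.toBilin'_apply']
    rfl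
  have hBnd : Bf.Nondegenerate := LinearMap.BilinForm.nondegenerate_toBilin'_iff_det_ne_zero.mpr hnd
  have hcomm : ∀ y y', fB G y y' = fB G y' y := fB_comm G hG
  -- the key relation
  have key : ∀ z ∈ W, ∀ y : Fin 3 → F, (ν - μ⁻¹) * fB G z y = fB G z (B *ᵥ y - μ⁻¹ • y) := by
    intro z hz y
    have h1 := hsim z y
    rw [hfix z hz] at h1
    have e : fB G z (B *ᵥ y - μ⁻¹ • y) = fB G z (B *ᵥ y) - μ⁻¹ * fB G z y := by
      have e1 : B *ᵥ y = (B *ᵥ y - μ⁻¹ • y) + μ⁻¹ • y := by abel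
      have e2 := fB_add_right G z (B *ᵥ y - μ⁻¹ • y) (μ⁻¹ • y)
      rw [← e1, fB_smul_right] at e2
      linear_combination -e2
    rw [e, h1]
    ring
  -- the orthogonal complement
  set C : Submodule F (Fin 3 → F) := Bf.orthogonal W with hC
  have hCmem : ∀ c, c ∈ C ↔ ∀ z ∈ W, fB G z c = 0 := by
    intro c
    rw [hC, LinearMap.BilinForm.mem_orthogonal_iff]
    constructor
    · intro h z hz
      have := h z hz
      rwa [hBfa] at this
    · intro h z hz
      rw [hBfa]
      exact h z hz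
  have hCfin : finrank F C = 3 - finrank F W := by
    rw [hC, LinearMap.BilinForm.finrank_orthogonal hBnd]
    simp
  have hWlt : finrank F W < 3 := by
    have := Submodule.finrank_lt hWt
    simpa using this
  have hWpos : 0 < finrank F W := by
    rw [Module.finrank_pos_iff_exists_ne_zero]
    obtain ⟨z, hz, hz0⟩ := (Submodule.ne_bot_iff W).1 hW0
    exact ⟨⟨z, hz⟩, fun h => hz0 (by simpa using congrArg Subtype.val h)⟩
  -- a nonzero vector of `C`
  obtain ⟨c₀, hc₀C, hc₀0⟩ : ∃ c₀ ∈ C, c₀ ≠ 0 := by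
    have hpos : 0 < finrank F C := by omega
    rw [Module.finrank_pos_iff_exists_ne_zero] at hpos
    obtain ⟨⟨c, hc⟩, hc0⟩ := hpos
    exact ⟨c, hc, fun h => hc0 (by ext1; exact h)⟩
  by_cases hν : ν = 1
  · -- `ν = 1`
    subst hν
    have hdisj : ∀ z ∈ W, z ∈ C → z = 0 := by
      intro z hz hzC
      apply eq_zero_of_fB hnd
      intro y
      have h1 := key z hz y
      have h3 : fB G z (B *ᵥ y - μ⁻¹ • y) = 0 := by
        rw [hcomm]
        exact (hCmem z).1 hzC _ (hmod y)
      rw [h3] at h1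
      rcases mul_eq_zero.1 h1 with h4 | h4
      · exact absurd (by linear_combination -h4) hμi1
      · rw [hcomm]; exact h4
    have hBc : ∀ c ∈ C, B *ᵥ c = μ⁻¹ • c := by
      intro c hc
      have hk : B *ᵥ c - μ⁻¹ • c ∈ C := by
        rw [hCmem]
        intro z hz
        rw [← key z hz c, (hCmem c).1 hc z hz, mul_zero]
      have := hdisj _ (hmod c) hk
      exact sub_eq_zero.1 this
    apply hc₀0
    apply eq_zero_of_fB hnd
    intro y
    have h1 := hsim c₀ y
    rw [hBc c₀ hc₀C, one_mul, fB_smul_left] at h1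
    have h3 : fB G c₀ (B *ᵥ y) = μ⁻¹ * fB G c₀ y := by
      have : B *ᵥ y = μ⁻¹ • y + (B *ᵥ y - μ⁻¹ • y) := by abel
      rw [this, fB_add_right, fB_smul_right, hcomm c₀ (B *ᵥ y - μ⁻¹ • y),
        (hCmem c₀).1 hc₀C _ (hmod y), add_zero]
    rw [h3] at h1
    have h4 : (μ⁻¹ * μ⁻¹ - 1) * fB G c₀ y = 0 := by linear_combination h1
    rcases mul_eq_zero.1 h4 with h5 | h5
    · exact absurd (by linear_combination h5) hμi2
    · rw [hcomm]; exact h5
  · -- `ν ≠ 1`
    have hts : ∀ y ∈ W, ∀ y' ∈ W, fB G y y' = 0 := by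
      intro y hy y' hy'
      have h1 := hsim y y'
      rw [hfix y hy, hfix y' hy'] at h1
      have h4 : (ν - 1) * fB G y y' = 0 := by linear_combination -h1
      rcases mul_eq_zero.1 h4 with h5 | h5
      · exact absurd (by linear_combination h5) hν
      · exact h5
    have hνμ : ν = μ⁻¹ := by
      obtain ⟨z, hz, hz0⟩ := (Submodule.ne_bot_iff W).1 hW0
      by_contra hne
      apply hz0
      apply eq_zero_of_fB hnd
      intro y
      have h1 := key z hz y
      rw [hts z hz _ (hmod y)] at h1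
      rcases mul_eq_zero.1 h1 with h4 | h4
      · exact absurd (by linear_combination h4) hne
      · rw [hcomm]; exact h4
    have hWC : W ≤ C := by
      intro z hz
      rw [hCmem]
      intro z' hz'
      exact hts z' hz' z hz
    have hCsing : ∀ c ∈ C, fB G c c = 0 := by
      intro c hc
      have h1 := hsim c c
      have hk := hmod c
      have e : B *ᵥ c = μ⁻¹ • c + (B *ᵥ c - μ⁻¹ • c) := by abel
      have h3 : fB G (B *ᵥ c) (B *ᵥ c) = μ⁻¹ * μ⁻¹ * fB G c c := by
        have e3 : fB G (B *ᵥ c - μ⁻¹ • c) c = 0 := (hCmem c).1 hc _ hk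
        have e4 : fB G c (B *ᵥ c - μ⁻¹ • c) = 0 := by rw [hcomm]; exact e3
        rw [e, fB_add_left, fB_add_right, fB_add_right, fB_smul_left, fB_smul_right, fB_smul_left,
          fB_smul_right, hts _ hk _ hk, e3, e4]
        ring
      rw [h3, hνμ] at h1
      have h4 : μ⁻¹ * (μ⁻¹ - 1) * fB G c c = 0 := by linear_combination h1
      rcases mul_eq_zero.1 h4 with h5 | h5
      · rcases mul_eq_zero.1 h5 with h6 | h6
        · exact absurd h6 (inv_ne_zero hμ0)
        · exact absurd (by linear_combination h6) hμi1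
      · exact h5
    have hCts : ∀ c ∈ C, ∀ c' ∈ C, fB G c c' = 0 := by
      intro c hc c' hc'
      have h1 := hCsing (c + c') (C.add_mem hc hc')
      rw [fB_add_left, fB_add_right, fB_add_right, hCsing c hc, hCsing c' hc', hcomm c' c] at h1
      have h4 : 2 * fB G c c' = 0 := by linear_combination h1
      rcases mul_eq_zero.1 h4 with h5 | h5
      · exact absurd h5 h2
      · exact h5
    have hCC : C ≤ Bf.orthogonal C := by
      intro c hc
      rw [LinearMap.BilinForm.mem_orthogonal_iff]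
      intro c' hc'
      rw [hBfa]
      exact hCts c' hc' c hc
    have h5 := Submodule.finrank_mono hCC
    have h6 := Submodule.finrank_mono hWC
    have h7 := LinearMap.BilinForm.finrank_orthogonal hBnd C
    simp only [Module.finrank_fintype_fun_eq_card, Fintype.card_fin] at h7
    omega

end Cfsg.Agent.Lib.Helper18.C4N5
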