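import Mathlib
import Cfsg.Prelude.Def_ClassicalGeometry
import Cfsg.Prelude.Def_GeometricClasses
import Cfsg.Agent.Lib.Helper18.C4N5core
import Cfsg.Agent.Lib.Helper18.T23.H2.SOTDefs
import Cfsg.Agent.Lib.Helper18.T23.H2.SOTGDefs
import Cfsg.Agent.Lib.Helper18.T23.H1.SOTTools
import Cfsg.Agent.Lib.Helper18.T23.H4.SOTS

/-!
S5804 conjunct (7), leaf N5 `nonopp_false` (exact signature of notes/S5804_C4_leaves.lean).
-/

set_option autoImplicit false
set_option linter.unusedSectionVars false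
set_option linter.unusedVariables false

namespace Cfsg.Agent.Lib.Helper18.C4N5
open Matrix Module
open Cfsg.Agent.Lib.Helper25.Tens Cfsg.Agent.Lib.Helper25.SpT Cfsg.Agent.Lib.Helper19.OSub
open Cfsg.Agent.Lib.Helper18.T23.H2.SOT
open Cfsg.Agent.Lib.Helper18.T23.H1.SOTLeaf
open scoped Kronecker

variable {F : Type*} [Field F] [Fintype F]

theorem nonopp_false {G : Matrix (Fin 3) (Fin 3) F} (h : Ctx 2 3 G) {o o' : Fin 2}
    (ho : o.val = 0) (ho' : o'.val = 1) (K : Submodule F (Idx 2 3 → F))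
    (hKR : K ≤ Rs (Pi.single o 1)) (hK0 : K ≠ ⊥) (hKne : K ≠ Rs (Pi.single o 1))
    (μ : F) (hμ0 : μ ≠ 0) (hμ : μ ^ 2 ≠ 1) (T : GL (Idx 2 3) F) (hTK : T ∈ KG 2 3 F)
    (hTS : T ∈ SpV G) (hfix : ∀ v ∈ K, mv T v = v)
    (hb : ∀ y : Fin 3 → F, mv T (pt (Pi.single o 1) y) - μ⁻¹ • pt (Pi.single o 1) y ∈ K) :
    False := by
  classical
  have hoo' : o ≠ o' := fun h => by rw [h] at ho; omega
  have hcases : ∀ i : Fin 2, i = o ∨ i = o' := by
    intro i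
    rcases Nat.lt_or_ge i.val 1 with h | h
    · left; apply Fin.ext; omega
    · right; apply Fin.ext; have := i.isLt; omega
  obtain ⟨x, hxdef⟩ : ∃ x : Fin 2 → F, x = Pi.single o 1 := ⟨_, rfl⟩
  have hx : x ≠ 0 := by
    intro h0
    have := congrFun h0 o
    rw [hxdef, Pi.single_eq_same, Pi.zero_apply] at this
    exact one_ne_zero this
  rw [← hxdef] at hKR hKne hb
  obtain ⟨α, β, hαβ⟩ := hTK
  have hTk : T = kel α β := Units.ext hαβ
  subst hTk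
  -- `α x = λ x`
  obtain ⟨y₁, hy₁⟩ : ∃ y₁ : Fin 3 → F, (β : Matrix (Fin 3) (Fin 3) F) *ᵥ y₁ ≠ 0 := by
    refine ⟨((β⁻¹ : GL (Fin 3) F) : Matrix (Fin 3) (Fin 3) F) *ᵥ Pi.single 0 1, ?_⟩
    rw [Matrix.mulVec_mulVec, ← Units.val_mul, mul_inv_cancel, Units.val_one, Matrix.one_mulVec]
    intro h0
    have := congrFun h0 0
    simp at this
  have hαo' : ((α : Matrix (Fin 2) (Fin 2) F) *ᵥ x) o' = 0 := by
    have h1 : mv (kel α β : GL (Idx 2 3) F) (pt x y₁) ∈ Rs x := by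
      have := Submodule.add_mem _ (hKR (hb y₁)) (Submodule.smul_mem _ μ⁻¹ (pt_mem_Rs x y₁))
      rwa [sub_add_cancel] at this
    obtain ⟨y'', hy''⟩ := mem_Rs.1 h1
    rw [Cfsg.Agent.Lib.Helper18.T23.H4.SOTLeaf.mv_kel_pt] at hy''
    obtain ⟨l, hl⟩ : ∃ l, ((β : Matrix (Fin 3) (Fin 3) F) *ᵥ y₁) l ≠ 0 := by
      by_contra hcon
      push_neg at hcon
      exact hy₁ (funext hcon)
    have h3 := congrFun hy'' (o', l)
    simp only [pt] at h3
    rw [hxdef, Pi.single_eq_of_ne hoo'.symm, zero_mul] at h3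
    rcases mul_eq_zero.1 h3.symm with h4 | h4
    · rw [hxdef]; exact h4
    · exact absurd h4 hl
  obtain ⟨lam, hlam⟩ : ∃ lam : F, (α : Matrix (Fin 2) (Fin 2) F) *ᵥ x = lam • x := by
    refine ⟨((α : Matrix (Fin 2) (Fin 2) F) *ᵥ x) o, ?_⟩
    funext i
    rcases hcases i with rfl | rfl
    · rw [hxdef]; simp
    · rw [hαo', hxdef]; simp [hoo'.symm]
  set B : Matrix (Fin 3) (Fin 3) F := lam • (β : Matrix (Fin 3) (Fin 3) F) with hB
  have hmvT : ∀ y : Fin 3 → F, mv (kel α β : GL (Idx 2 3) F) (pt x y) = pt x (B *ᵥ y) := by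
    intro y
    rw [Cfsg.Agent.Lib.Helper18.T23.H4.SOTLeaf.mv_kel_pt, hlam, hB, Matrix.smul_mulVec,
      pt_smul_left, pt_smul_right]
  obtain ⟨ν', hν', -, hβsim⟩ := Cfsg.Agent.Lib.Helper18.T23.H4.SOTLeaf.sim_of_kel_mem h α β hTS
  set W : Submodule F (Fin 3 → F) := K.comap (ptR x) with hW
  have hWmem : ∀ y, y ∈ W ↔ pt x y ∈ K := fun y => Iff.rfl
  refine core3 h.symm h.nd h.two W ?_ ?_ B (lam * lam * ν'⁻¹) μ ?_ ?_ ?_ hμ0 hμ
  · intro hW0
    apply hK0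
    rw [Submodule.eq_bot_iff]
    intro v hv
    obtain ⟨y, rfl⟩ := mem_Rs.1 (hKR hv)
    have : y ∈ W := hv
    rw [hW0, Submodule.mem_bot] at this
    rw [this, pt_zero_right]
  · intro hWt
    apply hKne
    apply le_antisymm hKR
    intro v hv
    obtain ⟨y, rfl⟩ := mem_Rs.1 hv
    have : y ∈ W := by rw [hWt]; exact Submodule.mem_top
    exact this
  · intro y y'
    rw [hB, Matrix.smul_mulVec, Matrix.smul_mulVec, fB_smul_left, fB_smul_right, hβsim]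
    ring
  · intro y hy
    have h1 := hfix (pt x y) hy
    rw [hmvT] at h1
    exact ptR_injective hx h1
  · intro y
    rw [hWmem]
    have e : pt x (B *ᵥ y - μ⁻¹ • y) = pt x (B *ᵥ y) - μ⁻¹ • pt x y := by
      have e1 : B *ᵥ y = (B *ᵥ y - μ⁻¹ • y) + μ⁻¹ • y := by abel
      have e2 := pt_add_right x (B *ᵥ y - μ⁻¹ • y) (μ⁻¹ • y)
      rw [← e1, pt_smul_right] at e2
      rw [e2]; abel
    rw [e, ← hmvT]
    exact hb y

end Cfsg.Agent.Lib.Helper18.C4N5
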