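import Mathlib
import Cfsg.Prelude.Def_ClassicalGeometry
import Cfsg.Prelude.Def_GeometricClasses
import Cfsg.Agent.Lib.Helper18.C4Local
import Cfsg.Agent.Lib.Helper18.C4N5
import Cfsg.Agent.Lib.Helper23.C4N3
import Cfsg.Agent.Lib.Helper9.C4N4
import Cfsg.Agent.Lib.Helper1.C4N6
import Cfsg.Agent.Lib.Helper18.T23.H1.SOTTools
import Cfsg.Agent.Lib.Helper18.T23.H1.SOTA2
import Cfsg.Agent.Lib.Helper18.T23.H9.SOTA1
import Cfsg.Agent.Lib.Helper18.T23.H9.SOTX1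
import Cfsg.Agent.Lib.Helper18.T23.H4.SOTS
import Cfsg.Agent.Lib.Helper18.T23.H13.SOTGMain
import Cfsg.Agent.Lib.Helper18.T23.H7.SOTT
import Cfsg.Agent.Lib.Helper7.SpTN

/-!
S5804 conjunct (7): `Sp_2(q) ⊗ O_3(q)` is maximal in `Sp_6(q)`, `q` odd, `q ≥ 5`: the assembly.
-/

set_option autoImplicit false
set_option linter.unusedSectionVars false
set_option linter.unusedVariables false

namespace Cfsg.Agent.Lib.Helper18.C4Main
open Matrix Module
open Cfsg.Agent.Lib.Helper25.Tens Cfsg.Agent.Lib.Helper25.SpT Cfsg.Agent.Lib.Helper19.OSub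
open Cfsg.Agent.Lib.Helper18.T23.H2.SOT Cfsg.Agent.Lib.Helper18.T23.H27.SOTLA
open Cfsg.Agent.Lib.Helper18.T23.H1.SOTLeaf
open Cfsg.Agent.Lib.Helper18.T23.H9.SOTLeaf (Lx_action NA_mulVec_eq_zero_of_perp mv_inv_mem_perpV)
open Cfsg.Agent.Lib.Helper18.C4Local
open scoped Kronecker

section general
variable {F : Type*} [Field F] [Fintype F] {a b : ℕ} {G : Matrix (Fin b) (Fin b) F}
  {M : Subgroup (GL (Idx a b) F)}

theorem kA_mem' (h : MCtx a b G M) (x : Fin a → F) (c : F) : (kA x c : GL (Idx a b) F) ∈ M :=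
  h.le ⟨kA_mem_KG x c, Cfsg.Agent.Lib.Helper18.T23.H9.SOTLeaf.kA_mem_SpV G x c⟩

theorem Lx_le' (h : MCtx a b G M) (x x' : Fin a → F) (g : GL (Idx a b) F) (hg : g ∈ M) :
    Lx x g x' ≤ M := by
  unfold Lx XA XAc
  rw [sup_le_iff]
  constructor
  · rw [Subgroup.closure_le]
    rintro t ⟨c, rfl⟩
    exact kA_mem' h x c
  · rw [Subgroup.closure_le]
    rintro t ⟨c, rfl⟩
    exact M.mul_mem (M.mul_mem hg (kA_mem' h x' c)) (M.inv_mem hg)

/-- the concrete TWIST LEMMA -/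
theorem twist (h : MCtx a b G M) (x x' : Fin a → F) (g : GL (Idx a b) F) (hg : g ∈ M)
    (x₀ : GL (Idx a b) F) (hx₀ : x₀ ∈ Lx x g x')
    (hmap : ∀ y : Fin b → F, mv x₀ (pt x y) ∈ Rpp g x') (μ : F) (hμ : μ ≠ 0) :
    ∃ T ∈ Lx x g x', (∀ v ∈ Kp x g x', mv T v = v) ∧
      (∀ y : Fin b → F, mv T (pt x y) - μ⁻¹ • pt x y ∈ Kp x g x') ∧
      ∀ v ∈ Rpp g x', ∀ p ∈ Rs x, ∀ p'' ∈ Rpp g x', mv x₀ v = p + p'' →
        mv x₀ (mv T v) - (μ • p + p'') ∈ Kp x g x' := by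
  have hgS : g ∈ SpV G := h.le_sp hg
  have hRppt : Rpp g x' ≤ perpV G (Rpp g x') := Rpp_le_perpV hgS x'
  have hRst : Rs (b := b) x ≤ perpV G (Rs x) := Rs_le_perpV G x
  obtain ⟨N'', hN''⟩ : ∃ N'' : Matrix (Idx a b) (Idx a b) F,
      N'' = (g : Matrix (Idx a b) (Idx a b) F) * NA x' *
        ((g⁻¹ : GL (Idx a b) F) : Matrix (Idx a b) (Idx a b) F) := ⟨_, rfl⟩
  have hN''v : ∀ v, N'' *ᵥ v = mv g ((NA x' : Matrix (Idx a b) (Idx a b) F) *ᵥ mv g⁻¹ v) := by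
    intro v
    rw [hN'']
    unfold mv
    rw [Matrix.mulVec_mulVec, Matrix.mulVec_mulVec]
  have hclos : Lx x g x' = Subgroup.closure
      ({t | ∃ c, t = (fun c => (kA x c : GL (Idx a b) F)) c} ∪
        {t | ∃ c, t = (fun c => g * (kA x' c : GL (Idx a b) F) * g⁻¹) c}) := by
    rw [Subgroup.closure_union]
    rfl
  obtain ⟨T, hT, hT1, hT2, hT3⟩ := Cfsg.Agent.Lib.Helper9.C4Leaf.twist_abstract
    (NA x) N'' (Rs x) (Rpp g x') (Kp x g x') (NA_mulVec_mem_Rs x)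
    (by
      intro v
      rw [hN''v]
      exact mv_mem_gim (NA_mulVec_mem_Rs x' _))
    (by
      intro v hv
      exact NA_mulVec_eq_zero h.symm h.nd x (hRst hv))
    (by
      intro v hv
      have hvp : v ∈ perpV G (Rpp g x') := hRppt hv
      have : mv g⁻¹ v ∈ perpV G (Rs x') := by
        rw [mem_perpV]
        intro w hw
        rw [← fV_mv hgS, mv_mv_inv]
        exact hvp _ (mv_mem_gim hw)
      rw [hN''v, NA_mulVec_eq_zero h.symm h.nd x' this, mv_zero])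
    inf_le_left inf_le_right le_rfl
    (fun c => (kA x c : GL (Idx a b) F)) (fun c => g * (kA x' c : GL (Idx a b) F) * g⁻¹)
    (fun c => kA_val x c)
    (by
      intro c
      rw [Units.val_mul, Units.val_mul, kA_val, hN'', Matrix.mul_add, Matrix.add_mul,
        Matrix.mul_one, ← Units.val_mul, mul_inv_cancel, Units.val_one, Matrix.mul_smul,
        Matrix.smul_mul])
    x₀ (by rw [← hclos]; exact hx₀)
    (by
      intro v hv
      obtain ⟨y, rfl⟩ := mem_Rs.1 hv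
      exact hmap y) μ hμ
  exact ⟨T, by rw [hclos]; exact hT, hT1, fun y => hT2 _ (pt_mem_Rs x y), hT3⟩

end general

section two
variable {F : Type*} [Field F] [Fintype F] {b : ℕ} {G : Matrix (Fin b) (Fin b) F}
  {M : Subgroup (GL (Idx 2 b) F)}

/-- (R2) = `L1` at `e_o`, `a = 2` -/
theorem L1_at_two (h : MCtx 2 b G M) (hno : ¬ HasTv G M) {o o' : Fin 2} (ho : o.val = 0)
    (ho' : o'.val = 1) {g : GL (Idx 2 b) F} (hgM : g ∈ M)
    (hg : ∀ y : Fin b → F, ∃ y' : Fin b → F, mv g (pt (Pi.single o 1) y) = pt (Pi.single o 1) y') :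
    g ∈ KG 2 b F :=
  Cfsg.Agent.Lib.Helper18.T23.H27.SOTLALeaf.L1_at_of h ho ho'
    (fun σ hσ => Cfsg.Agent.Lib.Helper18.T23.H1.SOTLALeaf.R1 h hno ho ho' hσ)
    (fun θ ρ Ξ hθ hρ hM => R1p_two ho ho'
      (fun σ hσ => Cfsg.Agent.Lib.Helper18.T23.H1.SOTLALeaf.R1 h hno ho ho' hσ) θ ρ Ξ hθ hρ hM)
    (fun {g} hg hU => UA_mem_KG_two h.ea ho ho'
      (fun σ hσ => Cfsg.Agent.Lib.Helper18.T23.H1.SOTLALeaf.R1 h hno ho ho' hσ) hg hU)
    hgM hg

theorem local_L1_two (h : MCtx 2 b G M) (hno : ¬ HasTv G M) : L1 M :=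
  Cfsg.Agent.Lib.Helper18.T23.H27.SOTLALeaf.local_L1_of h le_rfl
    (fun {g} hgM hg => L1_at_two h hno (o := (⟨0, by omega⟩ : Fin 2)) (o' := (⟨1, by omega⟩ : Fin 2))
      rfl rfl hgM hg)

end two

section twothree
variable {F : Type*} [Field F] [Fintype F] {G : Matrix (Fin 3) (Fin 3) F}
  {M : Subgroup (GL (Idx 2 3) F)}

/-- (FC) = `L2` at `e_o`, `(a,b) = (2,3)` -/
theorem L2_at_two (h : MCtx 2 3 G M) (hno : ¬ HasTv G M) {o o' : Fin 2} (ho : o.val = 0)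
    (ho' : o'.val = 1) {m : GL (Idx 2 3) F} (hm : m ∈ M)
    (hk : ∀ c : F, m⁻¹ * (kA (Pi.single o 1) c : GL (Idx 2 3) F) * m ∈ KG 2 3 F) :
    m ∈ KG 2 3 F :=
  Cfsg.Agent.Lib.Helper18.T23.H27.SOTLALeaf.L2_at_core h ho ho'
    (fun {m} hm α₂ hk => Cfsg.Agent.Lib.Helper18.T23.H22.SOTLALeaf.fc_caseA h ho ho'
      (fun g hgM hg => L1_at_two h hno ho ho' hgM hg) hm α₂ hk)
    (fun {m} hm β₂ hk => Cfsg.Agent.Lib.Helper23.C4Leaf.fc_caseB_two_three h.toCtx ho ho' m β₂ hk)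
    hm hk

theorem local_L2_two (h : MCtx 2 3 G M) (hno : ¬ HasTv G M) : L2 M :=
  Cfsg.Agent.Lib.Helper18.T23.H27.SOTLALeaf.local_L2_of h le_rfl
    (fun {m} hm hk => L2_at_two h hno (o := (⟨0, by omega⟩ : Fin 2)) (o' := (⟨1, by omega⟩ : Fin 2))
      rfl rfl hm hk)

/-- (GA) at `(a,b) = (2,3)`: the global argument with the torus trick -/
theorem globalA2 (h : MCtx 2 3 G M) (hq : ∃ μ : F, μ ≠ 0 ∧ μ ^ 2 ≠ 1) (h1 : L1 M) (h2 : L2 M) :
    M ≤ KG 2 3 F := by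
  intro g hg
  by_contra hgK
  obtain ⟨o, ho⟩ : ∃ o : Fin 2, o.val = 0 := ⟨⟨0, by omega⟩, rfl⟩
  obtain ⟨o', ho'⟩ : ∃ o' : Fin 2, o'.val = 1 := ⟨⟨1, by omega⟩, rfl⟩
  obtain ⟨x, hxdef⟩ : ∃ x : Fin 2 → F, x = Pi.single o 1 := ⟨_, rfl⟩
  have hx : x ≠ 0 := by
    intro h0
    have := congrFun h0 o
    rw [hxdef, Pi.single_eq_same, Pi.zero_apply] at this
    exact one_ne_zero this
  obtain ⟨x₀, hx₀L, hx₀K, hmap⟩ := exists_x0_maps h h1 h2 x x hx hx g hg hgK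
  have hgS : g ∈ SpV G := h.le_sp hg
  have hT : ∀ μ : F, μ ≠ 0 → ∃ T : GL (Idx 2 3) F, T ∈ KG 2 3 F ∧ T ∈ SpV G ∧
      (∀ v ∈ Kp x g x, mv T v = v) ∧
      (∀ y : Fin 3 → F, mv T (pt x y) - μ⁻¹ • pt x y ∈ Kp x g x) ∧
      (∀ v ∈ Rpp g x, ∀ p ∈ Rs x, ∀ p'' ∈ Rpp g x, mv x₀ v = p + p'' →
        mv x₀ (mv T v) - (μ • p + p'') ∈ Kp x g x) := by
    intro μ hμ
    obtain ⟨T, hTL, hT1, hT2, hT3⟩ := twist h x x g hg x₀ hx₀L hmap μ hμ
    have hTM := Lx_le' h x x g hg hTL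
    refine ⟨T, ?_, h.le_sp hTM, hT1, hT2, hT3⟩
    apply h1 x hx T hTM
    intro y
    have h3 := (hT2 y).1
    obtain ⟨yk, hyk⟩ := mem_Rs.1 h3
    refine ⟨μ⁻¹ • y + yk, ?_⟩
    rw [pt_add_right, pt_smul_right, hyk]
    abel
  by_cases hK0 : Kp x g x = ⊥
  · -- the opposite case
    obtain ⟨μ₀, hμ0, hμ⟩ := hq
    obtain ⟨T₁, hT₁K, hT₁S, -, hb₁, hc₁⟩ := hT (-1) (neg_ne_zero.2 one_ne_zero)
    obtain ⟨T₂, hT₂K, hT₂S, -, hb₂, hc₂⟩ := hT μ₀ hμ0
    rw [hK0] at hb₁ hc₁ hb₂ hc₂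
    have hdec : ∀ v : Idx 2 3 → F, ∃ p ∈ Rs x, ∃ p'' ∈ Rpp g x, v = p + p'' := by
      have hsup : Rs x ⊔ Rpp g x = ⊤ := by
        apply Submodule.eq_top_of_finrank_eq
        have e1 := Submodule.finrank_sup_add_finrank_inf_eq (Rs (b := 3) x) (Rpp g x)
        have e2 : Rs x ⊓ Rpp g x = (⊥ : Submodule F (Idx 2 3 → F)) := hK0
        rw [e2, finrank_bot, finrank_Rs hx, finrank_Rpp g hx] at e1
        rw [Module.finrank_fintype_fun_eq_card]
        simp only [Fintype.card_prod, Fintype.card_fin]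
        omega
      intro v
      have hv : v ∈ Rs x ⊔ Rpp g x := by rw [hsup]; exact Submodule.mem_top
      obtain ⟨p, hp, p'', hp'', e⟩ := Submodule.mem_sup.1 hv
      exact ⟨p, hp, p'', hp'', e.symm⟩
    subst hxdef
    obtain ⟨x₂, hx₂, hfib⟩ := Cfsg.Agent.Lib.Helper1.C4Leaf.opp_fibre h.toCtx ho ho' (Rpp g _)
      hdec x₀ μ₀ hμ0 hμ T₁ T₂ hT₁K hT₁S hT₂K hT₂S
      (fun y => by
        have := hb₁ y
        rw [Submodule.mem_bot, sub_eq_zero] at this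
        rw [this, inv_neg, inv_one, neg_smul, one_smul])
      (fun y => by
        have := hb₂ y
        rwa [Submodule.mem_bot, sub_eq_zero] at this)
      (fun v hv p hp p'' hp'' e => by
        have := hc₁ v hv p hp p'' hp'' e
        rw [Submodule.mem_bot, sub_eq_zero] at this
        rw [this, neg_smul, one_smul])
      (fun v hv p hp p'' hp'' e => by
        have := hc₂ v hv p hp p'' hp'' e
        rwa [Submodule.mem_bot, sub_eq_zero] at this)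
    obtain ⟨α, hα, hαx⟩ := Cfsg.Agent.Lib.Helper7.SpTLeaf.sp_trans h.ea o x₂ hx₂
    have hhM : (kel α (1 : GL (Fin 3) F) : GL (Idx 2 3) F) ∈ M :=
      Cfsg.Agent.Lib.Helper18.T23.H11.SOTLALeaf.kel_spT_mem h α hα
    have hhK : (kel α (1 : GL (Fin 3) F) : GL (Idx 2 3) F) ∈ KG 2 3 F := kel_mem_KG α 1
    have hmv : ∀ y : Fin 3 → F, mv (kel α (1 : GL (Fin 3) F) : GL (Idx 2 3) F)
        (pt (Pi.single o 1) y) = pt x₂ y := by
      intro y
      rw [Cfsg.Agent.Lib.Helper18.T23.H4.SOTLeaf.mv_kel_pt, hαx, Units.val_one, Matrix.one_mulVec]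
    have hstab : (kel α (1 : GL (Fin 3) F) : GL (Idx 2 3) F)⁻¹ * g ∈ KG 2 3 F := by
      apply h1 _ hx _ (M.mul_mem (M.inv_mem hhM) hg)
      intro y
      obtain ⟨y', hy'⟩ := hfib _ (mv_mem_gim (pt_mem_Rs (Pi.single o 1) y))
      refine ⟨y', ?_⟩
      rw [mv_mul, hy', ← hmv y', mv_inv_mv]
    apply hgK
    have : g = kel α 1 * ((kel α (1 : GL (Fin 3) F) : GL (Idx 2 3) F)⁻¹ * g) := by group
    rw [this]
    exact (KG 2 3 F).mul_mem hhK hstab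
  · by_cases hKR : Kp x g x = Rs x
    · -- `g` stabilises `R_x`
      apply hgK
      apply h1 x hx g hg
      intro y
      have hle : Rs x ≤ Rpp g x := by
        rw [← hKR]
        exact inf_le_right
      have heq : Rs x = Rpp g x := by
        apply Submodule.eq_of_le_of_finrank_eq hle
        rw [finrank_Rs hx, finrank_Rpp g hx]
      have hmem : mv g (pt x y) ∈ Rs x := by
        rw [heq]
        exact mv_mem_gim (pt_mem_Rs x y)
      obtain ⟨y', hy'⟩ := mem_Rs.1 hmem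
      exact ⟨y', hy'.symm⟩
    · obtain ⟨μ, hμ0, hμ⟩ := hq
      obtain ⟨T, hTK, hTS, hfix, hb, -⟩ := hT μ hμ0
      subst hxdef
      exact Cfsg.Agent.Lib.Helper18.C4N5.nonopp_false h.toCtx ho ho' (Kp _ g _) inf_le_left hK0
        hKR μ hμ0 hμ T hTK hTS hfix hb

/-- the model theorem at `(a,b) = (2,3)` -/
theorem model_main23 (hq : ∃ μ : F, μ ≠ 0 ∧ μ ^ 2 ≠ 1) (h : MCtx 2 3 G M) :
    M = KG 2 3 F ⊓ SpV G ∨ M = SpV G := by
  by_cases ht : HasTv G M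
  · right
    exact le_antisymm h.le_sp (Cfsg.Agent.Lib.Helper18.T23.H13.SOTGMain.growth h ht)
  · left
    have hK : M ≤ KG 2 3 F := globalA2 h hq (local_L1_two h ht) (local_L2_two h ht)
    exact le_antisymm (le_inf hK h.le_sp) h.le

end twothree

/-- a field with at least `5` elements has `μ ≠ 0` with `μ² ≠ 1` -/
lemma exists_mu {F : Type*} [Field F] [Fintype F] (h5 : 5 ≤ Fintype.card F) :
    ∃ μ : F, μ ≠ 0 ∧ μ ^ 2 ≠ 1 := by
  classical
  by_contra hcon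
  push Not at hcon
  have hsub : (Finset.univ : Finset F) ⊆ {0, 1, -1} := by
    intro μ _
    by_cases h0 : μ = 0
    · simp [h0]
    · have h1 := hcon μ h0
      have h2 : (μ - 1) * (μ + 1) = 0 := by ring_nf; rw [h1]; ring
      rcases mul_eq_zero.1 h2 with h3 | h3
      · have : μ = 1 := by linear_combination h3
        simp [this]
      · have : μ = -1 := by linear_combination h3
        simp [this]
  have := Finset.card_le_card hsub
  rw [Finset.card_univ] at this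
  have h3 : ({0, 1, -1} : Finset F).card ≤ 3 := Finset.card_le_three
  omega

/-- **S5804 conjunct (7)** in its frozen shape -/
theorem tensor_sp2_o3_max {F : Type*} [Field F] [Fintype F] (hodd : Odd (Fintype.card F))
    (h5 : 5 ≤ Fintype.card F) (e : (Fin 3 ⊕ Fin 3) ≃ Fin 2 × Fin 3)
    (P : Matrix.GeneralLinearGroup (Fin 3 ⊕ Fin 3) F)
    (f₁ : (Fin 2 → F) → (Fin 2 → F) → F) (f₂ : (Fin 3 → F) → (Fin 3 → F) → F)
    (hf₁ : Cfsg.Geo.IsSymplecticForm f₁) (hf₂ : Cfsg.Geo.IsSymmetricForm f₂)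
    (hT : Cfsg.Geo.IsTensorFormStructure id (Cfsg.sympForm 3 F) f₁ f₂ e P) :
    Cfsg.Geo.IsMaximalIn (Cfsg.spGL 3 F)
      (Cfsg.Geo.tensorProductSubgroup 2 3 e P ⊓ Cfsg.spGL 3 F) :=
  Cfsg.Agent.Lib.Helper18.T23.H7.SOTLeaf.frozen_of_model 3 (by omega) hodd 2 3 le_rfl
    (fun G M h => model_main23 (exists_mu h5) h) (fun hc => by omega) e P f₁ f₂ hf₁ hf₂ hT


end Cfsg.Agent.Lib.Helper18.C4Main
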