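import Mathlib
import Cfsg.Agent.Lib.Helper18.C4UN5

/-!
S5801 conjunct (8), `q = 3` glue (Q1a / QA): the SHAPE of a non-opposite intersection.

* `nondeg_shape` : a subspace `0 ≠ W ≠ F³` of the standard hermitian 3-space with `W ∩ W^⊥ = 0` is
  `F w` (`w` nonsingular) or `d^⊥` (`d` nonsingular);
* `nonopp_shape` (shape asked by helper8, msg 5018) and `nonopp_shape'` (shape asked by helper26, msg 5019):
  under the hypotheses of `C4UN5.nonopp_struct` (twist `ρ ≠ 1`, e.g. `ρ = -1`),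
  `W = {y | x ⊗ y ∈ K₀}` has this shape (and `ρ² = 1`).
-/

set_option autoImplicit false
set_option linter.unusedSectionVars false
set_option linter.unusedVariables false

namespace Cfsg.Agent.Lib.Helper18.C4UN5
open Matrix Module
open Cfsg.Agent.Lib.Helper25.Tens Cfsg.Agent.Lib.Helper25.TensLeaf
open Cfsg.Agent.Lib.Helper20.UT Cfsg.Agent.Lib.Helper11.T23U
open Cfsg.Agent.Lib.Helper15.HermSub
open scoped Kronecker

variable {F : Type*} [Field F] [Fintype F] {q : ℕ}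

/-- a one-dimensional submodule is spanned by any of its nonzero vectors -/
lemma mem_iff_smul_of_finrank_one {V : Type*} [AddCommGroup V] [Module F V] (U : Submodule F V)
    (hU : finrank F U = 1) {w : V} (hwU : w ∈ U) (hw0 : w ≠ 0) (y : V) :
    y ∈ U ↔ ∃ c : F, y = c • w := by
  constructor
  · intro hy
    have hw0' : (⟨w, hwU⟩ : U) ≠ 0 := fun e => hw0 (congrArg Subtype.val e)
    obtain ⟨c, hc⟩ := (finrank_eq_one_iff_of_nonzero' (⟨w, hwU⟩ : U) hw0').mp hU ⟨y, hy⟩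
    exact ⟨c, (congrArg Subtype.val hc).symm⟩
  · rintro ⟨c, rfl⟩
    exact U.smul_mem c hwU

theorem nondeg_shape (hF : Fintype.card F = q ^ 2) (W : Submodule F (Fin 3 → F)) (hW0 : W ≠ ⊥)
    (hWt : W ≠ ⊤)
    (hnd : ∀ z ∈ W, (∀ z' ∈ W, hv q z z' = 0) → z = 0) :
    (∃ w : Fin 3 → F, hv q w w ≠ 0 ∧ ∀ y, y ∈ W ↔ ∃ c : F, y = c • w) ∨
      (∃ d : Fin 3 → F, hv q d d ≠ 0 ∧ ∀ y, y ∈ W ↔ hv q y d = 0) := by
  classical
  have hh := isHerm_hv (F := F) hF 3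
  have hndV := ndOn_hv (F := F) hF 3
  have hdimC : finrank F (perp hh W) + finrank F W = 3 := by
    have h1 := finrank_inf_perp hh hF ⊤ W hndV le_top
    rw [top_inf_eq, finrank_top, Module.finrank_fin_fun] at h1
    exact h1
  have hWpos : 0 < finrank F W := by
    rw [Nat.pos_iff_ne_zero]
    intro h0
    exact hW0 (Submodule.finrank_eq_zero.mp h0)
  have hWlt : finrank F W < 3 := by
    have := Submodule.finrank_lt hWt
    rwa [Module.finrank_fin_fun] at this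
  have hcase : finrank F W = 1 ∨ finrank F W = 2 := by omega
  rcases hcase with h1 | h2
  · left
    obtain ⟨w, hwW, hw0⟩ := (Submodule.ne_bot_iff W).mp hW0
    have hmem := mem_iff_smul_of_finrank_one W h1 hwW hw0
    refine ⟨w, ?_, hmem⟩
    intro hww
    apply hw0
    apply hnd w hwW
    intro z' hz'
    obtain ⟨c, rfl⟩ := (hmem z').mp hz'
    rw [hv_smul_right, hww, mul_zero]
  · right
    have hC1 : finrank F (perp hh W) = 1 := by omega
    have hCne : perp hh W ≠ ⊥ := by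
      intro e
      rw [e, finrank_bot] at hC1
      exact absurd hC1 (by norm_num)
    obtain ⟨d, hdC, hd0⟩ := (Submodule.ne_bot_iff _).mp hCne
    have hmemC := mem_iff_smul_of_finrank_one (perp hh W) hC1 hdC hd0
    -- `W = perp (perp W)`
    have hle : W ≤ perp hh (perp hh W) := by
      intro y hy u hu
      exact hh.eq_zero_symm hF (hu y hy)
    have hdimCC : finrank F (perp hh (perp hh W)) + finrank F (perp hh W) = 3 := by
      have h1 := finrank_inf_perp hh hF ⊤ (perp hh W) hndV le_top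
      rw [top_inf_eq, finrank_top, Module.finrank_fin_fun] at h1
      exact h1
    have heq : W = perp hh (perp hh W) :=
      Submodule.eq_of_le_of_finrank_eq hle (by omega)
    have hmemW : ∀ y, y ∈ W ↔ hv q y d = 0 := by
      intro y
      constructor
      · intro hy
        exact hh.eq_zero_symm hF (hdC y hy)
      · intro hy
        rw [heq]
        intro u hu
        obtain ⟨c, rfl⟩ := (hmemC u).mp hu
        rw [hv_smul_right, hy, mul_zero]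
    refine ⟨d, ?_, hmemW⟩
    intro hdd
    apply hd0
    apply hnd d ((hmemW d).mpr hdd)
    intro z' hz'
    exact hdC z' hz'

/-- the shape of `W = {y | x ⊗ y ∈ K₀}` (helper8's form) -/
theorem nonopp_shape (hF : Fintype.card F = q ^ 2) {x : Fin 2 → F} (hx0 : x ≠ 0) (hx : hv q x x = 0)
    (K₀ : Submodule F (Idx 2 3 → F)) (hK : K₀ ≤ FibA (b := 3) x) (hK0 : K₀ ≠ ⊥) (hKne : K₀ ≠ FibA (b := 3) x)
    (ρ : F) (hρ0 : ρ ≠ 0) (hρ : ρ ^ q = ρ) (hρ1 : ρ ≠ 1) (T : GL (Idx 2 3) F) (hTK : T ∈ KG 2 3 F)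
    (hTU : T ∈ GUI 2 3 q F) (hfix : ∀ v ∈ K₀, mv T v = v)
    (hb : ∀ v ∈ FibA (b := 3) x, mv T v - ρ⁻¹ • v ∈ K₀) :
    (∃ w : Fin 3 → F, hv q w w ≠ 0 ∧ ∀ y, pt x y ∈ K₀ ↔ ∃ c : F, y = c • w) ∨
      (∃ d : Fin 3 → F, hv q d d ≠ 0 ∧ ∀ y, pt x y ∈ K₀ ↔ hv q y d = 0) := by
  obtain ⟨-, α, β, lam, -, -, -, -, hnd, -, -⟩ :=
    nonopp_struct hF hx0 hx K₀ hK hK0 hKne ρ hρ0 hρ hρ1 T hTK hTU hfix hb
  set W : Submodule F (Fin 3 → F) := K₀.comap (ptR x) with hW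
  have hWmem : ∀ y, y ∈ W ↔ pt x y ∈ K₀ := fun y => Iff.rfl
  have hW0 : W ≠ ⊥ := by
    intro hW0
    apply hK0
    rw [Submodule.eq_bot_iff]
    intro v hv'
    obtain ⟨y, rfl⟩ := mem_FibA.mp (hK hv')
    have : y ∈ W := hv'
    rw [hW0, Submodule.mem_bot] at this
    rw [this, pt_zero_right]
  have hWt : W ≠ ⊤ := by
    intro hWt
    apply hKne
    apply le_antisymm hK
    intro v hv'
    obtain ⟨y, rfl⟩ := mem_FibA.mp hv'
    have : y ∈ W := by rw [hWt]; exact Submodule.mem_top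
    exact this
  rcases nondeg_shape hF W hW0 hWt (fun z hz hz' => hnd z hz (fun z' hz'' => hz' z' hz'')) with
    ⟨w, hw, hmem⟩ | ⟨d, hd, hmem⟩
  · exact Or.inl ⟨w, hw, fun y => (hWmem y).symm.trans (hmem y)⟩
  · exact Or.inr ⟨d, hd, fun y => (hWmem y).symm.trans (hmem y)⟩

/-- the shape of `W = {y | x ⊗ y ∈ K₀}` (helper26's form) -/
theorem nonopp_shape' (hF : Fintype.card F = q ^ 2) {x : Fin 2 → F} (hx0 : x ≠ 0) (hx : hv q x x = 0)
    (K₀ : Submodule F (Idx 2 3 → F)) (hK : K₀ ≤ FibA (b := 3) x) (hK0 : K₀ ≠ ⊥) (hKne : K₀ ≠ FibA (b := 3) x)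
    (ρ : F) (hρ0 : ρ ≠ 0) (hρ : ρ ^ q = ρ) (hρ1 : ρ ≠ 1) (T : GL (Idx 2 3) F) (hTK : T ∈ KG 2 3 F)
    (hTU : T ∈ GUI 2 3 q F) (hfix : ∀ v ∈ K₀, mv T v = v)
    (hb : ∀ v ∈ FibA (b := 3) x, mv T v - ρ⁻¹ • v ∈ K₀) :
    ∃ d : Fin 3 → F, hv q d d ≠ 0 ∧
      ((∀ y, pt x y ∈ K₀ ↔ hv q y d = 0) ∨ (∀ y, pt x y ∈ K₀ ↔ ∃ c : F, y = c • d)) := by
  rcases nonopp_shape hF hx0 hx K₀ hK hK0 hKne ρ hρ0 hρ hρ1 T hTK hTU hfix hb with
    ⟨w, hw, hmem⟩ | ⟨d, hd, hmem⟩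
  · exact ⟨w, hw, Or.inr hmem⟩
  · exact ⟨d, hd, Or.inl hmem⟩

end Cfsg.Agent.Lib.Helper18.C4UN5
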