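/-
helper18: S4257 market, package SPEC (`Spec.conj`, `Spec.dvd_ind` of notes/S4257_leaves.lean).
-/
import Mathlib
import Cfsg.Agent.Lib.Helper26.CSDDefs

set_option autoImplicit false

namespace Cfsg.Agent.Lib.Helper18.CSD

open Cfsg.Agent.Lib.Helper17.ClassGraph Cfsg.Agent.Lib.Helper26.CSD
open scoped commutatorElement

variable {G : Type*} [Group G]

/-- `Spec.conj` of the S4257 leaf file. -/
theorem spec_conj {u : ℕ} {z : G} (h : Spec u z) (c : G) : Spec u (c * z * c⁻¹) := by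
  obtain ⟨hu, ⟨j, hj⟩, hc⟩ := h
  refine ⟨hu, ⟨j, ?_⟩, fun g => ?_⟩
  · rw [← hj]
    exact (SemiconjBy.orderOf_eq c (x := z) (y := c * z * c⁻¹) (by unfold SemiconjBy; group)).symm
  · have h1 := hc (c⁻¹ * g * c)
    have h2 : c * z * c⁻¹ * (g * (c * z * c⁻¹) * g⁻¹) =
        c * (z * (c⁻¹ * g * c * z * (c⁻¹ * g * c)⁻¹)) * c⁻¹ := by group
    have h3 : g * (c * z * c⁻¹) * g⁻¹ * (c * z * c⁻¹) =
        c * ((c⁻¹ * g * c * z * (c⁻¹ * g * c)⁻¹) * z) * c⁻¹ := by group
    show c * z * c⁻¹ * (g * (c * z * c⁻¹) * g⁻¹) = g * (c * z * c⁻¹) * g⁻¹ * (c * z * c⁻¹)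
    rw [h2, h3, h1.eq]

/-- the set of conjugates of `z`. -/
def conjSet (z : G) : Set G := Set.range (fun g : G => g * z * g⁻¹)

theorem conjSet_comm {u : ℕ} {z : G} (h : Spec u z) :
    ∀ a ∈ conjSet z, ∀ b ∈ conjSet z, a * b = b * a := by
  rintro _ ⟨g, rfl⟩ _ ⟨g', rfl⟩
  have h1 := (spec_conj h g).2.2 (g' * g⁻¹)
  have h2 : g' * g⁻¹ * (g * z * g⁻¹) * (g' * g⁻¹)⁻¹ = g' * z * g'⁻¹ := by group
  rw [h2] at h1
  exact h1.eq

theorem closure_conjSet_comm {u : ℕ} {z : G} (h : Spec u z) :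
    ∀ a ∈ Subgroup.closure (conjSet z), ∀ b ∈ Subgroup.closure (conjSet z), a * b = b * a := by
  have h1 : conjSet z ⊆ Subgroup.centralizer (conjSet z) := by
    intro a ha
    show a ∈ Subgroup.centralizer (conjSet z)
    rw [Subgroup.mem_centralizer_iff]
    intro b hb
    exact conjSet_comm h b hb a ha
  have h2 : Subgroup.closure (conjSet z) ≤ Subgroup.centralizer (conjSet z) :=
    (Subgroup.closure_le _).2 h1
  intro a ha b hb
  have h3 : a ∈ Subgroup.centralizer ((Subgroup.closure (conjSet z) : Subgroup G) : Set G) := by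
    rw [Subgroup.centralizer_closure]
    exact h2 ha
  rw [Subgroup.mem_centralizer_iff] at h3
  exact (h3 b hb).symm

theorem closure_conjSet_pow {u : ℕ} {z : G} (h : Spec u z) :
    ∀ a ∈ Subgroup.closure (conjSet z), ∃ j : ℕ, a ^ (u ^ j) = 1 := by
  intro a ha
  induction ha using Subgroup.closure_induction with
  | mem x hx =>
    obtain ⟨g, rfl⟩ := hx
    obtain ⟨j, hj⟩ := (spec_conj h g).2.1
    exact ⟨j, by rw [← hj]; exact pow_orderOf_eq_one _⟩
  | one => exact ⟨0, by simp⟩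
  | mul x y hx hy ihx ihy =>
    obtain ⟨j, hj⟩ := ihx
    obtain ⟨j', hj'⟩ := ihy
    refine ⟨j + j', ?_⟩
    have hcomm : Commute x y := closure_conjSet_comm h x hx y hy
    rw [hcomm.mul_pow, pow_add, pow_mul, hj, one_pow, mul_comm (u ^ j) (u ^ j'), pow_mul, hj',
      one_pow, one_mul]
  | inv x hx ihx =>
    obtain ⟨j, hj⟩ := ihx
    exact ⟨j, by rw [inv_pow, hj, inv_one]⟩

theorem closure_conjSet_normal (z : G) : (Subgroup.closure (conjSet z)).Normal := by
  constructor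
  intro n hn g
  induction hn using Subgroup.closure_induction with
  | mem x hx =>
    obtain ⟨c, rfl⟩ := hx
    apply Subgroup.subset_closure
    exact ⟨g * c, by group⟩
  | one => simp
  | mul x y hx hy ihx ihy =>
    have : g * (x * y) * g⁻¹ = (g * x * g⁻¹) * (g * y * g⁻¹) := by group
    rw [this]
    exact mul_mem ihx ihy
  | inv x hx ihx =>
    have : g * x⁻¹ * g⁻¹ = (g * x * g⁻¹)⁻¹ := by group
    rw [this]
    exact inv_mem ihx

/-- `Spec.dvd_ind` of the S4257 leaf file. -/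
theorem spec_dvd_ind [Finite G] {u : ℕ} {z : G} (h : Spec u z) {w : G} (hw : ¬ Commute w z) :
    u ∣ ind w := by
  by_contra hnd
  have : Fact u.Prime := ⟨h.1⟩
  obtain ⟨Q, hQ⟩ := exists_sylow_le_of_not_dvd_index (Subgroup.centralizer ({w} : Set G)) hnd
  have := closure_conjSet_normal z
  have hp : IsPGroup u (Subgroup.closure (conjSet z)) := by
    intro a
    obtain ⟨j, hj⟩ := closure_conjSet_pow h a.1 a.2
    exact ⟨j, Subtype.ext (by simpa using hj)⟩
  have hle := hp.le_sylow_of_normal Q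
  have hz : z ∈ Subgroup.closure (conjSet z) :=
    Subgroup.subset_closure ⟨1, by simp⟩
  have hzc := hQ (hle hz)
  rw [mem_centralizer_singleton] at hzc
  exact hw hzc.symm

end Cfsg.Agent.Lib.Helper18.CSD
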