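import Cfsg.Agent.Lib.Helper18.CTTREE
import Cfsg.Agent.Lib.Helper13.CTXCONJ
import Cfsg.Agent.Lib.Helper5.CTTOR2W

/-! Curtis–Tits (S1164), leaf TREE (helper18): the exact-name wrappers `y_eq_conj`, `HS_conj_y` (interface v2 of
`notes/S1164_leaves.lean`), from the `_of` forms of `CTTREE`, helper13's `X_eq_conj_of` on helper4's `nn_conj`,
and helper5's TOR2 wrappers (`hh_conj_X`, `NS_le_normalizer_HS`). Also the exact-name `X_eq_conj`. -/

set_option autoImplicit false

namespace Cfsg.Agent.Lib.Helper18.CTTREEW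

open Cfsg Cfsg.Lie Matrix
open Cfsg.Agent.Lib.Helper7
open Cfsg.Agent.Lib.Helper11.StPres
open Cfsg.Agent.Lib.Helper11.CT

section
variable {D : ChevalleyDatum} (hD : D ∈ [chevD4, chevF4, chevE6, chevE7, chevE8])
variable {K : Type*} [Field K]

include hD in
/-- every root element of a fundamental rank-two subsystem is a conjugate of a fundamental one by a word in
`n_i`, `n_j` (R2A, exact name: helper13's `X_eq_conj_of` applied to helper4's `nn_conj`) -/
theorem X_eq_conj (i j r : ℕ) (hr : D.InRankTwoSub i j r) :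
    ∃ L : List ℕ, (∀ l ∈ L, l = i ∨ l = j) ∧ ∃ l, (l = i ∨ l = j) ∧ ∃ c : K, c ≠ 0 ∧
      ∀ t : K, X D K r t = nW D K L * X D K (D.simple l) (c * t) * (nW D K L)⁻¹ :=
  Cfsg.Agent.Lib.Helper13.CTXCONJ.X_eq_conj_of hD
    (fun i j k hk r hr t ht u v h => Cfsg.Agent.Lib.Helper4.CTR2A.nn_conj hD i j k hk r hr t ht u v h) i j r hr

variable (par dep : List ℕ) (htree : (rsD D).treeOK par dep = true)

include hD htree in
theorem y_eq_conj (r : ℕ) (hr : r < D.nroots) :
    ∃ g ∈ NS D K, ∃ l, l < D.rank ∧ ∃ c : K, c ≠ 0 ∧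
      ∀ t : K, y D K par dep r t = g * X D K (D.simple l) (c * t) * g⁻¹ :=
  CTTREE.y_eq_conj_of hD par dep htree (fun i j r hr => X_eq_conj hD i j r hr) r hr

include hD htree in
theorem HS_conj_y (h : D.CurtisTitsGroup K) (hh : h ∈ HS D K) (r : ℕ) (hr : r < D.nroots) :
    ∃ c : K, c ≠ 0 ∧ ∀ t : K, h * y D K par dep r t * h⁻¹ = y D K par dep r (c * t) :=
  CTTREE.HS_conj_y_of hD par dep htree (fun i j r hr => X_eq_conj hD i j r hr)
    (fun k u hu i j r hr hk => Cfsg.Agent.Lib.Helper5.CTTOR2W.hh_conj_X hD k u hu i j r hr hk)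
    (Cfsg.Agent.Lib.Helper5.CTTOR2W.NS_le_normalizer_HS hD) h hh r hr

end

end Cfsg.Agent.Lib.Helper18.CTTREEW
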