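import Mathlib
import Cfsg.Agent.Lib.Helper4.Schmidt6
import Cfsg.Agent.S0144

/-!
# Groups in which the elements outside a normal subgroup have prime power order (helper18, S3901)
General lemmas.
-/

set_option autoImplicit false

namespace Cfsg.Agent.Lib.Helper18.Eppo

section basic
variable {G : Type*} [Group G]

/-- commuting elements of coprime orders whose product has prime power order: one is trivial -/
theorem eq_one_or_eq_one_of_isPrimePow {a b : G} (hab : Commute a b)
    (hcop : (orderOf a).Coprime (orderOf b)) (hpp : IsPrimePow (orderOf (a * b))) :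
    a = 1 ∨ b = 1 := by
  rw [hab.orderOf_mul_eq_mul_orderOf_of_coprime hcop] at hpp
  have hpos : 0 < orderOf a * orderOf b := hpp.pos
  have ha : 0 < orderOf a := Nat.pos_of_mul_pos_right hpos
  have hb : 0 < orderOf b := Nat.pos_of_mul_pos_left hpos
  rcases (hcop.isPrimePow_dvd_mul hpp).mp dvd_rfl with h | h
  · right
    have : orderOf b = 1 := by
      have h1 : orderOf a * orderOf b ≤ orderOf a := Nat.le_of_dvd ha h
      nlinarith
    exact orderOf_eq_one_iff.mp this
  · left
    have : orderOf a = 1 := by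
      have h1 : orderOf a * orderOf b ≤ orderOf b := Nat.le_of_dvd hb h
      nlinarith
    exact orderOf_eq_one_iff.mp this

/-- coprimality of prime powers -/
theorem coprime_pow_pow {p q : ℕ} (hp : p.Prime) (hq : q.Prime) (hpq : p ≠ q) (a b : ℕ) :
    (p ^ a).Coprime (q ^ b) :=
  Nat.Coprime.pow a b ((Nat.coprime_primes hp hq).mpr hpq)

/-- an element of a `q`-group has order a power of `q` -/
theorem exists_orderOf_eq_of_isPGroup {q : ℕ} [Fact q.Prime] {Q : Subgroup G} (hQ : IsPGroup q Q)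
    {x : G} (hx : x ∈ Q) : ∃ k : ℕ, orderOf x = q ^ k := by
  obtain ⟨k, hk⟩ := hQ ⟨x, hx⟩
  have h1 : x ^ q ^ k = 1 := by
    have := congrArg Subtype.val hk
    simpa using this
  obtain ⟨j, -, hj⟩ := (Nat.dvd_prime_pow (Fact.out : q.Prime)).mp (orderOf_dvd_of_pow_eq_one h1)
  exact ⟨j, hj⟩

/-- for `z` normalizing `Q`: `(k z)^n z^{-n} ∈ Q` -/
theorem pow_mul_inv_pow_mem {Q : Subgroup G} {z : G}
    (hz : ∀ n : ℕ, ∀ u ∈ Q, z ^ n * u * (z ^ n)⁻¹ ∈ Q) {k : G} (hk : k ∈ Q) :
    ∀ n : ℕ, (k * z) ^ n * (z ^ n)⁻¹ ∈ Q := by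
  intro n
  induction n with
  | zero => simp
  | succ n ih =>
    have e : (k * z) ^ (n + 1) * (z ^ (n + 1))⁻¹ =
        ((k * z) ^ n * (z ^ n)⁻¹) * (z ^ n * k * (z ^ n)⁻¹) := by
      rw [pow_succ, pow_succ]
      group
    rw [e]
    exact mul_mem ih (hz n k hk)

theorem conj_pow_mem_of_mem_normalizer {Q : Subgroup G} {z : G}
    (hz : z ∈ Subgroup.normalizer (Q : Set G)) :
    ∀ n : ℕ, ∀ u ∈ Q, z ^ n * u * (z ^ n)⁻¹ ∈ Q := by
  intro n u hu
  have : z ^ n ∈ Subgroup.normalizer (Q : Set G) := pow_mem hz n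
  exact (Subgroup.mem_normalizer_iff.mp this u).mp hu

end basic

end Cfsg.Agent.Lib.Helper18.Eppo
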