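import Cfsg.Agent.Lib.Helper18.EppoA

/-!
# S3901 helper lemmas: a Schmidt pair in a non-nilpotent group, and the centre of a `p`-subgroup
-/

set_option autoImplicit false

namespace Cfsg.Agent.Lib.Helper18.Eppo

open Cfsg.Agent.Lib.Helper4

section schmidt
universe u
variable {H : Type u} [Group H] [Finite H]

/-- A non-nilpotent finite group contains a subgroup `S` with a normal `q`-subgroup `Qb ≠ 1`,
`Qb ≠ S`, such that every element of `S` outside `Qb` has order divisible by `p ≠ q`. -/
theorem exists_schmidt_pair (hnn : ¬ Group.IsNilpotent H) :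
    ∃ (p q : ℕ) (_ : Fact p.Prime) (_ : Fact q.Prime) (S Qb : Subgroup H), p ≠ q ∧ Qb ≤ S ∧
      S ≤ Subgroup.normalizer (Qb : Set H) ∧ IsPGroup q Qb ∧ (∃ s ∈ S, s ∉ Qb) ∧ Qb ≠ ⊥ ∧
      ∀ s ∈ S, s ∉ Qb → p ∣ orderOf s := by
  classical
  -- a minimal non-nilpotent subgroup
  have hex : ∃ n : ℕ, ∃ S : Subgroup H, ¬ Group.IsNilpotent S ∧ Nat.card S = n := by
    refine ⟨Nat.card (⊤ : Subgroup H), ⊤, ?_, rfl⟩
    intro h
    exact hnn (Group.nilpotent_of_mulEquiv (Subgroup.topEquiv : (⊤ : Subgroup H) ≃* H))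
  obtain ⟨S, hSnn, hScard⟩ := Nat.find_spec hex
  have hmin : ∀ K : Subgroup S, K ≠ ⊤ → Group.IsNilpotent K := by
    intro K hK
    by_contra hKn
    have hlt : Nat.card K < Nat.card S := Cfsg.Agent.Lib.Helper1.card_lt_of_ne_top hK
    have e : K ≃* K.map S.subtype := Subgroup.equivMapOfInjective K S.subtype S.subtype_injective
    have hKn' : ¬ Group.IsNilpotent (K.map S.subtype) := by
      intro h
      exact hKn (Group.nilpotent_of_mulEquiv e.symm)
    have hcard : Nat.card (K.map S.subtype) = Nat.card K := (Nat.card_congr e.toEquiv).symm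
    have := Nat.find_min hex (m := Nat.card (K.map S.subtype)) (by rw [hcard, hScard] at *; exact hlt)
    exact this ⟨_, hKn', rfl⟩
  obtain ⟨p, q, hp, hq, hpq, P, Q, hPc, hQn, hPQ, hPn⟩ := schmidt_structure' hSnn hmin
  haveI : Fact p.Prime := ⟨hp⟩
  haveI : Fact q.Prime := ⟨hq⟩
  haveI : (Q : Subgroup S).Normal := hQn
  refine ⟨p, q, ⟨hp⟩, ⟨hq⟩, S, (Q : Subgroup S).map S.subtype, hpq, Subgroup.map_subtype_le _,
    ?_, ?_, ?_, ?_, ?_⟩
  · -- S normalizes Qb
    intro s hs
    rw [Subgroup.mem_normalizer_iff]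
    intro x
    constructor
    · rintro ⟨y, hy, rfl⟩
      exact ⟨⟨s, hs⟩ * y * ⟨s, hs⟩⁻¹, hQn.conj_mem y hy ⟨s, hs⟩, rfl⟩
    · rintro ⟨y, hy, hyx⟩
      refine ⟨⟨s, hs⟩⁻¹ * y * ⟨s, hs⟩, ?_, ?_⟩
      · have := hQn.conj_mem y hy (⟨s, hs⟩⁻¹)
        rw [inv_inv] at this
        exact this
      · have : (S.subtype y : H) = s * x * s⁻¹ := hyx
        simp only [map_mul, map_inv, Subgroup.subtype_apply] at this ⊢
        rw [this]
        group
  · exact Q.2.map S.subtype
  · -- some element outside Qb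
    by_contra hcon
    push Not at hcon
    apply hSnn
    have hQtop : (Q : Subgroup S) = ⊤ := by
      rw [eq_top_iff]
      intro s _
      obtain ⟨y, hy, hys⟩ := hcon s.1 s.2
      have : y = s := Subtype.ext hys
      rw [← this]
      exact hy
    have hS : IsPGroup q S := by
      have := Q.2
      rw [hQtop] at this
      exact this.of_equiv (Subgroup.topEquiv : (⊤ : Subgroup S) ≃* S)
    exact hS.isNilpotent
  · -- Qb ≠ ⊥
    intro hbot
    apply hPn
    have hQbot : (Q : Subgroup S) = ⊥ := by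
      rw [Subgroup.eq_bot_iff_forall]
      intro y hy
      have h1 : (S.subtype y : H) ∈ (Q : Subgroup S).map S.subtype := ⟨y, hy, rfl⟩
      rw [hbot, Subgroup.mem_bot] at h1
      exact Subtype.ext h1
    rw [hQbot, sup_bot_eq] at hPQ
    rw [hPQ]
    infer_instance
  · -- elements outside Qb have order divisible by p
    intro s hs hsQ
    by_contra hps
    apply hsQ
    -- |S| = |P| |Q|
    have hcard : Nat.card S = Nat.card (P : Subgroup S) * Nat.card (Q : Subgroup S) := by
      have h1 := card_sup_of_pgroups hpq (P : Subgroup S) (Q : Subgroup S) P.2 Q.2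
      rw [hPQ, Subgroup.card_top] at h1
      exact h1
    obtain ⟨a, ha⟩ := (IsPGroup.iff_card).mp P.2
    obtain ⟨b, hb⟩ := (IsPGroup.iff_card).mp Q.2
    set s' : S := ⟨s, hs⟩ with hs'
    have hord : orderOf s' ∣ p ^ a * q ^ b := by
      rw [← ha, ← hb, ← hcard]
      exact orderOf_dvd_natCard s'
    have hps' : ¬ p ∣ orderOf s' := by
      intro h
      apply hps
      have : orderOf s' = orderOf s := by
        rw [← Subgroup.orderOf_coe]
      rw [← this]
      exact h
    have hcop : (orderOf s').Coprime (p ^ a) :=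
      Nat.Coprime.pow_right a ((Nat.Prime.coprime_iff_not_dvd hp).mpr hps').symm
    have hdvd : orderOf s' ∣ q ^ b := hcop.dvd_of_dvd_mul_left hord
    -- s' is a q-element, hence in the normal Sylow q-subgroup Q
    have hmem : s' ∈ (Q : Subgroup S) := by
      have hz : IsPGroup q (Subgroup.zpowers s') := by
        rw [IsPGroup.iff_card, Nat.card_zpowers]
        obtain ⟨j, -, hj⟩ := (Nat.dvd_prime_pow hq).mp hdvd
        exact ⟨j, hj⟩
      obtain ⟨Q', hQ'⟩ := hz.exists_le_sylow
      have hQQ' : Q' = Q := by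
        haveI := Sylow.unique_of_normal Q hQn
        exact Subsingleton.elim _ _
      rw [← hQQ']
      exact hQ' (Subgroup.mem_zpowers s')
    exact ⟨s', hmem, rfl⟩

end schmidt

section center
variable {G : Type*} [Group G]

/-- the centre of a subgroup, as a subgroup of the ambient group -/
def zOf (R : Subgroup G) : Subgroup G := R ⊓ Subgroup.centralizer (R : Set G)

theorem zOf_le (R : Subgroup G) : zOf R ≤ R := inf_le_left

theorem zOf_comm (R : Subgroup G) : ∀ a ∈ zOf R, ∀ b ∈ zOf R, a * b = b * a := by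
  intro a ha b hb
  exact (Subgroup.mem_centralizer_iff.mp hb.2 a ha.1)

theorem normalizer_le_normalizer_zOf (R : Subgroup G) :
    Subgroup.normalizer (R : Set G) ≤ Subgroup.normalizer (zOf R : Set G) := by
  have key : ∀ g : G, g ∈ Subgroup.normalizer (R : Set G) → ∀ x ∈ zOf R, g * x * g⁻¹ ∈ zOf R := by
    intro g hg x hx
    refine ⟨(Subgroup.mem_normalizer_iff.mp hg x).mp hx.1, ?_⟩
    show g * x * g⁻¹ ∈ Subgroup.centralizer (R : Set G)
    rw [Subgroup.mem_centralizer_iff]
    intro s hs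
    have hs' : g⁻¹ * s * g ∈ R := by
      have := (Subgroup.mem_normalizer_iff.mp (inv_mem hg) s).mp hs
      simpa using this
    have hc := Subgroup.mem_centralizer_iff.mp hx.2 _ hs'
    calc s * (g * x * g⁻¹) = g * ((g⁻¹ * s * g) * x) * g⁻¹ := by group
      _ = g * (x * (g⁻¹ * s * g)) * g⁻¹ := by rw [hc]
      _ = g * x * g⁻¹ * s := by group
  intro g hg
  rw [Subgroup.mem_normalizer_iff]
  intro x
  constructor
  · exact key g hg x
  · intro hx
    have := key g⁻¹ (inv_mem hg) _ hx
    have e : g⁻¹ * (g * x * g⁻¹) * g⁻¹⁻¹ = x := by group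
    rwa [e] at this

theorem zOf_ne_bot [Finite G] {r : ℕ} [Fact r.Prime] {R : Subgroup G} (hR : IsPGroup r R)
    (hR1 : R ≠ ⊥) : zOf R ≠ ⊥ := by
  haveI : Nontrivial R := (Subgroup.nontrivial_iff_ne_bot R).mpr hR1
  haveI : Nontrivial (Subgroup.center R) := hR.center_nontrivial
  obtain ⟨c, hc⟩ := exists_ne (1 : Subgroup.center R)
  intro hbot
  apply hc
  have hmem : ((c : R) : G) ∈ zOf R := by
    refine ⟨(c : R).2, ?_⟩
    show ((c : R) : G) ∈ Subgroup.centralizer (R : Set G)
    rw [Subgroup.mem_centralizer_iff]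
    intro s hs
    have := Subgroup.mem_center_iff.mp c.2 ⟨s, hs⟩
    exact congrArg Subtype.val this
  rw [hbot, Subgroup.mem_bot] at hmem
  apply Subtype.ext
  apply Subtype.ext
  exact hmem

end center

end Cfsg.Agent.Lib.Helper18.Eppo
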