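import Cfsg.Agent.Lib.Helper18.EppoB
import Cfsg.Agent.Lib.Helper19.FrobFix2
import Cfsg.Agent.Lib.Helper1.Coprime

/-!
# S3901: elements outside a normal subgroup have prime power order (helper18)
Main argument, with the lifting lemma as a hypothesis.
-/

set_option autoImplicit false

namespace Cfsg.Agent.Lib.Helper18.Eppo

/-- the statement of the lifting lemma (leaf `exists_lift`) -/
def LiftStatement {G : Type*} [Group G] (N : Subgroup G) [N.Normal] : Prop :=
  ∀ (p q r : ℕ) [Fact p.Prime] [Fact q.Prime] [Fact r.Prime]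
    (R : Sylow r N)
    (S Qb : Subgroup (G ⧸ N)), Qb ≤ S → S ≤ Subgroup.normalizer (Qb : Set (G ⧸ N)) →
    IsPGroup q Qb → (∃ s ∈ S, s ∉ Qb) → Qb ≠ ⊥ →
    (∀ s ∈ S, s ∉ Qb → p ∣ orderOf s) →
    ∃ (Q : Subgroup G) (y : G), IsPGroup q Q ∧ ¬ Q ≤ N ∧
      Q ≤ Subgroup.normalizer ((((R : Subgroup N).map N.subtype : Subgroup G)) : Set G) ∧
      y ∈ Subgroup.normalizer ((((R : Subgroup N).map N.subtype : Subgroup G)) : Set G) ∧
      y ∈ Subgroup.normalizer (Q : Set G) ∧ y ∉ N ∧ ∃ k : ℕ, orderOf y = p ^ k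

/-- a prime divisor of `n` different from `p` and `q`, unless `n = p^a q^b` -/
theorem exists_third_prime {n p q : ℕ} (hn : 0 < n) (hp : p.Prime) (hq : q.Prime)
    (h : ∀ a b : ℕ, n ≠ p ^ a * q ^ b) : ∃ r : ℕ, r.Prime ∧ r ∣ n ∧ r ≠ p ∧ r ≠ q := by
  obtain ⟨a, m, hpm, hnm⟩ := Nat.exists_eq_pow_mul_and_not_dvd hn.ne' p hp.ne_one
  have hm0 : m ≠ 0 := by
    rintro rfl
    rw [mul_zero] at hnm
    exact hn.ne' hnm
  obtain ⟨b, m', hqm, hmm⟩ := Nat.exists_eq_pow_mul_and_not_dvd hm0 q hq.ne_one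
  have hm1 : m' ≠ 1 := by
    rintro rfl
    apply h a b
    rw [hnm, hmm, mul_one]
  obtain ⟨r, hr, hrm⟩ := Nat.exists_prime_and_dvd hm1
  refine ⟨r, hr, ?_, ?_, ?_⟩
  · rw [hnm, hmm]
    exact Dvd.dvd.mul_left (Dvd.dvd.mul_left hrm _) _
  · rintro rfl
    apply hpm
    rw [hmm]
    exact Dvd.dvd.mul_left hrm _
  · rintro rfl
    exact hqm hrm

section main
variable {G : Type*} [Group G] [Finite G] (N : Subgroup G) [N.Normal]

theorem quotient_isNilpotent_of_lift (hns : ¬ Group.IsSolvable ↥N)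
    (h : ∀ x : G, x ∉ N → IsPrimePow (orderOf x)) (hlift : LiftStatement N) :
    Group.IsNilpotent (G ⧸ N) := by
  classical
  by_contra hnn
  obtain ⟨p, q, hpF, hqF, S, Qb, hpq, hQS, hSn, hQq, hne, hQ1, hS⟩ := exists_schmidt_pair hnn
  have hp : p.Prime := hpF.out
  have hq : q.Prime := hqF.out
  -- a third prime
  obtain ⟨r, hr, hrN, hrp, hrq⟩ : ∃ r : ℕ, r.Prime ∧ r ∣ Nat.card N ∧ r ≠ p ∧ r ≠ q := by
    apply exists_third_prime Nat.card_pos hp hq
    intro a b hab
    exact hns (Cfsg.Agent.S0144.result p q a b hp hq hab)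
  haveI hrF : Fact r.Prime := ⟨hr⟩
  -- a Sylow r-subgroup of N
  obtain R : Sylow r N := default
  set RG : Subgroup G := (R : Subgroup N).map N.subtype with hRG
  have hRGr : IsPGroup r RG := R.2.map N.subtype
  have hRGN : RG ≤ N := Subgroup.map_subtype_le _
  have hRG1 : RG ≠ ⊥ := by
    intro hbot
    have := (Subgroup.map_eq_bot_iff_of_injective (R : Subgroup N) N.subtype_injective).mp hbot
    exact R.ne_bot_of_dvd_card hrN this
  set V : Subgroup G := zOf RG with hV
  have hV1 : V ≠ ⊥ := zOf_ne_bot hRGr hRG1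
  have hVN : V ≤ N := (zOf_le RG).trans hRGN
  have hVr : ∀ v ∈ V, ∃ i : ℕ, orderOf v = r ^ i := fun v hv =>
    exists_orderOf_eq_of_isPGroup hRGr (zOf_le RG hv)
  -- the lift
  obtain ⟨Q, y, hQq', hQN, hQR, hyR, hyQ, hyN, k, hyk⟩ :=
    hlift p q r R S Qb hQS hSn hQq hne hQ1 hS
  have hQord : ∀ x ∈ Q, ∃ j : ℕ, orderOf x = q ^ j := fun x hx =>
    exists_orderOf_eq_of_isPGroup hQq' hx
  -- key principle
  have key : ∀ a b : G, Commute a b → (orderOf a).Coprime (orderOf b) → a * b ∉ N →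
      a = 1 ∨ b = 1 := fun a b hab hcop hN =>
    eq_one_or_eq_one_of_isPrimePow hab hcop (h _ hN)
  -- the order of the image of y
  set π : G →* G ⧸ N := QuotientGroup.mk' N with hπ
  have hπy : π y ≠ 1 := by
    intro h1
    exact hyN ((QuotientGroup.eq_one_iff y).mp h1)
  obtain ⟨a, -, ha⟩ := (Nat.dvd_prime_pow hp).mp (hyk ▸ orderOf_map_dvd π y)
  have ha0 : a ≠ 0 := by
    rintro rfl
    rw [pow_zero, orderOf_eq_one_iff] at ha
    exact hπy ha
  -- w = y^(p^a) lies in N
  set w : G := y ^ p ^ a with hw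
  have hwN : w ∈ N := by
    rw [← QuotientGroup.eq_one_iff]
    show π (y ^ p ^ a) = 1
    rw [map_pow, ← ha, pow_orderOf_eq_one]
  have hword : ∃ i : ℕ, orderOf w = p ^ i := by
    have : orderOf w ∣ p ^ k := by
      rw [← hyk]
      exact orderOf_pow_dvd _
    obtain ⟨i, -, hi⟩ := (Nat.dvd_prime_pow hp).mp this
    exact ⟨i, hi⟩
  have hwQ : w ∈ Subgroup.normalizer (Q : Set G) := pow_mem hyQ _
  -- Step B: w = 1
  have hw1 : w = 1 := by
    obtain ⟨u0, hu0Q, hu0N⟩ : ∃ u0 ∈ Q, u0 ∉ N := by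
      by_contra hcon
      push Not at hcon
      exact hQN hcon
    have hnorm : Subgroup.zpowers w ≤ Subgroup.normalizer ((Q ⊓ N : Subgroup G) : Set G) := by
      rw [Subgroup.zpowers_le]
      rw [Subgroup.mem_normalizer_iff]
      intro x
      rw [Subgroup.mem_inf, Subgroup.mem_inf, ← Subgroup.mem_normalizer_iff.mp hwQ x]
      have : x ∈ N ↔ w * x * w⁻¹ ∈ N := by
        constructor
        · intro hx
          exact ‹N.Normal›.conj_mem x hx w
        · intro hx
          have := ‹N.Normal›.conj_mem _ hx w⁻¹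
          have e : w⁻¹ * (w * x * w⁻¹) * w⁻¹⁻¹ = x := by group
          rwa [e] at this
      rw [this]
    have hcop : Nat.Coprime (Nat.card (Subgroup.zpowers w)) (Nat.card (Q ⊓ N : Subgroup G)) := by
      obtain ⟨i, hi⟩ := hword
      rw [Nat.card_zpowers, hi]
      obtain ⟨b, hb⟩ := (IsPGroup.iff_card).mp (hQq'.to_le (inf_le_left : Q ⊓ N ≤ Q))
      rw [hb]
      exact coprime_pow_pow hp hq hpq i b
    have hx : ∀ c ∈ Subgroup.zpowers w, u0⁻¹ * c * u0 * c⁻¹ ∈ (Q ⊓ N : Subgroup G) := by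
      intro c hc
      have hcN : c ∈ N := (Subgroup.zpowers_le.mpr hwN) hc
      have hcQ : c ∈ Subgroup.normalizer (Q : Set G) := (Subgroup.zpowers_le.mpr hwQ) hc
      refine Subgroup.mem_inf.mpr ⟨?_, ?_⟩
      · have h1 : c * u0 * c⁻¹ ∈ Q := (Subgroup.mem_normalizer_iff.mp hcQ u0).mp hu0Q
        have e : u0⁻¹ * c * u0 * c⁻¹ = u0⁻¹ * (c * u0 * c⁻¹) := by group
        rw [e]
        exact mul_mem (inv_mem hu0Q) h1
      · have h1 : u0⁻¹ * c * u0⁻¹⁻¹ ∈ N := ‹N.Normal›.conj_mem c hcN u0⁻¹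
        rw [inv_inv] at h1
        exact mul_mem h1 (inv_mem hcN)
    obtain ⟨n, hn, hcent⟩ := Cfsg.Agent.Lib.Helper1.exists_mul_mem_centralizer hnorm hcop
      (Or.inl inferInstance) u0 hx
    have hnQ : n ∈ Q := (Subgroup.mem_inf.mp hn).1
    have hnN : n ∈ N := (Subgroup.mem_inf.mp hn).2
    have huQ : u0 * n ∈ Q := mul_mem hu0Q hnQ
    have huN : u0 * n ∉ N := fun hmem => hu0N (by
      have := mul_mem hmem (inv_mem hnN)
      rwa [mul_inv_cancel_right] at this)
    have hcomm : Commute (u0 * n) w :=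
      (Subgroup.mem_centralizer_iff.mp hcent w (Subgroup.mem_zpowers w)).symm
    obtain ⟨j, hj⟩ := hQord _ huQ
    obtain ⟨i, hi⟩ := hword
    have hcop' : (orderOf (u0 * n)).Coprime (orderOf w) := by
      rw [hj, hi]
      exact coprime_pow_pow hq hp (Ne.symm hpq) j i
    have huwN : u0 * n * w ∉ N := fun hmem => huN (by
      have := mul_mem hmem (inv_mem hwN)
      rwa [mul_inv_cancel_right] at this)
    rcases key _ _ hcomm hcop' huwN with h1 | h1
    · exfalso
      apply huN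
      rw [h1]
      exact one_mem N
    · exact h1
  -- z of order p
  obtain ⟨a', rfl⟩ : ∃ a', a = a' + 1 := ⟨a - 1, by omega⟩
  set z : G := y ^ p ^ a' with hz
  have hzp : z ^ p = 1 := by
    rw [hz, ← pow_mul, ← pow_succ, ← hw, hw1]
  have hπz : π z ≠ 1 := by
    intro h1
    rw [hz, map_pow] at h1
    have := orderOf_dvd_of_pow_eq_one h1
    rw [ha] at this
    have h2 := Nat.le_of_dvd (pow_pos hp.pos _) this
    have h3 : p ^ a' < p ^ (a' + 1) := Nat.pow_lt_pow_right hp.one_lt (Nat.lt_succ_self a')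
    omega
  have hzN : z ∉ N := fun hmem => hπz ((QuotientGroup.eq_one_iff z).mpr hmem)
  have hz1 : z ≠ 1 := fun h1 => hzN (h1 ▸ one_mem N)
  have hzord : orderOf z = p := orderOf_eq_prime hzp hz1
  have hπzord : orderOf (π z) = p := by
    apply orderOf_eq_prime _ hπz
    rw [← map_pow, hzp, map_one]
  have hzQ : z ∈ Subgroup.normalizer (Q : Set G) := pow_mem hyQ _
  have hzR : z ∈ Subgroup.normalizer (RG : Set G) := pow_mem hyR _
  -- elements k z, k ∈ Q, lie outside N
  have hkzN : ∀ c ∈ Q, c * z ∉ N := by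
    intro c hc hmem
    have h1 : π c * π z = 1 := by
      rw [← map_mul]
      exact (QuotientGroup.eq_one_iff _).mpr hmem
    obtain ⟨j, hj⟩ := hQord c hc
    have h2 : (π c) ^ q ^ j = 1 := by
      rw [← map_pow, ← hj, pow_orderOf_eq_one, map_one]
    have h3 : π z = (π c)⁻¹ := eq_inv_of_mul_eq_one_right h1
    have h4 : (π z) ^ q ^ j = 1 := by
      rw [h3, inv_pow, h2, inv_one]
    have h5 := orderOf_dvd_of_pow_eq_one h4
    rw [hπzord] at h5
    exact hpq ((Nat.prime_dvd_prime_iff_eq hp hq).mp (hp.dvd_of_dvd_pow h5))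
  have hzconj := conj_pow_mem_of_mem_normalizer hzQ
  -- (k z)^p = 1
  have hord : ∀ c ∈ Q, (c * z) ^ p = 1 := by
    intro c hc
    have hmemp : (c * z) ^ p ∈ Q := by
      have := pow_mul_inv_pow_mem hzconj hc p
      rwa [hzp, inv_one, mul_one] at this
    obtain ⟨t, m, ht, hm, htm⟩ := (isPrimePow_nat_iff _).mp (h _ (hkzN c hc))
    have hpdvd : p ∣ orderOf (c * z) := by
      have h1 := pow_mul_inv_pow_mem hzconj hc (orderOf (c * z))
      rw [pow_orderOf_eq_one, one_mul] at h1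
      have h2 : z ^ orderOf (c * z) ∈ Q := by
        have := inv_mem h1
        rwa [inv_inv] at this
      obtain ⟨j, hj⟩ := hQord _ h2
      have h3 : orderOf (z ^ orderOf (c * z)) ∣ p := by
        apply orderOf_dvd_of_pow_eq_one
        rw [← pow_mul, mul_comm, pow_mul, hzp, one_pow]
      rw [hj] at h3
      have hj0 : j = 0 := by
        by_contra hj0
        have : q ∣ p := (dvd_pow_self q hj0).trans h3
        exact hpq ((Nat.prime_dvd_prime_iff_eq hq hp).mp this).symm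
      rw [hj0, pow_zero, orderOf_eq_one_iff] at hj
      rw [← hzord]
      exact orderOf_dvd_of_pow_eq_one hj
    have htp : t = p := by
      rw [← htm] at hpdvd
      exact ((Nat.prime_dvd_prime_iff_eq hp ht).mp (hp.dvd_of_dvd_pow hpdvd)).symm
    subst htp
    obtain ⟨j, hj⟩ := hQord _ hmemp
    have h4 : orderOf ((c * z) ^ t) ∣ t ^ m := by
      rw [htm]
      exact orderOf_pow_dvd _
    rw [hj] at h4
    have hj0 : j = 0 := by
      by_contra hj0
      have : q ∣ t ^ m := (dvd_pow_self q hj0).trans h4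
      exact hpq ((Nat.prime_dvd_prime_iff_eq hq ht).mp (hq.dvd_of_dvd_pow this)).symm
    rw [hj0, pow_zero, orderOf_eq_one_iff] at hj
    exact hj
  -- some u ∈ Q \ N acts fixed point freely on V
  obtain ⟨u, huQ, huN⟩ : ∃ u ∈ Q, u ∉ N := by
    by_contra hcon
    push Not at hcon
    exact hQN hcon
  have hufpf : ∀ v ∈ V, u * v = v * u → v = 1 := by
    intro v hv hcomm
    obtain ⟨j, hj⟩ := hQord u huQ
    obtain ⟨i, hi⟩ := hVr v hv
    have hcop' : (orderOf u).Coprime (orderOf v) := by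
      rw [hj, hi]
      exact coprime_pow_pow hq hr (Ne.symm hrq) j i
    have huvN : u * v ∉ N := fun hmem => huN (by
      have := mul_mem hmem (inv_mem (hVN hv))
      rwa [mul_inv_cancel_right] at this)
    rcases key u v hcomm hcop' huvN with h1 | h1
    · exfalso
      apply huN
      rw [h1]
      exact one_mem N
    · exact h1
  have hKp : (Nat.card Q).Coprime r := by
    obtain ⟨b, hb⟩ := (IsPGroup.iff_card).mp hQq'
    rw [hb]
    exact Nat.Coprime.pow_left b ((Nat.coprime_primes hq hr).mpr (Ne.symm hrq))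
  obtain ⟨c, hcQ, v, hvV, hv1, hcomm⟩ :=
    Cfsg.Agent.Lib.Helper19.exists_fixed_of_frobenius_like' r p hp V Q z u
      (zOf_comm RG)
      (fun v hv => by
        obtain ⟨i, hi⟩ := hVr v hv
        exact ⟨i, by rw [← hi, pow_orderOf_eq_one]⟩)
      hV1 (hQR.trans (normalizer_le_normalizer_zOf RG)) (normalizer_le_normalizer_zOf RG hzR)
      hKp hzQ hord huQ hufpf
  -- contradiction
  have hczN := hkzN c hcQ
  obtain ⟨i, hi⟩ := hVr v hvV
  have hczord : orderOf (c * z) ∣ p := orderOf_dvd_of_pow_eq_one (hord c hcQ)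
  have hcop' : (orderOf (c * z)).Coprime (orderOf v) := by
    rw [hi]
    apply Nat.Coprime.pow_right
    exact Nat.Coprime.coprime_dvd_left hczord ((Nat.coprime_primes hp hr).mpr (Ne.symm hrp))
  have hczvN : c * z * v ∉ N := fun hmem => hczN (by
    have := mul_mem hmem (inv_mem (hVN hvV))
    rwa [mul_inv_cancel_right] at this)
  rcases key (c * z) v hcomm hcop' hczvN with h1 | h1
  · apply hczN
    rw [h1]
    exact one_mem N
  · exact hv1 h1

end main

end Cfsg.Agent.Lib.Helper18.Eppo
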