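import Mathlib
import Cfsg.Agent.Lib.Helper18.OddAut

set_option autoImplicit false

/-!
# The 2-groups `(C_{2^m} × C_2) ⋊ C_2` (monomial groups over Fermat primes)

`FermatData m d e w`: `d` of order `2^m`, involutions `e, w`, `e` commutes with `d`, `w` inverts
`d` and `w e w⁻¹ = e z`, `z = d^(2^(m-1))`, and every element is `d^i e^j` or `d^i e^j w`.
For `m ≥ 3` and for `m = 1` every automorphism of odd order is trivial.
-/

namespace Cfsg.Agent.Lib.Helper18

/-- presentation data of the group `(C_{2^m} × C_2) ⋊ C_2` -/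
structure FermatData {X : Type*} [Group X] (m : ℕ) (d e w : X) : Prop where
  hd : orderOf d = 2 ^ m
  he : e * e = 1
  hw : w * w = 1
  hed : e * d = d * e
  hwd : w * d * w⁻¹ = d⁻¹
  hwe : w * e * w⁻¹ = e * d ^ (2 ^ (m - 1))
  hcov : ∀ x : X, ∃ i j : ℤ, x = d ^ i * e ^ j ∨ x = d ^ i * e ^ j * w

namespace FermatData

variable {X : Type*} [Group X] {m : ℕ} {d e w : X} (D : FermatData m d e w)
include D

theorem w_inv : w⁻¹ = w := inv_eq_of_mul_eq_one_left D.hw

theorem e_inv : e⁻¹ = e := inv_eq_of_mul_eq_one_left D.he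

theorem comm_de : Commute d e := D.hed.symm

theorem z_sq (hm : 1 ≤ m) : d ^ (2 ^ (m - 1)) * d ^ (2 ^ (m - 1)) = 1 := by
  rw [← pow_add, ← two_mul, ← pow_succ', Nat.sub_add_cancel hm, ← D.hd, pow_orderOf_eq_one]

theorem z_ne_one (hm : 1 ≤ m) : d ^ (2 ^ (m - 1)) ≠ 1 := by
  apply pow_ne_one_of_lt_orderOf (by positivity)
  rw [D.hd]; exact Nat.pow_lt_pow_right (by norm_num) (by omega)

theorem conj_d_zpow (i : ℤ) : w * d ^ i * w⁻¹ = d ^ (-i) := by
  have h := map_zpow (MulAut.conj w) d i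
  simp only [MulAut.conj_apply] at h
  rw [h, D.hwd, inv_zpow']

theorem comm_e_z : Commute e (d ^ (2 ^ (m - 1))) := (D.comm_de.symm).pow_right _

theorem conj_e_zpow (j : ℤ) :
    w * e ^ j * w⁻¹ = e ^ j * (d ^ (2 ^ (m - 1))) ^ j := by
  have h := map_zpow (MulAut.conj w) e j
  simp only [MulAut.conj_apply] at h
  rw [h, D.hwe, D.comm_e_z.mul_zpow]

theorem e_zpow_sq (j : ℤ) : e ^ j * e ^ j = 1 := by
  rw [← (Commute.refl e).mul_zpow, D.he, one_zpow]

theorem e_zpow_cases (j : ℤ) : e ^ j = 1 ∨ e ^ j = e := by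
  rcases Int.even_or_odd j with ⟨k, hk⟩ | ⟨k, hk⟩
  · left
    rw [hk, zpow_add, D.e_zpow_sq]
  · right
    rw [hk, zpow_add, zpow_one, two_mul, zpow_add, D.e_zpow_sq, one_mul]

theorem mulA (i j i' j' : ℤ) :
    (d ^ i * e ^ j) * (d ^ i' * e ^ j') = d ^ (i + i') * e ^ (j + j') := by
  have hc : Commute (e ^ j) (d ^ i') := (D.comm_de.symm).zpow_zpow j i'
  calc (d ^ i * e ^ j) * (d ^ i' * e ^ j') = d ^ i * (e ^ j * d ^ i') * e ^ j' := by
        simp only [mul_assoc]
    _ = d ^ i * (d ^ i' * e ^ j) * e ^ j' := by rw [hc.eq]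
    _ = d ^ (i + i') * e ^ (j + j') := by rw [zpow_add, zpow_add]; simp only [mul_assoc]

theorem invA (i j : ℤ) : (d ^ i * e ^ j)⁻¹ = d ^ (-i) * e ^ (-j) := by
  apply inv_eq_of_mul_eq_one_right
  rw [D.mulA, add_neg_cancel, add_neg_cancel, zpow_zero, zpow_zero, one_mul]

theorem sq_out (i j : ℤ) :
    (d ^ i * e ^ j * w) * (d ^ i * e ^ j * w) = (d ^ (2 ^ (m - 1))) ^ j := by
  have h1 : (d ^ i * e ^ j * w) * (d ^ i * e ^ j * w)
      = d ^ i * e ^ j * ((w * d ^ i * w⁻¹) * (w * e ^ j * w⁻¹)) * (w * w) := by group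
  rw [h1, D.hw, mul_one, D.conj_d_zpow, D.conj_e_zpow, ← mul_assoc (d ^ (-i)), ← mul_assoc,
    D.mulA, add_neg_cancel, zpow_zero, one_mul, zpow_add, D.e_zpow_sq, one_mul]

theorem fourth_out (hm : 1 ≤ m) (i j : ℤ) : (d ^ i * e ^ j * w) ^ 4 = 1 := by
  rw [show (4 : ℕ) = 2 + 2 from rfl, pow_add, pow_two, D.sq_out,
    ← (Commute.refl _).mul_zpow, D.z_sq hm, one_zpow]

theorem e_not_mem_zpowers (hm : 1 ≤ m) : e ∉ Subgroup.zpowers d := by
  rintro ⟨t, ht⟩
  have ht' : d ^ t = e := ht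
  have h1 : w * e * w⁻¹ = e := by
    rw [← ht', D.conj_d_zpow, zpow_neg, ht', D.e_inv]
  rw [D.hwe] at h1
  exact D.z_ne_one hm (mul_left_cancel (h1.trans (mul_one e).symm))

theorem zpow_eq_z_zpow (hm : 1 ≤ m) (a : ℤ) (h : d ^ (a + a) = 1) :
    ∃ t : ℤ, d ^ a = (d ^ (2 ^ (m - 1))) ^ t := by
  have h1 : ((orderOf d : ℕ) : ℤ) ∣ a + a := orderOf_dvd_iff_zpow_eq_one.mpr h
  rw [D.hd] at h1
  obtain ⟨t, ht⟩ := h1
  have h2 : a = ((2 ^ (m - 1) : ℕ) : ℤ) * t := by
    have h3 : ((2 ^ m : ℕ) : ℤ) = 2 * ((2 ^ (m - 1) : ℕ) : ℤ) := by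
      rw [← Nat.cast_ofNat (R := ℤ) (n := 2), ← Nat.cast_mul, ← pow_succ', Nat.sub_add_cancel hm]
    rw [h3] at ht
    linarith
  refine ⟨t, ?_⟩
  rw [← zpow_natCast, ← zpow_mul, ← h2]

/-- for `m ≥ 3` every automorphism of odd order is trivial -/
theorem aut_eq_one_of_odd [Finite X] (hm : 3 ≤ m) (φ : MulAut X) (n : ℕ) (hn : Odd n)
    (hφ : φ ^ n = 1) : φ = 1 := by
  have hm1 : 1 ≤ m := by omega
  have hz2 := D.z_sq hm1
  have hz1 := D.z_ne_one hm1
  -- elements with nontrivial fourth power are of the form `d^i e^j`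
  have h4 : ∀ x : X, x ^ 4 ≠ 1 → ∃ i j : ℤ, x = d ^ i * e ^ j := by
    intro x hx
    obtain ⟨i, j, h | h⟩ := D.hcov x
    · exact ⟨i, j, h⟩
    · exfalso
      apply hx
      rw [h, D.fourth_out hm1]
  have hlt4 : 4 < 2 ^ m :=
    calc 4 = 2 ^ 2 := by norm_num
      _ < 2 ^ m := Nat.pow_lt_pow_right (by norm_num) (by omega)
  have hd4 : d ^ 4 ≠ 1 := by
    apply pow_ne_one_of_lt_orderOf (by norm_num)
    rw [D.hd]; exact hlt4
  have hd2 : d ^ 2 ≠ 1 := by
    apply pow_ne_one_of_lt_orderOf (by norm_num)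
    rw [D.hd]; omega
  obtain ⟨i, j, hφd⟩ := h4 (φ d) (by
    rw [← map_pow]
    intro h
    exact hd4 ((MulEquiv.map_eq_one_iff φ).mp h))
  have hde4 : (d * e) ^ 4 ≠ 1 := by
    rw [D.comm_de.mul_pow]
    have : e ^ 4 = 1 := by
      rw [show (4 : ℕ) = 2 + 2 from rfl, pow_add, pow_two, D.he, one_mul]
    rw [this, mul_one]
    exact hd4
  obtain ⟨i', j', hφde⟩ := h4 (φ (d * e)) (by
    rw [← map_pow]
    intro h
    exact hde4 ((MulEquiv.map_eq_one_iff φ).mp h))
  have hφe : φ e = d ^ (-i + i') * e ^ (-j + j') := by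
    have h1 : φ e = (φ d)⁻¹ * φ (d * e) := by rw [map_mul]; group
    rw [h1, hφd, hφde, D.invA, D.mulA]
  -- `φ` fixes `d²`
  have hord2 : orderOf (d ^ 2) = 2 ^ (m - 1) := by
    rw [orderOf_pow_of_dvd (by norm_num) (by rw [D.hd]; exact dvd_pow_self 2 (by omega)), D.hd]
    obtain ⟨k, rfl⟩ : ∃ k, m = k + 1 := ⟨m - 1, by omega⟩
    rw [pow_succ, Nat.add_sub_cancel]
    exact Nat.mul_div_cancel _ (by norm_num)
  have hφd2' : φ (d ^ 2) = d ^ (i + i) := by
    rw [map_pow, hφd, pow_two, D.mulA, zpow_add e, D.e_zpow_sq, mul_one]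
  have hφd2 : φ (d ^ 2) = d ^ 2 := by
    apply aut_fixes_of_odd_of_mem_zpowers φ n hn hφ (d ^ 2) (m - 1) hord2
    rw [hφd2']
    refine ⟨i, ?_⟩
    show (d ^ 2) ^ i = d ^ (i + i)
    rw [← zpow_natCast, ← zpow_mul, Nat.cast_ofNat, two_mul]
  -- `φ` fixes `z`
  have hφz : φ (d ^ (2 ^ (m - 1))) = d ^ (2 ^ (m - 1)) := by
    have h1 : d ^ (2 ^ (m - 1)) = (d ^ 2) ^ (2 ^ (m - 2)) := by
      rw [← pow_mul, ← pow_succ']
      congr 2
      omega
    rw [h1, map_pow, hφd2]
  -- `φ` fixes `e`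
  have hφe' : φ e = e := by
    have hsq : d ^ ((-i + i') + (-i + i')) = 1 := by
      have h1 : φ e * φ e = 1 := by rw [← map_mul, D.he, map_one]
      rw [hφe, D.mulA, zpow_add e, D.e_zpow_sq, mul_one] at h1
      exact h1
    obtain ⟨t, ht⟩ := D.zpow_eq_z_zpow hm1 _ hsq
    rcases D.e_zpow_cases (-j + j') with hb | hb
    · exfalso
      rw [ht, hb, mul_one, ← hφz, ← map_zpow] at hφe
      have h1 : e = (d ^ (2 ^ (m - 1))) ^ t := φ.injective hφe
      apply D.e_not_mem_zpowers hm1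
      rw [h1]
      exact Subgroup.zpow_mem _ (Subgroup.pow_mem _ (Subgroup.mem_zpowers d) _) _
    · rw [ht, hb] at hφe
      have hc : Commute ((d ^ (2 ^ (m - 1))) ^ t) e := (D.comm_e_z.symm).zpow_left t
      rw [hc.eq] at hφe
      exact aut_fixes_of_odd_of_coset φ n hn hφ (d ^ (2 ^ (m - 1))) e 1
        (by rw [pow_one, pow_two]; exact hz2) hφz t hφe
  -- `φ` fixes `d`
  have hφd' : φ d = d := by
    have hsq : d ^ ((i - 1) + (i - 1)) = 1 := by
      have h1 : d ^ (i + i) = d ^ 2 := by rw [← hφd2', hφd2]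
      have h2 : (i - 1) + (i - 1) = (i + i) + (-2) := by ring
      rw [h2, zpow_add, h1, zpow_neg, ← zpow_natCast]
      exact mul_inv_cancel _
    obtain ⟨t, ht⟩ := D.zpow_eq_z_zpow hm1 _ hsq
    have hdi : d ^ i = d * (d ^ (2 ^ (m - 1))) ^ t := by
      rw [← ht, ← zpow_one_add]
      congr 1
      ring
    have hu : φ ((d ^ (2 ^ (m - 1))) ^ t * e ^ j) = (d ^ (2 ^ (m - 1))) ^ t * e ^ j := by
      rw [map_mul, map_zpow, map_zpow, hφz, hφe']
    have hu2 : ((d ^ (2 ^ (m - 1))) ^ t * e ^ j) ^ (2 ^ 1) = 1 := by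
      have hc : Commute ((d ^ (2 ^ (m - 1))) ^ t) (e ^ j) :=
        ((D.comm_e_z.symm).zpow_left t).zpow_right j
      rw [pow_one, hc.mul_pow, pow_two, pow_two, D.e_zpow_sq, mul_one,
        ← (Commute.refl _).mul_zpow, hz2, one_zpow]
    apply aut_fixes_of_odd_of_coset φ n hn hφ _ d 1 hu2 hu 1
    rw [zpow_one, hφd, hdi, mul_assoc]
  -- `φ` fixes `w`
  have hφA : ∀ a b : ℤ, φ (d ^ a * e ^ b) = d ^ a * e ^ b := by
    intro a b
    rw [map_mul, map_zpow, map_zpow, hφd', hφe']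
  have hφw : φ w = w := by
    obtain ⟨a, b, h | h⟩ := D.hcov (φ w)
    · exfalso
      rw [← hφA] at h
      have hw' : w = d ^ a * e ^ b := φ.injective h
      have hc : Commute w d := by
        rw [hw']
        exact (Commute.zpow_left (Commute.refl d) a).mul_left ((D.comm_de.symm).zpow_left b)
      have h1 : w * d * w⁻¹ = d := by rw [hc.eq, mul_inv_cancel_right]
      rw [D.hwd] at h1
      apply hd2
      rw [pow_two]
      calc d * d = d * d⁻¹ := by rw [h1]
        _ = 1 := mul_inv_cancel d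
    · have h1 : φ w * φ w = 1 := by rw [← map_mul, D.hw, map_one]
      rw [h, D.sq_out] at h1
      have hb : e ^ b = 1 := by
        rcases Int.even_or_odd b with ⟨k, hk⟩ | ⟨k, hk⟩
        · rw [hk, zpow_add, D.e_zpow_sq]
        · exfalso
          apply hz1
          rw [hk, zpow_add, zpow_one, two_mul, zpow_add, ← (Commute.refl _).mul_zpow, hz2,
            one_zpow, one_mul] at h1
          exact h1
      rw [hb, mul_one] at h
      have h2 : φ w = w * d ^ (-a) := by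
        rw [h, ← D.conj_d_zpow, D.w_inv]
        have := D.hw
        calc d ^ a * w = (w * w) * d ^ a * w := by rw [D.hw, one_mul]
          _ = w * (w * d ^ a * w) := by simp only [mul_assoc]
      exact aut_fixes_of_odd_of_coset φ n hn hφ d w m
        (by rw [← D.hd]; exact pow_orderOf_eq_one d) hφd' (-a) h2
  ext x
  obtain ⟨a, b, h | h⟩ := D.hcov x
  · rw [h, hφA]; rfl
  · rw [h, map_mul, hφA, hφw]; rfl

end FermatData

/-- for `m = 1` (dihedral group of order 8) every automorphism of odd order is trivial -/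
theorem FermatData.aut_eq_one_of_odd_one {X : Type*} [Group X] [Finite X] {d e w : X}
    (D : FermatData 1 d e w) (φ : MulAut X) (n : ℕ) (hn : Odd n) (hφ : φ ^ n = 1) : φ = 1 := by
  have hdd : d * d = 1 := by simpa using D.z_sq le_rfl
  have hd1 : d ≠ 1 := by simpa using D.z_ne_one le_rfl
  have hwe : w * e * w⁻¹ = e * d := by simpa using D.hwe
  have hdinv : d⁻¹ = d := inv_eq_of_mul_eq_one_left hdd
  have hwd : w * d = d * w := by
    have h := D.hwd
    rw [hdinv] at h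
    calc w * d = (w * d * w⁻¹) * w := by group
      _ = d * w := by rw [h]
  have hwew : w * e * w = e * d := by
    have h := hwe
    rw [D.w_inv] at h
    exact h
  have hrr : (e * w) * (e * w) = d := by
    calc (e * w) * (e * w) = e * (w * e * w) := by simp only [mul_assoc]
      _ = d := by rw [hwew, ← mul_assoc, D.he, one_mul]
  have hr2 : (e * w) ^ 2 = d := by rw [pow_two, hrr]
  have hr3 : (e * w) ^ 3 = d * e * w := by
    rw [pow_succ, hr2, mul_assoc]
  have hr4 : (e * w) ^ 4 = 1 := by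
    rw [show (4 : ℕ) = 2 + 2 from rfl, pow_add, hr2, hdd]
  have : Fact (Nat.Prime 2) := ⟨Nat.prime_two⟩
  have hord : orderOf (e * w) = 2 ^ 2 := by
    apply orderOf_eq_prime_pow (n := 1)
    · rw [pow_one, hr2]; exact hd1
    · exact hr4
  have hdz : ∀ i : ℤ, d ^ i = 1 ∨ d ^ i = d := by
    intro i
    rcases Int.even_or_odd i with ⟨k, hk⟩ | ⟨k, hk⟩
    · left
      rw [hk, zpow_add, ← (Commute.refl d).mul_zpow, hdd, one_zpow]
    · right
      rw [hk, zpow_add, zpow_one, two_mul, zpow_add, ← (Commute.refl d).mul_zpow, hdd, one_zpow,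
        one_mul]
  have hed : e * d = d * e := D.hed
  have key : ∀ x : X, x ∈ Subgroup.zpowers (e * w) ∨
      (x * x = 1 ∧ ∃ i : ℤ, x = w * (e * w) ^ i) := by
    intro x
    have hmem : ∀ k : ℕ, (e * w) ^ k ∈ Subgroup.zpowers (e * w) := fun k =>
      Subgroup.pow_mem _ (Subgroup.mem_zpowers _) k
    obtain ⟨i, j, h | h⟩ := D.hcov x
    · rcases hdz i with hi | hi <;> rcases D.e_zpow_cases j with hj | hj
      · left
        rw [h, hi, hj, mul_one]
        exact Subgroup.one_mem _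
      · right
        rw [h, hi, hj, one_mul]
        refine ⟨D.he, 3, ?_⟩
        rw [show (3 : ℤ) = ((3 : ℕ) : ℤ) from rfl, zpow_natCast, hr3, ← mul_assoc, ← mul_assoc, hwd,
          mul_assoc d, mul_assoc d, hwew, ← mul_assoc, hed.symm, mul_assoc, hdd, mul_one]
      · left
        rw [h, hi, hj, mul_one, ← hr2]
        exact hmem 2
      · right
        rw [h, hi, hj]
        refine ⟨?_, 1, ?_⟩
        · calc d * e * (d * e) = d * (e * d) * e := by simp only [mul_assoc]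
            _ = d * (d * e) * e := by rw [hed]
            _ = (d * d) * (e * e) := by simp only [mul_assoc]
            _ = 1 := by rw [hdd, D.he, one_mul]
        · rw [zpow_one, ← mul_assoc, hwew, hed]
    · rcases hdz i with hi | hi <;> rcases D.e_zpow_cases j with hj | hj
      · right
        rw [h, hi, hj, one_mul, one_mul]
        exact ⟨D.hw, 0, by rw [zpow_zero, mul_one]⟩
      · left
        rw [h, hi, hj, one_mul]
        exact Subgroup.mem_zpowers _
      · right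
        rw [h, hi, hj, mul_one]
        refine ⟨?_, 2, ?_⟩
        · calc d * w * (d * w) = d * (w * d) * w := by simp only [mul_assoc]
            _ = d * (d * w) * w := by rw [hwd]
            _ = (d * d) * (w * w) := by simp only [mul_assoc]
            _ = 1 := by rw [hdd, D.hw, one_mul]
        · rw [show (2 : ℤ) = ((2 : ℕ) : ℤ) from rfl, zpow_natCast, hr2, hwd]
      · left
        rw [h, hi, hj, ← hr3]
        exact hmem 3
  refine _root_.Cfsg.Agent.Lib.Helper18.aut_eq_one_of_odd (e * w) w 2 hord ?_ ?_ ?_ φ n hn hφ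
  · -- `w ∉ ⟨e w⟩`
    intro hmem
    obtain ⟨t, ht⟩ := hmem
    have ht' : (e * w) ^ t = w := ht
    have hc : Commute ((e * w) ^ t) (e * w) := Commute.zpow_left (Commute.refl (e * w)) t
    rw [ht'] at hc
    have h1 : w * (e * w) = e * w * w := hc.eq
    rw [← mul_assoc, hwew, mul_assoc, D.hw, mul_one] at h1
    have h2 : e * d = e * 1 := by rw [h1, mul_one]
    exact hd1 (mul_left_cancel h2)
  · intro x
    rcases key x with h | ⟨-, i, hi⟩
    · exact Or.inl h
    · exact Or.inr ⟨i, hi⟩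
  · intro x hx
    rcases key x with h | ⟨h2, -⟩
    · exact absurd h hx
    · have h3 : orderOf x ∣ 2 := orderOf_dvd_of_pow_eq_one (by rw [pow_two]; exact h2)
      have := Nat.le_of_dvd (by norm_num) h3
      omega

end Cfsg.Agent.Lib.Helper18
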