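import Mathlib
import Cfsg.Agent.Lib.Helper18.FermatAut

set_option autoImplicit false

/-!
# Monomial 2×2 linear maps `diag(a, b)` and the coordinate swap, as linear equivalences of `K²`
-/

namespace Cfsg.Agent.Lib.Helper18

section Mono

variable {K : Type*} [Field K]

/-- the diagonal map `(x, y) ↦ (a x, b y)` -/
def dgLin (a b : Kˣ) : (Fin 2 → K) ≃ₗ[K] (Fin 2 → K) where
  toFun v := ![(a : K) * v 0, (b : K) * v 1]
  invFun v := ![((a⁻¹ : Kˣ) : K) * v 0, ((b⁻¹ : Kˣ) : K) * v 1]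
  map_add' u v := by ext i; fin_cases i <;> simp [mul_add]
  map_smul' c v := by ext i; fin_cases i <;> simp [mul_left_comm]
  left_inv v := by ext i; fin_cases i <;> simp
  right_inv v := by ext i; fin_cases i <;> simp

/-- the coordinate swap `(x, y) ↦ (y, x)` -/
def swLin : (Fin 2 → K) ≃ₗ[K] (Fin 2 → K) where
  toFun v := ![v 1, v 0]
  invFun v := ![v 1, v 0]
  map_add' u v := by ext i; fin_cases i <;> simp
  map_smul' c v := by ext i; fin_cases i <;> simp
  left_inv v := by ext i; fin_cases i <;> simp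
  right_inv v := by ext i; fin_cases i <;> simp

@[simp] theorem dgLin_apply (a b : Kˣ) (v : Fin 2 → K) :
    dgLin a b v = ![(a : K) * v 0, (b : K) * v 1] := rfl

@[simp] theorem swLin_apply (v : Fin 2 → K) : (swLin (K := K)) v = ![v 1, v 0] := rfl

theorem dgLin_mul (a b a' b' : Kˣ) : dgLin a b * dgLin a' b' = dgLin (a * a') (b * b') := by
  ext v i
  fin_cases i <;> simp [LinearEquiv.mul_apply, mul_assoc]

theorem dgLin_one : dgLin (1 : Kˣ) 1 = 1 := by
  ext v i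
  fin_cases i <;> simp

/-- `dgLin` as a homomorphism -/
def dgHom : Kˣ × Kˣ →* ((Fin 2 → K) ≃ₗ[K] (Fin 2 → K)) where
  toFun p := dgLin p.1 p.2
  map_one' := dgLin_one
  map_mul' p p' := (dgLin_mul p.1 p.2 p'.1 p'.2).symm

theorem dgLin_zpow (a b : Kˣ) (i : ℤ) : dgLin a b ^ i = dgLin (a ^ i) (b ^ i) := by
  have h := map_zpow (dgHom (K := K)) (a, b) i
  exact h.symm

theorem dgLin_pow (a b : Kˣ) (i : ℕ) : dgLin a b ^ i = dgLin (a ^ i) (b ^ i) := by
  have h := map_pow (dgHom (K := K)) (a, b) i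
  exact h.symm

theorem dgLin_inv (a b : Kˣ) : (dgLin a b)⁻¹ = dgLin a⁻¹ b⁻¹ := by
  have h := map_inv (dgHom (K := K)) (a, b)
  exact h.symm

theorem dgLin_injective (a b a' b' : Kˣ) (h : dgLin a b = dgLin a' b') : a = a' ∧ b = b' := by
  have h1 := congrArg (fun f => f ![1, 1]) h
  simp only [dgLin_apply, Matrix.cons_val_zero, Matrix.cons_val_one, mul_one] at h1
  have h0 := congrFun h1 0
  have h1' := congrFun h1 1
  simp at h0 h1'
  exact ⟨Units.ext h0, Units.ext h1'⟩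

theorem swLin_mul_self : swLin (K := K) * swLin = 1 := by
  ext v i
  fin_cases i <;> simp [LinearEquiv.mul_apply]

theorem swLin_inv : (swLin (K := K))⁻¹ = swLin := inv_eq_of_mul_eq_one_left swLin_mul_self

theorem swLin_conj (a b : Kˣ) : swLin * dgLin a b * swLin⁻¹ = dgLin b a := by
  rw [swLin_inv]
  ext v i
  fin_cases i <;> simp [LinearEquiv.mul_apply]

/-- the monomial group over a finite field with `|Kˣ| = 2^m` carries `FermatData` -/
theorem fermatData_of_mono [Finite K] (m : ℕ) (hm : 1 ≤ m) (hK : Nat.card Kˣ = 2 ^ m)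
    (T : Subgroup ((Fin 2 → K) ≃ₗ[K] (Fin 2 → K)))
    (hT : ∀ f, f ∈ T ↔ ∃ a s : Kˣ, (s = 1 ∨ s = -1) ∧
      (f = dgLin a (s * a⁻¹) ∨ f = dgLin (s * a⁻¹) a * swLin)) :
    ∃ d e w : T, FermatData m d e w := by
  obtain ⟨ζ, hζ⟩ := IsCyclic.exists_generator (α := Kˣ)
  have hordζ : orderOf ζ = 2 ^ m := by
    rw [orderOf_eq_card_of_forall_mem_zpowers hζ, hK]
  -- `ζ^(2^(m-1)) = -1`
  have hN : ζ ^ (2 ^ (m - 1)) = -1 := by
    have h1 : ζ ^ (2 ^ (m - 1)) * ζ ^ (2 ^ (m - 1)) = 1 := by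
      rw [← pow_add, ← two_mul, ← pow_succ', Nat.sub_add_cancel hm, ← hordζ, pow_orderOf_eq_one]
    have h2 : ζ ^ (2 ^ (m - 1)) ≠ 1 := by
      apply pow_ne_one_of_lt_orderOf (by positivity)
      rw [hordζ]; exact Nat.pow_lt_pow_right (by norm_num) (by omega)
    have h3 : ((ζ ^ (2 ^ (m - 1)) : Kˣ) : K) * ((ζ ^ (2 ^ (m - 1)) : Kˣ) : K) = 1 := by
      rw [← Units.val_mul, h1, Units.val_one]
    rcases mul_self_eq_one_iff.mp h3 with h4 | h4
    · exact absurd (Units.ext h4) h2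
    · exact Units.ext (by rw [h4, Units.val_neg, Units.val_one])
  have hneg : (-1 : Kˣ) * (-1) = 1 := by rw [neg_mul_neg, one_mul]
  have hd : dgLin ζ ζ⁻¹ ∈ T := (hT _).mpr ⟨ζ, 1, Or.inl rfl, Or.inl (by rw [one_mul])⟩
  have he : dgLin (1 : Kˣ) (-1) ∈ T :=
    (hT _).mpr ⟨1, -1, Or.inr rfl, Or.inl (by rw [inv_one, mul_one])⟩
  have hw : swLin (K := K) ∈ T :=
    (hT _).mpr ⟨1, 1, Or.inl rfl, Or.inr (by rw [inv_one, mul_one, dgLin_one, one_mul])⟩
  -- every `dgLin a (s a⁻¹)` is `d^i e^j`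
  have key : ∀ a s : Kˣ, (s = 1 ∨ s = -1) →
      ∃ i j : ℤ, dgLin a (s * a⁻¹) = dgLin ζ ζ⁻¹ ^ i * dgLin (1 : Kˣ) (-1) ^ j := by
    intro a s hs
    obtain ⟨i, hi⟩ := hζ a
    have hi' : ζ ^ i = a := hi
    rcases hs with rfl | rfl
    · refine ⟨i, 0, ?_⟩
      rw [zpow_zero, mul_one, dgLin_zpow, hi', inv_zpow, hi', one_mul]
    · refine ⟨i, 1, ?_⟩
      rw [zpow_one, dgLin_zpow, dgLin_mul, hi', inv_zpow, hi', mul_one, mul_comm]
  refine ⟨⟨_, hd⟩, ⟨_, he⟩, ⟨_, hw⟩, ?_⟩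
  refine
    { hd := ?_
      he := ?_
      hw := ?_
      hed := ?_
      hwd := ?_
      hwe := ?_
      hcov := ?_ }
  · rw [Subgroup.orderOf_mk, ← hordζ]
    rw [orderOf_eq_orderOf_iff]
    intro n
    rw [dgLin_pow]
    constructor
    · intro h
      rw [← dgLin_one] at h
      exact (dgLin_injective _ _ _ _ h).1
    · intro h
      rw [inv_pow, h, inv_one, dgLin_one]
  · apply Subtype.ext
    show dgLin (1 : Kˣ) (-1) * dgLin (1 : Kˣ) (-1) = 1
    rw [dgLin_mul, one_mul, hneg, dgLin_one]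
  · apply Subtype.ext
    exact swLin_mul_self
  · apply Subtype.ext
    show dgLin (1 : Kˣ) (-1) * dgLin ζ ζ⁻¹ = dgLin ζ ζ⁻¹ * dgLin (1 : Kˣ) (-1)
    rw [dgLin_mul, dgLin_mul, mul_comm, mul_comm (-1 : Kˣ)]
  · apply Subtype.ext
    show swLin * dgLin ζ ζ⁻¹ * swLin⁻¹ = (dgLin ζ ζ⁻¹)⁻¹
    rw [swLin_conj, dgLin_inv, inv_inv]
  · apply Subtype.ext
    show swLin * dgLin (1 : Kˣ) (-1) * swLin⁻¹ =
      dgLin (1 : Kˣ) (-1) * dgLin ζ ζ⁻¹ ^ (2 ^ (m - 1))
    rw [swLin_conj, dgLin_pow, dgLin_mul, inv_pow, hN, one_mul, inv_neg, inv_one, hneg]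
  · rintro ⟨f, hf⟩
    obtain ⟨a, s, hs, h | h⟩ := (hT f).mp hf
    · obtain ⟨i, j, hij⟩ := key a s hs
      refine ⟨i, j, Or.inl ?_⟩
      apply Subtype.ext
      rw [Subgroup.coe_mul, Subgroup.coe_zpow, Subgroup.coe_zpow]
      exact h.trans hij
    · have hs2 : s * s = 1 := by
        rcases hs with rfl | rfl
        · exact one_mul 1
        · exact hneg
      have ha : a = s * (s * a⁻¹)⁻¹ := by
        rw [mul_inv, inv_inv, ← mul_assoc, mul_inv_cancel, one_mul]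
      obtain ⟨i, j, hij⟩ := key (s * a⁻¹) s hs
      rw [← ha] at hij
      refine ⟨i, j, Or.inr ?_⟩
      apply Subtype.ext
      rw [Subgroup.coe_mul, Subgroup.coe_mul, Subgroup.coe_zpow, Subgroup.coe_zpow]
      exact h.trans (by rw [hij])

/-- translation between the field-element description and the unit description -/
theorem mono_bridge (f : (Fin 2 → K) ≃ₗ[K] (Fin 2 → K)) :
    (∃ a s : K, a ≠ 0 ∧ (s = 1 ∨ s = -1) ∧
      ((∀ v, f v = ![a * v 0, s * a⁻¹ * v 1]) ∨ (∀ v, f v = ![s * a⁻¹ * v 1, a * v 0]))) ↔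
    ∃ a s : Kˣ, (s = 1 ∨ s = -1) ∧
      (f = dgLin a (s * a⁻¹) ∨ f = dgLin (s * a⁻¹) a * swLin) := by
  constructor
  · rintro ⟨a, s, ha, hs, h⟩
    have hs' : ∃ s' : Kˣ, (s' : K) = s ∧ (s' = 1 ∨ s' = -1) := by
      rcases hs with rfl | rfl
      · exact ⟨1, Units.val_one, Or.inl rfl⟩
      · exact ⟨-1, by rw [Units.val_neg, Units.val_one], Or.inr rfl⟩
    obtain ⟨s', hs's, hs'c⟩ := hs'
    refine ⟨Units.mk0 a ha, s', hs'c, ?_⟩
    rcases h with h | h
    · left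
      ext v i
      rw [h v]
      fin_cases i <;> simp [hs's]
    · right
      ext v i
      rw [h v]
      fin_cases i <;> simp [LinearEquiv.mul_apply, hs's]
  · rintro ⟨a, s, hs, h⟩
    refine ⟨(a : K), (s : K), a.ne_zero, ?_, ?_⟩
    · rcases hs with rfl | rfl
      · exact Or.inl Units.val_one
      · exact Or.inr (by rw [Units.val_neg, Units.val_one])
    · rcases h with rfl | rfl
      · left
        intro v
        ext i
        fin_cases i <;> simp
      · right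
        intro v
        ext i
        fin_cases i <;> simp [LinearEquiv.mul_apply]

end Mono

/-- a group with at most one non-identity element has trivial automorphism group -/
theorem mulAut_eq_one_of_subsingleton_ne_one {X : Type*} [Group X]
    (h : ∀ x y : X, x ≠ 1 → y ≠ 1 → x = y) (φ : MulAut X) : φ = 1 := by
  ext x
  by_cases hx : x = 1
  · rw [hx, map_one, map_one]
  · have h1 : φ x ≠ 1 := fun h2 => hx ((MulEquiv.map_eq_one_iff φ).mp h2)
    exact h _ _ h1 hx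

end Cfsg.Agent.Lib.Helper18
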