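import Mathlib
import Cfsg.Agent.Lib.Helper17.Basic

/-! Permutation-group lemmas around bounded fixity (every non-identity element fixes at most `k`
points) and Sylow subgroups of point stabilizers. -/

set_option autoImplicit false

namespace Cfsg.Agent.Lib.Helper18

/-- If every non-identity element fixes at most `k < p` points, `P ≠ ⊥`, and the `p`-element `n`
normalizes `P`, then `n` fixes every common fixed point of `P`. -/
theorem smul_eq_of_normalizes_of_fixity {G : Type*} [Group G] {Ω : Type*} [Finite Ω]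
    [MulAction G Ω] (k p : ℕ) (hp : p.Prime) (hkp : k < p)
    (hfix : ∀ g : G, g ≠ 1 → Nat.card (MulAction.fixedBy Ω g) ≤ k)
    (P : Subgroup G) (hP1 : P ≠ ⊥) (n : G) (j : ℕ) (hn : n ^ (p ^ j) = 1)
    (hnorm : ∀ g ∈ P, n⁻¹ * g * n ∈ P) (ω : Ω) (hω : ∀ g ∈ P, g • ω = ω) : n • ω = ω := by
  obtain ⟨⟨g₀, hg₀P⟩, hg₀⟩ := (Subgroup.ne_bot_iff_exists_ne_one).mp hP1
  have hg₀1 : g₀ ≠ 1 := fun h => hg₀ (Subtype.ext h)
  -- powers of n keep the fixed points of P
  have hstep : ∀ ω' : Ω, (∀ g ∈ P, g • ω' = ω') → ∀ g ∈ P, g • (n • ω') = n • ω' := by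
    intro ω' hω' g hg
    have h1 := hω' _ (hnorm g hg)
    calc g • (n • ω') = (n * (n⁻¹ * g * n)) • ω' := by rw [← mul_smul]; congr 1; group
      _ = n • ω' := by rw [mul_smul, h1]
  have hpow : ∀ i : ℕ, ∀ g ∈ P, g • (n ^ i • ω) = n ^ i • ω := by
    intro i
    induction i with
    | zero => simpa using hω
    | succ i ih =>
      intro g hg
      rw [pow_succ', mul_smul]
      exact hstep _ ih g hg
  set m := Function.minimalPeriod (n • · : Ω → Ω) ω with hm
  have hmdvd : m ∣ p ^ j := by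
    apply MulAction.pow_smul_eq_iff_minimalPeriod_dvd.mp
    rw [hn, one_smul]
  have hmle : m ≤ k := by
    let f : Fin m → ↥(MulAction.fixedBy Ω g₀) := fun i => ⟨n ^ (i : ℕ) • ω, hpow i g₀ hg₀P⟩
    have hf : Function.Injective f := by
      intro a b hab
      have h1 : n ^ (a : ℕ) • ω = n ^ (b : ℕ) • ω := congrArg Subtype.val hab
      have h2 : (n • · : Ω → Ω)^[(a : ℕ)] ω = (n • · : Ω → Ω)^[(b : ℕ)] ω := by
        rw [smul_iterate, smul_iterate]; exact h1
      apply Fin.ext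
      exact Function.iterate_injOn_Iio_minimalPeriod (Set.mem_Iio.mpr a.2) (Set.mem_Iio.mpr b.2) h2
    have := Nat.card_le_card_of_injective f hf
    rw [Nat.card_fin] at this
    exact this.trans (hfix g₀ hg₀1)
  have hm1 : m = 1 := by
    obtain ⟨i, -, hi⟩ := (Nat.dvd_prime_pow hp).1 hmdvd
    rcases Nat.eq_zero_or_pos i with h0 | hpos
    · rw [hi, h0, pow_zero]
    · exfalso
      have : p ≤ m := by
        rw [hi]
        calc p = p ^ 1 := (pow_one p).symm
          _ ≤ p ^ i := Nat.pow_le_pow_right hp.pos hpos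
      omega
  exact Function.minimalPeriod_eq_one_iff_isFixedPt.mp hm1

/-- A nontrivial maximal `p`-subgroup of a pointwise stabilizer `K` is a maximal `p`-subgroup of the
whole group, when every non-identity element fixes at most `k < p` points. -/
theorem eq_of_le_pgroup_of_fixity {G : Type*} [Group G] [Finite G] {Ω : Type*} [Finite Ω]
    [MulAction G Ω] (k p : ℕ) [hp : Fact p.Prime] (hkp : k < p)
    (hfix : ∀ g : G, g ≠ 1 → Nat.card (MulAction.fixedBy Ω g) ≤ k)
    (K : Subgroup G) (Δ : Set Ω) (hK : ∀ g : G, g ∈ K ↔ ∀ δ ∈ Δ, g • δ = δ)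
    (P : Subgroup G) (hPK : P ≤ K) (hP1 : P ≠ ⊥)
    (hPmax : ∀ R : Subgroup G, IsPGroup p R → P ≤ R → R ≤ K → R = P)
    (Q : Subgroup G) (hQ : IsPGroup p Q) (hPQ : P ≤ Q) : Q = P := by
  symm
  apply Cfsg.Agent.Lib.Helper17.eq_of_normalizer_inf_le P Q hQ hPQ
  intro n hn
  obtain ⟨hnN, hnQ⟩ := hn
  obtain ⟨j, hj⟩ := hQ ⟨n, hnQ⟩
  have hnj : n ^ (p ^ j) = 1 := by
    have := congrArg Subtype.val hj
    simpa using this
  have hnorm : ∀ g ∈ P, n⁻¹ * g * n ∈ P := by
    intro g hg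
    exact (Subgroup.mem_normalizer_iff''.mp hnN g).mp hg
  have hnK : n ∈ K := by
    rw [hK]
    intro δ hδ
    apply smul_eq_of_normalizes_of_fixity k p hp.out hkp hfix P hP1 n j hnj hnorm
    intro g hg
    exact (hK g).mp (hPK hg) δ hδ
  have hR : Q ⊓ K = P :=
    hPmax (Q ⊓ K) (hQ.to_le inf_le_left) (le_inf hPQ hPK) inf_le_right
  rw [← hR]
  exact ⟨hnQ, hnK⟩

/-- A subgroup `K` of a finite group with `p ∣ |K|` contains a nontrivial `p`-subgroup which is
maximal among the `p`-subgroups of `K` (a Sylow `p`-subgroup of `K`, viewed in `G`). -/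
theorem exists_maximal_pgroup_le {G : Type*} [Group G] [Finite G] (p : ℕ) [hp : Fact p.Prime]
    (K : Subgroup G) (hpK : p ∣ Nat.card K) :
    ∃ P : Subgroup G, IsPGroup p P ∧ P ≤ K ∧ P ≠ ⊥ ∧
      ∀ R : Subgroup G, IsPGroup p R → P ≤ R → R ≤ K → R = P := by
  let P' : Sylow p K := default
  refine ⟨(P' : Subgroup K).map K.subtype, P'.2.map K.subtype, Subgroup.map_subtype_le _, ?_, ?_⟩
  · intro h
    rw [Subgroup.map_eq_bot_iff_of_injective _ K.subtype_injective] at h
    exact P'.ne_bot_of_dvd_card hpK h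
  · intro R hR hPR hRK
    have hR' : IsPGroup p (R.subgroupOf K) := hR.comap_subtype
    have hle : (P' : Subgroup K) ≤ R.subgroupOf K := by
      intro x hx
      rw [Subgroup.mem_subgroupOf]
      exact hPR ⟨x, hx, rfl⟩
    have := P'.is_maximal' hR' hle
    rw [← Subgroup.map_subgroupOf_eq_of_le hRK, this]

end Cfsg.Agent.Lib.Helper18
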