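import Mathlib

/-!
S2318 leaf C10, abstract part (helper18): a linear character of `U` nontrivial on every `X i`, when
`U = Us i * X i`, `Us i ⊴ U`, `X i` abelian, `X i ⊓ Us i = ⊥`, `X i ≠ ⊥`, `X j ≤ Us i` (`j ≠ i`).
-/

set_option autoImplicit false

namespace Cfsg.Agent.Lib.Helper18.GG

/-- one index: a character of `U`, trivial on `Us`, nontrivial on some element of `X` -/
theorem exists_char_one {Γ : Type*} [Group Γ] (U Us X : Subgroup Γ) [Finite U]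
    (hUsU : Us ≤ U) (hXU : X ≤ U)
    (hfac : ∀ u ∈ U, ∃ y ∈ Us, ∃ x ∈ X, u = y * x)
    (hnorm : ∀ u ∈ U, ∀ y ∈ Us, u * y * u⁻¹ ∈ Us)
    (hcomm : ∀ x ∈ X, ∀ x' ∈ X, x * x' = x' * x)
    (hdisj : X ⊓ Us = ⊥) (hne : X ≠ ⊥) :
    ∃ ψ : U →* ℂˣ, (∀ y : U, (y : Γ) ∈ Us → ψ y = 1) ∧ ∃ x : U, (x : Γ) ∈ X ∧ ψ x ≠ 1 := by
  classical
  set N : Subgroup U := Us.subgroupOf U with hN
  haveI hNn : N.Normal := by
    constructor
    intro n hn g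
    rw [hN, Subgroup.mem_subgroupOf] at hn ⊢
    exact hnorm g g.2 n hn
  -- every class is the class of an element of `X`
  have hrep : ∀ a : U ⧸ N, ∃ x : U, (x : Γ) ∈ X ∧ (QuotientGroup.mk x : U ⧸ N) = a := by
    intro a
    obtain ⟨u, rfl⟩ := QuotientGroup.mk_surjective a
    obtain ⟨y, hy, x, hx, hu⟩ := hfac u u.2
    refine ⟨⟨x, hXU hx⟩, hx, ?_⟩
    have e : u = (⟨y, hUsU hy⟩ : U) * ⟨x, hXU hx⟩ := Subtype.ext hu
    rw [e, QuotientGroup.mk_mul]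
    have h1 : (QuotientGroup.mk (⟨y, hUsU hy⟩ : U) : U ⧸ N) = 1 := by
      rw [QuotientGroup.eq_one_iff, hN, Subgroup.mem_subgroupOf]
      exact hy
    rw [h1, one_mul]
  letI : CommGroup (U ⧸ N) :=
    { (inferInstance : Group (U ⧸ N)) with
      mul_comm := fun a b => by
        obtain ⟨x, hx, rfl⟩ := hrep a
        obtain ⟨x', hx', rfl⟩ := hrep b
        rw [← QuotientGroup.mk_mul, ← QuotientGroup.mk_mul]
        congr 1
        exact Subtype.ext (hcomm x hx x' hx') }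
  -- a nontrivial element of `X`
  obtain ⟨x0, hx0, hx01⟩ : ∃ x0 ∈ X, x0 ≠ 1 := by
    by_contra hcon
    push Not at hcon
    exact hne ((Subgroup.eq_bot_iff_forall X).2 hcon)
  have hx0N : (QuotientGroup.mk (⟨x0, hXU hx0⟩ : U) : U ⧸ N) ≠ 1 := by
    intro h1
    rw [QuotientGroup.eq_one_iff, hN, Subgroup.mem_subgroupOf] at h1
    have : x0 ∈ X ⊓ Us := ⟨hx0, h1⟩
    rw [hdisj, Subgroup.mem_bot] at this
    exact hx01 this
  haveI hne' : NeZero ((Monoid.exponent (U ⧸ N) : ℕ) : ℂ) :=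
    ⟨by exact_mod_cast Monoid.exponent_ne_zero_of_finite⟩
  obtain ⟨φ, hφ⟩ := CommGroup.exists_apply_ne_one_of_hasEnoughRootsOfUnity (U ⧸ N) ℂ hx0N
  refine ⟨φ.comp (QuotientGroup.mk' N), ?_, ⟨x0, hXU hx0⟩, hx0, ?_⟩
  · intro y hy
    rw [MonoidHom.comp_apply, QuotientGroup.mk'_apply]
    have h1 : (QuotientGroup.mk y : U ⧸ N) = 1 := by
      rw [QuotientGroup.eq_one_iff, hN, Subgroup.mem_subgroupOf]
      exact hy
    rw [h1, map_one]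
  · rw [MonoidHom.comp_apply, QuotientGroup.mk'_apply]
    exact hφ

/-- all indices at once -/
theorem exists_char_all {Γ : Type*} [Group Γ] {ι : Type*} [Fintype ι] (U : Subgroup Γ) [Finite U]
    (Us X : ι → Subgroup Γ)
    (hUsU : ∀ i, Us i ≤ U) (hXU : ∀ i, X i ≤ U)
    (hfac : ∀ i, ∀ u ∈ U, ∃ y ∈ Us i, ∃ x ∈ X i, u = y * x)
    (hnorm : ∀ i, ∀ u ∈ U, ∀ y ∈ Us i, u * y * u⁻¹ ∈ Us i)
    (hcomm : ∀ i, ∀ x ∈ X i, ∀ x' ∈ X i, x * x' = x' * x)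
    (hdisj : ∀ i, X i ⊓ Us i = ⊥) (hne : ∀ i, X i ≠ ⊥)
    (hXUs : ∀ i j, j ≠ i → X j ≤ Us i) :
    ∃ ψ : U →* ℂˣ, ∀ i, ∃ x : U, (x : Γ) ∈ X i ∧ ψ x ≠ 1 := by
  classical
  choose ψ hψ1 hψ2 using fun i =>
    exists_char_one U (Us i) (X i) (hUsU i) (hXU i) (hfac i) (hnorm i) (hcomm i) (hdisj i) (hne i)
  refine ⟨∏ i, ψ i, fun i => ?_⟩
  obtain ⟨x, hx, hxne⟩ := hψ2 i
  refine ⟨x, hx, ?_⟩
  rw [MonoidHom.finset_prod_apply, Finset.prod_eq_single i]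
  · exact hxne
  · intro j _ hji
    exact hψ1 j x (hXUs j i (Ne.symm hji) hx)
  · intro hi
    exact absurd (Finset.mem_univ i) hi

end Cfsg.Agent.Lib.Helper18.GG
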