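import Mathlib
import Cfsg.Agent.Lib.Helper27.GGChevDefs
import Cfsg.Agent.Lib.Helper6.ChevStX1
import Cfsg.Agent.Lib.Helper7.ChevUp
import Cfsg.Agent.Lib.Helper7.ChevRank1
import Cfsg.Agent.Lib.Helper11.RegCent
import Cfsg.Agent.Lib.Lead.SteinF
import Cfsg.Agent.Lib.Helper18.GGC10abs
import Cfsg.Agent.Lib.Helper24.GGC2

/-!
S2318 leaf C10 (helper18): a linear character of `U` nontrivial on every fundamental root subgroup.
`U / Usc i` is abelian (image of `X i`), nontrivial (`X i ⊓ Usc i = ⊥`): take any character separating a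
nontrivial element of `X i`, and multiply over `i`.
-/

set_option autoImplicit false

namespace Cfsg.Agent.Lib.Helper18.GG

open Cfsg Cfsg.Lie Cfsg.Agent.Lib.Helper7 Cfsg.Agent.Lib.Helper6.ChevSt Cfsg.Agent.Lib.Helper6.ChevStX1
open Cfsg.Agent.Lib.Helper27.GG

variable (D : ChevalleyDatum) (hD : D ∈ [chevG2, chevB2, chevD4, chevF4, chevE6, chevE7, chevE8])
variable (F : Type*) [Field F]
variable [Fintype F]
include hD

/-- `U = Usc i * Xc i` (own copy of leaf C1, so that this file depends on C2 only) -/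
theorem hXU_aux (i : Fin D.rank) : ∀ u ∈ Uc D F, ∃ y ∈ Usc D F i, ∃ x ∈ Xc D F i, u = y * x := by
  intro u hu
  rw [Subgroup.mem_subgroupOf] at hu
  have hLE : D.rootSubgroup F (D.simple i) ≤ Subgroup.normalizer (upSubgroup D F i : Set (GL D.Idx F)) :=
    le_trans le_sup_left (rootSubgroup_le_normalizer_up D hD F i i.2)
  have hset := Subgroup.coe_mul_of_right_le_normalizer_left (upSubgroup D F i)
    (D.rootSubgroup F (D.simple i)) hLE
  rw [up_sup_rootSubgroup D hD F i i.2] at hset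
  have hu' : (u : GL D.Idx F) ∈ ((D.posUnipotent F : Subgroup (GL D.Idx F)) : Set (GL D.Idx F)) := hu
  rw [hset] at hu'
  obtain ⟨y, hy, x, hx, hyx⟩ := Set.mem_mul.1 hu'
  have hup : upSubgroup D F i ≤ D.posUnipotent F := by
    rw [← up_sup_rootSubgroup D hD F i i.2]; exact le_sup_left
  have hroot : D.rootSubgroup F (D.simple i) ≤ D.posUnipotent F := by
    rw [← up_sup_rootSubgroup D hD F i i.2]; exact le_sup_right
  have hyG : y ∈ D.group F := posUnipotent_le_group D hD F (hup hy)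
  have hxG : x ∈ D.group F := posUnipotent_le_group D hD F (hroot hx)
  refine ⟨⟨y, hyG⟩, Subgroup.mem_subgroupOf.2 hy, ⟨x, hxG⟩, Subgroup.mem_subgroupOf.2 hx, ?_⟩
  exact Subtype.ext hyx.symm

/-- **C10** -/
theorem chev_psi : ∃ ψ : ↥(Uc D F) →* ℂˣ, ∀ i : Fin D.rank,
    ∃ x : ↥(Uc D F), (x : ↥(D.group F)) ∈ Xc D F i ∧ ψ x ≠ 1 := by
  haveI := finite_group D F
  have hup : ∀ i : Fin D.rank, upSubgroup D F i ≤ D.posUnipotent F := fun i => by
    rw [← up_sup_rootSubgroup D hD F i i.2]; exact le_sup_left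
  have hroot : ∀ i : Fin D.rank, D.rootSubgroup F (D.simple i) ≤ D.posUnipotent F := fun i => by
    rw [← up_sup_rootSubgroup D hD F i i.2]; exact le_sup_right
  apply exists_char_all (Uc D F) (fun i : Fin D.rank => Usc D F i) (fun i : Fin D.rank => Xc D F i)
  · intro i x hx
    rw [Subgroup.mem_subgroupOf] at hx ⊢
    exact hup i hx
  · intro i x hx
    rw [Subgroup.mem_subgroupOf] at hx ⊢
    exact hroot i hx
  · intro i
    exact hXU_aux D hD F i
  · intro i u hu y hy
    rw [Subgroup.mem_subgroupOf] at hu hy ⊢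
    have hN : D.posUnipotent F ≤ Subgroup.normalizer (upSubgroup D F i : Set (GL D.Idx F)) := by
      rw [← up_sup_rootSubgroup D hD F i i.2]
      apply sup_le Subgroup.le_normalizer
      exact le_trans le_sup_left (rootSubgroup_le_normalizer_up D hD F i i.2)
    have h1 := hN hu
    rw [Subgroup.mem_normalizer_iff] at h1
    have h2 := (h1 _).1 hy
    simpa using h2
  · intro i x hx x' hx'
    rw [Subgroup.mem_subgroupOf] at hx hx'
    obtain ⟨t, ht⟩ := (mem_rootSubgroup_iff D hD F _ _).1 hx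
    obtain ⟨t', ht'⟩ := (mem_rootSubgroup_iff D hD F _ _).1 hx'
    apply Subtype.ext
    rw [Subgroup.coe_mul, Subgroup.coe_mul, ht, ht', xGL_mul, xGL_mul, add_comm]
  · intro i
    exact Cfsg.Agent.Lib.Helper24.GG.chev_hXUs D hD F i
  · intro i hbot
    have hlt : D.simple i < D.nroots := Cfsg.Agent.Lib.Lead.Stein.simple_lt D hD i i.2
    have hmem : (⟨xGL D hD F (D.simple i) 1, xGL_mem_group D hD F _ _⟩ : ↥(D.group F)) ∈ Xc D F i := by
      rw [Subgroup.mem_subgroupOf]
      exact (mem_rootSubgroup_iff D hD F _ _).2 ⟨1, rfl⟩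
    rw [hbot, Subgroup.mem_bot] at hmem
    have h1 : xGL D hD F (D.simple i) 1 = 1 := congrArg Subtype.val hmem
    rw [← xGL_zero D hD F (D.simple i)] at h1
    exact one_ne_zero (Cfsg.Agent.Lib.Helper11.RegCent.xGL_injective D hD F _ hlt _ _ h1)
  · intro i j hji x hx
    rw [Subgroup.mem_subgroupOf] at hx ⊢
    obtain ⟨t, ht⟩ := (mem_rootSubgroup_iff D hD F _ _).1 hx
    rw [ht]
    apply Subgroup.subset_closure
    refine ⟨D.simple j, t, (parFacts_of_mem D hD).simplePos j j.2, ?_, coe_xGL D hD F _ t⟩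
    intro h
    exact hji (Fin.ext (Cfsg.Agent.Lib.Lead.Stein.simple_inj D hD j i j.2 i.2 h))

end Cfsg.Agent.Lib.Helper18.GG
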