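import Mathlib

/-!
helper18: `GL(5,2)`: its order, and it has no element of order 9 (its Sylow 3-subgroups are
elementary abelian of order 9).  Sections: orders divide, elements of prime-power order lift.
-/

set_option autoImplicit false

namespace Cfsg.Agent.Lib.Helper18

open Matrix

theorem card_GL52 : Nat.card (GL (Fin 5) (ZMod 2)) = 9999360 := by
  rw [Matrix.card_GL_field]
  simp [Fin.prod_univ_five, ZMod.card]

/-- an element of order 3 of `GL(5,2)` (block `[[0,1],[1,1]]` in the first two coordinates) -/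
def matA52 : Matrix (Fin 5) (Fin 5) (ZMod 2) :=
  !![0,1,0,0,0; 1,1,0,0,0; 0,0,1,0,0; 0,0,0,1,0; 0,0,0,0,1]

/-- a second, commuting, element of order 3 of `GL(5,2)` -/
def matB52 : Matrix (Fin 5) (Fin 5) (ZMod 2) :=
  !![1,0,0,0,0; 0,1,0,0,0; 0,0,0,1,0; 0,0,1,1,0; 0,0,0,0,1]

/-- `matA52` as a unit -/
def glA52 : GL (Fin 5) (ZMod 2) := ⟨matA52, matA52 * matA52, by decide, by decide⟩

/-- `matB52` as a unit -/
def glB52 : GL (Fin 5) (ZMod 2) := ⟨matB52, matB52 * matB52, by decide, by decide⟩

theorem glA52_cube : glA52 * glA52 * glA52 = 1 := Units.ext (by decide)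
theorem glB52_cube : glB52 * glB52 * glB52 = 1 := Units.ext (by decide)
theorem glAB52_comm : glA52 * glB52 = glB52 * glA52 := Units.ext (by decide)
theorem glA52_ne_one : glA52 ≠ 1 := fun h => absurd (congrArg Units.val h) (by decide)
theorem glB52_ne_one : glB52 ≠ 1 := fun h => absurd (congrArg Units.val h) (by decide)
theorem glB52_ne_A : glB52 ≠ glA52 := fun h => absurd (congrArg Units.val h) (by decide)
theorem glB52_ne_AA : glB52 ≠ glA52 * glA52 := fun h => absurd (congrArg Units.val h) (by decide)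

/-- a finite cyclic group cannot contain commuting-independent elements `1, a, a², b` of
exponent 3 -/
theorem not_isCyclic_of_four_cubes {P : Type*} [Group P] [Finite P] [IsCyclic P] (a b : P)
    (ha : a * a * a = 1) (hb : b * b * b = 1) (ha1 : a ≠ 1) (hb1 : b ≠ 1) (hba : b ≠ a)
    (hbaa : b ≠ a * a) : False := by
  classical
  have : Fintype P := Fintype.ofFinite P
  have h := IsCyclic.card_pow_eq_one_le (α := P) (n := 3) (by norm_num)
  have haa1 : a * a ≠ 1 := by
    intro h1
    apply ha1
    rw [h1, one_mul] at ha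
    exact ha
  have haaa : a * a ≠ a := by
    intro h1
    apply ha1
    have : a * a = a * 1 := by rw [h1, mul_one]
    exact mul_left_cancel this
  have hsub : ({1, a, a * a, b} : Finset P) ⊆ Finset.univ.filter (fun x : P => x ^ 3 = 1) := by
    intro x hx
    simp only [Finset.mem_insert, Finset.mem_singleton] at hx
    simp only [Finset.mem_filter, Finset.mem_univ, true_and]
    rcases hx with rfl | rfl | rfl | rfl
    · simp
    · rw [pow_succ, pow_two]; exact ha
    · rw [pow_succ, pow_two]
      calc a * a * (a * a) * (a * a) = (a * a * a) * (a * a * a) := by simp only [mul_assoc]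
        _ = 1 := by rw [ha, one_mul]
    · rw [pow_succ, pow_two]; exact hb
  have hcard : ({1, a, a * a, b} : Finset P).card = 4 := by
    rw [Finset.card_insert_of_notMem, Finset.card_insert_of_notMem, Finset.card_insert_of_notMem,
      Finset.card_singleton]
    · simp only [Finset.mem_singleton]; exact fun h => hbaa h.symm
    · simp only [Finset.mem_insert, Finset.mem_singleton, not_or]
      exact ⟨fun h => haaa h.symm, fun h => hba h.symm⟩
    · simp only [Finset.mem_insert, Finset.mem_singleton, not_or]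
      exact ⟨fun h => ha1 h.symm, fun h => haa1 h.symm, fun h => hb1 h.symm⟩
  have := Finset.card_le_card hsub
  omega

/-- `GL(5,2)` has no element of order 9. -/
theorem orderOf_ne_nine_GL52 (g : GL (Fin 5) (ZMod 2)) : orderOf g ≠ 9 := by
  intro hg
  have : Fact (Nat.Prime 3) := ⟨by norm_num⟩
  have : Finite (GL (Fin 5) (ZMod 2)) := Nat.finite_of_card_ne_zero (by rw [card_GL52]; norm_num)
  -- `Q = ⟨g⟩` is a Sylow 3-subgroup
  have hQcard : Nat.card (Subgroup.zpowers g) = 3 ^ 2 := by rw [Nat.card_zpowers, hg]; norm_num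
  have hQp : IsPGroup 3 (Subgroup.zpowers g) := IsPGroup.of_card hQcard
  obtain ⟨Q', hQ'⟩ := hQp.exists_le_sylow
  obtain ⟨k, hk⟩ := IsPGroup.iff_card.mp Q'.2
  have hk2 : k = 2 := by
    have h1 : 3 ^ k ∣ 9999360 := by
      rw [← hk, ← card_GL52]; exact Subgroup.card_subgroup_dvd_card _
    have h2 : 3 ^ 2 ∣ 3 ^ k := by
      rw [← hk, ← hQcard]; exact Subgroup.card_dvd_of_le hQ'
    have h3 : 2 ≤ k := (Nat.pow_dvd_pow_iff_le_right (by norm_num)).mp h2
    by_contra hne
    have h4 : 3 ≤ k := by omega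
    have h5 : 3 ^ 3 ∣ 9999360 := (Nat.pow_dvd_pow 3 h4).trans h1
    norm_num at h5
  have hQ'eq : Subgroup.zpowers g = (Q' : Subgroup (GL (Fin 5) (ZMod 2))) := by
    apply Subgroup.eq_of_le_of_card_ge hQ'
    rw [hk, hk2, hQcard]
  -- `⟨a, b⟩` is a 3-group, inside a Sylow `P`
  have hA : IsPGroup 3 (Subgroup.zpowers glA52) := by
    apply IsPGroup.of_card (n := 1)
    rw [Nat.card_zpowers, pow_one]
    apply orderOf_eq_prime
    · rw [pow_succ, pow_two]; exact glA52_cube
    · exact glA52_ne_one
  have hB : IsPGroup 3 (Subgroup.zpowers glB52) := by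
    apply IsPGroup.of_card (n := 1)
    rw [Nat.card_zpowers, pow_one]
    apply orderOf_eq_prime
    · rw [pow_succ, pow_two]; exact glB52_cube
    · exact glB52_ne_one
  have hnorm : Subgroup.zpowers glA52 ≤ Subgroup.normalizer (Subgroup.zpowers glB52 : Set _) := by
    refine le_trans ?_ (Subgroup.centralizer_le_normalizer _)
    rw [Subgroup.zpowers_le, Subgroup.zpowers_eq_closure, Subgroup.centralizer_closure,
      Subgroup.mem_centralizer_singleton_iff]
    exact glAB52_comm
  have hAB : IsPGroup 3 (Subgroup.zpowers glA52 ⊔ Subgroup.zpowers glB52 : Subgroup _) :=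
    IsPGroup.to_sup_of_normal_right' hA hB hnorm
  obtain ⟨P, hP⟩ := hAB.exists_le_sylow
  obtain ⟨c, hc⟩ := MulAction.exists_smul_eq (GL (Fin 5) (ZMod 2)) Q' P
  have hcyc : IsCyclic (P : Subgroup (GL (Fin 5) (ZMod 2))) := by
    have h1 : IsCyclic (Q' : Subgroup (GL (Fin 5) (ZMod 2))) := by
      rw [← hQ'eq]; infer_instance
    rw [← hc]
    exact (Sylow.equivSMul Q' c).isCyclic.mp h1
  have haP : glA52 ∈ (P : Subgroup (GL (Fin 5) (ZMod 2))) :=
    hP ((le_sup_left : Subgroup.zpowers glA52 ≤ _) (Subgroup.mem_zpowers _))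
  have hbP : glB52 ∈ (P : Subgroup (GL (Fin 5) (ZMod 2))) :=
    hP ((le_sup_right : Subgroup.zpowers glB52 ≤ _) (Subgroup.mem_zpowers _))
  refine not_isCyclic_of_four_cubes (P := (P : Subgroup (GL (Fin 5) (ZMod 2))))
    ⟨glA52, haP⟩ ⟨glB52, hbP⟩ ?_ ?_ ?_ ?_ ?_ ?_
  · exact Subtype.ext glA52_cube
  · exact Subtype.ext glB52_cube
  · exact fun h => glA52_ne_one (congrArg Subtype.val h)
  · exact fun h => glB52_ne_one (congrArg Subtype.val h)
  · exact fun h => glB52_ne_A (congrArg Subtype.val h)
  · exact fun h => glB52_ne_AA (congrArg Subtype.val h)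

/-- orders of sections divide the order of the group -/
theorem card_section_dvd {G : Type*} [Group G] (H : Subgroup G) (K : Subgroup H) [K.Normal] :
    Nat.card (H ⧸ K) ∣ Nat.card G :=
  (Subgroup.card_quotient_dvd_card K).trans (Subgroup.card_subgroup_dvd_card H)

/-- an element of order `m` in a section of a finite group gives an element of order `m` in the
group -/
theorem exists_orderOf_eq_of_section {G : Type*} [Group G] [Finite G] (H : Subgroup G)
    (K : Subgroup H) [K.Normal] (x : H ⧸ K) : ∃ g : G, orderOf g = orderOf x := by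
  obtain ⟨h, rfl⟩ := QuotientGroup.mk_surjective x
  have hdvd : orderOf (h : H ⧸ K) ∣ orderOf h := by
    apply orderOf_dvd_of_pow_eq_one
    rw [← QuotientGroup.mk_pow, pow_orderOf_eq_one, QuotientGroup.mk_one]
  obtain ⟨k, hk⟩ := hdvd
  have h0 : 0 < orderOf h := orderOf_pos h
  refine ⟨((h ^ k : H) : G), ?_⟩
  rw [Subgroup.orderOf_coe]
  have hk0 : 0 < k := by
    rcases Nat.eq_zero_or_pos k with rfl | hk0
    · rw [mul_zero] at hk; omega
    · exact hk0
  rw [orderOf_pow' h hk0.ne', hk, Nat.gcd_eq_right (Dvd.intro_left _ rfl),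
    Nat.mul_div_cancel _ hk0]

/-- a finite field of order `2 ^ a` has characteristic 2 -/
theorem charP_two_of_card_two_pow {F : Type*} [Field F] [Fintype F] {a : ℕ}
    (hF : Fintype.card F = 2 ^ a) : CharP F 2 := by
  have hc : (ringChar F).Prime := CharP.char_is_prime F (ringChar F)
  have : Fact (ringChar F).Prime := ⟨hc⟩
  obtain ⟨n, hcard⟩ := FiniteField.card F (ringChar F)
  rw [hF] at hcard
  have hdvd : ringChar F ∣ 2 ^ a := by
    rw [hcard.2]
    exact dvd_pow_self _ (by exact_mod_cast n.ne_zero)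
  have h2 : ringChar F = 2 :=
    (Nat.prime_dvd_prime_iff_eq hc Nat.prime_two).1 (hc.dvd_of_dvd_pow hdvd)
  have := ringChar.charP F
  rwa [h2] at this

/-- `PSL(2, F) ≃* SL(2, F)` in characteristic 2 -/
noncomputable def pslTwoEquivSL {F : Type*} [Field F] [CharP F 2] :
    Matrix.ProjectiveSpecialLinearGroup (Fin 2) F ≃* Matrix.SpecialLinearGroup (Fin 2) F :=
  have hbot : Subgroup.center (Matrix.SpecialLinearGroup (Fin 2) F) = ⊥ := by
    have : Fact (Nat.Prime 2) := ⟨Nat.prime_two⟩
    rw [eq_bot_iff]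
    intro A hA
    rw [Matrix.SpecialLinearGroup.mem_center_iff] at hA
    obtain ⟨r, hr, hA⟩ := hA
    rw [Fintype.card_fin] at hr
    have hr1 : r = 1 := by
      apply frobenius_inj F 2
      rw [frobenius_def, frobenius_def, hr, one_pow]
    rw [Subgroup.mem_bot]
    apply Subtype.ext
    rw [← hA, hr1]
    simp
  (QuotientGroup.quotientMulEquivOfEq hbot).trans QuotientGroup.quotientBot

end Cfsg.Agent.Lib.Helper18
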