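import Mathlib
import Cfsg.Agent.Lib.Helper18.Glaub2Defs

set_option autoImplicit false

/-!
GLAUB2 market (S4385), leaf A4: transport of `Q ⊔ x Q x⁻¹ = ⊤` from `↥H` to the ambient group.
-/

namespace Cfsg.Agent.Lib.Helper18.GLAUB2A4

open Cfsg Cfsg.Agent.Lib.Helper18.Sims3 Cfsg.Agent.Lib.Helper18.Glaub

variable {G : Type*} [Group G]

/-- LEAF A4 (transport of the generating conjugate to the ambient group). -/
theorem transport_gen (H P : Subgroup G) (hPH : P ≤ H) (x : ↥H)
    (h : P.subgroupOf H ⊔ (P.subgroupOf H).map (MulAut.conj x).toMonoidHom = ⊤) :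
    P ⊔ cj (x : G) P = H := by
  have h1 := congrArg (Subgroup.map H.subtype) h
  rw [Subgroup.map_sup, Subgroup.map_subgroupOf_eq_of_le hPH, ← MonoidHom.range_eq_map,
    Subgroup.range_subtype, Subgroup.map_map] at h1
  have h2 : (P.subgroupOf H).map (H.subtype.comp (MulAut.conj x).toMonoidHom) = cj (x : G) P := by
    have e : H.subtype.comp (MulAut.conj x).toMonoidHom =
        ((MulAut.conj (x : G)).toMonoidHom).comp H.subtype := by
      ext z
      simp [MulAut.conj_apply]
    rw [e, ← Subgroup.map_map, Subgroup.map_subgroupOf_eq_of_le hPH]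
  rw [h2] at h1
  exact h1

end Cfsg.Agent.Lib.Helper18.GLAUB2A4
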