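import Mathlib
import Cfsg.Agent.Lib.Helper18.Glaub2Defs
import Cfsg.Agent.Lib.Helper4.Basic

set_option autoImplicit false

/-!
GLAUB2 market (S4385), leaf B0: two Sylow 2-subgroups `P`, `x P x⁻¹` generating `H` meet in `O₂(H)`.
-/

namespace Cfsg.Agent.Lib.Helper18.GLAUB2B0

open Cfsg Cfsg.Agent.Lib.Helper18.Sims3 Cfsg.Agent.Lib.Helper18.Glaub

variable {G : Type*} [Group G]

/-- LEAF B0 (`P ⊓ x P x⁻¹ = O₂(H)`). -/
theorem inf_cj_eq [Finite G] (H P T : Subgroup G) (n : ℕ) (hn : 3 ≤ n) (hTP : T ≤ P)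
    (hcP : Nat.card ↥P = 2 * Nat.card ↥T) (hcH : Nat.card ↥H = 2 * n * Nat.card ↥T)
    (hNT : H ≤ Subgroup.normalizer (T : Set G)) (x : G) (hx : x ∈ H) (hgen : P ⊔ cj x P = H) :
    P ⊓ cj x P = T := by
  have hT' : T ≤ cj x P := by
    intro t ht
    have hxn : x⁻¹ ∈ Subgroup.normalizer (T : Set G) := Subgroup.inv_mem _ (hNT hx)
    have h1 := (Subgroup.mem_normalizer_iff.mp hxn t).mp ht
    rw [inv_inv] at h1
    refine ⟨x⁻¹ * t * x, hTP h1, ?_⟩
    simp [MulAut.conj_apply]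
    group
  have hle : T ≤ P ⊓ cj x P := le_inf hTP hT'
  have hpos : 0 < Nat.card ↥T := Nat.card_pos
  have hcj : Nat.card ↥(cj x P) = Nat.card ↥P :=
    (Nat.card_congr (P.equivMapOfInjective _ (MulAut.conj x).injective).toEquiv).symm
  by_cases hD : P ⊓ cj x P = P
  · exfalso
    have h1 : P ≤ cj x P := by
      have h0 : P ⊓ cj x P ≤ cj x P := inf_le_right
      rwa [hD] at h0
    have h2 : P = cj x P := Subgroup.eq_of_le_of_card_ge h1 (by rw [hcj])
    have hPH : P = H := by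
      rw [← hgen, ← h2]
      exact (sup_idem P).symm
    rw [← hPH, hcP] at hcH
    have h3 : 2 * Nat.card ↥T * 1 = 2 * Nat.card ↥T * n := by
      rw [mul_one]
      calc 2 * Nat.card ↥T = 2 * n * Nat.card ↥T := hcH
        _ = 2 * Nat.card ↥T * n := by ring
    have h4 := Nat.eq_of_mul_eq_mul_left (by omega) h3
    omega
  · symm
    apply Subgroup.eq_of_le_of_card_ge hle
    have h1 := Helper4.card_mul_relIndex hle
    have h2 := Helper4.card_mul_relIndex (inf_le_left : P ⊓ cj x P ≤ P)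
    rw [hcP] at h2
    have hne1 : (P ⊓ cj x P).relIndex P ≠ 1 := by
      intro h
      rw [h, mul_one] at h2
      apply hD
      exact Subgroup.eq_of_le_of_card_ge inf_le_left (by rw [h2, hcP])
    have hpos2 : 0 < (P ⊓ cj x P).relIndex P := by
      rcases Nat.eq_zero_or_pos ((P ⊓ cj x P).relIndex P) with h0 | h0
      · rw [h0, mul_zero] at h2
        omega
      · exact h0
    have hge2 : 2 ≤ (P ⊓ cj x P).relIndex P := by omega
    have : Nat.card ↥(P ⊓ cj x P) * 2 ≤ 2 * Nat.card ↥T := by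
      calc Nat.card ↥(P ⊓ cj x P) * 2 ≤ Nat.card ↥(P ⊓ cj x P) * (P ⊓ cj x P).relIndex P :=
            Nat.mul_le_mul_left _ hge2
        _ = 2 * Nat.card ↥T := h2
    omega

end Cfsg.Agent.Lib.Helper18.GLAUB2B0
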