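import Mathlib
import Cfsg.Agent.Lib.Helper18.Glaub2Defs
import Cfsg.Agent.Lib.Helper16.SIMST1
import Cfsg.Agent.Lib.Helper12.SIMST2B1

set_option autoImplicit false

/-!
GLAUB2 market (S4385), leaf B1: the shift element `x * y` normalizes no non-identity normal
subgroup of `P`.
-/

namespace Cfsg.Agent.Lib.Helper18.GLAUB2B1

open Cfsg Cfsg.Agent.Lib.Helper18.Sims3 Cfsg.Agent.Lib.Helper18.Glaub
open Cfsg.Agent.Lib.Helper16.SIMST1 (mem_cj_iff mem_normalizer_of_cj_eq)
open Cfsg.Agent.Lib.Helper12.SIMST2B1 (cj_mul)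

variable {G : Type*} [Group G]

theorem cj_eq_of_mem_normalizer {S : Subgroup G} {s : G}
    (h : s ∈ Subgroup.normalizer (S : Set G)) : cj s S = S := by
  ext z
  rw [mem_cj_iff]
  have hs : s⁻¹ ∈ Subgroup.normalizer (S : Set G) := Subgroup.inv_mem _ h
  have := Subgroup.mem_normalizer_iff.mp hs z
  rw [inv_inv] at this
  exact this.symm

theorem cj_le_normalizer {S N : Subgroup G} {s : G} (hs : s ∈ N) (hS : S ≤ N) : cj s S ≤ N := by
  rintro _ ⟨p, hp, rfl⟩
  simp only [MulEquiv.coe_toMonoidHom, MulAut.conj_apply]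
  exact N.mul_mem (N.mul_mem hs (hS hp)) (N.inv_mem hs)

/-- LEAF B1 (`x * y` normalizes no non-identity normal subgroup of `P`). -/
theorem h1_of_gen (H P : Subgroup G) (x y : G) (hx : x ∈ H) (hgen : P ⊔ cj x P = H)
    (hyN : cj y P = P)
    (hyQ : ∀ Q : Subgroup G, Q ≤ P → (Q.subgroupOf H).Normal → cj y Q = Q → Q = ⊥) :
    ∀ Q : Subgroup G, Q ≤ P → (Q.subgroupOf P).Normal → cj (x * y) Q = Q → Q = ⊥ := by
  intro Q hQP hQn hQγ
  have hPH : P ≤ H := by
    rw [← hgen]
    exact le_sup_left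
  have hPn : P ≤ Subgroup.normalizer (Q : Set G) :=
    (Subgroup.normal_subgroupOf_iff_le_normalizer hQP).mp hQn
  have hγn : x * y ∈ Subgroup.normalizer (Q : Set G) := mem_normalizer_of_cj_eq hQγ
  have hcj : cj (x * y) P = cj x P := by rw [cj_mul, hyN]
  have hxPn : cj x P ≤ Subgroup.normalizer (Q : Set G) := by
    rw [← hcj]
    exact cj_le_normalizer hγn hPn
  have hHn : H ≤ Subgroup.normalizer (Q : Set G) := by
    rw [← hgen]
    exact sup_le hPn hxPn
  have hxn : x ∈ Subgroup.normalizer (Q : Set G) := hHn hx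
  have hyn : y ∈ Subgroup.normalizer (Q : Set G) := by
    have : y = x⁻¹ * (x * y) := by group
    rw [this]
    exact Subgroup.mul_mem _ (Subgroup.inv_mem _ hxn) hγn
  exact hyQ Q hQP ((Subgroup.normal_subgroupOf_iff_le_normalizer (hQP.trans hPH)).mpr hHn)
    (cj_eq_of_mem_normalizer hyn)

end Cfsg.Agent.Lib.Helper18.GLAUB2B1
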