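import Mathlib
import Cfsg.Agent.Lib.Helper18.Glaub2Defs

set_option autoImplicit false

/-!
GLAUB2 market (S4385), leaf CONJ: conjugating a generator sequence by an element commuting with the
shift element gives generator data again, with conjugate interval subgroups.
-/

namespace Cfsg.Agent.Lib.Helper18.GLAUB2CONJ

open Cfsg Cfsg.Agent.Lib.Helper18.Sims3 Cfsg.Agent.Lib.Helper18.Glaub

variable {G : Type*} [Group G]

theorem Hx_conj (x : ℕ → G) (u : G) (i j : ℕ) :
    Hx (fun i => u * x i * u⁻¹) i j = cj u (Hx x i j) := by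
  unfold Hx
  show _ = (Subgroup.closure (x '' Set.Icc i j)).map (MulAut.conj u).toMonoidHom
  rw [MonoidHom.map_closure]
  congr 1
  ext z
  constructor
  · rintro ⟨k, hk, rfl⟩
    exact ⟨x k, ⟨k, hk, rfl⟩, by simp [MulAut.conj_apply]⟩
  · rintro ⟨_, ⟨k, hk, rfl⟩, rfl⟩
    exact ⟨k, hk, by simp [MulAut.conj_apply]⟩

/-- LEAF CONJ (conjugating the generator sequence by an element commuting with `g`). -/
theorem pdata_conj {p : ℕ} {g : G} {x : ℕ → G} {t : ℕ} (h : PData p g x t) (u : G)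
    (hu : Commute u g) :
    PData p g (fun i => u * x i * u⁻¹) t ∧
    ∀ i j, Hx (fun i => u * x i * u⁻¹) i j = cj u (Hx x i j) := by
  refine ⟨⟨?_, ?_⟩, Hx_conj x u⟩
  · intro i
    show g * (u * x i * u⁻¹) * g⁻¹ = u * x (i + 1) * u⁻¹
    rw [← h.shift i]
    have hug : u * g = g * u := hu
    have hug' : u⁻¹ * g⁻¹ = g⁻¹ * u⁻¹ := by
      rw [← mul_inv_rev, ← mul_inv_rev, hug]
    calc g * (u * x i * u⁻¹) * g⁻¹ = (g * u) * x i * (u⁻¹ * g⁻¹) := by group
      _ = (u * g) * x i * (g⁻¹ * u⁻¹) := by rw [hug, hug']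
      _ = u * (g * x i * g⁻¹) * u⁻¹ := by group
  · intro i j hij hjt
    rw [Hx_conj, ← h.card i j hij hjt]
    exact (Nat.card_congr ((Hx x i j).equivMapOfInjective _ (MulAut.conj u).injective).toEquiv).symm

end Cfsg.Agent.Lib.Helper18.GLAUB2CONJ
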