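import Mathlib
import Cfsg.Agent.Lib.Helper18.GlaubDefs
import Cfsg.Agent.Lib.Helper12.SIMST2B1

set_option autoImplicit false

/-!
GLAUB market (S4359), leaf G2: each step of the chain `Fc γ D i k` has index dividing `p`
(the prime-`p` version of helper12's SIMS leaf T2B1).
-/

namespace Cfsg.Agent.Lib.Helper18.GLAUBG2

open Cfsg Cfsg.Agent.Lib.Helper29.TWPair Cfsg.Agent.Lib.Helper18.Sims3 Cfsg.Agent.Lib.Helper18.Glaub
open Cfsg.Agent.Lib.Helper12.SIMST2B1 (cj_mul Dn_add cj_inf relIndex_cj Fc_succ Fc_le_Dn)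

variable {G : Type*} [Group G]

/-- a subgroup of index `p` of a finite `p`-group is normal (ambient form). -/
theorem le_normalizer_of_relIndex_eq_p [Finite G] {p : ℕ} (hp : p.Prime) {Q K : Subgroup G}
    (hK : IsPGroup p ↥K) (hQK : Q ≤ K) (h : Q.relIndex K = p) :
    K ≤ Subgroup.normalizer (Q : Set G) := by
  haveI : Fact p.Prime := ⟨hp⟩
  obtain ⟨m, hm⟩ := hK.exists_card_eq
  have hm0 : m ≠ 0 := by
    rintro rfl
    have h1 := Helper4.card_mul_relIndex hQK
    rw [h, hm, pow_zero] at h1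
    have : p ∣ 1 := ⟨_, by rw [← h1, mul_comm]⟩
    exact hp.one_lt.ne' (Nat.dvd_one.mp this)
  have h3 : (Q.subgroupOf K).Normal := by
    apply Subgroup.normal_of_index_eq_minFac_card
    rw [hm, Nat.Prime.pow_minFac hp hm0]
    exact h
  exact (Subgroup.normal_subgroupOf_iff_le_normalizer hQK).mp h3

/-- LEAF G2 (each step of the chain has index dividing `p`). -/
theorem relIndex_Fc_succ_dvd_p [Finite G] (γ : G) (D : Subgroup G) (p : ℕ) (hp : p.Prime)
    (hD : IsPGroup p ↥D) (hQ : (D ⊓ cj γ D).relIndex D = p) (i k : ℕ) :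
    (Fc γ D i (k + 1)).relIndex (Fc γ D i k) ∣ p := by
  set T := Fc γ D i k with hT
  set K := Dn γ D (i + k) with hK
  set D' := Dn γ D (i + (k + 1)) with hD'
  have hTK : T ≤ K := Fc_le_Dn γ D i k k le_rfl
  have hKc : K = cj (γ ^ (i + k)) D := rfl
  have hD'c : D' = cj (γ ^ (i + k)) (cj γ D) := by
    rw [hD', ← add_assoc, Dn_add]
    congr 1
    unfold Dn
    rw [pow_one]
  have hidx : (K ⊓ D').relIndex K = p := by
    rw [hKc, hD'c, ← cj_inf, relIndex_cj]
    exact hQ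
  have hKp : IsPGroup p ↥K :=
    hD.of_equiv (D.equivMapOfInjective _ (MulAut.conj (γ ^ (i + k))).injective)
  have hnorm : K ≤ Subgroup.normalizer ((K ⊓ D' : Subgroup G) : Set G) :=
    le_normalizer_of_relIndex_eq_p hp hKp inf_le_left hidx
  have h1 := relIndex_dvd_relIndex_of_le hTK hnorm
  rw [hidx] at h1
  have h2 : (Fc γ D i (k + 1)).relIndex T = (K ⊓ D').relIndex T := by
    rw [Fc_succ, ← hT, ← hD']
    have h3 : T ⊓ D' = T ⊓ (K ⊓ D') := by
      rw [← inf_assoc, inf_eq_left.mpr hTK]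
    rw [h3, Subgroup.inf_relIndex_left]
  rw [h2]
  exact h1

end Cfsg.Agent.Lib.Helper18.GLAUBG2
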