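import Mathlib
import Cfsg.Agent.Lib.Helper18.GlaubDefs
import Cfsg.Agent.Lib.Helper18.SIMST2B3

set_option autoImplicit false

/-!
GLAUB market (S4359), leaf G4: the chain `Fc γ D 0 k` loses a factor `p` at every step until it is
trivial (the prime-`p` version of SIMS leaf T2B3).
-/

namespace Cfsg.Agent.Lib.Helper18.GLAUBG4

open Cfsg Cfsg.Agent.Lib.Helper18.Sims3 Cfsg.Agent.Lib.Helper18.Glaub
open Cfsg.Agent.Lib.Helper18.SIMST2B3 (Fc_zero Dn_zero Fc_succ_le Fc_shift)

variable {G : Type*} [Group G]

/-- LEAF G4 (orders of the chain). -/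
theorem card_Fc_of_p [Finite G] (γ : G) (D : Subgroup G) (p : ℕ) (hp : p.Prime) (t : ℕ)
    (ht : Nat.card ↥D = p ^ t)
    (hstep : ∀ i k, (Fc γ D i (k + 1)).relIndex (Fc γ D i k) ∣ p)
    (hR : ∀ k, (∀ j, j < k → Fc γ D 0 (j + 1) ≠ Fc γ D 0 j) →
      Fc γ D 0 (k + 1) = Fc γ D 0 k → Fc γ D 0 k = ⊥) :
    ∀ i k, k ≤ t → Nat.card ↥(Fc γ D i k) = p ^ (t - k) := by
  have hp1 : 1 < p := hp.one_lt
  have key : ∀ k, k ≤ t → Nat.card ↥(Fc γ D 0 k) = p ^ (t - k) := by
    intro k
    induction k using Nat.strong_induction_on with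
    | _ k ih =>
      intro hk
      rcases Nat.eq_zero_or_pos k with rfl | hpos
      · rw [Fc_zero, Dn_zero, ht, Nat.sub_zero]
      · obtain ⟨m, rfl⟩ : ∃ m, k = m + 1 := ⟨k - 1, by omega⟩
        have hm := ih m (by omega) (by omega)
        have hstrict : ∀ j, j < m → Fc γ D 0 (j + 1) ≠ Fc γ D 0 j := by
          intro j hj heq
          have c1 := ih (j + 1) (by omega) (by omega)
          have c2 := ih j (by omega) (by omega)
          rw [heq, c2] at c1
          have : t - j = t - (j + 1) := Nat.pow_right_injective hp1 c1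
          omega
        have hne : Fc γ D 0 (m + 1) ≠ Fc γ D 0 m := by
          intro heq
          have hb := hR m hstrict heq
          rw [hb, Subgroup.card_bot] at hm
          have : t - m = 0 := by
            by_contra h0
            have : p ≤ p ^ (t - m) := by
              calc p = p ^ 1 := (pow_one p).symm
                _ ≤ p ^ (t - m) := Nat.pow_le_pow_right (by omega) (by omega)
            omega
          omega
        have hle := Fc_succ_le γ D 0 m
        have hcard := Helper4.card_mul_relIndex hle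
        have hr := hstep 0 m
        have hr2 : (Fc γ D 0 (m + 1)).relIndex (Fc γ D 0 m) = 1 ∨
            (Fc γ D 0 (m + 1)).relIndex (Fc γ D 0 m) = p := (Nat.dvd_prime hp).mp hr
        rcases hr2 with h1 | h2
        · exfalso
          rw [h1, mul_one] at hcard
          exact hne (Subgroup.eq_of_le_of_card_ge hle hcard.ge)
        · rw [h2, hm] at hcard
          have e : t - m = (t - (m + 1)) + 1 := by omega
          rw [e, pow_succ] at hcard
          exact Nat.eq_of_mul_eq_mul_right (by omega) hcard
  intro i k hk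
  rw [Fc_shift, Helper16.card_map_conj]
  exact key k hk

end Cfsg.Agent.Lib.Helper18.GLAUBG4
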