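import Mathlib
import Cfsg.Agent.Lib.Helper18.GlaubDefs
import Cfsg.Agent.Lib.Helper18.SIMSL1

set_option autoImplicit false

/-!
GLAUB market (S4359), leaf L1P: basic consequences of `PData`: the generators have order `p`,
commutators of powers of generators lie in the interior interval subgroup, conjugation by `g`
shifts the interval subgroups (the prime-`p` version of SIMS leaf L1).
-/

namespace Cfsg.Agent.Lib.Helper18.GLAUBL1P

open Cfsg Cfsg.Agent.Lib.Helper18.Sims3 Cfsg.Agent.Lib.Helper18.Glaub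
open Cfsg.Agent.Lib.Helper18.SIMSL1 (Hx_mono mem_Hx Hx_empty Hx_self)

variable {G : Type*} [Group G]

/-- index `p` in a group of order `p ^ (k+1)` gives normality (ambient form). -/
theorem le_normalizer_of_card_p {p : ℕ} (hp : p.Prime) {K M : Subgroup G} (hKM : K ≤ M)
    [Finite M] {k : ℕ} (hM : Nat.card ↥M = p ^ (k + 1)) (hK : Nat.card ↥K = p ^ k) :
    M ≤ Subgroup.normalizer (K : Set G) := by
  have h1 := Helper4.card_mul_relIndex hKM
  have hpos : 0 < p ^ k := pow_pos hp.pos k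
  have h2 : K.relIndex M = p := by
    rw [hM, hK, pow_succ] at h1
    exact Nat.eq_of_mul_eq_mul_left hpos h1
  have h3 : (K.subgroupOf M).Normal := by
    apply Subgroup.normal_of_index_eq_minFac_card
    rw [hM, Nat.Prime.pow_minFac hp (by omega)]
    exact h2
  exact (Subgroup.normal_subgroupOf_iff_le_normalizer hKM).mp h3

theorem card_Hx_gen_p {p : ℕ} {g : G} {x : ℕ → G} {t : ℕ} (h : PData p g x t) (i j : ℕ)
    (hij : i ≤ j + 1) (hjn : j < i + t) : Nat.card ↥(Hx x i j) = p ^ (j + 1 - i) := by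
  rcases Nat.lt_or_ge j i with hlt | hge
  · have : j + 1 - i = 0 := by omega
    rw [Hx_empty x hlt, this, Subgroup.card_bot, pow_zero]
  · rw [h.card i j hge hjn]
    congr 1
    omega

/-- LEAF L1p (order `p`, commutator containment, shift of interval subgroups). -/
theorem pdata_basic [Finite G] {p : ℕ} (hp : p.Prime) {g : G} {x : ℕ → G} {t : ℕ}
    (h : PData p g x t) (h1 : 1 ≤ t) :
    (∀ i, x i ^ p = 1) ∧ (∀ i, x i ≠ 1) ∧
    (∀ i j, i < j → j < i + t → ∀ a b : ℤ, cm (x i ^ a) (x j ^ b) ∈ Hx x (i + 1) (j - 1)) ∧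
    (∀ i j, cj g (Hx x i j) = Hx x (i + 1) (j + 1)) := by
  have hord : ∀ i, orderOf (x i) = p := by
    intro i
    have hc := h.card i i le_rfl (by omega)
    rw [Hx_self, Nat.card_zpowers] at hc
    simpa using hc
  refine ⟨?_, ?_, ?_, ?_⟩
  · intro i
    have := pow_orderOf_eq_one (x i)
    rw [hord i] at this
    exact this
  · intro i hi
    have := hord i
    rw [hi, orderOf_one] at this
    exact hp.one_lt.ne this
  · intro i j hij hjn a b
    have hM := h.card i j hij.le hjn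
    have hK := card_Hx_gen_p h (i + 1) j (by omega) (by omega)
    have hL := card_Hx_gen_p h i (j - 1) (by omega) (by omega)
    have hI := card_Hx_gen_p h (i + 1) (j - 1) (by omega) (by omega)
    have hKM : Hx x (i + 1) j ≤ Hx x i j := Hx_mono x (by omega) le_rfl
    have hLM : Hx x i (j - 1) ≤ Hx x i j := Hx_mono x le_rfl (by omega)
    have hIK : Hx x (i + 1) (j - 1) ≤ Hx x (i + 1) j := Hx_mono x le_rfl (by omega)
    have hIL : Hx x (i + 1) (j - 1) ≤ Hx x i (j - 1) := Hx_mono x (by omega) le_rfl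
    have e1 : j - i + 1 = (j + 1 - (i + 1)) + 1 := by omega
    have e2 : j - i + 1 = (j - 1 + 1 - i) + 1 := by omega
    have hnK : Hx x i j ≤ Subgroup.normalizer ((Hx x (i + 1) j : Subgroup G) : Set G) :=
      le_normalizer_of_card_p hp hKM (by rw [hM, e1]) hK
    have hnL : Hx x i j ≤ Subgroup.normalizer ((Hx x i (j - 1) : Subgroup G) : Set G) :=
      le_normalizer_of_card_p hp hLM (by rw [hM, e2]) hL
    have hxi : x i ^ a ∈ Hx x i j := Subgroup.zpow_mem _ (mem_Hx x le_rfl hij.le) a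
    have hxj : x j ^ b ∈ Hx x i j := Subgroup.zpow_mem _ (mem_Hx x hij.le le_rfl) b
    have hxjK : x j ^ b ∈ Hx x (i + 1) j := Subgroup.zpow_mem _ (mem_Hx x (by omega) le_rfl) b
    have hxiL : x i ^ a ∈ Hx x i (j - 1) := Subgroup.zpow_mem _ (mem_Hx x le_rfl (by omega)) a
    have hcK : cm (x i ^ a) (x j ^ b) ∈ Hx x (i + 1) j := by
      unfold cm
      have := (Subgroup.mem_normalizer_iff.mp (hnK hxi) (x j ^ b)).mp hxjK
      exact Subgroup.mul_mem _ this (Subgroup.inv_mem _ hxjK)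
    have hcL : cm (x i ^ a) (x j ^ b) ∈ Hx x i (j - 1) := by
      unfold cm
      have := (Subgroup.mem_normalizer_iff.mp (hnL hxj) (x i ^ a)⁻¹).mp (Subgroup.inv_mem _ hxiL)
      have e : x i ^ a * x j ^ b * (x i ^ a)⁻¹ * (x j ^ b)⁻¹ =
          x i ^ a * (x j ^ b * (x i ^ a)⁻¹ * (x j ^ b)⁻¹) := by group
      rw [e]
      exact Subgroup.mul_mem _ hxiL this
    -- the intersection is the interior subgroup
    have hsup : Hx x (i + 1) j ⊔ Hx x i (j - 1) = Hx x i j := by
      apply le_antisymm (sup_le hKM hLM)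
      unfold Hx
      rw [Subgroup.closure_le]
      rintro _ ⟨k, ⟨hk1, hk2⟩, rfl⟩
      rcases Nat.eq_or_lt_of_le hk1 with rfl | hlt
      · exact (le_sup_right : _ ≤ Hx x (i + 1) j ⊔ Hx x i (j - 1)) (mem_Hx x le_rfl (by omega))
      · exact (le_sup_left : _ ≤ Hx x (i + 1) j ⊔ Hx x i (j - 1)) (mem_Hx x (by omega) hk2)
    have hprod := Helper4.card_sup_mul_card_inf (Hx x (i + 1) j) (Hx x i (j - 1)) (hKM.trans hnL)
    rw [hsup, hM, hK, hL] at hprod
    have hppos : 0 < p := hp.pos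
    have hinf : Nat.card ↥(Hx x (i + 1) j ⊓ Hx x i (j - 1)) = p ^ (j - 1 + 1 - (i + 1)) := by
      have e3 : p ^ (j + 1 - (i + 1)) * p ^ (j - 1 + 1 - i) =
          p ^ (j - i + 1) * p ^ (j - 1 + 1 - (i + 1)) := by
        rw [← pow_add, ← pow_add]
        congr 1
        omega
      rw [e3] at hprod
      exact Nat.eq_of_mul_eq_mul_left (by positivity) hprod
    have heq : Hx x (i + 1) (j - 1) = Hx x (i + 1) j ⊓ Hx x i (j - 1) :=
      Subgroup.eq_of_le_of_card_ge (le_inf hIK hIL) (by rw [hinf, hI])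
    rw [heq]
    exact ⟨hcK, hcL⟩
  · intro i j
    unfold Hx
    show (Subgroup.closure (x '' Set.Icc i j)).map (MulAut.conj g).toMonoidHom = _
    rw [MonoidHom.map_closure]
    congr 1
    ext y
    constructor
    · rintro ⟨_, ⟨k, ⟨hk1, hk2⟩, rfl⟩, rfl⟩
      refine ⟨k + 1, ⟨by omega, by omega⟩, ?_⟩
      rw [← h.shift k]
      simp [MulAut.conj_apply]
    · rintro ⟨m, ⟨hm1, hm2⟩, rfl⟩
      refine ⟨x (m - 1), ⟨m - 1, ⟨by omega, by omega⟩, rfl⟩, ?_⟩
      have := h.shift (m - 1)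
      have e : m - 1 + 1 = m := by omega
      rw [e] at this
      rw [← this]
      simp [MulAut.conj_apply]

end Cfsg.Agent.Lib.Helper18.GLAUBL1P
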