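import Mathlib
import Cfsg.Agent.Lib.Helper18.GlaubDefs
import Cfsg.Agent.Lib.Helper23.SIMSAux

set_option autoImplicit false

/-!
GLAUB market (S4359), leaf L2P: the parameter `l` (least index with `x 0`, `x l` not commuting)
exists and `l ≤ t + n - 1` (the prime-`p` version of helper23's SIMS leaf L2; the existence now comes
from the centre condition `hZ`).
-/

namespace Cfsg.Agent.Lib.Helper18.GLAUBL2P

open Cfsg Cfsg.Agent.Lib.Helper18.Sims3 Cfsg.Agent.Lib.Helper18.Glaub
open Cfsg.Agent.Lib.Helper23.SIMSAux (mem_Hx commute_shift)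

variable {G : Type*} [Group G]

/-- LEAF L2p (the parameter lambda exists). -/
theorem exists_lam_p [Finite G] {p : ℕ} (hp : p.Prime) {g : G} {x : ℕ → G} {t : ℕ}
    (h : PData p g x t) (h1 : 1 ≤ t) (n : ℕ)
    (hZ : ∀ z ∈ Hx x 0 (t - 1), (∀ j, j ≤ t + n - 1 → Commute z (x j)) → z = 1) :
    ∃ l, 1 ≤ l ∧ l ≤ t + n - 1 ∧ CommLt x l ∧ ¬ Commute (x 0) (x l) := by
  classical
  have hne : x 0 ≠ 1 := by
    intro h0
    have hc := h.card 0 0 le_rfl (by omega)
    have hzp : Hx x 0 0 = Subgroup.zpowers (x 0) := by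
      unfold Hx
      rw [Set.Icc_self, Set.image_singleton, Subgroup.zpowers_eq_closure]
    rw [hzp, Nat.card_zpowers, h0, orderOf_one] at hc
    simp at hc
    exact hp.one_lt.ne hc
  have hex : ∃ l, ¬ Commute (x 0) (x l) ∧ l ≤ t + n - 1 := by
    by_contra hcon
    have hcon' : ∀ l, l ≤ t + n - 1 → Commute (x 0) (x l) := by
      intro l hl
      by_contra hc
      exact hcon ⟨l, hc, hl⟩
    exact hne (hZ (x 0) (mem_Hx x le_rfl (by omega)) hcon')
  have hex' : ∃ l, ¬ Commute (x 0) (x l) := ⟨hex.choose, hex.choose_spec.1⟩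
  refine ⟨Nat.find hex', ?_, ?_, ?_, Nat.find_spec hex'⟩
  · by_contra hlt
    have h0 : Nat.find hex' = 0 := by omega
    have := Nat.find_spec hex'
    rw [h0] at this
    exact this (Commute.refl _)
  · obtain ⟨l, hl, hln⟩ := hex
    exact le_trans (Nat.find_min' hex' hl) hln
  · intro i k hk
    have hck : Commute (x 0) (x k) := by
      by_contra hnc
      exact absurd (Nat.find_min' hex' hnc) (by omega)
    have := commute_shift h.shift i 0 k hck
    rwa [add_zero] at this

end Cfsg.Agent.Lib.Helper18.GLAUBL2P
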