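import Mathlib
import Cfsg.Agent.Lib.Helper18.GlaubDefs
import Cfsg.Agent.Lib.Helper29.SIMSBase

set_option autoImplicit false

/-!
GLAUB market (S4359), leaf L6P: `mu ≤ nu` (the prime-`p` version of helper29's SIMS leaf L6 and of
`Helper29.SIMSBase.Hx_inf_eq_bot`).
-/

namespace Cfsg.Agent.Lib.Helper18.GLAUBL6P

open Cfsg Cfsg.Agent.Lib.Helper18.Sims3 Cfsg.Agent.Lib.Helper18.Glaub
open Cfsg.Agent.Lib.Helper29.SIMSBase (Hx_mono mem_Hx Hx_eq_bot Hx_sup Hx_comm)

variable {G : Type*} [Group G]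

/-- two interval subgroups inside a commutative window: trivial intersection by orders -/
theorem Hx_inf_eq_bot_p {p : ℕ} (hp : p.Prime) {g : G} {x : ℕ → G} {t : ℕ} (h : PData p g x t)
    {l : ℕ} (hl : CommLt x l)
    {i m j : ℕ} (h1 : i ≤ m) (h2 : m + 1 ≤ j) (hjl : j < i + l) (hjn : j < i + t) :
    Hx x i m ⊓ Hx x (m + 1) j = ⊥ := by
  have hcomm := Hx_comm hl hjl
  have hnorm : Hx x i m ≤ Subgroup.normalizer (Hx x (m + 1) j : Set G) := by
    intro a ha
    rw [Subgroup.mem_normalizer_iff]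
    intro b
    have ha' : a ∈ Hx x i j := Hx_mono le_rfl (by omega) ha
    constructor
    · intro hb
      have hb' : b ∈ Hx x i j := Hx_mono (by omega) le_rfl hb
      rw [hcomm a ha' b hb', mul_inv_cancel_right]
      exact hb
    · intro hb
      have hb' : a * b * a⁻¹ ∈ Hx x i j := Hx_mono (by omega) le_rfl hb
      have : b = a⁻¹ * (a * b * a⁻¹) * a := by group
      rw [this, mul_assoc, ← hcomm a ha' _ hb', inv_mul_cancel_left]
      exact hb
  have hf := Cfsg.Agent.Lib.Helper4.card_sup_mul_card_inf _ _ hnorm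
  rw [Hx_sup (by omega) (by omega), h.card i j (by omega) hjn, h.card i m h1 (by omega),
    h.card (m + 1) j h2 (by omega)] at hf
  have hpow : p ^ (m - i + 1) * p ^ (j - (m + 1) + 1) = p ^ (j - i + 1) := by
    rw [← pow_add]
    congr 1
    omega
  rw [hpow] at hf
  have hone : Nat.card ↥(Hx x i m ⊓ Hx x (m + 1) j) = 1 := by
    have hpos : 0 < p ^ (j - i + 1) := pow_pos hp.pos _
    exact Nat.eq_of_mul_eq_mul_left hpos (by rw [hf, mul_one])
  exact Subgroup.eq_bot_of_card_eq _ hone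

/-- LEAF L6p (`mu ≤ nu`). -/
theorem mu_le_nu_p [Finite G] {p : ℕ} (hp : p.Prime) {g : G} {x : ℕ → G} {t : ℕ}
    (h : PData p g x t)
    (l : ℕ) (hlt : l + 1 ≤ t) (hl : CommLt x l) (c : G) (hc1 : c ≠ 1)
    (mu nu : ℕ) (hmu1 : 1 ≤ mu) (hnu : nu + 1 ≤ l)
    (hmu : c ∈ Hx x mu (l - 1)) (hnu' : c ∈ Hx x 1 nu) : mu ≤ nu := by
  by_contra hlt'
  have hlt' : nu < mu := by omega
  have hnu1 : 1 ≤ nu := by
    by_contra h0
    have h0 : nu < 1 := by omega
    rw [Hx_eq_bot h0, Subgroup.mem_bot] at hnu'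
    exact hc1 hnu'
  have hmul : mu ≤ l - 1 := by
    by_contra h0
    have h0 : l - 1 < mu := by omega
    rw [Hx_eq_bot h0, Subgroup.mem_bot] at hmu
    exact hc1 hmu
  have hc2 : c ∈ Hx x (nu + 1) (l - 1) := Hx_mono (by omega) le_rfl hmu
  have hbot := Hx_inf_eq_bot_p hp h hl (i := 1) (m := nu) (j := l - 1) hnu1 (by omega) (by omega)
    (by omega)
  have : c ∈ Hx x 1 nu ⊓ Hx x (nu + 1) (l - 1) := ⟨hnu', hc2⟩
  rw [hbot, Subgroup.mem_bot] at this
  exact hc1 this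

end Cfsg.Agent.Lib.Helper18.GLAUBL6P
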