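import Mathlib
import Cfsg.Agent.Lib.Helper18.GlaubDefs
import Cfsg.Agent.Lib.Helper18.Sims3Asm
import Cfsg.Agent.Lib.Helper17.GLAUBG1
import Cfsg.Agent.Lib.Helper18.GLAUBG2
import Cfsg.Agent.Lib.Helper23.GLAUBG3
import Cfsg.Agent.Lib.Helper18.GLAUBG4
import Cfsg.Agent.Lib.Helper29.GLAUBG5
import Cfsg.Agent.Lib.Helper17.GLAUBG6
import Cfsg.Agent.Lib.Helper18.GLAUBL1P
import Cfsg.Agent.Lib.Helper18.GLAUBL2P
import Cfsg.Agent.Lib.Helper6.GLAUBL3P
import Cfsg.Agent.Lib.Helper29.GLAUBL4P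
import Cfsg.Agent.Lib.Helper6.GLAUBL5P
import Cfsg.Agent.Lib.Helper18.GLAUBL6P

set_option autoImplicit false

/-!
Helper18 library: ASSEMBLY of Glauberman's theorem (S4359) from the 12 leaves of the "GLAUB" market
(helper6, helper12, helper17, helper23, helper29, helper18), the prime-`p` versions of the leaves of
the "SIMS" market.  See `notes/S4359_leaves.lean` for the mathematics.
-/

namespace Cfsg.Agent.Lib.Helper18.Glaub

open Cfsg Cfsg.Agent.Lib.Helper18.Sims3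
open Cfsg.Agent.Lib.Helper18.SIMST2B3 (Fc_zero Dn_zero)
open Cfsg.Agent.Lib.Helper17.GLAUBG1 (isPGroup_of_normal_index)
open Cfsg.Agent.Lib.Helper18.GLAUBG2 (relIndex_Fc_succ_dvd_p)
open Cfsg.Agent.Lib.Helper23.GLAUBG3 (Fc_eq_bot_of_stable_p)
open Cfsg.Agent.Lib.Helper18.GLAUBG4 (card_Fc_of_p)
open Cfsg.Agent.Lib.Helper29.GLAUBG5 (Hx_xs_eq_Fc_p)
open Cfsg.Agent.Lib.Helper17.GLAUBG6 (center_transport)
open Cfsg.Agent.Lib.Helper18.GLAUBL1P (pdata_basic)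
open Cfsg.Agent.Lib.Helper18.GLAUBL2P (exists_lam_p)
open Cfsg.Agent.Lib.Helper6.GLAUBL3P (lam_le_or)
open Cfsg.Agent.Lib.Helper29.GLAUBL4P (le_add_mu_p)
open Cfsg.Agent.Lib.Helper6.GLAUBL5P (le_sub_nu_p)
open Cfsg.Agent.Lib.Helper18.GLAUBL6P (mu_le_nu_p)

variable {G : Type*} [Group G]

/-- ASSEMBLY II: the abstract bound. -/
theorem PData.bound [Finite G] {p : ℕ} (hp : p.Prime) {g : G} {x : ℕ → G} {t : ℕ}
    (h : PData p g x t) (h1 : 1 ≤ t) (n : ℕ) (hn : 1 ≤ n)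
    (hZ : ∀ z ∈ Hx x 0 (t - 1), (∀ j, j ≤ t + n - 1 → Commute z (x j)) → z = 1) :
    t ≤ 3 * n ∧ t ≠ 3 * n - 1 := by
  obtain ⟨hpow, hne1, hcm, hcj⟩ := pdata_basic hp h h1
  obtain ⟨l, hl1, hlt, hcomm, hnc⟩ := exists_lam_p hp h h1 n hZ
  have hA := lam_le_or hp h h1 n hZ l hl1 hlt hcomm
  by_cases hlt' : l + 1 ≤ t
  · have hc1 : cm (x 0) (x l) ≠ 1 := fun hc => hnc ((cm_eq_one_iff _ _).mp hc)
    have hc0 : cm (x 0) (x l) ∈ Hx x 1 (l - 1) := by
      have := hcm 0 l (by omega) (by omega) 1 1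
      simpa using this
    have hl2 : 2 ≤ l := by
      by_contra hl2
      have hl : l = 1 := by omega
      subst hl
      rw [Hx_empty x (by omega), Subgroup.mem_bot] at hc0
      exact hc1 hc0
    classical
    let Pm : ℕ → Prop := fun m => cm (x 0) (x l) ∈ Hx x m (l - 1)
    have hP1 : Pm 1 := hc0
    set mu := Nat.findGreatest Pm (l - 1) with hmu
    have hPmu : Pm mu := Nat.findGreatest_spec (P := Pm) (m := 1) (by omega) hP1
    have hmu1 : 1 ≤ mu := Nat.le_findGreatest (by omega) hP1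
    have hmule : mu ≤ l - 1 := Nat.findGreatest_le _
    have hPmu' : ¬ Pm (mu + 1) := by
      by_cases hm : mu + 1 ≤ l - 1
      · exact Nat.findGreatest_is_greatest (Nat.lt_succ_self mu) hm
      · intro hP
        have : cm (x 0) (x l) ∈ Hx x (mu + 1) (l - 1) := hP
        rw [Hx_empty x (by omega), Subgroup.mem_bot] at this
        exact hc1 this
    let Q : ℕ → Prop := fun m => cm (x 0) (x l) ∈ Hx x 1 m
    have hQex : ∃ m, Q m := ⟨l - 1, hc0⟩
    set nu := Nat.find hQex with hnu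
    have hQnu : Q nu := Nat.find_spec hQex
    have hnule : nu ≤ l - 1 := Nat.find_min' hQex hc0
    have hnu1 : 1 ≤ nu := by
      by_contra h0
      have h0' : nu = 0 := by omega
      have : cm (x 0) (x l) ∈ Hx x 1 nu := hQnu
      rw [h0', Hx_empty x (by omega), Subgroup.mem_bot] at this
      exact hc1 this
    have hQnu' : ¬ Q (nu - 1) := Nat.find_min hQex (by omega)
    have hB := le_add_mu_p hp h hpow hcm l hl2 hlt' hcomm hnc mu hmu1 (by omega) hPmu hPmu'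
    have hB' := le_sub_nu_p hp h hpow hcm l hl2 hlt' hcomm hnc nu hnu1 (by omega) hQnu hQnu'
    have hmn := mu_le_nu_p hp h l hlt' hcomm _ hc1 mu nu hmu1 (by omega) hPmu hQnu
    omega
  · omega

/-- ASSEMBLY I: generator data from Glauberman's hypotheses. -/
theorem exists_pdata [Finite G] (P : Subgroup G) (γ : G) (p : ℕ) (hp : p.Prime)
    (hN : ((P ⊓ cj γ P).subgroupOf (cj γ P)).Normal)
    (hidx : (P ⊓ cj γ P).relIndex (cj γ P) = p)
    (h1 : ∀ Q : Subgroup G, Q ≤ P → (Q.subgroupOf P).Normal → cj γ Q = Q → Q = ⊥) :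
    ∃ (t : ℕ) (x : ℕ → G), 1 ≤ t ∧ Nat.card ↥P = p ^ t ∧ PData p γ x t ∧
      ∀ i, Hx x i (i + t - 1) = cj (γ ^ (i + t)) P := by
  have hPp := isPGroup_of_normal_index P γ p hp hN hidx h1
  have : Fact p.Prime := ⟨hp⟩
  obtain ⟨t, ht⟩ := hPp.exists_card_eq
  have hcardcj : Nat.card ↥(cj γ P) = Nat.card ↥P :=
    (Nat.card_congr (P.equivMapOfInjective _ (MulAut.conj γ).injective).toEquiv).symm
  have hm1 := Helper4.card_mul_relIndex (inf_le_right : P ⊓ cj γ P ≤ cj γ P)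
  have hm2 := Helper4.card_mul_relIndex (inf_le_left : P ⊓ cj γ P ≤ P)
  rw [hidx, hcardcj] at hm1
  have hpos : 0 < Nat.card ↥(P ⊓ cj γ P) := Nat.card_pos
  have hQ : (P ⊓ cj γ P).relIndex P = p := by
    have : Nat.card ↥(P ⊓ cj γ P) * (P ⊓ cj γ P).relIndex P = Nat.card ↥(P ⊓ cj γ P) * p := by
      rw [hm2, hm1]
    exact Nat.eq_of_mul_eq_mul_left hpos this
  have ht1 : 1 ≤ t := by
    by_contra h0
    have h0' : t = 0 := by omega
    rw [h0', pow_zero] at ht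
    rw [ht] at hm1
    have : p ∣ 1 := ⟨_, by rw [← hm1, mul_comm]⟩
    exact hp.one_lt.ne' (Nat.dvd_one.mp this)
  have hstep := fun i k => relIndex_Fc_succ_dvd_p γ P p hp hPp hQ i k
  have hR := fun k hs hst => Fc_eq_bot_of_stable_p γ P p hp hPp h1 hstep k hs hst
  have hF := card_Fc_of_p γ P p hp t ht hstep hR
  have hcp : Nat.card ↥(Fc γ P 1 (t - 1)) = p := by
    rw [hF 1 (t - 1) (by omega)]
    have : t - (t - 1) = 1 := by omega
    rw [this, pow_one]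
  have hne_bot : Fc γ P 1 (t - 1) ≠ ⊥ := by
    intro hb
    rw [hb, Subgroup.card_bot] at hcp
    exact hp.one_lt.ne hcp
  obtain ⟨⟨x0, hx0⟩, hy⟩ := (Subgroup.ne_bot_iff_exists_ne_one).mp hne_bot
  have hx01 : x0 ≠ 1 := fun hh => hy (Subtype.ext hh)
  have hH := Hx_xs_eq_Fc_p γ P p hp t ht1 hF x0 hx0 hx01
  refine ⟨t, xs γ x0, ht1, ht, ⟨?_, ?_⟩, ?_⟩
  · intro i
    unfold xs
    rw [pow_succ']
    group
  · intro i j hij hjn
    rw [hH i j hij hjn, hF (j + 1) (t - 1 - (j - i)) (by omega)]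
    congr 1
    omega
  · intro i
    rw [hH i (i + t - 1) (by omega) (by omega)]
    have e1 : t - 1 - (i + t - 1 - i) = 0 := by omega
    have e2 : i + t - 1 + 1 = i + t := by omega
    rw [e1, e2, Fc_zero]
    rfl

/-- ASSEMBLY: Glauberman's theorem (in `cj` form). -/
theorem glauberman_bound [Finite G] (P : Subgroup G) (γ : G) (p : ℕ) (hp : p.Prime)
    (hN : ((P ⊓ cj γ P).subgroupOf (cj γ P)).Normal)
    (hidx : (P ⊓ cj γ P).relIndex (cj γ P) = p)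
    (n : ℕ) (hn : 1 ≤ n) (K : Subgroup G)
    (hK : K = ⨆ i ∈ Finset.range (n + 1), cj (γ ^ i) P)
    (h1 : ∀ Q : Subgroup G, Q ≤ P → (Q.subgroupOf P).Normal → cj γ Q = Q → Q = ⊥)
    (h2 : P ⊓ (Subgroup.center ↥K).map K.subtype = ⊥) :
    ∃ t : ℕ, Nat.card ↥P = p ^ t ∧ 1 ≤ t ∧ t ≤ 3 * n ∧ t ≠ 3 * n - 1 := by
  obtain ⟨t, x, ht1, ht, hd, hH⟩ := exists_pdata P γ p hp hN hidx h1
  have hZ := center_transport γ P t n ht1 x hH K hK h2
  obtain ⟨hb1, hb2⟩ := hd.bound hp ht1 n hn hZ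
  exact ⟨t, ht, ht1, hb1, hb2⟩

end Cfsg.Agent.Lib.Helper18.Glaub
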