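import Mathlib
import Cfsg.Agent.Lib.Helper18.Sims3Asm
import Cfsg.Agent.S4062
import Cfsg.Agent.Lib.Helper10.SIMS2E0
import Cfsg.Agent.Lib.Helper23.SIMS2LAM
import Cfsg.Agent.Lib.Helper10.SIMS2NK
import Cfsg.Agent.Lib.Helper10.SIMS2CEN
import Cfsg.Agent.Lib.Helper20.SIMS2S8
import Cfsg.Agent.Lib.Helper15.SIMS2G12
import Cfsg.Agent.Lib.Helper13.SIMS2G24
import Cfsg.Agent.Lib.Helper15.SIMS2G48

set_option autoImplicit false

/-!
Helper18 library: ASSEMBLY of S3685 (the point stabilizer of a primitive group with a suborbit of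
length 3 is `C₃`, `S₃`, `D₁₂`, `S₄` or `S₄ × C₂`) from the 8 leaves of the "SIMS2" market over the
S3385 assembly `Sims3Asm`.  See `notes/S3685_leaves.lean` for the mathematics.
-/

namespace Cfsg.Agent.Lib.Helper18.Sims4

open Cfsg Cfsg.Agent.Lib.Helper29.TWPair MulAction Cfsg.Agent.Lib.Helper18.Sims3
open Cfsg.Agent.Lib.Helper10.SIMS2E0 (ts_or_three)
open Cfsg.Agent.Lib.Helper23.SIMS2LAM (lam_eq)
open Cfsg.Agent.Lib.Helper10.SIMS2NK (Hx_le_normalizer)
open Cfsg.Agent.Lib.Helper10.SIMS2CEN (centralizer_Hx_le)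
open Cfsg.Agent.Lib.Helper20.SIMS2S8 (exists_card_eight)
open Cfsg.Agent.Lib.Helper15.SIMS2G12 (dihedral_six_of_card)
open Cfsg.Agent.Lib.Helper13.SIMS2G24 (perm_four_of_card)
open Cfsg.Agent.Lib.Helper15.SIMS2G48 (perm_four_prod_of_card)

variable {G : Type*} [Group G]

/-- elements commuting with all generators commute with the interval subgroup. -/
theorem commute_of_mem_Hx' {x : ℕ → G} {i j : ℕ} {z y : G}
    (hz : ∀ k, i ≤ k → k ≤ j → x k * z = z * x k) (hy : y ∈ Hx x i j) : y * z = z * y := by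
  have hle : Hx x i j ≤ Subgroup.centralizer {z} := by
    rw [Cfsg.Agent.Lib.Helper23.SIMSAux.Hx_le_iff]
    intro k h1 h2
    rw [Subgroup.mem_centralizer_iff]
    intro w hw
    rw [Set.mem_singleton_iff] at hw
    rw [hw]
    exact (hz k h1 h2).symm
  have := hle hy
  rw [Subgroup.mem_centralizer_iff] at this
  exact (this z rfl).symm

/-- `n = 1`: `S₃`. -/
theorem iso_one [Finite G] {g : G} {x : ℕ → G} (_h : TSData g x 1)
    (hnc : ¬ Commute (x 0) (x 1)) (hcard : Nat.card ↥(Hx x 0 1) = 6) :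
    Nonempty (↥(Hx x 0 1) ≃* Equiv.Perm (Fin 3)) := by
  have h0 : x 0 ∈ Hx x 0 1 := Cfsg.Agent.Lib.Helper18.SIMSL1.mem_Hx x (by omega) (by omega)
  have h1 : x 1 ∈ Hx x 0 1 := Cfsg.Agent.Lib.Helper18.SIMSL1.mem_Hx x (by omega) (by omega)
  refine Cfsg.Agent.S4062.equiv_perm_three hcard ⟨x 0, h0⟩ ⟨x 1, h1⟩ ?_
  intro hab
  apply hnc
  have := congrArg Subtype.val hab
  exact this

/-- `n = 2`: `D₁₂`. -/
theorem iso_two [Finite G] {g : G} {x : ℕ → G} (h : TSData g x 2)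
    (hl : CommLt x 2) (hnc : ¬ Commute (x 0) (x 2)) (hcard : Nat.card ↥(Hx x 0 2) = 12) :
    Nonempty (↥(Hx x 0 2) ≃* DihedralGroup 6) := by
  obtain ⟨hsq, hne1, -, -⟩ := Cfsg.Agent.Lib.Helper18.SIMSL1.tsdata_basic h (by omega)
  have hm : ∀ k, k ≤ 2 → x k ∈ Hx x 0 2 := fun k hk =>
    Cfsg.Agent.Lib.Helper18.SIMSL1.mem_Hx x (by omega) hk
  refine dihedral_six_of_card (Hx x 0 2) hcard (x 1) (x 0) (x 2) (hm 1 (by omega)) (hm 0 (by omega))
    (hm 2 (by omega)) (hne1 1) (hsq 1) ?_ (hsq 0) (hsq 2) (fun hab => hnc hab)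
  intro y hy
  refine commute_of_mem_Hx' ?_ hy
  intro k _ hk2
  rcases (by omega : k = 0 ∨ k = 1 ∨ k = 2) with rfl | rfl | rfl
  · exact hl 0 1 (by omega)
  · rfl
  · exact ((hl 1 1 (by omega)) : x 1 * x 2 = x 2 * x 1).symm

/-- `n = 3`: `S₄`. -/
theorem iso_three [Finite G] {g : G} {x : ℕ → G} (h : TSData g x 3)
    (hl : CommLt x 2) (hnc : ¬ Commute (x 0) (x 2)) (hcard : Nat.card ↥(Hx x 0 3) = 24) :
    Nonempty (↥(Hx x 0 3) ≃* Equiv.Perm (Fin 4)) := by
  obtain ⟨hsq, -, -, -⟩ := Cfsg.Agent.Lib.Helper18.SIMSL1.tsdata_basic h (by omega)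
  have hN := Hx_le_normalizer h (by omega)
  have hC := centralizer_Hx_le h (by omega) hsq hl hnc hN (by rw [hcard]; norm_num)
  refine perm_four_of_card (Hx x 0 3) (Hx x 1 (3 - 1))
    (Cfsg.Agent.Lib.Helper18.SIMSL1.Hx_mono x (by omega) (by omega)) hN hcard ?_ hC
  rw [h.card 1 (3 - 1) (by omega) (by omega)]
  norm_num

/-- `n = 4`: `S₄ × C₂`. -/
theorem iso_four [Finite G] {g : G} {x : ℕ → G} (h : TSData g x 4)
    (hl : CommLt x 3) (hnc : ¬ Commute (x 0) (x 3)) (hcard : Nat.card ↥(Hx x 0 4) = 48) :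
    Nonempty (↥(Hx x 0 4) ≃* Equiv.Perm (Fin 4) × Multiplicative (ZMod 2)) := by
  obtain ⟨hsq, -, hcm, -⟩ := Cfsg.Agent.Lib.Helper18.SIMSL1.tsdata_basic h (by omega)
  have hN := Hx_le_normalizer h (by omega)
  have hC := centralizer_Hx_le h (by omega) hsq hl hnc hN (by rw [hcard]; norm_num)
  obtain ⟨S, hSH, hS, hzS⟩ := exists_card_eight h hsq hcm hl hnc
  refine perm_four_prod_of_card (fun H K => perm_four_of_card H K) (Hx x 0 4) (Hx x 1 (4 - 1)) S
    (Cfsg.Agent.Lib.Helper18.SIMSL1.Hx_mono x (by omega) (by omega)) hN hcard ?_ hC (x 2)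
    (Cfsg.Agent.Lib.Helper18.SIMSL1.mem_Hx x (by omega) (by omega)) (hsq 2) ?_ hSH hS hzS
  · rw [h.card 1 (4 - 1) (by omega) (by omega)]
    norm_num
  · intro y hy
    refine commute_of_mem_Hx' ?_ hy
    intro k _ hk4
    rcases (by omega : k = 0 ∨ k = 1 ∨ k = 2 ∨ k = 3 ∨ k = 4) with rfl | rfl | rfl | rfl | rfl
    · exact hl 0 2 (by omega)
    · exact hl 1 1 (by omega)
    · rfl
    · exact ((hl 2 1 (by omega)) : x 2 * x 3 = x 3 * x 2).symm
    · exact ((hl 2 2 (by omega)) : x 2 * x 4 = x 4 * x 2).symm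

/-- a group of order 3 is `C₃`. -/
theorem iso_zero {H : Type*} [Group H] (hcard : Nat.card H = 3) :
    Nonempty (H ≃* Multiplicative (ZMod 3)) := by
  haveI : Fact (Nat.Prime 3) := ⟨Nat.prime_three⟩
  have hcyc : IsCyclic H := isCyclic_of_prime_card hcard
  have e := zmodCyclicMulEquiv hcyc
  rw [hcard] at e
  exact ⟨e.symm⟩

/-- the Tutte-Sims case. -/
theorem iso_of_TS [Finite G] {A B : Subgroup G} (h : TS A B) :
    Nonempty (↥A ≃* Equiv.Perm (Fin 3)) ∨ Nonempty (↥A ≃* DihedralGroup 6) ∨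
      Nonempty (↥A ≃* Equiv.Perm (Fin 4)) ∨
      Nonempty (↥A ≃* Equiv.Perm (Fin 4) × Multiplicative (ZMod 2)) := by
  obtain ⟨n, hn4, hn⟩ := h.card_dvd
  have hcA : Nat.card ↥A = 2 ^ n * 3 := by
    have := Helper4.card_mul_relIndex (inf_le_left : A ⊓ B ≤ A)
    rw [h.idxA, hn] at this
    exact this.symm
  have h1 : 1 ≤ n := by
    by_contra h0
    have h0' : n = 0 := by omega
    rw [h0', pow_zero] at hn
    have hc := h.coreA
    have hle : coreIn A (A ⊓ B) ≤ A ⊓ B := coreIn_le_right _ _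
    have hcard1 := Helper4.card_mul_relIndex hle
    rw [hc, hn] at hcard1
    omega
  obtain ⟨g, x, hd, hH⟩ := exists_data_of_TS' h n hn h1
  have e : ↥A ≃* ↥(Hx x 0 n) := by
    rw [hH]
    exact A.equivMapOfInjective _ (MulAut.conj (g ^ (n + 1))).injective
  have hcH : Nat.card ↥(Hx x 0 n) = 2 ^ n * 3 := by
    rw [← hcA]
    exact (Nat.card_congr e.toEquiv).symm
  obtain ⟨l, hl, hnc, e1, e2, e3, e4⟩ := lam_eq hd h1 hn4
  rcases (by omega : n = 1 ∨ n = 2 ∨ n = 3 ∨ n = 4) with rfl | rfl | rfl | rfl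
  · left
    obtain rfl := e1 rfl
    obtain ⟨f⟩ := iso_one hd hnc (by rw [hcH]; norm_num)
    exact ⟨e.trans f⟩
  · right; left
    obtain rfl := e2 rfl
    obtain ⟨f⟩ := iso_two hd hl hnc (by rw [hcH]; norm_num)
    exact ⟨e.trans f⟩
  · right; right; left
    obtain rfl := e3 rfl
    obtain ⟨f⟩ := iso_three hd hl hnc (by rw [hcH]; norm_num)
    exact ⟨e.trans f⟩
  · right; right; right
    obtain rfl := e4 rfl
    obtain ⟨f⟩ := iso_four hd hl hnc (by rw [hcH]; norm_num)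
    exact ⟨e.trans f⟩

/-- FINAL: S3685. -/
theorem sims_three_structure {G Ω : Type*} [Group G] [Finite G] [MulAction G Ω] [FaithfulSMul G Ω]
    (hprim : MulAction.IsPreprimitive G Ω) (a b : Ω)
    (h3 : Nat.card (MulAction.orbit (MulAction.stabilizer G a) b) = 3) :
    Nonempty (MulAction.stabilizer G a ≃* Multiplicative (ZMod 3)) ∨
      Nonempty (MulAction.stabilizer G a ≃* Equiv.Perm (Fin 3)) ∨
      Nonempty (MulAction.stabilizer G a ≃* DihedralGroup 6) ∨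
      Nonempty (MulAction.stabilizer G a ≃* Equiv.Perm (Fin 4)) ∨
      Nonempty (MulAction.stabilizer G a ≃* Equiv.Perm (Fin 4) × Multiplicative (ZMod 2)) := by
  obtain ⟨hP, hd1, hd2, hred⟩ := reduction hprim a b h3
  have hTS : Nat.card ↥(stabilizer G a) = 3 ∨ TS (stabilizer G a) (stabilizer G b) := by
    rcases hred with h48 | hTS
    · have hcard := Helper4.card_mul_relIndex
        (inf_le_left : stabilizer G a ⊓ stabilizer G b ≤ stabilizer G a)
      rw [hd1] at hcard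
      have h16 : Nat.card ↥(stabilizer G a ⊓ stabilizer G b) ∣ 2 ^ 4 := by
        rw [← hcard] at h48
        have : Nat.card ↥(stabilizer G a ⊓ stabilizer G b) * 3 ∣ 16 * 3 := h48
        exact Nat.dvd_of_mul_dvd_mul_right (by norm_num) this
      obtain ⟨k, -, hk'⟩ := (Nat.dvd_prime_pow Nat.prime_two).mp h16
      exact ts_or_three hP hd1 hd2 (IsPGroup.of_card hk')
    · exact Or.inr hTS
  rcases hTS with h3' | hTS
  · exact Or.inl (iso_zero h3')
  · exact Or.inr (iso_of_TS hTS)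

end Cfsg.Agent.Lib.Helper18.Sims4
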