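import Mathlib
import Cfsg.Agent.Lib.Helper18.GlaubAsm
import Cfsg.Agent.Lib.Helper18.Sims4Asm
import Cfsg.Agent.Lib.Helper18.Glaub2Defs
import Cfsg.Agent.Lib.Helper4.GLAUB2A1
import Cfsg.Agent.Lib.Helper4.GLAUB2A2
import Cfsg.Agent.Lib.Helper17.GLAUB2A3
import Cfsg.Agent.Lib.Helper18.GLAUB2A4
import Cfsg.Agent.Lib.Helper18.GLAUB2B0
import Cfsg.Agent.Lib.Helper18.GLAUB2B1
import Cfsg.Agent.Lib.Helper4.GLAUB2B2
import Cfsg.Agent.Lib.Helper18.GLAUB2CONJ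
import Cfsg.Agent.Lib.Helper26.GLAUB2IDX1
import Cfsg.Agent.Lib.Helper27.GLAUB2IDX2
import Cfsg.Agent.Lib.Helper15.GLAUB2ID2
import Cfsg.Agent.Lib.Helper15.GLAUB2IDQ
import Cfsg.Agent.Lib.Helper17.GLAUB2IDS
import Cfsg.Agent.Lib.Helper17.GLAUB2DL2
import Cfsg.Agent.Lib.Helper17.GLAUB2DL3
import Cfsg.Agent.Lib.Helper2.GLAUB2DLAM
import Cfsg.Agent.Lib.Helper2.GLAUB2DNK
import Cfsg.Agent.Lib.Helper14.GLAUB2DS8
import Cfsg.Agent.Lib.Helper8.GLAUB2DL7A
import Cfsg.Agent.Lib.Helper8.GLAUB2DL7B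
import Cfsg.Agent.Lib.Helper8.GLAUB2DL7C

/-! S4385 (Glauberman's dihedral corollary): assembly over the 21 GLAUB2 market leaves
(planner helper18; leaves by helper2/4/8/14/15/17/18/26/27).  See notes/S4385_leaves.lean. -/

set_option autoImplicit false

namespace Cfsg.Agent.Lib.Helper18.Glaub2

open Cfsg Cfsg.Agent.Lib.Helper18.Sims3 Cfsg.Agent.Lib.Helper18.Glaub
open Cfsg.Agent.Lib.Helper4.GLAUB2A1 (dihedral_quotient_data)
open Cfsg.Agent.Lib.Helper4.GLAUB2A2 (exists_gen_conj)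
open Cfsg.Agent.Lib.Helper17.GLAUB2A3 (sylow_facts)
open Cfsg.Agent.Lib.Helper18.GLAUB2A4 (transport_gen)
open Cfsg.Agent.Lib.Helper18.GLAUB2B0 (inf_cj_eq)
open Cfsg.Agent.Lib.Helper18.GLAUB2B1 (h1_of_gen)
open Cfsg.Agent.Lib.Helper4.GLAUB2B2 (coreP_of_gen)
open Cfsg.Agent.Lib.Helper18.GLAUB2CONJ (pdata_conj)
open Cfsg.Agent.Lib.Helper26.GLAUB2IDX1 (relIndex_centralizer_four)
open Cfsg.Agent.Lib.Helper27.GLAUB2IDX2 (relIndex_centralizer_eight)
open Cfsg.Agent.Lib.Helper15.GLAUB2ID2 (iso_four_group)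
open Cfsg.Agent.Lib.Helper15.GLAUB2IDQ (quotient_oddCore_data)
open Cfsg.Agent.Lib.Helper17.GLAUB2IDS (image_in_quotient_oddCore)
open Cfsg.Agent.Lib.Helper17.GLAUB2DL2 (exists_lam_d)
open Cfsg.Agent.Lib.Helper17.GLAUB2DL3 (two_mul_le_d)
open Cfsg.Agent.Lib.Helper2.GLAUB2DLAM (lam_eq_d)
open Cfsg.Agent.Lib.Helper2.GLAUB2DNK (Hx_le_normalizer_d)
open Cfsg.Agent.Lib.Helper14.GLAUB2DS8 (exists_card_eight_d)
open Cfsg.Agent.Lib.Helper8.GLAUB2DL7A (cm_eq_x2_d)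
open Cfsg.Agent.Lib.Helper8.GLAUB2DL7B (gamma_mem_d)
open Cfsg.Agent.Lib.Helper8.GLAUB2DL7C (not_four_six_aux_d)
open Cfsg.Agent.Lib.Helper18.SIMST2B3 (Fc_zero Dn_zero)
open Cfsg.Agent.Lib.Helper18.GLAUBG2 (relIndex_Fc_succ_dvd_p)
open Cfsg.Agent.Lib.Helper23.GLAUBG3 (Fc_eq_bot_of_stable_p)
open Cfsg.Agent.Lib.Helper18.GLAUBG4 (card_Fc_of_p)
open Cfsg.Agent.Lib.Helper29.GLAUBG5 (Hx_xs_eq_Fc_p)
open Cfsg.Agent.Lib.Helper18.GLAUBL1P (pdata_basic)
open Cfsg.Agent.Lib.Helper29.GLAUBL4P (le_add_mu_p)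
open Cfsg.Agent.Lib.Helper6.GLAUBL5P (le_sub_nu_p)
open Cfsg.Agent.Lib.Helper18.GLAUBL6P (mu_le_nu_p)
open Cfsg.Agent.Lib.Helper12.SIMST2B1 (cj_mul)
open Cfsg.Agent.Lib.Helper13.SIMS2G24 (perm_four_of_card)
open Cfsg.Agent.Lib.Helper15.SIMS2G48 (perm_four_prod_of_card)

variable {G : Type*} [Group G]

/-- ASSEMBLY: generator data for a `p`-group `P` with `|P : P ⊓ γPγ⁻¹| = p`, normalized so that
`⟨x_i, ..., x_(i+t-1)⟩ = γ^i P γ^(-i)`. -/
theorem exists_pdata_of_isPGroup [Finite G] (P : Subgroup G) (γ : G) (p : ℕ) (hp : p.Prime)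
    (hPp : IsPGroup p ↥P) (hQ : (P ⊓ cj γ P).relIndex P = p)
    (h1 : ∀ Q : Subgroup G, Q ≤ P → (Q.subgroupOf P).Normal → cj γ Q = Q → Q = ⊥) :
    ∃ (t : ℕ) (x : ℕ → G), 1 ≤ t ∧ Nat.card ↥P = p ^ t ∧ PData p γ x t ∧
      ∀ i, Hx x i (i + t - 1) = cj (γ ^ i) P := by
  have : Fact p.Prime := ⟨hp⟩
  obtain ⟨t, ht⟩ := hPp.exists_card_eq
  have hm2 := Helper4.card_mul_relIndex (inf_le_left : P ⊓ cj γ P ≤ P)
  rw [hQ, ht] at hm2
  have ht1 : 1 ≤ t := by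
    by_contra h0
    have h0' : t = 0 := by omega
    rw [h0', pow_zero] at hm2
    have : p ∣ 1 := ⟨_, by rw [← hm2, mul_comm]⟩
    exact hp.one_lt.ne' (Nat.dvd_one.mp this)
  have hstep := fun i k => relIndex_Fc_succ_dvd_p γ P p hp hPp hQ i k
  have hR := fun k hs hst => Fc_eq_bot_of_stable_p γ P p hp hPp h1 hstep k hs hst
  have hF := card_Fc_of_p γ P p hp t ht hstep hR
  have hcp : Nat.card ↥(Fc γ P 1 (t - 1)) = p := by
    rw [hF 1 (t - 1) (by omega)]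
    have : t - (t - 1) = 1 := by omega
    rw [this, pow_one]
  have hne_bot : Fc γ P 1 (t - 1) ≠ ⊥ := by
    intro hb
    rw [hb, Subgroup.card_bot] at hcp
    exact hp.one_lt.ne hcp
  obtain ⟨⟨x0, hx0⟩, hy⟩ := (Subgroup.ne_bot_iff_exists_ne_one).mp hne_bot
  have hx01 : x0 ≠ 1 := fun hh => hy (Subtype.ext hh)
  have hH := Hx_xs_eq_Fc_p γ P p hp t ht1 hF x0 hx0 hx01
  have hd0 : PData p γ (xs γ x0) t := by
    refine ⟨?_, ?_⟩
    · intro i
      unfold xs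
      rw [pow_succ']
      group
    · intro i j hij hjn
      rw [hH i j hij hjn, hF (j + 1) (t - 1 - (j - i)) (by omega)]
      congr 1
      omega
  have hH0 : ∀ i, Hx (xs γ x0) i (i + t - 1) = cj (γ ^ (i + t)) P := by
    intro i
    rw [hH i (i + t - 1) (by omega) (by omega)]
    have e1 : t - 1 - (i + t - 1 - i) = 0 := by omega
    have e2 : i + t - 1 + 1 = i + t := by omega
    rw [e1, e2, Fc_zero]
    rfl
  have hu : Commute (γ ^ t)⁻¹ γ := ((Commute.refl γ).pow_left t).inv_left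
  obtain ⟨hd, hHc⟩ := pdata_conj hd0 (γ ^ t)⁻¹ hu
  refine ⟨t, _, ht1, ht, hd, ?_⟩
  intro i
  rw [hHc, hH0, ← cj_mul]
  congr 1
  rw [pow_add]
  group

/-- ASSEMBLY: `t ≤ 4` for `DData` (the Tutte-Sims argument with the weak core condition). -/
theorem DData.le_four [Finite G] {g : G} {x : ℕ → G} {t : ℕ} (h : DData g x t) : t ≤ 4 := by
  by_contra hn
  have hn5 : 5 ≤ t := by omega
  have h1 : 1 ≤ t := by omega
  obtain ⟨hpow, hne1, hcm', hcj⟩ := pdata_basic Nat.prime_two h.pdata h1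
  have hsq : ∀ i, x i * x i = 1 := fun i => by rw [← pow_two]; exact hpow i
  have hcm : ∀ i j, i < j → j < i + t → cm (x i) (x j) ∈ Hx x (i + 1) (j - 1) := by
    intro i j hij hjt
    have := hcm' i j hij hjt 1 1
    simpa using this
  obtain ⟨l, hl1, hlt, hcomm, hnc⟩ := exists_lam_d h h1
  have hA := two_mul_le_d h h1 l hl1 hlt hcomm
  have hln' : l + 1 ≤ t := by omega
  have hc1 : cm (x 0) (x l) ≠ 1 := fun hc => hnc ((cm_eq_one_iff _ _).mp hc)
  have hc0 : cm (x 0) (x l) ∈ Hx x 1 (l - 1) := by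
    have := hcm 0 l (by omega) (by omega)
    simpa using this
  have hl2 : 2 ≤ l := by
    by_contra hl2
    have hl : l = 1 := by omega
    subst hl
    rw [Hx_empty x (by omega), Subgroup.mem_bot] at hc0
    exact hc1 hc0
  classical
  let Pm : ℕ → Prop := fun m => cm (x 0) (x l) ∈ Hx x m (l - 1)
  have hP1 : Pm 1 := hc0
  set mu := Nat.findGreatest Pm (l - 1) with hmu
  have hPmu : Pm mu := Nat.findGreatest_spec (P := Pm) (m := 1) (by omega) hP1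
  have hmu1 : 1 ≤ mu := Nat.le_findGreatest (by omega) hP1
  have hmule : mu ≤ l - 1 := Nat.findGreatest_le _
  have hPmu' : ¬ Pm (mu + 1) := by
    by_cases hm : mu + 1 ≤ l - 1
    · exact Nat.findGreatest_is_greatest (Nat.lt_succ_self mu) hm
    · intro hP
      have : cm (x 0) (x l) ∈ Hx x (mu + 1) (l - 1) := hP
      rw [Hx_empty x (by omega), Subgroup.mem_bot] at this
      exact hc1 this
  let Q : ℕ → Prop := fun m => cm (x 0) (x l) ∈ Hx x 1 m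
  have hQex : ∃ m, Q m := ⟨l - 1, hc0⟩
  set nu := Nat.find hQex with hnu
  have hQnu : Q nu := Nat.find_spec hQex
  have hnule : nu ≤ l - 1 := Nat.find_min' hQex hc0
  have hnu1 : 1 ≤ nu := by
    by_contra h0
    have h0' : nu = 0 := by omega
    have : cm (x 0) (x l) ∈ Hx x 1 nu := hQnu
    rw [h0', Hx_empty x (by omega), Subgroup.mem_bot] at this
    exact hc1 this
  have hQnu' : ¬ Q (nu - 1) := Nat.find_min hQex (by omega)
  have hB := le_add_mu_p Nat.prime_two h.pdata hpow hcm' l hl2 hln' hcomm hnc mu hmu1 (by omega)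
    hPmu hPmu'
  have hB' := le_sub_nu_p Nat.prime_two h.pdata hpow hcm' l hl2 hln' hcomm hnc nu hnu1 (by omega)
    hQnu hQnu'
  have hmn := mu_le_nu_p Nat.prime_two h.pdata l hln' hcomm _ hc1 mu nu hmu1 (by omega) hPmu hQnu
  have e1 : l = 4 := by omega
  have e2 : t = 6 := by omega
  have e3 : mu = 2 := by omega
  have e4 : nu = 2 := by omega
  subst e1 e2
  have hc2 : cm (x 0) (x 4) ∈ Hx x 2 3 := by
    have := hPmu
    rw [e3] at this
    exact this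
  have hc3 : cm (x 0) (x 4) ∈ Hx x 1 2 := by
    have := hQnu
    rw [e4] at this
    exact this
  have hx2 := cm_eq_x2_d h.pdata hcomm hsq hc1 hc2 hc3
  exact not_four_six_aux_d h hcomm hsq hx2 (gamma_mem_d h.pdata hcomm hsq hcm hx2)

/-- the reverse shift for commutation. -/
theorem commute_unshift {g : G} {x : ℕ → G} (hs : ∀ i, g * x i * g⁻¹ = x (i + 1)) (i a b : ℕ)
    (h : Commute (x (i + a)) (x (i + b))) : Commute (x a) (x b) := by
  rw [← Cfsg.Agent.Lib.Helper23.SIMSAux.shift_pow hs i a,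
    ← Cfsg.Agent.Lib.Helper23.SIMSAux.shift_pow hs i b] at h
  have h' : g ^ i * x a * (g ^ i)⁻¹ * (g ^ i * x b * (g ^ i)⁻¹) =
      g ^ i * x b * (g ^ i)⁻¹ * (g ^ i * x a * (g ^ i)⁻¹) := h
  show x a * x b = x b * x a
  have e1 : x a * x b = (g ^ i)⁻¹ * (g ^ i * x a * (g ^ i)⁻¹ * (g ^ i * x b * (g ^ i)⁻¹)) * g ^ i := by
    group
  have e2 : x b * x a = (g ^ i)⁻¹ * (g ^ i * x b * (g ^ i)⁻¹ * (g ^ i * x a * (g ^ i)⁻¹)) * g ^ i := by
    group
  rw [e1, e2, h']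

/-- overlapping interval subgroups generate the union interval. -/
theorem Hx_sup_overlap (x : ℕ → G) (t : ℕ) : Hx x 0 (t - 1) ⊔ Hx x 1 t = Hx x 0 t := by
  apply le_antisymm
  · exact sup_le (Cfsg.Agent.Lib.Helper18.SIMSL1.Hx_mono x le_rfl (by omega))
      (Cfsg.Agent.Lib.Helper18.SIMSL1.Hx_mono x (by omega) le_rfl)
  · rw [Cfsg.Agent.Lib.Helper23.SIMSAux.Hx_le_iff]
    intro k _ hk
    rcases Nat.eq_zero_or_pos k with rfl | hpos
    · rcases Nat.eq_zero_or_pos t with rfl | htpos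
      · exact Subgroup.mem_sup_left (Cfsg.Agent.Lib.Helper18.SIMSL1.mem_Hx x le_rfl (by omega))
      · exact Subgroup.mem_sup_left (Cfsg.Agent.Lib.Helper18.SIMSL1.mem_Hx x le_rfl (by omega))
    · exact Subgroup.mem_sup_right (Cfsg.Agent.Lib.Helper18.SIMSL1.mem_Hx x (by omega) hk)

theorem cj_one' (S : Subgroup G) : cj (1 : G) S = S := by
  ext z
  simp [cj, Subgroup.mem_map]

/-- ASSEMBLY (auxiliary): the generator data, given the generating conjugate. -/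
theorem exists_ddata_aux [Finite G] (H T : Subgroup G) (hTne : T ≠ ⊥) (n : ℕ) (hodd : Odd n)
    (hn3 : 3 ≤ n) (P : Subgroup G) (hPH : P ≤ H) (hP : IsPGroup 2 ↥P) (hTP : T ≤ P)
    (hcP : Nat.card ↥P = 2 * Nat.card ↥T) (hcH : Nat.card ↥H = 2 * n * Nat.card ↥T)
    (hNT : H ≤ Subgroup.normalizer (T : Set G))
    (xg : G) (hxH : xg ∈ H) (hgen : P ⊔ cj xg P = H)
    (y : G) (hy2 : y ^ 2 ∈ P ⊔ Subgroup.centralizer (P : Set G)) (hyN : cj y P = P)
    (hyQ : ∀ Q : Subgroup G, Q ≤ P → (Q.subgroupOf H).Normal → cj y Q = Q → Q = ⊥) :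
    ∃ (γ : G) (x : ℕ → G) (t : ℕ), 2 ≤ t ∧ DData γ x t ∧ Nat.card ↥P = 2 ^ t ∧
      Hx x 0 t = H ∧ Nat.card ↥H = 2 ^ t * n := by
  have hinf := inf_cj_eq H P T n hn3 hTP hcP hcH hNT xg hxH hgen
  have hcjγ : cj (xg * y) P = cj xg P := by rw [cj_mul, hyN]
  have hQidx : (P ⊓ cj (xg * y) P).relIndex P = 2 := by
    rw [hcjγ, hinf]
    have h1 := Helper4.card_mul_relIndex hTP
    rw [hcP] at h1
    have hpos : 0 < Nat.card ↥T := Nat.card_pos
    have : Nat.card ↥T * T.relIndex P = Nat.card ↥T * 2 := by rw [h1, mul_comm]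
    exact Nat.eq_of_mul_eq_mul_left hpos this
  have h1 := h1_of_gen H P xg y hxH hgen hyN hyQ
  obtain ⟨t, x, ht1, hPt, hpd, hHx⟩ :=
    exists_pdata_of_isPGroup P (xg * y) 2 Nat.prime_two hP hQidx h1
  have hP0 : Hx x 0 (t - 1) = P := by
    have := hHx 0
    rw [pow_zero, cj_one', zero_add] at this
    exact this
  have hP1 : Hx x 1 t = cj (xg * y) P := by
    have := hHx 1
    rw [show 1 + t - 1 = t by omega, pow_one] at this
    exact this
  have hH0 : Hx x 0 t = H := by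
    calc Hx x 0 t = Hx x 0 (t - 1) ⊔ Hx x 1 t := (Hx_sup_overlap x t).symm
      _ = P ⊔ cj (xg * y) P := by rw [hP0, hP1]
      _ = H := by rw [hcjγ, hgen]
  obtain ⟨hpow, hne1, hcm', hcj⟩ := pdata_basic Nat.prime_two hpd ht1
  have hH1 : Hx x 1 (t + 1) = cj (xg * y) H := by
    have := hcj 0 t
    rw [hH0] at this
    exact this.symm
  have hcT : Nat.card ↥T = 2 ^ (t - 1) := by
    have : 2 * Nat.card ↥T = 2 * 2 ^ (t - 1) := by
      rw [← hcP, hPt, ← pow_succ']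
      congr 1
      omega
    omega
  have ht2 : 2 ≤ t := by
    by_contra h0
    have h0' : t = 1 := by omega
    rw [h0'] at hcT
    simp at hcT
    exact hTne hcT
  have hcardH : Nat.card ↥H = 2 ^ t * n := by
    rw [hcH, hcT]
    have : 2 ^ t = 2 * 2 ^ (t - 1) := by
      rw [← pow_succ']
      congr 1
      omega
    rw [this]
    ring
  refine ⟨xg * y, x, t, ht2, ⟨hpd, ?_, ?_⟩, hPt, hH0, hcardH⟩
  · rw [hH0]
    intro h2
    obtain ⟨k, hk⟩ := h2.exists_card_eq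
    rw [hcardH] at hk
    have hdvd : n ∣ 2 ^ k := ⟨2 ^ t, by rw [← hk, mul_comm]⟩
    obtain ⟨j, -, hj⟩ := (Nat.dvd_prime_pow Nat.prime_two).mp hdvd
    obtain ⟨m, hm⟩ := hodd
    rcases Nat.eq_zero_or_pos j with rfl | hjpos
    · rw [pow_zero] at hj
      omega
    · have : 2 ∣ n := by
        rw [hj]
        exact dvd_pow_self 2 (by omega)
      omega
  · intro N hN hnorm
    rw [hP0] at hN
    apply coreP_of_gen H P hPH xg y hxH hyN hy2 hyQ N hN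
    · rw [← hH0, Cfsg.Agent.Lib.Helper23.SIMSAux.Hx_le_iff]
      intro k _ hk
      exact hnorm k (by omega)
    · rw [← hH1, Cfsg.Agent.Lib.Helper23.SIMSAux.Hx_le_iff]
      intro k _ hk
      exact hnorm k (by omega)

/-- ASSEMBLY: the generator data in the setting of Glauberman's dihedral corollary. -/
theorem exists_ddata [Finite G] (H : Subgroup G) (hO : Cfsg.pCore 2 ↥H ≠ ⊥) (n : ℕ) (hn : 2 ≤ n)
    (hdih : Nonempty (↥H ⧸ Cfsg.pCore 2 ↥H ≃* DihedralGroup n))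
    (P : Subgroup G) (hPH : P ≤ H) (hP : IsPGroup 2 ↥P) (hPsyl : ¬ 2 ∣ P.relIndex H)
    (y : G) (hy2 : y ^ 2 ∈ P ⊔ Subgroup.centralizer (P : Set G)) (hyN : cj y P = P)
    (hyQ : ∀ Q : Subgroup G, Q ≤ P → (Q.subgroupOf H).Normal → cj y Q = Q → Q = ⊥) :
    ∃ (γ : G) (x : ℕ → G) (t : ℕ), 2 ≤ t ∧ Odd n ∧ DData γ x t ∧ Nat.card ↥P = 2 ^ t ∧
      Hx x 0 t = H ∧ Nat.card ↥H = 2 ^ t * n := by
  obtain ⟨hodd, hcardM⟩ := dihedral_quotient_data n hn hdih
  have hn3 : 3 ≤ n := by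
    obtain ⟨k, hk⟩ := hodd
    omega
  obtain ⟨hTP, hcP, hcH, hNT, hTQ, hQc⟩ := sylow_facts H P n hodd hcardM hPH hP hPsyl
  obtain ⟨x', hx'⟩ := exists_gen_conj n hodd hdih (P.subgroupOf H) hTQ hQc
  have hgen := transport_gen H P hPH x' hx'
  have hTne : (Cfsg.pCore 2 ↥H).map H.subtype ≠ ⊥ := by
    intro hb
    apply hO
    have hinj : Function.Injective H.subtype := Subtype.coe_injective
    exact (Subgroup.map_eq_bot_iff_of_injective _ hinj).mp hb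
  obtain ⟨γ, x, t, ht2, hD, hPt, hH0, hcardH⟩ :=
    exists_ddata_aux H _ hTne n hodd hn3 P hPH hP hTP hcP hcH hNT (x' : G) x'.2 hgen y hy2 hyN hyQ
  exact ⟨γ, x, t, ht2, hodd, hD, hPt, hH0, hcardH⟩

theorem x0_ne_x1 [Finite G] {p : ℕ} (hp : p.Prime) {g : G} {x : ℕ → G} {t : ℕ} (h : PData p g x t)
    (ht : 2 ≤ t) : x 0 ≠ x 1 := by
  intro h01
  have hle : Hx x 0 1 ≤ Hx x 0 0 := by
    rw [Cfsg.Agent.Lib.Helper23.SIMSAux.Hx_le_iff]
    intro k _ hk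
    rcases (by omega : k = 0 ∨ k = 1) with rfl | rfl
    · exact Cfsg.Agent.Lib.Helper18.SIMSL1.mem_Hx x le_rfl le_rfl
    · rw [← h01]
      exact Cfsg.Agent.Lib.Helper18.SIMSL1.mem_Hx x le_rfl le_rfl
  have h1 := Subgroup.card_le_of_le hle
  rw [h.card 0 1 (by omega) (by omega), h.card 0 0 le_rfl (by omega)] at h1
  have hp2 := hp.two_le
  have : p ^ (0 - 0 + 1) = p := by simp
  rw [this] at h1
  have : p ^ (1 - 0 + 1) = p * p := by
    rw [show 1 - 0 + 1 = 2 by omega, pow_two]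
  rw [this] at h1
  nlinarith

/-- the image of a normal subgroup of `H` in `H / O(H)` is normal. -/
theorem le_normalizer_image (H K : Subgroup G) (hKH : K ≤ H)
    (hN : H ≤ Subgroup.normalizer (K : Set G)) :
    (⊤ : Subgroup (↥H ⧸ Cfsg.oddCore ↥H)) ≤ Subgroup.normalizer
      (((K.subgroupOf H).map (QuotientGroup.mk' (Cfsg.oddCore ↥H)) :
        Subgroup (↥H ⧸ Cfsg.oddCore ↥H)) : Set (↥H ⧸ Cfsg.oddCore ↥H)) := by
  have hKn : (K.subgroupOf H).Normal := (Subgroup.normal_subgroupOf_iff_le_normalizer hKH).2 hN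
  have : ((K.subgroupOf H).map (QuotientGroup.mk' (Cfsg.oddCore ↥H))).Normal :=
    hKn.map _ (QuotientGroup.mk'_surjective _)
  rw [Subgroup.normalizer_eq_top]

/-- ASSEMBLY: Glauberman's dihedral corollary (in `cj` form). -/
theorem dihedral_corollary [Finite G] (H : Subgroup G) (hO : Cfsg.pCore 2 ↥H ≠ ⊥) (n : ℕ)
    (hn : 2 ≤ n) (hdih : Nonempty (↥H ⧸ Cfsg.pCore 2 ↥H ≃* DihedralGroup n))
    (P : Subgroup G) (hPH : P ≤ H) (hP : IsPGroup 2 ↥P) (hPsyl : ¬ 2 ∣ P.relIndex H)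
    (y : G) (hy2 : y ^ 2 ∈ P ⊔ Subgroup.centralizer (P : Set G)) (hyN : cj y P = P)
    (hyQ : ∀ Q : Subgroup G, Q ≤ P → (Q.subgroupOf H).Normal → cj y Q = Q → Q = ⊥) :
    (Nat.card ↥P = 4 ∨ Nat.card ↥P = 8 ∨ Nat.card ↥P = 16) ∧
    (Nonempty (↥H ⧸ Cfsg.oddCore ↥H ≃* Multiplicative (ZMod 2) × Multiplicative (ZMod 2)) ∨
     Nonempty (↥H ⧸ Cfsg.oddCore ↥H ≃* Equiv.Perm (Fin 4)) ∨
     Nonempty (↥H ⧸ Cfsg.oddCore ↥H ≃* Equiv.Perm (Fin 4) × Multiplicative (ZMod 2))) := by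
  obtain ⟨γ, x, t, ht2, hodd, hD, hPt, hH0, hcardH⟩ :=
    exists_ddata H hO n hn hdih P hPH hP hPsyl y hy2 hyN hyQ
  have ht4 := DData.le_four hD
  obtain ⟨l, hl, hnc, e2, e3, e4⟩ := lam_eq_d hD.pdata ht2 ht4 (exists_lam_d hD (by omega))
    (fun l hl1 hlt hl => two_mul_le_d hD (by omega) l hl1 hlt hl)
  obtain ⟨hpow, hne1, hcm', hcj⟩ := pdata_basic Nat.prime_two hD.pdata (by omega)
  have hsq : ∀ i, x i * x i = 1 := fun i => by rw [← pow_two]; exact hpow i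
  have hcm : ∀ i j, i < j → j < i + t → cm (x i) (x j) ∈ Hx x (i + 1) (j - 1) := by
    intro i j hij hjt
    have := hcm' i j hij hjt 1 1
    simpa using this
  have hm : ∀ k, k ≤ t → x k ∈ H := by
    intro k hk
    rw [← hH0]
    exact Cfsg.Agent.Lib.Helper18.SIMSL1.mem_Hx x (by omega) hk
  rcases (by omega : t = 2 ∨ t = 3 ∨ t = 4) with rfl | rfl | rfl
  · -- `t = 2`
    obtain rfl := e2 rfl
    refine ⟨Or.inl (by rw [hPt]; norm_num), Or.inl ?_⟩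
    refine iso_four_group H n hodd (by rw [hcardH]; norm_num) (x 0) (x 1) (hm 0 (by omega))
      (hm 1 (by omega)) (hsq 0) (hsq 1) (hne1 0) (hne1 1) (x0_ne_x1 Nat.prime_two hD.pdata (by omega)) ?_
    intro h hh
    rw [← hH0] at hh
    refine Cfsg.Agent.Lib.Helper18.Sims4.commute_of_mem_Hx' ?_ hh
    intro k _ hk2
    rcases (by omega : k = 0 ∨ k = 1 ∨ k = 2) with rfl | rfl | rfl
    · exact hl 0 1 (by omega)
    · rfl
    · exact ((hl 1 1 (by omega)) : x 1 * x 2 = x 2 * x 1).symm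
  · -- `t = 3`
    obtain rfl := e3 rfl
    refine ⟨Or.inr (Or.inl (by rw [hPt]; norm_num)), Or.inr (Or.inl ?_)⟩
    have hKH : Hx x 1 2 ≤ H := by
      rw [← hH0]
      exact Cfsg.Agent.Lib.Helper18.SIMSL1.Hx_mono x (by omega) (by omega)
    have hN : H ≤ Subgroup.normalizer ((Hx x 1 2 : Subgroup G) : Set G) := by
      have := Hx_le_normalizer_d hD.pdata (by omega)
      rw [hH0] at this
      exact this
    have hK : Nat.card ↥(Hx x 1 2) = 4 := by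
      rw [hD.pdata.card 1 2 (by omega) (by omega)]
      norm_num
    have hk1 : x 1 ∈ Hx x 1 2 := Cfsg.Agent.Lib.Helper18.SIMSL1.mem_Hx x (by omega) (by omega)
    have hk2 : x 2 ∈ Hx x 1 2 := Cfsg.Agent.Lib.Helper18.SIMSL1.mem_Hx x (by omega) (by omega)
    have hbk1 : x 3 * x 1 ≠ x 1 * x 3 := by
      intro h
      apply hnc
      exact commute_unshift hD.pdata.shift 1 0 2 (Eq.symm h)
    have hidx := relIndex_centralizer_four H (Hx x 1 2) hKH hN hK (x 0) (x 3) (x 1) (x 2)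
      (hm 0 (by omega)) (hm 3 (by omega)) (hsq 0) hk1 hk2 (fun h => hnc h) (hl 0 1 (by omega)) hbk1
    have hKc := Cfsg.Agent.Lib.Helper29.SIMSBase.Hx_comm hl (i := 1) (j := 2) (by omega)
    have hK2 : IsPGroup 2 ↥(Hx x 1 2) := IsPGroup.of_card (n := 2) (by rw [hK]; norm_num)
    obtain ⟨hq1, hq2, hq3⟩ := quotient_oddCore_data H (Hx x 1 2) hKH hN hK2 hKc n hodd
      (by rw [hcardH, hK]; ring) hidx
    obtain ⟨f⟩ := perm_four_of_card (G := ↥H ⧸ Cfsg.oddCore ↥H) ⊤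
      (((Hx x 1 2).subgroupOf H).map (QuotientGroup.mk' (Cfsg.oddCore ↥H))) le_top
      (le_normalizer_image H _ hKH hN) (by rw [Subgroup.card_top, hq1, hK]) (by rw [hq2, hK])
      (fun m _ hmk => hq3 m hmk)
    exact ⟨Subgroup.topEquiv.symm.trans f⟩
  · -- `t = 4`
    obtain rfl := e4 rfl
    refine ⟨Or.inr (Or.inr (by rw [hPt]; norm_num)), Or.inr (Or.inr ?_)⟩
    have hKH : Hx x 1 3 ≤ H := by
      rw [← hH0]
      exact Cfsg.Agent.Lib.Helper18.SIMSL1.Hx_mono x (by omega) (by omega)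
    have hN : H ≤ Subgroup.normalizer ((Hx x 1 3 : Subgroup G) : Set G) := by
      have := Hx_le_normalizer_d hD.pdata (by omega)
      rw [hH0] at this
      exact this
    have hK : Nat.card ↥(Hx x 1 3) = 8 := by
      rw [hD.pdata.card 1 3 (by omega) (by omega)]
      norm_num
    have hk1 : x 1 ∈ Hx x 1 3 := Cfsg.Agent.Lib.Helper18.SIMSL1.mem_Hx x (by omega) (by omega)
    have hk2 : x 3 ∈ Hx x 1 3 := Cfsg.Agent.Lib.Helper18.SIMSL1.mem_Hx x (by omega) (by omega)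
    have hzK : x 2 ∈ Hx x 1 3 := Cfsg.Agent.Lib.Helper18.SIMSL1.mem_Hx x (by omega) (by omega)
    have hzc : ∀ h ∈ H, h * x 2 = x 2 * h := by
      intro h hh
      rw [← hH0] at hh
      refine Cfsg.Agent.Lib.Helper18.Sims4.commute_of_mem_Hx' ?_ hh
      intro k _ hk4
      rcases (by omega : k = 0 ∨ k = 1 ∨ k = 2 ∨ k = 3 ∨ k = 4) with rfl | rfl | rfl | rfl | rfl
      · exact hl 0 2 (by omega)
      · exact hl 1 1 (by omega)
      · rfl
      · exact ((hl 2 1 (by omega)) : x 2 * x 3 = x 3 * x 2).symm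
      · exact ((hl 2 2 (by omega)) : x 2 * x 4 = x 4 * x 2).symm
    have hbk1 : x 4 * x 1 ≠ x 1 * x 4 := by
      intro h
      apply hnc
      exact commute_unshift hD.pdata.shift 1 0 3 (Eq.symm h)
    have hKc := Cfsg.Agent.Lib.Helper29.SIMSBase.Hx_comm hl (i := 1) (j := 3) (by omega)
    have hidx := relIndex_centralizer_eight H (Hx x 1 3) hKH hN hK hKc n hodd
      (by rw [hcardH]; norm_num) (x 2) hzK (hne1 2) (hsq 2) hzc (x 0) (x 4) (x 1) (x 3)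
      (hm 0 (by omega)) (hm 4 (by omega)) (hsq 0) hk1 hk2 (fun h => hnc h) (hl 0 1 (by omega)) hbk1
    have hK2 : IsPGroup 2 ↥(Hx x 1 3) := IsPGroup.of_card (n := 3) (by rw [hK]; norm_num)
    obtain ⟨hq1, hq2, hq3⟩ := quotient_oddCore_data H (Hx x 1 3) hKH hN hK2 hKc n hodd
      (by rw [hcardH, hK]; ring) hidx
    obtain ⟨S, hSH, hS, hzS⟩ := exists_card_eight_d hD.pdata hsq hcm hl hnc
    rw [hH0] at hSH
    obtain ⟨hS1, hS2⟩ := image_in_quotient_oddCore H S hSH hS (x 2) (hKH hzK) (hsq 2) hzc hzS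
    obtain ⟨f⟩ := perm_four_prod_of_card (G := ↥H ⧸ Cfsg.oddCore ↥H)
      (fun H' K' => perm_four_of_card H' K') ⊤
      (((Hx x 1 3).subgroupOf H).map (QuotientGroup.mk' (Cfsg.oddCore ↥H)))
      ((S.subgroupOf H).map (QuotientGroup.mk' (Cfsg.oddCore ↥H))) le_top
      (le_normalizer_image H _ hKH hN) (by rw [Subgroup.card_top, hq1, hK]) (by rw [hq2, hK])
      (fun m _ hmk => hq3 m hmk)
      (QuotientGroup.mk' (Cfsg.oddCore ↥H) ⟨x 2, hKH hzK⟩)
      ⟨⟨x 2, hKH hzK⟩, by rw [SetLike.mem_coe, Subgroup.mem_subgroupOf]; exact hzK, rfl⟩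
      (by
        rw [← map_mul]
        have : (⟨x 2, hKH hzK⟩ : ↥H) * ⟨x 2, hKH hzK⟩ = 1 := Subtype.ext (hsq 2)
        rw [this, map_one])
      (by
        intro m _
        obtain ⟨h, rfl⟩ := QuotientGroup.mk'_surjective (Cfsg.oddCore ↥H) m
        rw [← map_mul, ← map_mul]
        congr 1
        exact Subtype.ext (hzc h.1 h.2))
      le_top hS1 hS2
    exact ⟨Subgroup.topEquiv.symm.trans f⟩

end Cfsg.Agent.Lib.Helper18.Glaub2
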