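import Mathlib
import Cfsg.Agent.S0215
import Cfsg.Agent.Lib.Helper26.ZStarFusion
import Cfsg.Prelude.Def_Transfer

set_option autoImplicit false

open Cfsg Cfsg.Agent.Lib.Helper26

namespace Cfsg.Agent.Lib.Helper18.IsoCenter

universe u

variable {G : Type u} [Group G]

/-- `Z*` for isolated `2`-elements, unconditionally. -/
theorem comm_mem_oddCore [Finite G] (S : Sylow 2 G) {x : G} (h : IsolatedIn (S : Subgroup G) x)
    (g : G) : x * g * x⁻¹ * g⁻¹ ∈ Cfsg.oddCore G :=
  IsolatedIn.comm_mem_oddCore (fun P u hu huP hiso => Cfsg.Agent.S0215.result P u hu huP hiso) S h g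

/-- If every element of `Z(S)` is isolated, then `O(G) Z(S)` is normal. -/
theorem normal_oddCore_sup_center [Finite G] (S : Sylow 2 G)
    (hiso : ∀ c ∈ (Subgroup.center (S : Subgroup G)).map (S : Subgroup G).subtype,
      IsolatedIn (S : Subgroup G) c) :
    (Cfsg.oddCore G ⊔ (Subgroup.center (S : Subgroup G)).map (S : Subgroup G).subtype).Normal := by
  have hOn : (Cfsg.oddCore G).Normal := Subgroup.sSup_normal _ (fun _ h => h.1)
  set Z := (Subgroup.center (S : Subgroup G)).map (S : Subgroup G).subtype with hZ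
  -- conjugates of generators stay inside
  have key : ∀ g : G, ∀ a ∈ Cfsg.oddCore G ⊔ Z, g * a * g⁻¹ ∈ Cfsg.oddCore G ⊔ Z := by
    intro g a ha
    rw [Subgroup.sup_eq_closure] at ha
    induction ha using Subgroup.closure_induction with
    | mem a ha =>
      rcases ha with ha | ha
      · exact Subgroup.mem_sup_left (hOn.conj_mem a ha g)
      · have h1 := comm_mem_oddCore S (hiso a ha) g
        have h2 : g * a * g⁻¹ = (a * g * a⁻¹ * g⁻¹)⁻¹ * a := by group
        rw [h2]
        exact Subgroup.mul_mem _ (Subgroup.mem_sup_left (Subgroup.inv_mem _ h1))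
          (Subgroup.mem_sup_right ha)
    | one => simp
    | mul a b _ _ iha ihb =>
      have : g * (a * b) * g⁻¹ = (g * a * g⁻¹) * (g * b * g⁻¹) := by group
      rw [this]; exact Subgroup.mul_mem _ iha ihb
    | inv a _ iha =>
      have : g * a⁻¹ * g⁻¹ = (g * a * g⁻¹)⁻¹ := by group
      rw [this]; exact Subgroup.inv_mem _ iha
  exact ⟨fun a ha g => key g a ha⟩

/-- A cyclic `2`-subgroup `⟨c⟩` centralized by a Sylow `2`-subgroup: its normalizer centralizes it. -/
theorem normalizer_le_centralizer_zpowers [Finite G] (S : Sylow 2 G) (c : G)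
    (hc : ∀ s ∈ S, s * c = c * s) (k : ℕ) (hk : orderOf c = 2 ^ k) :
    Subgroup.normalizer (Subgroup.zpowers c : Set G) ≤
      Subgroup.centralizer (Subgroup.zpowers c : Set G) := by
  have : Fact (Nat.Prime 2) := ⟨Nat.prime_two⟩
  set H := Subgroup.zpowers c with hH
  have hSC : (S : Subgroup G) ≤ Subgroup.centralizer (H : Set G) := by
    intro s hs
    rw [Subgroup.mem_centralizer_iff]
    intro y hy
    obtain ⟨j, rfl⟩ := Subgroup.mem_zpowers_iff.mp hy
    have : Commute s c := hc s hs
    exact ((this.zpow_right j).eq).symm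
  have hCN : Subgroup.centralizer (H : Set G) ≤ Subgroup.normalizer (H : Set G) :=
    Subgroup.centralizer_le_normalizer _
  have key := Subgroup.card_dvd_of_injective _
    (QuotientGroup.kerLift_injective (Subgroup.normalizerMonoidHom H))
  rw [Subgroup.normalizerMonoidHom_ker, ← Subgroup.index, ← Subgroup.relIndex] at key
  have hcyc : IsCyclic H := by rw [hH]; infer_instance
  have hcardH : Nat.card H = 2 ^ k := by rw [hH, Nat.card_zpowers, hk]
  rw [hcyc.card_mulAut, hcardH] at key
  -- `relIndex` divides a power of two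
  have h2 : ∃ j, (Subgroup.centralizer (H : Set G)).relIndex (Subgroup.normalizer (H : Set G)) = 2 ^ j := by
    rcases Nat.eq_zero_or_pos k with h0 | h0
    · rw [h0, pow_zero, Nat.totient_one] at key
      exact ⟨0, Nat.dvd_one.mp key⟩
    · rw [Nat.totient_prime_pow Nat.prime_two h0] at key
      have : (2 : ℕ) ^ (k - 1) * (2 - 1) = 2 ^ (k - 1) := by norm_num
      rw [this] at key
      obtain ⟨j, -, hj⟩ := (Nat.dvd_prime_pow Nat.prime_two).mp key
      exact ⟨j, hj⟩
  obtain ⟨j, hj⟩ := h2
  -- and it is odd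
  have hodd : ¬ 2 ∣ (Subgroup.centralizer (H : Set G)).relIndex (Subgroup.normalizer (H : Set G)) := by
    intro hdvd
    have h3 := Subgroup.relIndex_mul_relIndex (S : Subgroup G) (Subgroup.centralizer (H : Set G))
      (Subgroup.normalizer (H : Set G)) hSC hCN
    have h4 : (S : Subgroup G).relIndex (Subgroup.normalizer (H : Set G)) ∣ (S : Subgroup G).index :=
      Subgroup.relIndex_dvd_index_of_le (hSC.trans hCN)
    have h5 : 2 ∣ (S : Subgroup G).index :=
      dvd_trans (dvd_trans hdvd (Dvd.intro_left _ h3)) h4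
    exact S.not_dvd_index h5
  have hone : (Subgroup.centralizer (H : Set G)).relIndex (Subgroup.normalizer (H : Set G)) = 1 := by
    rcases Nat.eq_zero_or_pos j with h0 | h0
    · rw [hj, h0, pow_zero]
    · exfalso
      apply hodd
      rw [hj]
      exact dvd_pow_self 2 (by omega)
  exact Subgroup.relIndex_eq_one.mp hone

/-- An element `c ∈ Z(S)` of `2`-power order such that `⟨c⟩` is weakly closed in `S` is isolated. -/
theorem isolatedIn_of_weaklyClosed [Finite G] (S : Sylow 2 G) (c : G) (hcS : c ∈ S)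
    (hc : ∀ s ∈ S, s * c = c * s)
    (hwc : Cfsg.IsWeaklyClosed (Subgroup.zpowers c) (S : Subgroup G)) :
    IsolatedIn (S : Subgroup G) c := by
  refine ⟨hcS, fun g hg => ?_⟩
  obtain ⟨k, hk⟩ : ∃ k, orderOf c = 2 ^ k := by
    obtain ⟨k, hk⟩ := (IsPGroup.iff_orderOf.mp S.2) ⟨c, hcS⟩
    exact ⟨k, by rw [← hk]; exact (Subgroup.orderOf_mk c hcS).symm⟩
  have hmap : (Subgroup.zpowers c).map (MulAut.conj g).toMonoidHom = Subgroup.zpowers (g * c * g⁻¹) := by
    rw [MonoidHom.map_zpowers]; rfl
  have h1 := hwc.2 g (by rw [hmap, Subgroup.zpowers_le]; exact hg)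
  -- `g` normalizes `⟨c⟩`
  have hgN : g ∈ Subgroup.normalizer (Subgroup.zpowers c : Set G) := by
    rw [Subgroup.mem_normalizer_iff]
    intro a
    constructor
    · intro ha
      rw [← h1]
      exact ⟨a, ha, rfl⟩
    · intro ha
      rw [← h1] at ha
      obtain ⟨b, hb, hba⟩ := ha
      have : b = a := by
        have h2 : g * b * g⁻¹ = g * a * g⁻¹ := hba
        exact mul_left_cancel (mul_right_cancel h2)
      rw [← this]; exact hb
  have hgC := normalizer_le_centralizer_zpowers S c hc k hk hgN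
  rw [Subgroup.mem_centralizer_iff] at hgC
  have h2 := hgC c (Subgroup.mem_zpowers c)
  rw [← h2, mul_inv_cancel_right]

/-- If `G` has a normal `2`-complement, every element of `Z(S)` is isolated. -/
theorem isolatedIn_of_normalComplement [Finite G] (S : Sylow 2 G)
    (hG : Cfsg.HasNormalPComplement 2 G) (c : G) (hcS : c ∈ S) (hc : ∀ s ∈ S, s * c = c * s) :
    IsolatedIn (S : Subgroup G) c := by
  have : Fact (Nat.Prime 2) := ⟨Nat.prime_two⟩
  obtain ⟨P, N, hNn, hNP⟩ := hG
  have hcardP : Nat.card (P : Subgroup G) = Nat.card (S : Subgroup G) := by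
    rw [Sylow.card_eq_multiplicity, Sylow.card_eq_multiplicity]
  have h1 := hNP.card_mul_card
  have hcop : Nat.Coprime (Nat.card N) (Nat.card (S : Subgroup G)) := by
    have h2 := (P : Subgroup G).card_mul_index
    have h3 : Nat.card N = (P : Subgroup G).index := by
      have hpos : 0 < Nat.card (P : Subgroup G) := Nat.card_pos
      nlinarith
    rw [h3, ← hcardP]
    exact (P.card_coprime_index).symm
  have hcompl : N.IsComplement' (S : Subgroup G) :=
    Subgroup.isComplement'_of_coprime (by rw [← hcardP]; exact h1) hcop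
  have hdisj : N ⊓ (S : Subgroup G) = ⊥ := hcompl.disjoint.eq_bot
  have htop : N ⊔ (S : Subgroup G) = ⊤ := hcompl.sup_eq_top
  refine ⟨hcS, fun g hg => ?_⟩
  -- `g = n * s`
  have hgmem : g ∈ N ⊔ (S : Subgroup G) := by rw [htop]; exact Subgroup.mem_top g
  rw [← SetLike.mem_coe, Subgroup.normal_mul] at hgmem
  obtain ⟨n, hn, s, hs, rfl⟩ := hgmem
  have h2 : n * s * c * (n * s)⁻¹ = n * c * n⁻¹ := by
    have := hc s hs
    calc n * s * c * (n * s)⁻¹ = n * (s * c) * s⁻¹ * n⁻¹ := by group
      _ = n * (c * s) * s⁻¹ * n⁻¹ := by rw [this]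
      _ = n * c * n⁻¹ := by group
  rw [h2] at hg ⊢
  have h3 : n * c * n⁻¹ * c⁻¹ ∈ N ⊓ (S : Subgroup G) := by
    refine ⟨?_, Subgroup.mul_mem _ hg (Subgroup.inv_mem _ hcS)⟩
    have : n * c * n⁻¹ * c⁻¹ = n * (c * n⁻¹ * c⁻¹) := by group
    rw [this]
    exact N.mul_mem hn (hNn.conj_mem n⁻¹ (N.inv_mem hn) c)
  rw [hdisj, Subgroup.mem_bot] at h3
  exact mul_inv_eq_one.mp h3

end Cfsg.Agent.Lib.Helper18.IsoCenter
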