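import Mathlib
import Cfsg.Agent.Lib.Helper11.LSDefs

/-!
# S2333 leaf LSQ1 (helper18): non-defective forms of dimension at most one have trivial isometry group
-/

set_option autoImplicit false
open QuadraticMap Module Cfsg.Agent.Lib.Helper11.LS

namespace Cfsg.Agent.Lib.Helper18.LSLeaf

universe u
variable {F : Type*} [Field F] {V : Type u} [AddCommGroup V] [Module F V]

theorem card_isoGroup_le_one [Fintype F] [CharP F 2] [Finite V] (Q : QuadraticForm F V)
    (hQ : Nondef Q) (h : finrank F V ≤ 1) : Nat.card (isoGroup Q) ≤ 1 := by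
  classical
  have : Module.Finite F V := Module.Finite.of_finite
  have hfin : Finite (V ≃ₗ[F] V) := Finite.of_injective (fun g => (g : V → V)) (fun g h hgh => by
    ext x; exact congrFun hgh x)
  have h2 : (2 : F) = 0 := CharTwo.two_eq_zero
  rw [Finite.card_le_one_iff_subsingleton]
  suffices hone : ∀ g ∈ isoGroup Q, ∀ x : V, g x = x by
    constructor
    rintro ⟨g, hg⟩ ⟨g', hg'⟩
    apply Subtype.ext
    ext x
    show g x = g' x
    rw [hone g hg x, hone g' hg' x]
  intro g hg x
  rcases Nat.lt_or_ge (finrank F V) 1 with h0 | h1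
  · have h00 : finrank F V = 0 := by omega
    have hsub : Subsingleton V := Module.finrank_zero_iff.1 h00
    exact Subsingleton.elim _ _
  · have h11 : finrank F V = 1 := le_antisymm h h1
    obtain ⟨z, hz0, hz⟩ := finrank_eq_one_iff'.1 h11
    have hQz : Q z ≠ 0 := by
      intro hQz
      apply hz0
      apply hQ z _ hQz
      intro w
      obtain ⟨c, rfl⟩ := hz w
      rw [polar_smul_right, polar_self, two_smul]
      have : Q z + Q z = (2 : F) • Q z := (two_smul F (Q z)).symm
      rw [this, h2, zero_smul, smul_zero]
    obtain ⟨a, ha⟩ := hz (g z)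
    have h3 : Q (g z) = Q z := hg z
    rw [← ha, QuadraticMap.map_smul] at h3
    have h4 : a * a = 1 := by
      have h5 : (a * a - 1) * Q z = 0 := by
        rw [sub_mul, one_mul]
        rw [smul_eq_mul] at h3
        rw [h3, sub_self]
      rcases mul_eq_zero.1 h5 with h6 | h6
      · exact sub_eq_zero.1 h6
      · exact absurd h6 hQz
    have h5 : a = 1 := by
      have h6 : (a - 1) * (a - 1) = 0 := by
        have : (a - 1) * (a - 1) = a * a - 2 * a + 1 := by ring
        rw [this, h4, h2]
        have : (1 : F) - 0 * a + 1 = 2 := by ring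
        rw [this, h2]
      have h7 := mul_self_eq_zero.1 h6
      exact sub_eq_zero.1 h7
    have hgz : g z = z := by rw [← ha, h5, one_smul]
    obtain ⟨c, rfl⟩ := hz x
    rw [map_smul, hgz]

end Cfsg.Agent.Lib.Helper18.LSLeaf
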