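import Cfsg.Agent.Lib.Helper25.SingPts
import Cfsg.Agent.Lib.Helper5.OmegaCenter

set_option autoImplicit false

/-!
# The action of `PΩ(Q)` on singular points: a subgroup of index the number of singular points
-/

namespace Cfsg.Agent.Lib.Helper18.MinIdx

open Module QuadraticMap Matrix Cfsg.Agent.Lib.Helper25.CD Cfsg.Agent.Lib.Helper25.PS
  Cfsg.Agent.Lib.Helper25.MaxTS Cfsg.Agent.Lib.Helper5.OmegaCenter

section count

variable {ι : Type} [Fintype ι] [DecidableEq ι] {F : Type*} [Field F] [Fintype F]
  (Q : QuadraticForm F (ι → F))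

/-- the nonzero singular vectors are the nonzero vectors of the singular points -/
theorem card_SPt_mul :
    Nat.card (SPt Q) * (Fintype.card F - 1) = Nat.card {v : ι → F // v ≠ 0 ∧ Q v = 0} := by
  classical
  have hrep : ∀ P : SPt Q, ∃ u : ι → F, u ≠ 0 ∧ Q u = 0 ∧ P.1 = Submodule.span F {u} := by
    intro P
    obtain ⟨u, hu0, hu, hP⟩ := exists_rep Q P
    exact ⟨u, hu0, hu, by rw [hP, mk'_val]⟩
  choose rep hrep0 hrepQ hspan using hrep
  let e : SPt Q × Fˣ → {v : ι → F // v ≠ 0 ∧ Q v = 0} :=
    fun x => ⟨(x.2 : F) • rep x.1, smul_ne_zero x.2.ne_zero (hrep0 x.1), by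
      rw [QuadraticMap.map_smul, hrepQ, smul_zero]⟩
  have hbij : Function.Bijective e := by
    constructor
    · rintro ⟨W, c⟩ ⟨W', c'⟩ h
      have h1 : (c : F) • rep W = (c' : F) • rep W' := congrArg Subtype.val h
      have h2 : W = W' := by
        apply Subtype.ext
        rw [hspan W, hspan W', ← Submodule.span_singleton_smul_eq c.isUnit (rep W),
          ← Submodule.span_singleton_smul_eq c'.isUnit (rep W'), h1]
      subst h2
      have h3 : ((c : F) - (c' : F)) • rep W = 0 := by rw [sub_smul, h1, sub_self]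
      have h4 : (c : F) - (c' : F) = 0 := by
        rcases smul_eq_zero.1 h3 with h | h
        · exact h
        · exact absurd h (hrep0 W)
      have h5 : c = c' := Units.ext (sub_eq_zero.1 h4)
      rw [h5]
    · rintro ⟨v, hv0, hv⟩
      have h1 : rep (mk' Q v hv0 hv) ∈ Submodule.span F {v} := by
        have := hspan (mk' Q v hv0 hv)
        rw [mk'_val] at this
        rw [this]
        exact Submodule.mem_span_singleton_self _
      obtain ⟨a, ha⟩ := Submodule.mem_span_singleton.1 h1
      have ha0 : a ≠ 0 := by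
        intro h0
        rw [h0, zero_smul] at ha
        exact hrep0 _ ha.symm
      refine ⟨⟨mk' Q v hv0 hv, Units.mk0 a⁻¹ (inv_ne_zero ha0)⟩, ?_⟩
      apply Subtype.ext
      show (a⁻¹ : F) • rep (mk' Q v hv0 hv) = v
      rw [← ha, smul_smul, inv_mul_cancel₀ ha0, one_smul]
  rw [← Nat.card_congr (Equiv.ofBijective e hbij), Nat.card_prod]
  congr 1
  rw [Nat.card_eq_fintype_card, Fintype.card_units]

/-- the number of singular points, from the number of singular vectors -/
theorem card_SPt_mul' :
    Nat.card (SPt Q) * (Fintype.card F - 1) = Nat.card {v : ι → F // Q v = 0} - 1 := by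
  classical
  rw [card_SPt_mul]
  have h1 : Nat.card {v : ι → F // Q v = 0} =
      Nat.card {v : ι → F // v ≠ 0 ∧ Q v = 0} + 1 := by
    rw [Nat.card_eq_fintype_card, Nat.card_eq_fintype_card, Fintype.card_subtype,
      Fintype.card_subtype]
    have h2 : (Finset.univ.filter fun v : ι → F => Q v = 0) =
        insert 0 (Finset.univ.filter fun v : ι → F => v ≠ 0 ∧ Q v = 0) := by
      ext v
      simp only [Finset.mem_filter, Finset.mem_univ, true_and, Finset.mem_insert]
      constructor
      · intro hv
        by_cases h0 : v = 0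
        · exact Or.inl h0
        · exact Or.inr ⟨h0, hv⟩
      · rintro (h | h)
        · rw [h, QuadraticMap.map_zero]
        · exact h.2
    rw [h2, Finset.card_insert_of_notMem]
    simp
  rw [h1, Nat.add_sub_cancel]

end count

section action

variable {ι : Type} [Fintype ι] [DecidableEq ι] {F : Type*} [Field F] [Fintype F]
  (Q : QuadraticForm F (ι → F))

/-- the centre of `Ω` fixes every singular point -/
theorem center_smul (hQ : (polarBilin Q).Nondegenerate) (hn : 5 ≤ Fintype.card ι)
    (z : ↥(Cfsg.Omega F ⇑Q)) (hz : z ∈ Subgroup.center ↥(Cfsg.Omega F ⇑Q)) (P : SPt Q) :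
    z • P = P := by
  have h1 := center_pm_one Q hQ (Or.inr (by omega)) (by omega) (coe_mem_CZ Q z hz)
  apply Subtype.ext
  show P.1.map (lm Q (z : ↥(Cfsg.isometryGroup F ⇑Q))) = P.1
  ext x
  constructor
  · rintro ⟨y, hy, rfl⟩
    rw [lm_apply, toOG_apply]
    rcases h1 with h | h
    · rw [h, Matrix.one_mulVec]
      exact hy
    · rw [h, Matrix.neg_mulVec, Matrix.one_mulVec]
      exact P.1.neg_mem hy
  · intro hx
    rcases h1 with h | h
    · refine ⟨x, hx, ?_⟩
      rw [lm_apply, toOG_apply, h, Matrix.one_mulVec]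
    · refine ⟨-x, P.1.neg_mem hx, ?_⟩
      rw [lm_apply, toOG_apply, h, Matrix.neg_mulVec, Matrix.one_mulVec, neg_neg]

/-- `PΩ(Q)` has a subgroup of index the number of singular points -/
theorem exists_index_SPt (hQ : (polarBilin Q).Nondegenerate) (hn : 5 ≤ Fintype.card ι)
    (hne : Nonempty (SPt Q)) :
    ∃ H : Subgroup (Cfsg.POmega F ⇑Q), H.index = Nat.card (SPt Q) := by
  obtain ⟨P₀⟩ := hne
  have htr := omega_pretransitive Q hQ hn
  refine ⟨(MulAction.stabilizer ↥(Cfsg.Omega F ⇑Q) P₀).map
    (QuotientGroup.mk' (Subgroup.center ↥(Cfsg.Omega F ⇑Q))), ?_⟩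
  rw [Subgroup.index_map_eq _ (QuotientGroup.mk'_surjective _)]
  · exact MulAction.index_stabilizer_of_transitive _ _
  · rw [QuotientGroup.ker_mk']
    intro z hz
    rw [MulAction.mem_stabilizer_iff]
    exact center_smul Q hQ hn z hz P₀

end action

end Cfsg.Agent.Lib.Helper18.MinIdx
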