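import Cfsg.Agent.Lib.Helper18.MinIdxOrthA
import Cfsg.Agent.Lib.Helper25.SpinForms
import Cfsg.Agent.Lib.Helper14.OrthPlus

set_option autoImplicit false

/-!
# Existence halves of the minimal-index statements for the orthogonal groups
(singular points): plus type, minus type, odd dimension
-/

namespace Cfsg.Agent.Lib.Helper18.MinIdx

open Module QuadraticMap Matrix Cfsg.Agent.Lib.Helper25.CD Cfsg.Agent.Lib.Helper25.PS
  Cfsg.Agent.Lib.Helper25.Spin Cfsg.Agent.Lib.Helper14 Cfsg.Agent.Lib.Helper14.OrthMinus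
  Cfsg.Agent.Lib.Helper14.QuadExt

variable {F : Type*} [Field F] [Fintype F]

/-- general shape: from a count of singular vectors to a subgroup of that index -/
theorem exists_index_of_count {ι : Type} [Fintype ι] [DecidableEq ι]
    (Q : QuadraticForm F (ι → F)) (hQ : (polarBilin Q).Nondegenerate)
    (hn : 5 ≤ Fintype.card ι) (N : ℕ) (hN : 0 < N)
    (hcount : Nat.card {v : ι → F // Q v = 0} = N + 1) :
    ∃ H : Subgroup (Cfsg.POmega F ⇑Q), H.index = N / (Fintype.card F - 1) := by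
  have hq : 1 < Fintype.card F := Fintype.one_lt_card
  have h1 := card_SPt_mul' Q
  rw [hcount, Nat.add_sub_cancel] at h1
  have hne : Nonempty (SPt Q) := by
    by_contra hemp
    rw [not_nonempty_iff] at hemp
    rw [Nat.card_of_isEmpty, zero_mul] at h1
    omega
  obtain ⟨H, hH⟩ := exists_index_SPt Q hQ hn hne
  refine ⟨H, ?_⟩
  rw [hH]
  exact (Nat.div_eq_of_eq_mul_left (by omega) h1.symm).symm

/-- `PΩ⁺_{2m}(q)` has a subgroup of index `(q^m-1)(q^(m-1)+1)/(q-1)` -/
theorem exists_index_plus {q : ℕ} (hF : Fintype.card F = q) (m : ℕ) (hm : 3 ≤ m) :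
    ∃ H : Subgroup (Cfsg.POmega F (Cfsg.quadFormPlus m F)),
      H.index = (q ^ m - 1) * (q ^ (m - 1) + 1) / (q - 1) := by
  classical
  subst hF
  have hq : 1 < Fintype.card F := Fintype.one_lt_card
  have hcard : 5 ≤ Fintype.card (Fin m ⊕ Fin m) := by
    rw [Fintype.card_sum, Fintype.card_fin]; omega
  have hqm : 2 ≤ Fintype.card F ^ m := by
    calc 2 ≤ Fintype.card F := hq
      _ = Fintype.card F ^ 1 := (pow_one _).symm
      _ ≤ Fintype.card F ^ m := Nat.pow_le_pow_right (by omega) (by omega)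
  have hcount : Nat.card {v : Fin m ⊕ Fin m → F //
      (qfOf (isQF_plus (F := F) (m := m))) v = 0} =
      (Fintype.card F ^ m - 1) * (Fintype.card F ^ (m - 1) + 1) + 1 := by
    have := plus_card_zero (F := F) m
    rw [show (fun v : Fin m ⊕ Fin m → F => (qfOf (isQF_plus (F := F) (m := m))) v = 0) =
      fun v => Cfsg.quadFormPlus m F v = 0 from rfl, this]
    obtain ⟨A, hA⟩ : ∃ A, Fintype.card F ^ m = A + 1 := ⟨Fintype.card F ^ m - 1, by omega⟩
    rw [hA, Nat.add_sub_cancel]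
    ring
  exact exists_index_of_count (qfOf (isQF_plus (F := F) (m := m))) (qfOf_nondeg _) hcard _
    (Nat.mul_pos (by omega) (by omega)) hcount

/-- `PΩ⁻_{2m}(q)` has a subgroup of index `(q^m+1)(q^(m-1)-1)/(q-1)` -/
theorem exists_index_minus {q : ℕ} (hF : Fintype.card F = q) (m : ℕ) (hm : 3 ≤ m) (a b : F)
    (hab : ∀ z₁ z₂ : F, z₁ ^ 2 + a * z₁ * z₂ + b * z₂ ^ 2 = 0 → z₁ = 0 ∧ z₂ = 0) :
    ∃ H : Subgroup (Cfsg.POmega F (Cfsg.quadFormMinus (m - 1) F a b)),
      H.index = (q ^ m + 1) * (q ^ (m - 1) - 1) / (q - 1) := by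
  classical
  subst hF
  have hab' : Aniso a b := hab
  have hD := disc_ne_zero hab'
  have hq : 1 < Fintype.card F := Fintype.one_lt_card
  obtain ⟨n, rfl⟩ : ∃ n, m = n + 1 := ⟨m - 1, by omega⟩
  rw [Nat.add_sub_cancel]
  have hcard : 5 ≤ Fintype.card ((Fin n ⊕ Fin n) ⊕ Fin 2) := by
    rw [Fintype.card_sum, Fintype.card_sum, Fintype.card_fin, Fintype.card_fin]; omega
  have hqn : 2 ≤ Fintype.card F ^ n := by
    calc 2 ≤ Fintype.card F := hq
      _ = Fintype.card F ^ 1 := (pow_one _).symm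
      _ ≤ Fintype.card F ^ n := Nat.pow_le_pow_right (by omega) (by omega)
  have hcount : Nat.card {v : (Fin n ⊕ Fin n) ⊕ Fin 2 → F //
      (qfOf (isQF_minus (F := F) (n := n) hD)) v = 0} =
      (Fintype.card F ^ (n + 1) + 1) * (Fintype.card F ^ n - 1) + 1 := by
    have := minus_card_zero (F := F) hab' n
    rw [show (fun v : (Fin n ⊕ Fin n) ⊕ Fin 2 → F =>
        (qfOf (isQF_minus (F := F) (n := n) hD)) v = 0) =
      fun v => Cfsg.quadFormMinus n F a b v = 0 from rfl, this]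
    obtain ⟨A, hA⟩ : ∃ A, Fintype.card F ^ n = A + 1 := ⟨Fintype.card F ^ n - 1, by omega⟩
    rw [hA, Nat.add_sub_cancel]
    ring
  exact exists_index_of_count (qfOf (isQF_minus (F := F) (n := n) hD)) (qfOf_nondeg _) hcard _
    (Nat.mul_pos (by omega) (by omega)) hcount

/-- `PΩ_{2m+1}(q)`, `q` odd, has a subgroup of index `(q^(2m)-1)/(q-1)` -/
theorem exists_index_odd {q : ℕ} (hF : Fintype.card F = q) (hodd : Odd q) (m : ℕ)
    (hm : 2 ≤ m) :
    ∃ H : Subgroup (Cfsg.POmega F (Cfsg.quadFormOdd m F)),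
      H.index = (q ^ (2 * m) - 1) / (q - 1) := by
  classical
  subst hF
  have h2 : (2 : F) ≠ 0 := two_ne_zero_of_odd_card hodd
  have hq : 1 < Fintype.card F := Fintype.one_lt_card
  have hcard : 5 ≤ Fintype.card (Unit ⊕ (Fin m ⊕ Fin m)) := by
    rw [Fintype.card_sum, Fintype.card_sum, Fintype.card_fin, Fintype.card_unit]; omega
  have hqm : 2 ≤ Fintype.card F ^ (2 * m) := by
    calc 2 ≤ Fintype.card F := hq
      _ = Fintype.card F ^ 1 := (pow_one _).symm
      _ ≤ Fintype.card F ^ (2 * m) := Nat.pow_le_pow_right (by omega) (by omega)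
  have hcount : Nat.card {v : Unit ⊕ (Fin m ⊕ Fin m) → F //
      (qfOf (isQF_odd (F := F) (m := m) h2)) v = 0} =
      (Fintype.card F ^ (2 * m) - 1) + 1 := by
    have := odd_card_zero (F := F) m
    rw [show (fun v : Unit ⊕ (Fin m ⊕ Fin m) → F =>
        (qfOf (isQF_odd (F := F) (m := m) h2)) v = 0) =
      fun v => Cfsg.quadFormOdd m F v = 0 from rfl, this]
    omega
  exact exists_index_of_count (qfOf (isQF_odd (F := F) (m := m) h2)) (qfOf_nondeg _) hcard _
    (by omega) hcount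

end Cfsg.Agent.Lib.Helper18.MinIdx
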