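/-
helper18 (S3894): base definitions for nilpotent minimal covers of groups between `PSL_n(F)` and
`PGL_n(F)`: the projection `GL_n → PGL_n`, the full preimage `lift G A` of a subgroup `A` of
`G ≤ PGL_n` (nilpotent when `A` is), the subgroup `down G B` of `G` cut out by a subgroup `B` of
`GL_n` containing the centre, and stabilizers of lines.
-/
import Mathlib
import Cfsg.Agent.Lib.Helper27.NilpCover

set_option autoImplicit false

namespace Cfsg.Agent.Lib.Helper18.NilCov

open Matrix Subgroup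

variable {n : ℕ} {F : Type*} [Field F]

/-- the projection `GL_n → PGL_n` -/
abbrev proj (n : ℕ) (F : Type*) [Field F] :
    GL (Fin n) F →* GL (Fin n) F ⧸ Subgroup.center (GL (Fin n) F) :=
  QuotientGroup.mk' (Subgroup.center (GL (Fin n) F))

theorem proj_eq_one_iff {x : GL (Fin n) F} :
    proj n F x = 1 ↔ x ∈ Subgroup.center (GL (Fin n) F) := by
  rw [← MonoidHom.mem_ker, QuotientGroup.ker_mk']

theorem proj_eq_iff {x y : GL (Fin n) F} :
    proj n F x = proj n F y ↔ ∃ z ∈ Subgroup.center (GL (Fin n) F), y = x * z := by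
  constructor
  · intro h
    refine ⟨x⁻¹ * y, ?_, by group⟩
    rw [← proj_eq_one_iff, map_mul, map_inv, h, inv_mul_cancel]
  · rintro ⟨z, hz, rfl⟩
    rw [map_mul, proj_eq_one_iff.mpr hz, mul_one]

/-- the full preimage in `GL_n` of a subgroup `A` of `G ≤ PGL_n` -/
def lift (G : Subgroup (GL (Fin n) F ⧸ Subgroup.center (GL (Fin n) F))) (A : Subgroup ↥G) :
    Subgroup (GL (Fin n) F) :=
  (A.map G.subtype).comap (proj n F)

theorem mem_lift {G : Subgroup (GL (Fin n) F ⧸ Subgroup.center (GL (Fin n) F))}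
    {A : Subgroup ↥G} {x : GL (Fin n) F} :
    x ∈ lift G A ↔ ∃ h : proj n F x ∈ G, (⟨proj n F x, h⟩ : ↥G) ∈ A := by
  unfold lift
  rw [Subgroup.mem_comap, Subgroup.mem_map]
  constructor
  · rintro ⟨a, ha, hax⟩
    have h : proj n F x ∈ G := hax ▸ a.2
    refine ⟨h, ?_⟩
    have : (⟨proj n F x, h⟩ : ↥G) = a := Subtype.ext hax.symm
    rw [this]; exact ha
  · rintro ⟨h, hA⟩
    exact ⟨⟨proj n F x, h⟩, hA, rfl⟩

theorem center_le_lift (G : Subgroup (GL (Fin n) F ⧸ Subgroup.center (GL (Fin n) F)))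
    (A : Subgroup ↥G) : Subgroup.center (GL (Fin n) F) ≤ lift G A := by
  intro z hz
  rw [mem_lift]
  have h1 : proj n F z = 1 := proj_eq_one_iff.mpr hz
  refine ⟨h1 ▸ G.one_mem, ?_⟩
  have : (⟨proj n F z, h1 ▸ G.one_mem⟩ : ↥G) = 1 := Subtype.ext h1
  rw [this]; exact A.one_mem

/-- the preimage of a nilpotent subgroup is nilpotent (central extension) -/
theorem lift_isNilpotent (G : Subgroup (GL (Fin n) F ⧸ Subgroup.center (GL (Fin n) F)))
    (A : Subgroup ↥G) (hA : Group.IsNilpotent ↥A) : Group.IsNilpotent ↥(lift G A) := by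
  let f : ↥(lift G A) →* ↥A :=
    { toFun := fun x => ⟨⟨proj n F x.1, (mem_lift.mp x.2).1⟩, (mem_lift.mp x.2).2⟩
      map_one' := by
        apply Subtype.ext; apply Subtype.ext
        simp
      map_mul' := by
        intro x y
        apply Subtype.ext; apply Subtype.ext
        simp }
  haveI := hA
  apply _root_.isNilpotent_of_ker_le_center f
  intro x hx
  rw [MonoidHom.mem_ker] at hx
  have h1 : proj n F x.1 = 1 := by
    have := congrArg (fun a : ↥A => ((a : ↥G) : GL (Fin n) F ⧸ Subgroup.center (GL (Fin n) F))) hx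
    simpa [f] using this
  have hz : x.1 ∈ Subgroup.center (GL (Fin n) F) := proj_eq_one_iff.mp h1
  rw [Subgroup.mem_center_iff]
  intro g
  apply Subtype.ext
  have := Subgroup.mem_center_iff.mp hz g.1
  simpa using this

/-- the subgroup of `G` cut out by a subgroup `B` of `GL_n` -/
def down (G : Subgroup (GL (Fin n) F ⧸ Subgroup.center (GL (Fin n) F)))
    (B : Subgroup (GL (Fin n) F)) : Subgroup ↥G :=
  (B.map (proj n F)).subgroupOf G

theorem mem_down_iff {G : Subgroup (GL (Fin n) F ⧸ Subgroup.center (GL (Fin n) F))}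
    {B : Subgroup (GL (Fin n) F)} (hB : Subgroup.center (GL (Fin n) F) ≤ B)
    {x : GL (Fin n) F} (hx : proj n F x ∈ G) :
    (⟨proj n F x, hx⟩ : ↥G) ∈ down G B ↔ x ∈ B := by
  unfold down
  rw [Subgroup.mem_subgroupOf, Subgroup.mem_map]
  constructor
  · rintro ⟨b, hb, hbx⟩
    obtain ⟨z, hz, rfl⟩ := proj_eq_iff.mp hbx
    exact B.mul_mem hb (hB hz)
  · intro h
    exact ⟨x, h, rfl⟩

theorem le_down_of_lift_le {G : Subgroup (GL (Fin n) F ⧸ Subgroup.center (GL (Fin n) F))}
    {A : Subgroup ↥G} {B : Subgroup (GL (Fin n) F)} (h : lift G A ≤ B) : A ≤ down G B := by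
  intro a ha
  obtain ⟨x, hx⟩ := QuotientGroup.mk'_surjective (Subgroup.center (GL (Fin n) F)) a.1
  have hxG : proj n F x ∈ G := hx ▸ a.2
  have hxA : x ∈ lift G A := by
    rw [mem_lift]
    refine ⟨hxG, ?_⟩
    have : (⟨proj n F x, hxG⟩ : ↥G) = a := Subtype.ext hx
    rw [this]; exact ha
  unfold down
  rw [Subgroup.mem_subgroupOf, Subgroup.mem_map]
  exact ⟨x, h hxA, hx⟩

theorem down_ne_top {G : Subgroup (GL (Fin n) F ⧸ Subgroup.center (GL (Fin n) F))}
    {B : Subgroup (GL (Fin n) F)} (hB : Subgroup.center (GL (Fin n) F) ≤ B)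
    {t : GL (Fin n) F} (ht : proj n F t ∈ G) (htB : t ∉ B) : down G B ≠ ⊤ := by
  intro h
  apply htB
  rw [← mem_down_iff hB ht, h]
  exact Subgroup.mem_top _

theorem mem_lift_of_mem {G : Subgroup (GL (Fin n) F ⧸ Subgroup.center (GL (Fin n) F))}
    {A : Subgroup ↥G} {x : GL (Fin n) F} (hx : proj n F x ∈ G)
    (hA : (⟨proj n F x, hx⟩ : ↥G) ∈ A) : x ∈ lift G A :=
  mem_lift.mpr ⟨hx, hA⟩

/-- the image of `SL_n` lies in `G` -/
theorem proj_toGL_mem {G : Subgroup (GL (Fin n) F ⧸ Subgroup.center (GL (Fin n) F))}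
    (hG : ((Matrix.SpecialLinearGroup.toGL :
      Matrix.SpecialLinearGroup (Fin n) F →* GL (Fin n) F).range).map
      (QuotientGroup.mk' (Subgroup.center (GL (Fin n) F))) ≤ G)
    (s : Matrix.SpecialLinearGroup (Fin n) F) :
    proj n F (Matrix.SpecialLinearGroup.toGL s) ∈ G :=
  hG (Subgroup.mem_map_of_mem _ ⟨s, rfl⟩)

/-- the stabilizer in `GL_n` of the line spanned by `v` -/
def lineStab (v : Fin n → F) : Subgroup (GL (Fin n) F) where
  carrier := {x | ∃ c : F, (x : Matrix (Fin n) (Fin n) F) *ᵥ v = c • v}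
  one_mem' := ⟨1, by simp⟩
  mul_mem' := by
    rintro x y ⟨c, hc⟩ ⟨e, he⟩
    refine ⟨e * c, ?_⟩
    rw [Units.val_mul, ← Matrix.mulVec_mulVec, he, Matrix.mulVec_smul, hc, smul_smul]
  inv_mem' := by
    rintro x ⟨c, hc⟩
    by_cases hv : v = 0
    · exact ⟨1, by simp [hv]⟩
    have hc0 : c ≠ 0 := by
      rintro rfl
      apply hv
      have := congrArg (fun w => ((x⁻¹ : GL (Fin n) F) : Matrix (Fin n) (Fin n) F) *ᵥ w) hc
      simpa [Matrix.mulVec_mulVec] using this
    refine ⟨c⁻¹, ?_⟩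
    have := congrArg (fun w => c⁻¹ • (((x⁻¹ : GL (Fin n) F) : Matrix (Fin n) (Fin n) F) *ᵥ w)) hc
    simp only [Matrix.mulVec_mulVec, Matrix.mulVec_smul] at this
    rw [← Units.val_mul, inv_mul_cancel, Units.val_one, Matrix.one_mulVec, smul_smul,
      inv_mul_cancel₀ hc0, one_smul] at this
    exact this.symm

theorem mem_lineStab {v : Fin n → F} {x : GL (Fin n) F} :
    x ∈ lineStab v ↔ ∃ c : F, (x : Matrix (Fin n) (Fin n) F) *ᵥ v = c • v := Iff.rfl

theorem center_le_lineStab (v : Fin n → F) :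
    Subgroup.center (GL (Fin n) F) ≤ lineStab v := by
  intro z hz
  obtain ⟨a, ha⟩ := Matrix.GeneralLinearGroup.mem_center_iff_val_mem_range_scalar.mp hz
  refine ⟨a, ?_⟩
  rw [← ha]
  simp [Matrix.scalar_apply]

end Cfsg.Agent.Lib.Helper18.NilCov
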