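/-
helper18 (S3894), Lemma (N): a nilpotent subgroup of `GL_n(F)` containing the upper Jordan block
`u = 1 + ∑ e_{i,i+1}` consists of upper triangular matrices.  Core: if `g u g⁻¹` is upper
triangular then so is `g`.
-/
import Mathlib

set_option autoImplicit false

namespace Cfsg.Agent.Lib.Helper18.NilCov

open Matrix Polynomial

variable {n : ℕ} {F : Type*} [Field F]

/-- the nilpotent shift `N e_{j+1} = e_j` -/
def shiftN (n : ℕ) (F : Type*) [Field F] : Matrix (Fin n) (Fin n) F :=
  Matrix.of fun i j => if i.val + 1 = j.val then 1 else 0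

/-- the upper Jordan block `1 + N` -/
def jordanU (n : ℕ) (F : Type*) [Field F] : Matrix (Fin n) (Fin n) F := 1 + shiftN n F

theorem shiftN_apply (i j : Fin n) :
    shiftN n F i j = if i.val + 1 = j.val then 1 else 0 := rfl

theorem shiftN_upper : (shiftN n F).BlockTriangular id := by
  intro i j hij
  rw [shiftN_apply, if_neg]
  have : j.val < i.val := hij
  omega

theorem jordanU_upper : (jordanU n F).BlockTriangular id :=
  (blockTriangular_one).add shiftN_upper

theorem jordanU_diag (i : Fin n) : jordanU n F i i = 1 := by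
  simp [jordanU, shiftN_apply]

/-- the subgroup of upper triangular matrices -/
def upperB (n : ℕ) (F : Type*) [Field F] : Subgroup (GL (Fin n) F) where
  carrier := {x | (x : Matrix (Fin n) (Fin n) F).BlockTriangular id}
  one_mem' := blockTriangular_one
  mul_mem' := fun {x y} hx hy => by
    show ((x * y : GL (Fin n) F) : Matrix (Fin n) (Fin n) F).BlockTriangular id
    rw [Units.val_mul]
    exact BlockTriangular.mul hx hy
  inv_mem' := fun {x} hx => by
    show ((x⁻¹ : GL (Fin n) F) : Matrix (Fin n) (Fin n) F).BlockTriangular id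
    rw [Matrix.coe_units_inv]
    haveI : Invertible (x : Matrix (Fin n) (Fin n) F) := x.invertible
    exact blockTriangular_inv_of_blockTriangular hx

theorem mem_upperB {x : GL (Fin n) F} :
    x ∈ upperB n F ↔ (x : Matrix (Fin n) (Fin n) F).BlockTriangular id := Iff.rfl

/-- an upper triangular conjugate of the Jordan block is unitriangular -/
theorem diag_conj_jordan (g : GL (Fin n) F)
    (h : ((g : Matrix (Fin n) (Fin n) F) * jordanU n F *
      ((g⁻¹ : GL (Fin n) F) : Matrix (Fin n) (Fin n) F)).BlockTriangular id) (k : Fin n) :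
    ((g : Matrix (Fin n) (Fin n) F) * jordanU n F *
      ((g⁻¹ : GL (Fin n) F) : Matrix (Fin n) (Fin n) F)) k k = 1 := by
  set M := (g : Matrix (Fin n) (Fin n) F) * jordanU n F *
      ((g⁻¹ : GL (Fin n) F) : Matrix (Fin n) (Fin n) F) with hM
  have h1 : M.charpoly = (jordanU n F).charpoly := by
    rw [hM, Matrix.coe_units_inv]
    exact Matrix.charpoly_units_conj g (jordanU n F)
  rw [Matrix.charpoly_of_isUpperTriangular M h,
    Matrix.charpoly_of_isUpperTriangular _ jordanU_upper] at h1
  have h2 := congrArg (Polynomial.eval (M k k)) h1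
  rw [Polynomial.eval_prod, Polynomial.eval_prod] at h2
  have h3 : ∏ i : Fin n, Polynomial.eval (M k k) (X - C (M i i)) = 0 :=
    Finset.prod_eq_zero (Finset.mem_univ k) (by simp)
  rw [h3] at h2
  have h4 := Finset.prod_eq_zero_iff.mp h2.symm
  obtain ⟨i, _, hi⟩ := h4
  rw [jordanU_diag] at hi
  simpa [sub_eq_zero] using hi

/-- **Core.** If `g u g⁻¹` is upper triangular, then `g` is upper triangular. -/
theorem upper_of_conj_jordan_upper (g : GL (Fin n) F)
    (h : ((g : Matrix (Fin n) (Fin n) F) * jordanU n F *
      ((g⁻¹ : GL (Fin n) F) : Matrix (Fin n) (Fin n) F)).BlockTriangular id) :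
    (g : Matrix (Fin n) (Fin n) F).BlockTriangular id := by
  set G := (g : Matrix (Fin n) (Fin n) F) with hG
  set Gi := ((g⁻¹ : GL (Fin n) F) : Matrix (Fin n) (Fin n) F) with hGi
  set M := G * jordanU n F * Gi with hM
  have hGiG : Gi * G = 1 := by
    rw [hGi, hG, ← Units.val_mul, inv_mul_cancel, Units.val_one]
  -- `M'' := M - 1` is strictly upper triangular and `M'' * G = G * N`
  have hMG : (M - 1) * G = G * shiftN n F := by
    rw [hM, sub_mul, one_mul, Matrix.mul_assoc, hGiG, Matrix.mul_one, jordanU, Matrix.mul_add,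
      Matrix.mul_one, add_sub_cancel_left]
  have hstrict : ∀ i k : Fin n, k ≤ i → (M - 1) i k = 0 := by
    intro i k hki
    rcases lt_or_eq_of_le hki with hlt | rfl
    · rw [Matrix.sub_apply, h hlt, Matrix.one_apply_ne (ne_of_gt hlt), sub_zero]
    · have hd : M k k = 1 := diag_conj_jordan g h k
      rw [Matrix.sub_apply, hd, Matrix.one_apply_eq, sub_self]
  -- downward induction on the row
  have key : ∀ m : ℕ, ∀ i : Fin n, n ≤ i.val + m → ∀ j : Fin n, j < i → G i j = 0 := by
    intro m
    induction m with
    | zero =>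
      intro i hi
      exact absurd i.2 (by omega)
    | succ m ih =>
      intro i hi j hji
      have hj1 : j.val + 1 < n := by
        have : j.val < i.val := hji
        omega
      set j' : Fin n := ⟨j.val + 1, hj1⟩ with hj'
      have e1 : (G * shiftN n F) i j' = G i j := by
        rw [Matrix.mul_apply]
        rw [Finset.sum_eq_single j]
        · rw [shiftN_apply, if_pos (by simp [hj']), mul_one]
        · intro k _ hk
          rw [shiftN_apply, if_neg, mul_zero]
          intro hkj
          apply hk
          apply Fin.ext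
          simp [hj'] at hkj
          exact hkj
        · intro hj
          exact absurd (Finset.mem_univ j) hj
      have e2 : ((M - 1) * G) i j' = 0 := by
        rw [Matrix.mul_apply]
        apply Finset.sum_eq_zero
        intro k _
        rcases le_or_gt k i with hki | hik
        · rw [hstrict i k hki, zero_mul]
        · have hik' : i.val < k.val := hik
          have hjk : j' < k := by
            show j.val + 1 < k.val
            have : j.val < i.val := hji
            omega
          rw [ih k (by omega) j' hjk, mul_zero]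
      rw [← e1, ← hMG, e2]
  intro i j hij
  exact key n i (by omega) j hij

/-- **Lemma (N).** A nilpotent subgroup of `GL_n(F)` containing the upper Jordan block consists of
upper triangular matrices. -/
theorem upper_of_nilpotent (A : Subgroup (GL (Fin n) F)) (hA : Group.IsNilpotent ↥A)
    (u : GL (Fin n) F) (hu : (u : Matrix (Fin n) (Fin n) F) = jordanU n F) (huA : u ∈ A) :
    A ≤ upperB n F := by
  haveI := hA
  obtain ⟨c, hc⟩ := Group.IsNilpotent.nilpotent ↥A
  have huB : u ∈ upperB n F := by
    rw [mem_upperB, hu]; exact jordanU_upper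
  have key : ∀ i : ℕ, ∀ z : ↥A, z ∈ Subgroup.upperCentralSeries ↥A i → (z : GL (Fin n) F) ∈ upperB n F := by
    intro i
    induction i with
    | zero =>
      intro z hz
      rw [Subgroup.upperCentralSeries_zero, Subgroup.mem_bot] at hz
      rw [hz]
      exact (upperB n F).one_mem
    | succ i ih =>
      intro z hz
      rw [Subgroup.mem_upperCentralSeries_succ_iff] at hz
      have h1 := ih _ (hz ⟨u, huA⟩)
      rw [commutatorElement_def] at h1
      have h2 : ((z * ⟨u, huA⟩ * z⁻¹ * (⟨u, huA⟩ : ↥A)⁻¹ : ↥A) : GL (Fin n) F) =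
          (z : GL (Fin n) F) * u * (z : GL (Fin n) F)⁻¹ * u⁻¹ := by
        simp
      rw [h2] at h1
      have h3 : (z : GL (Fin n) F) * u * (z : GL (Fin n) F)⁻¹ ∈ upperB n F := by
        have := (upperB n F).mul_mem h1 huB
        simpa using this
      rw [mem_upperB, Units.val_mul, Units.val_mul, hu] at h3
      exact upper_of_conj_jordan_upper _ h3
  intro x hx
  have : (⟨x, hx⟩ : ↥A) ∈ Subgroup.upperCentralSeries ↥A c := by rw [hc]; exact Subgroup.mem_top _
  exact key c ⟨x, hx⟩ this

/-- conjugate form of Lemma (N) -/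
theorem conj_upper_of_nilpotent (A : Subgroup (GL (Fin n) F)) (hA : Group.IsNilpotent ↥A)
    (g u : GL (Fin n) F) (hu : (u : Matrix (Fin n) (Fin n) F) = jordanU n F)
    (huA : g * u * g⁻¹ ∈ A) : ∀ x ∈ A, g⁻¹ * x * g ∈ upperB n F := by
  -- conjugate the subgroup
  let A' : Subgroup (GL (Fin n) F) := A.map (MulAut.conj g⁻¹).toMonoidHom
  have hA' : Group.IsNilpotent ↥A' := by
    haveI := hA
    exact Group.nilpotent_of_surjective ((MulAut.conj g⁻¹).toMonoidHom.subgroupMap A)
      ((MulAut.conj g⁻¹).toMonoidHom.subgroupMap_surjective A)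
  have huA' : u ∈ A' := by
    refine ⟨g * u * g⁻¹, huA, ?_⟩
    simp [MulAut.conj_apply]
    group
  have := upper_of_nilpotent A' hA' u hu huA'
  intro x hx
  apply this
  exact ⟨x, hx, by simp [MulAut.conj_apply]⟩

end Cfsg.Agent.Lib.Helper18.NilCov
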