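/-
helper18 (S3894): the case `n ≥ 3`.  Two regular unipotent elements `u`, `g u g⁻¹` of `SL_n(F)`
(`g = 1 + e_{21}` in 0-indexed notation, fixing `e_0`) lie in members inside the proper subgroup
`Stab_G(⟨e_0⟩)`; by helper27's `replace_one` the two members coincide, so `g u g⁻¹` would be
upper triangular, hence `g` too (Lemma N core): contradiction.
-/
import Mathlib
import Cfsg.Agent.Lib.Helper18.NilCovBase
import Cfsg.Agent.Lib.Helper18.NilCovN

set_option autoImplicit false

namespace Cfsg.Agent.Lib.Helper18.NilCov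

open Matrix Subgroup
open Cfsg.Agent.Lib.Helper27.NilpCover

variable {n : ℕ} {F : Type*} [Field F]

theorem det_jordanU : (jordanU n F).det = 1 := by
  rw [Matrix.det_of_isUpperTriangular jordanU_upper]
  simp [jordanU_diag]

/-- the Jordan block in `SL_n` -/
def uSL (n : ℕ) (F : Type*) [Field F] : Matrix.SpecialLinearGroup (Fin n) F :=
  ⟨jordanU n F, det_jordanU⟩

/-- a transvection in `SL_n` -/
def tSL (i j : Fin n) (hij : i ≠ j) (c : F) : Matrix.SpecialLinearGroup (Fin n) F :=
  ⟨Matrix.transvection i j c, Matrix.det_transvection_of_ne i j hij c⟩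

theorem upperB_le_lineStab (i0 : Fin n) (h0 : ∀ i : Fin n, i0 ≤ i) :
    upperB n F ≤ lineStab (Pi.single i0 (1 : F)) := by
  intro x hx
  rw [mem_upperB] at hx
  refine ⟨(x : Matrix (Fin n) (Fin n) F) i0 i0, ?_⟩
  rw [Matrix.mulVec_single_one]
  funext i
  by_cases hi : i = i0
  · subst hi
    simp
  · have hlt : i0 < i := lt_of_le_of_ne (h0 i) (Ne.symm hi)
    simp [Pi.single_apply, hi, hx hlt]

theorem transvection_mulVec_single (i j k : Fin n) (c : F) :
    (Matrix.transvection i j c) *ᵥ (Pi.single k (1 : F)) =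
      Pi.single k 1 + (if j = k then c else 0) • Pi.single i 1 := by
  rw [Matrix.mulVec_single_one]
  funext l
  simp only [Matrix.col_apply, Matrix.transvection, Matrix.add_apply, Matrix.one_apply, Pi.add_apply,
    Pi.smul_apply, Pi.single_apply, smul_eq_mul]
  by_cases hjk : j = k
  · subst hjk
    by_cases hl : l = i
    · subst hl
      simp [Matrix.single]
    · simp [Matrix.single, hl, Ne.symm hl]
  · simp [Matrix.single, hjk]

/-- **S3894 for `n ≥ 3`.** -/
theorem no_cover_ge3 (hn : 3 ≤ n)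
    (G : Subgroup (GL (Fin n) F ⧸ Subgroup.center (GL (Fin n) F)))
    (hG : ((Matrix.SpecialLinearGroup.toGL :
      Matrix.SpecialLinearGroup (Fin n) F →* GL (Fin n) F).range).map
      (QuotientGroup.mk' (Subgroup.center (GL (Fin n) F))) ≤ G)
    (𝓐 : Finset (Subgroup ↥G)) (hmin : IsMinCover 𝓐)
    (hnil : ∀ A ∈ 𝓐, Group.IsNilpotent ↥A) : False := by
  classical
  set i0 : Fin n := ⟨0, by omega⟩ with hi0
  set i1 : Fin n := ⟨1, by omega⟩ with hi1
  set i2 : Fin n := ⟨2, by omega⟩ with hi2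
  have h0 : ∀ i : Fin n, i0 ≤ i := fun i => Nat.zero_le _
  have h21 : i2 ≠ i1 := by simp [hi1, hi2, Fin.ext_iff]
  have h10 : i1 ≠ i0 := by simp [hi1, hi0, Fin.ext_iff]
  -- the elements
  set u : GL (Fin n) F := Matrix.SpecialLinearGroup.toGL (uSL n F) with hu
  have hucoe : (u : Matrix (Fin n) (Fin n) F) = jordanU n F := rfl
  set g : GL (Fin n) F := Matrix.SpecialLinearGroup.toGL (tSL i2 i1 h21 (1 : F)) with hg
  have hgcoe : (g : Matrix (Fin n) (Fin n) F) = Matrix.transvection i2 i1 1 := rfl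
  set t : GL (Fin n) F := Matrix.SpecialLinearGroup.toGL (tSL i1 i0 h10 (1 : F)) with ht
  have htcoe : (t : Matrix (Fin n) (Fin n) F) = Matrix.transvection i1 i0 1 := rfl
  have huG : proj n F u ∈ G := proj_toGL_mem hG _
  have hu'G : proj n F (g * u * g⁻¹) ∈ G := by
    have : g * u * g⁻¹ = Matrix.SpecialLinearGroup.toGL
        (tSL i2 i1 h21 (1 : F) * uSL n F * (tSL i2 i1 h21 (1 : F))⁻¹) := by
      simp [hg, hu]
    rw [this]
    exact proj_toGL_mem hG _
  have htG : proj n F t ∈ G := proj_toGL_mem hG _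
  -- the proper subgroup
  set H : Subgroup ↥G := down G (lineStab (Pi.single i0 (1 : F))) with hH
  have hHtop : H ≠ ⊤ := by
    apply down_ne_top (center_le_lineStab _) htG
    rintro ⟨c, hc⟩
    rw [htcoe, transvection_mulVec_single, if_pos rfl, one_smul] at hc
    have := congrFun hc i1
    simp [h10] at this
  -- the members
  obtain ⟨A, hA, huA⟩ := hmin.1.2 ⟨proj n F u, huG⟩
  obtain ⟨A', hA', hu'A'⟩ := hmin.1.2 ⟨proj n F (g * u * g⁻¹), hu'G⟩
  have hAH : A ≤ H := by
    apply le_down_of_lift_le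
    exact (upper_of_nilpotent (lift G A) (lift_isNilpotent G A (hnil A hA)) u hucoe
      (mem_lift_of_mem huG huA)).trans (upperB_le_lineStab i0 h0)
  have hge0 : (g : Matrix (Fin n) (Fin n) F) *ᵥ (Pi.single i0 (1 : F)) = Pi.single i0 1 := by
    rw [hgcoe, transvection_mulVec_single, if_neg h10, zero_smul, add_zero]
  have hA'H : A' ≤ H := by
    apply le_down_of_lift_le
    intro x hx
    have h1 := conj_upper_of_nilpotent (lift G A') (lift_isNilpotent G A' (hnil A' hA')) g u hucoe
      (mem_lift_of_mem hu'G hu'A') x hx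
    obtain ⟨c, hc⟩ := upperB_le_lineStab i0 h0 h1
    refine ⟨c, ?_⟩
    -- x e0 = g (g⁻¹ x g) g⁻¹ e0
    have hgi : ((g⁻¹ : GL (Fin n) F) : Matrix (Fin n) (Fin n) F) *ᵥ (Pi.single i0 (1 : F)) =
        Pi.single i0 1 := by
      have := congrArg (fun w => ((g⁻¹ : GL (Fin n) F) : Matrix (Fin n) (Fin n) F) *ᵥ w) hge0
      simp only [Matrix.mulVec_mulVec] at this
      rw [← Units.val_mul, inv_mul_cancel, Units.val_one, Matrix.one_mulVec] at this
      exact this.symm
    have hx' : x = g * (g⁻¹ * x * g) * g⁻¹ := by group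
    rw [hx', Units.val_mul, Units.val_mul, ← Matrix.mulVec_mulVec, ← Matrix.mulVec_mulVec, hgi, hc,
      Matrix.mulVec_smul, hge0]
  have hAA' : A = A' := replace_one hmin hHtop hA hA' hAH hA'H
  -- contradiction
  have hu'lift : g * u * g⁻¹ ∈ lift G A := mem_lift_of_mem hu'G (hAA' ▸ hu'A')
  have hup := upper_of_nilpotent (lift G A) (lift_isNilpotent G A (hnil A hA)) u hucoe
    (mem_lift_of_mem huG huA) hu'lift
  rw [mem_upperB, Units.val_mul, Units.val_mul, hucoe] at hup
  have hgup := upper_of_conj_jordan_upper g hup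
  have h12 : i1 < i2 := by
    show (1 : ℕ) < 2
    norm_num
  have := hgup h12
  rw [hgcoe] at this
  simp [Matrix.transvection, Matrix.single] at this
  exact this hi2 hi1

end Cfsg.Agent.Lib.Helper18.NilCov
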