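/-
helper18 (S3894): the case `n = 2`, Case A (some `a ∈ Fˣ` whose order is not a power of `2`).
-/
import Mathlib
import Cfsg.Agent.Lib.Helper18.NilCovBase
import Cfsg.Agent.Lib.Helper18.NilCovN
import Cfsg.Agent.Lib.Helper18.NilCovT3

set_option autoImplicit false

namespace Cfsg.Agent.Lib.Helper18.NilCov

open Matrix Subgroup
open Cfsg.Agent.Lib.Helper27.NilpCover
open scoped commutatorElement

variable {F : Type*} [Field F]

/-- **(A-tri), general form.**  A semisimple element `d` scaling a square-zero matrix `E` by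
`lam ≠ 1` under conjugation does not lie in a common nilpotent subgroup with `1 + b E`, `b ≠ 0`. -/
theorem tri_gen {m : ℕ} (A : Subgroup (GL (Fin m) F)) (hA : Group.IsNilpotent ↥A)
    (d t : GL (Fin m) F) (hdA : d ∈ A) (htA : t ∈ A)
    (E : Matrix (Fin m) (Fin m) F) (hE2 : E * E = 0) (hE0 : E ≠ 0)
    (lam : F) (hlam : lam ≠ 1) (hdE : (d : Matrix (Fin m) (Fin m) F) * E =
      lam • (E * (d : Matrix (Fin m) (Fin m) F)))
    (b : F) (hb : b ≠ 0) (ht : (t : Matrix (Fin m) (Fin m) F) = 1 + b • E) : False := by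
  have key : ∀ k : ℕ, ∃ x ∈ A.lowerCentralSeries k,
      (x : Matrix (Fin m) (Fin m) F) = 1 + ((1 - lam) ^ k * b) • E := by
    intro k
    induction k with
    | zero => exact ⟨t, by simpa using htA, by simpa using ht⟩
    | succ k ih =>
      obtain ⟨x, hx, hxE⟩ := ih
      refine ⟨⁅x, d⁆, ?_, ?_⟩
      · rw [Subgroup.lowerCentralSeries_succ]
        exact Subgroup.commutator_mem_commutator hx hdA
      · set c := (1 - lam) ^ k * b with hc
        have hmat : (1 + ((1 - lam) ^ (k + 1) * b) • E) * (d : Matrix (Fin m) (Fin m) F) *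
            (x : Matrix (Fin m) (Fin m) F) = (x : Matrix (Fin m) (Fin m) F) *
            (d : Matrix (Fin m) (Fin m) F) := by
          rw [hxE]
          have h1 : (1 - lam) ^ (k + 1) * b = (1 - lam) * c := by rw [hc, pow_succ]; ring
          rw [h1]
          have hEdE : E * (d : Matrix (Fin m) (Fin m) F) * E = 0 := by
            rw [Matrix.mul_assoc, hdE, Matrix.mul_smul, ← Matrix.mul_assoc, hE2, Matrix.zero_mul,
              smul_zero]
          simp only [Matrix.add_mul, Matrix.mul_add, Matrix.one_mul, Matrix.mul_one,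
            Matrix.smul_mul, Matrix.mul_smul, hdE, hEdE, smul_zero, add_zero, smul_smul]
          rw [add_assoc, ← add_smul]
          congr 2
          ring
        rw [commutatorElement_def]
        simp only [Units.val_mul]
        have hxx : (x : Matrix (Fin m) (Fin m) F) * ((x⁻¹ : GL (Fin m) F) : Matrix (Fin m) (Fin m) F) = 1 := by
          rw [← Units.val_mul, mul_inv_cancel, Units.val_one]
        have hdd : (d : Matrix (Fin m) (Fin m) F) * ((d⁻¹ : GL (Fin m) F) : Matrix (Fin m) (Fin m) F) = 1 := by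
          rw [← Units.val_mul, mul_inv_cancel, Units.val_one]
        rw [← hmat, Matrix.mul_assoc _ (x : Matrix (Fin m) (Fin m) F), hxx, Matrix.mul_one,
          Matrix.mul_assoc, hdd, Matrix.mul_one]
  obtain ⟨N, hN⟩ := (Subgroup.isNilpotent_iff_lowerCentralSeries A).mp hA
  obtain ⟨x, hx, hxE⟩ := key N
  rw [hN, Subgroup.mem_bot] at hx
  rw [hx, Units.val_one] at hxE
  have h0 : ((1 - lam) ^ N * b) • E = 0 := by
    have := congrArg (fun M => M - 1) hxE
    simpa using this.symm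
  rcases smul_eq_zero.mp h0 with h | h
  · have : (1 - lam) ^ N ≠ 0 := pow_ne_zero _ (sub_ne_zero.mpr (Ne.symm hlam))
    exact (mul_ne_zero this hb) h
  · exact hE0 h

end Cfsg.Agent.Lib.Helper18.NilCov

namespace Cfsg.Agent.Lib.Helper18.NilCov

open Matrix Subgroup
open Cfsg.Agent.Lib.Helper27.NilpCover

variable {F : Type*} [Field F]

theorem shiftN_two : shiftN 2 F = !![0, 1; 0, 0] := by
  ext i j
  fin_cases i <;> fin_cases j <;> simp [shiftN_apply]

theorem jordanU_two : jordanU 2 F = !![1, 1; 0, 1] := by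
  ext i j
  fin_cases i <;> fin_cases j <;> simp [jordanU, shiftN_apply]

theorem transvection_10 : Matrix.transvection (1 : Fin 2) 0 (1 : F) = !![1, 0; 1, 1] := by
  ext i j
  fin_cases i <;> fin_cases j <;> simp [Matrix.transvection, Matrix.single]

theorem diag2 (x y : F) : Matrix.diagonal ![x, y] = !![x, 0; 0, y] := by
  ext i j; fin_cases i <;> fin_cases j <;> simp

theorem single_01_eq : (Pi.single (0 : Fin 2) (1 : F) : Fin 2 → F) = ![1, 0] := by
  funext i; fin_cases i <;> simp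

/-- the diagonal element `diag(a, a⁻¹)` of `SL₂` -/
def dSL (a : Fˣ) : Matrix.SpecialLinearGroup (Fin 2) F :=
  ⟨Matrix.diagonal ![(a : F), ((a⁻¹ : Fˣ) : F)], by
    rw [Matrix.det_diagonal, Fin.prod_univ_two]
    simp⟩

/-- the swap matrix as an element of `GL₂` -/
def wGL (F : Type*) [Field F] : GL (Fin 2) F :=
  Matrix.GeneralLinearGroup.mkOfDetNeZero !![0, 1; 1, 0] (by simp [Matrix.det_fin_two])

theorem wGL_coe : ((wGL F : GL (Fin 2) F) : Matrix (Fin 2) (Fin 2) F) = !![0, 1; 1, 0] := rfl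

theorem wGL_mul_self : wGL F * wGL F = 1 := by
  apply Units.ext
  rw [Units.val_mul, wGL_coe, Units.val_one]
  ext i j
  fin_cases i <;> fin_cases j <;> simp [Matrix.mul_apply, Fin.sum_univ_two]

theorem wGL_inv : (wGL F)⁻¹ = wGL F := inv_eq_of_mul_eq_one_right wGL_mul_self

/-- **Case A from the core lemma.** -/
theorem no_cover_two_A_of_core
    (core : ∀ (A : Subgroup (GL (Fin 2) F)) (_ : Group.IsNilpotent ↥A) (a : Fˣ)
      (_ : ¬ ∃ k, orderOf a = 2 ^ k) (d : GL (Fin 2) F)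
      (_ : (d : Matrix (Fin 2) (Fin 2) F) = Matrix.diagonal ![(a : F), ((a⁻¹ : Fˣ) : F)])
      (_ : d ∈ A),
      (∃ c : GL (Fin 2) F → F, ∀ x ∈ A, (x : Matrix (Fin 2) (Fin 2) F) *ᵥ ![1, 0] = c x • ![1, 0]) ∨
      (∃ c : GL (Fin 2) F → F, ∀ x ∈ A, (x : Matrix (Fin 2) (Fin 2) F) *ᵥ ![0, 1] = c x • ![0, 1]))
    (G : Subgroup (GL (Fin 2) F ⧸ Subgroup.center (GL (Fin 2) F)))
    (hG : ((Matrix.SpecialLinearGroup.toGL :
      Matrix.SpecialLinearGroup (Fin 2) F →* GL (Fin 2) F).range).map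
      (QuotientGroup.mk' (Subgroup.center (GL (Fin 2) F))) ≤ G)
    (a : Fˣ) (ha2 : ¬ ∃ k, orderOf a = 2 ^ k)
    (𝓐 : Finset (Subgroup ↥G)) (hmin : IsMinCover 𝓐)
    (hnil : ∀ A ∈ 𝓐, Group.IsNilpotent ↥A) : False := by
  classical
  -- `a² ≠ 1`
  have ha : (a : F) ^ 2 ≠ 1 := by
    intro h
    apply ha2
    have h1 : a ^ 2 = 1 := by
      apply Units.ext
      simpa using h
    have h2 : orderOf a ∣ 2 := orderOf_dvd_of_pow_eq_one h1
    rcases (Nat.dvd_prime Nat.prime_two).mp h2 with h3 | h3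
    · exact ⟨0, by simpa using h3⟩
    · exact ⟨1, by simpa using h3⟩
  have ha0 : (a : F) ≠ 0 := a.ne_zero
  have h10 : (1 : Fin 2) ≠ 0 := by decide
  -- elements
  set u : GL (Fin 2) F := Matrix.SpecialLinearGroup.toGL (uSL 2 F) with hu
  have hucoe : (u : Matrix (Fin 2) (Fin 2) F) = jordanU 2 F := rfl
  set ut : GL (Fin 2) F := Matrix.SpecialLinearGroup.toGL (tSL (1 : Fin 2) 0 h10 (1 : F)) with hut
  have hutcoe : (ut : Matrix (Fin 2) (Fin 2) F) = !![1, 0; 1, 1] := by
    rw [← transvection_10]; rfl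
  set d : GL (Fin 2) F := Matrix.SpecialLinearGroup.toGL (dSL a) with hd
  have hdcoe : (d : Matrix (Fin 2) (Fin 2) F) = Matrix.diagonal ![(a : F), ((a⁻¹ : Fˣ) : F)] := rfl
  have huG : proj 2 F u ∈ G := proj_toGL_mem hG _
  have hutG : proj 2 F ut ∈ G := proj_toGL_mem hG _
  have hdG : proj 2 F d ∈ G := proj_toGL_mem hG _
  -- conjugation `w u w⁻¹ = ut`
  have hwu : wGL F * u * (wGL F)⁻¹ = ut := by
    rw [wGL_inv]
    apply Units.ext
    rw [Units.val_mul, Units.val_mul, wGL_coe, hucoe, hutcoe, jordanU_two]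
    ext i j
    fin_cases i <;> fin_cases j <;> simp [Matrix.mul_apply, Fin.sum_univ_two]
  -- proper subgroups
  set H0 : Subgroup ↥G := down G (lineStab ![(1 : F), 0]) with hH0
  set Hinf : Subgroup ↥G := down G (lineStab ![(0 : F), 1]) with hHinf
  have hH0top : H0 ≠ ⊤ := by
    apply down_ne_top (center_le_lineStab _) hutG
    rintro ⟨c, hc⟩
    rw [hutcoe] at hc
    have h0 := congrFun hc 0
    have h1 := congrFun hc 1
    simp [Matrix.mulVec, dotProduct, Fin.sum_univ_two] at h0 h1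
  have hHinftop : Hinf ≠ ⊤ := by
    apply down_ne_top (center_le_lineStab _) huG
    rintro ⟨c, hc⟩
    rw [hucoe, jordanU_two] at hc
    have h0 := congrFun hc 0
    have h1 := congrFun hc 1
    simp [Matrix.mulVec, dotProduct, Fin.sum_univ_two] at h0 h1
  -- members
  obtain ⟨Au, hAu, huAu⟩ := hmin.1.2 ⟨proj 2 F u, huG⟩
  obtain ⟨Aut, hAut, hutAut⟩ := hmin.1.2 ⟨proj 2 F ut, hutG⟩
  obtain ⟨Ad, hAd, hdAd⟩ := hmin.1.2 ⟨proj 2 F d, hdG⟩
  have hAuH0 : Au ≤ H0 := by
    apply le_down_of_lift_le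
    have := (upper_of_nilpotent (lift G Au) (lift_isNilpotent G Au (hnil Au hAu)) u hucoe
      (mem_lift_of_mem huG huAu)).trans (upperB_le_lineStab (0 : Fin 2) (fun i => Fin.zero_le i))
    rwa [single_01_eq] at this
  have hAutHinf : Aut ≤ Hinf := by
    apply le_down_of_lift_le
    intro x hx
    have hmem : wGL F * u * (wGL F)⁻¹ ∈ lift G Aut := by
      rw [hwu]; exact mem_lift_of_mem hutG hutAut
    have h1 := conj_upper_of_nilpotent (lift G Aut) (lift_isNilpotent G Aut (hnil Aut hAut))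
      (wGL F) u hucoe hmem x hx
    obtain ⟨c, hc⟩ := upperB_le_lineStab (0 : Fin 2) (fun i => Fin.zero_le i) h1
    rw [single_01_eq, wGL_inv] at hc
    refine ⟨c, ?_⟩
    -- `x = w (w x w) w`
    have hx' : x = wGL F * (wGL F * x * wGL F) * wGL F := by
      have h := wGL_mul_self (F := F)
      calc x = (wGL F * wGL F) * x * (wGL F * wGL F) := by rw [h]; simp
        _ = _ := by group
    have hw1 : ((wGL F : GL (Fin 2) F) : Matrix (Fin 2) (Fin 2) F) *ᵥ ![(0 : F), 1] = ![1, 0] := by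
      rw [wGL_coe]
      funext i; fin_cases i <;> simp [Matrix.mulVec, dotProduct, Fin.sum_univ_two]
    have hw2 : ((wGL F : GL (Fin 2) F) : Matrix (Fin 2) (Fin 2) F) *ᵥ ![(1 : F), 0] = ![0, 1] := by
      rw [wGL_coe]
      funext i; fin_cases i <;> simp [Matrix.mulVec, dotProduct, Fin.sum_univ_two]
    rw [hx', Units.val_mul, Units.val_mul, ← Matrix.mulVec_mulVec, ← Matrix.mulVec_mulVec, hw1, hc,
      Matrix.mulVec_smul, hw2]
  -- the two triangular contradictions
  have hE2 : shiftN 2 F * shiftN 2 F = 0 := by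
    rw [shiftN_two]
    ext i j
    fin_cases i <;> fin_cases j <;> simp [Matrix.mul_apply, Fin.sum_univ_two]
  have hE0 : shiftN 2 F ≠ 0 := by
    intro h
    have := congrFun (congrFun h 0) 1
    simp [shiftN_apply] at this
  have hdE : (d : Matrix (Fin 2) (Fin 2) F) * shiftN 2 F =
      ((a : F) ^ 2) • (shiftN 2 F * (d : Matrix (Fin 2) (Fin 2) F)) := by
    rw [hdcoe, shiftN_two, diag2, Matrix.mul_fin_two, Matrix.mul_fin_two]
    ext i j
    fin_cases i <;> fin_cases j <;> simp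
    field_simp
  set E' : Matrix (Fin 2) (Fin 2) F := !![0, 0; 1, 0] with hE'
  have hE'2 : E' * E' = 0 := by
    rw [hE']
    ext i j
    fin_cases i <;> fin_cases j <;> simp [Matrix.mul_apply, Fin.sum_univ_two]
  have hE'0 : E' ≠ 0 := by
    intro h
    have := congrFun (congrFun h 1) 0
    simp [hE'] at this
  have hdE' : (d : Matrix (Fin 2) (Fin 2) F) * E' =
      ((((a⁻¹ : Fˣ) : F)) ^ 2) • (E' * (d : Matrix (Fin 2) (Fin 2) F)) := by
    rw [hdcoe, hE', diag2, Matrix.mul_fin_two, Matrix.mul_fin_two]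
    ext i j
    fin_cases i <;> fin_cases j <;> simp
    field_simp
  have ha' : (((a⁻¹ : Fˣ) : F)) ^ 2 ≠ 1 := by
    intro h
    apply ha
    have h1 : ((a⁻¹ : Fˣ) : F) = (a : F)⁻¹ := by simp
    rw [h1, inv_pow] at h
    exact inv_eq_one.mp h
  -- the core dichotomy
  have hnilAd := lift_isNilpotent G Ad (hnil Ad hAd)
  have hdlift : d ∈ lift G Ad := mem_lift_of_mem hdG hdAd
  rcases core (lift G Ad) hnilAd a ha2 d hdcoe hdlift with ⟨c, hc⟩ | ⟨c, hc⟩
  · have hAdH0 : Ad ≤ H0 := le_down_of_lift_le (fun x hx => ⟨c x, hc x hx⟩)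
    have hEq : Ad = Au := replace_one hmin hH0top hAd hAu hAdH0 hAuH0
    have hulift : u ∈ lift G Ad := mem_lift_of_mem huG (hEq ▸ huAu)
    exact tri_gen (lift G Ad) hnilAd d u hdlift hulift (shiftN 2 F) hE2 hE0 _ ha hdE 1 one_ne_zero
      (by rw [hucoe, jordanU, one_smul])
  · have hAdHinf : Ad ≤ Hinf := le_down_of_lift_le (fun x hx => ⟨c x, hc x hx⟩)
    have hEq : Ad = Aut := replace_one hmin hHinftop hAd hAut hAdHinf hAutHinf
    have hutlift : ut ∈ lift G Ad := mem_lift_of_mem hutG (hEq ▸ hutAut)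
    refine tri_gen (lift G Ad) hnilAd d ut hdlift hutlift E' hE'2 hE'0 _ ha' hdE' 1 one_ne_zero ?_
    rw [hutcoe, hE', one_smul]
    ext i j
    fin_cases i <;> fin_cases j <;> simp

end Cfsg.Agent.Lib.Helper18.NilCov
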