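/-
helper18 (S3894): the case `n = 2`, Case A, closed with helper20's core lemma.
-/
import Mathlib
import Cfsg.Agent.Lib.Helper18.NilCovA
import Cfsg.Agent.Lib.Helper20.NilCovA

set_option autoImplicit false

namespace Cfsg.Agent.Lib.Helper18.NilCov

open Matrix Subgroup
open Cfsg.Agent.Lib.Helper27.NilpCover

variable {F : Type*} [Field F]

/-- **Case A** (`n = 2`): if some `a ∈ Fˣ` has an order that is not a power of `2`, no subgroup
between `PSL₂(F)` and `PGL₂(F)` has a nilpotent minimal cover. -/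
theorem no_cover_two_A
    (G : Subgroup (GL (Fin 2) F ⧸ Subgroup.center (GL (Fin 2) F)))
    (hG : ((Matrix.SpecialLinearGroup.toGL :
      Matrix.SpecialLinearGroup (Fin 2) F →* GL (Fin 2) F).range).map
      (QuotientGroup.mk' (Subgroup.center (GL (Fin 2) F))) ≤ G)
    (a : Fˣ) (ha2 : ¬ ∃ k, orderOf a = 2 ^ k)
    (𝓐 : Finset (Subgroup ↥G)) (hmin : IsMinCover 𝓐)
    (hnil : ∀ A ∈ 𝓐, Group.IsNilpotent ↥A) : False :=
  no_cover_two_A_of_core
    (fun A hA a ha2 d hd hdA =>
      Cfsg.Agent.Lib.Helper20.NilCovA.fixes_line_of_nilpotent_diag A hA a ha2 d hd hdA)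
    G hG a ha2 𝓐 hmin hnil

end Cfsg.Agent.Lib.Helper18.NilCov
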