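/-
helper18 (S3894): the case `n = 2`, Case B (every element of `Fˣ` has 2-power order, `q ≥ 4`):
the counting argument.  The Borel subgroups (line stabilizers) and the non-split tori
(centralizers of elements without eigenvectors) give a cover `𝓑` by proper subgroups; every member
of `𝓑` contains a member of the nilpotent minimal cover `𝓐` lying in no other member of `𝓑`,
and the member of `𝓐` containing `diag(a, a⁻¹)` lies in no member of `𝓑`, so `|𝓑| < |𝓐|`.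
Leaves: helper10 (`NilCovB1`), helper2 (`NilCovB23`).
-/
import Mathlib
import Cfsg.Agent.Lib.Helper18.NilCovA
import Cfsg.Agent.Lib.Helper10.NilCovB1
import Cfsg.Agent.Lib.Helper2.NilCovB23

set_option autoImplicit false

namespace Cfsg.Agent.Lib.Helper18.NilCov

open Matrix Subgroup
open Cfsg.Agent.Lib.Helper27.NilpCover

variable {F : Type*} [Field F]

local notation "NoEig" => Cfsg.Agent.Lib.Helper10.NilCovB1.NoEigen

/-- **Counting lemma.** -/
theorem card_lt_of_unique_below {α : Type*} [PartialOrder α] (𝓐 𝓑 : Finset α)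
    (h1 : ∀ H ∈ 𝓑, ∃ A ∈ 𝓐, A ≤ H ∧ ∀ H' ∈ 𝓑, A ≤ H' → H' = H)
    (h2 : ∃ A ∈ 𝓐, ∀ H ∈ 𝓑, ¬ A ≤ H) : 𝓑.card < 𝓐.card := by
  classical
  obtain ⟨A0, hA0, hA0n⟩ := h2
  have : Nonempty α := ⟨A0⟩
  choose! Φ hΦ using h1
  have hsub : 𝓑.image Φ ⊆ 𝓐.erase A0 := by
    intro A hA
    obtain ⟨H, hH, rfl⟩ := Finset.mem_image.mp hA
    rw [Finset.mem_erase]
    refine ⟨?_, (hΦ H hH).1⟩
    intro h
    exact hA0n H hH (h ▸ (hΦ H hH).2.1)
  have hinj : Set.InjOn Φ (𝓑 : Set α) := by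
    intro H1 h1 H2 h2 h
    exact ((hΦ H1 h1).2.2 H2 h2 (h ▸ (hΦ H2 h2).2.1)).symm
  calc 𝓑.card = (𝓑.image Φ).card := (Finset.card_image_of_injOn hinj).symm
    _ ≤ (𝓐.erase A0).card := Finset.card_le_card hsub
    _ < 𝓐.card := Finset.card_erase_lt_of_mem hA0

theorem exists_generator_order [Fintype F] :
    ∃ g : Fˣ, orderOf g = Fintype.card F - 1 := by
  classical
  obtain ⟨g, hg⟩ := IsCyclic.exists_generator (α := Fˣ)
  refine ⟨g, ?_⟩
  rw [orderOf_eq_card_of_forall_mem_zpowers hg, Nat.card_eq_fintype_card, Fintype.card_units]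

theorem exists_sq_ne_one [Fintype F] (hq : 4 ≤ Fintype.card F) : ∃ a : Fˣ, (a : F) ^ 2 ≠ 1 := by
  obtain ⟨g, hg⟩ := exists_generator_order (F := F)
  refine ⟨g, ?_⟩
  intro h
  have h1 : g ^ 2 = 1 := by
    apply Units.ext
    simpa using h
  have h2 : orderOf g ∣ 2 := orderOf_dvd_of_pow_eq_one h1
  have h3 := Nat.le_of_dvd (by norm_num) h2
  omega

theorem exists_odd_prime_dvd [Fintype F] (hq : 4 ≤ Fintype.card F)
    (hall : ∀ a : Fˣ, ∃ k : ℕ, orderOf a = 2 ^ k) :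
    ∃ r : ℕ, r.Prime ∧ r ∣ Fintype.card F + 1 ∧ r ≠ 2 := by
  obtain ⟨g, hg⟩ := exists_generator_order (F := F)
  obtain ⟨k, hk⟩ := hall g
  rw [hg] at hk
  have hk2 : 2 ≤ k := by
    by_contra hlt
    have : k = 0 ∨ k = 1 := by omega
    rcases this with rfl | rfl <;> simp at hk <;> omega
  obtain ⟨k', rfl⟩ := Nat.exists_eq_add_of_le hk2
  have hqeq : Fintype.card F + 1 = 2 * (2 * 2 ^ k' + 1) := by
    have : 2 ^ (2 + k') = 4 * 2 ^ k' := by rw [pow_add]; norm_num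
    omega
  have hpos : 0 < 2 ^ k' := Nat.pos_of_ne_zero (by positivity)
  refine ⟨(2 * 2 ^ k' + 1).minFac, Nat.minFac_prime (by omega), ?_, ?_⟩
  · rw [hqeq]
    exact dvd_mul_of_dvd_right (Nat.minFac_dvd _) _
  · intro h
    have := Nat.minFac_dvd (2 * 2 ^ k' + 1)
    rw [h] at this
    omega

theorem lineStab_smul {n : ℕ} (v : Fin n → F) (s : F) (hs : s ≠ 0) :
    lineStab (s • v) = lineStab v := by
  ext x
  rw [mem_lineStab, mem_lineStab]
  constructor
  · rintro ⟨c, hc⟩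
    refine ⟨c, ?_⟩
    rw [Matrix.mulVec_smul, smul_comm c s v] at hc
    exact smul_right_injective _ hs hc
  · rintro ⟨c, hc⟩
    refine ⟨c, ?_⟩
    rw [Matrix.mulVec_smul, hc, smul_comm]


/-- (a) a nilpotent subgroup containing `γ u γ⁻¹` stabilizes the line `γ e₁`. -/
theorem le_lineStab_of_conj_jordan (A : Subgroup (GL (Fin 2) F)) (hA : Group.IsNilpotent ↥A)
    (γ u : GL (Fin 2) F) (hu : (u : Matrix (Fin 2) (Fin 2) F) = jordanU 2 F)
    (hxA : γ * u * γ⁻¹ ∈ A) :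
    A ≤ lineStab ((γ : Matrix (Fin 2) (Fin 2) F) *ᵥ ![1, 0]) := by
  intro z hz
  have h1 := conj_upper_of_nilpotent A hA γ u hu hxA z hz
  obtain ⟨c, hc⟩ := upperB_le_lineStab (0 : Fin 2) (fun i => Fin.zero_le i) h1
  rw [single_01_eq] at hc
  refine ⟨c, ?_⟩
  have h2 : z * γ = γ * (γ⁻¹ * z * γ) := by group
  calc (z : Matrix (Fin 2) (Fin 2) F) *ᵥ ((γ : Matrix (Fin 2) (Fin 2) F) *ᵥ ![1, 0])
      = ((z * γ : GL (Fin 2) F) : Matrix (Fin 2) (Fin 2) F) *ᵥ ![1, 0] := by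
        rw [Units.val_mul, Matrix.mulVec_mulVec]
    _ = ((γ * (γ⁻¹ * z * γ) : GL (Fin 2) F) : Matrix (Fin 2) (Fin 2) F) *ᵥ ![1, 0] := by rw [← h2]
    _ = (γ : Matrix (Fin 2) (Fin 2) F) *ᵥ
          (((γ⁻¹ * z * γ : GL (Fin 2) F) : Matrix (Fin 2) (Fin 2) F) *ᵥ ![1, 0]) := by
        rw [Units.val_mul, Matrix.mulVec_mulVec]
    _ = (γ : Matrix (Fin 2) (Fin 2) F) *ᵥ (c • ![1, 0]) := by rw [hc]
    _ = c • ((γ : Matrix (Fin 2) (Fin 2) F) *ᵥ ![1, 0]) := Matrix.mulVec_smul _ _ _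

/-- an eigenvector of the Jordan block has vanishing second coordinate -/
theorem jordanU_eigen (y : Fin 2 → F) (c : F) (h : jordanU 2 F *ᵥ y = c • y) : y 1 = 0 := by
  rw [jordanU_two] at h
  have h0 := congrFun h 0
  have h1 := congrFun h 1
  simp [Matrix.mulVec, dotProduct, Fin.sum_univ_two] at h0 h1
  by_contra hy
  have hc : c = 1 := by
    have : (1 - c) * y 1 = 0 := by rw [sub_mul, one_mul, ← h1, sub_self]
    rcases mul_eq_zero.mp this with h | h
    · exact (sub_eq_zero.mp h).symm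
    · exact absurd h hy
  rw [hc, one_mul] at h0
  exact hy (by simpa using h0)

/-- (b) a line stabilized by `γ u γ⁻¹` is the line `γ e₁`. -/
theorem parallel_of_conj_jordan_mem_lineStab (γ u : GL (Fin 2) F)
    (hu : (u : Matrix (Fin 2) (Fin 2) F) = jordanU 2 F) (v' : Fin 2 → F) (hv' : v' ≠ 0)
    (h : γ * u * γ⁻¹ ∈ lineStab v') :
    ∃ s : F, s ≠ 0 ∧ v' = s • ((γ : Matrix (Fin 2) (Fin 2) F) *ᵥ ![1, 0]) := by
  obtain ⟨c, hc⟩ := h
  set y : Fin 2 → F := ((γ⁻¹ : GL (Fin 2) F) : Matrix (Fin 2) (Fin 2) F) *ᵥ v' with hy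
  have hv'y : v' = (γ : Matrix (Fin 2) (Fin 2) F) *ᵥ y := by
    rw [hy, Matrix.mulVec_mulVec, ← Units.val_mul, mul_inv_cancel, Units.val_one,
      Matrix.one_mulVec]
  have huy : jordanU 2 F *ᵥ y = c • y := by
    have h2 : u * γ⁻¹ = γ⁻¹ * (γ * u * γ⁻¹) := by group
    calc jordanU 2 F *ᵥ y = ((u * γ⁻¹ : GL (Fin 2) F) : Matrix (Fin 2) (Fin 2) F) *ᵥ v' := by
          rw [hy, Units.val_mul, hu, Matrix.mulVec_mulVec]
      _ = ((γ⁻¹ * (γ * u * γ⁻¹) : GL (Fin 2) F) : Matrix (Fin 2) (Fin 2) F) *ᵥ v' := by rw [← h2]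
      _ = ((γ⁻¹ : GL (Fin 2) F) : Matrix (Fin 2) (Fin 2) F) *ᵥ
            (((γ * u * γ⁻¹ : GL (Fin 2) F) : Matrix (Fin 2) (Fin 2) F) *ᵥ v') := by
          rw [Units.val_mul (γ⁻¹), Matrix.mulVec_mulVec]
      _ = c • y := by rw [hc, Matrix.mulVec_smul]
  have hy1 : y 1 = 0 := jordanU_eigen y c huy
  have hyeq : y = y 0 • ![1, 0] := by
    funext i
    fin_cases i <;> simp [hy1]
  have hy0 : y 0 ≠ 0 := by
    intro h0
    apply hv'
    rw [hv'y, hyeq, h0, zero_smul, Matrix.mulVec_zero]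
  refine ⟨y 0, hy0, ?_⟩
  rw [hv'y, ← Matrix.mulVec_smul, ← hyeq]

/-- an element `1 + N` with `N ≠ 0` singular does not centralize an element without
eigenvectors -/
theorem not_mem_centralizer_of_one_add (g : GL (Fin 2) F)
    (hg : NoEig (g : Matrix (Fin 2) (Fin 2) F)) (x : GL (Fin 2) F)
    (c : F) (N : Matrix (Fin 2) (Fin 2) F) (hx : (x : Matrix (Fin 2) (Fin 2) F) = c • 1 + N)
    (hN0 : N ≠ 0) (hNdet : N.det = 0) :
    x ∉ Subgroup.centralizer ({g} : Set (GL (Fin 2) F)) := by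
  intro hx'
  rcases Cfsg.Agent.Lib.Helper10.NilCovB1.sub_smul_eq_zero_or_det_ne_zero g hg x hx' c with h | h
  · rw [hx, add_sub_cancel_left] at h
    exact hN0 h
  · rw [hx, add_sub_cancel_left] at h
    exact h hNdet

/-- (c) `γ u γ⁻¹` does not centralize an element without eigenvectors. -/
theorem conj_jordan_not_mem_centralizer (g : GL (Fin 2) F)
    (hg : NoEig (g : Matrix (Fin 2) (Fin 2) F)) (γ u : GL (Fin 2) F)
    (hu : (u : Matrix (Fin 2) (Fin 2) F) = jordanU 2 F) :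
    γ * u * γ⁻¹ ∉ Subgroup.centralizer ({g} : Set (GL (Fin 2) F)) := by
  have hγ : (γ : Matrix (Fin 2) (Fin 2) F) * ((γ⁻¹ : GL (Fin 2) F) : Matrix (Fin 2) (Fin 2) F) = 1 := by
    rw [← Units.val_mul, mul_inv_cancel, Units.val_one]
  have hγ' : ((γ⁻¹ : GL (Fin 2) F) : Matrix (Fin 2) (Fin 2) F) * (γ : Matrix (Fin 2) (Fin 2) F) = 1 := by
    rw [← Units.val_mul, inv_mul_cancel, Units.val_one]
  apply not_mem_centralizer_of_one_add g hg _ 1
    ((γ : Matrix (Fin 2) (Fin 2) F) * shiftN 2 F * ((γ⁻¹ : GL (Fin 2) F) : Matrix (Fin 2) (Fin 2) F))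
  · rw [Units.val_mul, Units.val_mul, hu, jordanU, Matrix.mul_add, Matrix.add_mul, Matrix.mul_one,
      hγ, one_smul]
  · intro h
    have h2 : shiftN 2 F = ((γ⁻¹ : GL (Fin 2) F) : Matrix (Fin 2) (Fin 2) F) *
        ((γ : Matrix (Fin 2) (Fin 2) F) * shiftN 2 F *
          ((γ⁻¹ : GL (Fin 2) F) : Matrix (Fin 2) (Fin 2) F)) * (γ : Matrix (Fin 2) (Fin 2) F) := by
      rw [Matrix.mul_assoc, Matrix.mul_assoc, hγ', Matrix.mul_one, ← Matrix.mul_assoc, hγ',
        Matrix.one_mul]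
    rw [h, Matrix.mul_zero, Matrix.zero_mul] at h2
    have := congrFun (congrFun h2 0) 1
    simp [shiftN_apply] at this
  · rw [Matrix.det_mul, Matrix.det_mul, shiftN_two]
    simp [Matrix.det_fin_two]

/-- every nonzero vector is the first column of an element of `SL₂`. -/
theorem exists_SL_mulVec_e1 (v : Fin 2 → F) (hv : v ≠ 0) :
    ∃ gS : Matrix.SpecialLinearGroup (Fin 2) F,
      (gS : Matrix (Fin 2) (Fin 2) F) *ᵥ ![1, 0] = v := by
  by_cases h0 : v 0 = 0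
  · have h1 : v 1 ≠ 0 := by
      intro h1
      apply hv
      funext i
      fin_cases i <;> simp [h0, h1]
    refine ⟨⟨!![v 0, -(v 1)⁻¹; v 1, 0], ?_⟩, ?_⟩
    · rw [Matrix.det_fin_two_of]
      field_simp
      ring
    · funext i
      fin_cases i <;> simp [Matrix.mulVec, dotProduct, Fin.sum_univ_two]
  · refine ⟨⟨!![v 0, 0; v 1, (v 0)⁻¹], ?_⟩, ?_⟩
    · rw [Matrix.det_fin_two_of]
      field_simp
      ring
    · funext i
      fin_cases i <;> simp [Matrix.mulVec, dotProduct, Fin.sum_univ_two]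

/-- two commuting elements without eigenvectors have the same centralizer -/
theorem centralizer_eq_of_mem (g y : GL (Fin 2) F)
    (hg : NoEig (g : Matrix (Fin 2) (Fin 2) F)) (hy : NoEig (y : Matrix (Fin 2) (Fin 2) F))
    (h : y ∈ Subgroup.centralizer ({g} : Set (GL (Fin 2) F))) :
    Subgroup.centralizer ({g} : Set (GL (Fin 2) F)) =
      Subgroup.centralizer ({y} : Set (GL (Fin 2) F)) := by
  have hgy : g ∈ Subgroup.centralizer ({y} : Set (GL (Fin 2) F)) := by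
    rw [Subgroup.mem_centralizer_singleton_iff] at h ⊢
    exact h.symm
  ext z
  constructor
  · intro hz
    rw [Subgroup.mem_centralizer_singleton_iff]
    exact Cfsg.Agent.Lib.Helper10.NilCovB1.centralizer_comm g hg z y hz h
  · intro hz
    rw [Subgroup.mem_centralizer_singleton_iff]
    exact Cfsg.Agent.Lib.Helper10.NilCovB1.centralizer_comm y hy z g hz hgy

/-- the diagonal element does not centralize an element without eigenvectors -/
theorem dSL_not_mem_centralizer (a : Fˣ) (ha : (a : F) ^ 2 ≠ 1) (g : GL (Fin 2) F)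
    (hg : NoEig (g : Matrix (Fin 2) (Fin 2) F)) :
    (Matrix.SpecialLinearGroup.toGL (dSL a) : GL (Fin 2) F) ∉
      Subgroup.centralizer ({g} : Set (GL (Fin 2) F)) := by
  have ha0 : (a : F) ≠ 0 := a.ne_zero
  have hne : ((a⁻¹ : Fˣ) : F) - (a : F) ≠ 0 := by
    intro h
    apply ha
    have h1 : ((a⁻¹ : Fˣ) : F) = (a : F)⁻¹ := by simp
    rw [h1, sub_eq_zero] at h
    rw [sq]
    nth_rewrite 1 [← h]
    exact inv_mul_cancel₀ ha0
  apply not_mem_centralizer_of_one_add g hg _ (a : F) !![0, 0; 0, ((a⁻¹ : Fˣ) : F) - (a : F)]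
  · show Matrix.diagonal ![(a : F), ((a⁻¹ : Fˣ) : F)] = _
    rw [diag2]
    ext i j
    fin_cases i <;> fin_cases j <;> simp
  · intro h
    have := congrFun (congrFun h 1) 1
    simp at this
    exact hne (by simpa using this)
  · simp [Matrix.det_fin_two]


end Cfsg.Agent.Lib.Helper18.NilCov
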