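/-
helper18 (S3894): the case `n = 2`, Case B, assembly: `diag_not_le_borel` and `no_cover_two_B`.
-/
import Mathlib
import Cfsg.Agent.Lib.Helper18.NilCovB5

set_option autoImplicit false

namespace Cfsg.Agent.Lib.Helper18.NilCov

open Matrix Subgroup
open Cfsg.Agent.Lib.Helper27.NilpCover

variable {F : Type*} [Field F]

local notation "NoEig" => Cfsg.Agent.Lib.Helper10.NilCovB1.NoEigen

/-- the member of a nilpotent minimal cover containing `diag(a, a⁻¹)`, `a² ≠ 1`, lies in no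
Borel subgroup. -/
theorem diag_not_le_borel
    (G : Subgroup (GL (Fin 2) F ⧸ Subgroup.center (GL (Fin 2) F)))
    (hG : ((Matrix.SpecialLinearGroup.toGL :
      Matrix.SpecialLinearGroup (Fin 2) F →* GL (Fin 2) F).range).map
      (QuotientGroup.mk' (Subgroup.center (GL (Fin 2) F))) ≤ G)
    (a : Fˣ) (ha : (a : F) ^ 2 ≠ 1)
    (𝓐 : Finset (Subgroup ↥G)) (hmin : IsMinCover 𝓐)
    (hnil : ∀ A ∈ 𝓐, Group.IsNilpotent ↥A)
    (Ad : Subgroup ↥G) (hAd : Ad ∈ 𝓐)
    (hdAd : (⟨proj 2 F (Matrix.SpecialLinearGroup.toGL (dSL a)), proj_toGL_mem hG _⟩ : ↥G) ∈ Ad)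
    (v : Fin 2 → F) (hv : v ≠ 0) : ¬ Ad ≤ down G (lineStab v) := by
  classical
  intro hle
  have ha0 : (a : F) ≠ 0 := a.ne_zero
  have h10 : (1 : Fin 2) ≠ 0 := by decide
  -- elements
  set u : GL (Fin 2) F := Matrix.SpecialLinearGroup.toGL (uSL 2 F) with hu
  have hucoe : (u : Matrix (Fin 2) (Fin 2) F) = jordanU 2 F := rfl
  set ut : GL (Fin 2) F := Matrix.SpecialLinearGroup.toGL (tSL (1 : Fin 2) 0 h10 (1 : F)) with hut
  have hutcoe : (ut : Matrix (Fin 2) (Fin 2) F) = !![1, 0; 1, 1] := by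
    rw [← transvection_10]; rfl
  set d : GL (Fin 2) F := Matrix.SpecialLinearGroup.toGL (dSL a) with hd
  have hdcoe : (d : Matrix (Fin 2) (Fin 2) F) = Matrix.diagonal ![(a : F), ((a⁻¹ : Fˣ) : F)] := rfl
  have huG : proj 2 F u ∈ G := proj_toGL_mem hG _
  have hutG : proj 2 F ut ∈ G := proj_toGL_mem hG _
  have hdG : proj 2 F d ∈ G := proj_toGL_mem hG _
  -- `d` stabilizes the line `v`
  obtain ⟨c, hc⟩ : d ∈ lineStab v := (mem_down_iff (center_le_lineStab v) hdG).mp (hle hdAd)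
  rw [hdcoe] at hc
  have hc0 := congrFun hc 0
  have hc1 := congrFun hc 1
  simp only [Matrix.mulVec_diagonal, Pi.smul_apply, smul_eq_mul, Matrix.cons_val_zero,
    Matrix.cons_val_one] at hc0 hc1
  -- conjugation `w u w⁻¹ = ut`
  have hwu : wGL F * u * (wGL F)⁻¹ = ut := by
    rw [wGL_inv]
    apply Units.ext
    rw [Units.val_mul, Units.val_mul, wGL_coe, hucoe, hutcoe, jordanU_two]
    ext i j
    fin_cases i <;> fin_cases j <;> simp [Matrix.mul_apply, Fin.sum_univ_two]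
  -- proper subgroups
  set H0 : Subgroup ↥G := down G (lineStab ![(1 : F), 0]) with hH0
  set Hinf : Subgroup ↥G := down G (lineStab ![(0 : F), 1]) with hHinf
  have hH0top : H0 ≠ ⊤ := by
    apply down_ne_top (center_le_lineStab _) hutG
    rintro ⟨c, hc⟩
    rw [hutcoe] at hc
    have h0 := congrFun hc 0
    have h1 := congrFun hc 1
    simp [Matrix.mulVec, dotProduct, Fin.sum_univ_two] at h0 h1
  have hHinftop : Hinf ≠ ⊤ := by
    apply down_ne_top (center_le_lineStab _) huG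
    rintro ⟨c, hc⟩
    rw [hucoe, jordanU_two] at hc
    have h0 := congrFun hc 0
    have h1 := congrFun hc 1
    simp [Matrix.mulVec, dotProduct, Fin.sum_univ_two] at h0 h1
  -- members
  obtain ⟨Au, hAu, huAu⟩ := hmin.1.2 ⟨proj 2 F u, huG⟩
  obtain ⟨Aut, hAut, hutAut⟩ := hmin.1.2 ⟨proj 2 F ut, hutG⟩
  have hAuH0 : Au ≤ H0 := by
    apply le_down_of_lift_le
    have := (upper_of_nilpotent (lift G Au) (lift_isNilpotent G Au (hnil Au hAu)) u hucoe
      (mem_lift_of_mem huG huAu)).trans (upperB_le_lineStab (0 : Fin 2) (fun i => Fin.zero_le i))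
    rwa [single_01_eq] at this
  have hAutHinf : Aut ≤ Hinf := by
    apply le_down_of_lift_le
    have hmem : wGL F * u * (wGL F)⁻¹ ∈ lift G Aut := by
      rw [hwu]; exact mem_lift_of_mem hutG hutAut
    have h1 := le_lineStab_of_conj_jordan (lift G Aut) (lift_isNilpotent G Aut (hnil Aut hAut))
      (wGL F) u hucoe hmem
    have hw2 : ((wGL F : GL (Fin 2) F) : Matrix (Fin 2) (Fin 2) F) *ᵥ ![(1 : F), 0] = ![0, 1] := by
      rw [wGL_coe]
      funext i; fin_cases i <;> simp [Matrix.mulVec, dotProduct, Fin.sum_univ_two]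
    rwa [hw2] at h1
  -- the two triangular contradictions
  have hE2 : shiftN 2 F * shiftN 2 F = 0 := by
    rw [shiftN_two]
    ext i j
    fin_cases i <;> fin_cases j <;> simp [Matrix.mul_apply, Fin.sum_univ_two]
  have hE0 : shiftN 2 F ≠ 0 := by
    intro h
    have := congrFun (congrFun h 0) 1
    simp [shiftN_apply] at this
  have hdE : (d : Matrix (Fin 2) (Fin 2) F) * shiftN 2 F =
      ((a : F) ^ 2) • (shiftN 2 F * (d : Matrix (Fin 2) (Fin 2) F)) := by
    rw [hdcoe, shiftN_two, diag2, Matrix.mul_fin_two, Matrix.mul_fin_two]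
    ext i j
    fin_cases i <;> fin_cases j <;> simp
    field_simp
  set E' : Matrix (Fin 2) (Fin 2) F := !![0, 0; 1, 0] with hE'
  have hE'2 : E' * E' = 0 := by
    rw [hE']
    ext i j
    fin_cases i <;> fin_cases j <;> simp [Matrix.mul_apply, Fin.sum_univ_two]
  have hE'0 : E' ≠ 0 := by
    intro h
    have := congrFun (congrFun h 1) 0
    simp [hE'] at this
  have hdE' : (d : Matrix (Fin 2) (Fin 2) F) * E' =
      ((((a⁻¹ : Fˣ) : F)) ^ 2) • (E' * (d : Matrix (Fin 2) (Fin 2) F)) := by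
    rw [hdcoe, hE', diag2, Matrix.mul_fin_two, Matrix.mul_fin_two]
    ext i j
    fin_cases i <;> fin_cases j <;> simp
    field_simp
  have hainv : ((a⁻¹ : Fˣ) : F) = (a : F)⁻¹ := by simp
  have ha' : (((a⁻¹ : Fˣ) : F)) ^ 2 ≠ 1 := by
    intro h
    apply ha
    rw [hainv, inv_pow] at h
    exact inv_eq_one.mp h
  have hnilAd := lift_isNilpotent G Ad (hnil Ad hAd)
  have hdlift : d ∈ lift G Ad := mem_lift_of_mem hdG hdAd
  by_cases h1 : v 1 = 0
  · -- the line is `e₁`
    have h0 : v 0 ≠ 0 := by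
      intro h0
      apply hv
      funext i
      fin_cases i <;> simp [h0, h1]
    have hveq : v = v 0 • ![1, 0] := by
      funext i
      fin_cases i <;> simp [h1]
    have hAdH0 : Ad ≤ H0 := by
      rw [hH0, ← lineStab_smul ![(1 : F), 0] (v 0) h0, ← hveq]
      exact hle
    have hEq : Ad = Au := replace_one hmin hH0top hAd hAu hAdH0 hAuH0
    have hulift : u ∈ lift G Ad := mem_lift_of_mem huG (hEq ▸ huAu)
    exact tri_gen (lift G Ad) hnilAd d u hdlift hulift (shiftN 2 F) hE2 hE0 _ ha hdE 1 one_ne_zero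
      (by rw [hucoe, jordanU, one_smul])
  · -- the line is `e₂`
    have hca : c = ((a⁻¹ : Fˣ) : F) := (mul_right_cancel₀ h1 hc1).symm
    have h0 : v 0 = 0 := by
      by_contra h0
      have hca' : (a : F) = c := mul_right_cancel₀ h0 hc0
      apply ha
      rw [hca, hainv] at hca'
      rw [sq]
      nth_rewrite 1 [hca']
      exact inv_mul_cancel₀ ha0
    have hveq : v = v 1 • ![0, 1] := by
      funext i
      fin_cases i <;> simp [h0]
    have hAdHinf : Ad ≤ Hinf := by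
      rw [hHinf, ← lineStab_smul ![(0 : F), 1] (v 1) h1, ← hveq]
      exact hle
    have hEq : Ad = Aut := replace_one hmin hHinftop hAd hAut hAdHinf hAutHinf
    have hutlift : ut ∈ lift G Ad := mem_lift_of_mem hutG (hEq ▸ hutAut)
    refine tri_gen (lift G Ad) hnilAd d ut hdlift hutlift E' hE'2 hE'0 _ ha' hdE' 1 one_ne_zero ?_
    rw [hutcoe, hE', one_smul]
    ext i j
    fin_cases i <;> fin_cases j <;> simp


/-- **Case B** (`n = 2`). -/
theorem no_cover_two_B [Fintype F] (hq : 4 ≤ Fintype.card F)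
    (hall : ∀ a : Fˣ, ∃ k : ℕ, orderOf a = 2 ^ k)
    (G : Subgroup (GL (Fin 2) F ⧸ Subgroup.center (GL (Fin 2) F)))
    (hG : ((Matrix.SpecialLinearGroup.toGL :
      Matrix.SpecialLinearGroup (Fin 2) F →* GL (Fin 2) F).range).map
      (QuotientGroup.mk' (Subgroup.center (GL (Fin 2) F))) ≤ G)
    (𝓐 : Finset (Subgroup ↥G)) (hmin : IsMinCover 𝓐)
    (hnil : ∀ A ∈ 𝓐, Group.IsNilpotent ↥A) : False := by
  classical
  obtain ⟨a, ha⟩ := exists_sq_ne_one hq
  obtain ⟨r, hr, hrdvd, hr2⟩ := exists_odd_prime_dvd hq hall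
  have h10 : (1 : Fin 2) ≠ 0 := by decide
  set u : GL (Fin 2) F := Matrix.SpecialLinearGroup.toGL (uSL 2 F) with hu
  have hucoe : (u : Matrix (Fin 2) (Fin 2) F) = jordanU 2 F := rfl
  set ut : GL (Fin 2) F := Matrix.SpecialLinearGroup.toGL (tSL (1 : Fin 2) 0 h10 (1 : F)) with hut
  have hutcoe : (ut : Matrix (Fin 2) (Fin 2) F) = !![1, 0; 1, 1] := by
    rw [← transvection_10]; rfl
  have huG : proj 2 F u ∈ G := proj_toGL_mem hG _
  have hutG : proj 2 F ut ∈ G := proj_toGL_mem hG _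
  have : Finite ↥G := inferInstance
  have : Fintype (Subgroup ↥G) := Fintype.ofFinite _
  set 𝓑 : Finset (Subgroup ↥G) := Finset.univ.filter (fun H =>
    (∃ v : Fin 2 → F, v ≠ 0 ∧ H = down G (lineStab v)) ∨
    (∃ g : GL (Fin 2) F, NoEig (g : Matrix (Fin 2) (Fin 2) F) ∧
      H = down G (Subgroup.centralizer ({g} : Set (GL (Fin 2) F))))) with h𝓑
  have hmem𝓑 : ∀ H, H ∈ 𝓑 ↔ ((∃ v : Fin 2 → F, v ≠ 0 ∧ H = down G (lineStab v)) ∨
    (∃ g : GL (Fin 2) F, NoEig (g : Matrix (Fin 2) (Fin 2) F) ∧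
      H = down G (Subgroup.centralizer ({g} : Set (GL (Fin 2) F))))) := by
    intro H
    rw [h𝓑, Finset.mem_filter]
    simp
  -- `𝓑` is a cover by proper subgroups
  have hcov : (∀ H ∈ 𝓑, H ≠ ⊤) ∧ ∀ x : ↥G, ∃ H ∈ 𝓑, x ∈ H := by
    constructor
    · intro H hH
      rcases (hmem𝓑 H).mp hH with ⟨v, hv, rfl⟩ | ⟨g, hg, rfl⟩
      · by_cases h1 : v 1 = 0
        · have h0 : v 0 ≠ 0 := by
            intro h0
            apply hv
            funext i
            fin_cases i <;> simp [h0, h1]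
          apply down_ne_top (center_le_lineStab _) hutG
          rintro ⟨c, hc⟩
          rw [hutcoe] at hc
          have e0 := congrFun hc 0
          have e1 := congrFun hc 1
          simp [Matrix.mulVec, dotProduct, Fin.sum_univ_two, h1] at e0 e1
          exact h0 e1
        · apply down_ne_top (center_le_lineStab _) huG
          rintro ⟨c, hc⟩
          rw [hucoe] at hc
          exact h1 (jordanU_eigen v c hc)
      · apply down_ne_top (Subgroup.center_le_centralizer _) huG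
        have := conj_jordan_not_mem_centralizer g hg 1 u hucoe
        simpa using this
    · intro x
      obtain ⟨xt, hxt⟩ := QuotientGroup.mk'_surjective (Subgroup.center (GL (Fin 2) F)) x.1
      have hxG : proj 2 F xt ∈ G := hxt ▸ x.2
      have hxeq : x = ⟨proj 2 F xt, hxG⟩ := Subtype.ext hxt.symm
      by_cases h : ∃ v : Fin 2 → F, v ≠ 0 ∧ ∃ c : F, (xt : Matrix (Fin 2) (Fin 2) F) *ᵥ v = c • v
      · obtain ⟨v, hv, c, hc⟩ := h
        refine ⟨down G (lineStab v), (hmem𝓑 _).mpr (Or.inl ⟨v, hv, rfl⟩), ?_⟩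
        rw [hxeq]
        exact (mem_down_iff (center_le_lineStab v) hxG).mpr ⟨c, hc⟩
      · have hne : NoEig (xt : Matrix (Fin 2) (Fin 2) F) := fun v hv c hc => h ⟨v, hv, c, hc⟩
        refine ⟨down G (Subgroup.centralizer ({xt} : Set (GL (Fin 2) F))),
          (hmem𝓑 _).mpr (Or.inr ⟨xt, hne, rfl⟩), ?_⟩
        rw [hxeq]
        exact (mem_down_iff (Subgroup.center_le_centralizer _) hxG).mpr
          (Subgroup.mem_centralizer_singleton_iff.mpr rfl)
  have hle : 𝓐.card ≤ 𝓑.card := hmin.2 𝓑 hcov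
  -- every member of `𝓑` contains a member of `𝓐` lying in no other member of `𝓑`
  have h1 : ∀ H ∈ 𝓑, ∃ A ∈ 𝓐, A ≤ H ∧ ∀ H' ∈ 𝓑, A ≤ H' → H' = H := by
    intro H hH
    rcases (hmem𝓑 H).mp hH with ⟨v, hv, rfl⟩ | ⟨g, hg, rfl⟩
    · obtain ⟨gS, hgS⟩ := exists_SL_mulVec_e1 v hv
      set γ : GL (Fin 2) F := Matrix.SpecialLinearGroup.toGL gS with hγ
      have hγe1 : (γ : Matrix (Fin 2) (Fin 2) F) *ᵥ ![1, 0] = v := hgS
      set x : GL (Fin 2) F := Matrix.SpecialLinearGroup.toGL (gS * uSL 2 F * gS⁻¹) with hx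
      have hxeq : x = γ * u * γ⁻¹ := by
        rw [hx, map_mul, map_mul, map_inv]
      have hxG : proj 2 F x ∈ G := proj_toGL_mem hG _
      obtain ⟨A, hA, hxA⟩ := hmin.1.2 ⟨proj 2 F x, hxG⟩
      have hnilA := lift_isNilpotent G A (hnil A hA)
      have hxlift : γ * u * γ⁻¹ ∈ lift G A := hxeq ▸ mem_lift_of_mem hxG hxA
      refine ⟨A, hA, ?_, ?_⟩
      · apply le_down_of_lift_le
        have := le_lineStab_of_conj_jordan (lift G A) hnilA γ u hucoe hxlift
        rwa [hγe1] at this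
      · intro H' hH' hAH'
        rcases (hmem𝓑 H').mp hH' with ⟨v', hv', rfl⟩ | ⟨g', hg', rfl⟩
        · have hx' : x ∈ lineStab v' := (mem_down_iff (center_le_lineStab v') hxG).mp (hAH' hxA)
          obtain ⟨s, hs, hv's⟩ :=
            parallel_of_conj_jordan_mem_lineStab γ u hucoe v' hv' (hxeq ▸ hx')
          rw [hv's, hγe1, lineStab_smul v s hs]
        · exfalso
          have hx' : x ∈ Subgroup.centralizer ({g'} : Set (GL (Fin 2) F)) :=
            (mem_down_iff (Subgroup.center_le_centralizer _) hxG).mp (hAH' hxA)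
          exact conj_jordan_not_mem_centralizer g' hg' γ u hucoe (hxeq ▸ hx')
    · obtain ⟨y, hyg, hyord, hydet, hyirr, hycent⟩ :=
        Cfsg.Agent.Lib.Helper2.NilCovB23.exists_order_r' g hg r hr hrdvd hr2
      have hyS : y = Matrix.SpecialLinearGroup.toGL
          (⟨(y : Matrix (Fin 2) (Fin 2) F), hydet⟩ : Matrix.SpecialLinearGroup (Fin 2) F) :=
        Units.ext rfl
      have hyG : proj 2 F y ∈ G := by
        rw [hyS]; exact proj_toGL_mem hG _
      obtain ⟨A, hA, hyA⟩ := hmin.1.2 ⟨proj 2 F y, hyG⟩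
      have hnilA := lift_isNilpotent G A (hnil A hA)
      have hylift : y ∈ lift G A := mem_lift_of_mem hyG hyA
      have hodd : Odd (orderOf y) := hyord ▸ hr.odd_of_ne_two hr2
      have hlec : lift G A ≤ Subgroup.centralizer ({y} : Set (GL (Fin 2) F)) :=
        Cfsg.Agent.Lib.Helper2.NilCovB23.le_centralizer_of_nilpotent _ hnilA y hylift hyirr hydet
          hodd
      refine ⟨A, hA, le_down_of_lift_le (hycent ▸ hlec), ?_⟩
      intro H' hH' hAH'
      rcases (hmem𝓑 H').mp hH' with ⟨v', hv', rfl⟩ | ⟨g', hg', rfl⟩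
      · exfalso
        obtain ⟨c, hc⟩ : y ∈ lineStab v' :=
          (mem_down_iff (center_le_lineStab v') hyG).mp (hAH' hyA)
        exact hyirr v' hv' c hc
      · have hy' : y ∈ Subgroup.centralizer ({g'} : Set (GL (Fin 2) F)) :=
          (mem_down_iff (Subgroup.center_le_centralizer _) hyG).mp (hAH' hyA)
        rw [centralizer_eq_of_mem g' y hg' hyirr hy', hycent]
  -- the member containing `diag(a, a⁻¹)` lies in no member of `𝓑`
  have h2 : ∃ A ∈ 𝓐, ∀ H ∈ 𝓑, ¬ A ≤ H := by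
    set d : GL (Fin 2) F := Matrix.SpecialLinearGroup.toGL (dSL a) with hd
    have hdG : proj 2 F d ∈ G := proj_toGL_mem hG _
    obtain ⟨Ad, hAd, hdAd⟩ := hmin.1.2 ⟨proj 2 F d, hdG⟩
    refine ⟨Ad, hAd, ?_⟩
    intro H hH hAdH
    rcases (hmem𝓑 H).mp hH with ⟨v, hv, rfl⟩ | ⟨g, hg, rfl⟩
    · exact diag_not_le_borel G hG a ha 𝓐 hmin hnil Ad hAd hdAd v hv hAdH
    · have hd' : d ∈ Subgroup.centralizer ({g} : Set (GL (Fin 2) F)) :=
        (mem_down_iff (Subgroup.center_le_centralizer _) hdG).mp (hAdH hdAd)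
      exact dSL_not_mem_centralizer a ha g hg hd'
  have hlt : 𝓑.card < 𝓐.card := card_lt_of_unique_below 𝓐 𝓑 h1 h2
  omega

end Cfsg.Agent.Lib.Helper18.NilCov
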