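import Mathlib
import Cfsg.Agent.Lib.Helper20.AschDefs
import Cfsg.Agent.Lib.Helper18.AschA89Defs
import Cfsg.Agent.Lib.Helper14.AschA89G
import Cfsg.Agent.Lib.Helper14.AschA89G2f
import Cfsg.Agent.Lib.Helper14.AschA89Simp
import Cfsg.Agent.Lib.Helper28.AschA89Lin
import Cfsg.Agent.Lib.Helper28.AschA89Irr
import Cfsg.Agent.Lib.Helper28.AschA89L1
import Cfsg.Agent.Lib.Helper28.AschA89WRT
import Cfsg.Agent.Lib.Helper4.AschA89L2
import Cfsg.Agent.Lib.Helper20.AschA89WR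
import Cfsg.Agent.Lib.Helper15.AschCL
import Cfsg.Agent.Lib.Helper20.AschTS
import Cfsg.Agent.Lib.Helper29.AschS1K1
import Cfsg.Agent.Lib.Helper18.AschA89PS
import Cfsg.Agent.Lib.Helper18.AschA89F2

/-!
S5673 (Aschbacher for `Ω_{2m+1}(q)`), leaf PRF0 `wreath_of_cfam'` (helper18).
-/

set_option autoImplicit false
set_option linter.unusedSectionVars false
set_option linter.unusedVariables false

namespace Cfsg.Agent.Lib.Helper18.OAschLeaf
open Matrix Cfsg.Geo Cfsg.Agent.Lib.Helper20.Asch Cfsg.Agent.Lib.Helper18.AschA89 Cfsg.Agent.Lib.Helper18.AschLeaf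
open scoped Kronecker

variable {F : Type*} [Field F] [Fintype F] {n : ℕ} {H N : Subgroup (GL (Fin n) F)}

/-- PRF0 of `notes/S5673_leaves.lean`: `Helper18.AschLeaf.wreath_of_cfam` with the description of the enveloping algebras of the
factors exposed (same proof). -/
theorem wreath_of_cfam' (hn : 3 ≤ n) {r : ℕ} {Nf : Fin r → Subgroup (GL (Fin n) F)}
    (hfam : CFam H N r Nf) (habs : AbsIrr N) :
    ∃ (m : ℕ) (e : Fin n ≃ (Fin r → Fin m)) (P : GL (Fin n) F), 2 ≤ m ∧ H ≤ tensorWreathSubgroup m r e P ∧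
      (∀ i, ∀ A : Matrix (Fin m) (Fin m) F, conjR e P (slot m r i A) ∈ Env (Nf i)) ∧
      (∀ i, ∀ T ∈ Env (Nf i), ∃ A : Matrix (Fin m) (Fin m) F, T = conjR e P (slot m r i A)) := by
  have hn0 : 0 < n := by omega
  have hr : 0 < r := by have := hfam.two_le; omega
  let i₀ : Fin r := ⟨0, hr⟩
  have hirrN : Irr N := habs.1
  obtain ⟨s, k, e₁, P₁, h1, h2⟩ :=
    Cfsg.Agent.Lib.Helper20.AschLeaf.tensor_of_homog hn0
      (Cfsg.Agent.Lib.Helper28.AschLeaf.homog_of_cfam hn0 hfam hirrN i₀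
        (Cfsg.Agent.Lib.Helper15.AschLeaf.clifford hn0 hirrN (hfam.le i₀) (hfam.normN i₀)))
      (Cfsg.Agent.Lib.Helper4.AschLeaf.zcen_scalar_of_cfam hfam habs i₀)
  choose hs hsH hsc using fun i => hfam.trans i₀ i
  let U : Fin s → Fin s → Matrix (Fin n) (Fin n) F := fun a b =>
    conjR e₁ P₁ (Matrix.single a b (1 : F) ⊗ₖ (1 : Matrix (Fin k) (Fin k) F))
  let E : Fin r → Fin s → Fin s → Matrix (Fin n) (Fin n) F := fun i a b =>
    ((hs i : GL (Fin n) F) : Matrix (Fin n) (Fin n) F) * U a b *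
      (((hs i)⁻¹ : GL (Fin n) F) : Matrix (Fin n) (Fin n) F)
  have hU : IsUnits U := Cfsg.Agent.Lib.Helper28.AschLeaf.isUnits_conjR e₁ P₁
  have hEmem : ∀ i a b, E i a b ∈ Env (Nf i) := by
    intro i a b
    rw [← hsc i]
    exact Cfsg.Agent.Lib.Helper28.AschLeaf.env_cj (hs i) (Nf i₀) _ (h1 _)
  have hval : ∀ i, ((hs i : GL (Fin n) F) : Matrix (Fin n) (Fin n) F) *
      (((hs i)⁻¹ : GL (Fin n) F) : Matrix (Fin n) (Fin n) F) = 1 := by
    intro i
    rw [← Units.val_mul, mul_inv_cancel, Units.val_one]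
  have hspan : ∀ i, ∀ T ∈ Env (Nf i), ∃ A : Matrix (Fin s) (Fin s) F,
      T = ∑ a, ∑ b, A a b • E i a b := by
    intro i T hT
    rw [← hsc i] at hT
    obtain ⟨A, hA⟩ := h2 _ (Cfsg.Agent.Lib.Helper28.AschLeaf.env_cj_inv (hs i) (Nf i₀) T hT)
    refine ⟨A, ?_⟩
    have h3 : T = ((hs i : GL (Fin n) F) : Matrix (Fin n) (Fin n) F) *
        ((((hs i)⁻¹ : GL (Fin n) F) : Matrix (Fin n) (Fin n) F) * T *
          ((hs i : GL (Fin n) F) : Matrix (Fin n) (Fin n) F)) *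
        (((hs i)⁻¹ : GL (Fin n) F) : Matrix (Fin n) (Fin n) F) := by
      rw [← mul_assoc, ← mul_assoc, hval i, one_mul, mul_assoc, hval i, mul_one]
    rw [h3, hA, Cfsg.Agent.Lib.Helper28.AschLeaf.conjR_kron_eq_sum]
    simp only [E, U, Finset.mul_sum, Finset.sum_mul, Matrix.mul_smul, Matrix.smul_mul]
  have hEunits : IsCommUnits E := by
    refine ⟨fun i => Cfsg.Agent.Lib.Helper28.AschLeaf.isUnits_conj U hU (hs i), ?_⟩
    intro i j hij a b c d
    exact Cfsg.Agent.Lib.Helper28.AschLeaf.env_commute (hfam.comm i j hij) _ (hEmem i a b) _ (hEmem j c d)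
  obtain ⟨e, P, hEP⟩ := product_system hn0 E hEunits
    (Cfsg.Agent.Lib.Helper28.AschLeaf.irr_units_of_cfam hfam hirrN E hspan)
  -- Env (Nf i) = slot i
  have hslot_mem : ∀ i, ∀ A : Matrix (Fin s) (Fin s) F, conjR e P (slot s r i A) ∈ Env (Nf i) := by
    intro i A
    rw [Cfsg.Agent.Lib.Helper28.AschLeaf.slot_eq_sum, ← Finset.sum_comm]
    have : conjR e P (∑ b, ∑ a, A a b • slot s r i (Matrix.single a b (1 : F))) =
        ∑ b, ∑ a, A a b • E i a b := by
      rw [conjR_sum]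
      refine Finset.sum_congr rfl fun b _ => ?_
      rw [conjR_sum]
      refine Finset.sum_congr rfl fun a _ => ?_
      rw [conjR_smul, hEP]
    rw [this]
    refine Subalgebra.sum_mem _ fun b _ => Subalgebra.sum_mem _ fun a _ => ?_
    exact Subalgebra.smul_mem _ (hEmem i a b) _
  have hslot_of : ∀ i, ∀ T ∈ Env (Nf i), ∃ A : Matrix (Fin s) (Fin s) F,
      T = conjR e P (slot s r i A) := by
    intro i T hT
    obtain ⟨A, hA⟩ := hspan i T hT
    refine ⟨A, ?_⟩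
    rw [hA, Cfsg.Agent.Lib.Helper28.AschLeaf.slot_eq_sum, conjR_sum]
    refine Finset.sum_congr rfl fun a _ => ?_
    rw [conjR_sum]
    refine Finset.sum_congr rfl fun b _ => ?_
    rw [conjR_smul, hEP]
  -- s ≥ 2
  have hs2 : 2 ≤ s := by
    by_contra hlt
    have hs01 : s = 0 ∨ s = 1 := by omega
    rcases hs01 with h0 | h1'
    · subst h0
      have hcard := Fintype.card_congr e₁
      simp at hcard
      omega
    · subst h1'
      exact hfam.ns i₀ (Cfsg.Agent.Lib.Helper29.AschLeaf.scalar_of_tensor_one e₁ P₁ h2)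
  refine ⟨s, e, P, hs2, ?_, hslot_mem, hslot_of⟩
  intro h hh
  obtain ⟨σ, hσ⟩ := hfam.perm h hh
  apply Cfsg.Agent.Lib.Helper28.AschLeaf.mem_tensorWreath_of_perm e P h σ
    (fun g₀ hg₀ => Cfsg.Agent.Lib.Helper20.AschLeaf.mem_tensorWreathStandard_of_perm hr g₀ σ hg₀)
  intro i A
  have h4 := Cfsg.Agent.Lib.Helper28.AschLeaf.env_cj h (Nf i) _ (hslot_mem i A)
  rw [hσ i] at h4
  exact hslot_of (σ i) _ h4


end Cfsg.Agent.Lib.Helper18.OAschLeaf
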