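import Mathlib
import Cfsg.Prelude.Def_GeometricClasses
import Cfsg.Agent.Lib.Helper20.AschDefs
import Cfsg.Agent.Lib.Helper29.SpAschDefs
import Cfsg.Agent.Lib.Helper29.SpAschTools
import Cfsg.Agent.Lib.Helper18.OAschDefs
import Cfsg.Agent.Lib.Helper18.OAschG
import Cfsg.Agent.Lib.Helper18.AschA89Defs
import Cfsg.Agent.Lib.Helper18.AschA89Main
import Cfsg.Agent.Lib.Helper20.AschTS
import Cfsg.Agent.Lib.Helper20.AschA89F2J
import Cfsg.Agent.Lib.Helper27.AschKF3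
import Cfsg.Agent.Lib.Helper27.SLMN2
import Cfsg.Agent.Lib.Helper27.AschSW
import Cfsg.Agent.Lib.Helper29.AschKF2
import Cfsg.Agent.Lib.Helper29.AschS1K1
import Cfsg.Agent.Lib.Helper26.AschNL
import Cfsg.Agent.Lib.Helper9.TensSwap
import Cfsg.Agent.Lib.Helper14.AschA89G
import Cfsg.Agent.Lib.Helper4.AschA1
import Cfsg.Agent.Lib.Helper24.AschONIL
import Cfsg.Agent.Lib.Helper29.SpAschQU
import Cfsg.Agent.Lib.Helper13.ThRGD

/-!
S5673 (Aschbacher for `Ω_{2m+1}(q)`), wiring (helper18): the inputs from S5630 / S5662 / S5709 restated in `notes/S5673_leaves.lean`,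
proved by citing the landed modules.
-/

set_option autoImplicit false
set_option linter.unusedSectionVars false
set_option linter.unusedVariables false

namespace Cfsg.Agent.Lib.Helper18.OAschLeaf
open Matrix Cfsg Cfsg.Geo Cfsg.Agent.Lib.Helper20.Asch Cfsg.Agent.Lib.Helper29.SpAsch Cfsg.Agent.Lib.Helper18.OAsch
  Cfsg.Agent.Lib.Helper18.AschA89
open scoped Kronecker

variable {F : Type*} [Field F] [Fintype F] {n : ℕ} {G : Matrix (Fin n) (Fin n) F} {H N : Subgroup (GL (Fin n) F)}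

theorem zcen_isField' (hn : 0 < n) (hhom : Homog N) : IsFieldSubalgebra (Module.finrank F (ZCen N)) (ZCen N) :=
  Cfsg.Agent.Lib.Helper20.AschLeaf.zcen_isField hn hhom

theorem exists_sub' (K : Subalgebra F (Matrix (Fin n) (Fin n) F)) (d : ℕ) (hK : IsFieldSubalgebra d K)
    (r : ℕ) (hr0 : r ≠ 0) (hd0 : 0 < d) (hr : r ∣ d) :
    ∃ K' : Subalgebra F (Matrix (Fin n) (Fin n) F), IsFieldSubalgebra r K' ∧
      ∀ k : Matrix (Fin n) (Fin n) F, k ∈ K' ↔ k ∈ K ∧ k ^ (Fintype.card F ^ r) = k :=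
  Cfsg.Agent.Lib.Helper27.AschKF3.exists_sub K d hK r hr0 hd0 hr

theorem field_dvd' (hn : 1 ≤ n) {r : ℕ} {K : Subalgebra F (Matrix (Fin n) (Fin n) F)} (hK : IsFieldSubalgebra r K) :
    r ∣ n :=
  Cfsg.Agent.Lib.Helper27.SLMLeaf.field_dvd hn hK

theorem zcen_normalized' (hnorm : NormBy H N) : H ≤ subalgebraNormalizer (ZCen N) :=
  Cfsg.Agent.Lib.Helper29.AschLeaf.zcen_normalized hnorm

theorem tensorProductSubgroup_swap' {n₁ n₂ : ℕ} (e : Fin n ≃ Fin n₁ × Fin n₂) (P : GL (Fin n) F) :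
    tensorProductSubgroup n₁ n₂ e P = tensorProductSubgroup n₂ n₁ (e.trans (Equiv.prodComm (Fin n₁) (Fin n₂))) P :=
  Cfsg.Agent.Lib.Helper27.AschLeaf.tensorProductSubgroup_swap e P

theorem isTensorFormStructure_swap' {σ : F → F} {f : (Fin n → F) → (Fin n → F) → F} {n₁ n₂ : ℕ}
    {f₁ : (Fin n₁ → F) → (Fin n₁ → F) → F} {f₂ : (Fin n₂ → F) → (Fin n₂ → F) → F}
    {e : Fin n ≃ Fin n₁ × Fin n₂} {P : GL (Fin n) F} (h : IsTensorFormStructure σ f f₁ f₂ e P) :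
    IsTensorFormStructure σ f f₂ f₁ (e.trans (Equiv.prodComm (Fin n₁) (Fin n₂))) P :=
  Cfsg.Agent.Lib.Helper9.TensSwap.isTensorFormStructure_swap h

theorem ptens_smul' (m t : ℕ) (c : Fin t → F) (a : Fin t → Matrix (Fin m) (Fin m) F) :
    ptens m t (fun i => c i • a i) = (∏ i, c i) • ptens m t a :=
  Cfsg.Agent.Lib.Helper20.AschLeaf.ptens_smul m t c a

theorem ptens_one' (m t : ℕ) : ptens (F := F) m t (fun _ => 1) = 1 :=
  Cfsg.Agent.Lib.Helper20.AschLeaf.ptens_one m t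

theorem ptens_mul' (m t : ℕ) (a b : Fin t → Matrix (Fin m) (Fin m) F) :
    ptens m t a * ptens m t b = ptens m t (fun i => a i * b i) :=
  Cfsg.Agent.Lib.Helper20.AschLeaf.ptens_mul m t a b

theorem ptens_transpose' (m t : ℕ) (a : Fin t → Matrix (Fin m) (Fin m) F) :
    (ptens m t a)ᵀ = ptens m t (fun i => (a i)ᵀ) :=
  Cfsg.Agent.Lib.Helper20.AschLeaf.ptens_transpose m t a

theorem exists_minNS_le' (K : Subgroup (GL (Fin n) F)) (hK : K ≤ N) (hKn : NormBy N K)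
    (hKs : ¬ K ≤ scalars (Fin n) F) : ∃ M : Subgroup (GL (Fin n) F), M ≤ K ∧ MinNS N M :=
  Cfsg.Agent.Lib.Helper14.AschLeaf.exists_minNS_le K hK hKn hKs

theorem cfam_exists' {M : Subgroup (GL (Fin n) F)} (hnorm : NormBy H N) (hns : ¬ N ≤ scalars (Fin n) F)
    (hmin : ∀ M : Subgroup (GL (Fin n) F), M ≤ N → NormBy H M → M = N ∨ M ≤ scalars (Fin n) F)
    (hperf : ⁅N, N⁆ = N) (hM : MinNS N M) (hMN : M ≠ N) :
    ∃ (r : ℕ) (Nf : Fin r → Subgroup (GL (Fin n) F)), CFam H N r Nf :=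
  Cfsg.Agent.Lib.Helper18.AschLeaf.cfam_exists hnorm hns hmin hperf hM hMN

theorem false_of_nilpotent_odd' (hodd : Odd n) (hsq : ∀ x ∈ N, x ∈ scalars (Fin n) F → x * x = 1) (hqp : QP H)
    (hN : N ≤ H) (hnorm : NormBy H N) (hns : ¬ N ≤ scalars (Fin n) F)
    (hmin : ∀ M : Subgroup (GL (Fin n) F), M ≤ N → NormBy H M → M = N ∨ M ≤ scalars (Fin n) F)
    (hcomm : ⁅N, N⁆ ≤ scalars (Fin n) F) : False :=
  Cfsg.Agent.Lib.Helper24.AschOLeaf.false_of_nilpotent_odd hodd hsq hqp hN hnorm hns hmin hcomm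

theorem unitary_rep' (σ : F ≃+* F) (g : (Fin n → F) → (Fin n → F) → F) (hg : IsUnitaryForm σ g) :
    ∃ U : Matrix (Fin n) (Fin n) F, U.det ≠ 0 ∧
      ∀ u v : Fin n → F, g u v = u ⬝ᵥ (U *ᵥ (fun i => σ (v i))) :=
  Cfsg.Agent.Lib.Helper29.SpAschLeaf.unitary_rep σ g hg

theorem exists_fixed_subfield' (σ : F ≃+* F) (hσ : σ ≠ RingEquiv.refl F) :
    ∃ F₀ : Subfield F, F₀ ≠ ⊤ ∧ ∀ c : F, c ∈ F₀ ↔ σ c = c :=
  Cfsg.Agent.Lib.Helper29.SpAschLeaf.exists_fixed_subfield σ hσ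

theorem galois_descent' (X : Subgroup (GL (Fin n) F))
    (hcomm : ∀ M : Matrix (Fin n) (Fin n) F, (∀ s ∈ matrixSet X, M * s = s * M) →
      ∃ c : F, M = c • (1 : Matrix (Fin n) (Fin n) F))
    (φ : F ≃+* F) (C : GL (Fin n) F)
    (hC : ∀ x ∈ X, (x : Matrix (Fin n) (Fin n) F).map φ =
      ((C⁻¹ : GL (Fin n) F) : Matrix (Fin n) (Fin n) F) * (x : Matrix (Fin n) (Fin n) F) * (C : Matrix (Fin n) (Fin n) F))
    (F₀ : Subfield F) (hF₀ : ∀ c : F, c ∈ F₀ ↔ φ c = c) : RealisableOver F₀ (matrixSet X) :=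
  Cfsg.Agent.Lib.Helper13.ThR.galois_descent X hcomm φ C hC F₀ hF₀

theorem scalar_of_finrank_one' (K : Subalgebra F (Matrix (Fin n) (Fin n) F))
    (h : Module.finrank F K = 1) : ∀ T ∈ K, ∃ c : F, T = c • (1 : Matrix (Fin n) (Fin n) F) :=
  Cfsg.Agent.Lib.Helper29.AschLeaf.scalar_of_finrank_one K h

theorem tensor_of_homog' {X : Subgroup (GL (Fin n) F)} (hn : 0 < n) (hhom : Homog X)
    (hZ : ∀ T ∈ ZCen X, ∃ c : F, T = c • (1 : Matrix (Fin n) (Fin n) F)) :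
    ∃ (s k : ℕ) (e : Fin n ≃ Fin s × Fin k) (P : GL (Fin n) F),
      (∀ A : Matrix (Fin s) (Fin s) F, conjR e P (A ⊗ₖ (1 : Matrix (Fin k) (Fin k) F)) ∈ Env X) ∧
      (∀ T ∈ Env X, ∃ A : Matrix (Fin s) (Fin s) F,
        T = conjR e P (A ⊗ₖ (1 : Matrix (Fin k) (Fin k) F))) :=
  Cfsg.Agent.Lib.Helper20.AschLeaf.tensor_of_homog hn hhom hZ

theorem normalizer_le_tensor' {s k : ℕ} (e : Fin n ≃ Fin s × Fin k) (P g : GL (Fin n) F)
    (hg : ∀ A : Matrix (Fin s) (Fin s) F, ∃ A' : Matrix (Fin s) (Fin s) F,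
      (g : Matrix (Fin n) (Fin n) F) * conjR e P (A ⊗ₖ (1 : Matrix (Fin k) (Fin k) F)) *
        ((g⁻¹ : GL (Fin n) F) : Matrix (Fin n) (Fin n) F) =
          conjR e P (A' ⊗ₖ (1 : Matrix (Fin k) (Fin k) F))) :
    g ∈ tensorProductSubgroup s k e P :=
  Cfsg.Agent.Lib.Helper26.AschLeaf.normalizer_le_tensor e P g hg

theorem env_conj' (hnorm : NormBy H N) (h : GL (Fin n) F) (hh : h ∈ H)
    (T : Matrix (Fin n) (Fin n) F) (hT : T ∈ Env N) :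
    (h : Matrix (Fin n) (Fin n) F) * T * ((h⁻¹ : GL (Fin n) F) : Matrix (Fin n) (Fin n) F) ∈ Env N :=
  Cfsg.Agent.Lib.Helper29.AschLeaf.env_conj hnorm h hh T hT

theorem scalar_of_tensor_one' {k : ℕ} (e : Fin n ≃ Fin 1 × Fin k) (P : GL (Fin n) F)
    {X : Subgroup (GL (Fin n) F)}
    (h2 : ∀ T ∈ Env X, ∃ A : Matrix (Fin 1) (Fin 1) F,
      T = conjR e P (A ⊗ₖ (1 : Matrix (Fin k) (Fin k) F))) : X ≤ scalars (Fin n) F :=
  Cfsg.Agent.Lib.Helper29.AschLeaf.scalar_of_tensor_one e P h2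

theorem absIrr_of_tensor_one' {s : ℕ} (e : Fin n ≃ Fin s × Fin 1) (P : GL (Fin n) F)
    {X : Subgroup (GL (Fin n) F)}
    (h1 : ∀ A : Matrix (Fin s) (Fin s) F, conjR e P (A ⊗ₖ (1 : Matrix (Fin 1) (Fin 1) F)) ∈ Env X) :
    AbsIrr X :=
  Cfsg.Agent.Lib.Helper29.AschLeaf.absIrr_of_tensor_one e P h1

theorem exists_min_normal' (hn : 2 ≤ n) (hirr : Irr H) :
    ∃ N : Subgroup (GL (Fin n) F), N ≤ H ∧ NormBy H N ∧ ¬ N ≤ scalars (Fin n) F ∧
      ∀ M : Subgroup (GL (Fin n) F), M ≤ N → NormBy H M → M = N ∨ M ≤ scalars (Fin n) F :=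
  Cfsg.Agent.Lib.Helper4.AschLeaf.exists_min_normal hn hirr

theorem normBy_commutator' (hnorm : NormBy H N) : NormBy H ⁅N, N⁆ :=
  Cfsg.Agent.Lib.Helper4.AschLeaf.normBy_commutator hnorm

theorem scalar_of_centralizes_mod' (habs : AbsIrr N) (hperf : ⁅N, N⁆ = N) (h : GL (Fin n) F)
    (hc : ∀ x ∈ N, h * x * h⁻¹ * x⁻¹ ∈ scalars (Fin n) F) : h ∈ scalars (Fin n) F :=
  Cfsg.Agent.Lib.Helper4.AschLeaf.scalar_of_centralizes_mod habs hperf h hc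

end Cfsg.Agent.Lib.Helper18.OAschLeaf
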