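import Mathlib
import Cfsg.Prelude.Def_GeometricClasses
import Cfsg.Agent.Lib.Helper20.AschDefs
import Cfsg.Agent.Lib.Helper29.SpAschDefs
import Cfsg.Agent.Lib.Helper29.SpAschTools
import Cfsg.Agent.Lib.Helper18.OAschDefs
import Cfsg.Agent.Lib.Helper18.OAschG
import Cfsg.Agent.Lib.Helper18.ReidxDefs
import Cfsg.Agent.Lib.Helper18.AschA89Defs
import Cfsg.Agent.Lib.Helper27.AschTW2
import Cfsg.Agent.Lib.Helper20.FCMain
import Cfsg.Agent.Lib.Helper18.OAschCfam
import Cfsg.Agent.Lib.Helper18.OAschTR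
import Cfsg.Agent.Lib.Helper18.OAschWire
import Cfsg.Agent.Lib.Helper12.OAschWC
import Cfsg.Agent.Lib.Helper13.DSCCore
import Cfsg.Agent.Lib.Helper13.OAschOB
import Cfsg.Agent.Lib.Helper13.OAschPRF
import Cfsg.Agent.Lib.Helper13.OAschPRF2
import Cfsg.Agent.Lib.Helper17.OAschDQ
import Cfsg.Agent.Lib.Helper17.OAschK1
import Cfsg.Agent.Lib.Helper17.OAschRED
import Cfsg.Agent.Lib.Helper19.OAschT2
import Cfsg.Agent.Lib.Helper24.OAschB33
import Cfsg.Agent.Lib.Helper25.OAschTNSa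
import Cfsg.Agent.Lib.Helper25.OAschTNSb
import Cfsg.Agent.Lib.Helper7.OAschFLD

/-!
S5673 = Aschbacher's theorem for the odd-dimensional orthogonal groups `Ω_{2m+1}(q)`, `q` odd, `m ≥ 3` (planner helper18).
EXACT-SIGNATURE LEAVES (sorried) + the compiling assemblies down to the frozen statement.  Paper proof: `notes/S5673_plan.md`.

Vocabulary: `Cfsg.Agent.Lib.Helper18.OAschDefs` (InOClass, GeoO + constructors `GeoO.of_*`, OCtx), `Cfsg.Agent.Lib.Helper18.OAschG`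
(qf, perpG, radG, OG), helper29's `bfm`, `isoG`, `adjM` (`Cfsg.Agent.Lib.Helper29.SpAschDefs`), helper20's `AschDefs` (Irr, AbsIrr, QP,
NormBy, Cen, Env, ZCen, Homog, conjR), `Helper18.AschA89Defs` (slot, ptens, fperm, CFam), `Helper27.AschTW2.pairEquiv`,
`Helper18.ReidxDefs` (transport along `e : ι ≃ κ`).

The generic theorem `mainG` lives on `Fin n` for a symmetric invertible Gram matrix `G` (`OG G`: `n ≥ 3` odd, `|F|` odd, `det G` in the
prime field modulo squares) and holds for EVERY subgroup `H ≤ isoG G`.  RULES of the market: `TAKE O-<name>`; land the leaf with the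
EXACT statement in `Cfsg/Agent/Lib/<You>/OAsch<Name>.lean`, namespace `Cfsg.Agent.Lib.<You>.OAschLeaf`, check
`example : @Cfsg.Agent.Lib.Helper18.OAschLeaves.<name> = @<yours> := rfl` under this header, `#print axioms`, forbidden-text scan; post
`DONE O-<name> <module>`.  Leaves of one packet may import the landed leaves of other packets.
-/

set_option autoImplicit false
set_option linter.unusedSectionVars false
set_option linter.unusedVariables false

namespace Cfsg.Agent.Lib.Helper18.OAschMain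
open Matrix Cfsg Cfsg.Geo Cfsg.Agent.Lib.Helper20.Asch Cfsg.Agent.Lib.Helper29.SpAsch Cfsg.Agent.Lib.Helper18.OAsch
  Cfsg.Agent.Lib.Helper18.Reidx Cfsg.Agent.Lib.Helper18.AschA89 Cfsg.Agent.Lib.Helper27.AschLeaf
open scoped Kronecker

variable {F : Type*} [Field F] [Fintype F] {n : ℕ} {G : Matrix (Fin n) (Fin n) F} {H N : Subgroup (GL (Fin n) F)}

/-! ## Packet OB: basics of `bfm`, `qf`, `isoG`, `adjM` (all small).
ALREADY ON MAIN for an arbitrary invertible Gram matrix (`Cfsg.Agent.Lib.Helper29.SpAschTools`, ns `Cfsg.Agent.Lib.Helper29.SpAsch`, `hd : J.det ≠ 0`):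
`bfm_adjM hd T u v : bfm J (T u) v = bfm J u (adjM J T v)`, `adjM_mul hd`, `adjM_add`, `adjM_smul`, `adjM_one hd`, `adjM_sub`, `adjM_of_mem hd`
(`adjM J g = g⁻¹` for `g ∈ isoG J`), `mem_isoG_iff`, `bfm_mulVec`, `bfm_injective`, `bfm_entry`, `adjM_mem_Cen hd`, `adjM_mem_Env hd`,
`isSelfAdjointFor_iff hd`; `Helper27.AschO4`: `bf_symm`, `bf_nondeg`, `bf_congr`, `quad_of_symm` (`bfm = bf` by `rfl`). -/

section basics
variable {κ : Type} [Fintype κ] [DecidableEq κ]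

/-- OB1 -/
theorem two_ne_zero_of_odd (h : Odd (Fintype.card F)) : (2 : F) ≠ 0 :=
  Cfsg.Agent.Lib.Helper13.OAschLeaf.two_ne_zero_of_odd h

/-- OB2 -/
theorem bfm_symm {G : Matrix κ κ F} (hs : Gᵀ = G) (u v : κ → F) : bfm G u v = bfm G v u :=
  Cfsg.Agent.Lib.Helper13.OAschLeaf.bfm_symm hs u v

/-- OB3 -/
theorem gramMatrix_bfm (G : Matrix κ κ F) : gramMatrix (bfm G) = G :=
  Cfsg.Agent.Lib.Helper13.OAschLeaf.gramMatrix_bfm G

/-- OB4 -/
theorem isSymmetricForm_bfm {G : Matrix κ κ F} (hs : Gᵀ = G) (hd : G.det ≠ 0) : IsSymmetricForm (bfm G) :=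
  Cfsg.Agent.Lib.Helper13.OAschLeaf.isSymmetricForm_bfm hs hd

/-- OB5: `polar (qf G) u v = qf G (u + v) - qf G u - qf G v = bfm G u v` (symmetry and `2 ≠ 0`) -/
theorem polar_qf {G : Matrix κ κ F} (h2 : (2 : F) ≠ 0) (hs : Gᵀ = G) : QuadraticMap.polar (qf G) = bfm G :=
  Cfsg.Agent.Lib.Helper13.OAschLeaf.polar_qf h2 hs

/-- OB7: in odd characteristic the isometries of `qf G` are the isometries of its polar form -/
theorem isometryGroup_qf {G : Matrix κ κ F} (h2 : (2 : F) ≠ 0) (hs : Gᵀ = G) : isometryGroup F (qf G) = isoG G :=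
  Cfsg.Agent.Lib.Helper13.OAschLeaf.isometryGroup_qf h2 hs

/-- OB8: `Q = qf G` for `G = gramMatrix (polar Q)` (`Q v = 2⁻¹ * polar Q v v` from `Q (2 • v) = 4 * Q v`; bilinearity gives
`polar Q u v = u ⬝ᵥ G *ᵥ v`; `det G ≠ 0` from non-degeneracy) -/
theorem og_of_octx {Q : (Fin n → F) → F} (hc : OCtx Q) : ∃ G : Matrix (Fin n) (Fin n) F, OG G ∧ Q = qf G :=
  Cfsg.Agent.Lib.Helper13.OAschLeaf.og_of_octx hc

/-- OB10 -/
theorem adjM_adjM {G : Matrix κ κ F} (hs : Gᵀ = G) (hd : G.det ≠ 0) (T : Matrix κ κ F) : adjM G (adjM G T) = T :=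
  Cfsg.Agent.Lib.Helper13.OAschLeaf.adjM_adjM hs hd T

/-- OB16: `qf G` is a non-degenerate quadratic form (`Helper27.AschLeaf.quad_of_symm` up to the factor `2⁻¹`) -/
theorem isNondegenerateQuadraticForm_qf {G : Matrix κ κ F} (h2 : (2 : F) ≠ 0) (hs : Gᵀ = G) (hd : G.det ≠ 0) :
    IsNondegenerateQuadraticForm (qf G) :=
  Cfsg.Agent.Lib.Helper13.OAschLeaf.isNondegenerateQuadraticForm_qf h2 hs hd

/-- OB15: Gram matrix of `bfm G` in the coordinates `x ↦ P (x ∘ e)` -/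
theorem bfm_reindex {κ' : Type} [Fintype κ'] [DecidableEq κ'] (G P : Matrix κ κ F) (e : κ ≃ κ') (x y : κ' → F) :
    bfm G (P *ᵥ (x ∘ e)) (P *ᵥ (y ∘ e)) = bfm (Matrix.reindex e e (Pᵀ * G * P)) x y :=
  Cfsg.Agent.Lib.Helper13.OAschLeaf.bfm_reindex G P e x y

end basics

/-! ## Block RED (the reducible case) -/

/-- RED1: the radical of an invariant subspace is invariant (`bfm G u (g v) = bfm G (g⁻¹ u) v`) -/
theorem radG_inv (hI : H ≤ isoG G) {W : Submodule F (Fin n → F)}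
    (hW : ∀ g ∈ H, ∀ v ∈ W, (g : Matrix (Fin n) (Fin n) F) *ᵥ v ∈ W) :
    ∀ g ∈ H, ∀ v ∈ radG G W, (g : Matrix (Fin n) (Fin n) F) *ᵥ v ∈ radG G W :=
  Cfsg.Agent.Lib.Helper17.OAschLeaf.radG_inv hI hW

/-- RED2 -/
theorem isNondegenerateOn_of_radG (hs : Gᵀ = G) {W : Submodule F (Fin n → F)} (h : radG G W = ⊥) :
    IsNondegenerateOn (bfm G) W :=
  Cfsg.Agent.Lib.Helper17.OAschLeaf.isNondegenerateOn_of_radG hs h

/-- RED3: `H ≤ subspaceStabilizer W` from invariance (as `Helper4.AschLeaf.le_subspaceStabilizer_of_inv`, vector form) -/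
theorem le_subspaceStabilizer_of_inv' {W : Submodule F (Fin n → F)}
    (hW : ∀ g ∈ H, ∀ v ∈ W, (g : Matrix (Fin n) (Fin n) F) *ᵥ v ∈ W) : H ≤ subspaceStabilizer W :=
  Cfsg.Agent.Lib.Helper17.OAschLeaf.le_subspaceStabilizer_of_inv' hW

/-- (RED) a reducible subgroup of the isometry group stabilises a totally singular or a non-degenerate proper subspace:
`W` invariant, `W ≠ ⊥, ⊤`; `radG G W ≠ ⊥` is invariant and totally singular (`qf G w = 2⁻¹ * bfm G w w = 0`); `radG G W = ⊥`: `W` is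
non-degenerate. -/
theorem geoG_of_not_irr (hg : OG G) (hI : H ≤ isoG G) (h : ¬ Irr H) : GeoO (qf G) H := by
  have h2 := two_ne_zero_of_odd hg.oddq
  have hI' : H ≤ isometryGroup F (qf G) := by rw [isometryGroup_qf h2 hg.symm]; exact hI
  unfold Irr ActsIrreducibly at h
  push Not at h
  obtain ⟨W, hW, h0, h1⟩ := h
  have hWv : ∀ g ∈ H, ∀ v ∈ W, (g : Matrix (Fin n) (Fin n) F) *ᵥ v ∈ W := by
    intro g hg' v hv
    apply hW _ ⟨g, hg', rfl⟩
    exact ⟨v, hv, by rw [Matrix.toLin'_apply]⟩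
  by_cases hr : radG G W = ⊥
  · refine GeoO.of_nd hI' W h0 h1 ?_ (le_subspaceStabilizer_of_inv' hWv)
    rw [polar_qf h2 hg.symm]
    exact isNondegenerateOn_of_radG hg.symm hr
  · refine GeoO.of_ts hI' (radG G W) hr ?_ (le_subspaceStabilizer_of_inv' (radG_inv hI hWv))
    intro w hw
    unfold qf
    rw [(mem_radG.mp hw).2 w (mem_radG.mp hw).1, mul_zero]

/-! ## Block CLF (Clifford with the form; exits C2 and, for a frame over a non-prime field, C5) -/

/-- (CLF-core) = helper20's generic FORM-CLIFFORD block (CLOSED, `Cfsg.Agent.Lib.Helper20.FCMain`), odd-dimensional orthogonal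
instance: a transitive orthogonal decomposition into pairwise isometric non-degenerate subspaces (the totally singular pair does not
occur in odd dimension) -/
theorem clf_orth (hg : OG G) (hI : H ≤ isoG G) (hirr : Irr H) (hN : N ≤ H) (hnorm : NormBy H N) (hnh : ¬ Homog N) :
    ∃ (t k : ℕ) (D : Fin t → Submodule F (Fin n → F)), IsOrthogonalMDecomposition (qf G) k D ∧
      H ≤ decompositionStabilizer D := by
  have h2 := two_ne_zero_of_odd hg.oddq
  have hI' : H ≤ isometryGroup F (qf G) := by rw [isometryGroup_qf h2 hg.symm]; exact hI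
  have hfix : FixesQuadForm (matrixSet H) (qf G) := by
    rintro _ ⟨h, hh, rfl⟩ v
    exact hI' hh v v
  exact (Cfsg.Agent.Lib.Helper20.FCLeaf.fc_orthogonal_odd_main
    (isNondegenerateQuadraticForm_qf h2 hg.symm hg.det) hg.oddn hirr hN hnorm hfix).resolve_left hnh

/-- K1a: an orthogonal frame of pairwise isometric non-degenerate lines has spanning vectors of one and the same norm `a ≠ 0`
(`v i :=` the image of a spanning vector `v₀` of `D i₀` under the isometry `D i₀ ≃ D i`; `a = bfm G v₀ v₀ ≠ 0` as `D i₀` is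
non-degenerate). -/
theorem frame_vectors (hg : OG G) {t : ℕ} (D : Fin t → Submodule F (Fin n → F))
    (hD : IsOrthogonalMDecomposition (qf G) 1 D) :
    ∃ (v : Fin t → (Fin n → F)) (a : F), a ≠ 0 ∧ (∀ i, D i = Submodule.span F {v i}) ∧
      (∀ i, bfm G (v i) (v i) = a) ∧ (∀ i j, i ≠ j → bfm G (v i) (v j) = 0) :=
  Cfsg.Agent.Lib.Helper17.OAschLeaf.frame_vectors hg D hD

/-- K1b: an isometry permuting the lines `F v i` (all `v i` of the same non-zero norm) maps each `v i` to `± v (σ i)` -/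
theorem frame_action (hI : H ≤ isoG G) {t : ℕ} (D : Fin t → Submodule F (Fin n → F)) (v : Fin t → (Fin n → F)) (a : F)
    (ha : a ≠ 0) (hv : ∀ i, D i = Submodule.span F {v i}) (hva : ∀ i, bfm G (v i) (v i) = a)
    (hH : H ≤ decompositionStabilizer D) :
    ∀ h ∈ H, ∃ (σ : Equiv.Perm (Fin t)) (ε : Fin t → F), (∀ i, ε i = 1 ∨ ε i = -1) ∧
      ∀ i, (h : Matrix (Fin n) (Fin n) F) *ᵥ v i = ε i • v (σ i) :=
  Cfsg.Agent.Lib.Helper17.OAschLeaf.frame_action hI D v a ha hv hva hH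

/-- K1c: the spanning vectors of a decomposition into lines are the columns of an invertible matrix -/
theorem frame_matrix {t : ℕ} (D : Fin t → Submodule F (Fin n → F)) (hD : IsMDecomposition 1 D)
    (v : Fin t → (Fin n → F)) (hv : ∀ i, D i = Submodule.span F {v i}) :
    ∃ (e : Fin t ≃ Fin n) (P : GL (Fin n) F), ∀ i, (P : Matrix (Fin n) (Fin n) F) *ᵥ Pi.single (e i) 1 = v i :=
  Cfsg.Agent.Lib.Helper17.OAschLeaf.frame_matrix D hD v hv

/-- K1d: in an orthogonal basis of vectors of norm `a` the form is `a` times the standard dot product -/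
theorem frame_form_rational {t : ℕ} (v : Fin t → (Fin n → F)) (a : F) (ha : a ≠ 0)
    (hva : ∀ i, bfm G (v i) (v i) = a) (hvo : ∀ i j, i ≠ j → bfm G (v i) (v j) = 0)
    (e : Fin t ≃ Fin n) (P : GL (Fin n) F) (hP : ∀ i, (P : Matrix (Fin n) (Fin n) F) *ᵥ Pi.single (e i) 1 = v i)
    (F₀ : Subfield F) : IsFormRationalStructure (bfm G) F₀ a⁻¹ P :=
  Cfsg.Agent.Lib.Helper17.OAschLeaf.frame_form_rational v a ha hva hvo e P hP F₀

/-- K1e: a matrix acting as a signed permutation on the columns of `P` is `P S P⁻¹` with `S` a signed permutation matrix, which has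
its entries in every subfield -/
theorem frame_le_subfield {t : ℕ} (v : Fin t → (Fin n → F))
    (e : Fin t ≃ Fin n) (P : GL (Fin n) F) (hP : ∀ i, (P : Matrix (Fin n) (Fin n) F) *ᵥ Pi.single (e i) 1 = v i)
    (hact : ∀ h ∈ H, ∃ (σ : Equiv.Perm (Fin t)) (ε : Fin t → F), (∀ i, ε i = 1 ∨ ε i = -1) ∧
      ∀ i, (h : Matrix (Fin n) (Fin n) F) *ᵥ v i = ε i • v (σ i))
    (F₀ : Subfield F) : H ≤ subfieldSubgroup F₀ P :=
  Cfsg.Agent.Lib.Helper17.OAschLeaf.frame_le_subfield v e P hP hact F₀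

/-- (K1) a group of isometries stabilising an orthogonal frame of isometric lines is, over ANY subfield `F₀`, a group of
`F₀`-rational matrices in a basis in which the form is a multiple of an `F₀`-rational form -/
theorem frame_rational (hg : OG G) (hI : H ≤ isoG G) {t : ℕ} (D : Fin t → Submodule F (Fin n → F))
    (hD : IsOrthogonalMDecomposition (qf G) 1 D) (hH : H ≤ decompositionStabilizer D) (F₀ : Subfield F) :
    ∃ (P : GL (Fin n) F) (ζ : F), ζ ≠ 0 ∧ IsFormRationalStructure (bfm G) F₀ ζ P ∧ H ≤ subfieldSubgroup F₀ P := by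
  obtain ⟨v, a, ha, hv, hva, hvo⟩ := frame_vectors hg D hD
  obtain ⟨e, P, hP⟩ := frame_matrix D hD.decomp.decomp v hv
  exact ⟨P, a⁻¹, inv_ne_zero ha, frame_form_rational v a ha hva hvo e P hP F₀,
    frame_le_subfield v e P hP (frame_action hI D v a ha hv hva hH) F₀⟩

/-- (DQ) FROM A RATIONAL MULTIPLE OF THE FORM TO THE RATIONAL QUADRATIC FORM (this is where `n` odd and the discriminant enter):
`Y := ζ • Pᵀ G P` has its entries in `F₀` and `det Y = ζ^n (det P)² det G ≠ 0`; with `c₀ det G = s²` (`hg.disc`, `c₀` in the prime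
field) `ζ μ² = c₀ det Y =: y ∈ F₀`, `μ := ζ^((n-1)/2) s det P`; then `P' := μ⁻¹ • P` works: `qf G (P' u) = 2⁻¹ y⁻¹ (ζ bfm G (P u) (P u))`;
and `subfieldSubgroup F₀ (μ⁻¹ • P) = subfieldSubgroup F₀ P` (conjugation by a scalar is trivial). -/
theorem quad_of_form_rational (hg : OG G) (F₀ : Subfield F) (ζ : F) (hζ : ζ ≠ 0) (P : GL (Fin n) F)
    (hrat : IsFormRationalStructure (bfm G) F₀ ζ P) :
    ∃ P' : GL (Fin n) F, subfieldSubgroup F₀ P' = subfieldSubgroup F₀ P ∧ IsQuadFormRationalStructure (qf G) F₀ P' :=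
  Cfsg.Agent.Lib.Helper17.OAschLeaf.quad_of_form_rational hg F₀ ζ hζ P hrat

/-- MS: a finite field which is not a prime field has a subfield of prime index (`Helper4.AschLeaf.exists_max_subfield ⊥`) -/
theorem exists_prime_index_subfield (hnp : ¬ (Fintype.card F).Prime) :
    ∃ (F₀ : Subfield F) (r : ℕ), r.Prime ∧ Fintype.card F = Nat.card F₀ ^ r :=
  Cfsg.Agent.Lib.Helper17.OAschLeaf.exists_prime_index_subfield hnp

/-- an orthogonal frame over a non-prime field: the subfield class -/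
theorem geoG_of_frame (hg : OG G) (hI : H ≤ isoG G) {t : ℕ} (D : Fin t → Submodule F (Fin n → F))
    (hD : IsOrthogonalMDecomposition (qf G) 1 D) (hH : H ≤ decompositionStabilizer D)
    (hnp : ¬ (Fintype.card F).Prime) : GeoO (qf G) H := by
  have h2 := two_ne_zero_of_odd hg.oddq
  have hI' : H ≤ isometryGroup F (qf G) := by rw [isometryGroup_qf h2 hg.symm]; exact hI
  obtain ⟨F₀, r, hr, hcard⟩ := exists_prime_index_subfield hnp
  obtain ⟨P, ζ, hζ, hrat, hHP⟩ := frame_rational hg hI D hD hH F₀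
  obtain ⟨P', hP', hq⟩ := quad_of_form_rational hg F₀ ζ hζ P hrat
  exact GeoO.of_subfield hI' F₀ r P' hr hcard hq (hP' ▸ hHP)

/-- (CLF) the inhomogeneous case -/
theorem geoG_of_inhomog (hg : OG G) (hI : H ≤ isoG G) (hirr : Irr H) (hN : N ≤ H) (hnorm : NormBy H N)
    (hnh : ¬ Homog N) : GeoO (qf G) H := by
  have h2 := two_ne_zero_of_odd hg.oddq
  have hI' : H ≤ isometryGroup F (qf G) := by rw [isometryGroup_qf h2 hg.symm]; exact hI
  obtain ⟨t, k, D, hOD, hH⟩ := clf_orth hg hI hirr hN hnorm hnh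
  rcases Nat.lt_or_ge 1 k with hk | hk
  · exact GeoO.of_dec hI' D hk hOD hH
  · have hk1 : k = 1 := by
      have := hOD.decomp.decomp.pos
      omega
    subst hk1
    by_cases hp : (Fintype.card F).Prime
    · exact GeoO.of_frame hI' D hp hOD hH
    · exact geoG_of_frame hg hI D hOD hH hp

/-! ## Block FLD (the field case: `N` homogeneous, `K = ZCen N ≠ F`) -/

/-- FLD1: the centre of the centraliser algebra of a group of isometries is closed under adjoints (`adjM G x = x⁻¹` for `x ∈ N`, so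
`Cen N` is `adjM`-closed; `adjM G` is an involutive anti-automorphism, so the centre of `Cen N` is `adjM`-closed).  Only
`G.det ≠ 0` and `Gᵀ = ± G` are needed; stated for symmetric `G`. -/
theorem zcen_adj (hs : Gᵀ = G) (hd : G.det ≠ 0) (hNI : N ≤ isoG G) {T : Matrix (Fin n) (Fin n) F} (hT : T ∈ ZCen N) :
    adjM G T ∈ ZCen N :=
  Cfsg.Agent.Lib.Helper7.OAschLeaf.zcen_adj hs hd hNI hT

/-- FLD2: on an `adjM`-closed field subalgebra of ODD degree the adjoint is trivial: `K = S ⊕ A` (`S`: `adjM G T = T`, `A`: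
`adjM G T = -T`, `T = 2⁻¹ (T + T*) + 2⁻¹ (T - T*)`); `adjM G` is multiplicative on the commutative `K`; if `a ∈ A`, `a ≠ 0`, then
`s ↦ a s` is a linear bijection `S → A`, so `d = 2 dim S` is even. -/
theorem selfadj_of_odd (hs : Gᵀ = G) (hd : G.det ≠ 0) (h2 : (2 : F) ≠ 0) (K : Subalgebra F (Matrix (Fin n) (Fin n) F))
    (d : ℕ) (hK : IsFieldSubalgebra d K) (hodd : Odd d) (hadj : ∀ T ∈ K, adjM G T ∈ K) :
    ∀ T ∈ K, adjM G T = T :=
  Cfsg.Agent.Lib.Helper7.OAschLeaf.selfadj_of_odd hs hd h2 K d hK hodd hadj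

/-- FLD3: a matrix commuting with a field subalgebra of FULL degree `n` lies in it (`F^n` is one-dimensional over `K`: `|K v| = q^n`
for `v ≠ 0`; if `T v = k v` then `T (k' v) = k' T v = k (k' v)`) -/
theorem mem_of_commute_full_field (hn : 0 < n) (K : Subalgebra F (Matrix (Fin n) (Fin n) F)) (hK : IsFieldSubalgebra n K)
    (T : Matrix (Fin n) (Fin n) F) (hT : ∀ S ∈ K, T * S = S * T) : T ∈ K :=
  Cfsg.Agent.Lib.Helper7.OAschLeaf.mem_of_commute_full_field hn K hK T hT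

/-- FLD4: a self-adjoint isometry in a field subalgebra is `± 1` (`x x = x (adjM G x) = x x⁻¹ = 1`, and `(x - 1) (x + 1) = 0` in the
field `K`) -/
theorem pm_one_of_selfadj_isom (hd : G.det ≠ 0) (K : Subalgebra F (Matrix (Fin n) (Fin n) F)) {d : ℕ}
    (hK : IsFieldSubalgebra d K) (hsa : ∀ T ∈ K, adjM G T = T) {x : GL (Fin n) F} (hx : x ∈ isoG G)
    (hxK : (x : Matrix (Fin n) (Fin n) F) ∈ K) : x ∈ scalars (Fin n) F :=
  Cfsg.Agent.Lib.Helper7.OAschLeaf.pm_one_of_selfadj_isom hd K hK hsa hx hxK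

/-- FLD5 (KF3 of S5630, extracted from `Helper27.AschLeaf.geo_of_field`): the subfield cut out of `K` by `k ^ (q ^ r) = k` is
normalised by the normaliser of `K` -/
theorem normalizer_sub (K K' : Subalgebra F (Matrix (Fin n) (Fin n) F)) (r : ℕ)
    (hmem : ∀ k : Matrix (Fin n) (Fin n) F, k ∈ K' ↔ k ∈ K ∧ k ^ (Fintype.card F ^ r) = k)
    (hH : H ≤ subalgebraNormalizer K) : H ≤ subalgebraNormalizer K' :=
  Cfsg.Agent.Lib.Helper7.OAschLeaf.normalizer_sub K K' r hmem hH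

/-- FLD6 -/
theorem isSelfAdjointFor_of_adj (hd : G.det ≠ 0) (K : Subalgebra F (Matrix (Fin n) (Fin n) F))
    (h : ∀ T ∈ K, adjM G T = T) : IsSelfAdjointFor (bfm G) K :=
  Cfsg.Agent.Lib.Helper7.OAschLeaf.isSelfAdjointFor_of_adj hd K h

/-- inputs from S5630 (restated; `Helper20.AschLeaf.zcen_isField`, `Helper27.AschKF3.exists_sub`, `Helper27.SLMN2.field_dvd`,
`Helper29.AschLeaf.zcen_normalized`) -/
theorem zcen_isField' (hn : 0 < n) (hhom : Homog N) : IsFieldSubalgebra (Module.finrank F (ZCen N)) (ZCen N) :=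
  Cfsg.Agent.Lib.Helper18.OAschLeaf.zcen_isField' hn hhom
theorem exists_sub' (K : Subalgebra F (Matrix (Fin n) (Fin n) F)) (d : ℕ) (hK : IsFieldSubalgebra d K)
    (r : ℕ) (hr0 : r ≠ 0) (hd0 : 0 < d) (hr : r ∣ d) :
    ∃ K' : Subalgebra F (Matrix (Fin n) (Fin n) F), IsFieldSubalgebra r K' ∧
      ∀ k : Matrix (Fin n) (Fin n) F, k ∈ K' ↔ k ∈ K ∧ k ^ (Fintype.card F ^ r) = k :=
  Cfsg.Agent.Lib.Helper18.OAschLeaf.exists_sub' K d hK r hr0 hd0 hr
theorem field_dvd' (hn : 1 ≤ n) {r : ℕ} {K : Subalgebra F (Matrix (Fin n) (Fin n) F)} (hK : IsFieldSubalgebra r K) :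
    r ∣ n :=
  Cfsg.Agent.Lib.Helper18.OAschLeaf.field_dvd' hn hK
theorem zcen_normalized' (hnorm : NormBy H N) : H ≤ subalgebraNormalizer (ZCen N) :=
  Cfsg.Agent.Lib.Helper18.OAschLeaf.zcen_normalized' hnorm

/-- (FLD) the field case: the self-adjoint subfield of prime degree `r` of `ZCen N`; `r = n` would make `N` scalar -/
theorem geoG_of_field (hg : OG G) (hI : H ≤ isoG G) (hN : N ≤ H) (hnorm : NormBy H N)
    (hns : ¬ N ≤ scalars (Fin n) F) (hhom : Homog N) (h1 : Module.finrank F (ZCen N) ≠ 1) : GeoO (qf G) H := by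
  have h2 := two_ne_zero_of_odd hg.oddq
  have hI' : H ≤ isometryGroup F (qf G) := by rw [isometryGroup_qf h2 hg.symm]; exact hI
  have hn0 : 0 < n := by have := hg.three; omega
  have hfield := zcen_isField' (N := N) hn0 hhom
  set d := Module.finrank F (ZCen N) with hd
  have hdn : d ∣ n := field_dvd' hn0 hfield
  have hdodd : Odd d := by
    obtain ⟨c, hc⟩ := hdn
    have := hg.oddn
    rw [hc] at this
    exact (Nat.odd_mul.mp this).1
  have hd0 : 0 < d := hdodd.pos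
  obtain ⟨r, hr, hrd⟩ := Nat.exists_prime_and_dvd h1
  obtain ⟨K', hK', hmem⟩ := exists_sub' (ZCen N) d hfield r hr.ne_zero hd0 hrd
  have hsaK : ∀ T ∈ ZCen N, adjM G T = T :=
    selfadj_of_odd hg.symm hg.det h2 (ZCen N) d hfield hdodd (fun T hT => zcen_adj hg.symm hg.det (hN.trans hI) hT)
  have hsaK' : ∀ T ∈ K', adjM G T = T := fun T hT => hsaK T ((hmem T).mp hT).1
  have hnormK' : H ≤ subalgebraNormalizer K' := normalizer_sub (ZCen N) K' r hmem (zcen_normalized' hnorm)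
  have hrn : n ≠ r := by
    rintro rfl
    apply hns
    intro x hx
    apply pm_one_of_selfadj_isom hg.det K' hK' hsaK' (hI (hN hx))
    apply mem_of_commute_full_field hn0 K' hK'
    intro S hS
    have hS' : S ∈ ZCen N := ((hmem S).mp hS).1
    exact (mem_Cen.mp (mem_ZCen.mp hS').1 x hx)
  refine GeoO.of_field hI' r K' hr ?_ hK' ?_ hnormK'
  · simpa using hrn
  · rw [polar_qf h2 hg.symm]
    exact isSelfAdjointFor_of_adj hg.det K' hsaK'

/-! ## Block WRF (from a tensor power structure of the form to C7, or to an orthogonal frame when `(q, k) = (3, 3)`) -/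

/-- B33a: over `F_3` a non-degenerate symmetric form in dimension `3` has an orthogonal basis of vectors of one norm `c ≠ 0`
(`exists_congr_of_disc` with `M₂ = G₁`, `M₁ = c • 1`, `c = det G₁`: `det (c • 1) det G₁ = c⁴`) -/
theorem b33_basis (h3 : Fintype.card F = 3) (G₁ : Matrix (Fin 3) (Fin 3) F) (hs : G₁ᵀ = G₁) (hd : G₁.det ≠ 0) :
    ∃ (b : GL (Fin 3) F) (c : F), c ≠ 0 ∧ (b : Matrix (Fin 3) (Fin 3) F)ᵀ * G₁ * (b : Matrix (Fin 3) (Fin 3) F) = c • 1 :=
  Cfsg.Agent.Lib.Helper24.OAschLeaf.b33_basis h3 G₁ hs hd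

/-- B33b: over `F_3` a similitude of the dot product on `F^3` is a monomial matrix: `aᵀ a = μ • 1` gives `(det a)² = μ³ = μ`, so
`μ = 1` (`μ = ± 1`, and `-1` is not a square in `F_3`); each column `v` has `v ⬝ᵥ v = 1`, so exactly one non-zero entry
(`x² ∈ {0, 1}` and `1 + 1 ≠ 1`, `1 + 1 + 1 ≠ 1`). -/
theorem b33_monomial (h3 : Fintype.card F = 3) (a : Matrix (Fin 3) (Fin 3) F) (μ : F) (hμ : μ ≠ 0)
    (ha : aᵀ * a = μ • 1) : ∃ (σ : Equiv.Perm (Fin 3)) (ε : Fin 3 → F), (∀ j, ε j ≠ 0) ∧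
      a = Matrix.of fun i j => if i = σ j then ε j else 0 :=
  Cfsg.Agent.Lib.Helper24.OAschLeaf.b33_monomial h3 a μ hμ ha

/-- B33c: a pure tensor of monomial matrices is monomial (on `Fin t → Fin k`), and so is a factor permutation; hence every
element of `tensorWreathStandard k t F` all of whose tensor factors are monomial permutes the coordinate lines.  Stated directly:
an element `g` of the standard wreath group such that `gᵀ (c • ptens (fun _ => c₁ • 1)) g = c • ptens (fun _ => c₁ • 1)` over `F_3`,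
`k = 3`, permutes the coordinate lines `F (Pi.single x 1)`. -/
theorem b33_wreath_monomial (h3 : Fintype.card F = 3) {t : ℕ} (g : GL (Fin t → Fin 3) F)
    (hg : g ∈ tensorWreathStandard 3 t F)
    (hiso : (g : Matrix (Fin t → Fin 3) (Fin t → Fin 3) F)ᵀ * (g : Matrix (Fin t → Fin 3) (Fin t → Fin 3) F) = 1) :
    ∃ (π : Equiv.Perm (Fin t → Fin 3)) (ε : (Fin t → Fin 3) → F), (∀ x, ε x ≠ 0) ∧
      ∀ x, (g : Matrix (Fin t → Fin 3) (Fin t → Fin 3) F) *ᵥ Pi.single x 1 = ε x • Pi.single (π x) 1 :=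
  Cfsg.Agent.Lib.Helper24.OAschLeaf.b33_wreath_monomial h3 g hg hiso

/-- WC (shared by B33 and PRF): change of basis inside the tensor factors: `P' := P * glReindex e.symm ⟨ptens bs⟩` has the same
wreath subgroup (the pure tensor `ptens bs` lies in `tensorWreathStandard`), and Gram matrices transform by `ptens bs`
(`Helper20.AschLeaf.ptens_mul`, `ptens_transpose`) -/
theorem wreath_change_basis {k t : ℕ} (e : Fin n ≃ (Fin t → Fin k)) (P : GL (Fin n) F) (bs : Fin t → GL (Fin k) F) :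
    ∃ P' : GL (Fin n) F, tensorWreathSubgroup k t e P' = tensorWreathSubgroup k t e P ∧
      ∀ M : Matrix (Fin n) (Fin n) F,
        Matrix.reindex e e ((P' : Matrix (Fin n) (Fin n) F)ᵀ * M * (P' : Matrix (Fin n) (Fin n) F)) =
          (ptens k t fun i => ((bs i : GL (Fin k) F) : Matrix (Fin k) (Fin k) F))ᵀ *
            Matrix.reindex e e ((P : Matrix (Fin n) (Fin n) F)ᵀ * M * (P : Matrix (Fin n) (Fin n) F)) *
            ptens k t fun i => ((bs i : GL (Fin k) F) : Matrix (Fin k) (Fin k) F) :=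
  Cfsg.Agent.Lib.Helper12.OAschLeaf.wreath_change_basis e P bs

/-- GTP: the Gram matrix of a tensor power structure (`bfm_reindex`, then compare entries) -/
theorem gram_of_tensorPower {k t : ℕ} (e : Fin n ≃ (Fin t → Fin k)) (P : GL (Fin n) F)
    (f₁ : (Fin k → F) → (Fin k → F) → F) (hT : IsTensorPowerFormStructure id (bfm G) f₁ e P) :
    ∃ c : F, c ≠ 0 ∧ Matrix.reindex e e ((P : Matrix (Fin n) (Fin n) F)ᵀ * G * (P : Matrix (Fin n) (Fin n) F)) =
      c • ptens k t fun _ => gramMatrix f₁ :=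
  Cfsg.Agent.Lib.Helper12.OAschLeaf.gram_of_tensorPower e P f₁ hT

/-- GS: the Gram matrix of a non-degenerate symmetric form is symmetric and invertible -/
theorem gram_of_symmetricForm {k : ℕ} (f₁ : (Fin k → F) → (Fin k → F) → F) (hf₁ : IsSymmetricForm f₁) :
    (gramMatrix f₁)ᵀ = gramMatrix f₁ ∧ (gramMatrix f₁).det ≠ 0 :=
  Cfsg.Agent.Lib.Helper12.OAschLeaf.gram_of_symmetricForm f₁ hf₁

/-- B33e: if the Gram matrix in the basis of the columns of `P'` is a non-zero scalar then the lines spanned by the columns form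
an orthogonal frame of pairwise isometric non-degenerate lines -/
theorem frame_of_scalar_gram (hg : OG G) (P' : GL (Fin n) F) (c' : F) (hc' : c' ≠ 0)
    (h : (P' : Matrix (Fin n) (Fin n) F)ᵀ * G * (P' : Matrix (Fin n) (Fin n) F) = c' • 1) :
    IsOrthogonalMDecomposition (qf G) 1
      (fun j : Fin n => Submodule.span F {(P' : Matrix (Fin n) (Fin n) F) *ᵥ Pi.single j (1 : F)}) :=
  Cfsg.Agent.Lib.Helper24.OAschLeaf.frame_of_scalar_gram hg P' c' hc' h

/-- B33f: over `F_3`, `k = 3`: isometries in the wreath subgroup permute the lines spanned by the columns of `P'` when the Gram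
matrix in these coordinates is scalar (`h = P' (reindexed g) P'⁻¹`, `gᵀ g = 1`, B33c) -/
theorem wreath33_le_stabilizer (h3 : Fintype.card F = 3) {t : ℕ} (e : Fin n ≃ (Fin t → Fin 3)) (P' : GL (Fin n) F)
    (c' : F) (hc' : c' ≠ 0)
    (h : (P' : Matrix (Fin n) (Fin n) F)ᵀ * G * (P' : Matrix (Fin n) (Fin n) F) = c' • 1)
    (hI : H ≤ isoG G) (hH : H ≤ tensorWreathSubgroup 3 t e P') :
    H ≤ decompositionStabilizer
      (fun j : Fin n => Submodule.span F {(P' : Matrix (Fin n) (Fin n) F) *ᵥ Pi.single j (1 : F)}) :=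
  Cfsg.Agent.Lib.Helper24.OAschLeaf.wreath33_le_stabilizer h3 e P' c' hc' h hI hH

/-- B33g: `reindex e e M = c • 1 ↔ M = c • 1` -/
theorem reindex_eq_smul_one {κ : Type} [Fintype κ] [DecidableEq κ] (e : Fin n ≃ κ) (M : Matrix (Fin n) (Fin n) F) (c : F)
    (h : Matrix.reindex e e M = c • (1 : Matrix κ κ F)) : M = c • (1 : Matrix (Fin n) (Fin n) F) :=
  Cfsg.Agent.Lib.Helper24.OAschLeaf.reindex_eq_smul_one e M c h

/-- inputs from S5630 A89 (restated; `Helper20.AschLeaf.ptens_smul`, `ptens_one`, `ptens_mul`, `ptens_transpose`) -/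
theorem ptens_smul' (m t : ℕ) (c : Fin t → F) (a : Fin t → Matrix (Fin m) (Fin m) F) :
    ptens m t (fun i => c i • a i) = (∏ i, c i) • ptens m t a :=
  Cfsg.Agent.Lib.Helper18.OAschLeaf.ptens_smul' m t c a
theorem ptens_one' (m t : ℕ) : ptens (F := F) m t (fun _ => 1) = 1 :=
  Cfsg.Agent.Lib.Helper18.OAschLeaf.ptens_one' m t
theorem ptens_mul' (m t : ℕ) (a b : Fin t → Matrix (Fin m) (Fin m) F) :
    ptens m t a * ptens m t b = ptens m t (fun i => a i * b i) :=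
  Cfsg.Agent.Lib.Helper18.OAschLeaf.ptens_mul' m t a b
theorem ptens_transpose' (m t : ℕ) (a : Fin t → Matrix (Fin m) (Fin m) F) :
    (ptens m t a)ᵀ = ptens m t (fun i => (a i)ᵀ) :=
  Cfsg.Agent.Lib.Helper18.OAschLeaf.ptens_transpose' m t a

/-- (B33) the exceptional case `(q, k) = (3, 3)` of the tensor power class: an orthogonal frame (class C2, `|F| = 3` is prime) -/
theorem geoG_of_wreath33 (hg : OG G) (hI : H ≤ isoG G) (h3 : Fintype.card F = 3) (t : ℕ)
    (e : Fin n ≃ (Fin t → Fin 3)) (P : GL (Fin n) F) (f₁ : (Fin 3 → F) → (Fin 3 → F) → F) (ht : 2 ≤ t)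
    (hf₁ : IsSymmetricForm f₁) (hT : IsTensorPowerFormStructure id (bfm G) f₁ e P)
    (hH : H ≤ tensorWreathSubgroup 3 t e P) :
    ∃ (t' : ℕ) (D : Fin t' → Submodule F (Fin n → F)), IsOrthogonalMDecomposition (qf G) 1 D ∧
      H ≤ decompositionStabilizer D := by
  obtain ⟨c, hc, hGram⟩ := gram_of_tensorPower e P f₁ hT
  obtain ⟨hs₁, hd₁⟩ := gram_of_symmetricForm f₁ hf₁
  obtain ⟨b, c₁, hc₁, hb⟩ := b33_basis h3 _ hs₁ hd₁
  obtain ⟨P', hP', hM⟩ := wreath_change_basis e P (fun _ => b)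
  have hG' : Matrix.reindex e e ((P' : Matrix (Fin n) (Fin n) F)ᵀ * G * (P' : Matrix (Fin n) (Fin n) F)) =
      (c * c₁ ^ t) • (1 : Matrix (Fin t → Fin 3) (Fin t → Fin 3) F) := by
    rw [hM, hGram, ptens_transpose', Matrix.mul_smul, Matrix.smul_mul, ptens_mul', ptens_mul']
    simp only [hb]
    rw [ptens_smul', ptens_one', smul_smul]
    simp
  have hcc : c * c₁ ^ t ≠ 0 := mul_ne_zero hc (pow_ne_zero _ hc₁)
  have hG'' := reindex_eq_smul_one e _ _ hG'
  refine ⟨n, _, frame_of_scalar_gram hg P' _ hcc hG'', ?_⟩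
  rw [← hP'] at hH
  exact wreath33_le_stabilizer h3 e P' _ hcc hG'' hI hH

/-- (WRF) a tensor power structure of the form, `k ≥ 3`, `t ≥ 2`: class C7, or C2 when `(q, k) = (3, 3)` -/
theorem geoG_of_wreath (hg : OG G) (hI : H ≤ isoG G) (k t : ℕ) (e : Fin n ≃ (Fin t → Fin k)) (P : GL (Fin n) F)
    (f₁ : (Fin k → F) → (Fin k → F) → F) (hk : 3 ≤ k) (ht : 2 ≤ t) (hf₁ : IsSymmetricForm f₁)
    (hT : IsTensorPowerFormStructure id (bfm G) f₁ e P) (hH : H ≤ tensorWreathSubgroup k t e P) :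
    GeoO (qf G) H := by
  have h2 := two_ne_zero_of_odd hg.oddq
  have hI' : H ≤ isometryGroup F (qf G) := by rw [isometryGroup_qf h2 hg.symm]; exact hI
  by_cases h33 : Fintype.card F = 3 ∧ k = 3
  · obtain ⟨h3, rfl⟩ := h33
    obtain ⟨t', D, hD, hHD⟩ := geoG_of_wreath33 hg hI h3 t e P f₁ ht hf₁ hT hH
    exact GeoO.of_frame hI' D (by rw [h3]; norm_num) hD hHD
  · refine GeoO.of_wreath hI' k t e P f₁ hk ht h33 hf₁ ?_ hH
    rw [polar_qf h2 hg.symm]
    exact hT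

/-! ## Block TNS (the tensor case: `N` homogeneous, `ZCen N = F`, `Env N = conjR e P (M_s ⊗ 1)`, `s, k ≥ 2`) -/

/-- (TNS-core) INTERFACE to the generic tensor-with-form block (sub-planner helper15; provable directly): `Env N` is `adjM`-closed
(`adjM G x = x⁻¹`), so `G' := reindex e e (Pᵀ G P)` satisfies: for every `A` there is `A'` with `G'⁻¹ (A ⊗ 1)ᵀ G' = A' ⊗ 1`, i.e.
`G'⁻¹` normalises `M_s ⊗ 1`: `Helper26.AschLeaf.kron_of_normalizes` gives `G'⁻¹ = a ⊗ b`, `G' = a⁻¹ ⊗ b⁻¹`. -/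
theorem gram_kron (hd : G.det ≠ 0) (hNI : N ≤ isoG G) {s k : ℕ} (hs : 0 < s) (hk : 0 < k) (e : Fin n ≃ Fin s × Fin k)
    (P : GL (Fin n) F)
    (h1 : ∀ A : Matrix (Fin s) (Fin s) F, conjR e P (A ⊗ₖ (1 : Matrix (Fin k) (Fin k) F)) ∈ Env N)
    (h2 : ∀ T ∈ Env N, ∃ A : Matrix (Fin s) (Fin s) F, T = conjR e P (A ⊗ₖ (1 : Matrix (Fin k) (Fin k) F))) :
    ∃ (G₁ : Matrix (Fin s) (Fin s) F) (G₂ : Matrix (Fin k) (Fin k) F),
      Matrix.reindex e e ((P : Matrix (Fin n) (Fin n) F)ᵀ * G * (P : Matrix (Fin n) (Fin n) F)) = G₁ ⊗ₖ G₂ :=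
  Cfsg.Agent.Lib.Helper25.OAschLeaf.gram_kron hd hNI hs hk e P h1 h2

/-- TNS2: the factors of a symmetric invertible Kronecker product with factors of odd size are symmetric and invertible
(`G₁ᵀ ⊗ G₂ᵀ = G₁ ⊗ G₂` gives `G₁ᵀ = μ G₁`, `G₂ᵀ = μ⁻¹ G₂`, `μ² = 1`; `μ = -1` would give `det G₁ = (-1)^s det G₁ = 0`) -/
theorem kron_symm_odd (h2 : (2 : F) ≠ 0) {s k : ℕ} (hs : Odd s) (hk : Odd k) (G₁ : Matrix (Fin s) (Fin s) F)
    (G₂ : Matrix (Fin k) (Fin k) F) (hsym : (G₁ ⊗ₖ G₂)ᵀ = G₁ ⊗ₖ G₂) (hdet : (G₁ ⊗ₖ G₂).det ≠ 0) :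
    G₁ᵀ = G₁ ∧ G₂ᵀ = G₂ ∧ G₁.det ≠ 0 ∧ G₂.det ≠ 0 :=
  Cfsg.Agent.Lib.Helper25.OAschLeaf.kron_symm_odd h2 hs hk G₁ G₂ hsym hdet

/-- TNS3 -/
theorem tensorForm_of_gram {s k : ℕ} (e : Fin n ≃ Fin s × Fin k) (P : GL (Fin n) F) (G₁ : Matrix (Fin s) (Fin s) F)
    (G₂ : Matrix (Fin k) (Fin k) F) (c : F) (hc : c ≠ 0)
    (h : Matrix.reindex e e ((P : Matrix (Fin n) (Fin n) F)ᵀ * G * (P : Matrix (Fin n) (Fin n) F)) = c • (G₁ ⊗ₖ G₂)) :
    IsTensorFormStructure id (bfm G) (bfm G₁) (bfm G₂) e P :=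
  Cfsg.Agent.Lib.Helper25.OAschLeaf.tensorForm_of_gram e P G₁ G₂ c hc h

/-- TNS4: two non-degenerate symmetric forms of the same ODD dimension are similar (`Helper25.GraphInv3.exists_congr_of_disc` with
`M₁ = G₂`, `M₂ = c • G₁`, `c = det G₁ * det G₂`: `det G₂ * det (c • G₁) = c^(s+1)` is a square) -/
theorem exists_similar_odd (h2 : (2 : F) ≠ 0) {s : ℕ} (hs : Odd s) (G₁ G₂ : Matrix (Fin s) (Fin s) F)
    (hs₁ : G₁ᵀ = G₁) (hs₂ : G₂ᵀ = G₂) (hd₁ : G₁.det ≠ 0) (hd₂ : G₂.det ≠ 0) :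
    ∃ (c : F) (b : GL (Fin s) F), c ≠ 0 ∧
      G₂ = c • ((b : Matrix (Fin s) (Fin s) F)ᵀ * G₁ * (b : Matrix (Fin s) (Fin s) F)) :=
  Cfsg.Agent.Lib.Helper25.OAschLeaf.exists_similar_odd h2 hs G₁ G₂ hs₁ hs₂ hd₁ hd₂

/-- TNS5: change of basis inside the second factor: `P' := P * glReindex e.symm (1 ⊗ b⁻¹)` (same tensor product subgroup) -/
theorem tensor_equalise {s : ℕ} (e : Fin n ≃ Fin s × Fin s) (P : GL (Fin n) F) (G₁ : Matrix (Fin s) (Fin s) F)
    (b : GL (Fin s) F) (c : F)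
    (h : Matrix.reindex e e ((P : Matrix (Fin n) (Fin n) F)ᵀ * G * (P : Matrix (Fin n) (Fin n) F)) =
      G₁ ⊗ₖ (c • ((b : Matrix (Fin s) (Fin s) F)ᵀ * G₁ * (b : Matrix (Fin s) (Fin s) F)))) :
    ∃ P' : GL (Fin n) F, tensorProductSubgroup s s e P' = tensorProductSubgroup s s e P ∧
      Matrix.reindex e e ((P' : Matrix (Fin n) (Fin n) F)ᵀ * G * (P' : Matrix (Fin n) (Fin n) F)) = c • (G₁ ⊗ₖ G₁) :=
  Cfsg.Agent.Lib.Helper25.OAschLeaf.tensor_equalise e P G₁ b c h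

/-- TNS6 (TW2 of S5630 with the explicit bijection) -/
theorem tp_le_wreath_pair {s : ℕ} (e : Fin n ≃ Fin s × Fin s) (P : GL (Fin n) F) :
    tensorProductSubgroup s s e P ≤ tensorWreathSubgroup s 2 (e.trans (pairEquiv s)) P :=
  Cfsg.Agent.Lib.Helper25.OAschLeaf.tp_le_wreath_pair e P

/-- TNS7: a tensor square is a tensor power with `t = 2` -/
theorem tensorPower_of_tensorForm {s : ℕ} (e : Fin n ≃ Fin s × Fin s) (P : GL (Fin n) F)
    (f : (Fin n → F) → (Fin n → F) → F) (f₁ : (Fin s → F) → (Fin s → F) → F)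
    (h : IsTensorFormStructure id f f₁ f₁ e P) : IsTensorPowerFormStructure id f f₁ (e.trans (pairEquiv s)) P :=
  Cfsg.Agent.Lib.Helper25.OAschLeaf.tensorPower_of_tensorForm e P f f₁ h

/-- inputs from S5630 / S5709 (restated): `Helper9.TensSwap` -/
theorem tensorProductSubgroup_swap' {n₁ n₂ : ℕ} (e : Fin n ≃ Fin n₁ × Fin n₂) (P : GL (Fin n) F) :
    tensorProductSubgroup n₁ n₂ e P = tensorProductSubgroup n₂ n₁ (e.trans (Equiv.prodComm (Fin n₁) (Fin n₂))) P :=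
  Cfsg.Agent.Lib.Helper18.OAschLeaf.tensorProductSubgroup_swap' e P
theorem isTensorFormStructure_swap' {σ : F → F} {f : (Fin n → F) → (Fin n → F) → F} {n₁ n₂ : ℕ}
    {f₁ : (Fin n₁ → F) → (Fin n₁ → F) → F} {f₂ : (Fin n₂ → F) → (Fin n₂ → F) → F}
    {e : Fin n ≃ Fin n₁ × Fin n₂} {P : GL (Fin n) F} (h : IsTensorFormStructure σ f f₁ f₂ e P) :
    IsTensorFormStructure σ f f₂ f₁ (e.trans (Equiv.prodComm (Fin n₁) (Fin n₂))) P :=
  Cfsg.Agent.Lib.Helper18.OAschLeaf.isTensorFormStructure_swap' h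

/-- TNS8: the Gram matrix in new coordinates is symmetric and invertible -/
theorem gram_reindex_symm_det (hs : Gᵀ = G) (hd : G.det ≠ 0) {κ : Type} [Fintype κ] [DecidableEq κ] (e : Fin n ≃ κ)
    (P : GL (Fin n) F) :
    (Matrix.reindex e e ((P : Matrix (Fin n) (Fin n) F)ᵀ * G * (P : Matrix (Fin n) (Fin n) F)))ᵀ =
      Matrix.reindex e e ((P : Matrix (Fin n) (Fin n) F)ᵀ * G * (P : Matrix (Fin n) (Fin n) F)) ∧
    (Matrix.reindex e e ((P : Matrix (Fin n) (Fin n) F)ᵀ * G * (P : Matrix (Fin n) (Fin n) F))).det ≠ 0 :=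
  Cfsg.Agent.Lib.Helper25.OAschLeaf.gram_reindex_symm_det hs hd e P

/-- (TNS) the tensor case -/
theorem geoG_of_tensor (hg : OG G) (hI : H ≤ isoG G) (hN : N ≤ H) {s k : ℕ} (hs : 2 ≤ s) (hk : 2 ≤ k)
    (e : Fin n ≃ Fin s × Fin k) (P : GL (Fin n) F)
    (h1 : ∀ A : Matrix (Fin s) (Fin s) F, conjR e P (A ⊗ₖ (1 : Matrix (Fin k) (Fin k) F)) ∈ Env N)
    (h2 : ∀ T ∈ Env N, ∃ A : Matrix (Fin s) (Fin s) F, T = conjR e P (A ⊗ₖ (1 : Matrix (Fin k) (Fin k) F)))
    (hH : H ≤ tensorProductSubgroup s k e P) : GeoO (qf G) H := by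
  have h2' := two_ne_zero_of_odd hg.oddq
  have hI' : H ≤ isometryGroup F (qf G) := by rw [isometryGroup_qf h2' hg.symm]; exact hI
  have hcard : n = s * k := by
    have := Fintype.card_congr e
    simpa using this
  have hodd := hg.oddn
  rw [hcard] at hodd
  obtain ⟨hsodd, hkodd⟩ := Nat.odd_mul.mp hodd
  have hs3 : 3 ≤ s := by
    obtain ⟨a, ha⟩ := hsodd
    omega
  have hk3 : 3 ≤ k := by
    obtain ⟨a, ha⟩ := hkodd
    omega
  obtain ⟨G₁, G₂, hG⟩ := gram_kron hg.det (hN.trans hI) (by omega) (by omega) e P h1 h2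
  obtain ⟨hsym, hdet⟩ := gram_reindex_symm_det hg.symm hg.det e P
  rw [hG] at hsym hdet
  obtain ⟨hs₁, hs₂, hd₁, hd₂⟩ := kron_symm_odd h2' hsodd hkodd G₁ G₂ hsym hdet
  have hten : IsTensorFormStructure id (bfm G) (bfm G₁) (bfm G₂) e P :=
    tensorForm_of_gram e P G₁ G₂ 1 one_ne_zero (by rw [hG, one_smul])
  rcases Nat.lt_trichotomy s k with hlt | heq | hgt
  · refine GeoO.of_tensor hI' s k e P (bfm G₁) (bfm G₂) hs3 hlt (isSymmetricForm_bfm hs₁ hd₁)
      (isSymmetricForm_bfm hs₂ hd₂) ?_ hH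
    rw [polar_qf h2' hg.symm]
    exact hten
  · subst heq
    obtain ⟨c, b, hc, hb⟩ := exists_similar_odd h2' hsodd G₁ G₂ hs₁ hs₂ hd₁ hd₂
    rw [hb] at hG
    obtain ⟨P', hP', hG'⟩ := tensor_equalise e P G₁ b c hG
    have hten' : IsTensorFormStructure id (bfm G) (bfm G₁) (bfm G₁) e P' := tensorForm_of_gram e P' G₁ G₁ c hc hG'
    refine geoG_of_wreath hg hI s 2 (e.trans (pairEquiv s)) P' (bfm G₁) hs3 le_rfl (isSymmetricForm_bfm hs₁ hd₁)
      (tensorPower_of_tensorForm e P' _ _ hten') ?_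
    rw [← hP'] at hH
    exact hH.trans (tp_le_wreath_pair e P')
  · rw [tensorProductSubgroup_swap'] at hH
    refine GeoO.of_tensor hI' k s _ P (bfm G₂) (bfm G₁) hk3 hgt (isSymmetricForm_bfm hs₂ hd₂)
      (isSymmetricForm_bfm hs₁ hd₁) ?_ hH
    rw [polar_qf h2' hg.symm]
    exact isTensorFormStructure_swap' hten

/-! ## Block NIL (the nilpotent case does not occur) -/

/-- NIL1: a scalar isometry of a non-zero bilinear form has square `1` (`Helper13.SpNILLeaf.sq_eq_one_of_scalar_isoG` with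
`G.det ≠ 0` in place of `IsAltGram`) -/
theorem sq_eq_one_of_scalar_isoG' (hd : G.det ≠ 0) {x : GL (Fin n) F} (hx : x ∈ isoG G)
    (hs : x ∈ scalars (Fin n) F) : x * x = 1 :=
  Cfsg.Agent.Lib.Helper13.OAschLeaf.sq_eq_one_of_scalar_isoG' hd hx hs

/-- input (helper24, `Cfsg.Agent.Lib.Helper24.AschONIL`, CLOSED; restated): the nilpotent case does not occur in odd dimension for a
group whose scalars have square `1` (`N` would be an `r`-group with `|N| = n² |Z(N)|`, `Z(N) = N ∩ scalars` of order `≤ 2`, `r ∣ n` odd) -/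
theorem false_of_nilpotent_odd' (hodd : Odd n) (hsq : ∀ x ∈ N, x ∈ scalars (Fin n) F → x * x = 1) (hqp : QP H)
    (hN : N ≤ H) (hnorm : NormBy H N) (hns : ¬ N ≤ scalars (Fin n) F)
    (hmin : ∀ M : Subgroup (GL (Fin n) F), M ≤ N → NormBy H M → M = N ∨ M ≤ scalars (Fin n) F)
    (hcomm : ⁅N, N⁆ ≤ scalars (Fin n) F) : False :=
  Cfsg.Agent.Lib.Helper18.OAschLeaf.false_of_nilpotent_odd' hodd hsq hqp hN hnorm hns hmin hcomm

/-- (NIL) the nilpotent case does not occur -/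
theorem not_nilpotent (hg : OG G) (hI : H ≤ isoG G) (hirr : Irr H) (hqp : QP H) (hN : N ≤ H)
    (hnorm : NormBy H N) (hns : ¬ N ≤ scalars (Fin n) F)
    (hmin : ∀ M : Subgroup (GL (Fin n) F), M ≤ N → NormBy H M → M = N ∨ M ≤ scalars (Fin n) F)
    (hcomm : ⁅N, N⁆ ≤ scalars (Fin n) F) : False :=
  false_of_nilpotent_odd' hg.oddn (fun x hx hs => sq_eq_one_of_scalar_isoG' hg.det (hI (hN hx)) hs)
    hqp hN hnorm hns hmin hcomm

/-! ## Block PRF (the perfect case: tensor power of the form, or `N` simple modulo scalars) -/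

/-- PRF0: `Helper18.AschLeaf.wreath_of_cfam` with the description of the enveloping algebras of the factors exposed (same proof;
`hslot_mem`, `hslot_of` there) -/
theorem wreath_of_cfam' (hn : 3 ≤ n) {r : ℕ} {Nf : Fin r → Subgroup (GL (Fin n) F)}
    (hfam : CFam H N r Nf) (habs : AbsIrr N) :
    ∃ (m : ℕ) (e : Fin n ≃ (Fin r → Fin m)) (P : GL (Fin n) F), 2 ≤ m ∧ H ≤ tensorWreathSubgroup m r e P ∧
      (∀ i, ∀ A : Matrix (Fin m) (Fin m) F, conjR e P (slot m r i A) ∈ Env (Nf i)) ∧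
      (∀ i, ∀ T ∈ Env (Nf i), ∃ A : Matrix (Fin m) (Fin m) F, T = conjR e P (slot m r i A)) :=
  Cfsg.Agent.Lib.Helper18.OAschLeaf.wreath_of_cfam' hn hfam habs

/-- (PRF-core) INTERFACE to the generic tensor-power-with-form block (sub-planner helper15; provable directly): each `Env (Nf i)` is
`adjM`-closed, so `G'⁻¹` (`G' := reindex e e (Pᵀ G P)`) normalises every slot algebra (`(slot i A)ᵀ = slot i Aᵀ`);
`Helper20.AschLeaf.wr_pure_of_normalizes` gives `G'⁻¹ = c • ptens gs`, so `G' = c⁻¹ • ptens (gs⁻¹)`. -/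
theorem gram_ptens (hd : G.det ≠ 0) {m r : ℕ} (hm : 0 < m) (Nf : Fin r → Subgroup (GL (Fin n) F))
    (hNI : ∀ i, Nf i ≤ isoG G) (e : Fin n ≃ (Fin r → Fin m)) (P : GL (Fin n) F)
    (h1 : ∀ i, ∀ A : Matrix (Fin m) (Fin m) F, conjR e P (slot m r i A) ∈ Env (Nf i))
    (h2 : ∀ i, ∀ T ∈ Env (Nf i), ∃ A : Matrix (Fin m) (Fin m) F, T = conjR e P (slot m r i A)) :
    ∃ (c : F) (gs : Fin r → Matrix (Fin m) (Fin m) F), c ≠ 0 ∧
      Matrix.reindex e e ((P : Matrix (Fin n) (Fin n) F)ᵀ * G * (P : Matrix (Fin n) (Fin n) F)) = c • ptens m r gs :=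
  Cfsg.Agent.Lib.Helper13.OAschLeaf.gram_ptens hd hm Nf hNI e P h1 h2

/-- PRF2: the factors of a symmetric invertible pure tensor with factors of odd size are symmetric and invertible
(`(gs i)ᵀ = μ_i • gs i`, `μ_i² = 1`, and `μ_i = -1` would give `det (gs i) = 0`) -/
theorem ptens_symm_odd (h2 : (2 : F) ≠ 0) {m r : ℕ} (hm : Odd m) (c : F) (hc : c ≠ 0)
    (gs : Fin r → Matrix (Fin m) (Fin m) F) (hsym : (c • ptens m r gs)ᵀ = c • ptens m r gs)
    (hdet : (c • ptens m r gs).det ≠ 0) : ∀ i, (gs i)ᵀ = gs i ∧ (gs i).det ≠ 0 :=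
  Cfsg.Agent.Lib.Helper13.OAschLeaf.ptens_symm_odd h2 hm c hc gs hsym hdet

/-- PRF3: all factors can be made equal (TNS4 `exists_similar_odd` for each `i` against `gs i₀`, then WC `wreath_change_basis` with
`bs i = (b i)⁻¹`) -/
theorem ptens_equalise (h2 : (2 : F) ≠ 0) {m r : ℕ} (hr : 0 < r) (hm : Odd m) (e : Fin n ≃ (Fin r → Fin m))
    (P : GL (Fin n) F) (c : F) (hc : c ≠ 0) (gs : Fin r → Matrix (Fin m) (Fin m) F)
    (hgs : ∀ i, (gs i)ᵀ = gs i ∧ (gs i).det ≠ 0)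
    (h : Matrix.reindex e e ((P : Matrix (Fin n) (Fin n) F)ᵀ * G * (P : Matrix (Fin n) (Fin n) F)) = c • ptens m r gs) :
    ∃ (P' : GL (Fin n) F) (c' : F) (G₁ : Matrix (Fin m) (Fin m) F), c' ≠ 0 ∧ G₁ᵀ = G₁ ∧ G₁.det ≠ 0 ∧
      tensorWreathSubgroup m r e P' = tensorWreathSubgroup m r e P ∧
      Matrix.reindex e e ((P' : Matrix (Fin n) (Fin n) F)ᵀ * G * (P' : Matrix (Fin n) (Fin n) F)) =
        c' • ptens m r fun _ => G₁ :=
  Cfsg.Agent.Lib.Helper13.OAschLeaf.ptens_equalise_core h2 hr hm e P (wreath_change_basis e P) c hc gs hgs h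

/-- PRF4 -/
theorem tensorPower_of_gram {m r : ℕ} (e : Fin n ≃ (Fin r → Fin m)) (P : GL (Fin n) F) (c : F) (hc : c ≠ 0)
    (G₁ : Matrix (Fin m) (Fin m) F)
    (h : Matrix.reindex e e ((P : Matrix (Fin n) (Fin n) F)ᵀ * G * (P : Matrix (Fin n) (Fin n) F)) =
      c • ptens m r fun _ => G₁) :
    IsTensorPowerFormStructure id (bfm G) (bfm G₁) e P :=
  Cfsg.Agent.Lib.Helper13.OAschLeaf.tensorPower_of_gram e P c hc G₁ h

/-- PRF5: `Helper14.AschLeaf.simple_of_core` with an arbitrary proposition in place of `Geo H` (same proof) -/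
theorem simple_of_core' {p : Prop} (hns : ¬ N ≤ scalars (Fin n) F)
    (hcore : ∀ K : Subgroup (GL (Fin n) F), K ≤ N → NormBy N K → ¬ K ≤ scalars (Fin n) F → K ≠ N → p) :
    p ∨ IsSimpleGroup (N ⧸ (scalars (Fin n) F).subgroupOf N) :=
  Cfsg.Agent.Lib.Helper13.OAschLeaf.simple_of_core' hns hcore

/-- inputs from S5630 A89 (restated; `Helper14.AschLeaf.exists_minNS_le`, `Helper18.AschLeaf.cfam_exists`) -/
theorem exists_minNS_le' (K : Subgroup (GL (Fin n) F)) (hK : K ≤ N) (hKn : NormBy N K)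
    (hKs : ¬ K ≤ scalars (Fin n) F) : ∃ M : Subgroup (GL (Fin n) F), M ≤ K ∧ MinNS N M :=
  Cfsg.Agent.Lib.Helper18.OAschLeaf.exists_minNS_le' K hK hKn hKs
theorem cfam_exists' {M : Subgroup (GL (Fin n) F)} (hnorm : NormBy H N) (hns : ¬ N ≤ scalars (Fin n) F)
    (hmin : ∀ M : Subgroup (GL (Fin n) F), M ≤ N → NormBy H M → M = N ∨ M ≤ scalars (Fin n) F)
    (hperf : ⁅N, N⁆ = N) (hM : MinNS N M) (hMN : M ≠ N) :
    ∃ (r : ℕ) (Nf : Fin r → Subgroup (GL (Fin n) F)), CFam H N r Nf :=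
  Cfsg.Agent.Lib.Helper18.OAschLeaf.cfam_exists' hnorm hns hmin hperf hM hMN

/-- the core of the perfect case -/
theorem coreG (hg : OG G) (hI : H ≤ isoG G) (hqp : QP H) (hN : N ≤ H) (hnorm : NormBy H N)
    (hns : ¬ N ≤ scalars (Fin n) F)
    (hmin : ∀ M : Subgroup (GL (Fin n) F), M ≤ N → NormBy H M → M = N ∨ M ≤ scalars (Fin n) F)
    (hperf : ⁅N, N⁆ = N) (K : Subgroup (GL (Fin n) F)) (hK : K ≤ N) (hKn : NormBy N K)
    (hKs : ¬ K ≤ scalars (Fin n) F) (hKN : K ≠ N) : GeoO (qf G) H := by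
  have h2 := two_ne_zero_of_odd hg.oddq
  obtain ⟨M, hMK, hM⟩ := exists_minNS_le' K hK hKn hKs
  have hMN : M ≠ N := by
    rintro rfl
    exact hKN (le_antisymm hK hMK)
  obtain ⟨r, Nf, hfam⟩ := cfam_exists' hnorm hns hmin hperf hM hMN
  have habs : AbsIrr N := (hqp N hN hnorm).resolve_left hns
  obtain ⟨m, e, P, hm, hH, h1, h2'⟩ := wreath_of_cfam' hg.three hfam habs
  have hcard : n = m ^ r := by
    have := Fintype.card_congr e
    simpa using this
  have hmodd : Odd m := by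
    have h := hg.oddn
    rw [hcard] at h
    have hr : r ≠ 0 := by have := hfam.two_le; omega
    exact (Nat.odd_pow_iff hr).mp h
  have hm3 : 3 ≤ m := by
    obtain ⟨a, ha⟩ := hmodd
    omega
  obtain ⟨c, gs, hc, hG⟩ := gram_ptens hg.det (by omega) Nf (fun i => ((hfam.le i).trans hN).trans hI) e P h1 h2'
  obtain ⟨hsym, hdet⟩ := gram_reindex_symm_det hg.symm hg.det e P
  rw [hG] at hsym hdet
  have hgs := ptens_symm_odd h2 hmodd c hc gs hsym hdet
  obtain ⟨P', c', G₁, hc', hs₁, hd₁, hP', hG'⟩ :=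
    ptens_equalise h2 (by have := hfam.two_le; omega) hmodd e P c hc gs hgs hG
  refine geoG_of_wreath hg hI m r e P' (bfm G₁) hm3 hfam.two_le (isSymmetricForm_bfm hs₁ hd₁)
    (tensorPower_of_gram e P' c' hc' G₁ hG') ?_
  rw [hP']
  exact hH

/-- (PRF) the perfect case -/
theorem geoG_or_simple (hg : OG G) (hI : H ≤ isoG G) (hirr : Irr H) (hqp : QP H) (hN : N ≤ H)
    (hnorm : NormBy H N) (hns : ¬ N ≤ scalars (Fin n) F)
    (hmin : ∀ M : Subgroup (GL (Fin n) F), M ≤ N → NormBy H M → M = N ∨ M ≤ scalars (Fin n) F)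
    (hperf : ⁅N, N⁆ = N) :
    GeoO (qf G) H ∨ IsSimpleGroup (N ⧸ (scalars (Fin n) F).subgroupOf N) :=
  simple_of_core' hns fun K hK hKn hKs hKN => coreG hg hI hqp hN hnorm hns hmin hperf K hK hKn hKs hKN

/-! ## Block DSC (subfield descent with the form) -/

/-- (DSC-core) = the generic form-aware subfield descent (helper13, for an ARBITRARY invertible Gram matrix; restated as announced in
msg 4084): `F₀ ≤ F₁` of prime index (`Helper4.AschLeaf.exists_max_subfield`), `H ≤ subfieldSubgroup F₁ B⁻¹` (proof of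
`Helper4.AschLeaf.geo_of_realisable`), and `J' := (B⁻¹)ᵀ G B⁻¹` is invariant under the `F₁`-rational absolutely irreducible group
`B N B⁻¹`: splitting `J' = Σ ω_i Y_i` over an `F₁`-basis `ω` of `F` every `Y_i` is invariant, and `Y_i = ζ J'` by Schur. -/
theorem dsc_core (hd : G.det ≠ 0) (hI : H ≤ isoG G) (hN : N ≤ H) (hnorm : NormBy H N) (habs : AbsIrr N)
    (F₀ : Subfield F) (hF₀ : F₀ ≠ ⊤) (hreal : RealisableOver F₀ (matrixSet N)) :
    ∃ (F₁ : Subfield F) (r : ℕ) (P : GL (Fin n) F) (ζ : F), r.Prime ∧ Fintype.card F = Nat.card F₁ ^ r ∧ ζ ≠ 0 ∧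
      IsFormRationalStructure (bfm G) F₁ ζ P ∧ H ≤ subfieldSubgroup F₁ P :=
  Cfsg.Agent.Lib.Helper13.DSC.dsc_core hd hN hnorm habs (hN.trans hI) F₀ hF₀ hreal

/-- (DSC) subfield descent with the quadratic form -/
theorem geoG_of_realisable (hg : OG G) (hI : H ≤ isoG G) (hN : N ≤ H) (hnorm : NormBy H N)
    (habs : AbsIrr N) (F₀ : Subfield F) (hF₀ : F₀ ≠ ⊤) (hreal : RealisableOver F₀ (matrixSet N)) :
    GeoO (qf G) H := by
  have h2 := two_ne_zero_of_odd hg.oddq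
  have hI' : H ≤ isometryGroup F (qf G) := by rw [isometryGroup_qf h2 hg.symm]; exact hI
  obtain ⟨F₁, r, P, ζ, hr, hcard, hζ, hrat, hH⟩ := dsc_core hg.det hI hN hnorm habs F₀ hF₀ hreal
  obtain ⟨P', hP', hq⟩ := quad_of_form_rational hg F₁ ζ hζ P hrat
  exact GeoO.of_subfield hI' F₁ r P' hr hcard hq (hP' ▸ hH)

/-! ## Block UNI (no invariant unitary form in the residual case) -/

/-- UNI2 (`Helper29.SpAschLeaf.unitary_conj` with `G.det ≠ 0` in place of `IsAltGram`; same proof): `C := G⁻¹ * U`: for `x ∈ N`,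
`xᵀ U σ(x) = U` and `xᵀ G x = G`, hence `σ(x) = U⁻¹ (xᵀ)⁻¹ U = U⁻¹ G x G⁻¹ U = C⁻¹ x C` -/
theorem unitary_conj' (hd : G.det ≠ 0) (hNI : N ≤ isoG G) (σ : F ≃+* F) (U : Matrix (Fin n) (Fin n) F)
    (hU : U.det ≠ 0) (g : (Fin n → F) → (Fin n → F) → F)
    (hrep : ∀ u v : Fin n → F, g u v = u ⬝ᵥ (U *ᵥ (fun i => σ (v i))))
    (hfix : FixesForm (matrixSet N) g) :
    ∃ C : GL (Fin n) F, ∀ x ∈ N, (x : Matrix (Fin n) (Fin n) F).map σ =
      ((C⁻¹ : GL (Fin n) F) : Matrix (Fin n) (Fin n) F) * (x : Matrix (Fin n) (Fin n) F) * (C : Matrix (Fin n) (Fin n) F) :=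
  Cfsg.Agent.Lib.Helper13.OAschLeaf.unitary_conj' hd hNI σ U hU g hrep hfix

/-- inputs (CLOSED, restated): `Helper29.SpAschLeaf.unitary_rep`, `Helper29.SpAschLeaf.exists_fixed_subfield` (module
`Cfsg.Agent.Lib.Helper29.SpAschQU`), `Helper13.ThR.galois_descent` (module `Cfsg.Agent.Lib.Helper13.ThRGD`) -/
theorem unitary_rep' (σ : F ≃+* F) (g : (Fin n → F) → (Fin n → F) → F) (hg : IsUnitaryForm σ g) :
    ∃ U : Matrix (Fin n) (Fin n) F, U.det ≠ 0 ∧
      ∀ u v : Fin n → F, g u v = u ⬝ᵥ (U *ᵥ (fun i => σ (v i))) :=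
  Cfsg.Agent.Lib.Helper18.OAschLeaf.unitary_rep' σ g hg
theorem exists_fixed_subfield' (σ : F ≃+* F) (hσ : σ ≠ RingEquiv.refl F) :
    ∃ F₀ : Subfield F, F₀ ≠ ⊤ ∧ ∀ c : F, c ∈ F₀ ↔ σ c = c :=
  Cfsg.Agent.Lib.Helper18.OAschLeaf.exists_fixed_subfield' σ hσ
theorem galois_descent' (X : Subgroup (GL (Fin n) F))
    (hcomm : ∀ M : Matrix (Fin n) (Fin n) F, (∀ s ∈ matrixSet X, M * s = s * M) →
      ∃ c : F, M = c • (1 : Matrix (Fin n) (Fin n) F))
    (φ : F ≃+* F) (C : GL (Fin n) F)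
    (hC : ∀ x ∈ X, (x : Matrix (Fin n) (Fin n) F).map φ =
      ((C⁻¹ : GL (Fin n) F) : Matrix (Fin n) (Fin n) F) * (x : Matrix (Fin n) (Fin n) F) * (C : Matrix (Fin n) (Fin n) F))
    (F₀ : Subfield F) (hF₀ : ∀ c : F, c ∈ F₀ ↔ φ c = c) : RealisableOver F₀ (matrixSet X) :=
  Cfsg.Agent.Lib.Helper18.OAschLeaf.galois_descent' X hcomm φ C hC F₀ hF₀

/-- (UNI) an absolutely irreducible group fixing `bfm G` and a unitary form can be written over the fixed field of the involution -/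
theorem realisable_of_unitary (hg : OG G) (hNI : N ≤ isoG G) (habs : AbsIrr N) (σ : F ≃+* F)
    (f : (Fin n → F) → (Fin n → F) → F) (hf : IsUnitaryForm σ f) (hfix : FixesForm (matrixSet N) f) :
    ∃ F₀ : Subfield F, F₀ ≠ ⊤ ∧ RealisableOver F₀ (matrixSet N) := by
  obtain ⟨U, hU, hrep⟩ := unitary_rep' σ f hf
  obtain ⟨C, hC⟩ := unitary_conj' hg.det hNI σ U hU f hrep hfix
  obtain ⟨F₀, hF₀, hmem⟩ := exists_fixed_subfield' σ hf.ne_refl
  exact ⟨F₀, hF₀, galois_descent' N habs.2 σ C hC F₀ hmem⟩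

/-! ## the Clifford-tensor block and the generic theorem -/

/-- inputs from S5630 (restated; `Helper29.AschLeaf.scalar_of_finrank_one`, `Helper20.AschLeaf.tensor_of_homog`,
`Helper26.AschLeaf.normalizer_le_tensor`, `Helper29.AschLeaf.env_conj`, `Helper29.AschLeaf.scalar_of_tensor_one`,
`Helper29.AschLeaf.absIrr_of_tensor_one`, `Helper4.AschLeaf.exists_min_normal`, `normBy_commutator`, `scalar_of_centralizes_mod`) -/
theorem scalar_of_finrank_one' (K : Subalgebra F (Matrix (Fin n) (Fin n) F))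
    (h : Module.finrank F K = 1) : ∀ T ∈ K, ∃ c : F, T = c • (1 : Matrix (Fin n) (Fin n) F) :=
  Cfsg.Agent.Lib.Helper18.OAschLeaf.scalar_of_finrank_one' K h
theorem tensor_of_homog' {X : Subgroup (GL (Fin n) F)} (hn : 0 < n) (hhom : Homog X)
    (hZ : ∀ T ∈ ZCen X, ∃ c : F, T = c • (1 : Matrix (Fin n) (Fin n) F)) :
    ∃ (s k : ℕ) (e : Fin n ≃ Fin s × Fin k) (P : GL (Fin n) F),
      (∀ A : Matrix (Fin s) (Fin s) F, conjR e P (A ⊗ₖ (1 : Matrix (Fin k) (Fin k) F)) ∈ Env X) ∧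
      (∀ T ∈ Env X, ∃ A : Matrix (Fin s) (Fin s) F,
        T = conjR e P (A ⊗ₖ (1 : Matrix (Fin k) (Fin k) F))) :=
  Cfsg.Agent.Lib.Helper18.OAschLeaf.tensor_of_homog' hn hhom hZ
theorem normalizer_le_tensor' {s k : ℕ} (e : Fin n ≃ Fin s × Fin k) (P g : GL (Fin n) F)
    (hg : ∀ A : Matrix (Fin s) (Fin s) F, ∃ A' : Matrix (Fin s) (Fin s) F,
      (g : Matrix (Fin n) (Fin n) F) * conjR e P (A ⊗ₖ (1 : Matrix (Fin k) (Fin k) F)) *
        ((g⁻¹ : GL (Fin n) F) : Matrix (Fin n) (Fin n) F) =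
          conjR e P (A' ⊗ₖ (1 : Matrix (Fin k) (Fin k) F))) :
    g ∈ tensorProductSubgroup s k e P :=
  Cfsg.Agent.Lib.Helper18.OAschLeaf.normalizer_le_tensor' e P g hg
theorem env_conj' (hnorm : NormBy H N) (h : GL (Fin n) F) (hh : h ∈ H)
    (T : Matrix (Fin n) (Fin n) F) (hT : T ∈ Env N) :
    (h : Matrix (Fin n) (Fin n) F) * T * ((h⁻¹ : GL (Fin n) F) : Matrix (Fin n) (Fin n) F) ∈ Env N :=
  Cfsg.Agent.Lib.Helper18.OAschLeaf.env_conj' hnorm h hh T hT
theorem scalar_of_tensor_one' {k : ℕ} (e : Fin n ≃ Fin 1 × Fin k) (P : GL (Fin n) F)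
    {X : Subgroup (GL (Fin n) F)}
    (h2 : ∀ T ∈ Env X, ∃ A : Matrix (Fin 1) (Fin 1) F,
      T = conjR e P (A ⊗ₖ (1 : Matrix (Fin k) (Fin k) F))) : X ≤ scalars (Fin n) F :=
  Cfsg.Agent.Lib.Helper18.OAschLeaf.scalar_of_tensor_one' e P h2
theorem absIrr_of_tensor_one' {s : ℕ} (e : Fin n ≃ Fin s × Fin 1) (P : GL (Fin n) F)
    {X : Subgroup (GL (Fin n) F)}
    (h1 : ∀ A : Matrix (Fin s) (Fin s) F, conjR e P (A ⊗ₖ (1 : Matrix (Fin 1) (Fin 1) F)) ∈ Env X) :
    AbsIrr X :=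
  Cfsg.Agent.Lib.Helper18.OAschLeaf.absIrr_of_tensor_one' e P h1
theorem exists_min_normal' (hn : 2 ≤ n) (hirr : Irr H) :
    ∃ N : Subgroup (GL (Fin n) F), N ≤ H ∧ NormBy H N ∧ ¬ N ≤ scalars (Fin n) F ∧
      ∀ M : Subgroup (GL (Fin n) F), M ≤ N → NormBy H M → M = N ∨ M ≤ scalars (Fin n) F :=
  Cfsg.Agent.Lib.Helper18.OAschLeaf.exists_min_normal' hn hirr
theorem normBy_commutator' (hnorm : NormBy H N) : NormBy H ⁅N, N⁆ :=
  Cfsg.Agent.Lib.Helper18.OAschLeaf.normBy_commutator' hnorm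
theorem scalar_of_centralizes_mod' (habs : AbsIrr N) (hperf : ⁅N, N⁆ = N) (h : GL (Fin n) F)
    (hc : ∀ x ∈ N, h * x * h⁻¹ * x⁻¹ ∈ scalars (Fin n) F) : h ∈ scalars (Fin n) F :=
  Cfsg.Agent.Lib.Helper18.OAschLeaf.scalar_of_centralizes_mod' habs hperf h hc

/-- (O23) CLIFFORD + FIELD + TENSOR with the form -/
theorem geoG_or_qp (hg : OG G) (hI : H ≤ isoG G) (hirr : Irr H) : GeoO (qf G) H ∨ QP H := by
  by_cases hgeo : GeoO (qf G) H
  · exact Or.inl hgeo
  right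
  intro N hN hnorm
  by_cases hns : N ≤ scalars (Fin n) F
  · exact Or.inl hns
  have hn0 : 0 < n := by have := hg.three; omega
  have hhom : Homog N := by
    by_contra hnh
    exact hgeo (geoG_of_inhomog hg hI hirr hN hnorm hnh)
  have hZ : ∀ T ∈ ZCen N, ∃ c : F, T = c • (1 : Matrix (Fin n) (Fin n) F) := by
    apply scalar_of_finrank_one'
    by_contra h1
    exact hgeo (geoG_of_field hg hI hN hnorm hns hhom h1)
  obtain ⟨s, k, e, P, h1, h2⟩ := tensor_of_homog' hn0 hhom hZ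
  have hH : H ≤ tensorProductSubgroup s k e P := by
    intro h hh
    apply normalizer_le_tensor' e P h
    intro A
    exact h2 _ (env_conj' hnorm h hh _ (h1 A))
  have hcard : n = s * k := by
    have := Fintype.card_congr e
    simpa using this
  rcases Nat.lt_or_ge s 2 with hs | hs
  · have hs1 : s = 1 := by
      rcases Nat.eq_zero_or_pos s with h0 | h0
      · subst h0; omega
      · omega
    subst hs1
    exact Or.inl (scalar_of_tensor_one' e P h2)
  rcases Nat.lt_or_ge k 2 with hk | hk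
  · have hk1 : k = 1 := by
      rcases Nat.eq_zero_or_pos k with h0 | h0
      · subst h0; omega
      · omega
    subst hk1
    exact Or.inr (absIrr_of_tensor_one' e P h1)
  exact absurd (geoG_of_tensor hg hI hN hs hk e P h1 h2 hH) hgeo

/-- THE GENERIC THEOREM in the Gram matrix vocabulary -/
theorem mainG (hg : OG G) (H : Subgroup (GL (Fin n) F)) (hI : H ≤ isoG G) :
    GeoO (qf G) H ∨ InOrthogonalResidualClass H := by
  by_cases hgeo : GeoO (qf G) H
  · exact Or.inl hgeo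
  right
  have hn := hg.three
  have hirr : Irr H := by
    by_contra h
    exact hgeo (geoG_of_not_irr hg hI h)
  have hqp : QP H := (geoG_or_qp hg hI hirr).resolve_left hgeo
  obtain ⟨N, hN, hnorm, hns, hmin⟩ := exists_min_normal' (by omega) hirr
  have hNabs : AbsIrr N := (hqp N hN hnorm).resolve_left hns
  have hperf : ⁅N, N⁆ = N := by
    rcases hmin ⁅N, N⁆ (Subgroup.commutator_le.mpr (fun x hx y hy =>
      N.mul_mem (N.mul_mem (N.mul_mem hx hy) (N.inv_mem hx)) (N.inv_mem hy)))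
      (normBy_commutator' hnorm) with h | h
    · exact h
    · exact absurd h (fun h => not_nilpotent hg hI hirr hqp hN hnorm hns hmin h)
  have hsimple := (geoG_or_simple hg hI hirr hqp hN hnorm hns hmin hperf).resolve_left hgeo
  have hnosub : ∀ F₀ : Subfield F, F₀ ≠ ⊤ → ¬ RealisableOver F₀ (matrixSet N) := by
    intro F₀ hF₀ hreal
    exact hgeo (geoG_of_realisable hg hI hN hnorm hNabs F₀ hF₀ hreal)
  refine ⟨N, ⟨hN, hnorm, hperf, hsimple, ?_, ?_, hNabs, hnosub⟩, ?_⟩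
  · intro hab
    have h1 := (Subgroup.Normal.quotient_commutative_iff_commutator_le
      (N := (scalars (Fin n) F).subgroupOf N)).mp hab
    apply hns
    intro x hx
    have h2 : x ∈ ⁅N, N⁆ := by rw [hperf]; exact hx
    rw [← Subgroup.map_subtype_commutator] at h2
    obtain ⟨y, hy, rfl⟩ := h2
    exact h1 hy
  · intro h _ hcz
    exact scalar_of_centralizes_mod' hNabs hperf h hcz
  · rintro ⟨σ, f, hf, hfix⟩
    obtain ⟨F₀, hF₀, hreal⟩ := realisable_of_unitary hg (hN.trans hI) hNabs σ f hf hfix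
    exact hnosub F₀ hF₀ hreal

/-- the generic theorem for a quadratic form `Q` on `F^n` -/
theorem main {Q : (Fin n → F) → F} (hc : OCtx Q) (H : Subgroup (GL (Fin n) F)) (hI : H ≤ isometryGroup F Q) :
    GeoO Q H ∨ InOrthogonalResidualClass H := by
  obtain ⟨G, hg, rfl⟩ := og_of_octx hc
  have h2 := two_ne_zero_of_odd hg.oddq
  rw [isometryGroup_qf h2 hg.symm] at hI
  exact mainG hg H hI

/-! ## Block TR: transport to `Unit ⊕ (Fin m ⊕ Fin m)` and the frozen statement -/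

/-- (T1) the geometric classes are transported along a bijection of index types (from the REINDEX leaves `notes/Reidx_leaves.lean`,
clause by clause; helper18) -/
theorem geoO_rg {ι κ : Type} [Fintype ι] [DecidableEq ι] [Fintype κ] [DecidableEq κ] (e : ι ≃ κ)
    {Q : (ι → F) → F} {H : Subgroup (GL ι F)} (h : GeoO Q H) : GeoO (rq e Q) (rg e H) :=
  Cfsg.Agent.Lib.Helper18.OAschLeaf.geoO_rg e h

/-- (T2) the standing hypotheses for the standard form: `quadFormOdd m F` is a non-degenerate quadratic form for `|F|` odd (its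
polar form has Gram matrix `diag(2) ⊕ antidiagonal blocks`, of determinant `2 (-1)^m`, in the prime field); `n = 2m + 1` -/
theorem octx_std (hodd : Odd (Fintype.card F)) (m : ℕ) (hm : 3 ≤ m)
    (e : (Unit ⊕ (Fin m ⊕ Fin m)) ≃ Fin (2 * m + 1)) : OCtx (rq e (quadFormOdd m F)) :=
  Cfsg.Agent.Lib.Helper19.OAschLeaf.octx_std hodd m hm e

/-- (T3) `Ω` lies in the isometry group (`Subgroup.map_subtype_le`) -/
theorem omegaGL_le {ι : Type} [Fintype ι] [DecidableEq ι] (Q : (ι → F) → F) : omegaGL Q ≤ isometryGroup F Q :=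
  Cfsg.Agent.Lib.Helper18.OAschLeaf.omegaGL_le Q

/-- inputs from the REINDEX market (`notes/Reidx_leaves.lean`; restated) -/
theorem rg_symm' {ι κ : Type} [Fintype ι] [DecidableEq ι] [Fintype κ] [DecidableEq κ] (e : ι ≃ κ)
    (H : Subgroup (GL ι F)) : rg e.symm (rg e H) = H :=
  Cfsg.Agent.Lib.Helper18.OAschLeaf.rg_symm' e H
theorem rq_symm' {ι κ : Type} [Fintype ι] [DecidableEq ι] [Fintype κ] [DecidableEq κ] (e : ι ≃ κ)
    (Q : (ι → F) → F) : rq e.symm (rq e Q) = Q :=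
  Cfsg.Agent.Lib.Helper18.OAschLeaf.rq_symm' e Q
theorem rg_mono' {ι κ : Type} [Fintype ι] [DecidableEq ι] [Fintype κ] [DecidableEq κ] (e : ι ≃ κ)
    {H K : Subgroup (GL ι F)} (h : H ≤ K) : rg e H ≤ rg e K :=
  Cfsg.Agent.Lib.Helper18.OAschLeaf.rg_mono' e h
theorem rg_isometryGroup' {ι κ : Type} [Fintype ι] [DecidableEq ι] [Fintype κ] [DecidableEq κ] (e : ι ≃ κ)
    (Q : (ι → F) → F) : rg e (isometryGroup F Q) = isometryGroup F (rq e Q) :=
  Cfsg.Agent.Lib.Helper18.OAschLeaf.rg_isometryGroup' e Q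
theorem inOrthogonalResidualClass_rg' {ι κ : Type} [Fintype ι] [DecidableEq ι] [Fintype κ] [DecidableEq κ]
    (e : ι ≃ κ) {H : Subgroup (GL ι F)} (h : InOrthogonalResidualClass H) :
    InOrthogonalResidualClass (rg e H) :=
  Cfsg.Agent.Lib.Helper18.OAschLeaf.inOrthogonalResidualClass_rg' e h

/-- the frozen statement S5673 -/
theorem final (hodd : Odd (Fintype.card F)) (m : ℕ) (hm : 3 ≤ m)
    (H : Subgroup (Matrix.GeneralLinearGroup (Unit ⊕ (Fin m ⊕ Fin m)) F))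
    (hH : H ≤ Cfsg.Geo.omegaGL (Cfsg.quadFormOdd m F))
    (hproper : H ⊔ (Cfsg.Geo.scalars (Unit ⊕ (Fin m ⊕ Fin m)) F ⊓ Cfsg.Geo.omegaGL (Cfsg.quadFormOdd m F)) ≠
      Cfsg.Geo.omegaGL (Cfsg.quadFormOdd m F)) :
    (∃ M : Subgroup (Matrix.GeneralLinearGroup (Unit ⊕ (Fin m ⊕ Fin m)) F),
        Cfsg.Geo.InOrthogonalOddClass m F M ∧ H ≤ M) ∨ Cfsg.Geo.InOrthogonalResidualClass H := by
  have hcard : Fintype.card (Unit ⊕ (Fin m ⊕ Fin m)) = 2 * m + 1 := by
    simp only [Fintype.card_sum, Fintype.card_fin, Fintype.card_unit]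
    omega
  let e : (Unit ⊕ (Fin m ⊕ Fin m)) ≃ Fin (2 * m + 1) := Fintype.equivFinOfCardEq hcard
  have hc := octx_std hodd m hm e
  have hI : rg e H ≤ isometryGroup F (rq e (quadFormOdd m F)) := by
    rw [← rg_isometryGroup']
    exact rg_mono' e (hH.trans (omegaGL_le _))
  rcases main hc (rg e H) hI with h | h
  · left
    have h2 := geoO_rg e.symm h
    rw [rg_symm', rq_symm'] at h2
    obtain ⟨M, hM, hHM⟩ := h2
    exact ⟨M, (inOClass_iff m M).mpr hM, hHM⟩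
  · right
    have h2 := inOrthogonalResidualClass_rg' e.symm h
    rw [rg_symm'] at h2
    exact h2

end Cfsg.Agent.Lib.Helper18.OAschMain
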