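import Mathlib

/-!
OMEGA-EVEN rows market, leaf OE-R5 `plus_of_c6`, representation-theoretic part.  `G` a finite group, `ρ : G →* M_n(F)` with scalar
commutant, `|G|` and `n` invertible in `F`: Schur orthogonality in the entry form; if moreover `|G| = 2 n²` and the centre `{1, z}` of
`G` acts by `±1`, the matrices `ρ g` are linearly independent modulo `ρ (z g) = - ρ g`, every `g ≠ 1, z` has trace zero and is
conjugate to `z g`.
-/

set_option autoImplicit false

namespace Cfsg.Agent.Lib.Helper18.OER5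

open Matrix Module

section rep
variable {G : Type*} [Group G] {ι : Type*} [Fintype ι] [DecidableEq ι]
  {F : Type*} [Field F] (ρ : G →* Matrix ι ι F)

lemma rho_inv_mul (g : G) : ρ g⁻¹ * ρ g = 1 := by rw [← map_mul, inv_mul_cancel, map_one]

lemma rho_mul_inv (g : G) : ρ g * ρ g⁻¹ = 1 := by rw [← map_mul, mul_inv_cancel, map_one]

variable [Fintype G]

/-- averaging over the group gives a scalar -/
theorem sum_conj (hcomm : ∀ M : Matrix ι ι F, (∀ g, M * ρ g = ρ g * M) → ∃ c : F, M = c • 1)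
    (hn : (Fintype.card ι : F) ≠ 0) (x : Matrix ι ι F) :
    ∑ g, ρ g * x * ρ g⁻¹ =
      ((Fintype.card G : F) * Matrix.trace x / (Fintype.card ι : F)) • (1 : Matrix ι ι F) := by
  obtain ⟨S, hS⟩ : ∃ S, S = ∑ g, ρ g * x * ρ g⁻¹ := ⟨_, rfl⟩
  have hSc : ∀ h, S * ρ h = ρ h * S := by
    intro h
    rw [hS, Finset.sum_mul, Finset.mul_sum]
    rw [← Equiv.sum_comp (Equiv.mulLeft h) (fun g => ρ g * x * ρ g⁻¹ * ρ h)]
    apply Finset.sum_congr rfl
    intro g _
    simp only [Equiv.coe_mulLeft, _root_.mul_inv_rev, map_mul, mul_assoc]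
    rw [rho_inv_mul, mul_one]
  obtain ⟨c, hc⟩ := hcomm S hSc
  have htr : Matrix.trace S = (Fintype.card G : F) * Matrix.trace x := by
    rw [hS, Matrix.trace_sum]
    have : ∀ g, Matrix.trace (ρ g * x * ρ g⁻¹) = Matrix.trace x := by
      intro g
      rw [Matrix.trace_mul_comm, ← mul_assoc, rho_inv_mul, one_mul]
    simp only [this, Finset.sum_const, Finset.card_univ, nsmul_eq_mul]
  rw [hc, Matrix.trace_smul, Matrix.trace_one, smul_eq_mul] at htr
  rw [← hS, hc]
  congr 1
  field_simp
  linear_combination htr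

/-- Schur orthogonality, entry form -/
theorem sum_entries (hcomm : ∀ M : Matrix ι ι F, (∀ g, M * ρ g = ρ g * M) → ∃ c : F, M = c • 1)
    (hn : (Fintype.card ι : F) ≠ 0) (p a b q : ι) :
    ∑ g, (ρ g) p a * (ρ g⁻¹) b q =
      if a = b ∧ p = q then (Fintype.card G : F) / (Fintype.card ι : F) else 0 := by
  have h := sum_conj ρ hcomm hn (vecMulVec (Pi.single a 1) (Pi.single b 1))
  have h' := congrFun (congrFun h p) q
  rw [Matrix.sum_apply] at h'
  have e : ∀ g, (ρ g * vecMulVec (Pi.single a 1) (Pi.single b 1) * ρ g⁻¹ : Matrix ι ι F) p q =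
      (ρ g) p a * (ρ g⁻¹) b q := by
    intro g
    rw [Matrix.mul_vecMulVec, Matrix.vecMulVec_mul, Matrix.vecMulVec_apply,
      Matrix.mulVec_single_one, Matrix.single_one_vecMul]
    rfl
  simp only [e] at h'
  rw [h', Matrix.trace_vecMulVec, Matrix.smul_apply, Matrix.one_apply, smul_eq_mul]
  by_cases hab : a = b
  · subst hab
    by_cases hpq : p = q
    · subst hpq
      simp
    · simp [hpq]
  · have : (Pi.single a (1 : F) : ι → F) ⬝ᵥ Pi.single b 1 = 0 := by
      simp [hab]
    rw [this]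
    simp [hab]

/-- every matrix is an explicit combination of the `ρ g` -/
theorem sum_trace_smul (hcomm : ∀ M : Matrix ι ι F, (∀ g, M * ρ g = ρ g * M) → ∃ c : F, M = c • 1)
    (hn : (Fintype.card ι : F) ≠ 0) (M : Matrix ι ι F) :
    ∑ g, Matrix.trace (ρ g⁻¹ * M) • ρ g = ((Fintype.card G : F) / (Fintype.card ι : F)) • M := by
  ext p a
  rw [Matrix.sum_apply, Matrix.smul_apply, smul_eq_mul]
  have e : ∀ g, (Matrix.trace (ρ g⁻¹ * M) • ρ g) p a =
      ∑ b, ∑ q, M q b * ((ρ g) p a * (ρ g⁻¹) b q) := by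
    intro g
    rw [Matrix.smul_apply, smul_eq_mul, Matrix.trace, Finset.sum_mul]
    apply Finset.sum_congr rfl
    intro b _
    rw [Matrix.diag_apply, Matrix.mul_apply, Finset.sum_mul]
    apply Finset.sum_congr rfl
    intro q _
    ring
  simp only [e]
  rw [Finset.sum_comm]
  have e2 : ∀ b, ∑ g, ∑ q, M q b * ((ρ g) p a * (ρ g⁻¹) b q) =
      ∑ q, M q b * (if a = b ∧ p = q then (Fintype.card G : F) / (Fintype.card ι : F) else 0) := by
    intro b
    rw [Finset.sum_comm]
    apply Finset.sum_congr rfl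
    intro q _
    rw [← Finset.mul_sum, sum_entries ρ hcomm hn]
  simp only [e2]
  rw [Finset.sum_eq_single a]
  · rw [Finset.sum_eq_single p]
    · simp
      ring
    · intro q _ hq
      simp [Ne.symm hq]
    · intro h
      exact absurd (Finset.mem_univ p) h
  · intro b _ hb
    apply Finset.sum_eq_zero
    intro q _
    simp [Ne.symm hb]
  · intro h
    exact absurd (Finset.mem_univ a) h

end rep


section ker
variable {G : Type*} [Group G] [Fintype G] {ι : Type*} [Fintype ι] [DecidableEq ι]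
  {F : Type*} [Field F] (ρ : G →* Matrix ι ι F)

/-- the linear map `c ↦ ∑ c g • ρ g` -/
noncomputable def Phi : (G → F) →ₗ[F] Matrix ι ι F :=
  Fintype.linearCombination F (fun g => ρ g)

lemma Phi_apply (c : G → F) : Phi ρ c = ∑ g, c g • ρ g := by
  rw [Phi, Fintype.linearCombination_apply]

lemma Phi_surjective
    (hcomm : ∀ M : Matrix ι ι F, (∀ g, M * ρ g = ρ g * M) → ∃ c : F, M = c • 1)
    (hn : (Fintype.card ι : F) ≠ 0) (hG : (Fintype.card G : F) ≠ 0) :
    Function.Surjective (Phi ρ) := by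
  intro M
  refine ⟨fun g => ((Fintype.card ι : F) / (Fintype.card G : F)) * Matrix.trace (ρ g⁻¹ * M), ?_⟩
  rw [Phi_apply]
  simp only [mul_smul]
  rw [← Finset.smul_sum, sum_trace_smul ρ hcomm hn, smul_smul]
  have : ((Fintype.card ι : F) / (Fintype.card G : F)) *
      ((Fintype.card G : F) / (Fintype.card ι : F)) = 1 := by
    field_simp
  rw [this, one_smul]

/-- the relations among the `ρ g` are the obvious ones -/
theorem even_of_sum_eq_zero
    (hcomm : ∀ M : Matrix ι ι F, (∀ g, M * ρ g = ρ g * M) → ∃ c : F, M = c • 1)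
    (hn : (Fintype.card ι : F) ≠ 0) (hG : (Fintype.card G : F) ≠ 0) (h2 : (2 : F) ≠ 0)
    (hcard : Fintype.card G = 2 * (Fintype.card ι * Fintype.card ι))
    (z : G) (hz : z ∈ Subgroup.center G) (hρz : ρ z = -1)
    (hZ : Nat.card (Subgroup.center G) = 2)
    (c : G → F) (hc : ∑ g, c g • ρ g = 0) (g : G) : c (z * g) = c g := by
  classical
  obtain ⟨Z, hZdef⟩ : ∃ Z : Subgroup G, Z = Subgroup.center G := ⟨_, rfl⟩
  have : Z.Normal := by rw [hZdef]; infer_instance
  have hzZ : z ∈ Z := by rw [hZdef]; exact hz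
  have hZ2 : Nat.card Z = 2 := by rw [hZdef]; exact hZ
  have : Fintype (G ⧸ Z) := Fintype.ofFinite _
  obtain ⟨π, hπ⟩ : ∃ π : ((G ⧸ Z) → F) →ₗ[F] (G → F),
      π = LinearMap.funLeft F F (QuotientGroup.mk : G → G ⧸ Z) := ⟨_, rfl⟩
  have hπapp : ∀ (f : (G ⧸ Z) → F) (g : G), π f g = f (QuotientGroup.mk g) := by
    intro f g
    rw [hπ]
    rfl
  have hmk : ∀ g : G, (QuotientGroup.mk (z * g) : G ⧸ Z) = QuotientGroup.mk g := by
    intro g
    rw [QuotientGroup.mk_mul, (QuotientGroup.eq_one_iff z).2 hzZ, one_mul]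
  have hπinj : Function.Injective π := by
    rw [hπ]
    exact LinearMap.funLeft_injective_of_surjective _ _ _ QuotientGroup.mk_surjective
  have hle : LinearMap.range π ≤ LinearMap.ker (Phi ρ) := by
    rintro _ ⟨f, rfl⟩
    rw [LinearMap.mem_ker, Phi_apply]
    obtain ⟨S, hS⟩ : ∃ S, S = ∑ g, (π f) g • ρ g := ⟨_, rfl⟩
    have hshift : S = ∑ g, (π f) (z * g) • ρ (z * g) := by
      rw [hS]
      exact (Equiv.sum_comp (Equiv.mulLeft z) (fun g => (π f) g • ρ g)).symm
    have hterm : ∀ g, (π f) (z * g) • ρ (z * g) = -((π f) g • ρ g) := by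
      intro g
      rw [hπapp, hπapp, hmk, map_mul, hρz, neg_one_mul, smul_neg]
    have hneg : S = -S := by
      conv_lhs => rw [hshift]
      simp only [hterm, Finset.sum_neg_distrib]
      rw [hS]
    have h2S : (2 : F) • S = 0 := by
      rw [two_smul]
      nth_rewrite 2 [hneg]
      exact add_neg_cancel S
    rw [← hS]
    exact (smul_eq_zero.1 h2S).resolve_left h2
  have hfr1 : finrank F (LinearMap.range π) = Fintype.card (G ⧸ Z) := by
    rw [LinearMap.finrank_range_of_inj hπinj, Module.finrank_fintype_fun_eq_card]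
  have hfr2 : finrank F (LinearMap.range (Phi ρ)) + finrank F (LinearMap.ker (Phi ρ)) =
      Fintype.card G := by
    rw [LinearMap.finrank_range_add_finrank_ker, Module.finrank_fintype_fun_eq_card]
  have hrange : LinearMap.range (Phi ρ) = ⊤ :=
    LinearMap.range_eq_top.2 (Phi_surjective ρ hcomm hn hG)
  rw [hrange, finrank_top, Module.finrank_matrix, Module.finrank_self, mul_one] at hfr2
  have hq : Fintype.card (G ⧸ Z) * 2 = Fintype.card G := by
    have := Subgroup.card_eq_card_quotient_mul_card_subgroup Z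
    rw [hZ2, Nat.card_eq_fintype_card, Nat.card_eq_fintype_card] at this
    exact this.symm
  have heq : LinearMap.range π = LinearMap.ker (Phi ρ) :=
    Submodule.eq_of_le_of_finrank_eq hle (by omega)
  have hcmem : c ∈ LinearMap.ker (Phi ρ) := by
    rw [LinearMap.mem_ker, Phi_apply]
    exact hc
  rw [← heq] at hcmem
  obtain ⟨f, rfl⟩ := hcmem
  rw [hπapp, hπapp, hmk]

/-- non-central elements have trace zero -/
theorem trace_eq_zero
    (hcomm : ∀ M : Matrix ι ι F, (∀ g, M * ρ g = ρ g * M) → ∃ c : F, M = c • 1)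
    (hn : (Fintype.card ι : F) ≠ 0) (hG : (Fintype.card G : F) ≠ 0) (h2 : (2 : F) ≠ 0)
    (hcard : Fintype.card G = 2 * (Fintype.card ι * Fintype.card ι))
    (z : G) (hz : z ∈ Subgroup.center G) (hρz : ρ z = -1)
    (hZ : Nat.card (Subgroup.center G) = 2)
    (g : G) (hg1 : g ≠ 1) (hgz : g ≠ z) : Matrix.trace (ρ g) = 0 := by
  classical
  have h3 := sum_trace_smul ρ hcomm hn (ρ g)
  obtain ⟨κ, hκ⟩ : ∃ κ : F, κ = (Fintype.card G : F) / (Fintype.card ι : F) := ⟨_, rfl⟩
  rw [← hκ] at h3
  have hc : ∑ h, (Matrix.trace (ρ h⁻¹ * ρ g) - κ * (if h = g then 1 else 0)) • ρ h = 0 := by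
    simp only [sub_smul, Finset.sum_sub_distrib]
    rw [h3]
    simp only [mul_ite, mul_one, mul_zero, ite_smul, zero_smul]
    rw [Finset.sum_ite_eq']
    simp
  have hev := even_of_sum_eq_zero ρ hcomm hn hG h2 hcard z hz hρz hZ _ hc 1
  have hzinv : ρ z⁻¹ = -1 := by
    have := rho_inv_mul ρ z
    rw [hρz, mul_neg, mul_one] at this
    exact neg_eq_iff_eq_neg.1 this
  simp only [mul_one, inv_one, map_one, one_mul] at hev
  rw [if_neg hgz.symm, if_neg hg1.symm, hzinv, neg_one_mul, Matrix.trace_neg, mul_zero, sub_zero,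
    sub_zero] at hev
  have h4 : (2 : F) * Matrix.trace (ρ g) = 0 := by linear_combination -hev
  exact (mul_eq_zero.1 h4).resolve_left h2

/-- non-central elements are conjugate to their negatives -/
theorem exists_conj
    (hcomm : ∀ M : Matrix ι ι F, (∀ g, M * ρ g = ρ g * M) → ∃ c : F, M = c • 1)
    (hn : (Fintype.card ι : F) ≠ 0) (h2 : (2 : F) ≠ 0)
    (hdvd : ∀ d : ℕ, d ∣ Fintype.card G → (d : F) ≠ 0)
    (hcard : Fintype.card G = 2 * (Fintype.card ι * Fintype.card ι))
    (z : G) (hz : z ∈ Subgroup.center G) (hρz : ρ z = -1)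
    (hZ : Nat.card (Subgroup.center G) = 2)
    (g : G) (hg1 : g ≠ 1) (hgz : g ≠ z) : ∃ h : G, h * g * h⁻¹ = z * g := by
  classical
  have hG : (Fintype.card G : F) ≠ 0 := hdvd _ dvd_rfl
  have htr := trace_eq_zero ρ hcomm hn hG h2 hcard z hz hρz hZ g hg1 hgz
  have h1 := sum_conj ρ hcomm hn (ρ g)
  rw [htr, mul_zero, zero_div, zero_smul] at h1
  obtain ⟨c, hcdef⟩ : ∃ c : G → F, c = fun y => ∑ h, if h * g * h⁻¹ = y then (1 : F) else 0 :=
    ⟨_, rfl⟩
  have hc : ∑ y, c y • ρ y = 0 := by
    rw [hcdef]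
    simp only [Finset.sum_smul, ite_smul, one_smul, zero_smul]
    rw [Finset.sum_comm]
    simp only [Finset.sum_ite_eq, Finset.mem_univ, if_true]
    rw [← h1]
    apply Finset.sum_congr rfl
    intro h _
    rw [map_mul, map_mul]
  have hev := even_of_sum_eq_zero ρ hcomm hn hG h2 hcard z hz hρz hZ c hc g
  have hcg : c g ≠ 0 := by
    have e1 : c g = ((Finset.univ.filter (fun h => h * g * h⁻¹ = g)).card : F) := by
      rw [hcdef]
      simp [Finset.sum_boole]
    rw [e1]
    apply hdvd
    have hsub : (Finset.univ.filter (fun h => h * g * h⁻¹ = g)).card =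
        Nat.card (Subgroup.centralizer ({g} : Set G)) := by
      rw [Nat.card_eq_fintype_card, Fintype.card_subtype]
      congr 1
      ext h
      simp only [Finset.mem_filter, Finset.mem_univ, true_and, Subgroup.mem_centralizer_iff,
        Set.mem_singleton_iff, forall_eq]
      constructor
      · intro hh
        have : h * g = g * h := by
          have := congrArg (· * h) hh
          simpa using this
        exact this.symm
      · intro hh
        rw [← hh, mul_inv_cancel_right]
    rw [hsub, ← Nat.card_eq_fintype_card (α := G)]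
    exact Subgroup.card_subgroup_dvd_card _
  rw [← hev] at hcg
  by_contra hno
  push Not at hno
  apply hcg
  rw [hcdef]
  exact Finset.sum_eq_zero (fun h _ => if_neg (hno h))

end ker

end Cfsg.Agent.Lib.Helper18.OER5
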