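import Mathlib

/-!
OMEGA-EVEN rows market, leaf OE-R5 `plus_of_c6`, group-theoretic part: a finite group of units of a ring that contains `-1 ≠ 1`,
has exponent dividing 4 and more than 8 elements contains an involution other than `±1`.
-/

set_option autoImplicit false

namespace Cfsg.Agent.Lib.Helper18.OER5

/-- an element of a subgroup outside a short list -/
lemma exists_mem_notMem_list {G : Type*} [Group G] (R : Subgroup G) (L : List G)
    (h : L.length < Nat.card R) : ∃ g ∈ R, g ∉ L := by
  classical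
  by_contra hcon
  push Not at hcon
  have hsub : (R : Set G) ⊆ (↑L.toFinset : Set G) := by
    intro g hg
    simpa using hcon g hg
  have h1 : Nat.card R = (R : Set G).ncard := (Nat.card_coe_set_eq (R : Set G))
  have h2 : (R : Set G).ncard ≤ (↑L.toFinset : Set G).ncard :=
    Set.ncard_le_ncard hsub (Finset.finite_toSet _)
  have h3 : (↑L.toFinset : Set G).ncard = L.toFinset.card := Set.ncard_coe_finset _
  have h4 : L.toFinset.card ≤ L.length := List.toFinset_card_le L
  omega

variable {M : Type*} [Ring M]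

/-- a non-central involution -/
theorem exists_involution (R : Subgroup Mˣ) (hne : (-1 : Mˣ) ≠ 1)
    (h4 : ∀ g ∈ R, g ^ 4 = 1) (hcard : 8 < Nat.card R) :
    ∃ t ∈ R, t * t = 1 ∧ t ≠ 1 ∧ t ≠ -1 := by
  classical
  by_contra hno
  push Not at hno
  have hinv : ∀ t ∈ R, t * t = 1 → t = 1 ∨ t = -1 := by
    intro t ht htt
    by_cases h1 : t = 1
    · exact Or.inl h1
    · exact Or.inr (hno t ht htt h1)
  have hsq : ∀ g ∈ R, g ≠ 1 → g ≠ -1 → g * g = -1 := by
    intro g hg h1 hz
    have h5 : (g * g) * (g * g) = 1 := by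
      have := h4 g hg
      rw [show (4 : ℕ) = 2 + 2 from rfl, pow_add, pow_two] at this
      exact this
    rcases hinv (g * g) (R.mul_mem hg hg) h5 with h | h
    · rcases hinv g hg h with h' | h'
      · exact absurd h' h1
      · exact absurd h' hz
    · exact h
  have hanti : ∀ x ∈ R, ∀ y ∈ R, x ≠ 1 → x ≠ -1 → y ≠ 1 → y ≠ -1 → x * y ≠ 1 → x * y ≠ -1 →
      y * x = -(x * y) := by
    intro x hx y hy hx1 hxz hy1 hyz hxy1 hxyz
    have hxx := hsq x hx hx1 hxz
    have hyy := hsq y hy hy1 hyz
    have hxy := hsq (x * y) (R.mul_mem hx hy) hxy1 hxyz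
    have e1 : x * (y * x) * y = -1 := by
      rw [← hxy]
      group
    have e2 : x * (-(x * y)) * y = -1 := by
      have : x * (-(x * y)) * y = -((x * x) * (y * y)) := by
        simp only [mul_neg, neg_mul, mul_assoc]
      rw [this, hxx, hyy]
      simp
    have e3 : x * (y * x) * y = x * (-(x * y)) * y := by rw [e1, e2]
    exact mul_left_cancel (mul_right_cancel e3)
  have hinvneg : ∀ g ∈ R, g ≠ 1 → g ≠ -1 → g⁻¹ = -g := by
    intro g hg h1 hz
    have := hsq g hg h1 hz
    rw [inv_eq_iff_eq_inv, eq_comm, inv_eq_iff_mul_eq_one]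
    rw [neg_mul, this, neg_neg]
  -- choose a, b, c
  obtain ⟨a, haR, haL⟩ := exists_mem_notMem_list R [1, -1] (by simp; omega)
  have ha1 : a ≠ 1 := fun h => haL (by simp [h])
  have haz : a ≠ -1 := fun h => haL (by simp [h])
  obtain ⟨b, hbR, hbL⟩ := exists_mem_notMem_list R [1, -1, a, -a] (by simp; omega)
  have hb1 : b ≠ 1 := fun h => hbL (by simp [h])
  have hbz : b ≠ -1 := fun h => hbL (by simp [h])
  have hba : b ≠ a := fun h => hbL (by simp [h])
  have hbna : b ≠ -a := fun h => hbL (by simp [h])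
  obtain ⟨c, hcR, hcL⟩ := exists_mem_notMem_list R [1, -1, a, -a, b, -b, a * b, -(a * b)]
    (by simp; omega)
  have hc1 : c ≠ 1 := fun h => hcL (by simp [h])
  have hcz : c ≠ -1 := fun h => hcL (by simp [h])
  have hca : c ≠ a := fun h => hcL (by simp [h])
  have hcna : c ≠ -a := fun h => hcL (by simp [h])
  have hcb : c ≠ b := fun h => hcL (by simp [h])
  have hcnb : c ≠ -b := fun h => hcL (by simp [h])
  have hcab : c ≠ a * b := fun h => hcL (by simp [h])
  have hcnab : c ≠ -(a * b) := fun h => hcL (by simp [h])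
  have hainv := hinvneg a haR ha1 haz
  have hbinv := hinvneg b hbR hb1 hbz
  -- products avoid ±1
  have key : ∀ x ∈ R, ∀ y ∈ R, x ≠ 1 → x ≠ -1 → y ≠ x → y ≠ -x → (y * x ≠ 1 ∧ y * x ≠ -1) := by
    intro x hx y hy hx1 hxz hyx hynx
    have hxi := hinvneg x hx hx1 hxz
    constructor
    · intro h
      have : y = x⁻¹ := eq_inv_of_mul_eq_one_left h
      rw [hxi] at this
      exact hynx this
    · intro h
      have h' : (-y) * x = 1 := by rw [neg_mul, h, neg_neg]
      have : -y = x⁻¹ := eq_inv_of_mul_eq_one_left h'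
      rw [hxi] at this
      apply hyx
      have := congrArg Neg.neg this
      simpa using this
  have hab := key b hbR a haR hb1 hbz (fun h => hba h.symm) (fun h => hbna (by rw [h, neg_neg]))
  have hca' := key a haR c hcR ha1 haz hca hcna
  have hcb' := key b hbR c hcR hb1 hbz hcb hcnb
  have hcab' := key (a * b) (R.mul_mem haR hbR) c hcR hab.1 hab.2 hcab hcnab
  -- anticommutation
  have r1 : a * c = -(c * a) := hanti c hcR a haR hc1 hcz ha1 haz hca'.1 hca'.2
  have r2 : b * c = -(c * b) := hanti c hcR b hbR hc1 hcz hb1 hbz hcb'.1 hcb'.2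
  have r3 : (a * b) * c = -(c * (a * b)) :=
    hanti c hcR (a * b) (R.mul_mem haR hbR) hc1 hcz hab.1 hab.2 hcab'.1 hcab'.2
  have r4 : (a * b) * c = c * (a * b) := by
    calc (a * b) * c = a * (b * c) := mul_assoc _ _ _
      _ = a * (-(c * b)) := by rw [r2]
      _ = -((a * c) * b) := by rw [mul_neg, mul_assoc]
      _ = -((-(c * a)) * b) := by rw [r1]
      _ = c * (a * b) := by rw [neg_mul, neg_neg, mul_assoc]
  rw [r4] at r3
  -- x = -x with x a unit: -1 = 1
  apply hne
  have : (c * (a * b)) * (-1 : Mˣ) = (c * (a * b)) * 1 := by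
    rw [mul_neg, mul_one]
    exact r3.symm
  exact mul_left_cancel this

end Cfsg.Agent.Lib.Helper18.OER5
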