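import Mathlib
import Cfsg.Prelude.Def_GeometricClasses
import Cfsg.Agent.Lib.Lead.OEQF

/-!
OMEGA-EVEN rows market (planner lead), leaves OE-T4 `typeOn_sup` and OE-T4' `nd_sup`
(exact signatures of `notes/OmEven_rows_leaves.lean`).
-/

set_option autoImplicit false
set_option linter.unusedSectionVars false
set_option linter.unusedVariables false

namespace Cfsg.Agent.Lib.Helper18.OELeaf

open Cfsg Cfsg.Geo Matrix Module QuadraticMap Cfsg.Agent.Lib.Lead.OE

section generic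
variable {ι : Type} [Fintype ι] [DecidableEq ι] {F : Type*} [Field F] [Fintype F]
  (Q : QuadraticForm F (ι → F))

/-- orthogonal non-degenerate subspaces meet trivially -/
lemma t4_inf_eq_bot {A B : Submodule F (ι → F)} (hA : IsNondegenerateOn (polar ⇑Q) A)
    (horth : AreOrthogonalFor (polar ⇑Q) A B) : A ⊓ B = ⊥ := by
  rw [eq_bot_iff]
  intro v hv
  rw [Submodule.mem_bot]
  by_contra hv0
  obtain ⟨⟨x, hx, hxv⟩, -⟩ := hA v hv.1 hv0
  exact hxv (horth x hx v hv.2)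

/-- `Q` is additive on orthogonal vectors -/
lemma t4_Q_add {A B : Submodule F (ι → F)} (horth : AreOrthogonalFor (polar ⇑Q) A B)
    {a b : ι → F} (ha : a ∈ A) (hb : b ∈ B) : Q (a + b) = Q a + Q b := by
  have h := horth a ha b hb
  rw [polar] at h
  linear_combination h

/-- T4'. -/
theorem nd_sup {A B : Submodule F (ι → F)} (hA : IsNondegenerateOn (polar ⇑Q) A)
    (hB : IsNondegenerateOn (polar ⇑Q) B) (horth : AreOrthogonalFor (polar ⇑Q) A B) :
    IsNondegenerateOn (polar ⇑Q) (A ⊔ B) := by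
  intro w hw hw0
  obtain ⟨a, ha, b, hb, rfl⟩ := Submodule.mem_sup.1 hw
  have key : ∃ x ∈ A ⊔ B, polar ⇑Q x (a + b) ≠ 0 := by
    by_cases ha0 : a = 0
    · have hb0 : b ≠ 0 := by
        intro hb0
        apply hw0
        rw [ha0, hb0, add_zero]
      obtain ⟨⟨x, hx, hxb⟩, -⟩ := hB b hb hb0
      refine ⟨x, Submodule.mem_sup_right hx, ?_⟩
      rw [polar_add_right, polar_comm ⇑Q x a, horth a ha x hx, zero_add]
      exact hxb
    · obtain ⟨⟨x, hx, hxa⟩, -⟩ := hA a ha ha0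
      refine ⟨x, Submodule.mem_sup_left hx, ?_⟩
      rw [polar_add_right, horth x hx b hb, add_zero]
      exact hxa
  obtain ⟨x, hx, hxw⟩ := key
  exact ⟨⟨x, hx, hxw⟩, ⟨x, hx, by rwa [polar_comm]⟩⟩

/-- the sum map `A × B → A ⊔ B` as an equivalence when `A ⊓ B = ⊥` -/
noncomputable def t4Equiv {A B : Submodule F (ι → F)} (hAB : A ⊓ B = ⊥) :
    (A × B) ≃ ↥(A ⊔ B) :=
  Equiv.ofBijective (fun p : A × B => (⟨(p.1 : ι → F) + (p.2 : ι → F),
      Submodule.add_mem _ (Submodule.mem_sup_left p.1.2) (Submodule.mem_sup_right p.2.2)⟩ : ↥(A ⊔ B)))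
    (by
      constructor
      · rintro ⟨⟨a, ha⟩, ⟨b, hb⟩⟩ ⟨⟨a', ha'⟩, ⟨b', hb'⟩⟩ h
        have h1 : a + b = a' + b' := congrArg Subtype.val h
        have h2 : a - a' ∈ A ⊓ B := by
          refine ⟨A.sub_mem ha ha', ?_⟩
          have : a - a' = b' - b := by
            rw [sub_eq_sub_iff_add_eq_add, h1, add_comm]
          rw [this]
          exact B.sub_mem hb' hb
        rw [hAB, Submodule.mem_bot, sub_eq_zero] at h2
        subst h2
        have h3 : b = b' := add_left_cancel h1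
        subst h3
        rfl
      · rintro ⟨w, hw⟩
        obtain ⟨a, ha, b, hb, rfl⟩ := Submodule.mem_sup.1 hw
        exact ⟨(⟨a, ha⟩, ⟨b, hb⟩), rfl⟩)

/-- T4.  `A ⊓ B = ⊥` (a common vector is orthogonal to `A`), `A × B ≃ A ⊔ B`, `Q (a + b) = Q a + Q b`: `HasType.prod` + `.congr`. -/
theorem typeOn_sup {A B : Submodule F (ι → F)} (hA : IsNondegenerateOn (polar ⇑Q) A)
    (hB : IsNondegenerateOn (polar ⇑Q) B) (horth : AreOrthogonalFor (polar ⇑Q) A B) {ε ε' : ℤ}
    (hεA : TypeOn Q A ε) (hεB : TypeOn Q B ε') : TypeOn Q (A ⊔ B) (ε * ε') := by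
  obtain ⟨m, hm, hTA⟩ := hεA
  obtain ⟨m', hm', hTB⟩ := hεB
  have hAB : A ⊓ B = ⊥ := t4_inf_eq_bot Q hA horth
  refine ⟨m + m', ?_, ?_⟩
  · have h := Submodule.finrank_sup_add_finrank_inf_eq A B
    rw [hAB, finrank_bot, add_zero] at h
    rw [h, hm, hm']
    ring
  · have hprod := Cfsg.Agent.Lib.Helper15.QuadType.HasType.prod hTA hTB
    refine hprod.congr (t4Equiv hAB) ?_
    rintro ⟨⟨a, ha⟩, ⟨b, hb⟩⟩
    show Q (a + b) = Q a + Q b
    exact t4_Q_add Q horth ha hb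

end generic

end Cfsg.Agent.Lib.Helper18.OELeaf
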