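import Mathlib
import Cfsg.Prelude.Def_GeometricClasses
import Cfsg.Agent.Lib.Lead.OEQF
import Cfsg.Agent.Lib.Helper12.OETypeA
import Cfsg.Agent.Lib.Helper18.OET3
import Cfsg.Agent.Lib.Helper18.OET4
import Cfsg.Agent.Lib.Helper18.OER5a
import Cfsg.Agent.Lib.Helper18.OER5b

/-!
OMEGA-EVEN rows market (planner lead), leaf OE-R5 `plus_of_c6` (exact signature of `notes/OmEven_rows_leaves.lean`).

No structure theory of symplectic-type groups is used: `|R| = 2 n²` and absolute irreducibility make the matrices of `R` linearly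
independent modulo `±1` (`OER5a`), so every `g ≠ ±1` in `R` is conjugate to `-g`; exponent 4 and `|R| > 8` give an involution
`t ≠ ±1` in `R` (`OER5b`); the eigenspaces of `t` are orthogonal, non-degenerate, swapped by an isometry, of even dimension `n/2`.
-/

set_option autoImplicit false
set_option linter.unusedSectionVars false
set_option linter.unusedVariables false

namespace Cfsg.Agent.Lib.Helper18.OELeaf

open Cfsg Cfsg.Geo Matrix Module QuadraticMap Cfsg.Agent.Lib.Lead.OE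

section anti
variable {ι : Type} [Fintype ι] [DecidableEq ι] {F : Type*} [Field F] [Fintype F]
  (Q : QuadraticForm F (ι → F))

/-- the `1`-eigenspace -/
def r5Vp (T : Matrix ι ι F) : Submodule F (ι → F) := LinearMap.ker (Matrix.toLin' (T - 1))

/-- the `-1`-eigenspace -/
def r5Vm (T : Matrix ι ι F) : Submodule F (ι → F) := LinearMap.ker (Matrix.toLin' (T + 1))

lemma mem_r5Vp (T : Matrix ι ι F) (v : ι → F) : v ∈ r5Vp T ↔ T *ᵥ v = v := by
  rw [r5Vp, LinearMap.mem_ker, Matrix.toLin'_apply, Matrix.sub_mulVec, Matrix.one_mulVec, sub_eq_zero]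

lemma mem_r5Vm (T : Matrix ι ι F) (v : ι → F) : v ∈ r5Vm T ↔ T *ᵥ v = -v := by
  rw [r5Vm, LinearMap.mem_ker, Matrix.toLin'_apply, Matrix.add_mulVec, Matrix.one_mulVec,
    add_eq_zero_iff_eq_neg]

lemma r5_sup_eq_top (h2 : (2 : F) ≠ 0) (T : Matrix ι ι F) (hTT : T * T = 1) :
    r5Vp T ⊔ r5Vm T = ⊤ := by
  rw [eq_top_iff]
  intro v _
  rw [Submodule.mem_sup]
  refine ⟨(2 : F)⁻¹ • (v + T *ᵥ v), ?_, (2 : F)⁻¹ • (v - T *ᵥ v), ?_, ?_⟩
  · rw [mem_r5Vp, Matrix.mulVec_smul, Matrix.mulVec_add, Matrix.mulVec_mulVec, hTT,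
      Matrix.one_mulVec, add_comm]
  · rw [mem_r5Vm, Matrix.mulVec_smul, Matrix.mulVec_sub, Matrix.mulVec_mulVec, hTT,
      Matrix.one_mulVec, ← smul_neg, neg_sub]
  · rw [← smul_add, add_add_sub_cancel, ← two_smul F v, smul_smul, inv_mul_cancel₀ h2, one_smul]

lemma r5_polar_map (M : Matrix ι ι F) (hM : ∀ v, Q (M *ᵥ v) = Q v) (u w : ι → F) :
    polar ⇑Q (M *ᵥ u) (M *ᵥ w) = polar ⇑Q u w := by
  rw [polar, polar, ← Matrix.mulVec_add, hM, hM, hM]

lemma r5_orth (h2 : (2 : F) ≠ 0) (T : Matrix ι ι F) (hTQ : ∀ v, Q (T *ᵥ v) = Q v) :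
    AreOrthogonalFor (polar ⇑Q) (r5Vp T) (r5Vm T) := by
  intro u hu w hw
  rw [mem_r5Vp] at hu
  rw [mem_r5Vm] at hw
  have h := r5_polar_map Q T hTQ u w
  rw [hu, hw, polar_neg_right] at h
  have h' : (2 : F) * polar ⇑Q u w = 0 := by linear_combination -h
  exact (mul_eq_zero.1 h').resolve_left h2

lemma r5_nd_of_orth (hQ : (polarBilin Q).Nondegenerate) {A B : Submodule F (ι → F)}
    (hsup : A ⊔ B = ⊤) (horth : AreOrthogonalFor (polar ⇑Q) A B) :
    IsNondegenerateOn (polar ⇑Q) A := by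
  intro w hw hw0
  have h1 : ∃ y, polar ⇑Q w y ≠ 0 := by
    by_contra hcon
    push Not at hcon
    apply hw0
    apply hQ.1 w
    intro y
    rw [polarBilin_apply_apply]
    exact hcon y
  obtain ⟨y, hy⟩ := h1
  have hymem : y ∈ A ⊔ B := by rw [hsup]; exact Submodule.mem_top
  obtain ⟨a, ha, b, hb, rfl⟩ := Submodule.mem_sup.1 hymem
  rw [polar_add_right, horth w hw b hb, add_zero] at hy
  exact ⟨⟨a, ha, by rwa [polar_comm]⟩, ⟨a, ha, hy⟩⟩

/-- an isometric involution `T` and an isometry `H` with `T H = - H T`: plus type when `4 ∣ n` -/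
theorem r5_plus_of_anticommuting (hQ : (polarBilin Q).Nondegenerate) (h2 : (2 : F) ≠ 0)
    (T H Hi : Matrix ι ι F) (hTT : T * T = 1) (hTQ : ∀ v, Q (T *ᵥ v) = Q v)
    (hHQ : ∀ v, Q (H *ᵥ v) = Q v) (hHHi : H * Hi = 1) (hHiH : Hi * H = 1)
    (hanti : T * H = -(H * T)) (hdim : 4 ∣ Fintype.card ι) : IsPlusTypeOn ⇑Q ⊤ := by
  have hsup := r5_sup_eq_top h2 T hTT
  have horth := r5_orth Q h2 T hTQ
  have horth' : AreOrthogonalFor (polar ⇑Q) (r5Vm T) (r5Vp T) := by
    intro u hu w hw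
    rw [polar_comm]
    exact horth w hw u hu
  have hndp : IsNondegenerateOn (polar ⇑Q) (r5Vp T) := r5_nd_of_orth Q hQ hsup horth
  have hndm : IsNondegenerateOn (polar ⇑Q) (r5Vm T) :=
    r5_nd_of_orth Q hQ (by rw [sup_comm]; exact hsup) horth'
  -- `Hi` anticommutes with `T` too
  have hanti' : T * Hi = -(Hi * T) := by
    have e : Hi * (T * H) * Hi = Hi * (-(H * T)) * Hi := by rw [hanti]
    have e1 : Hi * (T * H) * Hi = Hi * T := by
      rw [Matrix.mul_assoc, Matrix.mul_assoc, hHHi, Matrix.mul_one]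
    have e2 : Hi * (-(H * T)) * Hi = -(T * Hi) := by
      rw [Matrix.mul_neg, Matrix.neg_mul, ← Matrix.mul_assoc Hi H T, hHiH, Matrix.one_mul]
    rw [e1, e2] at e
    rw [e, neg_neg]
  -- the isometry between the eigenspaces
  have hmap : ∀ x ∈ r5Vp T, Matrix.toLin' H x ∈ r5Vm T := by
    intro x hx
    rw [mem_r5Vp] at hx
    rw [mem_r5Vm, Matrix.toLin'_apply, Matrix.mulVec_mulVec, hanti, Matrix.neg_mulVec,
      ← Matrix.mulVec_mulVec, hx]
  have hmap' : ∀ x ∈ r5Vm T, Matrix.toLin' Hi x ∈ r5Vp T := by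
    intro x hx
    rw [mem_r5Vm] at hx
    rw [mem_r5Vp, Matrix.toLin'_apply, Matrix.mulVec_mulVec, hanti', Matrix.neg_mulVec,
      ← Matrix.mulVec_mulVec, hx, Matrix.mulVec_neg, neg_neg]
  have hiso : AreIsometricFor ⇑Q (r5Vp T) (r5Vm T) := by
    refine ⟨LinearEquiv.ofLinearMap ((Matrix.toLin' H).restrict hmap) ((Matrix.toLin' Hi).restrict hmap')
      ?_ ?_, ?_⟩
    · ext x : 1
      apply Subtype.ext
      show Matrix.toLin' H (Matrix.toLin' Hi x) = x
      rw [Matrix.toLin'_apply, Matrix.toLin'_apply, Matrix.mulVec_mulVec, hHHi, Matrix.one_mulVec]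
    · ext x : 1
      apply Subtype.ext
      show Matrix.toLin' Hi (Matrix.toLin' H x) = x
      rw [Matrix.toLin'_apply, Matrix.toLin'_apply, Matrix.mulVec_mulVec, hHiH, Matrix.one_mulVec]
    · intro w
      show Q (Matrix.toLin' H w) = Q w
      rw [Matrix.toLin'_apply, hHQ]
  -- dimensions
  have hdimeq : finrank F (r5Vp T) = finrank F (r5Vm T) := by
    obtain ⟨e, -⟩ := hiso
    exact e.finrank_eq
  have hinf : r5Vp T ⊓ r5Vm T = ⊥ := t4_inf_eq_bot Q hndp horth
  have hsum : finrank F (r5Vp T) + finrank F (r5Vm T) = Fintype.card ι := by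
    have h := Submodule.finrank_sup_add_finrank_inf_eq (r5Vp T) (r5Vm T)
    rw [hsup, hinf, finrank_bot, add_zero, finrank_top, Module.finrank_fintype_fun_eq_card] at h
    exact h.symm
  have hevp : Even (finrank F (r5Vp T)) := by
    obtain ⟨j, hj⟩ := hdim
    exact ⟨j, by omega⟩
  -- types
  obtain ⟨ε, hε, hty⟩ := Cfsg.Agent.Lib.Helper12.OELeaf.exists_typeOn Q hndp hevp
  have hty' : TypeOn Q (r5Vm T) ε := Cfsg.Agent.Lib.Helper12.OELeaf.typeOn_of_isometric Q hiso hty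
  have htop := typeOn_sup Q hndp hndm horth hty hty'
  rw [hsup] at htop
  have hεε : ε * ε = 1 := by
    rcases hε with rfl | rfl <;> norm_num
  rw [hεε] at htop
  have hndtop : IsNondegenerateOn (polar ⇑Q) (⊤ : Submodule F (ι → F)) := by
    have := nd_sup Q hndp hndm horth
    rwa [hsup] at this
  have hevtop : Even (finrank F (⊤ : Submodule F (ι → F))) := by
    rw [finrank_top, Module.finrank_fintype_fun_eq_card]
    obtain ⟨j, hj⟩ := hdim
    exact ⟨2 * j, by omega⟩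
  exact (typeOn_one_iff_plus Q hndtop hevtop).1 htop

end anti


section c6
variable {F : Type*} [Field F] [Fintype F]

/-- R5. -/
theorem plus_of_c6 {n : ℕ} (Q : QuadraticForm F (Fin n → F)) (hQ : (polarBilin Q).Nondegenerate)
    (R : Subgroup (GL (Fin n) F)) (k : ℕ) (hRQ : R ≤ isometryGroup F ⇑Q)
    (habs : ActsAbsolutelyIrreducibly (matrixSet R)) (hst : IsSymplecticTypeGroup 2 R)
    (hZ : Nat.card (Subgroup.center R) = 2) (h2 : (2 : F) ≠ 0) (hk : 2 ≤ k)
    (hcard : Nat.card R = 2 ^ (1 + 2 * k)) (hn : n = 2 ^ k) : IsPlusTypeOn ⇑Q ⊤ := by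
  classical
  have : Fintype R := Fintype.ofFinite R
  have hnpos : 0 < n := by rw [hn]; positivity
  obtain ⟨i₀⟩ : Nonempty (Fin n) := ⟨⟨0, hnpos⟩⟩
  -- the representation
  obtain ⟨ρ, hρ⟩ : ∃ ρ : R →* Matrix (Fin n) (Fin n) F,
      ρ = (Units.coeHom (Matrix (Fin n) (Fin n) F)).comp R.subtype := ⟨_, rfl⟩
  have hρapp : ∀ g : R, ρ g = ((g : GL (Fin n) F) : Matrix (Fin n) (Fin n) F) := by
    intro g
    rw [hρ]
    rfl
  have hρinj : ∀ g g' : R, ρ g = ρ g' → g = g' := by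
    intro g g' h
    rw [hρapp, hρapp] at h
    exact Subtype.ext (Units.ext h)
  have hcomm : ∀ M : Matrix (Fin n) (Fin n) F, (∀ g, M * ρ g = ρ g * M) → ∃ c : F, M = c • 1 := by
    intro M hM
    apply habs.2 M
    rintro s ⟨g, hg, rfl⟩
    have := hM ⟨g, hg⟩
    rw [hρapp] at this
    exact this
  have hnF : ((Fintype.card (Fin n) : ℕ) : F) ≠ 0 := by
    rw [Fintype.card_fin, hn, Nat.cast_pow, Nat.cast_ofNat]
    exact pow_ne_zero _ h2
  have hcardR : Fintype.card R = 2 ^ (1 + 2 * k) := by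
    rw [← Nat.card_eq_fintype_card]
    exact hcard
  have hdvd : ∀ d : ℕ, d ∣ Fintype.card R → (d : F) ≠ 0 := by
    intro d hd
    rw [hcardR] at hd
    obtain ⟨j, -, rfl⟩ := (Nat.dvd_prime_pow Nat.prime_two).1 hd
    rw [Nat.cast_pow, Nat.cast_ofNat]
    exact pow_ne_zero _ h2
  have hcard2 : Fintype.card R = 2 * (Fintype.card (Fin n) * Fintype.card (Fin n)) := by
    rw [hcardR, Fintype.card_fin, hn]
    ring
  -- the central involution
  obtain ⟨z', hz'1, -⟩ := (Nat.card_eq_two_iff' (1 : Subgroup.center R)).1 hZ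
  obtain ⟨z, hzdef⟩ : ∃ z : R, z = (z' : R) := ⟨_, rfl⟩
  have hzc : z ∈ Subgroup.center R := by rw [hzdef]; exact z'.2
  have hz1 : z ≠ 1 := by
    intro h
    apply hz'1
    apply Subtype.ext
    rw [← hzdef, h]
    rfl
  have hzz : z * z = 1 := by
    have h := pow_card_eq_one' (G := Subgroup.center R) (x := z')
    rw [hZ, pow_two] at h
    have h' := congrArg (fun x : Subgroup.center R => (x : R)) h
    simp only [Subgroup.coe_mul, Subgroup.coe_one] at h'
    rw [hzdef]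
    exact h'
  have hρz : ρ z = -1 := by
    obtain ⟨c, hc⟩ := hcomm (ρ z) (by
      intro g
      rw [← map_mul, ← map_mul]
      congr 1
      exact ((Subgroup.mem_center_iff.1 hzc) g).symm)
    have hcc : c * c = 1 := by
      have h := congrArg ρ hzz
      rw [map_mul, map_one, hc, Matrix.smul_mul, Matrix.mul_smul, Matrix.one_mul, smul_smul] at h
      have h' := congrFun (congrFun h i₀) i₀
      simpa using h'
    rcases mul_self_eq_one_iff.1 hcc with h | h
    · exfalso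
      apply hz1
      apply hρinj
      rw [hc, h, one_smul, map_one]
    · rw [hc, h, neg_one_smul]
  have hzGL : ((z : R) : GL (Fin n) F) = -1 := by
    apply Units.ext
    rw [← hρapp, hρz]
    simp
  -- an involution other than ±1
  have hne : (-1 : (Matrix (Fin n) (Fin n) F)ˣ) ≠ 1 := by
    intro h
    have h' := congrArg (fun u : (Matrix (Fin n) (Fin n) F)ˣ => (u : Matrix (Fin n) (Fin n) F) i₀ i₀) h
    simp only [Units.val_neg, Units.val_one, Matrix.neg_apply, Matrix.one_apply_eq] at h'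
    apply h2
    linear_combination -h'
  have h4 : ∀ g ∈ R, g ^ 4 = 1 := by
    intro g hg
    have hexp : Monoid.exponent R = 4 := by
      rw [hst.exponent_eq]
      rfl
    have h := Monoid.pow_exponent_eq_one (⟨g, hg⟩ : R)
    rw [hexp] at h
    have h' := congrArg (fun x : R => (x : GL (Fin n) F)) h
    simpa using h'
  have h8 : 8 < Nat.card R := by
    rw [hcard]
    calc 8 < 2 ^ 5 := by norm_num
      _ ≤ 2 ^ (1 + 2 * k) := Nat.pow_le_pow_right (by norm_num) (by omega)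
  obtain ⟨t, htR, htt, ht1, htz⟩ := Cfsg.Agent.Lib.Helper18.OER5.exists_involution
    (M := Matrix (Fin n) (Fin n) F) R hne h4 h8
  -- conjugate to its negative
  have hg1 : (⟨t, htR⟩ : R) ≠ 1 := by
    intro h
    apply ht1
    exact congrArg (fun x : R => (x : GL (Fin n) F)) h
  have hgz : (⟨t, htR⟩ : R) ≠ z := by
    intro h
    apply htz
    have h' := congrArg (fun x : R => (x : GL (Fin n) F)) h
    simp only at h'
    rw [h', hzGL]
  obtain ⟨h, hh⟩ := Cfsg.Agent.Lib.Helper18.OER5.exists_conj ρ hcomm hnF h2 hdvd hcard2 z hzc hρz hZ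
    ⟨t, htR⟩ hg1 hgz
  -- matrices
  have hconj : ρ h * ρ ⟨t, htR⟩ * ρ h⁻¹ = -ρ ⟨t, htR⟩ := by
    have := congrArg ρ hh
    rw [map_mul, map_mul, map_mul, hρz, neg_one_mul] at this
    exact this
  have hanti : ρ ⟨t, htR⟩ * ρ h = -(ρ h * ρ ⟨t, htR⟩) := by
    have e : ρ h * ρ ⟨t, htR⟩ * ρ h⁻¹ * ρ h = -ρ ⟨t, htR⟩ * ρ h := by rw [hconj]
    rw [Matrix.mul_assoc, Cfsg.Agent.Lib.Helper18.OER5.rho_inv_mul, Matrix.mul_one, Matrix.neg_mul] at e
    rw [e, neg_neg]
  have hTT : ρ ⟨t, htR⟩ * ρ ⟨t, htR⟩ = 1 := by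
    rw [← map_mul, ← map_one ρ]
    congr 1
    exact Subtype.ext htt
  have hisom : ∀ g : R, ∀ v, Q (ρ g *ᵥ v) = Q v := by
    intro g v
    rw [hρapp]
    exact (hRQ g.2) v v
  have hdim : 4 ∣ Fintype.card (Fin n) := by
    rw [Fintype.card_fin, hn]
    exact pow_dvd_pow 2 hk
  exact r5_plus_of_anticommuting Q hQ h2 (ρ ⟨t, htR⟩) (ρ h) (ρ h⁻¹) hTT (hisom _) (hisom _)
    (Cfsg.Agent.Lib.Helper18.OER5.rho_mul_inv ρ h) (Cfsg.Agent.Lib.Helper18.OER5.rho_inv_mul ρ h) hanti hdim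

end c6

end Cfsg.Agent.Lib.Helper18.OELeaf
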