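import Mathlib
import Cfsg.Agent.Lib.Helper16.OOEndConDefs

/-!
# S2344 Part III (b) leaf NUM (planner helper16): the numerical inequality of the endgame (helper18)
-/

set_option autoImplicit false

namespace Cfsg.Agent.Lib.Helper18.OOEndNUM

/-- **leaf NUM** -/
theorem bO_le_orbit (q m : ℕ) (hq : 5 ≤ q) (hm : 2 ≤ m) :
    Cfsg.Agent.Lib.Helper26.OOMin.bO q (m + 1) ≤ (q - 1) / 2 * (q ^ (2 * m) - q ^ m) := by
  unfold Cfsg.Agent.Lib.Helper26.OOMin.bO
  apply Nat.div_le_of_le_mul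
  have hq2 : 25 ≤ q ^ 2 := by
    calc 25 = 5 ^ 2 := by norm_num
      _ ≤ q ^ 2 := Nat.pow_le_pow_left hq 2
  have ha25 : 25 ≤ q ^ m :=
    le_trans hq2 (Nat.pow_le_pow_right (by omega) hm)
  have h2m : q ^ (2 * m) = q ^ m * q ^ m := by
    rw [← pow_add]
    congr 1
    ring
  have h2m1 : q ^ (2 * (m + 1)) = q ^ 2 * (q ^ m * q ^ m) := by
    rw [← h2m, ← pow_add]
    congr 1
    ring
  have hc : 2 ≤ (q - 1) / 2 := by omega
  rw [h2m, h2m1]
  obtain ⟨Q', hQ'⟩ := Nat.exists_eq_add_of_le hq2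
  obtain ⟨a', ha'⟩ := Nat.exists_eq_add_of_le ha25
  calc q ^ 2 * (q ^ m * q ^ m) - 1 ≤ (q ^ 2 - 1) * (2 * (q ^ m * q ^ m - q ^ m)) := by
        rw [hQ', ha']
        have h1 : 25 + Q' - 1 = Q' + 24 := by omega
        have h2 : (25 + a') * (25 + a') - (25 + a') = (a' + 25) * (a' + 24) := by
          have : (25 + a') * (25 + a') = (a' + 25) * (a' + 24) + (25 + a') := by ring
          omega
        rw [h1, h2]
        have h3 : (25 + Q') * ((25 + a') * (25 + a')) +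
            (a' + 25) * (Q' * a' + 23 * Q' + 23 * a' + 527) =
            (Q' + 24) * (2 * ((a' + 25) * (a' + 24))) := by ring
        omega
    _ ≤ (q ^ 2 - 1) * ((q - 1) / 2 * (q ^ m * q ^ m - q ^ m)) :=
        Nat.mul_le_mul_left _ (Nat.mul_le_mul_right _ hc)

end Cfsg.Agent.Lib.Helper18.OOEndNUM
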