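import Cfsg.Agent.Lib.Helper6.Orb.Basic
import Cfsg.Agent.S0675
import Cfsg.Agent.Lib.Helper19.SchurCyclicPP

set_option autoImplicit false

/-!
# S4125 orbit lemma, leaf OrbC3: cyclic Sylow subgroup, the orbit of `v0` is not 2-transitive
=> `H` is solvable or has a proper nontrivial normal subgroup
-/

namespace Cfsg.Agent.Lib.Helper18.OrbLeaf

open Cfsg.Agent.Lib.Helper6.Orb

universe u v

/-- Burnside's theorem on prime degree for a faithful action -/
theorem burnside_faithful {Γ Ω : Type*} [Group Γ] [MulAction Γ Ω] [FaithfulSMul Γ Ω] [Fintype Ω]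
    (hΩ : (Fintype.card Ω).Prime) [MulAction.IsPretransitive Γ Ω] :
    Group.IsSolvable Γ ∨ MulAction.IsMultiplyPretransitive Γ Ω 2 := by
  classical
  let φ : Γ →* Equiv.Perm Ω := MulAction.toPermHom Γ Ω
  have hφ : ∀ (x : Γ) (a : Ω), φ x a = x • a := fun _ _ => rfl
  have hinj : Function.Injective φ := MulAction.toPerm_injective
  have : MulAction.IsPretransitive φ.range Ω := by
    constructor
    intro a b
    obtain ⟨x, hx⟩ := MulAction.exists_smul_eq Γ a b
    exact ⟨⟨φ x, ⟨x, rfl⟩⟩, hx⟩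
  rcases Cfsg.Agent.S0675.burnside hΩ φ.range with h | h
  · left
    have := h
    exact Group.isSolvable_of_isSolvable_injective
      ((MonoidHom.rangeRestrict_injective_iff (f := φ)).mpr hinj)
  · right
    rw [MulAction.is_two_pretransitive_iff] at h ⊢
    intro a b c d hab hcd
    obtain ⟨⟨_, x, rfl⟩, h1, h2⟩ := h hab hcd
    exact ⟨x, h1, h2⟩

variable {p q : ℕ} [hp : Fact p.Prime] [hq : Fact q.Prime]
  {H : Type u} {V : Type v} [Group H] [Finite H] [AddCommGroup V] [Finite V] [DistribMulAction H V]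
  [FaithfulSMul H V]

/-- OrbC3 -/
theorem solvable_or_normal_of_not_twoTrans (S : Setup p q H V) (P : Sylow p H) (g : H)
    (hg : (P : Subgroup H) = Subgroup.zpowers g) (hg1 : g ≠ 1) (v0 : V) (hv0 : v0 ≠ 0)
    (hn2 : ¬ TwoTrans H v0) :
    Group.IsSolvable H ∨ ∃ N : Subgroup H, N.Normal ∧ N ≠ ⊥ ∧ N ≠ ⊤ := by
  classical
  -- the order of g
  obtain ⟨n, hn⟩ : ∃ n, Nat.card (P : Subgroup H) = p ^ n := IsPGroup.iff_card.mp P.2
  have hord : orderOf g = p ^ n := by
    rw [← hn, hg, Nat.card_zpowers]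
  have hn1 : 1 ≤ n := by
    rcases Nat.eq_zero_or_pos n with rfl | h
    · rw [pow_zero, orderOf_eq_one_iff] at hord
      exact absurd hord hg1
    · exact h
  -- P acts semiregularly at v0
  have hstab : MulAction.stabilizer (P : Subgroup H) v0 = ⊥ := by
    rw [Subgroup.eq_bot_iff_forall]
    rintro ⟨x, hxP⟩ hx
    rw [MulAction.mem_stabilizer_iff] at hx
    by_contra hne
    apply hv0
    have hx1 : x ≠ 1 := fun h => hne (Subtype.ext h)
    refine S.fixed_eq_zero P (z := x) ?_ hx1 hx
    intro y hy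
    rw [hg] at hy hxP
    obtain ⟨i, rfl⟩ := Subgroup.mem_zpowers_iff.mp hy
    obtain ⟨j, rfl⟩ := Subgroup.mem_zpowers_iff.mp hxP
    rw [← zpow_add, ← zpow_add, add_comm]
  -- the orbit
  have hΩcard : Nat.card (MulAction.orbit H v0) = p ^ n := by
    rw [← orbit_eq_of_pp S.pp P v0, card_orbit_eq_index, hstab, Subgroup.index_bot, hn]
  haveI : Fintype (MulAction.orbit H v0) := Fintype.ofFinite _
  have hΩcard' : Fintype.card (MulAction.orbit H v0) = p ^ n := by
    rw [← Nat.card_eq_fintype_card, hΩcard]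
  -- the kernel of the action on the orbit
  let φ : H →* Equiv.Perm (MulAction.orbit H v0) := MulAction.toPermHom H (MulAction.orbit H v0)
  have hφ : ∀ (x : H) (a : MulAction.orbit H v0), φ x a = x • a := fun _ _ => rfl
  have hp1 : 1 < p ^ n := Nat.one_lt_pow (by omega) hp.out.one_lt
  have hkerT : φ.ker ≠ ⊤ := by
    intro hT
    have hfix : ∀ a : MulAction.orbit H v0, a = ⟨v0, MulAction.mem_orbit_self v0⟩ := by
      rintro ⟨a, x, rfl⟩
      have hx : x ∈ φ.ker := hT ▸ Subgroup.mem_top x
      rw [MonoidHom.mem_ker] at hx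
      have h1 := hφ x ⟨v0, MulAction.mem_orbit_self v0⟩
      rw [hx, Equiv.Perm.one_apply] at h1
      apply Subtype.ext
      have h2 := congrArg Subtype.val h1
      exact h2.symm
    have : Fintype.card (MulAction.orbit H v0) ≤ 1 := by
      rw [Fintype.card_le_one_iff]
      intro a b
      rw [hfix a, hfix b]
    omega
  by_cases hker : φ.ker = ⊥
  swap
  · exact Or.inr ⟨φ.ker, inferInstance, hker, hkerT⟩
  -- the action on the orbit is faithful
  have : FaithfulSMul H (MulAction.orbit H v0) := by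
    constructor
    intro x y hxy
    apply (MonoidHom.ker_eq_bot_iff φ).mp hker
    ext a
    rw [hφ, hφ, hxy a]
  have h2' : ¬ MulAction.IsMultiplyPretransitive H (MulAction.orbit H v0) 2 := by
    intro h2
    apply hn2
    rw [MulAction.is_two_pretransitive_iff] at h2
    intro x y x' y' hx hy hx' hy' hxy hxy'
    obtain ⟨h, h1, h2⟩ := h2 (a := ⟨x, hx⟩) (b := ⟨y, hy⟩) (c := ⟨x', hx'⟩) (d := ⟨y', hy'⟩)
      (fun h => hxy (congrArg Subtype.val h)) (fun h => hxy' (congrArg Subtype.val h))
    exact ⟨h, congrArg Subtype.val h1, congrArg Subtype.val h2⟩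
  rcases Nat.lt_or_ge n 2 with hlt | hge
  · -- prime degree
    have hn' : n = 1 := by omega
    subst hn'
    rw [pow_one] at hΩcard'
    left
    rcases burnside_faithful (Γ := H) (Ω := MulAction.orbit H v0) (hΩcard'.symm ▸ hp.out) with h | h
    · exact h
    · exact absurd h h2'
  · right
    obtain ⟨-, hint⟩ := Cfsg.Agent.Lib.Helper19.SchurCyclic.pp_general
      (Γ := H) (Ω := MulAction.orbit H v0) p n hp.out hge hΩcard' inferInstance h2' g hord
    refine ⟨Subgroup.normalClosure ({g ^ (p ^ (n - 1))} : Set H), inferInstance, ?_, ?_⟩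
    · intro hbot
      have hmem : g ^ (p ^ (n - 1)) ∈ Subgroup.normalClosure ({g ^ (p ^ (n - 1))} : Set H) :=
        Subgroup.subset_normalClosure (Set.mem_singleton _)
      rw [hbot, Subgroup.mem_bot] at hmem
      have hdvd := orderOf_dvd_of_pow_eq_one hmem
      rw [hord] at hdvd
      have hle := Nat.le_of_dvd (pow_pos hp.out.pos _) hdvd
      have hlt : p ^ (n - 1) < p ^ n := Nat.pow_lt_pow_right hp.out.one_lt (by omega)
      omega
    · intro htop
      apply hint
      rw [htop]
      constructor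
      intro a b
      obtain ⟨x, hx⟩ := MulAction.exists_smul_eq H a b
      exact ⟨⟨x, Subgroup.mem_top x⟩, hx⟩

end Cfsg.Agent.Lib.Helper18.OrbLeaf
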