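import Cfsg.Agent.Lib.Helper25.SingPts

set_option autoImplicit false

/-!
helper18: general Siegel transformations `T_{u,w}` (`u` singular, `w` orthogonal to `u`) of a
quadratic space, as abstract maps and as elements of the matrix isometry group.
-/

namespace Cfsg.Agent.Lib.Helper18.OrthAut

open Module QuadraticMap Matrix Cfsg.Agent.Lib.Helper25.CD Cfsg.Agent.Lib.Helper25.Siegel

section general

variable {F : Type*} [Field F] {V : Type*} [AddCommGroup V] [Module F V] (Q : QuadraticForm F V)

/-- The Siegel transformation `x ↦ x + f(u,x) w - f(w,x) u - Q(w) f(u,x) u`. -/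
def siegT (u w : V) (x : V) : V :=
  x + polar Q u x • w - polar Q w x • u - (Q w * polar Q u x) • u

theorem polar_self2 (u : V) : polar Q u u = 2 * Q u := by
  rw [polar_self]; simp

theorem siegT_add_arg (u w x y : V) : siegT Q u w (x + y) = siegT Q u w x + siegT Q u w y := by
  unfold siegT
  rw [polar_add_right, polar_add_right]
  module

theorem siegT_smul_arg (u w : V) (a : F) (x : V) : siegT Q u w (a • x) = a • siegT Q u w x := by
  unfold siegT
  rw [polar_smul_right, polar_smul_right]
  simp only [smul_eq_mul]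
  module

theorem polar_left_siegT {u w : V} (hu : Q u = 0) (huw : polar Q u w = 0) (x : V) :
    polar Q u (siegT Q u w x) = polar Q u x := by
  unfold siegT
  rw [polar_sub_right, polar_sub_right, polar_add_right, polar_smul_right, polar_smul_right,
    polar_smul_right, huw, polar_self2, hu]
  simp

theorem polar_right_siegT {u w : V} (w' x : V) (huw' : polar Q u w' = 0) :
    polar Q w' (siegT Q u w x) = polar Q w' x + polar Q u x * polar Q w' w := by
  unfold siegT
  rw [polar_sub_right, polar_sub_right, polar_add_right, polar_smul_right, polar_smul_right,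
    polar_smul_right, polar_comm Q w' u, huw']
  simp

theorem Q_siegT {u w : V} (hu : Q u = 0) (huw : polar Q u w = 0) (x : V) :
    Q (siegT Q u w x) = Q x := by
  unfold siegT
  have e : x + polar Q u x • w - polar Q w x • u - (Q w * polar Q u x) • u =
      (x + polar Q u x • w) + (-(polar Q w x + Q w * polar Q u x)) • u := by module
  rw [e, Cfsg.Agent.Lib.Helper25.MaxTS.Q_add_smul, Cfsg.Agent.Lib.Helper25.MaxTS.Q_add_smul, hu,
    polar_add_left, polar_smul_left, polar_comm Q w u, huw, polar_comm Q x w, polar_comm Q x u]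
  simp only [smul_eq_mul]
  ring

theorem siegT_siegT {u w w' : V} (hu : Q u = 0) (huw : polar Q u w = 0)
    (huw' : polar Q u w' = 0) (x : V) :
    siegT Q u w (siegT Q u w' x) = siegT Q u (w + w') x := by
  have h1 := polar_left_siegT Q hu huw' x
  have h2 := polar_right_siegT Q (u := u) (w := w') w x huw
  rw [siegT, h1, h2]
  unfold siegT
  rw [Cfsg.Agent.Lib.Helper25.MaxTS.Q_add, polar_add_left]
  module

theorem siegT_zero (u x : V) : siegT Q u 0 x = x := by
  unfold siegT
  simp

theorem siegT_smul_self {u : V} (hu : Q u = 0) (c : F) (x : V) : siegT Q u (c • u) x = x := by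
  unfold siegT
  rw [QuadraticMap.map_smul, hu, polar_smul_left]
  simp only [smul_eq_mul]
  module

theorem siegT_smul_left (u w : V) (c : F) (x : V) :
    siegT Q (c • u) w x = siegT Q u (c • w) x := by
  unfold siegT
  rw [polar_smul_left, polar_smul_left, QuadraticMap.map_smul]
  simp only [smul_eq_mul]
  module

theorem siegT_neg_cancel {u w : V} (hu : Q u = 0) (huw : polar Q u w = 0) (x : V) :
    siegT Q u (-w) (siegT Q u w x) = x := by
  rw [siegT_siegT Q hu (by rw [polar_neg_right, huw, neg_zero]) huw, neg_add_cancel, siegT_zero]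

theorem siegT_cancel_neg {u w : V} (hu : Q u = 0) (huw : polar Q u w = 0) (x : V) :
    siegT Q u w (siegT Q u (-w) x) = x := by
  rw [siegT_siegT Q hu huw (by rw [polar_neg_right, huw, neg_zero]), add_neg_cancel, siegT_zero]

/-- The Siegel transformation as a linear equivalence. -/
def siegTL (u w : V) (hu : Q u = 0) (huw : polar Q u w = 0) : V ≃ₗ[F] V where
  toFun := siegT Q u w
  invFun := siegT Q u (-w)
  map_add' := siegT_add_arg Q u w
  map_smul' := siegT_smul_arg Q u w
  left_inv := siegT_neg_cancel Q hu huw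
  right_inv := siegT_cancel_neg Q hu huw

theorem siegTL_apply (u w : V) (hu : Q u = 0) (huw : polar Q u w = 0) (x : V) :
    siegTL Q u w hu huw x = siegT Q u w x := rfl

theorem siegTL_mem_OG (u w : V) (hu : Q u = 0) (huw : polar Q u w = 0) :
    siegTL Q u w hu huw ∈ OG Q := fun x => Q_siegT Q hu huw x

/-- Conjugation of Siegel transformations by isometries. -/
theorem conj_siegT {g : V ≃ₗ[F] V} (hg : g ∈ OG Q) (u w x : V) :
    g (siegT Q u w (g⁻¹ x)) = siegT Q (g u) (g w) x := by
  have hp : ∀ y, polar Q (g y) x = polar Q y (g⁻¹ x) := by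
    intro y
    have := polar_of_iso Q hg y (g⁻¹ x)
    rw [← LinearEquiv.mul_apply, mul_inv_cancel] at this
    exact this
  unfold siegT
  rw [hp, hp, hg w, map_sub, map_sub, map_add, map_smul, map_smul, map_smul,
    ← LinearEquiv.mul_apply, mul_inv_cancel]
  rfl

/-- Long root elements are Siegel transformations. -/
theorem siegT_eq_siegF {u v : V} (hv : Q v = 0) (c : F) (x : V) :
    siegT Q u (c • v) x = siegF Q u v c x := by
  unfold siegT siegF
  rw [QuadraticMap.map_smul, hv, polar_smul_left]
  simp only [smul_eq_mul]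
  module

/-- Siegel transformations with a nonsingular second vector are products of two reflections. -/
theorem siegT_eq_refl_pair {u w : V} (hu : Q u = 0) (huw : polar Q u w = 0) (hw : Q w ≠ 0)
    (x : V) :
    siegT Q u w x = reflE Q ((Q w)⁻¹ • w) (reflE Q ((Q w)⁻¹ • w + u) x) := by
  have ha : Q ((Q w)⁻¹ • w) = (Q w)⁻¹ := by
    rw [QuadraticMap.map_smul, smul_eq_mul]
    field_simp
  have has : polar Q ((Q w)⁻¹ • w) u = 0 := by
    rw [polar_smul_left, polar_comm Q w u, huw, smul_zero]
  rw [refl_pair_apply' Q (inv_ne_zero hw) ha hu has]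
  unfold siegT
  rw [polar_smul_left, inv_inv]
  simp only [smul_eq_mul]
  match_scalars <;> field_simp
  ring

end general

section matrix

variable {ι : Type} [Fintype ι] [DecidableEq ι] {F : Type*} [Field F]
  (Q : QuadraticForm F (ι → F))

/-- The Siegel transformation as an element of the matrix isometry group. -/
noncomputable def TG (u w : ι → F) (hu : Q u = 0) (huw : polar Q u w = 0) :
    ↥(Cfsg.isometryGroup F ⇑Q) :=
  ofOG Q (siegTL Q u w hu huw) (siegTL_mem_OG Q u w hu huw)

theorem toOG_TG (u w : ι → F) (hu : Q u = 0) (huw : polar Q u w = 0) (x : ι → F) :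
    toOG Q (TG Q u w hu huw) x = siegT Q u w x := by
  unfold TG
  rw [toOG_ofOG]
  rfl

theorem eq_TG_of_apply {g : ↥(Cfsg.isometryGroup F ⇑Q)} {u w : ι → F} (hu : Q u = 0)
    (huw : polar Q u w = 0) (h : ∀ x, toOG Q g x = siegT Q u w x) : g = TG Q u w hu huw := by
  apply toOG_injective Q
  ext1 x
  rw [h, toOG_TG]

theorem TG_congr {u w w' : ι → F} (hu : Q u = 0) (huw : polar Q u w = 0) (h : w = w') :
    TG Q u w hu huw = TG Q u w' hu (h ▸ huw) := by
  subst h
  rfl

theorem TG_mul {u w w' : ι → F} (hu : Q u = 0) (huw : polar Q u w = 0)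
    (huw' : polar Q u w' = 0) :
    TG Q u w hu huw * TG Q u w' hu huw' =
      TG Q u (w + w') hu (by rw [polar_add_right, huw, huw', add_zero]) := by
  apply eq_TG_of_apply
  intro x
  rw [map_mul, LinearEquiv.mul_apply, toOG_TG, toOG_TG, siegT_siegT Q hu huw huw']

theorem TG_zero {u : ι → F} (hu : Q u = 0) :
    TG Q u 0 hu (by simp) = 1 := by
  symm
  apply eq_TG_of_apply
  intro x
  rw [map_one, siegT_zero]
  rfl

theorem TG_inv {u w : ι → F} (hu : Q u = 0) (huw : polar Q u w = 0) :
    (TG Q u w hu huw)⁻¹ = TG Q u (-w) hu (by rw [polar_neg_right, huw, neg_zero]) := by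
  apply inv_eq_of_mul_eq_one_left
  rw [TG_mul, ← TG_zero Q hu]
  exact TG_congr Q hu _ (neg_add_cancel w)

theorem TG_smul_self {u : ι → F} (hu : Q u = 0) (c : F) :
    TG Q u (c • u) hu (by rw [polar_smul_right, polar_self2, hu]; simp) = 1 := by
  symm
  apply eq_TG_of_apply
  intro x
  rw [map_one, siegT_smul_self Q hu]
  rfl

theorem TG_smul_left {u w : ι → F} (hu : Q u = 0) (huw : polar Q u w = 0) (c : F) :
    TG Q (c • u) w (by rw [QuadraticMap.map_smul, hu, smul_zero])
        (by rw [polar_smul_left, huw, smul_zero]) =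
      TG Q u (c • w) hu (by rw [polar_smul_right, huw, smul_zero]) := by
  apply eq_TG_of_apply
  intro x
  rw [toOG_TG, siegT_smul_left]

theorem conj_TG (k : ↥(Cfsg.isometryGroup F ⇑Q)) {u w : ι → F} (hu : Q u = 0)
    (huw : polar Q u w = 0) :
    k * TG Q u w hu huw * k⁻¹ =
      TG Q (toOG Q k u) (toOG Q k w) (by rw [Cfsg.Agent.Lib.Helper25.PS.Q_toOG, hu])
        (by rw [Cfsg.Agent.Lib.Helper25.PS.polar_toOG, huw]) := by
  apply eq_TG_of_apply
  intro x
  rw [map_mul, map_mul, map_inv, LinearEquiv.mul_apply, LinearEquiv.mul_apply, toOG_TG,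
    conj_siegT Q (toOG_mem_OG Q k)]

theorem TG_eq_siegG {u v : ι → F} (hu : Q u = 0) (hv : Q v = 0) (huv : polar Q u v = 0) (c : F) :
    TG Q u (c • v) hu (by rw [polar_smul_right, huv, smul_zero]) = siegG Q u v c hu hv huv := by
  symm
  apply eq_TG_of_apply
  intro x
  rw [toOG_siegG, siegT_eq_siegF Q hv]

variable [Fintype F]

/-- Siegel transformations lie in `Ω` (`n ≥ 7`). -/
theorem TG_mem_omega (hQ : (polarBilin Q).Nondegenerate) (hn : 7 ≤ Fintype.card ι)
    {u w : ι → F} (hu : Q u = 0) (huw : polar Q u w = 0) :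
    TG Q u w hu huw ∈ Cfsg.Omega F ⇑Q := by
  by_cases hw : Q w = 0
  · have h := siegG_mem_omega Q hQ hn u w 1 hu hw huw
    rw [← TG_eq_siegG Q hu hw huw 1] at h
    rw [TG_congr Q hu huw (one_smul F w).symm]
    exact h
  · have ha : Q ((Q w)⁻¹ • w) ≠ 0 := by
      have e1 : Q ((Q w)⁻¹ • w) = (Q w)⁻¹ := by
        rw [QuadraticMap.map_smul, smul_eq_mul]
        field_simp
      rw [e1]
      exact inv_ne_zero hw
    have has : polar Q ((Q w)⁻¹ • w) u = 0 := by
      rw [polar_smul_left, polar_comm Q w u, huw, smul_zero]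
    have h := rootSet_le_omega' Q hQ hn (pair_mem_root' Q hQ (by omega) ha hu has)
    have e : TG Q u w hu huw = reflM Q ((Q w)⁻¹ • w) * reflM Q ((Q w)⁻¹ • w + u) := by
      symm
      apply eq_TG_of_apply
      intro x
      rw [map_mul, LinearEquiv.mul_apply, toOG_reflM, toOG_reflM, siegT_eq_refl_pair Q hu huw hw]
    rw [e]
    exact h

end matrix

end Cfsg.Agent.Lib.Helper18.OrthAut
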