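import Cfsg.Agent.Lib.Helper18.OrthAutA
import Cfsg.Agent.Lib.Helper25.POmegaAut

set_option autoImplicit false

/-!
helper18: the root subgroups `R_u = {T_{u,w}}` of the isometry group, of `Ω` and of `PΩ`;
central elements of `Ω` are scalars.
-/

namespace Cfsg.Agent.Lib.Helper18.OrthAut

open Module QuadraticMap Matrix Cfsg.Agent.Lib.Helper25.CD Cfsg.Agent.Lib.Helper25.Siegel
  Cfsg.Agent.Lib.Helper25.PS Cfsg.Agent.Lib.Helper25.PAut

variable {ι : Type} [Fintype ι] [DecidableEq ι] {F : Type*} [Field F]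
  (Q : QuadraticForm F (ι → F))

/-- The root subgroup of the isometry group attached to the singular vector `u`. -/
def RI (u : ι → F) (hu : Q u = 0) : Subgroup ↥(Cfsg.isometryGroup F ⇑Q) where
  carrier := {g | ∃ (w : ι → F) (huw : polar Q u w = 0), g = TG Q u w hu huw}
  mul_mem' := by
    rintro _ _ ⟨w, huw, rfl⟩ ⟨w', huw', rfl⟩
    exact ⟨w + w', _, TG_mul Q hu huw huw'⟩
  one_mem' := ⟨0, by simp, (TG_zero Q hu).symm⟩
  inv_mem' := by
    rintro _ ⟨w, huw, rfl⟩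
    exact ⟨-w, _, TG_inv Q hu huw⟩

theorem mem_RI {u : ι → F} {hu : Q u = 0} {g : ↥(Cfsg.isometryGroup F ⇑Q)} :
    g ∈ RI Q u hu ↔ ∃ (w : ι → F) (huw : polar Q u w = 0), g = TG Q u w hu huw := Iff.rfl

/-- The root subgroup of `Ω`. -/
def RU (u : ι → F) (hu : Q u = 0) : Subgroup ↥(Cfsg.Omega F ⇑Q) :=
  (RI Q u hu).comap (Cfsg.Omega F ⇑Q).subtype

theorem mem_RU {u : ι → F} {hu : Q u = 0} {g : ↥(Cfsg.Omega F ⇑Q)} :
    g ∈ RU Q u hu ↔ ∃ (w : ι → F) (huw : polar Q u w = 0), g.1 = TG Q u w hu huw := Iff.rfl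

/-- The root subgroup of `PΩ`. -/
def Rbar (u : ι → F) (hu : Q u = 0) : Subgroup (Cfsg.POmega F ⇑Q) :=
  (RU Q u hu).map (QuotientGroup.mk' (Subgroup.center ↥(Cfsg.Omega F ⇑Q)))

theorem mem_Rbar {u : ι → F} {hu : Q u = 0} {t : Cfsg.POmega F ⇑Q} :
    t ∈ Rbar Q u hu ↔ ∃ g : ↥(Cfsg.Omega F ⇑Q),
      (∃ (w : ι → F) (huw : polar Q u w = 0), g.1 = TG Q u w hu huw) ∧
        (QuotientGroup.mk g : Cfsg.POmega F ⇑Q) = t := Iff.rfl

theorem RI_smul {u : ι → F} (hu : Q u = 0) {c : F} (hc : c ≠ 0) :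
    RI Q (c • u) (by rw [QuadraticMap.map_smul, hu, smul_zero]) = RI Q u hu := by
  ext g
  rw [mem_RI, mem_RI]
  constructor
  · rintro ⟨w, huw, rfl⟩
    have huw' : polar Q u w = 0 := by
      rw [polar_smul_left, smul_eq_mul] at huw
      exact (mul_eq_zero.1 huw).resolve_left hc
    exact ⟨c • w, _, TG_smul_left Q hu huw' c⟩
  · rintro ⟨w, huw, rfl⟩
    refine ⟨c⁻¹ • w, by rw [polar_smul_left, polar_smul_right, huw]; simp, ?_⟩
    rw [TG_smul_left Q hu (by rw [polar_smul_right, huw, smul_zero])]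
    apply TG_congr
    rw [smul_smul, mul_inv_cancel₀ hc, one_smul]

theorem Rbar_smul {u : ι → F} (hu : Q u = 0) {c : F} (hc : c ≠ 0) :
    Rbar Q (c • u) (by rw [QuadraticMap.map_smul, hu, smul_zero]) = Rbar Q u hu := by
  unfold Rbar RU
  rw [RI_smul Q hu hc]

/-- Conjugation of root subgroups of the isometry group. -/
theorem conj_mem_RI (k : ↥(Cfsg.isometryGroup F ⇑Q)) {u : ι → F} (hu : Q u = 0)
    {g : ↥(Cfsg.isometryGroup F ⇑Q)} (hg : g ∈ RI Q u hu) :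
    k * g * k⁻¹ ∈ RI Q (toOG Q k u) (by rw [Q_toOG, hu]) := by
  obtain ⟨w, huw, rfl⟩ := hg
  exact ⟨toOG Q k w, _, conj_TG Q k hu huw⟩

/-- Conjugation of root subgroups of `PΩ` by elements of `PΩ`. -/
theorem conj_mem_Rbar (k : ↥(Cfsg.Omega F ⇑Q)) {u : ι → F} (hu : Q u = 0)
    {t : Cfsg.POmega F ⇑Q} (ht : t ∈ Rbar Q u hu) :
    (QuotientGroup.mk k : Cfsg.POmega F ⇑Q) * t * (QuotientGroup.mk k)⁻¹ ∈
      Rbar Q (toOG Q k.1 u) (by rw [Q_toOG, hu]) := by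
  obtain ⟨g, hg, rfl⟩ := ht
  refine ⟨k * g * k⁻¹, ?_, rfl⟩
  exact conj_mem_RI Q k.1 hu hg

theorem map_conj_Rbar (k : ↥(Cfsg.Omega F ⇑Q)) {u : ι → F} (hu : Q u = 0) :
    (Rbar Q u hu).map (MulAut.conj (QuotientGroup.mk k : Cfsg.POmega F ⇑Q)).toMonoidHom =
      Rbar Q (toOG Q k.1 u) (by rw [Q_toOG, hu]) := by
  apply le_antisymm
  · rintro _ ⟨t, ht, rfl⟩
    exact conj_mem_Rbar Q k hu ht
  · intro t ht
    refine ⟨(QuotientGroup.mk k⁻¹ : Cfsg.POmega F ⇑Q) * t * (QuotientGroup.mk k⁻¹)⁻¹, ?_, ?_⟩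
    · have h := conj_mem_Rbar Q k⁻¹ (u := toOG Q k.1 u) (by rw [Q_toOG, hu]) ht
      have e : toOG Q (k⁻¹ : ↥(Cfsg.Omega F ⇑Q)).1 (toOG Q k.1 u) = u := by
        rw [← LinearEquiv.mul_apply, ← map_mul]
        have : (k⁻¹ : ↥(Cfsg.Omega F ⇑Q)).1 * k.1 = 1 := by
          rw [← Subgroup.coe_mul, inv_mul_cancel]
          rfl
        rw [this, map_one]
        rfl
      have hcast : ∀ (v : ι → F) (hv : Q v = 0), v = u → Rbar Q v hv = Rbar Q u hu := by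
        intro v hv hvu
        subst hvu
        rfl
      rw [hcast _ _ e] at h
      exact h
    · show (QuotientGroup.mk k : Cfsg.POmega F ⇑Q) * _ * (QuotientGroup.mk k)⁻¹ = t
      rw [QuotientGroup.mk_inv]
      group

variable [Fintype F]

/-- Central elements of `Ω` are scalars. -/
theorem center_scalar (hQ : (polarBilin Q).Nondegenerate) (hn : 7 ≤ Fintype.card ι)
    {z : ↥(Cfsg.Omega F ⇑Q)} (hz : z ∈ Subgroup.center ↥(Cfsg.Omega F ⇑Q)) :
    ∃ c : F, ∀ x, toOG Q z.1 x = c • x := by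
  apply scalar_of_conjT_eq_one Q hQ hn z.1
  apply MulEquiv.ext
  intro t
  induction t using QuotientGroup.induction_on with
  | H s =>
    rw [conjT_mk]
    show _ = (QuotientGroup.mk s : Cfsg.POmega F ⇑Q)
    congr 1
    apply Subtype.ext
    rw [conjNormal_val]
    have h := Subgroup.mem_center_iff.1 hz s
    have h' : s.1 * z.1 = z.1 * s.1 := congrArg Subtype.val h
    rw [← h']
    group

/-- Equal classes in `PΩ` differ by a scalar. -/
theorem scalar_of_mk_eq (hQ : (polarBilin Q).Nondegenerate) (hn : 7 ≤ Fintype.card ι)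
    {g g' : ↥(Cfsg.Omega F ⇑Q)}
    (h : (QuotientGroup.mk g : Cfsg.POmega F ⇑Q) = QuotientGroup.mk g') :
    ∃ c : F, c ≠ 0 ∧ ∀ x, toOG Q g'.1 x = c • toOG Q g.1 x := by
  have h1 : g⁻¹ * g' ∈ Subgroup.center ↥(Cfsg.Omega F ⇑Q) := QuotientGroup.eq.1 h
  obtain ⟨c, hc⟩ := center_scalar Q hQ hn h1
  have key : ∀ x, toOG Q g'.1 x = c • toOG Q g.1 x := by
    intro x
    have h2 : g'.1 = g.1 * (g⁻¹ * g').1 := by
      rw [← Subgroup.coe_mul]
      congr 1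
      group
    rw [h2, map_mul, LinearEquiv.mul_apply, hc, map_smul]
  refine ⟨c, ?_, key⟩
  rintro rfl
  obtain ⟨i⟩ : Nonempty ι := by
    by_contra hne
    rw [not_nonempty_iff] at hne
    have : Fintype.card ι = 0 := Fintype.card_eq_zero
    omega
  have h3 := key (Pi.single i 1)
  rw [zero_smul] at h3
  have h4 := (toOG Q g'.1).injective (h3.trans (map_zero _).symm)
  have h5 := congrFun h4 i
  simp at h5

/-- Siegel transformations as elements of `Ω`. -/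
noncomputable def TO (hQ : (polarBilin Q).Nondegenerate) (hn : 7 ≤ Fintype.card ι)
    (u w : ι → F) (hu : Q u = 0) (huw : polar Q u w = 0) : ↥(Cfsg.Omega F ⇑Q) :=
  ⟨TG Q u w hu huw, TG_mem_omega Q hQ hn hu huw⟩

theorem TO_val (hQ : (polarBilin Q).Nondegenerate) (hn : 7 ≤ Fintype.card ι)
    (u w : ι → F) (hu : Q u = 0) (huw : polar Q u w = 0) :
    (TO Q hQ hn u w hu huw).1 = TG Q u w hu huw := rfl

theorem TO_congr (hQ : (polarBilin Q).Nondegenerate) (hn : 7 ≤ Fintype.card ι)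
    {u w w' : ι → F} (hu : Q u = 0) (huw : polar Q u w = 0) (h : w = w') :
    TO Q hQ hn u w hu huw = TO Q hQ hn u w' hu (h ▸ huw) := by
  subst h
  rfl

theorem TO_mul (hQ : (polarBilin Q).Nondegenerate) (hn : 7 ≤ Fintype.card ι)
    {u w w' : ι → F} (hu : Q u = 0) (huw : polar Q u w = 0) (huw' : polar Q u w' = 0) :
    TO Q hQ hn u w hu huw * TO Q hQ hn u w' hu huw' =
      TO Q hQ hn u (w + w') hu (by rw [polar_add_right, huw, huw', add_zero]) :=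
  Subtype.ext (TG_mul Q hu huw huw')

theorem TO_zero (hQ : (polarBilin Q).Nondegenerate) (hn : 7 ≤ Fintype.card ι)
    {u : ι → F} (hu : Q u = 0) : TO Q hQ hn u 0 hu (by simp) = 1 :=
  Subtype.ext (TG_zero Q hu)

theorem TO_inv (hQ : (polarBilin Q).Nondegenerate) (hn : 7 ≤ Fintype.card ι)
    {u w : ι → F} (hu : Q u = 0) (huw : polar Q u w = 0) :
    (TO Q hQ hn u w hu huw)⁻¹ =
      TO Q hQ hn u (-w) hu (by rw [polar_neg_right, huw, neg_zero]) :=
  Subtype.ext (TG_inv Q hu huw)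

theorem TO_mem_RU (hQ : (polarBilin Q).Nondegenerate) (hn : 7 ≤ Fintype.card ι)
    {u w : ι → F} (hu : Q u = 0) (huw : polar Q u w = 0) :
    TO Q hQ hn u w hu huw ∈ RU Q u hu := ⟨w, huw, rfl⟩

theorem mk_TO_mem_Rbar (hQ : (polarBilin Q).Nondegenerate) (hn : 7 ≤ Fintype.card ι)
    {u w : ι → F} (hu : Q u = 0) (huw : polar Q u w = 0) :
    (QuotientGroup.mk (TO Q hQ hn u w hu huw) : Cfsg.POmega F ⇑Q) ∈ Rbar Q u hu :=
  ⟨_, TO_mem_RU Q hQ hn hu huw, rfl⟩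

theorem exists_TO_of_mem_Rbar (hQ : (polarBilin Q).Nondegenerate) (hn : 7 ≤ Fintype.card ι)
    {u : ι → F} {hu : Q u = 0} {t : Cfsg.POmega F ⇑Q} (ht : t ∈ Rbar Q u hu) :
    ∃ (w : ι → F) (huw : polar Q u w = 0), t = QuotientGroup.mk (TO Q hQ hn u w hu huw) := by
  obtain ⟨g, ⟨w, huw, hg⟩, rfl⟩ := ht
  refine ⟨w, huw, ?_⟩
  have e : g = TO Q hQ hn u w hu huw := Subtype.ext hg
  rw [e]
  rfl

end Cfsg.Agent.Lib.Helper18.OrthAut
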