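import Cfsg.Agent.Lib.Helper18.OrthAutB

set_option autoImplicit false

/-!
helper18: Siegel transformations relative to a hyperbolic pair `(e, f)`; intersections of the
root subgroups of `PΩ`.
-/

namespace Cfsg.Agent.Lib.Helper18.OrthAut

open Module QuadraticMap Matrix Cfsg.Agent.Lib.Helper25.CD Cfsg.Agent.Lib.Helper25.Siegel
  Cfsg.Agent.Lib.Helper25.PS Cfsg.Agent.Lib.Helper25.PAut

section general

variable {F : Type*} [Field F] {V : Type*} [AddCommGroup V] [Module F V] (Q : QuadraticForm F V)

/-- A hyperbolic pair. -/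
structure HypPair (e f : V) : Prop where
  he : Q e = 0
  hf : Q f = 0
  hef : polar Q e f = 1

variable {Q}

theorem HypPair.symm {e f : V} (h : HypPair Q e f) : HypPair Q f e :=
  ⟨h.hf, h.he, by rw [polar_comm]; exact h.hef⟩

theorem HypPair.hfe {e f : V} (h : HypPair Q e f) : polar Q f e = 1 := h.symm.hef

theorem HypPair.hee {e f : V} (h : HypPair Q e f) : polar Q e e = 0 := by
  rw [polar_self2, h.he, mul_zero]

theorem HypPair.hff {e f : V} (h : HypPair Q e f) : polar Q f f = 0 := h.symm.hee

theorem HypPair.e_ne {e f : V} (h : HypPair Q e f) : e ≠ 0 := by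
  rintro rfl
  have := h.hef
  simp at this

theorem HypPair.f_ne {e f : V} (h : HypPair Q e f) : f ≠ 0 := h.symm.e_ne

variable (Q)

/-- The orthogonal complement of a pair of vectors. -/
def InW (e f w : V) : Prop := polar Q e w = 0 ∧ polar Q f w = 0

variable {Q}

theorem InW.symm {e f w : V} (h : InW Q e f w) : InW Q f e w := ⟨h.2, h.1⟩

theorem InW.add {e f w w' : V} (h : InW Q e f w) (h' : InW Q e f w') : InW Q e f (w + w') :=
  ⟨by rw [polar_add_right, h.1, h'.1, add_zero], by rw [polar_add_right, h.2, h'.2, add_zero]⟩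

theorem InW.smul {e f w : V} (h : InW Q e f w) (c : F) : InW Q e f (c • w) :=
  ⟨by rw [polar_smul_right, h.1, smul_zero], by rw [polar_smul_right, h.2, smul_zero]⟩

theorem InW.neg {e f w : V} (h : InW Q e f w) : InW Q e f (-w) :=
  ⟨by rw [polar_neg_right, h.1, neg_zero], by rw [polar_neg_right, h.2, neg_zero]⟩

theorem InW.zero {e f : V} : InW Q e f 0 := ⟨by simp, by simp⟩

/-- the projection to the complement of a hyperbolic pair -/
theorem HypPair.inW_proj {e f : V} (h : HypPair Q e f) (x : V) :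
    InW Q e f (x - polar Q f x • e - polar Q e x • f) := by
  constructor
  · rw [polar_sub_right, polar_sub_right, polar_smul_right, polar_smul_right, h.hee, h.hef]
    simp
  · rw [polar_sub_right, polar_sub_right, polar_smul_right, polar_smul_right, h.hff, h.hfe]
    simp

theorem siegT_e {e f w : V} (h : HypPair Q e f) (hw : polar Q e w = 0) :
    siegT Q e w e = e := by
  unfold siegT
  rw [h.hee, polar_comm Q w e, hw]
  simp

theorem siegT_f {e f w : V} (h : HypPair Q e f) (hw : InW Q e f w) :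
    siegT Q e w f = f + w - Q w • e := by
  unfold siegT
  rw [h.hef, polar_comm Q w f, hw.2]
  simp

theorem siegT_w {e w x : V} (hx : polar Q e x = 0) :
    siegT Q e w x = x - polar Q w x • e := by
  unfold siegT
  rw [hx]
  simp

/-- Two Siegel transformations with the same centre that agree up to a scalar are equal. -/
theorem siegT_inj {e f w w' : V} (h : HypPair Q e f) (hw : InW Q e f w) (hw' : InW Q e f w')
    {c : F} (hc : siegT Q e w' f = c • siegT Q e w f) : c = 1 ∧ w' = w := by
  rw [siegT_f h hw, siegT_f h hw'] at hc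
  have h1 := congrArg (polar Q e) hc
  rw [polar_sub_right, polar_add_right, polar_smul_right, polar_smul_right, polar_sub_right,
    polar_add_right, polar_smul_right, h.hef, hw.1, hw'.1, h.hee] at h1
  have hc1 : c = 1 := by
    simp at h1
    exact h1.symm
  refine ⟨hc1, ?_⟩
  rw [hc1, one_smul] at hc
  have h2 := congrArg (polar Q f) hc
  rw [polar_sub_right, polar_add_right, polar_smul_right, polar_sub_right,
    polar_add_right, polar_smul_right, h.hfe, hw.2, hw'.2, h.hff] at h2
  have h3 : Q w' = Q w := by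
    simp at h2
    exact h2
  rw [h3] at hc
  have h4 : f + w' = f + w := by
    have := congrArg (· + Q w • e) hc
    simpa using this
  exact add_left_cancel h4

end general

section matrix

variable {ι : Type} [Fintype ι] [DecidableEq ι] {F : Type*} [Field F]
  (Q : QuadraticForm F (ι → F))

/-- Elements of the root subgroup of `e` are `T_{e,w}` with `w` orthogonal to `e` and `f`. -/
theorem exists_inW_of_mem_RI {e f : ι → F} (h : HypPair Q e f)
    {g : ↥(Cfsg.isometryGroup F ⇑Q)} (hg : g ∈ RI Q e h.he) :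
    ∃ (w : ι → F) (hw : InW Q e f w), g = TG Q e w h.he hw.1 := by
  obtain ⟨w, hew, rfl⟩ := hg
  have hw' : InW Q e f (w - polar Q f w • e) := by
    constructor
    · rw [polar_sub_right, polar_smul_right, hew, h.hee]
      simp
    · rw [polar_sub_right, polar_smul_right, h.hfe]
      simp
  refine ⟨w - polar Q f w • e, hw', ?_⟩
  apply eq_TG_of_apply
  intro x
  rw [toOG_TG]
  have e1 : w - polar Q f w • e = w + (-polar Q f w) • e := by module
  have h1 : polar Q e ((-polar Q f w) • e) = 0 := by rw [polar_smul_right, h.hee, smul_zero]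
  rw [e1, ← siegT_siegT Q h.he hew h1, siegT_smul_self Q h.he]

variable [Fintype F] (hQ : (polarBilin Q).Nondegenerate) (hn : 7 ≤ Fintype.card ι)

include hQ hn

theorem exists_inW_of_mem_Rbar {e f : ι → F} (h : HypPair Q e f) {t : Cfsg.POmega F ⇑Q}
    (ht : t ∈ Rbar Q e h.he) :
    ∃ (w : ι → F) (hw : InW Q e f w), t = QuotientGroup.mk (TO Q hQ hn e w h.he hw.1) := by
  obtain ⟨g, hg, rfl⟩ := ht
  obtain ⟨w, hw, hgw⟩ := exists_inW_of_mem_RI Q h hg
  refine ⟨w, hw, ?_⟩
  have e : g = TO Q hQ hn e w h.he hw.1 := Subtype.ext hgw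
  rw [e]
  rfl

/-- `w ↦ T_{e,w}` is injective modulo the centre on the complement of the hyperbolic pair. -/
theorem mk_TO_inj {e f : ι → F} (h : HypPair Q e f) {w w' : ι → F} (hw : InW Q e f w)
    (hw' : InW Q e f w')
    (heq : (QuotientGroup.mk (TO Q hQ hn e w h.he hw.1) : Cfsg.POmega F ⇑Q) =
      QuotientGroup.mk (TO Q hQ hn e w' h.he hw'.1)) : w' = w := by
  obtain ⟨c, -, hc⟩ := scalar_of_mk_eq Q hQ hn heq
  have h1 := hc f
  rw [TO_val, TO_val, toOG_TG, toOG_TG] at h1
  exact (siegT_inj h hw hw' h1).2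

/-- The root subgroups of the two members of a hyperbolic pair meet trivially. -/
theorem Rbar_inf_hyp {e f : ι → F} (h : HypPair Q e f) :
    Rbar Q e h.he ⊓ Rbar Q f h.hf = ⊥ := by
  rw [eq_bot_iff]
  rintro t ⟨ht1, ht2⟩
  obtain ⟨w, hw, rfl⟩ := exists_inW_of_mem_Rbar Q hQ hn h ht1
  obtain ⟨w', hw', heq⟩ := exists_inW_of_mem_Rbar Q hQ hn h.symm ht2
  obtain ⟨c, -, hc⟩ := scalar_of_mk_eq Q hQ hn heq
  have h1 := hc e
  rw [TO_val, TO_val, toOG_TG, toOG_TG, siegT_e h hw.1, siegT_f h.symm hw'] at h1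
  have h2 := congrArg (polar Q f) h1
  rw [polar_sub_right, polar_add_right, polar_smul_right, polar_smul_right, h.hfe, hw'.1,
    h.hff] at h2
  have hc1 : c = 1 := by
    simp at h2
    exact h2.symm
  rw [hc1, one_smul] at h1
  have h3 := congrArg (polar Q e) h1
  rw [polar_sub_right, polar_add_right, polar_smul_right, h.hee, hw'.2, h.hef] at h3
  have h4 : Q w' = 0 := by
    simp at h3
    exact h3
  rw [h4, zero_smul, sub_zero] at h1
  have h5 : w' = 0 := by
    have : e + w' = e + 0 := by rw [add_zero]; exact h1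
    exact add_left_cancel this
  rw [Subgroup.mem_bot, heq]
  have e0 : TO Q hQ hn f w' h.hf hw'.1 = 1 := by
    rw [TO_congr Q hQ hn h.hf hw'.1 h5]
    exact TO_zero Q hQ hn h.hf
  rw [e0]
  rfl

/-- Root subgroups of non-orthogonal singular vectors meet trivially. -/
theorem Rbar_inf_eq_bot {u v : ι → F} (hu : Q u = 0) (hv : Q v = 0) (huv : polar Q u v ≠ 0) :
    Rbar Q u hu ⊓ Rbar Q v hv = ⊥ := by
  have h : HypPair Q u ((polar Q u v)⁻¹ • v) :=
    ⟨hu, by rw [QuadraticMap.map_smul, hv, smul_zero],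
      by rw [polar_smul_right, smul_eq_mul, inv_mul_cancel₀ huv]⟩
  have h1 := Rbar_inf_hyp Q hQ hn h
  rw [Rbar_smul Q hv (inv_ne_zero huv)] at h1
  exact h1

/-- Root subgroups of distinct orthogonal singular points meet non-trivially. -/
theorem Rbar_inf_ne_bot {u v : ι → F} (hu0 : u ≠ 0) (hu : Q u = 0) (hv : Q v = 0)
    (huv : polar Q u v = 0) (hne : ∀ c : F, v ≠ c • u) : Rbar Q u hu ⊓ Rbar Q v hv ≠ ⊥ := by
  intro hbot
  have hvu : polar Q v (-u) = 0 := by rw [polar_neg_right, polar_comm, huv, neg_zero]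
  have hmem : (QuotientGroup.mk (TO Q hQ hn u v hu huv) : Cfsg.POmega F ⇑Q) ∈
      Rbar Q u hu ⊓ Rbar Q v hv := by
    refine ⟨mk_TO_mem_Rbar Q hQ hn hu huv, ?_⟩
    have e : TO Q hQ hn u v hu huv = TO Q hQ hn v (-u) hv hvu := by
      apply Subtype.ext
      apply eq_TG_of_apply
      intro x
      rw [TO_val, toOG_TG]
      unfold siegT
      rw [hv, QuadraticMap.map_neg, hu, polar_neg_left]
      module
    rw [e]
    exact mk_TO_mem_Rbar Q hQ hn hv hvu
  rw [hbot, Subgroup.mem_bot] at hmem
  have hcen : TO Q hQ hn u v hu huv ∈ Subgroup.center ↥(Cfsg.Omega F ⇑Q) :=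
    (QuotientGroup.eq_one_iff _).1 hmem
  obtain ⟨c, hc⟩ := center_scalar Q hQ hn hcen
  obtain ⟨y, hy⟩ : ∃ y, polar Q u y ≠ 0 := by
    by_contra hcon
    push Not at hcon
    apply hu0
    apply hQ.1 u
    intro y
    rw [polarBilin_apply_apply]
    exact hcon y
  have h1 := hc y
  rw [TO_val, toOG_TG] at h1
  unfold siegT at h1
  rw [hv, zero_mul, zero_smul, sub_zero] at h1
  have h2 := congrArg (polar Q u) h1
  rw [polar_sub_right, polar_add_right, polar_smul_right, polar_smul_right, polar_smul_right, huv,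
    polar_self2, hu] at h2
  have hc1 : c = 1 := by
    simp only [smul_eq_mul, mul_zero, add_zero, sub_zero] at h2
    have h3 : (c - 1) * polar Q u y = 0 := by rw [sub_mul, one_mul, ← h2, sub_self]
    have h4 := (mul_eq_zero.1 h3).resolve_right hy
    exact sub_eq_zero.1 h4
  rw [hc1, one_smul] at h1
  apply hne ((polar Q u y)⁻¹ * polar Q v y)
  have h5 : polar Q u y • v = polar Q v y • u := by
    have h6 : y + polar Q u y • v - polar Q v y • u - y = y - y := by rw [h1]
    have h7 : polar Q u y • v - polar Q v y • u = 0 := by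
      rw [sub_self] at h6
      rw [← h6]
      abel
    exact sub_eq_zero.1 h7
  calc v = (polar Q u y)⁻¹ • (polar Q u y • v) := by
        rw [smul_smul, inv_mul_cancel₀ hy, one_smul]
    _ = ((polar Q u y)⁻¹ * polar Q v y) • u := by rw [h5, smul_smul]

/-- The intersection of the root subgroups of `e` and of a singular vector `s` orthogonal to the
hyperbolic pair is the long root group of the line `⟨e, s⟩`. -/
theorem Rbar_inf_line {e f s : ι → F} (h : HypPair Q e f) (hs : Q s = 0) (hsW : InW Q e f s)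
    {t : Cfsg.POmega F ⇑Q} (ht : t ∈ Rbar Q e h.he ⊓ Rbar Q s hs) :
    ∃ c : F, t = QuotientGroup.mk (TO Q hQ hn e (c • s) h.he (hsW.smul c).1) := by
  obtain ⟨ht1, ht2⟩ := ht
  obtain ⟨w, hw, rfl⟩ := exists_inW_of_mem_Rbar Q hQ hn h ht1
  obtain ⟨w', hw', heq⟩ := exists_TO_of_mem_Rbar Q hQ hn ht2
  obtain ⟨c, -, hc⟩ := scalar_of_mk_eq Q hQ hn heq
  have h1 := hc f
  rw [TO_val, TO_val, toOG_TG, toOG_TG, siegT_f h hw] at h1
  have hsf : polar Q s f = 0 := by rw [polar_comm]; exact hsW.2
  have h2 : siegT Q s w' f = f - polar Q w' f • s := by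
    unfold siegT
    rw [hsf]
    simp
  rw [h2] at h1
  have h3 := congrArg (polar Q e) h1
  rw [polar_sub_right, polar_smul_right, polar_smul_right, polar_sub_right, polar_add_right,
    polar_smul_right, h.hef, hsW.1, hw.1, h.hee] at h3
  have hc1 : c = 1 := by
    simp at h3
    exact h3.symm
  rw [hc1, one_smul] at h1
  have h4 := congrArg (polar Q f) h1
  rw [polar_sub_right, polar_smul_right, polar_sub_right, polar_add_right,
    polar_smul_right, h.hff, hsW.2, hw.2, h.hfe] at h4
  have h5 : Q w = 0 := by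
    simp at h4
    exact h4
  rw [h5, zero_smul, sub_zero] at h1
  have h6 : w = (-polar Q w' f) • s := by
    have h7 : f + w = f + (-polar Q w' f) • s := by
      rw [← h1]
      module
    exact add_left_cancel h7
  refine ⟨-polar Q w' f, ?_⟩
  rw [TO_congr Q hQ hn h.he hw.1 h6]

end matrix

end Cfsg.Agent.Lib.Helper18.OrthAut
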