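import Cfsg.Agent.Lib.Helper18.OrthAutC

set_option autoImplicit false

/-!
helper18: automorphisms of `PΩ` fixing the root subgroups of a hyperbolic pair: the induced
additive map `A` on the orthogonal complement `W` of the pair.
-/

namespace Cfsg.Agent.Lib.Helper18.OrthAut

open Module QuadraticMap Matrix Cfsg.Agent.Lib.Helper25.CD Cfsg.Agent.Lib.Helper25.Siegel
  Cfsg.Agent.Lib.Helper25.PS Cfsg.Agent.Lib.Helper25.PAut Cfsg.Agent.Lib.Helper15

section sub

variable {F : Type*} [Field F] {V : Type*} [AddCommGroup V] [Module F V] (Q : QuadraticForm F V)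

/-- The orthogonal complement of a pair of vectors, as a submodule. -/
def Wsub (e f : V) : Submodule F V := perpPair Q ⊤ e f

theorem mem_Wsub {e f w : V} : w ∈ Wsub Q e f ↔ InW Q e f w := by
  unfold Wsub InW
  rw [mem_perpPair]
  simp

theorem Wsub_nd (hQ : (polarBilin Q).Nondegenerate) {e f : V} (h : HypPair Q e f) :
    NdOn Q (Wsub Q e f) :=
  perpPair_nd Q ⊤ (ndOn_top Q hQ) Submodule.mem_top Submodule.mem_top h.he h.hf h.hef

theorem Wsub_finrank [FiniteDimensional F V] {e f : V} (h : HypPair Q e f) :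
    finrank F (Wsub Q e f) + 2 = finrank F V := by
  have := perpPair_finrank Q ⊤ (e := e) (f := f) Submodule.mem_top Submodule.mem_top h.he h.hf
    h.hef
  rw [finrank_top] at this
  exact this

/-- In a nondegenerate subspace of dimension at least three, the singular vectors span. -/
theorem span_singular_of_ndOn [Finite F] [FiniteDimensional F V] {W : Submodule F V}
    (hW : NdOn Q W) (h3 : 3 ≤ finrank F W) {x : V} (hx : x ∈ W) :
    x ∈ Submodule.span F {s : V | s ∈ W ∧ Q s = 0} := by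
  obtain ⟨e, heW, he0, hQe⟩ := exists_singular_in Q W h3
  obtain ⟨f, hfW, hQf, hef⟩ := exists_hyp_partner Q W hW heW he0 hQe
  have hp : HypPair Q e f := ⟨hQe, hQf, hef⟩
  obtain ⟨y, hy⟩ : ∃ y, y = x - polar Q f x • e - polar Q e x • f := ⟨_, rfl⟩
  have hyW : y ∈ W := by
    rw [hy]
    exact W.sub_mem (W.sub_mem hx (W.smul_mem _ heW)) (W.smul_mem _ hfW)
  have hyin : InW Q e f y := by
    rw [hy]
    exact hp.inW_proj x
  have hz : Q (y - Q y • e + f) = 0 := by
    have e1 : y - Q y • e + f = (y + (-Q y) • e) + (1 : F) • f := by module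
    rw [e1, Cfsg.Agent.Lib.Helper25.MaxTS.Q_add_smul, Cfsg.Agent.Lib.Helper25.MaxTS.Q_add_smul,
      hQe, hQf, polar_add_left, polar_smul_left, polar_comm Q y f, hyin.2, polar_comm Q y e,
      hyin.1, hef]
    simp
  have hzW : y - Q y • e + f ∈ W := W.add_mem (W.sub_mem hyW (W.smul_mem _ heW)) hfW
  have hxe : x = (y - Q y • e + f) + (Q y + polar Q f x) • e + (polar Q e x - 1) • f := by
    rw [hy]
    module
  rw [hxe]
  exact add_mem (add_mem (Submodule.subset_span ⟨hzW, hz⟩)
    (Submodule.smul_mem _ _ (Submodule.subset_span ⟨heW, hQe⟩)))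
    (Submodule.smul_mem _ _ (Submodule.subset_span ⟨hfW, hQf⟩))

end sub

section matrix

variable {ι : Type} [Fintype ι] [DecidableEq ι] {F : Type*} [Field F] [Fintype F]
  (Q : QuadraticForm F (ι → F)) (hQ : (polarBilin Q).Nondegenerate) (hn : 7 ≤ Fintype.card ι)

include hQ hn

omit [Fintype F] hQ hn in
theorem Rbar_cast {u u' : ι → F} (hu : Q u = 0) (h : u = u') :
    Rbar Q u hu = Rbar Q u' (h ▸ hu) := by
  subst h
  rfl

omit [DecidableEq ι] [Fintype F] hQ hn in
theorem Wsub_finrank' {e f : ι → F} (h : HypPair Q e f) :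
    finrank F (Wsub Q e f) + 2 = Fintype.card ι := by
  rw [Wsub_finrank Q h, Module.finrank_fintype_fun_eq_card]

/-- long root elements: `T_{u,v} = T_{v,-u}` -/
theorem TO_swap {u v : ι → F} (hu : Q u = 0) (hv : Q v = 0) (huv : polar Q u v = 0) :
    TO Q hQ hn u v hu huv =
      TO Q hQ hn v (-u) hv (by rw [polar_neg_right, polar_comm, huv, neg_zero]) := by
  apply Subtype.ext
  apply eq_TG_of_apply
  intro x
  rw [TO_val, toOG_TG]
  unfold siegT
  rw [hv, QuadraticMap.map_neg, hu, polar_neg_left]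
  module

omit hQ hn in
/-- a nonzero singular vector orthogonal to a hyperbolic pair -/
theorem exists_sing_inW {e f : ι → F} (h : HypPair Q e f) (hn5 : 5 ≤ Fintype.card ι) :
    ∃ s : ι → F, s ≠ 0 ∧ Q s = 0 ∧ InW Q e f s := by
  have hfr := Wsub_finrank' Q h
  obtain ⟨s, hsW, hs0, hs⟩ := exists_singular_in Q (Wsub Q e f) (by omega)
  exact ⟨s, hs0, hs, (mem_Wsub Q).1 hsW⟩

/-- root subgroups are non-trivial -/
theorem Rbar_ne_bot {e f : ι → F} (h : HypPair Q e f) : Rbar Q e h.he ≠ ⊥ := by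
  obtain ⟨s, hs0, hs, hsW⟩ := exists_sing_inW Q h (by omega)
  intro hbot
  have h1 := mk_TO_mem_Rbar Q hQ hn h.he hsW.1
  rw [hbot, Subgroup.mem_bot] at h1
  have hz : InW Q e f 0 := InW.zero
  have h2 : (QuotientGroup.mk (TO Q hQ hn e 0 h.he hz.1) : Cfsg.POmega F ⇑Q) =
      QuotientGroup.mk (TO Q hQ hn e s h.he hsW.1) := by
    rw [h1, TO_zero]
    rfl
  exact hs0 (mk_TO_inj Q hQ hn h hz hsW h2)

/-- the hypothesis: the automorphism permutes the root subgroups -/
def Permutes (β : Cfsg.POmega F ⇑Q ≃* Cfsg.POmega F ⇑Q) : Prop :=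
  ∀ (u : ι → F) (_ : u ≠ 0) (hu : Q u = 0), ∃ (u' : ι → F) (_ : u' ≠ 0) (hu' : Q u' = 0),
    (Rbar Q u hu).map β.toMonoidHom = Rbar Q u' hu'

end matrix

end Cfsg.Agent.Lib.Helper18.OrthAut
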