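import Cfsg.Agent.Lib.Helper18.OrthAutD

set_option autoImplicit false

/-!
helper18: the additive map `A` induced on the complement `W` of a hyperbolic pair by an
automorphism of `PΩ` fixing the root subgroup of `e`.
-/

namespace Cfsg.Agent.Lib.Helper18.OrthAut

open Module QuadraticMap Matrix Cfsg.Agent.Lib.Helper25.CD Cfsg.Agent.Lib.Helper25.Siegel
  Cfsg.Agent.Lib.Helper25.PS Cfsg.Agent.Lib.Helper25.PAut Cfsg.Agent.Lib.Helper15

variable {ι : Type} [Fintype ι] [DecidableEq ι] {F : Type*} [Field F] [Fintype F]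
  (Q : QuadraticForm F (ι → F)) (hQ : (polarBilin Q).Nondegenerate) (hn : 7 ≤ Fintype.card ι)

/-- The class of `T_{e,w}` in `PΩ`, for `w` in the complement of the hyperbolic pair. -/
noncomputable def Tbar {e f : ι → F} (h : HypPair Q e f) (w : ↥(Wsub Q e f)) :
    Cfsg.POmega F ⇑Q :=
  QuotientGroup.mk (TO Q hQ hn e w.1 h.he ((mem_Wsub Q).1 w.2).1)

theorem Tbar_def {e f : ι → F} (h : HypPair Q e f) (w : ↥(Wsub Q e f)) :
    Tbar Q hQ hn h w = QuotientGroup.mk (TO Q hQ hn e w.1 h.he ((mem_Wsub Q).1 w.2).1) := rfl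

theorem Tbar_mk {e f : ι → F} (h : HypPair Q e f) {w : ι → F} (hw : InW Q e f w) :
    Tbar Q hQ hn h ⟨w, (mem_Wsub Q).2 hw⟩ = QuotientGroup.mk (TO Q hQ hn e w h.he hw.1) := rfl

theorem Tbar_add {e f : ι → F} (h : HypPair Q e f) (w w' : ↥(Wsub Q e f)) :
    Tbar Q hQ hn h (w + w') = Tbar Q hQ hn h w * Tbar Q hQ hn h w' := by
  rw [Tbar_def, Tbar_def, Tbar_def, ← QuotientGroup.mk_mul, TO_mul]
  rfl

theorem Tbar_zero {e f : ι → F} (h : HypPair Q e f) : Tbar Q hQ hn h 0 = 1 := by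
  rw [Tbar_def]
  have : TO Q hQ hn e (0 : ↥(Wsub Q e f)).1 h.he ((mem_Wsub Q).1 (0 : ↥(Wsub Q e f)).2).1 = 1 :=
    TO_zero Q hQ hn h.he
  rw [this]
  rfl

theorem Tbar_inj {e f : ι → F} (h : HypPair Q e f) {w w' : ↥(Wsub Q e f)}
    (heq : Tbar Q hQ hn h w = Tbar Q hQ hn h w') : w = w' := by
  apply Subtype.ext
  exact (mk_TO_inj Q hQ hn h ((mem_Wsub Q).1 w.2) ((mem_Wsub Q).1 w'.2) heq).symm

theorem Tbar_mem {e f : ι → F} (h : HypPair Q e f) (w : ↥(Wsub Q e f)) :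
    Tbar Q hQ hn h w ∈ Rbar Q e h.he :=
  mk_TO_mem_Rbar Q hQ hn h.he _

theorem exists_Tbar {e f : ι → F} (h : HypPair Q e f) {t : Cfsg.POmega F ⇑Q}
    (ht : t ∈ Rbar Q e h.he) : ∃ w : ↥(Wsub Q e f), t = Tbar Q hQ hn h w := by
  obtain ⟨w, hw, rfl⟩ := exists_inW_of_mem_Rbar Q hQ hn h ht
  exact ⟨⟨w, (mem_Wsub Q).2 hw⟩, rfl⟩

theorem Tbar_neg {e f : ι → F} (h : HypPair Q e f) (w : ↥(Wsub Q e f)) :
    Tbar Q hQ hn h (-w) = (Tbar Q hQ hn h w)⁻¹ := by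
  apply eq_inv_of_mul_eq_one_left
  rw [← Tbar_add, neg_add_cancel, Tbar_zero]

section amap

variable {e f : ι → F} (h : HypPair Q e f) (β : Cfsg.POmega F ⇑Q ≃* Cfsg.POmega F ⇑Q)
  (hβ : (Rbar Q e h.he).map β.toMonoidHom = Rbar Q e h.he)

include hβ in
theorem exists_Amap (w : ↥(Wsub Q e f)) :
    ∃ w' : ↥(Wsub Q e f), β (Tbar Q hQ hn h w) = Tbar Q hQ hn h w' := by
  apply exists_Tbar
  rw [← hβ]
  exact ⟨_, Tbar_mem Q hQ hn h w, rfl⟩

/-- The map induced on `W` by `β`. -/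
noncomputable def Amap (w : ↥(Wsub Q e f)) : ↥(Wsub Q e f) :=
  Classical.choose (exists_Amap Q hQ hn h β hβ w)

theorem Amap_spec (w : ↥(Wsub Q e f)) :
    β (Tbar Q hQ hn h w) = Tbar Q hQ hn h (Amap Q hQ hn h β hβ w) :=
  Classical.choose_spec (exists_Amap Q hQ hn h β hβ w)

theorem Amap_add (w w' : ↥(Wsub Q e f)) :
    Amap Q hQ hn h β hβ (w + w') = Amap Q hQ hn h β hβ w + Amap Q hQ hn h β hβ w' := by
  apply Tbar_inj Q hQ hn h
  rw [← Amap_spec, Tbar_add, map_mul, Amap_spec Q hQ hn h β hβ w, Amap_spec Q hQ hn h β hβ w',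
    ← Tbar_add]

theorem Amap_zero : Amap Q hQ hn h β hβ 0 = 0 := by
  apply Tbar_inj Q hQ hn h
  rw [← Amap_spec, Tbar_zero, map_one]

theorem Amap_neg (w : ↥(Wsub Q e f)) :
    Amap Q hQ hn h β hβ (-w) = -Amap Q hQ hn h β hβ w := by
  apply eq_neg_of_add_eq_zero_left
  rw [← Amap_add, neg_add_cancel, Amap_zero]

theorem Amap_unique {w w' : ↥(Wsub Q e f)}
    (hw : β (Tbar Q hQ hn h w) = Tbar Q hQ hn h w') : Amap Q hQ hn h β hβ w = w' := by
  apply Tbar_inj Q hQ hn h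
  rw [← Amap_spec, hw]

include hβ in
theorem symm_fix : (Rbar Q e h.he).map β.symm.toMonoidHom = Rbar Q e h.he := by
  nth_rewrite 1 [← hβ]
  rw [Subgroup.map_map]
  have : β.symm.toMonoidHom.comp β.toMonoidHom = MonoidHom.id _ := by
    ext x
    simp
  rw [this, Subgroup.map_id]

theorem Amap_symm_left (w : ↥(Wsub Q e f)) :
    Amap Q hQ hn h β.symm (symm_fix Q h β hβ) (Amap Q hQ hn h β hβ w) = w := by
  apply Amap_unique
  rw [← Amap_spec]
  simp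

theorem Amap_symm_right (w : ↥(Wsub Q e f)) :
    Amap Q hQ hn h β hβ (Amap Q hQ hn h β.symm (symm_fix Q h β hβ) w) = w := by
  apply Amap_unique
  rw [← Amap_spec]
  simp

theorem Amap_injective : Function.Injective (Amap Q hQ hn h β hβ) := by
  intro w w' hww
  rw [← Amap_symm_left Q hQ hn h β hβ w, hww, Amap_symm_left]

theorem Amap_surjective : Function.Surjective (Amap Q hQ hn h β hβ) :=
  fun w => ⟨_, Amap_symm_right Q hQ hn h β hβ w⟩

theorem Amap_eq_zero {w : ↥(Wsub Q e f)} (hw : Amap Q hQ hn h β hβ w = 0) : w = 0 := by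
  apply Amap_injective Q hQ hn h β hβ
  rw [hw, Amap_zero]

end amap

end Cfsg.Agent.Lib.Helper18.OrthAut
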