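import Cfsg.Agent.Lib.Helper18.OrthAutE

set_option autoImplicit false

/-!
helper18: the map `A` induced by a normalised automorphism sends singular lines to singular lines
and preserves orthogonality to singular vectors.
-/

namespace Cfsg.Agent.Lib.Helper18.OrthAut

open Module QuadraticMap Matrix Cfsg.Agent.Lib.Helper25.CD Cfsg.Agent.Lib.Helper25.Siegel
  Cfsg.Agent.Lib.Helper25.PS Cfsg.Agent.Lib.Helper25.PAut Cfsg.Agent.Lib.Helper15

variable {ι : Type} [Fintype ι] [DecidableEq ι] {F : Type*} [Field F] [Fintype F]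
  (Q : QuadraticForm F (ι → F)) (hQ : (polarBilin Q).Nondegenerate) (hn : 7 ≤ Fintype.card ι)

omit [Fintype F] in
theorem Rbar_congr {u u' : ι → F} (hu : Q u = 0) (hu' : Q u' = 0) (h : u = u') :
    Rbar Q u hu = Rbar Q u' hu' := by
  subst h
  rfl

/-- long root elements: `T_{u,cv} = T_{v,-cu}` -/
theorem TO_swap' {u v : ι → F} (hu : Q u = 0) (hv : Q v = 0) (huv : polar Q u v = 0) (c : F) :
    TO Q hQ hn u (c • v) hu (by rw [polar_smul_right, huv, smul_zero]) =
      TO Q hQ hn v ((-c) • u) hv (by rw [polar_smul_right, polar_comm, huv, smul_zero]) := by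
  apply Subtype.ext
  apply eq_TG_of_apply
  intro x
  rw [TO_val, toOG_TG]
  unfold siegT
  rw [QuadraticMap.map_smul, QuadraticMap.map_smul, hu, hv, polar_smul_left, polar_smul_left]
  simp only [smul_eq_mul]
  module

omit [Fintype F] in
/-- maps of intersections under an automorphism -/
theorem map_inf_equiv {G : Type*} [Group G] (β : G ≃* G) (H K : Subgroup G) :
    (H ⊓ K).map β.toMonoidHom = H.map β.toMonoidHom ⊓ K.map β.toMonoidHom :=
  Subgroup.map_inf H K β.toMonoidHom β.injective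

omit [Fintype F] in
theorem map_conj_equiv {G : Type*} [Group G] (β : G ≃* G) (H : Subgroup G) (x : G) :
    (H.map (MulAut.conj x).toMonoidHom).map β.toMonoidHom =
      (H.map β.toMonoidHom).map (MulAut.conj (β x)).toMonoidHom := by
  rw [Subgroup.map_map, Subgroup.map_map]
  congr 1
  ext y
  simp

section hyp

variable {e f : ι → F} (h : HypPair Q e f)

omit [Fintype F] [Fintype ι] [DecidableEq ι] in
include h in
theorem inW_ne_smul_e {s : ι → F} (hs0 : s ≠ 0) (hsW : InW Q e f s) (c : F) : s ≠ c • e := by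
  intro hse
  have h1 := hsW.2
  rw [hse, polar_smul_right, h.hfe, smul_eq_mul, mul_one] at h1
  rw [h1, zero_smul] at hse
  exact hs0 hse

omit [Fintype F] [Fintype ι] [DecidableEq ι] in
include h in
theorem f_ne_smul_inW {s : ι → F} (hsW : InW Q e f s) (c : F) : f ≠ c • s := by
  intro hfs
  have h1 := h.hef
  rw [hfs, polar_smul_right, hsW.1, smul_zero] at h1
  exact zero_ne_one h1

/-- `T_{e,w}` normalises the root subgroup of the singular vector `s` of `W` exactly when `w` is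
orthogonal to `s`. -/
theorem normalises_iff (w s : ↥(Wsub Q e f)) (hs0 : s ≠ 0) (hs : Q s.1 = 0) :
    (Rbar Q s.1 hs).map (MulAut.conj (Tbar Q hQ hn h w)).toMonoidHom = Rbar Q s.1 hs ↔
      polar Q w.1 s.1 = 0 := by
  have hsW := (mem_Wsub Q).1 s.2
  have hwW := (mem_Wsub Q).1 w.2
  have hs0' : s.1 ≠ 0 := fun h0 => hs0 (Subtype.ext h0)
  have e1 : toOG Q (TO Q hQ hn e w.1 h.he hwW.1).1 s.1 = s.1 - polar Q w.1 s.1 • e := by
    rw [TO_val, toOG_TG, siegT_w hsW.1]
  have hQ' : Q (s.1 - polar Q w.1 s.1 • e) = 0 := by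
    rw [← e1, Q_toOG, hs]
  have hmap : (Rbar Q s.1 hs).map (MulAut.conj (Tbar Q hQ hn h w)).toMonoidHom =
      Rbar Q (s.1 - polar Q w.1 s.1 • e) hQ' := by
    rw [Tbar_def, map_conj_Rbar Q _ hs]
    exact Rbar_congr Q _ _ e1
  rw [hmap]
  constructor
  · intro heq
    by_contra ha
    have h1 : Rbar Q s.1 hs ⊓ Rbar Q f h.hf ≠ ⊥ :=
      Rbar_inf_ne_bot Q hQ hn hs0' hs h.hf (by rw [polar_comm]; exact hsW.2)
        (f_ne_smul_inW Q h hsW)
    apply h1
    rw [← heq]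
    apply Rbar_inf_eq_bot Q hQ hn
    rw [polar_sub_left, polar_smul_left, polar_comm Q s.1 f, hsW.2, h.hef]
    simpa using ha
  · intro ha
    apply Rbar_congr
    rw [ha, zero_smul, sub_zero]

end hyp

section normalised

variable {e f : ι → F} (h : HypPair Q e f) (β : Cfsg.POmega F ⇑Q ≃* Cfsg.POmega F ⇑Q)
  (hβ : (Rbar Q e h.he).map β.toMonoidHom = Rbar Q e h.he)
  (hβf : (Rbar Q f h.hf).map β.toMonoidHom = Rbar Q f h.hf)
  (hperm : Permutes Q β)

include hβf hperm in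
/-- the image of the root subgroup of a singular vector of `W` -/
theorem line_data (s : ↥(Wsub Q e f)) (hs0 : s ≠ 0) (hs : Q s.1 = 0) :
    ∃ hAs : Q (Amap Q hQ hn h β hβ s).1 = 0,
      (Rbar Q s.1 hs).map β.toMonoidHom = Rbar Q (Amap Q hQ hn h β hβ s).1 hAs ∧
      ∀ c : F, ∃ c' : F, Amap Q hQ hn h β hβ (c • s) = c' • Amap Q hQ hn h β hβ s := by
  have hsW := (mem_Wsub Q).1 s.2
  have hs0' : s.1 ≠ 0 := fun h0 => hs0 (Subtype.ext h0)
  obtain ⟨t, ht0, ht, hmap⟩ := hperm s.1 hs0' hs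
  -- `t` is orthogonal to `e` and `f`
  have hte : polar Q e t = 0 := by
    by_contra hne
    have h1 := Rbar_inf_eq_bot Q hQ hn h.he ht hne
    rw [← hβ, ← hmap, ← map_inf_equiv] at h1
    have h2 := (Subgroup.map_eq_bot_iff_of_injective _ β.injective).1 h1
    exact Rbar_inf_ne_bot Q hQ hn h.e_ne h.he hs hsW.1 (inW_ne_smul_e Q h hs0' hsW) h2
  have htf : polar Q f t = 0 := by
    by_contra hne
    have h1 := Rbar_inf_eq_bot Q hQ hn h.hf ht hne
    rw [← hβf, ← hmap, ← map_inf_equiv] at h1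
    have h2 := (Subgroup.map_eq_bot_iff_of_injective _ β.injective).1 h1
    exact Rbar_inf_ne_bot Q hQ hn h.f_ne h.hf hs hsW.2 (inW_ne_smul_e Q h.symm hs0' hsW.symm) h2
  have htW : InW Q e f t := ⟨hte, htf⟩
  -- images of the elements of the long root group
  have key : ∀ c : F, ∃ c' : F, (Amap Q hQ hn h β hβ (c • s)).1 = c' • t := by
    intro c
    have hmem : Tbar Q hQ hn h (c • s) ∈ Rbar Q e h.he ⊓ Rbar Q s.1 hs := by
      refine ⟨Tbar_mem Q hQ hn h _, ?_⟩
      rw [Tbar_def]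
      have e1 : TO Q hQ hn e (c • s : ↥(Wsub Q e f)).1 h.he
          ((mem_Wsub Q).1 (c • s : ↥(Wsub Q e f)).2).1 =
          TO Q hQ hn s.1 ((-c) • e) hs (by rw [polar_smul_right, polar_comm, hsW.1, smul_zero]) :=
        TO_swap' Q hQ hn h.he hs hsW.1 c
      rw [e1]
      exact mk_TO_mem_Rbar Q hQ hn hs _
    have hmem' : β (Tbar Q hQ hn h (c • s)) ∈ Rbar Q e h.he ⊓ Rbar Q t ht := by
      rw [← hβ, ← hmap, ← map_inf_equiv]
      exact ⟨_, hmem, rfl⟩
    obtain ⟨c', hc'⟩ := Rbar_inf_line Q hQ hn h ht htW hmem'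
    refine ⟨c', ?_⟩
    rw [Amap_spec Q hQ hn h β hβ] at hc'
    have := Tbar_inj Q hQ hn h (w' := ⟨c' • t, (mem_Wsub Q).2 (htW.smul c')⟩) hc'
    rw [this]
  obtain ⟨c₁, hc₁⟩ := key 1
  rw [one_smul] at hc₁
  have hc₁0 : c₁ ≠ 0 := by
    rintro rfl
    rw [zero_smul] at hc₁
    exact hs0 (Amap_eq_zero Q hQ hn h β hβ (Subtype.ext hc₁))
  have ht' : t = c₁⁻¹ • (Amap Q hQ hn h β hβ s).1 := by
    rw [hc₁, smul_smul, inv_mul_cancel₀ hc₁0, one_smul]
  have hAs : Q (Amap Q hQ hn h β hβ s).1 = 0 := by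
    rw [hc₁, QuadraticMap.map_smul, ht, smul_zero]
  refine ⟨hAs, ?_, ?_⟩
  · rw [hmap, ← Rbar_smul Q hAs (inv_ne_zero hc₁0)]
    exact Rbar_congr Q _ _ ht'
  · intro c
    obtain ⟨c', hc'⟩ := key c
    refine ⟨c' * c₁⁻¹, ?_⟩
    apply Subtype.ext
    rw [hc', ht', smul_smul]
    rfl

include hβf hperm in
/-- `A` preserves orthogonality to singular vectors. -/
theorem perp_iff (w s : ↥(Wsub Q e f)) (hs0 : s ≠ 0) (hs : Q s.1 = 0) :
    polar Q w.1 s.1 = 0 ↔
      polar Q (Amap Q hQ hn h β hβ w).1 (Amap Q hQ hn h β hβ s).1 = 0 := by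
  obtain ⟨hAs, hmap, -⟩ := line_data Q hQ hn h β hβ hβf hperm s hs0 hs
  have hAs0 : Amap Q hQ hn h β hβ s ≠ 0 := fun h0 => hs0 (Amap_eq_zero Q hQ hn h β hβ h0)
  rw [← normalises_iff Q hQ hn h w s hs0 hs,
    ← normalises_iff Q hQ hn h (Amap Q hQ hn h β hβ w) (Amap Q hQ hn h β hβ s) hAs0 hAs,
    ← Amap_spec, ← hmap, ← map_conj_equiv]
  constructor
  · intro h1
    rw [h1]
  · intro h1
    exact Subgroup.map_injective β.injective h1

end normalised

end Cfsg.Agent.Lib.Helper18.OrthAut
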