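import Cfsg.Agent.Lib.Helper18.OrthAutF

set_option autoImplicit false

/-!
helper18: the map `A` induced by a normalised automorphism is semilinear.
-/

namespace Cfsg.Agent.Lib.Helper18.OrthAut

open Module QuadraticMap Matrix Cfsg.Agent.Lib.Helper25.CD Cfsg.Agent.Lib.Helper25.Siegel
  Cfsg.Agent.Lib.Helper25.PS Cfsg.Agent.Lib.Helper25.PAut Cfsg.Agent.Lib.Helper15

section sub

variable {F : Type*} [Field F] {V : Type*} [AddCommGroup V] [Module F V] (Q : QuadraticForm F V)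

theorem smul_mem_addClosure_singular {W : Submodule F V} (a : F) {y : V}
    (hy : y ∈ AddSubgroup.closure {s : V | s ∈ W ∧ Q s = 0}) :
    a • y ∈ AddSubgroup.closure {s : V | s ∈ W ∧ Q s = 0} := by
  induction hy using AddSubgroup.closure_induction with
  | mem z hz =>
    exact AddSubgroup.subset_closure
      ⟨W.smul_mem _ hz.1, by rw [QuadraticMap.map_smul, hz.2, smul_zero]⟩
  | zero => rw [smul_zero]; exact zero_mem _
  | add y z _ _ hy hz => rw [smul_add]; exact add_mem hy hz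
  | neg y _ hy => rw [smul_neg]; exact neg_mem hy

/-- In a nondegenerate subspace of dimension at least three, every vector is a sum of singular
vectors. -/
theorem mem_addClosure_singular [Finite F] [FiniteDimensional F V] {W : Submodule F V}
    (hW : NdOn Q W) (h3 : 3 ≤ finrank F W) {x : V} (hx : x ∈ W) :
    x ∈ AddSubgroup.closure {s : V | s ∈ W ∧ Q s = 0} := by
  have h1 := span_singular_of_ndOn Q hW h3 hx
  clear hx
  induction h1 using Submodule.span_induction with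
  | mem y hy => exact AddSubgroup.subset_closure hy
  | zero => exact zero_mem _
  | add y z _ _ hy hz => exact add_mem hy hz
  | smul a y _ hy => exact smul_mem_addClosure_singular Q a hy

/-- a singular vector orthogonal to two non-orthogonal singular vectors of a nondegenerate
subspace of dimension at least five -/
theorem exists_sing_perp_two [Finite F] [FiniteDimensional F V] {W : Submodule F V}
    (h5 : 5 ≤ finrank F W) {s s' : V} (hsW : s ∈ W) (hs'W : s' ∈ W)
    (hs : Q s = 0) (hs' : Q s' = 0) (hss' : polar Q s s' ≠ 0) :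
    ∃ z ∈ W, z ≠ 0 ∧ Q z = 0 ∧ polar Q s z = 0 ∧ polar Q s' z = 0 := by
  obtain ⟨s₁, hs₁⟩ : ∃ s₁, s₁ = (polar Q s s')⁻¹ • s' := ⟨_, rfl⟩
  have hs₁W : s₁ ∈ W := by rw [hs₁]; exact W.smul_mem _ hs'W
  have hQs₁ : Q s₁ = 0 := by rw [hs₁, QuadraticMap.map_smul, hs', smul_zero]
  have hp : polar Q s s₁ = 1 := by
    rw [hs₁, polar_smul_right, smul_eq_mul, inv_mul_cancel₀ hss']
  have hfr := perpPair_finrank Q W hsW hs₁W hs hQs₁ hp
  obtain ⟨z, hzW, hz0, hQz⟩ := exists_singular_in Q (perpPair Q W s s₁) (by omega)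
  rw [mem_perpPair] at hzW
  refine ⟨z, hzW.1, hz0, hQz, hzW.2.1, ?_⟩
  have e : s' = polar Q s s' • s₁ := by
    rw [hs₁, smul_smul, mul_inv_cancel₀ hss', one_smul]
  rw [e, polar_smul_left, hzW.2.2, smul_zero]

/-- a second singular point orthogonal to a given one -/
theorem exists_sing_perp_one [Finite F] [FiniteDimensional F V] {W : Submodule F V}
    (hW : NdOn Q W) (h5 : 5 ≤ finrank F W) {s : V} (hsW : s ∈ W) (hs0 : s ≠ 0) (hs : Q s = 0) :
    ∃ z ∈ W, z ≠ 0 ∧ Q z = 0 ∧ polar Q s z = 0 ∧ ∀ d : F, z ≠ d • s := by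
  obtain ⟨s₁, hs₁W, hQs₁, hp⟩ := exists_hyp_partner Q W hW hsW hs0 hs
  obtain ⟨z, hzW, hz0, hQz, hsz, hs₁z⟩ := exists_sing_perp_two Q h5 hsW hs₁W hs hQs₁
    (by rw [hp]; exact one_ne_zero)
  refine ⟨z, hzW, hz0, hQz, hsz, ?_⟩
  intro d hd
  rw [hd, polar_smul_right, polar_comm, hp, smul_eq_mul, mul_one] at hs₁z
  rw [hs₁z, zero_smul] at hd
  exact hz0 hd

end sub

variable {ι : Type} [Fintype ι] [DecidableEq ι] {F : Type*} [Field F] [Fintype F]
  (Q : QuadraticForm F (ι → F)) (hQ : (polarBilin Q).Nondegenerate) (hn : 7 ≤ Fintype.card ι)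

section normalised

variable {e f : ι → F} (h : HypPair Q e f) (β : Cfsg.POmega F ⇑Q ≃* Cfsg.POmega F ⇑Q)
  (hβ : (Rbar Q e h.he).map β.toMonoidHom = Rbar Q e h.he)
  (hβf : (Rbar Q f h.hf).map β.toMonoidHom = Rbar Q f h.hf)
  (hperm : Permutes Q β)

local notation "A" => Amap Q hQ hn h β hβ

include hβf hperm in
/-- the image of a singular vector is singular -/
theorem Amap_sing (s : ↥(Wsub Q e f)) (hs : Q s.1 = 0) : Q (A s).1 = 0 := by
  by_cases hs0 : s = 0
  · rw [hs0, Amap_zero]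
    exact map_zero Q
  · exact (line_data Q hQ hn h β hβ hβf hperm s hs0 hs).1

include hβf hperm in
/-- the coefficient map of a singular line is surjective -/
theorem line_surj (s : ↥(Wsub Q e f)) (hs0 : s ≠ 0) (hs : Q s.1 = 0) (d : F) :
    ∃ c : F, A (c • s) = d • A s := by
  obtain ⟨-, -, hline⟩ := line_data Q hQ hn h β hβ hβf hperm s hs0 hs
  have hAs0 : A s ≠ 0 := fun h0 => hs0 (Amap_eq_zero Q hQ hn h β hβ h0)
  choose τ hτ using hline
  have hinj : Function.Injective τ := by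
    intro c c' hcc
    have h1 : A (c • s) = A (c' • s) := by rw [hτ, hτ, hcc]
    have h2 := Amap_injective Q hQ hn h β hβ h1
    have h3 : (c - c') • s = 0 := by
      have := sub_smul c c' s
      rw [this, h2, sub_self]
    exact sub_eq_zero.1 ((smul_eq_zero.1 h3).resolve_right hs0)
  obtain ⟨c, hc⟩ := (Finite.injective_iff_surjective.1 hinj) d
  exact ⟨c, by rw [hτ, hc]⟩

include hβf hperm in
/-- images of distinct singular points are distinct -/
theorem Amap_indep (s s' : ↥(Wsub Q e f)) (hs0 : s ≠ 0) (hs : Q s.1 = 0)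
    (hne : ∀ d : F, s' ≠ d • s) (d : F) : A s' ≠ d • A s := by
  intro heq
  obtain ⟨c, hc⟩ := line_surj Q hQ hn h β hβ hβf hperm s hs0 hs d
  rw [← heq] at hc
  exact hne c (Amap_injective Q hQ hn h β hβ hc).symm

include hβf hperm in
/-- the coefficients of two orthogonal singular lines agree -/
theorem coeff_perp (s s' : ↥(Wsub Q e f)) (hs0 : s ≠ 0) (hs : Q s.1 = 0) (hs' : Q s'.1 = 0)
    (hss' : polar Q s.1 s'.1 = 0) (hne : ∀ d : F, s' ≠ d • s) {c a a' : F}
    (ha : A (c • s) = a • A s) (ha' : A (c • s') = a' • A s') : a = a' := by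
  have hs'0 : s' ≠ 0 := by
    intro h0
    exact hne 0 (by rw [h0, zero_smul])
  have hsum0 : s + s' ≠ 0 := by
    intro h0
    apply hne (-1)
    have := neg_one_smul F s
    rw [this]
    exact eq_neg_of_add_eq_zero_right h0
  have hsumQ : Q (s + s').1 = 0 := by
    show Q (s.1 + s'.1) = 0
    rw [Cfsg.Agent.Lib.Helper25.MaxTS.Q_add, hs, hs', hss']
    ring
  obtain ⟨-, -, hline⟩ := line_data Q hQ hn h β hβ hβf hperm (s + s') hsum0 hsumQ
  obtain ⟨a'', ha''⟩ := hline c
  rw [smul_add, Amap_add, Amap_add, ha, ha', smul_add] at ha''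
  have hAs0 : A s ≠ 0 := fun h0 => hs0 (Amap_eq_zero Q hQ hn h β hβ h0)
  have h1 : (a - a'') • A s = (a'' - a') • A s' := by
    have h0 : (a - a'') • A s - (a'' - a') • A s' =
        (a • A s + a' • A s') - (a'' • A s + a'' • A s') := by module
    rw [ha'', sub_self] at h0
    exact sub_eq_zero.1 h0
  have h2 : a'' - a' = 0 := by
    by_contra hne0
    apply Amap_indep Q hQ hn h β hβ hβf hperm s s' hs0 hs hne ((a'' - a')⁻¹ * (a - a''))
    rw [← smul_smul, h1, smul_smul, inv_mul_cancel₀ hne0, one_smul]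
  rw [h2, zero_smul] at h1
  have h3 : a - a'' = 0 := (smul_eq_zero.1 h1).resolve_right hAs0
  rw [sub_eq_zero] at h2 h3
  rw [h3, h2]

omit [Fintype ι] [DecidableEq ι] [Fintype F] in
theorem Wsub_smul_val (c : F) (w : ↥(Wsub Q e f)) : (c • w).1 = c • w.1 := rfl

omit [Fintype ι] [DecidableEq ι] [Fintype F] in
theorem Wsub_add_val (w w' : ↥(Wsub Q e f)) : (w + w').1 = w.1 + w'.1 := rfl

include h hQ hn in
omit [DecidableEq ι] in
/-- a third singular point orthogonal to two given ones -/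
theorem exists_third (s s' : ↥(Wsub Q e f)) (hs0 : s ≠ 0) (hs : Q s.1 = 0) (hs'0 : s' ≠ 0)
    (hs' : Q s'.1 = 0) (hcase : polar Q s.1 s'.1 ≠ 0 ∨ ∃ d : F, s' = d • s) :
    ∃ z : ↥(Wsub Q e f), z ≠ 0 ∧ Q z.1 = 0 ∧ polar Q s.1 z.1 = 0 ∧ polar Q s'.1 z.1 = 0 ∧
      (∀ d : F, z ≠ d • s) ∧ (∀ d : F, z ≠ d • s') := by
  have hW := Wsub_nd Q hQ h
  have hfr := Wsub_finrank' Q h
  have h5 : 5 ≤ finrank F (Wsub Q e f) := by omega
  have hs0' : s.1 ≠ 0 := fun h0 => hs0 (Subtype.ext h0)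
  have hs'0' : s'.1 ≠ 0 := fun h0 => hs'0 (Subtype.ext h0)
  rcases hcase with hcase | ⟨d, hd⟩
  · obtain ⟨z, hzW, hz0, hQz, hsz, hs'z⟩ := exists_sing_perp_two Q h5 s.2 s'.2 hs hs' hcase
    refine ⟨⟨z, hzW⟩, fun h0 => hz0 (congrArg Subtype.val h0), hQz, hsz, hs'z, ?_, ?_⟩
    · intro d hd
      have hd' : z = d • s.1 := congrArg Subtype.val hd
      rw [hd', polar_smul_right, polar_comm, smul_eq_mul] at hs'z
      have hd0 : d = 0 := (mul_eq_zero.1 hs'z).resolve_right hcase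
      rw [hd0, zero_smul] at hd'
      exact hz0 hd'
    · intro d hd
      have hd' : z = d • s'.1 := congrArg Subtype.val hd
      rw [hd', polar_smul_right, smul_eq_mul] at hsz
      have hd0 : d = 0 := (mul_eq_zero.1 hsz).resolve_right hcase
      rw [hd0, zero_smul] at hd'
      exact hz0 hd'
  · obtain ⟨z, hzW, hz0, hQz, hsz, hne⟩ := exists_sing_perp_one Q hW h5 s.2 hs0' hs
    have hd' : s'.1 = d • s.1 := congrArg Subtype.val hd
    have hd0 : d ≠ 0 := by
      rintro rfl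
      rw [zero_smul] at hd'
      exact hs'0' hd'
    refine ⟨⟨z, hzW⟩, fun h0 => hz0 (congrArg Subtype.val h0), hQz, hsz, ?_, ?_, ?_⟩
    · rw [hd', polar_smul_left, hsz, smul_zero]
    · intro d' hd''
      exact hne d' (congrArg Subtype.val hd'')
    · intro d' hd''
      have : z = d' • s'.1 := congrArg Subtype.val hd''
      rw [hd', smul_smul] at this
      exact hne _ this

include hβf hperm in
/-- the coefficients of any two singular lines agree -/
theorem coeff_all (s s' : ↥(Wsub Q e f)) (hs0 : s ≠ 0) (hs : Q s.1 = 0) (hs'0 : s' ≠ 0)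
    (hs' : Q s'.1 = 0) {c a a' : F}
    (ha : A (c • s) = a • A s) (ha' : A (c • s') = a' • A s') : a = a' := by
  by_cases hcase : polar Q s.1 s'.1 ≠ 0 ∨ ∃ d : F, s' = d • s
  · obtain ⟨z, hz0, hQz, hsz, hs'z, hne, hne'⟩ := exists_third Q hQ hn h s s' hs0 hs hs'0 hs' hcase
    obtain ⟨-, -, hline⟩ := line_data Q hQ hn h β hβ hβf hperm z hz0 hQz
    obtain ⟨az, haz⟩ := hline c
    rw [coeff_perp Q hQ hn h β hβ hβf hperm s z hs0 hs hQz hsz hne ha haz,
      coeff_perp Q hQ hn h β hβ hβf hperm s' z hs'0 hs' hQz hs'z hne' ha' haz]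
  · push Not at hcase
    exact coeff_perp Q hQ hn h β hβ hβf hperm s s' hs0 hs hs' hcase.1 hcase.2 ha ha'

include hβf hperm in
/-- `A` is semilinear with respect to a field automorphism. -/
theorem exists_sigma : ∃ σ : F ≃+* F, ∀ (w : ↥(Wsub Q e f)) (c : F), A (c • w) = σ c • A w := by
  obtain ⟨s₀v, hs₀0v, hs₀, hs₀W⟩ := exists_sing_inW Q h (by omega)
  obtain ⟨s₀, hs₀def⟩ : ∃ s₀ : ↥(Wsub Q e f), s₀ = ⟨s₀v, (mem_Wsub Q).2 hs₀W⟩ := ⟨_, rfl⟩
  have hs₀0 : s₀ ≠ 0 := by
    intro h0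
    apply hs₀0v
    have := congrArg Subtype.val h0
    rw [hs₀def] at this
    exact this
  have hQs₀ : Q s₀.1 = 0 := by rw [hs₀def]; exact hs₀
  obtain ⟨-, -, hline⟩ := line_data Q hQ hn h β hβ hβf hperm s₀ hs₀0 hQs₀
  choose σ₀ hσ₀ using hline
  have hAs₀ : A s₀ ≠ 0 := fun h0 => hs₀0 (Amap_eq_zero Q hQ hn h β hβ h0)
  have cancel : ∀ a b : F, a • A s₀ = b • A s₀ → a = b := by
    intro a b hab
    have h1 : (a - b) • A s₀ = 0 := by
      have := sub_smul a b (A s₀)
      rw [this, hab, sub_self]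
    exact sub_eq_zero.1 ((smul_eq_zero.1 h1).resolve_right hAs₀)
  -- singular vectors
  have key : ∀ (s : ↥(Wsub Q e f)), Q s.1 = 0 → ∀ c : F, A (c • s) = σ₀ c • A s := by
    intro s hs c
    by_cases hs0 : s = 0
    · rw [hs0, smul_zero, Amap_zero, smul_zero]
    · obtain ⟨-, -, hline⟩ := line_data Q hQ hn h β hβ hβf hperm s hs0 hs
      obtain ⟨a, ha⟩ := hline c
      rw [ha, coeff_all Q hQ hn h β hβ hβf hperm s₀ s hs₀0 hQs₀ hs0 hs (hσ₀ c) ha]
  -- all vectors
  have hW := Wsub_nd Q hQ h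
  have hfr := Wsub_finrank' Q h
  have ext : ∀ (w : ↥(Wsub Q e f)) (c : F), A (c • w) = σ₀ c • A w := by
    intro w c
    have hmem := mem_addClosure_singular Q hW (by omega) w.2
    have hle : AddSubgroup.closure {s : ι → F | s ∈ Wsub Q e f ∧ Q s = 0} ≤
        (Wsub Q e f).toAddSubgroup := by
      rw [AddSubgroup.closure_le]
      intro s hs
      exact hs.1
    have gen : ∀ x : ι → F, x ∈ AddSubgroup.closure {s : ι → F | s ∈ Wsub Q e f ∧ Q s = 0} →
        ∀ hx : x ∈ Wsub Q e f, A (c • (⟨x, hx⟩ : ↥(Wsub Q e f))) = σ₀ c • A ⟨x, hx⟩ := by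
      intro x hx
      induction hx using AddSubgroup.closure_induction with
      | mem y hy =>
        intro hyW
        exact key ⟨y, hyW⟩ hy.2 c
      | zero =>
        intro _
        have : (⟨0, (Wsub Q e f).zero_mem⟩ : ↥(Wsub Q e f)) = 0 := rfl
        rw [this, smul_zero, Amap_zero, smul_zero]
      | add y z hy hz ihy ihz =>
        intro _
        have hyW : y ∈ Wsub Q e f := hle hy
        have hzW : z ∈ Wsub Q e f := hle hz
        have e1 : (⟨y + z, ‹_›⟩ : ↥(Wsub Q e f)) = ⟨y, hyW⟩ + ⟨z, hzW⟩ := rfl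
        rw [e1, smul_add, Amap_add, Amap_add, ihy hyW, ihz hzW, smul_add]
      | neg y hy ihy =>
        intro _
        have hyW : y ∈ Wsub Q e f := hle hy
        have e1 : (⟨-y, ‹_›⟩ : ↥(Wsub Q e f)) = -⟨y, hyW⟩ := rfl
        rw [e1, smul_neg, Amap_neg, Amap_neg, ihy hyW, smul_neg]
    exact gen w.1 hmem w.2
  -- the ring homomorphism
  have h1 : σ₀ 1 = 1 := by
    apply cancel
    rw [← hσ₀, one_smul, one_smul]
  have hadd : ∀ c d, σ₀ (c + d) = σ₀ c + σ₀ d := by
    intro c d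
    apply cancel
    have e1 := add_smul c d s₀
    have e2 := add_smul (σ₀ c) (σ₀ d) (A s₀)
    rw [← hσ₀, e1, Amap_add, hσ₀, hσ₀, e2]
  have hmul : ∀ c d, σ₀ (c * d) = σ₀ c * σ₀ d := by
    intro c d
    apply cancel
    have e1 := mul_smul c d s₀
    have e2 := mul_smul (σ₀ c) (σ₀ d) (A s₀)
    rw [← hσ₀, e1, ext, hσ₀, e2]
  have h0 : σ₀ 0 = 0 := by
    apply cancel
    rw [← hσ₀, zero_smul, zero_smul, Amap_zero]
  let σr : F →+* F :=
    { toFun := σ₀
      map_one' := h1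
      map_mul' := hmul
      map_zero' := h0
      map_add' := hadd }
  have hinj : Function.Injective σr := σr.injective
  have hbij : Function.Bijective σr := ⟨hinj, Finite.injective_iff_surjective.1 hinj⟩
  exact ⟨RingEquiv.ofBijective σr hbij, ext⟩

end normalised

end Cfsg.Agent.Lib.Helper18.OrthAut
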