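import Cfsg.Agent.Lib.Helper18.OrthAutG

set_option autoImplicit false

/-!
helper18: the semilinear map `A` induced by a normalised automorphism is a similitude of the
quadratic form on `W`.
-/

namespace Cfsg.Agent.Lib.Helper18.OrthAut

open Module QuadraticMap Matrix Cfsg.Agent.Lib.Helper25.CD Cfsg.Agent.Lib.Helper25.Siegel
  Cfsg.Agent.Lib.Helper25.PS Cfsg.Agent.Lib.Helper25.PAut Cfsg.Agent.Lib.Helper15

section sub

variable {F : Type*} [Field F] {V : Type*} [AddCommGroup V] [Module F V] (Q : QuadraticForm F V)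

theorem Q_decomp {E G X : V} (hE : Q E = 0) (hG : Q G = 0) (hXE : polar Q X E = 0)
    (hXG : polar Q X G = 0) (a b : F) :
    Q (X + a • E + b • G) = Q X + a * b * polar Q E G := by
  rw [Cfsg.Agent.Lib.Helper25.MaxTS.Q_add_smul, Cfsg.Agent.Lib.Helper25.MaxTS.Q_add_smul, hE, hG,
    polar_add_left, polar_smul_left, hXE, hXG]
  simp only [smul_eq_mul]
  ring

end sub

variable {ι : Type} [Fintype ι] [DecidableEq ι] {F : Type*} [Field F] [Fintype F]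
  (Q : QuadraticForm F (ι → F)) (hQ : (polarBilin Q).Nondegenerate) (hn : 7 ≤ Fintype.card ι)

section normalised

variable {e f : ι → F} (h : HypPair Q e f) (β : Cfsg.POmega F ⇑Q ≃* Cfsg.POmega F ⇑Q)
  (hβ : (Rbar Q e h.he).map β.toMonoidHom = Rbar Q e h.he)
  (hβf : (Rbar Q f h.hf).map β.toMonoidHom = Rbar Q f h.hf)
  (hperm : Permutes Q β)

local notation "A" => Amap Q hQ hn h β hβ

include hβf hperm in
/-- `A` is a similitude. -/
theorem exists_mu (σ : F ≃+* F) (hσ : ∀ (w : ↥(Wsub Q e f)) (c : F), A (c • w) = σ c • A w) :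
    ∃ μ : F, μ ≠ 0 ∧ ∀ w : ↥(Wsub Q e f), Q (A w).1 = μ * σ (Q w.1) := by
  have hW := Wsub_nd Q hQ h
  obtain ⟨s₀, hs₀0, hs₀, hs₀W⟩ := exists_sing_inW Q h (by omega)
  obtain ⟨s₁, hs₁W, hs₁, hp⟩ := exists_hyp_partner Q (Wsub Q e f) hW ((mem_Wsub Q).2 hs₀W) hs₀0 hs₀
  obtain ⟨S₀, hS₀⟩ : ∃ S₀ : ↥(Wsub Q e f), S₀ = ⟨s₀, (mem_Wsub Q).2 hs₀W⟩ := ⟨_, rfl⟩
  obtain ⟨S₁, hS₁⟩ : ∃ S₁ : ↥(Wsub Q e f), S₁ = ⟨s₁, hs₁W⟩ := ⟨_, rfl⟩
  have hS₀v : S₀.1 = s₀ := by rw [hS₀]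
  have hS₁v : S₁.1 = s₁ := by rw [hS₁]
  have hS₀0 : S₀ ≠ 0 := by
    intro h0
    apply hs₀0
    rw [← hS₀v, h0]
    rfl
  have hS₁0 : S₁ ≠ 0 := by
    intro h0
    have : s₁ = 0 := by
      rw [← hS₁v, h0]
      rfl
    rw [this] at hp
    simp at hp
  have hQS₀ : Q S₀.1 = 0 := by rw [hS₀v]; exact hs₀
  have hQS₁ : Q S₁.1 = 0 := by rw [hS₁v]; exact hs₁
  have hE := Amap_sing Q hQ hn h β hβ hβf hperm S₀ hQS₀
  have hG := Amap_sing Q hQ hn h β hβ hβf hperm S₁ hQS₁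
  refine ⟨polar Q (A S₀).1 (A S₁).1, ?_, ?_⟩
  · intro h0
    rw [polar_comm] at h0
    have := (perp_iff Q hQ hn h β hβ hβf hperm S₁ S₀ hS₀0 hQS₀).2 h0
    rw [hS₀v, hS₁v, polar_comm, hp] at this
    exact one_ne_zero this
  · -- vectors orthogonal to the hyperbolic pair
    have hperpQ : ∀ w₁ : ↥(Wsub Q e f), polar Q w₁.1 s₀ = 0 → polar Q w₁.1 s₁ = 0 →
        ∀ a b : F, Q (A (w₁ + a • S₀ + b • S₁)).1 =
          Q (A w₁).1 + σ a * σ b * polar Q (A S₀).1 (A S₁).1 := by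
      intro w₁ h0 h1 a b
      have hXE : polar Q (A w₁).1 (A S₀).1 = 0 :=
        (perp_iff Q hQ hn h β hβ hβf hperm w₁ S₀ hS₀0 hQS₀).1 (by rw [hS₀v]; exact h0)
      have hXG : polar Q (A w₁).1 (A S₁).1 = 0 :=
        (perp_iff Q hQ hn h β hβ hβf hperm w₁ S₁ hS₁0 hQS₁).1 (by rw [hS₁v]; exact h1)
      rw [Amap_add, Amap_add, hσ, hσ]
      exact Q_decomp Q hE hG hXE hXG (σ a) (σ b)
    have hperp : ∀ w₁ : ↥(Wsub Q e f), polar Q w₁.1 s₀ = 0 → polar Q w₁.1 s₁ = 0 →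
        Q (A w₁).1 = polar Q (A S₀).1 (A S₁).1 * σ (Q w₁.1) := by
      intro w₁ h0 h1
      have hz : Q (w₁ + (-Q w₁.1) • S₀ + (1 : F) • S₁).1 = 0 := by
        show Q (w₁.1 + (-Q w₁.1) • S₀.1 + (1 : F) • S₁.1) = 0
        rw [Q_decomp Q hQS₀ hQS₁ (by rw [hS₀v]; exact h0) (by rw [hS₁v]; exact h1), hS₀v, hS₁v,
          hp]
        ring
      have h2 := Amap_sing Q hQ hn h β hβ hβf hperm _ hz
      rw [hperpQ w₁ h0 h1, map_neg, map_one] at h2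
      linear_combination h2
    intro w
    obtain ⟨a, ha⟩ : ∃ a : F, a = polar Q s₁ w.1 := ⟨_, rfl⟩
    obtain ⟨b, hb⟩ : ∃ b : F, b = polar Q s₀ w.1 := ⟨_, rfl⟩
    obtain ⟨w₁, hw₁⟩ : ∃ w₁ : ↥(Wsub Q e f), w₁ = w - a • S₀ - b • S₁ := ⟨_, rfl⟩
    have hw₁v : w₁.1 = w.1 - a • s₀ - b • s₁ := by
      rw [hw₁, ← hS₀v, ← hS₁v]
      rfl
    have h0 : polar Q w₁.1 s₀ = 0 := by
      rw [hw₁v, polar_sub_left, polar_sub_left, polar_smul_left, polar_smul_left,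
        polar_comm Q s₁ s₀, hp, polar_self2, hs₀, polar_comm Q w.1 s₀, ← hb]
      simp
    have h1 : polar Q w₁.1 s₁ = 0 := by
      rw [hw₁v, polar_sub_left, polar_sub_left, polar_smul_left, polar_smul_left,
        hp, polar_self2, hs₁, polar_comm Q w.1 s₁, ← ha]
      simp
    have hw : w = w₁ + a • S₀ + b • S₁ := by
      rw [hw₁]
      abel
    have hQw : Q w.1 = Q w₁.1 + a * b := by
      have : w.1 = w₁.1 + a • S₀.1 + b • S₁.1 := by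
        nth_rewrite 1 [hw]
        rfl
      rw [this, Q_decomp Q hQS₀ hQS₁ (by rw [hS₀v]; exact h0) (by rw [hS₁v]; exact h1), hS₀v,
        hS₁v, hp, mul_one]
    nth_rewrite 1 [hw]
    rw [hperpQ w₁ h0 h1, hperp w₁ h0 h1, hQw, map_add, map_mul]
    ring

/-- the polar form version of the similitude property -/
theorem polar_Amap (σ : F ≃+* F) (μ : F)
    (hμ : ∀ w : ↥(Wsub Q e f), Q (A w).1 = μ * σ (Q w.1)) (w w' : ↥(Wsub Q e f)) :
    polar Q (A w).1 (A w').1 = μ * σ (polar Q w.1 w'.1) := by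
  have h1 : (A w).1 + (A w').1 = (A (w + w')).1 := by
    rw [Amap_add]
    rfl
  unfold polar
  rw [h1, hμ, hμ, hμ]
  have h2 : (w + w').1 = w.1 + w'.1 := rfl
  rw [h2, map_sub, map_sub]
  ring

end normalised

end Cfsg.Agent.Lib.Helper18.OrthAut
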