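import Cfsg.Agent.Lib.Helper18.OrthAutH

set_option autoImplicit false

/-!
helper18: the maps `A`, `B` induced by a normalised automorphism on the root subgroups of `e`
and `f` satisfy `B = μ⁻¹ A`.
-/

namespace Cfsg.Agent.Lib.Helper18.OrthAut

open Module QuadraticMap Matrix Cfsg.Agent.Lib.Helper25.CD Cfsg.Agent.Lib.Helper25.Siegel
  Cfsg.Agent.Lib.Helper25.PS Cfsg.Agent.Lib.Helper25.PAut Cfsg.Agent.Lib.Helper15

section sub

variable {F : Type*} [Field F] {V : Type*} [AddCommGroup V] [Module F V] (Q : QuadraticForm F V)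

/-- the commutator relation `T_{e,s} T_{f,v} = T_{s,v} T_{f,v} T_{e,s}` -/
theorem siegT_comm_rel {e f s v : V} (h : HypPair Q e f) (hs : Q s = 0) (hv : Q v = 0)
    (hsW : InW Q e f s) (hvW : InW Q e f v) (hsv : polar Q s v = 0) (x : V) :
    siegT Q e s (siegT Q f v x) = siegT Q s v (siegT Q f v (siegT Q e s x)) := by
  unfold siegT
  simp only [polar_add_right, polar_smul_right, polar_sub_right, smul_eq_mul, hs, hv, hsW.1, hsW.2,
    hvW.1, hvW.2, hsv, h.hef, h.hfe, polar_self2, polar_comm Q s e, polar_comm Q s f,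
    polar_comm Q v e, polar_comm Q v f, polar_comm Q v s]
  module

theorem siegT_fix_e {e f s v : V} (hsW : InW Q e f s) (hvW : InW Q e f v) :
    siegT Q s v e = e := by
  unfold siegT
  rw [polar_comm Q s e, hsW.1, polar_comm Q v e, hvW.1]
  simp

theorem siegT_inW {e f s v w : V} (hsW : InW Q e f s) (hvW : InW Q e f v) (hwW : InW Q e f w) :
    InW Q e f (siegT Q s v w) := by
  unfold siegT
  have e1 : w + polar Q s w • v - polar Q v w • s - (Q v * polar Q s w) • s =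
      w + polar Q s w • v + (-(polar Q v w)) • s + (-(Q v * polar Q s w)) • s := by module
  rw [e1]
  exact ((hwW.add (hvW.smul _)).add (hsW.smul _)).add (hsW.smul _)

end sub

variable {ι : Type} [Fintype ι] [DecidableEq ι] {F : Type*} [Field F] [Fintype F]
  (Q : QuadraticForm F (ι → F)) (hQ : (polarBilin Q).Nondegenerate) (hn : 7 ≤ Fintype.card ι)

section rel

variable {e f : ι → F} (h : HypPair Q e f)

theorem TO_comm_rel {s v : ι → F} (hs : Q s = 0) (hv : Q v = 0) (hsW : InW Q e f s)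
    (hvW : InW Q e f v) (hsv : polar Q s v = 0) :
    TO Q hQ hn e s h.he hsW.1 * TO Q hQ hn f v h.hf hvW.2 =
      TO Q hQ hn s v hs hsv * TO Q hQ hn f v h.hf hvW.2 * TO Q hQ hn e s h.he hsW.1 := by
  apply Subtype.ext
  apply toOG_injective Q
  ext1 x
  simp only [Subgroup.coe_mul, TO_val, map_mul, LinearEquiv.mul_apply, toOG_TG]
  exact siegT_comm_rel Q h hs hv hsW hvW hsv x

theorem TO_conj_e {s v w : ι → F} (hs : Q s = 0) (hsW : InW Q e f s)
    (hvW : InW Q e f v) (hsv : polar Q s v = 0) (hwW : InW Q e f w) :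
    TO Q hQ hn s v hs hsv * TO Q hQ hn e w h.he hwW.1 * (TO Q hQ hn s v hs hsv)⁻¹ =
      TO Q hQ hn e (siegT Q s v w) h.he (siegT_inW Q hsW hvW hwW).1 := by
  apply Subtype.ext
  apply eq_TG_of_apply
  intro x
  simp only [Subgroup.coe_mul, Subgroup.coe_inv, TO_val]
  rw [conj_TG, toOG_TG, toOG_TG, toOG_TG, siegT_fix_e Q hsW hvW]

end rel

section normalised

variable {e f : ι → F} (h : HypPair Q e f) (β : Cfsg.POmega F ⇑Q ≃* Cfsg.POmega F ⇑Q)
  (hβ : (Rbar Q e h.he).map β.toMonoidHom = Rbar Q e h.he)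
  (hβf : (Rbar Q f h.hf).map β.toMonoidHom = Rbar Q f h.hf)
  (hperm : Permutes Q β)

/-- the same vector, in the complement of the swapped pair -/
def swapW (w : ↥(Wsub Q e f)) : ↥(Wsub Q f e) :=
  ⟨w.1, (mem_Wsub Q).2 ((mem_Wsub Q).1 w.2).symm⟩

omit [Fintype ι] [DecidableEq ι] [Fintype F] in
theorem swapW_val (w : ↥(Wsub Q e f)) : (swapW Q w).1 = w.1 := rfl

local notation "A" => Amap Q hQ hn h β hβ
local notation "B" => Amap Q hQ hn h.symm β hβf

include hperm in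
/-- the image of the long root elements of the Levi complement -/
theorem beta_root (S V : ↥(Wsub Q e f)) (hS0 : S ≠ 0) (hV0 : V ≠ 0) (hS : Q S.1 = 0)
    (hV : Q V.1 = 0) (hSV : polar Q S.1 V.1 = 0) (hne : ∀ d : F, V ≠ d • S) :
    ∃ (hAS : Q (A S).1 = 0) (hp : polar Q (A S).1 (B (swapW Q V)).1 = 0),
      β (QuotientGroup.mk (TO Q hQ hn S.1 V.1 hS hSV)) =
        QuotientGroup.mk (TO Q hQ hn (A S).1 (B (swapW Q V)).1 hAS hp) := by
  have hSW := (mem_Wsub Q).1 S.2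
  have hVW := (mem_Wsub Q).1 V.2
  have hS0' : S.1 ≠ 0 := fun h0 => hS0 (Subtype.ext h0)
  have hV'0 : swapW Q V ≠ 0 := by
    intro h0
    apply hV0
    apply Subtype.ext
    have h1 : (swapW Q V).1 = (0 : ↥(Wsub Q f e)).1 := congrArg Subtype.val h0
    exact h1
  obtain ⟨hAS, hmapS, -⟩ := line_data Q hQ hn h β hβ hβf hperm S hS0 hS
  obtain ⟨hBV, hmapV, -⟩ := line_data Q hQ hn h.symm β hβf hβ hperm (swapW Q V) hV'0 hV
  have hASW := (mem_Wsub Q).1 (A S).2
  have hBVW := ((mem_Wsub Q).1 (B (swapW Q V)).2).symm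
  have hp : polar Q (A S).1 (B (swapW Q V)).1 = 0 := by
    by_contra hne0
    have h1 := Rbar_inf_eq_bot Q hQ hn hAS hBV hne0
    rw [← hmapS, ← hmapV, ← map_inf_equiv] at h1
    have h2 := (Subgroup.map_eq_bot_iff_of_injective _ β.injective).1 h1
    refine Rbar_inf_ne_bot Q hQ hn hS0' hS hV hSV ?_ h2
    intro d hd
    exact hne d (Subtype.ext hd)
  refine ⟨hAS, hp, ?_⟩
  have r1 := TO_comm_rel Q hQ hn h hS hV hSW hVW hSV
  have r2 := TO_comm_rel Q hQ hn h hAS hBV hASW hBVW hp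
  have r1' := congrArg (fun t => β (QuotientGroup.mk t : Cfsg.POmega F ⇑Q)) r1
  have r2' := congrArg (fun t => (QuotientGroup.mk t : Cfsg.POmega F ⇑Q)) r2
  simp only [QuotientGroup.mk_mul, map_mul] at r1' r2'
  have eA : β (QuotientGroup.mk (TO Q hQ hn e S.1 h.he hSW.1)) =
      QuotientGroup.mk (TO Q hQ hn e (A S).1 h.he hASW.1) := Amap_spec Q hQ hn h β hβ S
  have eB : β (QuotientGroup.mk (TO Q hQ hn f V.1 h.hf hVW.2)) =
      QuotientGroup.mk (TO Q hQ hn f (B (swapW Q V)).1 h.hf hBVW.2) :=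
    Amap_spec Q hQ hn h.symm β hβf (swapW Q V)
  rw [eA, eB, r2'] at r1'
  exact (mul_right_cancel (mul_right_cancel r1')).symm

include hperm in
/-- compatibility of `A` with the long root elements of the Levi complement -/
theorem Amap_siegT (S V : ↥(Wsub Q e f)) (hS0 : S ≠ 0) (hV0 : V ≠ 0) (hS : Q S.1 = 0)
    (hV : Q V.1 = 0) (hSV : polar Q S.1 V.1 = 0) (hne : ∀ d : F, V ≠ d • S)
    (w : ↥(Wsub Q e f)) :
    (A ⟨siegT Q S.1 V.1 w.1, (mem_Wsub Q).2
      (siegT_inW Q ((mem_Wsub Q).1 S.2) ((mem_Wsub Q).1 V.2) ((mem_Wsub Q).1 w.2))⟩).1 =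
      siegT Q (A S).1 (B (swapW Q V)).1 (A w).1 := by
  have hSW := (mem_Wsub Q).1 S.2
  have hVW := (mem_Wsub Q).1 V.2
  have hwW := (mem_Wsub Q).1 w.2
  obtain ⟨hAS, hp, hβr⟩ := beta_root Q hQ hn h β hβ hβf hperm S V hS0 hV0 hS hV hSV hne
  have hASW := (mem_Wsub Q).1 (A S).2
  have hBVW := ((mem_Wsub Q).1 (B (swapW Q V)).2).symm
  have hAwW := (mem_Wsub Q).1 (A w).2
  have r1 := TO_conj_e Q hQ hn h hS hSW hVW hSV hwW
  have r2 := TO_conj_e Q hQ hn h hAS hASW hBVW hp hAwW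
  have r1' := congrArg (fun t => β (QuotientGroup.mk t : Cfsg.POmega F ⇑Q)) r1
  have r2' := congrArg (fun t => (QuotientGroup.mk t : Cfsg.POmega F ⇑Q)) r2
  simp only [QuotientGroup.mk_mul, QuotientGroup.mk_inv, map_mul, map_inv] at r1' r2'
  have eA : β (QuotientGroup.mk (TO Q hQ hn e w.1 h.he hwW.1)) =
      QuotientGroup.mk (TO Q hQ hn e (A w).1 h.he hAwW.1) := Amap_spec Q hQ hn h β hβ w
  rw [hβr, eA, r2'] at r1'
  have r3 := Amap_unique Q hQ hn h β hβ
    (w := ⟨siegT Q S.1 V.1 w.1, (mem_Wsub Q).2 (siegT_inW Q hSW hVW hwW)⟩)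
    (w' := ⟨siegT Q (A S).1 (B (swapW Q V)).1 (A w).1,
      (mem_Wsub Q).2 (siegT_inW Q hASW hBVW hAwW)⟩) r1'.symm
  rw [r3]

end normalised

end Cfsg.Agent.Lib.Helper18.OrthAut
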