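import Cfsg.Agent.Lib.Helper18.OrthAutI

set_option autoImplicit false

/-!
helper18: `B = μ⁻¹ A` for the maps induced by a normalised automorphism.
-/

namespace Cfsg.Agent.Lib.Helper18.OrthAut

open Module QuadraticMap Matrix Cfsg.Agent.Lib.Helper25.CD Cfsg.Agent.Lib.Helper25.Siegel
  Cfsg.Agent.Lib.Helper25.PS Cfsg.Agent.Lib.Helper25.PAut Cfsg.Agent.Lib.Helper15

variable {ι : Type} [Fintype ι] [DecidableEq ι] {F : Type*} [Field F] [Fintype F]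
  (Q : QuadraticForm F (ι → F)) (hQ : (polarBilin Q).Nondegenerate) (hn : 7 ≤ Fintype.card ι)

section normalised

variable {e f : ι → F} (h : HypPair Q e f) (β : Cfsg.POmega F ⇑Q ≃* Cfsg.POmega F ⇑Q)
  (hβ : (Rbar Q e h.he).map β.toMonoidHom = Rbar Q e h.he)
  (hβf : (Rbar Q f h.hf).map β.toMonoidHom = Rbar Q f h.hf)
  (hperm : Permutes Q β)

local notation "A" => Amap Q hQ hn h β hβ
local notation "B" => Amap Q hQ hn h.symm β hβf

variable (σ : F ≃+* F)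
  (hσ : ∀ (w : ↥(Wsub Q e f)) (c : F),
    Amap Q hQ hn h β hβ (c • w) = σ c • Amap Q hQ hn h β hβ w)
  (μ : F) (hμ0 : μ ≠ 0)
  (hμ : ∀ w : ↥(Wsub Q e f), Q (Amap Q hQ hn h β hβ w).1 = μ * σ (Q w.1))

include hperm hσ hμ0 hμ in
theorem B_sing_aux (S V : ↥(Wsub Q e f)) (hS0 : S ≠ 0) (hV0 : V ≠ 0) (hS : Q S.1 = 0)
    (hV : Q V.1 = 0) (hSV : polar Q S.1 V.1 = 0) (hne : ∀ d : F, V ≠ d • S) :
    ∃ x : F, (B (swapW Q V)).1 = μ⁻¹ • (A V).1 + x • (A S).1 := by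
  have hW := Wsub_nd Q hQ h
  have hS0' : S.1 ≠ 0 := fun h0 => hS0 (Subtype.ext h0)
  obtain ⟨w, hwW, hQw, hSw⟩ := exists_hyp_partner Q (Wsub Q e f) hW S.2 hS0' hS
  have key := Amap_siegT Q hQ hn h β hβ hβf hperm S V hS0 hV0 hS hV hSV hne ⟨w, hwW⟩
  have e1 : (⟨siegT Q S.1 V.1 w, (mem_Wsub Q).2
      (siegT_inW Q ((mem_Wsub Q).1 S.2) ((mem_Wsub Q).1 V.2) ((mem_Wsub Q).1 hwW))⟩ :
      ↥(Wsub Q e f)) = (⟨w, hwW⟩ + V) + (-polar Q V.1 w) • S := by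
    apply Subtype.ext
    show siegT Q S.1 V.1 w = (w + V.1) + (-polar Q V.1 w) • S.1
    unfold siegT
    rw [hV, hSw]
    module
  have hBV : Q (B (swapW Q V)).1 = 0 :=
    Amap_sing Q hQ hn h.symm β hβf hβ hperm (swapW Q V) hV
  have hpol : polar Q (A S).1 (A ⟨w, hwW⟩).1 = μ := by
    rw [polar_Amap Q hQ hn h β hβ σ μ hμ]
    show μ * σ (polar Q S.1 w) = μ
    rw [hSw, map_one, mul_one]
  rw [e1, Amap_add, Amap_add, hσ] at key
  have key' : (A ⟨w, hwW⟩).1 + (A V).1 + σ (-polar Q V.1 w) • (A S).1 =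
      siegT Q (A S).1 (B (swapW Q V)).1 (A ⟨w, hwW⟩).1 := key
  unfold siegT at key'
  rw [hBV, hpol, zero_mul, zero_smul, sub_zero] at key'
  obtain ⟨X, hX⟩ : ∃ X, X = (A ⟨w, hwW⟩).1 := ⟨_, rfl⟩
  obtain ⟨p, hp⟩ : ∃ p, p = polar Q (B (swapW Q V)).1 X := ⟨_, rfl⟩
  obtain ⟨a, ha⟩ : ∃ a, a = σ (-polar Q V.1 w) := ⟨_, rfl⟩
  rw [← hX, ← ha, ← hp] at key'
  refine ⟨μ⁻¹ * (a + p), ?_⟩
  have h1 : μ • (B (swapW Q V)).1 = (A V).1 + (a + p) • (A S).1 := by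
    have h2 : μ • (B (swapW Q V)).1 =
        (X + μ • (B (swapW Q V)).1 - p • (A S).1) - X + p • (A S).1 := by module
    rw [h2, ← key']
    module
  calc (B (swapW Q V)).1 = μ⁻¹ • (μ • (B (swapW Q V)).1) := by
        rw [smul_smul, inv_mul_cancel₀ hμ0, one_smul]
    _ = μ⁻¹ • (A V).1 + (μ⁻¹ * (a + p)) • (A S).1 := by
        rw [h1, smul_add, smul_smul]

include hperm hσ hμ0 hμ in
/-- `B = μ⁻¹ A` on singular vectors -/
theorem B_sing (V : ↥(Wsub Q e f)) (hV : Q V.1 = 0) :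
    (B (swapW Q V)).1 = μ⁻¹ • (A V).1 := by
  by_cases hV0 : V = 0
  · have e1 : swapW Q V = 0 := by
      rw [hV0]
      rfl
    rw [e1, hV0, Amap_zero, Amap_zero]
    show (0 : ι → F) = μ⁻¹ • (0 : ι → F)
    rw [smul_zero]
  have hW := Wsub_nd Q hQ h
  have hfr := Wsub_finrank' Q h
  have hV0' : V.1 ≠ 0 := fun h0 => hV0 (Subtype.ext h0)
  obtain ⟨z, hzW, hz0, hQz, hVz, hzne⟩ :=
    exists_sing_perp_one Q hW (by omega) V.2 hV0' hV
  obtain ⟨S, hSdef⟩ : ∃ S : ↥(Wsub Q e f), S = ⟨z, hzW⟩ := ⟨_, rfl⟩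
  have hSv : S.1 = z := by rw [hSdef]
  have hS0 : S ≠ 0 := by
    intro h0
    apply hz0
    rw [← hSv, h0]
    rfl
  have hS : Q S.1 = 0 := by rw [hSv]; exact hQz
  have hSV : polar Q S.1 V.1 = 0 := by rw [hSv, polar_comm]; exact hVz
  have hne : ∀ d : F, V ≠ d • S := by
    intro d hd
    have hd' : V.1 = d • z := by
      rw [← hSv]
      exact congrArg Subtype.val hd
    have hd0 : d ≠ 0 := by
      rintro rfl
      rw [zero_smul] at hd'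
      exact hV0' hd'
    apply hzne d⁻¹
    rw [hd', smul_smul, inv_mul_cancel₀ hd0, one_smul]
  -- the second choice `S + V`
  have hS2 : Q (S + V).1 = 0 := by
    show Q (S.1 + V.1) = 0
    rw [Cfsg.Agent.Lib.Helper25.MaxTS.Q_add, hS, hV, hSV]
    ring
  have hS20 : S + V ≠ 0 := by
    intro h0
    apply hne (-1)
    have h1 := neg_one_smul F S
    rw [h1]
    exact eq_neg_of_add_eq_zero_right h0
  have hS2V : polar Q (S + V).1 V.1 = 0 := by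
    show polar Q (S.1 + V.1) V.1 = 0
    rw [polar_add_left, hSV, polar_self2, hV]
    simp
  have hne2 : ∀ d : F, V ≠ d • (S + V) := by
    intro d hd
    have hd' : V.1 = d • (z + V.1) := by
      rw [← hSv]
      exact congrArg Subtype.val hd
    by_cases hd0 : d = 0
    · rw [hd0, zero_smul] at hd'
      exact hV0' hd'
    · apply hzne (d⁻¹ * (1 - d))
      have h1 : d • z = (1 - d) • V.1 := by
        have : d • z = d • (z + V.1) - d • V.1 := by module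
        rw [this, ← hd']
        module
      calc z = d⁻¹ • (d • z) := by rw [smul_smul, inv_mul_cancel₀ hd0, one_smul]
        _ = (d⁻¹ * (1 - d)) • V.1 := by rw [h1, smul_smul]
  obtain ⟨x, hx⟩ := B_sing_aux Q hQ hn h β hβ hβf hperm σ hσ μ hμ0 hμ S V hS0 hV0 hS hV hSV hne
  obtain ⟨y, hy⟩ := B_sing_aux Q hQ hn h β hβ hβf hperm σ hσ μ hμ0 hμ (S + V) V hS20 hV0 hS2 hV
    hS2V hne2
  rw [Amap_add] at hy
  have hy' : (B (swapW Q V)).1 = μ⁻¹ • (A V).1 + y • ((A S).1 + (A V).1) := hy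
  have hy0 : y = 0 := by
    by_contra hy0
    have h1 : (x - y) • (A S).1 = y • (A V).1 := by
      have h2 : μ⁻¹ • (A V).1 + x • (A S).1 = μ⁻¹ • (A V).1 + y • ((A S).1 + (A V).1) := by
        rw [← hx, ← hy']
      have h3 : (x - y) • (A S).1 - y • (A V).1 =
          (μ⁻¹ • (A V).1 + x • (A S).1) - (μ⁻¹ • (A V).1 + y • ((A S).1 + (A V).1)) := by module
      rw [h2, sub_self] at h3
      exact sub_eq_zero.1 h3
    apply Amap_indep Q hQ hn h β hβ hβf hperm S V hS0 hS hne (y⁻¹ * (x - y))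
    apply Subtype.ext
    show (A V).1 = (y⁻¹ * (x - y)) • (A S).1
    rw [← smul_smul, h1, smul_smul, inv_mul_cancel₀ hy0, one_smul]
  rw [hy', hy0, zero_smul, add_zero]

include hperm hσ hμ0 hμ in
/-- `B = μ⁻¹ A` -/
theorem B_all (w : ↥(Wsub Q e f)) : (B (swapW Q w)).1 = μ⁻¹ • (A w).1 := by
  have hW := Wsub_nd Q hQ h
  have hfr := Wsub_finrank' Q h
  have hmem := mem_addClosure_singular Q hW (by omega) w.2
  have hle : AddSubgroup.closure {s : ι → F | s ∈ Wsub Q e f ∧ Q s = 0} ≤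
      (Wsub Q e f).toAddSubgroup := by
    rw [AddSubgroup.closure_le]
    intro s hs
    exact hs.1
  have gen : ∀ x : ι → F, x ∈ AddSubgroup.closure {s : ι → F | s ∈ Wsub Q e f ∧ Q s = 0} →
      ∀ hx : x ∈ Wsub Q e f, (B (swapW Q ⟨x, hx⟩)).1 = μ⁻¹ • (A ⟨x, hx⟩).1 := by
    intro x hx
    induction hx using AddSubgroup.closure_induction with
    | mem y hy =>
      intro hyW
      exact B_sing Q hQ hn h β hβ hβf hperm σ hσ μ hμ0 hμ ⟨y, hyW⟩ hy.2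
    | zero =>
      intro _
      exact B_sing Q hQ hn h β hβ hβf hperm σ hσ μ hμ0 hμ ⟨0, _⟩ (map_zero Q)
    | add y z hy hz ihy ihz =>
      intro _
      have hyW : y ∈ Wsub Q e f := hle hy
      have hzW : z ∈ Wsub Q e f := hle hz
      have e1 : (⟨y + z, ‹_›⟩ : ↥(Wsub Q e f)) = ⟨y, hyW⟩ + ⟨z, hzW⟩ := rfl
      have e2 : swapW Q (⟨y, hyW⟩ + ⟨z, hzW⟩) = swapW Q ⟨y, hyW⟩ + swapW Q ⟨z, hzW⟩ := rfl
      rw [e1, e2, Amap_add, Amap_add]
      show (B (swapW Q ⟨y, hyW⟩)).1 + (B (swapW Q ⟨z, hzW⟩)).1 =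
        μ⁻¹ • ((A ⟨y, hyW⟩).1 + (A ⟨z, hzW⟩).1)
      rw [ihy hyW, ihz hzW, smul_add]
    | neg y hy ihy =>
      intro _
      have hyW : y ∈ Wsub Q e f := hle hy
      have e1 : (⟨-y, ‹_›⟩ : ↥(Wsub Q e f)) = -⟨y, hyW⟩ := rfl
      have e2 : swapW Q (-⟨y, hyW⟩) = -swapW Q ⟨y, hyW⟩ := rfl
      rw [e1, e2, Amap_neg, Amap_neg]
      show -(B (swapW Q ⟨y, hyW⟩)).1 = μ⁻¹ • (-(A ⟨y, hyW⟩).1)
      rw [ihy hyW, smul_neg]
  exact gen w.1 hmem w.2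

end normalised

end Cfsg.Agent.Lib.Helper18.OrthAut
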