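import Cfsg.Agent.Lib.Helper18.OrthAutK

set_option autoImplicit false

/-!
helper18: the semilinear similitude `γ` of the whole space built from a semilinear similitude of
the complement `W` of a hyperbolic pair.
-/

namespace Cfsg.Agent.Lib.Helper18.OrthAut

open Module QuadraticMap Matrix Cfsg.Agent.Lib.Helper25.CD Cfsg.Agent.Lib.Helper25.Siegel
  Cfsg.Agent.Lib.Helper25.PS Cfsg.Agent.Lib.Helper25.PAut Cfsg.Agent.Lib.Helper15

variable {F : Type*} [Field F] {V : Type*} [AddCommGroup V] [Module F V] (Q : QuadraticForm F V)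

/-- semilinear similitudes of the complement of a hyperbolic pair -/
structure SemiSimW (e f : V) (σ : F ≃+* F) (μ : F) (A₀ : ↥(Wsub Q e f) → ↥(Wsub Q e f)) :
    Prop where
  add : ∀ w w', A₀ (w + w') = A₀ w + A₀ w'
  smul : ∀ (c : F) w, A₀ (c • w) = σ c • A₀ w
  mu0 : μ ≠ 0
  form : ∀ w, Q (A₀ w).1 = μ * σ (Q w.1)

variable {Q}

/-- the projection onto the complement of a hyperbolic pair -/
def projW {e f : V} (h : HypPair Q e f) (x : V) : ↥(Wsub Q e f) :=
  ⟨x - polar Q f x • e - polar Q e x • f, (mem_Wsub Q).2 (h.inW_proj x)⟩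

theorem projW_val {e f : V} (h : HypPair Q e f) (x : V) :
    (projW h x).1 = x - polar Q f x • e - polar Q e x • f := rfl

theorem projW_add {e f : V} (h : HypPair Q e f) (x y : V) :
    projW h (x + y) = projW h x + projW h y := by
  apply Subtype.ext
  show x + y - polar Q f (x + y) • e - polar Q e (x + y) • f =
    (x - polar Q f x • e - polar Q e x • f) + (y - polar Q f y • e - polar Q e y • f)
  rw [polar_add_right, polar_add_right]
  module

theorem projW_smul {e f : V} (h : HypPair Q e f) (c : F) (x : V) :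
    projW h (c • x) = c • projW h x := by
  apply Subtype.ext
  show c • x - polar Q f (c • x) • e - polar Q e (c • x) • f =
    c • (x - polar Q f x • e - polar Q e x • f)
  rw [polar_smul_right, polar_smul_right]
  simp only [smul_eq_mul]
  module

theorem projW_of_inW {e f : V} (h : HypPair Q e f) {w : V} (hw : InW Q e f w) :
    (projW h w).1 = w := by
  rw [projW_val, hw.1, hw.2]
  simp

theorem decomp {e f : V} (h : HypPair Q e f) (x : V) :
    x = (projW h x).1 + polar Q f x • e + polar Q e x • f := by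
  rw [projW_val]
  module

theorem Q_eq_decomp {e f : V} (h : HypPair Q e f) (x : V) :
    Q x = Q (projW h x).1 + polar Q f x * polar Q e x := by
  have hw := (mem_Wsub Q).1 (projW h x).2
  have h1 := Q_decomp Q h.he h.hf (X := (projW h x).1) (by rw [polar_comm]; exact hw.1)
    (by rw [polar_comm]; exact hw.2) (polar Q f x) (polar Q e x)
  rw [← decomp h x, h.hef, mul_one] at h1
  exact h1

section gam

variable {e f : V} (h : HypPair Q e f) {σ : F ≃+* F} {μ : F}
  {A₀ : ↥(Wsub Q e f) → ↥(Wsub Q e f)}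

/-- the extension of `μ⁻¹ A₀` to the whole space -/
def gam (σ : F ≃+* F) (μ : F) (A₀ : ↥(Wsub Q e f) → ↥(Wsub Q e f)) (x : V) : V :=
  (A₀ (projW h x)).1 + (μ * σ (polar Q f x)) • e + σ (polar Q e x) • f

variable (D : SemiSimW Q e f σ μ A₀)

include D

theorem gam_add (x y : V) : gam h σ μ A₀ (x + y) = gam h σ μ A₀ x + gam h σ μ A₀ y := by
  unfold gam
  rw [projW_add, D.add, polar_add_right, polar_add_right, map_add, map_add]
  show (A₀ (projW h x)).1 + (A₀ (projW h y)).1 + _ + _ = _
  module

theorem gam_smul (c : F) (x : V) : gam h σ μ A₀ (c • x) = σ c • gam h σ μ A₀ x := by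
  unfold gam
  rw [projW_smul, D.smul, polar_smul_right, polar_smul_right, smul_eq_mul, smul_eq_mul, map_mul,
    map_mul]
  show σ c • (A₀ (projW h x)).1 + _ + _ = _
  module

theorem Q_gam (x : V) : Q (gam h σ μ A₀ x) = μ * σ (Q x) := by
  have hw := (mem_Wsub Q).1 (A₀ (projW h x)).2
  unfold gam
  rw [Q_decomp Q h.he h.hf (by rw [polar_comm]; exact hw.1) (by rw [polar_comm]; exact hw.2),
    D.form, h.hef, Q_eq_decomp h x, map_add, map_mul]
  ring

theorem polar_gam (x y : V) :
    polar Q (gam h σ μ A₀ x) (gam h σ μ A₀ y) = μ * σ (polar Q x y) := by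
  unfold polar
  rw [← gam_add h D, Q_gam h D, Q_gam h D, Q_gam h D, map_sub, map_sub]
  ring

theorem gam_zero : gam h σ μ A₀ 0 = 0 := by
  have := gam_add h D 0 0
  rw [add_zero] at this
  exact left_eq_add.1 this

theorem gam_neg (x : V) : gam h σ μ A₀ (-x) = -gam h σ μ A₀ x := by
  apply eq_neg_of_add_eq_zero_left
  rw [← gam_add h D, neg_add_cancel, gam_zero h D]

theorem gam_sub (x y : V) : gam h σ μ A₀ (x - y) = gam h σ μ A₀ x - gam h σ μ A₀ y := by
  rw [sub_eq_add_neg, gam_add h D, gam_neg h D, sub_eq_add_neg]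

theorem gam_e : gam h σ μ A₀ e = μ • e := by
  have h0 : projW h e = 0 := by
    apply Subtype.ext
    rw [projW_val, h.hfe, h.hee]
    simp
  have hA0 : A₀ 0 = 0 := by
    have := D.add 0 0
    rw [add_zero] at this
    exact left_eq_add.1 this
  unfold gam
  rw [h0, hA0, h.hfe, h.hee]
  simp

theorem gam_f : gam h σ μ A₀ f = f := by
  have h0 : projW h f = 0 := by
    apply Subtype.ext
    rw [projW_val, h.hef, h.hff]
    simp
  have hA0 : A₀ 0 = 0 := by
    have := D.add 0 0
    rw [add_zero] at this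
    exact left_eq_add.1 this
  unfold gam
  rw [h0, hA0, h.hef, h.hff]
  simp

omit D in
theorem gam_w (w : ↥(Wsub Q e f)) : gam h σ μ A₀ w.1 = (A₀ w).1 := by
  have hw := (mem_Wsub Q).1 w.2
  have h0 : projW h w.1 = w := Subtype.ext (projW_of_inW h hw)
  unfold gam
  rw [h0, hw.1, hw.2]
  simp

/-- conjugation of Siegel transformations by `γ` -/
theorem gam_siegT (u w x : V) :
    gam h σ μ A₀ (siegT Q u w x) =
      siegT Q (gam h σ μ A₀ u) (μ⁻¹ • gam h σ μ A₀ w) (gam h σ μ A₀ x) := by
  have hμ0 := D.mu0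
  unfold siegT
  rw [gam_sub h D, gam_sub h D, gam_add h D, gam_smul h D, gam_smul h D, gam_smul h D,
    polar_smul_left, QuadraticMap.map_smul, polar_gam h D, polar_gam h D, Q_gam h D, map_mul]
  simp only [smul_eq_mul]
  match_scalars <;> field_simp

end gam

end Cfsg.Agent.Lib.Helper18.OrthAut
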