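import Cfsg.Agent.Lib.Helper18.OrthAutL
import Cfsg.Prelude.Def_LieTypeDatum

set_option autoImplicit false

/-!
helper18: a normalised automorphism of `PΩ` permuting the root subgroups is induced by a semilinear
similitude.
-/

namespace Cfsg.Agent.Lib.Helper18.OrthAut

open Module QuadraticMap Matrix Cfsg.Agent.Lib.Helper25.CD Cfsg.Agent.Lib.Helper25.Siegel
  Cfsg.Agent.Lib.Helper25.PS Cfsg.Agent.Lib.Helper25.PAut Cfsg.Agent.Lib.Helper15

variable {ι : Type} [Fintype ι] [DecidableEq ι] {F : Type*} [Field F] [Fintype F]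
  (Q : QuadraticForm F (ι → F)) (hQ : (polarBilin Q).Nondegenerate) (hn : 7 ≤ Fintype.card ι)

/-- the elements of `Ω` on which `β` is induced by the map `γ` -/
def IndSub (β : Cfsg.POmega F ⇑Q ≃* Cfsg.POmega F ⇑Q) (γ : (ι → F) → (ι → F)) :
    Subgroup ↥(Cfsg.Omega F ⇑Q) where
  carrier := {s | ∃ s' : ↥(Cfsg.Omega F ⇑Q), (∀ x, toOG Q s'.1 (γ x) = γ (toOG Q s.1 x)) ∧
    β (QuotientGroup.mk s) = QuotientGroup.mk s'}
  mul_mem' := by
    rintro a b ⟨a', ha, hβa⟩ ⟨b', hb, hβb⟩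
    refine ⟨a' * b', ?_, ?_⟩
    · intro x
      rw [Subgroup.coe_mul, Subgroup.coe_mul, map_mul, map_mul, LinearEquiv.mul_apply,
        LinearEquiv.mul_apply, hb, ha]
    · rw [QuotientGroup.mk_mul, map_mul, hβa, hβb, QuotientGroup.mk_mul]
  one_mem' := ⟨1, fun x => by rw [Subgroup.coe_one, map_one]; rfl, by
    rw [QuotientGroup.mk_one, map_one]⟩
  inv_mem' := by
    rintro a ⟨a', ha, hβa⟩
    refine ⟨a'⁻¹, ?_, ?_⟩
    · intro x
      have h1 := ha (toOG Q (a⁻¹ : ↥(Cfsg.Omega F ⇑Q)).1 x)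
      have h2 : toOG Q a.1 (toOG Q (a⁻¹ : ↥(Cfsg.Omega F ⇑Q)).1 x) = x := by
        rw [← LinearEquiv.mul_apply, ← map_mul, ← Subgroup.coe_mul, mul_inv_cancel,
          Subgroup.coe_one, map_one]
        rfl
      rw [h2] at h1
      rw [← h1, ← LinearEquiv.mul_apply, ← map_mul, ← Subgroup.coe_mul, inv_mul_cancel,
        Subgroup.coe_one, map_one]
      rfl
    · rw [QuotientGroup.mk_inv, map_inv, hβa, QuotientGroup.mk_inv]

omit [Fintype F] in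
theorem mem_IndSub {β : Cfsg.POmega F ⇑Q ≃* Cfsg.POmega F ⇑Q} {γ : (ι → F) → (ι → F)}
    {s : ↥(Cfsg.Omega F ⇑Q)} :
    s ∈ IndSub Q β γ ↔ ∃ s' : ↥(Cfsg.Omega F ⇑Q),
      (∀ x, toOG Q s'.1 (γ x) = γ (toOG Q s.1 x)) ∧
        β (QuotientGroup.mk s) = QuotientGroup.mk s' := Iff.rfl

section normalised

variable {e f : ι → F} (h : HypPair Q e f) (β : Cfsg.POmega F ⇑Q ≃* Cfsg.POmega F ⇑Q)
  (hβ : (Rbar Q e h.he).map β.toMonoidHom = Rbar Q e h.he)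
  (hβf : (Rbar Q f h.hf).map β.toMonoidHom = Rbar Q f h.hf)
  (hperm : Permutes Q β)

include hQ hn hβ hβf hperm in
/-- the semilinear similitude inducing a normalised automorphism -/
theorem exists_gamma : ∃ (σ : F ≃+* F) (μ : F) (γ : (ι → F) → (ι → F)), μ ≠ 0 ∧
    (∀ x y, γ (x + y) = γ x + γ y) ∧ (∀ (c : F) x, γ (c • x) = σ c • γ x) ∧
    (∀ x, Q (γ x) = μ * σ (Q x)) ∧ IndSub Q β γ = ⊤ := by
  obtain ⟨σ, hσ⟩ := exists_sigma Q hQ hn h β hβ hβf hperm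
  obtain ⟨μ, hμ0, hμ⟩ := exists_mu Q hQ hn h β hβ hβf hperm σ hσ
  have D : SemiSimW Q e f σ μ (Amap Q hQ hn h β hβ) :=
    ⟨Amap_add Q hQ hn h β hβ, fun c w => hσ w c, hμ0, hμ⟩
  refine ⟨σ, μ, gam h σ μ (Amap Q hQ hn h β hβ), hμ0, gam_add h D, gam_smul h D, Q_gam h D, ?_⟩
  apply gen_top Q hQ hn h
  · -- the root subgroup of `e`
    intro g hg
    obtain ⟨w, hw, hgw⟩ := exists_inW_of_mem_RI Q h hg
    have hgw' : g = TO Q hQ hn e w h.he hw.1 := Subtype.ext hgw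
    obtain ⟨W, hWdef⟩ : ∃ W : ↥(Wsub Q e f), W = ⟨w, (mem_Wsub Q).2 hw⟩ := ⟨_, rfl⟩
    have hWv : W.1 = w := by rw [hWdef]
    have hAW := (mem_Wsub Q).1 (Amap Q hQ hn h β hβ W).2
    refine ⟨TO Q hQ hn e (Amap Q hQ hn h β hβ W).1 h.he hAW.1, ?_, ?_⟩
    · intro x
      rw [hgw', TO_val, TO_val, toOG_TG, toOG_TG, gam_siegT h D, gam_e h D, siegT_smul_left,
        ← hWv, gam_w h, smul_smul, mul_inv_cancel₀ hμ0, one_smul]
    · rw [hgw']
      have := Amap_spec Q hQ hn h β hβ W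
      rw [Tbar_def, Tbar_def] at this
      rw [← this]
      congr 2
      exact TO_congr Q hQ hn h.he hw.1 hWv.symm
  · -- the root subgroup of `f`
    intro g hg
    obtain ⟨w, hw, hgw⟩ := exists_inW_of_mem_RI Q h.symm hg
    have hgw' : g = TO Q hQ hn f w h.hf hw.1 := Subtype.ext hgw
    obtain ⟨W, hWdef⟩ : ∃ W : ↥(Wsub Q e f), W = ⟨w, (mem_Wsub Q).2 hw.symm⟩ := ⟨_, rfl⟩
    have hWv : W.1 = w := by rw [hWdef]
    have hBW := (mem_Wsub Q).1 (Amap Q hQ hn h.symm β hβf (swapW Q W)).2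
    have hB := B_all Q hQ hn h β hβ hβf hperm σ hσ μ hμ0 hμ W
    refine ⟨TO Q hQ hn f (Amap Q hQ hn h.symm β hβf (swapW Q W)).1 h.hf hBW.1, ?_, ?_⟩
    · intro x
      rw [hgw', TO_val, TO_val, toOG_TG, toOG_TG, gam_siegT h D, gam_f h D, hB,
        ← hWv, gam_w h]
    · rw [hgw']
      have := Amap_spec Q hQ hn h.symm β hβf (swapW Q W)
      rw [Tbar_def, Tbar_def] at this
      rw [← this]
      congr 2
      exact TO_congr Q hQ hn h.hf hw.1 hWv.symm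

end normalised

end Cfsg.Agent.Lib.Helper18.OrthAut
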