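import Cfsg.Agent.Lib.Helper18.OrthAutM

set_option autoImplicit false

/-!
helper18: from the semilinear similitude `γ` to the matrix form `v ↦ g σ(v)` required by the
predicates `IsSemisimilarityPair` and `IsInducedBySemilinearPOmega`.
-/

namespace Cfsg.Agent.Lib.Helper18.OrthAut

open Module QuadraticMap Matrix Cfsg.Agent.Lib.Helper25.CD Cfsg.Agent.Lib.Helper25.Siegel
  Cfsg.Agent.Lib.Helper25.PS Cfsg.Agent.Lib.Helper25.PAut Cfsg.Agent.Lib.Helper15

variable {ι : Type} [Fintype ι] [DecidableEq ι] {F : Type*} [Field F] [Fintype F]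
  (Q : QuadraticForm F (ι → F)) (hQ : (polarBilin Q).Nondegenerate)

include hQ in
theorem induced_of_gamma (β : Cfsg.POmega F ⇑Q ≃* Cfsg.POmega F ⇑Q) (σ : F ≃+* F) (μ : F)
    (γ : (ι → F) → (ι → F)) (hμ0 : μ ≠ 0) (hadd : ∀ x y, γ (x + y) = γ x + γ y)
    (hsmul : ∀ (c : F) x, γ (c • x) = σ c • γ x) (hform : ∀ x, Q (γ x) = μ * σ (Q x))
    (hInd : IndSub Q β γ = ⊤) :
    ∃ g : GL ι F, Cfsg.IsSemisimilarityPair (⇑Q) g σ ∧
      Cfsg.IsInducedBySemilinearPOmega (⇑Q) g σ β := by
  classical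
  have hpolar : ∀ x y, polar Q (γ x) (γ y) = μ * σ (polar Q x y) := by
    intro x y
    unfold polar
    rw [← hadd, hform, hform, hform, map_sub, map_sub]
    ring
  have hγinj : ∀ y, γ y = 0 → y = 0 := by
    intro y hy
    apply hQ.1 y
    intro z
    rw [polarBilin_apply_apply]
    have h1 := hpolar y z
    rw [hy] at h1
    have h2 : polar Q (0 : ι → F) (γ z) = 0 := by simp
    rw [h2] at h1
    have h3 := (mul_eq_zero.1 h1.symm).resolve_left hμ0
    exact (map_eq_zero σ).1 h3
  let L : (ι → F) →ₗ[F] (ι → F) :=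
    { toFun := fun x => γ (fun i => σ.symm (x i))
      map_add' := by
        intro x y
        have : (fun i => σ.symm ((x + y) i)) = (fun i => σ.symm (x i)) + fun i => σ.symm (y i) := by
          funext i
          simp
        rw [this, hadd]
      map_smul' := by
        intro a x
        have : (fun i => σ.symm ((a • x) i)) = σ.symm a • fun i => σ.symm (x i) := by
          funext i
          simp
        rw [this, hsmul, RingEquiv.apply_symm_apply, RingHom.id_apply] }
  have hL : ∀ x, L x = γ (fun i => σ.symm (x i)) := fun x => rfl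
  have hLinj : Function.Injective L := by
    rw [← LinearMap.ker_eq_bot, LinearMap.ker_eq_bot']
    intro x hx
    rw [hL] at hx
    have h1 := hγinj _ hx
    funext i
    have h2 := congrFun h1 i
    simpa using h2
  let M₀ : Matrix ι ι F := LinearMap.toMatrix' L
  have hM₀v : ∀ x, M₀.mulVec x = L x := by
    intro x
    show (LinearMap.toMatrix' L).mulVec x = L x
    rw [← Matrix.toLin'_apply, Matrix.toLin'_toMatrix']
  have hM₀det : M₀.det ≠ 0 := by
    have h1 : M₀.det = LinearMap.det L := LinearMap.det_toMatrix' L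
    rw [h1]
    have h2 := LinearEquiv.isUnit_det' (LinearEquiv.ofInjectiveEndo L hLinj)
    have h3 : ((LinearEquiv.ofInjectiveEndo L hLinj : _ ≃ₗ[F] _) : _ →ₗ[F] _) = L :=
      LinearMap.ext fun x => congrFun (LinearEquiv.coe_ofInjectiveEndo L hLinj) x
    rw [h3] at h2
    exact h2.ne_zero
  let g : GL ι F := Matrix.GeneralLinearGroup.mkOfDetNeZero M₀ hM₀det
  have hgM : (g : Matrix ι ι F) = M₀ := rfl
  have hgv : ∀ x : ι → F, (g : Matrix ι ι F) *ᵥ (fun i => σ (x i)) = γ x := by
    intro x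
    rw [hgM, hM₀v, hL]
    simp only [RingEquiv.symm_apply_apply]
  refine ⟨g, ⟨Units.mk0 μ hμ0, fun v => ?_⟩, ?_⟩
  · rw [hgv, hform]
    rfl
  · intro s s' hss'
    have hmem : s ∈ IndSub Q β γ := by
      rw [hInd]
      exact Subgroup.mem_top s
    obtain ⟨s'', hs'', hβs⟩ := hmem
    rw [hβs]
    congr 1
    apply Subtype.ext
    apply toOG_injective Q
    ext1 y
    -- `γ` is surjective
    obtain ⟨x, rfl⟩ : ∃ x, γ x = y := by
      refine ⟨fun i => σ.symm ((((g⁻¹ : GL ι F) : Matrix ι ι F) *ᵥ y) i), ?_⟩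
      rw [← hgv]
      simp only [RingEquiv.apply_symm_apply]
      rw [Matrix.mulVec_mulVec, ← Units.val_mul, mul_inv_cancel, Units.val_one, Matrix.one_mulVec]
    rw [hs'', toOG_apply, toOG_apply, hss']
    have e1 : ((g : Matrix ι ι F) * ((((s : ↥(Cfsg.isometryGroup F ⇑Q)) : GL ι F) :
        Matrix ι ι F)).map σ * ((g⁻¹ : GL ι F) : Matrix ι ι F)) *ᵥ γ x =
        (g : Matrix ι ι F) *ᵥ (((((s : ↥(Cfsg.isometryGroup F ⇑Q)) : GL ι F) :
          Matrix ι ι F)).map σ *ᵥ fun i => σ (x i)) := by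
      rw [← hgv x, Matrix.mulVec_mulVec, Matrix.mul_assoc, ← Units.val_mul, inv_mul_cancel,
        Units.val_one, Matrix.mul_one, ← Matrix.mulVec_mulVec]
    rw [e1, ← hgv]
    congr 1
    funext i
    exact RingHom.map_mulVec ((σ : F ≃+* F) : F →+* F) _ x i

end Cfsg.Agent.Lib.Helper18.OrthAut
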