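import Cfsg.Agent.Lib.Helper18.OrthAutN

set_option autoImplicit false

/-!
helper18: every automorphism of `PΩ(Q)` (`n ≥ 7`) is induced by a semilinear similitude, provided
every automorphism permutes the root subgroups `R̄_u`.
-/

namespace Cfsg.Agent.Lib.Helper18.OrthAut

open Module QuadraticMap Matrix Cfsg.Agent.Lib.Helper25.CD Cfsg.Agent.Lib.Helper25.Siegel
  Cfsg.Agent.Lib.Helper25.PS Cfsg.Agent.Lib.Helper25.PAut Cfsg.Agent.Lib.Helper15

variable {ι : Type} [Fintype ι] [DecidableEq ι] {F : Type*} [Field F] [Fintype F]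
  (Q : QuadraticForm F (ι → F)) (hQ : (polarBilin Q).Nondegenerate) (hn : 7 ≤ Fintype.card ι)

include hQ hn in
/-- `Ω` is transitive on the pairs of non-orthogonal singular points -/
theorem exists_omega_to_pair {e f u v : ι → F} (h : HypPair Q e f) (hu0 : u ≠ 0) (hu : Q u = 0)
    (hv0 : v ≠ 0) (hv : Q v = 0) (huv : polar Q u v ≠ 0) :
    ∃ k : ↥(Cfsg.Omega F ⇑Q), (∃ a : F, a ≠ 0 ∧ toOG Q k.1 u = a • e) ∧
      ∃ b : F, b ≠ 0 ∧ toOG Q k.1 v = b • f := by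
  have := omega_pretransitive Q hQ (by omega)
  obtain ⟨g₁, hg₁⟩ := MulAction.exists_smul_eq ↥(Cfsg.Omega F ⇑Q) (mk' Q u hu0 hu)
    (mk' Q e h.e_ne h.he)
  have hg₁' : g₁.1 • mk' Q u hu0 hu = mk' Q e h.e_ne h.he := hg₁
  rw [smul_mk'] at hg₁'
  obtain ⟨a, ha⟩ := exists_smul_of_mk'_eq Q _ _ _ _ hg₁'
  have ha0 : a ≠ 0 := by
    rintro rfl
    rw [zero_smul] at ha
    exact hu0 ((toOG Q g₁.1).injective (ha.trans (map_zero _).symm))
  obtain ⟨v₁, hv₁⟩ : ∃ v₁, v₁ = toOG Q g₁.1 v := ⟨_, rfl⟩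
  have hv₁0 : v₁ ≠ 0 := by
    rw [hv₁]
    intro h0
    exact hv0 ((toOG Q g₁.1).injective (h0.trans (map_zero _).symm))
  have hQv₁ : Q v₁ = 0 := by rw [hv₁, Q_toOG, hv]
  have hev₁ : polar Q e v₁ ≠ 0 := by
    intro h0
    apply huv
    rw [← polar_toOG Q g₁.1 u v, ha, ← hv₁, polar_smul_left, h0, smul_zero]
  have hne1 : mk' Q e h.e_ne h.he ≠ mk' Q v₁ hv₁0 hQv₁ := by
    intro heq
    have h1 := ort_self Q (mk' Q e h.e_ne h.he)
    nth_rewrite 2 [heq] at h1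
    rw [ort_mk'] at h1
    exact hev₁ h1
  have hne2 : mk' Q e h.e_ne h.he ≠ mk' Q f h.f_ne h.hf := by
    intro heq
    have h1 := ort_self Q (mk' Q e h.e_ne h.he)
    nth_rewrite 2 [heq] at h1
    rw [ort_mk', h.hef] at h1
    exact one_ne_zero h1
  have hiff : ort Q (mk' Q e h.e_ne h.he) (mk' Q v₁ hv₁0 hQv₁) ↔
      ort Q (mk' Q e h.e_ne h.he) (mk' Q f h.f_ne h.hf) := by
    rw [ort_mk', ort_mk', h.hef]
    exact ⟨fun h0 => absurd h0 hev₁, fun h0 => absurd h0 one_ne_zero⟩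
  obtain ⟨g₂, hg₂e, hg₂v⟩ := trans_pair Q hQ (by omega) hne1 hne2 hiff
  have hg₂e' : g₂.1 • mk' Q e h.e_ne h.he = mk' Q e h.e_ne h.he := hg₂e
  have hg₂v' : g₂.1 • mk' Q v₁ hv₁0 hQv₁ = mk' Q f h.f_ne h.hf := hg₂v
  rw [smul_mk'] at hg₂e' hg₂v'
  obtain ⟨a', ha'⟩ := exists_smul_of_mk'_eq Q _ _ _ _ hg₂e'
  obtain ⟨b, hb⟩ := exists_smul_of_mk'_eq Q _ _ _ _ hg₂v'
  have ha'0 : a' ≠ 0 := by
    rintro rfl
    rw [zero_smul] at ha'
    exact h.e_ne ((toOG Q g₂.1).injective (ha'.trans (map_zero _).symm))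
  have hb0 : b ≠ 0 := by
    rintro rfl
    rw [zero_smul] at hb
    exact hv₁0 ((toOG Q g₂.1).injective (hb.trans (map_zero _).symm))
  refine ⟨g₂ * g₁, ⟨a * a', mul_ne_zero ha0 ha'0, ?_⟩, ⟨b, hb0, ?_⟩⟩
  · rw [Subgroup.coe_mul, map_mul, LinearEquiv.mul_apply, ha, map_smul, ha', smul_smul]
  · rw [Subgroup.coe_mul, map_mul, LinearEquiv.mul_apply, ← hv₁, hb]

include hQ hn in
/-- normalisation of an automorphism -/
theorem exists_normalise {e f : ι → F} (h : HypPair Q e f)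
    (β : Cfsg.POmega F ⇑Q ≃* Cfsg.POmega F ⇑Q) (hperm : Permutes Q β) :
    ∃ k : ↥(Cfsg.Omega F ⇑Q),
      (Rbar Q e h.he).map (β.trans (MulAut.conj (QuotientGroup.mk k))).toMonoidHom =
        Rbar Q e h.he ∧
      (Rbar Q f h.hf).map (β.trans (MulAut.conj (QuotientGroup.mk k))).toMonoidHom =
        Rbar Q f h.hf := by
  obtain ⟨u, hu0, hu, hmapu⟩ := hperm e h.e_ne h.he
  obtain ⟨v, hv0, hv, hmapv⟩ := hperm f h.f_ne h.hf
  have hinf : Rbar Q u hu ⊓ Rbar Q v hv = ⊥ := by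
    rw [← hmapu, ← hmapv, ← map_inf_equiv, Rbar_inf_hyp Q hQ hn h]
    exact Subgroup.map_bot _
  have huv : polar Q u v ≠ 0 := by
    intro h0
    by_cases hc : ∃ c : F, v = c • u
    · obtain ⟨c, hc⟩ := hc
      have hc0 : c ≠ 0 := by
        rintro rfl
        rw [zero_smul] at hc
        exact hv0 hc
      have e1 : Rbar Q v hv = Rbar Q u hu := by
        rw [← Rbar_smul Q hu hc0]
        exact Rbar_congr Q _ _ hc
      rw [e1, inf_idem, ← hmapu] at hinf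
      have h2 := (Subgroup.map_eq_bot_iff_of_injective _ β.injective).1 hinf
      exact Rbar_ne_bot Q hQ hn h h2
    · push Not at hc
      exact Rbar_inf_ne_bot Q hQ hn hu0 hu hv h0 hc hinf
  obtain ⟨k, ⟨a, ha0, ha⟩, ⟨b, hb0, hb⟩⟩ := exists_omega_to_pair Q hQ hn h hu0 hu hv0 hv huv
  refine ⟨k, ?_, ?_⟩
  · have e1 : (β.trans (MulAut.conj (QuotientGroup.mk k : Cfsg.POmega F ⇑Q))).toMonoidHom =
        (MulAut.conj (QuotientGroup.mk k : Cfsg.POmega F ⇑Q)).toMonoidHom.comp β.toMonoidHom := rfl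
    rw [e1, ← Subgroup.map_map, hmapu, map_conj_Rbar Q k hu, ← Rbar_smul Q h.he ha0]
    exact Rbar_congr Q _ _ ha
  · have e1 : (β.trans (MulAut.conj (QuotientGroup.mk k : Cfsg.POmega F ⇑Q))).toMonoidHom =
        (MulAut.conj (QuotientGroup.mk k : Cfsg.POmega F ⇑Q)).toMonoidHom.comp β.toMonoidHom := rfl
    rw [e1, ← Subgroup.map_map, hmapv, map_conj_Rbar Q k hv, ← Rbar_smul Q h.hf hb0]
    exact Rbar_congr Q _ _ hb

omit [Fintype F] in
theorem conj_matrix_aux (K G : GL ι F) (X : Matrix ι ι F) :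
    (K : Matrix ι ι F) * ((((K⁻¹ * G : GL ι F)) : Matrix ι ι F) * X *
      (((K⁻¹ * G)⁻¹ : GL ι F) : Matrix ι ι F)) * ((K⁻¹ : GL ι F) : Matrix ι ι F) =
      (G : Matrix ι ι F) * X * ((G⁻¹ : GL ι F) : Matrix ι ι F) := by
  rw [_root_.mul_inv_rev, inv_inv, Units.val_mul, Units.val_mul]
  simp only [Matrix.mul_assoc]
  rw [Units.mul_inv_cancel_left, Units.mul_inv, Matrix.mul_one]

include hQ hn in
/-- every automorphism of `PΩ(Q)` is induced by a semilinear similitude -/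
theorem aut_induced (hperm : ∀ β : Cfsg.POmega F ⇑Q ≃* Cfsg.POmega F ⇑Q, Permutes Q β)
    (β : Cfsg.POmega F ⇑Q ≃* Cfsg.POmega F ⇑Q) :
    ∃ (g : GL ι F) (σ : F ≃+* F), Cfsg.IsSemisimilarityPair (⇑Q) g σ ∧
      Cfsg.IsInducedBySemilinearPOmega (⇑Q) g σ β := by
  have hfr : finrank F (ι → F) = Fintype.card ι := Module.finrank_fintype_fun_eq_card F
  obtain ⟨e, he0, he⟩ := exists_singular_of_three_le Q (by omega)
  obtain ⟨f, hf, hef⟩ := Cfsg.Agent.Lib.Helper25.Fam.exists_sing_partner Q hQ he0 he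
  have h : HypPair Q e f := ⟨he, hf, hef⟩
  obtain ⟨k, hke, hkf⟩ := exists_normalise Q hQ hn h β (hperm β)
  obtain ⟨σ, μ, γ, hμ0, hadd, hsmul, hform, hInd⟩ :=
    exists_gamma Q hQ hn h _ hke hkf (hperm _)
  obtain ⟨g', hsemi, hind⟩ := induced_of_gamma Q hQ _ σ μ γ hμ0 hadd hsmul hform hInd
  refine ⟨(k.1.1)⁻¹ * g', σ, ?_, ?_⟩
  · obtain ⟨c, hc⟩ := hsemi
    refine ⟨c, fun v => ?_⟩
    rw [Units.val_mul, ← Matrix.mulVec_mulVec]
    have hk : (k.1⁻¹ : ↥(Cfsg.isometryGroup F ⇑Q)).1 ∈ Cfsg.isometryGroup F ⇑Q :=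
      (k.1⁻¹ : ↥(Cfsg.isometryGroup F ⇑Q)).2
    have h1 := hk ((g' : Matrix ι ι F) *ᵥ fun i => σ (v i))
      ((g' : Matrix ι ι F) *ᵥ fun i => σ (v i))
    rw [← hc v]
    exact h1
  · intro s s' hss'
    -- the conjugate `k s' k⁻¹`
    have h1 := hind s (k * s' * k⁻¹) (by
      show (k.1.1 * s'.1.1 * (k.1.1)⁻¹ : GL ι F).1 = _
      rw [Units.val_mul, Units.val_mul, hss']
      exact conj_matrix_aux k.1.1 g' _)
    have h2 : (β.trans (MulAut.conj (QuotientGroup.mk k : Cfsg.POmega F ⇑Q)))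
        (QuotientGroup.mk s) =
        (QuotientGroup.mk k : Cfsg.POmega F ⇑Q) * β (QuotientGroup.mk s) *
          (QuotientGroup.mk k)⁻¹ := rfl
    rw [h2, QuotientGroup.mk_mul, QuotientGroup.mk_mul, QuotientGroup.mk_inv] at h1
    exact mul_left_cancel (mul_right_cancel h1)

end Cfsg.Agent.Lib.Helper18.OrthAut
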