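import Cfsg.Agent.Lib.Helper18.OrthAutO
import Cfsg.Agent.Lib.Helper25.AutO2

set_option autoImplicit false

/-!
helper18: the final form: if every automorphism of `PΩ(Q)` permutes the images of the root
subgroups `R_u` (in the form of `Cfsg.Agent.Lib.Helper25.AutO.RU`), then every automorphism is
induced by a semilinear similitude, and `gammaPOmega F Q = ⊤`.
-/

namespace Cfsg.Agent.Lib.Helper18.OrthAut

open Module QuadraticMap Matrix Cfsg.Agent.Lib.Helper25.CD Cfsg.Agent.Lib.Helper25.Siegel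
  Cfsg.Agent.Lib.Helper25.PS Cfsg.Agent.Lib.Helper25.PAut Cfsg.Agent.Lib.Helper15

variable {ι : Type} [Fintype ι] [DecidableEq ι] {F : Type*} [Field F] [Fintype F]
  (Q : QuadraticForm F (ι → F))

/-- the two definitions of the root subgroups agree -/
theorem RU_eq_AutO (u : ι → F) (hu : Q u = 0) :
    RU Q u hu = Cfsg.Agent.Lib.Helper25.AutO.RU Q u hu := by
  ext g
  rw [mem_RU, Cfsg.Agent.Lib.Helper25.AutO.mem_RU]
  constructor
  · rintro ⟨w, huw, hg⟩
    refine ⟨w, huw, fun x => ?_⟩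
    rw [Cfsg.Agent.Lib.Helper25.AutO.act_apply, hg, toOG_TG]
    rfl
  · rintro ⟨w, huw, hg⟩
    refine ⟨w, huw, ?_⟩
    apply eq_TG_of_apply
    intro x
    rw [← Cfsg.Agent.Lib.Helper25.AutO.act_apply, hg]
    rfl

theorem Rbar_eq_AutO (u : ι → F) (hu : Q u = 0) :
    Rbar Q u hu = (Cfsg.Agent.Lib.Helper25.AutO.RU Q u hu).map
      (QuotientGroup.mk' (Subgroup.center ↥(Cfsg.Omega F ⇑Q))) := by
  unfold Rbar
  rw [RU_eq_AutO]

/-- the hypothesis in terms of `AutO.RU` -/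
def PermutesAutO (β : Cfsg.POmega F ⇑Q ≃* Cfsg.POmega F ⇑Q) : Prop :=
  ∀ (u : ι → F) (_ : u ≠ 0) (hu : Q u = 0), ∃ (u' : ι → F) (_ : u' ≠ 0) (hu' : Q u' = 0),
    ((Cfsg.Agent.Lib.Helper25.AutO.RU Q u hu).map
      (QuotientGroup.mk' (Subgroup.center ↥(Cfsg.Omega F ⇑Q)))).map β.toMonoidHom =
    (Cfsg.Agent.Lib.Helper25.AutO.RU Q u' hu').map
      (QuotientGroup.mk' (Subgroup.center ↥(Cfsg.Omega F ⇑Q)))

theorem permutes_of_AutO {β : Cfsg.POmega F ⇑Q ≃* Cfsg.POmega F ⇑Q} (h : PermutesAutO Q β) :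
    Permutes Q β := by
  intro u hu0 hu
  obtain ⟨u', hu'0, hu', hmap⟩ := h u hu0 hu
  refine ⟨u', hu'0, hu', ?_⟩
  rw [Rbar_eq_AutO, Rbar_eq_AutO]
  exact hmap

variable (hQ : (polarBilin Q).Nondegenerate) (hn : 7 ≤ Fintype.card ι)

include hQ hn in
/-- **Main theorem (part II).** If every automorphism of `PΩ(Q)` permutes the images of the root
subgroups, then every automorphism is induced by a semilinear similitude. -/
theorem aut_induced_of_permutes
    (hperm : ∀ β : Cfsg.POmega F ⇑Q ≃* Cfsg.POmega F ⇑Q, PermutesAutO Q β)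
    (β : Cfsg.POmega F ⇑Q ≃* Cfsg.POmega F ⇑Q) :
    ∃ (g : GL ι F) (σ : F ≃+* F), Cfsg.IsSemisimilarityPair (⇑Q) g σ ∧
      Cfsg.IsInducedBySemilinearPOmega (⇑Q) g σ β :=
  aut_induced Q hQ hn (fun β' => permutes_of_AutO Q (hperm β')) β

include hQ hn in
/-- the image of `PΓO(Q)` is the whole automorphism group -/
theorem gammaPOmega_eq_top
    (hperm : ∀ β : Cfsg.POmega F ⇑Q ≃* Cfsg.POmega F ⇑Q, PermutesAutO Q β) :
    Cfsg.gammaPOmega F (⇑Q) = ⊤ := by
  rw [eq_top_iff]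
  intro β _
  unfold Cfsg.gammaPOmega Cfsg.autSubgroupOf
  apply Subgroup.subset_closure
  exact aut_induced_of_permutes Q hQ hn hperm β

end Cfsg.Agent.Lib.Helper18.OrthAut
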