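import Cfsg.Agent.Lib.Helper18.OrthFldJ
import Cfsg.Agent.Lib.Helper25.Siegel2
import Cfsg.Agent.Lib.Helper25.GraphSplit6
import Cfsg.Agent.Lib.Helper25.OrthGeom
import Cfsg.Agent.Lib.Helper25.OmegaFam

set_option autoImplicit false

/-!
# Semisimilarities centralising a subfield subgroup `Ω(Q₀) ≤ Ω(Q)`: the linear algebra

A semilinear bijection `T` of `Fⁿ` commuting with the (base changes of the) long root elements of
`Ω(Q₀)`, `Q₀` a form over a subfield `F₀`, has every `F₀`-rational singular vector as an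
eigenvector; its field automorphism fixes `F₀` and its linear part is a scalar.
-/

namespace Cfsg.Agent.Lib.Helper18.OrthBal

open Module QuadraticMap Matrix Cfsg.Agent.Lib.Helper25.PSim Cfsg.Agent.Lib.Helper25.Spin
  Cfsg.Agent.Lib.Helper25.CD Cfsg.Agent.Lib.Helper18.OrthFld Cfsg.Agent.Lib.Helper25.GraphSplit
  Cfsg.Agent.Lib.Helper25.Siegel Cfsg.Agent.Lib.Helper25.MaxTS Cfsg.Agent.Lib.Helper25.Fam

universe u v

section abstractHom

variable {G H : Type*} [Group G] [Group H]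

/-- two homomorphisms from a perfect group that differ by central elements are equal -/
theorem eq_of_central_diff (hperf : commutator G = ⊤) (φ₁ φ₂ : G →* H)
    (h : ∀ s, (φ₁ s)⁻¹ * φ₂ s ∈ Subgroup.center H) (s : G) : φ₂ s = φ₁ s := by
  let χ : G →* ↥(Subgroup.center H) :=
    { toFun := fun s => ⟨(φ₁ s)⁻¹ * φ₂ s, h s⟩
      map_one' := by
        apply Subtype.ext
        show (φ₁ 1)⁻¹ * φ₂ 1 = 1
        rw [map_one, map_one, inv_one, one_mul]
      map_mul' := by
        intro a b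
        apply Subtype.ext
        show (φ₁ (a * b))⁻¹ * φ₂ (a * b) = ((φ₁ a)⁻¹ * φ₂ a) * ((φ₁ b)⁻¹ * φ₂ b)
        have hc := (Subgroup.mem_center_iff.1 (h a)) (φ₁ b)⁻¹
        rw [map_mul, map_mul, _root_.mul_inv_rev]
        calc (φ₁ b)⁻¹ * (φ₁ a)⁻¹ * (φ₂ a * φ₂ b)
            = ((φ₁ b)⁻¹ * ((φ₁ a)⁻¹ * φ₂ a)) * φ₂ b := by simp only [mul_assoc]
          _ = (((φ₁ a)⁻¹ * φ₂ a) * (φ₁ b)⁻¹) * φ₂ b := by rw [hc]
          _ = _ := by simp only [mul_assoc] }
  have hker : commutator G ≤ χ.ker := by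
    rw [commutator_def, Subgroup.commutator_le]
    intro a _ b _
    rw [MonoidHom.mem_ker, map_commutatorElement, commutatorElement_eq_one_iff_mul_comm]
    apply Subtype.ext
    exact ((Subgroup.mem_center_iff.1 (χ a).2) (χ b).1).symm
  rw [hperf] at hker
  have h1 : χ s = 1 := hker (Subgroup.mem_top s)
  have h2 : (φ₁ s)⁻¹ * φ₂ s = 1 := congrArg Subtype.val h1
  rw [inv_mul_eq_one] at h2
  exact h2.symm

end abstractHom

section semilinear

variable {κ : Type} {F : Type u} [Field F] (T : (κ → F) → (κ → F)) (τ : F ≃+* F)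
  (hadd : ∀ x y, T (x + y) = T x + T y) (hsmul : ∀ (c : F) x, T (c • x) = τ c • T x)

include hadd hsmul in
theorem T_sub (x y : κ → F) : T (x - y) = T x - T y := by
  have e1 : x - y = x + (-1 : F) • y := by rw [neg_one_smul, sub_eq_add_neg]
  rw [e1, hadd, hsmul, map_neg, map_one, neg_one_smul, sub_eq_add_neg]

include hadd hsmul in
theorem T_zero : T 0 = 0 := by
  have := T_sub T τ hadd hsmul 0 0
  rwa [sub_self, sub_self] at this

end semilinear

section base

variable {κ : Type} [Fintype κ] [DecidableEq κ] {F₀ : Type v} {F : Type u} [Field F₀] [Field F]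
  (e : F₀ →+* F) (Q₀ : QuadraticForm F₀ (κ → F₀)) (Q : QuadraticForm F (κ → F))
  (hc : Compat e (⇑Q₀) (⇑Q))

include hc in
theorem siegelMatrix_map (u v : κ → F₀) (c : F₀) :
    (Cfsg.siegelMatrix (⇑Q₀) u v c).map e = Cfsg.siegelMatrix (⇑Q) (ev e u) (ev e v) (e c) := by
  ext a b
  unfold Cfsg.siegelMatrix Cfsg.polarVec
  rw [Matrix.map_apply, Matrix.add_apply, Matrix.add_apply, Matrix.smul_apply, Matrix.smul_apply,
    Matrix.sub_apply, Matrix.sub_apply, Matrix.vecMulVec_apply, Matrix.vecMulVec_apply,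
    Matrix.vecMulVec_apply, Matrix.vecMulVec_apply, smul_eq_mul, smul_eq_mul, map_add, map_mul,
    map_sub, map_mul, map_mul, ← polar_compat e Q₀ Q hc, ← polar_compat e Q₀ Q hc, ev_single,
    ev_apply, ev_apply]
  congr 1
  by_cases hab : a = b
  · subst hab
    rw [Matrix.one_apply_eq, Matrix.one_apply_eq, map_one]
  · rw [Matrix.one_apply_ne hab, Matrix.one_apply_ne hab, map_zero]

theorem ev_ne_zero {u : κ → F₀} (hu : u ≠ 0) : ev e u ≠ 0 := by
  intro h
  apply hu
  apply ev_injective e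
  rw [h]
  funext i
  rw [ev_apply, Pi.zero_apply, Pi.zero_apply, map_zero]

/-- if `u ⊗ 1` is an `F`-multiple of `w ⊗ 1` then `u` is an `F₀`-multiple of `w` -/
theorem ev_dep {u w : κ → F₀} (hw : w ≠ 0) (c : F) (h : ev e u = c • ev e w) :
    ∃ a : F₀, u = a • w := by
  obtain ⟨i, hi⟩ : ∃ i, w i ≠ 0 := by
    by_contra hcon
    push Not at hcon
    exact hw (funext hcon)
  have hei : e (w i) ≠ 0 := by
    intro h0
    apply hi
    apply e.injective
    rw [h0, map_zero]
  have hci : c = e (u i / w i) := by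
    have := congrFun h i
    rw [ev_apply, Pi.smul_apply, ev_apply, smul_eq_mul] at this
    rw [map_div₀, this, mul_div_assoc, div_self hei, mul_one]
  refine ⟨u i / w i, ?_⟩
  funext j
  have := congrFun h j
  rw [ev_apply, Pi.smul_apply, ev_apply, smul_eq_mul, hci, ← map_mul] at this
  rw [Pi.smul_apply, smul_eq_mul]
  exact e.injective this

end base

section eigen

variable {κ : Type} [Fintype κ] [DecidableEq κ] {F₀ : Type v} {F : Type u} [Field F₀] [Field F]
  [Fintype F₀]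
  (e : F₀ →+* F) (Q₀ : QuadraticForm F₀ (κ → F₀)) (Q : QuadraticForm F (κ → F))
  (hc : Compat e (⇑Q₀) (⇑Q))
  (T : (κ → F) → (κ → F)) (τ : F ≃+* F)
  (hadd : ∀ x y, T (x + y) = T x + T y) (hsmul : ∀ (c : F) x, T (c • x) = τ c • T x)

omit [Fintype κ] [DecidableEq κ] in
include hadd hsmul in
/-- the basic relation obtained from the commutation with one Siegel element -/
theorem rel_of_comm (U Z X : κ → F) (hUX : polar Q U X = 0) (hZX : polar Q Z X = 1)
    (hcomm : siegF Q U Z 1 (T X) = T (siegF Q U Z 1 X)) :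
    T U = polar Q Z (T X) • U - polar Q U (T X) • Z := by
  unfold siegF at hcomm
  rw [hUX, hZX] at hcomm
  have e1 : X + (1 : F) • ((0 : F) • Z - (1 : F) • U) = X - U := by
    rw [zero_smul, one_smul, one_smul, zero_sub, sub_eq_add_neg]
  rw [e1, T_sub T τ hadd hsmul, one_smul] at hcomm
  have h3 : T U = T X - (T X + (polar Q U (T X) • Z - polar Q Z (T X) • U)) := by
    rw [hcomm]
    abel
  rw [h3]
  abel

include hc hadd hsmul in
/-- every `F₀`-rational singular vector is an eigenvector -/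
theorem eigen_of_comm_siegel (hQ₀ : (polarBilin Q₀).Nondegenerate) (hn : 7 ≤ Fintype.card κ)
    (hcomm : ∀ u z : κ → F₀, Q₀ u = 0 → Q₀ z = 0 → polar Q₀ u z = 0 → ∀ w,
      siegF Q (ev e u) (ev e z) 1 (T w) = T (siegF Q (ev e u) (ev e z) 1 w))
    (u : κ → F₀) (hu0 : u ≠ 0) (hu : Q₀ u = 0) : ∃ t : F, T (ev e u) = t • ev e u := by
  have hfr7 : 7 ≤ finrank F₀ (κ → F₀) := by
    rw [Module.finrank_fintype_fun_eq_card]
    exact hn
  have hfr5 : 5 ≤ finrank F₀ (κ → F₀) := by omega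
  obtain ⟨u', hu', huu'⟩ := exists_sing_partner Q₀ hQ₀ hu0 hu
  obtain ⟨z, hz0, hz, huz, hu'z⟩ := Cfsg.Agent.Lib.Helper25.OGeom.exists_sing_perp_pair Q₀ hQ₀
    hfr5 hu hu' (by rw [huu']; exact one_ne_zero)
  obtain ⟨z', hz', hzz', huz', hu'z'⟩ := exists_sing_partner_perp Q₀ hQ₀ hu hu' huu' hz0 hz huz
    hu'z
  obtain ⟨w, w', hw, hw', hww', huw, hzw, huw', hzw'⟩ :=
    Cfsg.Agent.Lib.Helper25.OGeom.exists_hyp_perp Q₀ hQ₀ hfr7 hu hz huz
  have pc := polar_compat e Q₀ Q hc
  have h1 := rel_of_comm Q T τ hadd hsmul (ev e u) (ev e z) (ev e z')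
    (by rw [pc, huz', map_zero]) (by rw [pc, hzz', map_one]) (hcomm u z hu hz huz (ev e z'))
  have h2 := rel_of_comm Q T τ hadd hsmul (ev e u) (ev e w) (ev e w')
    (by rw [pc, huw', map_zero]) (by rw [pc, hww', map_one]) (hcomm u w hu hw huw (ev e w'))
  have h3 : polar Q (T (ev e u)) (ev e w') = 0 := by
    rw [h1, polar_sub_left, polar_smul_left, polar_smul_left, pc, pc, huw', hzw', map_zero,
      smul_zero, smul_zero, sub_zero]
  have h4 : polar Q (T (ev e u)) (ev e w') = - polar Q (ev e u) (T (ev e w')) := by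
    rw [h2, polar_sub_left, polar_smul_left, polar_smul_left, pc, pc, huw', hww', map_zero,
      map_one, smul_zero, zero_sub, smul_eq_mul, mul_one]
  rw [h3] at h4
  have h5 : polar Q (ev e u) (T (ev e w')) = 0 := by
    rw [← neg_eq_zero, ← h4]
  refine ⟨polar Q (ev e w) (T (ev e w')), ?_⟩
  rw [h2, h5, zero_smul, sub_zero]

include hc hadd hsmul in
/-- the field automorphism fixes the subfield -/
theorem tau_fix_of_eigen (hQ₀ : (polarBilin Q₀).Nondegenerate) (hn : 5 ≤ Fintype.card κ)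
    (hinj : ∀ x, T x = 0 → x = 0)
    (heig : ∀ u : κ → F₀, u ≠ 0 → Q₀ u = 0 → ∃ t : F, T (ev e u) = t • ev e u) (a : F₀) :
    τ (e a) = e a := by
  have hfr5 : 5 ≤ finrank F₀ (κ → F₀) := by
    rw [Module.finrank_fintype_fun_eq_card]
    exact hn
  obtain ⟨u, hu0, hu⟩ := Cfsg.Agent.Lib.Helper15.exists_singular_of_three_le Q₀
    (show 3 ≤ finrank F₀ (κ → F₀) by omega)
  obtain ⟨u', hu', huu'⟩ := exists_sing_partner Q₀ hQ₀ hu0 hu
  obtain ⟨z, hz0, hz, huz, hu'z⟩ := Cfsg.Agent.Lib.Helper25.OGeom.exists_sing_perp_pair Q₀ hQ₀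
    hfr5 hu hu' (by rw [huu']; exact one_ne_zero)
  have pc := polar_compat e Q₀ Q hc
  have hind2 : ∀ s t : F, s • ev e u + t • ev e z = 0 → s = 0 ∧ t = 0 := by
    intro s t hst
    have h1 : polar Q (s • ev e u + t • ev e z) (ev e u') = 0 := by
      rw [hst]
      simp
    rw [polar_add_left, polar_smul_left, polar_smul_left, pc, pc, huu', polar_comm Q₀ z u', hu'z,
      map_one, map_zero, smul_eq_mul, smul_eq_mul, mul_one, mul_zero, add_zero] at h1
    subst h1
    rw [zero_smul, zero_add] at hst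
    exact ⟨rfl, (smul_eq_zero.1 hst).resolve_right (ev_ne_zero e hz0)⟩
  obtain ⟨t, ht⟩ := heig u hu0 hu
  have ht0 : t ≠ 0 := by
    rintro rfl
    rw [zero_smul] at ht
    exact ev_ne_zero e hu0 (hinj _ ht)
  obtain ⟨t', ht'⟩ := heig z hz0 hz
  have key : ∀ b : F₀, τ (e b) * t' = t * e b := by
    intro b
    have hQb : Q₀ (u + b • z) = 0 := by
      rw [Cfsg.Agent.Lib.Helper25.MaxTS.Q_add, hu, QuadraticMap.map_smul, hz, polar_smul_right, huz]
      simp
    have hb0 : u + b • z ≠ 0 := by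
      intro h0
      have h1 : (1 : F) • ev e u + e b • ev e z = 0 := by
        rw [one_smul, ← ev_smul, ← ev_add, h0]
        funext i
        rw [ev_apply, Pi.zero_apply, Pi.zero_apply, map_zero]
      exact one_ne_zero (hind2 1 (e b) h1).1
    obtain ⟨tb, htb⟩ := heig (u + b • z) hb0 hQb
    rw [ev_add, ev_smul, hadd, hsmul, ht, ht', smul_add, smul_smul, smul_smul] at htb
    have h3 : (t - tb) • ev e u + (τ (e b) * t' - tb * e b) • ev e z = 0 := by
      rw [sub_smul, sub_smul]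
      linear_combination (exp := 1) htb
    obtain ⟨h4, h5⟩ := hind2 _ _ h3
    rw [sub_eq_zero] at h4 h5
    rw [h5, h4]
  have h1 := key 1
  rw [map_one, map_one, one_mul, mul_one] at h1
  have h2 := key a
  rw [h1] at h2
  apply mul_right_cancel₀ ht0
  rw [h2, mul_comm]

end eigen

section scalar

variable {κ : Type} [Fintype κ] [DecidableEq κ] {F₀ : Type v} {F : Type u} [Field F₀] [Field F]
  [Fintype F₀]
  (e : F₀ →+* F) (Q₀ : QuadraticForm F₀ (κ → F₀))
  (G : (κ → F₀) → (κ → F))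
  (hGadd : ∀ x y, G (x + y) = G x + G y) (hGsmul : ∀ (a : F₀) x, G (a • x) = e a • G x)

include hGadd hGsmul in
/-- an `F₀`-linear map `F₀ⁿ → Fⁿ` with every singular vector as an "eigenvector" is a scalar
multiple of the base change map -/
theorem smul_of_eigen (hQ₀ : (polarBilin Q₀).Nondegenerate) (hn : 5 ≤ Fintype.card κ)
    (heig : ∀ u : κ → F₀, u ≠ 0 → Q₀ u = 0 → ∃ t : F, G u = t • ev e u) :
    ∃ c : F, ∀ x, G x = c • ev e x := by
  have hfr : 5 ≤ finrank F₀ (κ → F₀) := by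
    rw [Module.finrank_fintype_fun_eq_card]
    exact hn
  have hG0 : G 0 = 0 := by
    have := hGsmul 0 0
    rwa [zero_smul, map_zero, zero_smul] at this
  have hdep : ∀ u w : κ → F₀, w ≠ 0 → ∀ (a : F₀) (t t' : F), w = a • u → G u = t • ev e u →
      G w = t' • ev e w → t = t' := by
    intro u w hw0 a t t' hw hgu hgw
    have h1 : G w = t • ev e w := by
      rw [hw, hGsmul, hgu, ev_smul, smul_smul, smul_smul, mul_comm]
    rw [hgw] at h1
    have h2 : (t' - t) • ev e w = 0 := by rw [sub_smul, h1, sub_self]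
    have h3 := (smul_eq_zero.1 h2).resolve_right (ev_ne_zero e hw0)
    exact (sub_eq_zero.1 h3).symm
  have hort : ∀ u w : κ → F₀, u ≠ 0 → w ≠ 0 → Q₀ u = 0 → Q₀ w = 0 → polar Q₀ u w = 0 →
      ∀ t t' : F, G u = t • ev e u → G w = t' • ev e w → t = t' := by
    intro u w hu0 hw0 hu hw huw t t' hgu hgw
    by_cases hd : ∃ a : F₀, w = a • u
    · obtain ⟨a, ha⟩ := hd
      exact hdep u w hw0 a t t' ha hgu hgw
    · have hz0 : u + w ≠ 0 := by
        intro h
        apply hd
        refine ⟨-1, ?_⟩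
        rw [neg_one_smul]
        exact eq_neg_of_add_eq_zero_right h
      have hQz : Q₀ (u + w) = 0 := by
        rw [Cfsg.Agent.Lib.Helper25.MaxTS.Q_add, hu, hw, huw]
        ring
      obtain ⟨t'', ht''⟩ := heig (u + w) hz0 hQz
      rw [hGadd, hgu, hgw, ev_add, smul_add] at ht''
      have h2 : (t - t'') • ev e u = (t'' - t') • ev e w := by
        rw [sub_smul, sub_smul]
        linear_combination (exp := 1) ht''
      by_cases h3 : t - t'' = 0
      · rw [h3, zero_smul] at h2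
        have h4 := (smul_eq_zero.1 h2.symm).resolve_right (ev_ne_zero e hw0)
        rw [sub_eq_zero] at h3 h4
        rw [h3, h4]
      · exfalso
        have h4 : ev e u = ((t - t'')⁻¹ * (t'' - t')) • ev e w := by
          rw [mul_smul, ← h2, smul_smul, inv_mul_cancel₀ h3, one_smul]
        obtain ⟨a, ha⟩ := ev_dep e hw0 _ h4
        have ha0 : a ≠ 0 := by
          rintro rfl
          rw [zero_smul] at ha
          exact hu0 ha
        apply hd
        refine ⟨a⁻¹, ?_⟩
        rw [ha, smul_smul, inv_mul_cancel₀ ha0, one_smul]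
  have hconst : ∀ u w : κ → F₀, u ≠ 0 → w ≠ 0 → Q₀ u = 0 → Q₀ w = 0 → ∀ t t' : F,
      G u = t • ev e u → G w = t' • ev e w → t = t' := by
    intro u w hu0 hw0 hu hw t t' hgu hgw
    by_cases huw : polar Q₀ u w = 0
    · exact hort u w hu0 hw0 hu hw huw t t' hgu hgw
    · obtain ⟨z, hz0, hQz, huz, hwz⟩ :=
        Cfsg.Agent.Lib.Helper25.OGeom.exists_sing_perp_pair Q₀ hQ₀ hfr hu hw huw
      obtain ⟨tz, htz⟩ := heig z hz0 hQz
      rw [hort u z hu0 hz0 hu hQz huz t tz hgu htz]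
      exact hort z w hz0 hw0 hQz hw (by rw [polar_comm]; exact hwz) tz t' htz hgw
  obtain ⟨u₀, hu₀0, hQu₀⟩ := Cfsg.Agent.Lib.Helper15.exists_singular_of_three_le Q₀
    (show 3 ≤ finrank F₀ (κ → F₀) by omega)
  obtain ⟨c, hc⟩ := heig u₀ hu₀0 hQu₀
  refine ⟨c, ?_⟩
  have hsing : ∀ x : κ → F₀, Q₀ x = 0 → G x = c • ev e x := by
    intro x hx
    by_cases hx0 : x = 0
    · rw [hx0, hG0]
      have : ev e (0 : κ → F₀) = 0 := by
        funext i
        rw [ev_apply, Pi.zero_apply, Pi.zero_apply, map_zero]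
      rw [this, smul_zero]
    · obtain ⟨t, ht⟩ := heig x hx0 hx
      rw [ht, hconst u₀ x hu₀0 hx0 hQu₀ hx c t hc ht]
  intro x
  have hspan := Cfsg.Agent.Lib.Helper25.OGeom.span_singular_eq_top Q₀ hQ₀
    (show 3 ≤ finrank F₀ (κ → F₀) by omega)
  have hx : x ∈ Submodule.span F₀ {x : κ → F₀ | Q₀ x = 0} := by
    rw [hspan]
    trivial
  induction hx using Submodule.span_induction with
  | mem y hy => exact hsing y hy
  | zero => exact hsing 0 (by simp)
  | add y z _ _ hy hz => rw [hGadd, hy, hz, ev_add, smul_add]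
  | smul a y _ hy => rw [hGsmul, hy, ev_smul, smul_comm]

end scalar

end Cfsg.Agent.Lib.Helper18.OrthBal
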