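import Cfsg.Agent.Lib.Helper18.OrthBalA

set_option autoImplicit false

/-!
# Automorphisms of `PΩ(Q)` induced by semisimilarities and fixing a subfield subgroup pointwise
-/

namespace Cfsg.Agent.Lib.Helper18.OrthBal

open Module QuadraticMap Matrix Cfsg.Agent.Lib.Helper25.PSim Cfsg.Agent.Lib.Helper25.Spin
  Cfsg.Agent.Lib.Helper25.CD Cfsg.Agent.Lib.Helper18.OrthFld Cfsg.Agent.Lib.Helper25.GraphSplit
  Cfsg.Agent.Lib.Helper25.Siegel Cfsg.Agent.Lib.Helper25.MaxTS Cfsg.Agent.Lib.Helper25.Fam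

universe u v

section fix

variable {κ : Type} [Fintype κ] [DecidableEq κ] {F₀ : Type v} {F : Type u} [Field F₀] [Field F]
  (e : F₀ →+* F) (Q₀ : QuadraticForm F₀ (κ → F₀)) (Q : QuadraticForm F (κ → F))
  (hc : Compat e (⇑Q₀) (⇑Q))

/-- base change `Ω(Q₀) → Ω(Q)` -/
noncomputable def omegaMap : ↥(Cfsg.Omega F₀ ⇑Q₀) →* ↥(Cfsg.Omega F ⇑Q) where
  toFun s := ⟨isoMap e Q₀ Q hc s.1, isoMap_mem_omega e Q₀ Q hc s.1 s.2⟩
  map_one' := by
    apply Subtype.ext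
    show isoMap e Q₀ Q hc (1 : ↥(Cfsg.isometryGroup F₀ ⇑Q₀)) = 1
    rw [map_one]
  map_mul' s t := by
    apply Subtype.ext
    show isoMap e Q₀ Q hc (s.1 * t.1) = isoMap e Q₀ Q hc s.1 * isoMap e Q₀ Q hc t.1
    rw [map_mul]

theorem omegaMap_val (s : ↥(Cfsg.Omega F₀ ⇑Q₀)) :
    (omegaMap e Q₀ Q hc s).1 = isoMap e Q₀ Q hc s.1 := rfl

theorem omegaMap_coe (s : ↥(Cfsg.Omega F₀ ⇑Q₀)) :
    (((omegaMap e Q₀ Q hc s).1.1 : GL κ F) : Matrix κ κ F) =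
      ((s.1.1 : GL κ F₀) : Matrix κ κ F₀).map e := rfl

theorem omegaMap_injective : Function.Injective (omegaMap e Q₀ Q hc) := by
  intro s t hst
  apply Subtype.ext
  apply Subtype.ext
  apply Units.ext
  have h1 := omegaMap_coe e Q₀ Q hc s
  rw [hst, omegaMap_coe] at h1
  ext i j
  have h2 := congrFun (congrFun h1 i) j
  rw [Matrix.map_apply, Matrix.map_apply] at h2
  exact (e.injective h2).symm

variable [Fintype F₀]

/-- a semisimilarity fixing the subfield subgroup commutes with it -/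
theorem comm_of_fix (hQ₀ : (polarBilin Q₀).Nondegenerate) (hn : 7 ≤ Fintype.card κ)
    {g : GL κ F} {τ : F ≃+* F} (h : Cfsg.IsSemisimilarityPair (⇑Q) g τ)
    {β : MulAut (Cfsg.POmega F ⇑Q)} (hind : Cfsg.IsInducedBySemilinearPOmega (⇑Q) g τ β)
    (hfix : ∀ s₀ : ↥(Cfsg.Omega F₀ ⇑Q₀),
      β (QuotientGroup.mk (omegaMap e Q₀ Q hc s₀)) = QuotientGroup.mk (omegaMap e Q₀ Q hc s₀))
    (s₀ : ↥(Cfsg.Omega F₀ ⇑Q₀)) (w : κ → F) :
    (((s₀.1.1 : GL κ F₀) : Matrix κ κ F₀).map e) *ᵥ semiMap g τ w =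
      semiMap g τ ((((s₀.1.1 : GL κ F₀) : Matrix κ κ F₀).map e) *ᵥ w) := by
  have hcen : ∀ s : ↥(Cfsg.Omega F₀ ⇑Q₀),
      (omegaMap e Q₀ Q hc s)⁻¹ * ((semiOmega (⇑Q) h).comp (omegaMap e Q₀ Q hc)) s ∈
        Subgroup.center ↥(Cfsg.Omega F ⇑Q) := by
    intro s
    have h1 := induced_mk (⇑Q) h hind (omegaMap e Q₀ Q hc s)
    rw [hfix s] at h1
    exact QuotientGroup.eq.1 h1
  have h3 := eq_of_central_diff (omega_perfect Q₀ hQ₀ hn) (omegaMap e Q₀ Q hc)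
    ((semiOmega (⇑Q) h).comp (omegaMap e Q₀ Q hc)) hcen s₀
  have h3' : semiOmega (⇑Q) h (omegaMap e Q₀ Q hc s₀) = omegaMap e Q₀ Q hc s₀ := h3
  have h4 : g * sigmaGL τ (omegaMap e Q₀ Q hc s₀).1.1 * g⁻¹ = (omegaMap e Q₀ Q hc s₀).1.1 := by
    rw [← semiOmega_val (⇑Q) h (omegaMap e Q₀ Q hc s₀), h3']
  rw [← omegaMap_coe e Q₀ Q hc s₀, ← semiMap_conj, h4]

/-- ... in particular with the long root elements -/
theorem comm_siegel (hQ₀ : (polarBilin Q₀).Nondegenerate) (hn : 7 ≤ Fintype.card κ)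
    {g : GL κ F} {τ : F ≃+* F} (h : Cfsg.IsSemisimilarityPair (⇑Q) g τ)
    {β : MulAut (Cfsg.POmega F ⇑Q)} (hind : Cfsg.IsInducedBySemilinearPOmega (⇑Q) g τ β)
    (hfix : ∀ s₀ : ↥(Cfsg.Omega F₀ ⇑Q₀),
      β (QuotientGroup.mk (omegaMap e Q₀ Q hc s₀)) = QuotientGroup.mk (omegaMap e Q₀ Q hc s₀))
    (u z : κ → F₀) (hu : Q₀ u = 0) (hz : Q₀ z = 0) (huz : polar Q₀ u z = 0) (w : κ → F) :
    siegF Q (ev e u) (ev e z) 1 (semiMap g τ w) =
      semiMap g τ (siegF Q (ev e u) (ev e z) 1 w) := by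
  have h1 := comm_of_fix e Q₀ Q hc hQ₀ hn h hind hfix
    ⟨siegG Q₀ u z 1 hu hz huz, siegG_mem_omega Q₀ hQ₀ hn u z 1 hu hz huz⟩ w
  have h2 : ((((⟨siegG Q₀ u z 1 hu hz huz, siegG_mem_omega Q₀ hQ₀ hn u z 1 hu hz huz⟩ :
      ↥(Cfsg.Omega F₀ ⇑Q₀)).1.1 : GL κ F₀) : Matrix κ κ F₀)).map e =
      Cfsg.siegelMatrix (⇑Q) (ev e u) (ev e z) 1 := by
    show (((siegG Q₀ u z 1 hu hz huz : GL κ F₀) : Matrix κ κ F₀)).map e = _
    rw [siegG_coe, siegelMatrix_map e Q₀ Q hc, map_one]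
  rw [h2, siegelMatrix_mulVec, siegelMatrix_mulVec] at h1
  exact h1

/-- **the centraliser of a subfield subgroup**: a semisimilarity inducing an automorphism that
fixes the subfield subgroup `Ω(Q₀)` pointwise is a scalar times a field automorphism fixing the
subfield -/
theorem pair_of_fix (hQ₀ : (polarBilin Q₀).Nondegenerate) (hn : 7 ≤ Fintype.card κ)
    {g : GL κ F} {τ : F ≃+* F} (h : Cfsg.IsSemisimilarityPair (⇑Q) g τ)
    {β : MulAut (Cfsg.POmega F ⇑Q)} (hind : Cfsg.IsInducedBySemilinearPOmega (⇑Q) g τ β)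
    (hfix : ∀ s₀ : ↥(Cfsg.Omega F₀ ⇑Q₀),
      β (QuotientGroup.mk (omegaMap e Q₀ Q hc s₀)) = QuotientGroup.mk (omegaMap e Q₀ Q hc s₀)) :
    (∀ a : F₀, τ (e a) = e a) ∧
      ∃ c : F, c ≠ 0 ∧ ((g : GL κ F) : Matrix κ κ F) = c • (1 : Matrix κ κ F) := by
  have hadd := semiMap_add g τ
  have hsmul := semiMap_smul g τ
  have hinj : ∀ x, semiMap g τ x = 0 → x = 0 := by
    intro x hx
    apply semiMap_injective g τ
    rw [hx, semiMap_zero]
  have heig := eigen_of_comm_siegel e Q₀ Q hc (semiMap g τ) τ hadd hsmul hQ₀ hn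
    (fun u z hu hz huz w => comm_siegel e Q₀ Q hc hQ₀ hn h hind hfix u z hu hz huz w)
  have hτ := tau_fix_of_eigen e Q₀ Q hc (semiMap g τ) τ hadd hsmul hQ₀ (by omega) hinj heig
  refine ⟨hτ, ?_⟩
  have hev : ∀ x : κ → F₀, semiMap g τ (ev e x) = (g : Matrix κ κ F) *ᵥ ev e x := by
    intro x
    unfold semiMap
    congr 1
    funext i
    rw [ev_apply]
    exact hτ (x i)
  obtain ⟨c, hcx⟩ := smul_of_eigen e Q₀ (fun x => semiMap g τ (ev e x))
    (fun x y => by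
      show semiMap g τ (ev e (x + y)) = _
      rw [ev_add, hadd])
    (fun a x => by
      show semiMap g τ (ev e (a • x)) = _
      rw [ev_smul, hsmul, hτ])
    hQ₀ (by omega) heig
  have hM : ((g : GL κ F) : Matrix κ κ F) = c • (1 : Matrix κ κ F) := by
    ext i j
    have h1 := hcx (Pi.single j 1)
    have h1' : semiMap g τ (ev e (Pi.single j (1 : F₀))) = c • ev e (Pi.single j (1 : F₀)) := h1
    rw [hev, ev_single, Matrix.mulVec_single_one] at h1'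
    have h2 := congrFun h1' i
    rw [Matrix.col_apply, Pi.smul_apply, smul_eq_mul] at h2
    rw [h2, Matrix.smul_apply, smul_eq_mul, Matrix.one_apply, Pi.single_apply]
  refine ⟨c, ?_, hM⟩
  rintro rfl
  rw [zero_smul] at hM
  have hu : IsUnit ((g : GL κ F) : Matrix κ κ F) := ⟨g, rfl⟩
  rw [hM] at hu
  have : Nonempty κ := by
    rw [← Fintype.card_pos_iff]
    omega
  exact not_isUnit_zero hu

end fix

end Cfsg.Agent.Lib.Helper18.OrthBal
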