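import Mathlib
import Cfsg.Agent.Lib.Helper18.PSLnOutB
import Cfsg.Agent.Lib.Helper18.PSL2AutOut
import Cfsg.Prelude.Def_KGroupFacts

/-!
The outer automorphism group of `PSL_n(F)`, `n ≥ 3`, `F` finite (helper18).
-/

set_option autoImplicit false

namespace Cfsg.Agent.Lib.Helper18.PSLnAut

open Matrix Cfsg Cfsg.Agent.Lib.Helper25 Cfsg.Agent.Lib.Helper25.SLRoot

variable {n : ℕ} {F : Type*} [Field F]

/-- the diagonal matrices `diag(a, 1, …, 1)` -/
noncomputable def dgHom (i0 : Fin n) : Fˣ →* GL (Fin n) F where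
  toFun a := diagGL (Function.update (fun _ => (1 : F)) i0 (a : F)) (by
    intro i
    by_cases hi : i = i0
    · rw [hi, Function.update_self]; exact a.ne_zero
    · rw [Function.update_of_ne hi]; exact one_ne_zero)
  map_one' := by
    apply Units.ext
    show Matrix.diagonal (Function.update (fun _ => (1 : F)) i0 ((1 : Fˣ) : F)) = 1
    rw [Units.val_one, Function.update_eq_self_iff.2 rfl]
    exact Matrix.diagonal_one
  map_mul' a b := by
    apply Units.ext
    show Matrix.diagonal (Function.update (fun _ => (1 : F)) i0 ((a * b : Fˣ) : F)) =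
      Matrix.diagonal (Function.update (fun _ => (1 : F)) i0 (a : F)) *
        Matrix.diagonal (Function.update (fun _ => (1 : F)) i0 (b : F))
    rw [Matrix.diagonal_mul_diagonal]
    congr 1
    funext i
    by_cases hi : i = i0
    · rw [hi, Function.update_self, Function.update_self, Function.update_self, Units.val_mul]
    · rw [Function.update_of_ne hi, Function.update_of_ne hi, Function.update_of_ne hi, mul_one]

theorem dgHom_coe (i0 : Fin n) (a : Fˣ) : (dgHom i0 a : Matrix (Fin n) (Fin n) F) =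
    Matrix.diagonal (Function.update (fun _ => (1 : F)) i0 (a : F)) := rfl

theorem det_dgHom (i0 : Fin n) (a : Fˣ) :
    (dgHom i0 a : Matrix (Fin n) (Fin n) F).det = (a : F) := by
  rw [dgHom_coe, Matrix.det_diagonal, Finset.prod_update_of_mem (Finset.mem_univ i0)]
  simp

/-- every invertible matrix is `diag(det g, 1, …, 1)` times a matrix of determinant one -/
theorem exists_eq_dgHom_mul (i0 : Fin n) (g : GL (Fin n) F) :
    ∃ s : SpecialLinearGroup (Fin n) F,
      g = dgHom i0 (Matrix.GeneralLinearGroup.det g) * Matrix.SpecialLinearGroup.toGL s := by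
  have hdet : ((((dgHom i0 (Matrix.GeneralLinearGroup.det g))⁻¹ * g : GL (Fin n) F)) :
      Matrix (Fin n) (Fin n) F).det = 1 := by
    have h1 : (Matrix.GeneralLinearGroup.det ((dgHom i0 (Matrix.GeneralLinearGroup.det g))⁻¹ * g) :
        Fˣ) = 1 := by
      rw [map_mul, map_inv]
      have h2 : Matrix.GeneralLinearGroup.det (dgHom i0 (Matrix.GeneralLinearGroup.det g)) =
          Matrix.GeneralLinearGroup.det g := by
        apply Units.ext
        exact det_dgHom i0 _
      rw [h2, inv_mul_cancel]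
    have := congrArg Units.val h1
    exact this
  refine ⟨⟨_, hdet⟩, ?_⟩
  apply Units.ext
  show g.val = (dgHom i0 (Matrix.GeneralLinearGroup.det g)).val *
    ((dgHom i0 (Matrix.GeneralLinearGroup.det g))⁻¹ * g).val
  rw [← Units.val_mul, mul_inv_cancel_left]

theorem det_toGL (s : SpecialLinearGroup (Fin n) F) :
    Matrix.GeneralLinearGroup.det (Matrix.SpecialLinearGroup.toGL s) = 1 := by
  apply Units.ext
  show (s : Matrix (Fin n) (Fin n) F).det = 1
  exact s.2

theorem exists_toGL_eq (g : GL (Fin n) F) (h : Matrix.GeneralLinearGroup.det g = 1) :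
    ∃ s : SpecialLinearGroup (Fin n) F, Matrix.SpecialLinearGroup.toGL s = g := by
  have hdet : (g : Matrix (Fin n) (Fin n) F).det = 1 := congrArg Units.val h
  refine ⟨⟨_, hdet⟩, ?_⟩
  apply Units.ext
  rfl

theorem det_dgHom' (i0 : Fin n) (a : Fˣ) : Matrix.GeneralLinearGroup.det (dgHom i0 a) = a := by
  apply Units.ext
  exact det_dgHom i0 a

/-- the diagonal automorphisms in the outer automorphism group -/
noncomputable def dOutN (i0 : Fin n) :
    Fˣ →* Cfsg.Out (ProjectiveSpecialLinearGroup (Fin n) F) :=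
  (QuotientGroup.mk' (Cfsg.Inn (ProjectiveSpecialLinearGroup (Fin n) F))).comp
    (conjAHom.comp (dgHom i0))

theorem dOutN_apply (i0 : Fin n) (a : Fˣ) :
    dOutN i0 a = (QuotientGroup.mk (conjAHom (dgHom i0 a)) :
      Cfsg.Out (ProjectiveSpecialLinearGroup (Fin n) F)) := rfl

theorem mk_conjAHom_toGL (s : SpecialLinearGroup (Fin n) F) :
    (QuotientGroup.mk (conjAHom (Matrix.SpecialLinearGroup.toGL s)) :
      Cfsg.Out (ProjectiveSpecialLinearGroup (Fin n) F)) = 1 := by
  rw [QuotientGroup.eq_one_iff, ← conj_pi_eq_conjA]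
  exact ⟨pi s, rfl⟩

theorem range_dOutN (i0 : Fin n) :
    (dOutN (F := F) i0).range = (conjAHom (n := n) (F := F)).range.map
      (QuotientGroup.mk' (Cfsg.Inn (ProjectiveSpecialLinearGroup (Fin n) F))) := by
  ext x
  constructor
  · rintro ⟨a, rfl⟩
    exact ⟨conjAHom (dgHom i0 a), ⟨_, rfl⟩, rfl⟩
  · rintro ⟨_, ⟨g, rfl⟩, rfl⟩
    obtain ⟨s, hs⟩ := exists_eq_dgHom_mul i0 g
    refine ⟨Matrix.GeneralLinearGroup.det g, ?_⟩
    rw [dOutN_apply]
    conv_rhs => rw [hs, map_mul]
    show _ = (QuotientGroup.mk (_ * _) : Cfsg.Out (ProjectiveSpecialLinearGroup (Fin n) F))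
    rw [QuotientGroup.mk_mul, mk_conjAHom_toGL, mul_one]

theorem ker_dOutN (hn : 2 ≤ n) (i0 : Fin n) :
    (dOutN (F := F) i0).ker = (powMonoidHom n : Fˣ →* Fˣ).range := by
  ext a
  rw [MonoidHom.mem_ker, dOutN_apply, QuotientGroup.eq_one_iff]
  constructor
  · rintro ⟨y, hy⟩
    obtain ⟨s, rfl⟩ := pi_surjective y
    rw [conj_pi_eq_conjA] at hy
    have h1 : (Matrix.SpecialLinearGroup.toGL s)⁻¹ * dgHom i0 a ∈
        (conjAHom (n := n) (F := F)).ker := by
      rw [MonoidHom.mem_ker, map_mul, map_inv, hy, inv_mul_cancel]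
    rw [ker_conjAHom hn, Matrix.GeneralLinearGroup.center_eq_range_scalar] at h1
    obtain ⟨z, hz⟩ := h1
    have h2 := congrArg Matrix.GeneralLinearGroup.det hz
    rw [Matrix.GeneralLinearGroup.det_scalar, map_mul, map_inv, det_toGL, inv_one, one_mul,
      det_dgHom', Fintype.card_fin] at h2
    exact ⟨z, h2⟩
  · rintro ⟨z, rfl⟩
    rw [powMonoidHom_apply]
    have hdet : Matrix.GeneralLinearGroup.det
        ((Matrix.GeneralLinearGroup.scalar (Fin n) z)⁻¹ * dgHom i0 (z ^ n)) = 1 := by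
      rw [map_mul, map_inv, Matrix.GeneralLinearGroup.det_scalar, det_dgHom', Fintype.card_fin,
        inv_mul_cancel]
    obtain ⟨s, hs⟩ := exists_toGL_eq _ hdet
    have hsc : conjAHom (Matrix.GeneralLinearGroup.scalar (Fin n) z) =
        (1 : MulAut (ProjectiveSpecialLinearGroup (Fin n) F)) := by
      rw [← MonoidHom.mem_ker, ker_conjAHom hn, Matrix.GeneralLinearGroup.center_eq_range_scalar]
      exact ⟨z, rfl⟩
    refine ⟨pi s, ?_⟩
    rw [conj_pi_eq_conjA, hs, map_mul, map_inv, hsc, inv_one, one_mul]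

section finite

variable [Fintype F]

/-- **the outer automorphism group of `PSL_n(F)`, `n ≥ 3`** -/
theorem out_structure_n {p f : ℕ} [Fact p.Prime] (hF : Fintype.card F = p ^ f) (hn : 3 ≤ n) :
    ∃ φ : Cfsg.Out (ProjectiveSpecialLinearGroup (Fin n) F) →* Multiplicative (ZMod f × ZMod 2),
      Function.Surjective φ ∧ IsCyclic φ.ker ∧ Nat.card φ.ker = Nat.gcd n (p ^ f - 1) := by
  have : CharP F p := charP_of_card_eq_prime_pow hF
  have hcyc : IsCyclic (RingAut F) := Cfsg.Agent.Lib.Helper18.PSL2Aut.ringAut_cyclic p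
  have hcard : Nat.card (RingAut F) = f := Cfsg.Agent.Lib.Helper18.PSL2Aut.ringAut_card p hF
  have hq : Nat.card Fˣ = p ^ f - 1 := by
    rw [Nat.card_units, Nat.card_eq_fintype_card, hF]
  subst hcard
  obtain ⟨Φ, hΦ1, hΦ2⟩ := exists_autHom (n := n) (F := F) p hn
  have hInn : Cfsg.Inn (ProjectiveSpecialLinearGroup (Fin n) F) ≤ Φ.ker := by
    rintro _ ⟨y, rfl⟩
    obtain ⟨s, rfl⟩ := pi_surjective y
    rw [hΦ2, conj_pi_eq_conjA]
    exact ⟨_, rfl⟩
  let Φb : Cfsg.Out (ProjectiveSpecialLinearGroup (Fin n) F) →*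
      RingAut F × Multiplicative (ZMod 2) :=
    QuotientGroup.lift (Cfsg.Inn (ProjectiveSpecialLinearGroup (Fin n) F)) Φ hInn
  have hΦb : ∀ α, Φb (QuotientGroup.mk α) = Φ α := fun α => rfl
  let e₁ : RingAut F ≃* Multiplicative (ZMod (Nat.card (RingAut F))) :=
    (zmodCyclicMulEquiv hcyc).symm
  let e : RingAut F × Multiplicative (ZMod 2) ≃*
      Multiplicative (ZMod (Nat.card (RingAut F)) × ZMod 2) :=
    (MulEquiv.prodCongr e₁ (MulEquiv.refl _)).trans (MulEquiv.prodMultiplicative _ _).symm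
  let i0 : Fin n := ⟨0, by omega⟩
  refine ⟨e.toMonoidHom.comp Φb, ?_, ?_⟩
  · apply e.surjective.comp
    intro t
    exact ⟨QuotientGroup.mk (fgHom t), (hΦb (fgHom t)).trans (hΦ1 t)⟩
  · have hker : (e.toMonoidHom.comp Φb).ker = (dOutN (F := F) i0).range := by
      rw [range_dOutN]
      ext x
      rw [MonoidHom.mem_ker, MonoidHom.comp_apply]
      show e (Φb x) = 1 ↔ _
      rw [EmbeddingLike.map_eq_one_iff (f := e)]
      obtain ⟨α, rfl⟩ := QuotientGroup.mk_surjective x
      rw [hΦb, ← MonoidHom.mem_ker, hΦ2]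
      constructor
      · intro h
        exact ⟨α, h, rfl⟩
      · rintro ⟨d, hd, hdα⟩
        have h1 : Φ d = Φ α := by
          rw [← hΦb, ← hΦb]
          exact congrArg Φb hdα
        rw [← hΦ2] at hd ⊢
        have hd' : Φ d = 1 := MonoidHom.mem_ker.1 hd
        exact MonoidHom.mem_ker.2 (by rw [← h1, hd'])
    rw [hker]
    constructor
    · exact isCyclic_of_surjective (dOutN (F := F) i0).rangeRestrict
        (dOutN (F := F) i0).rangeRestrict_surjective
    · rw [← Subgroup.index_ker, ker_dOutN (by omega), IsCyclic.index_powMonoidHom_range, hq,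
        Nat.gcd_comm]

end finite

end Cfsg.Agent.Lib.Helper18.PSLnAut
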