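import Mathlib
import Cfsg.Agent.Lib.Helper18.PSLnOutC

/-!
The order of the automorphism group of `PSL_n(F)`, `F` finite, `n ≥ 2` (helper18).
-/

set_option autoImplicit false

namespace Cfsg.Agent.Lib.Helper18.PSLnAut

open Matrix Cfsg Cfsg.Agent.Lib.Helper25 Cfsg.Agent.Lib.Helper25.SLRoot

variable {n : ℕ} {F : Type*} [Field F]

/-- the image of `GL_n(F)` in `Aut(PSL_n(F))` is `PGL_n(F)` -/
theorem card_range_conjAHom (hn : 2 ≤ n) :
    Nat.card (conjAHom (n := n) (F := F)).range = Nat.card (Matrix.ProjGenLinGroup (Fin n) F) := by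
  rw [← Nat.card_congr (QuotientGroup.quotientKerEquivRange (conjAHom (n := n) (F := F))).toEquiv]
  show Nat.card (GL (Fin n) F ⧸ (conjAHom (n := n) (F := F)).ker) =
    Nat.card (GL (Fin n) F ⧸ Subgroup.center (GL (Fin n) F))
  rw [ker_conjAHom hn]

/-- the order of the automorphism group from a homomorphism with kernel the image of `GL_n` -/
theorem card_aut_of_hom [Finite F] (hn : 2 ≤ n) {T : Type*} [Group T]
    (Ψ : MulAut (ProjectiveSpecialLinearGroup (Fin n) F) →* T) (hsurj : Function.Surjective Ψ)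
    (hker : Ψ.ker = (conjAHom (n := n) (F := F)).range) :
    Nat.card (MulAut (ProjectiveSpecialLinearGroup (Fin n) F)) =
      Nat.card T * Nat.card (Matrix.ProjGenLinGroup (Fin n) F) := by
  rw [← card_range_conjAHom hn, ← hker, ← Subgroup.card_mul_index Ψ.ker, Subgroup.index_ker,
    mul_comm]
  congr 1
  have : Ψ.range = ⊤ := MonoidHom.range_eq_top.2 hsurj
  rw [this, Subgroup.card_top]

section two

variable [Fintype F] (p : ℕ) [Fact p.Prime] [CharP F p]

omit [Fintype F] in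
theorem fAut_eq_fieldA (κ : F ≃+* F) :
    Cfsg.Agent.Lib.Helper18.PSL2Aut.fAut κ = fieldA (n := 2) κ := rfl

theorem psi_conjA (g : GL (Fin 2) F) :
    Cfsg.Agent.Lib.Helper18.PSL2Aut.psi p (conjAHom g) = 1 := by
  apply Cfsg.Agent.Lib.Helper18.PSL2Aut.psiFun_eq p _ 1
  intro x
  obtain ⟨s, rfl⟩ := Cfsg.Agent.Lib.Helper18.PSL2Aut.pi_surjective x
  show Cfsg.Agent.Lib.Helper18.PSL2Aut.trsq (conjA g (pi s)) =
    Cfsg.Agent.Lib.Helper18.PSL2Aut.trsq (pi s)
  rw [conjA_pi]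
  show Cfsg.Agent.Lib.Helper18.PSL2Aut.trsq (Cfsg.Agent.Lib.Helper18.PSL2Aut.pi (conjMat g s)) =
    Cfsg.Agent.Lib.Helper18.PSL2Aut.trsq (Cfsg.Agent.Lib.Helper18.PSL2Aut.pi s)
  rw [Cfsg.Agent.Lib.Helper18.PSL2Aut.trsq_pi, Cfsg.Agent.Lib.Helper18.PSL2Aut.trsq_pi]
  have h1 : (conjMat g s : Matrix (Fin 2) (Fin 2) F).trace = (s : Matrix (Fin 2) (Fin 2) F).trace := by
    rw [conjMat_coe, Matrix.trace_mul_cycle, gl_inv_mul, Matrix.one_mul]
  rw [Matrix.trace_fin_two, Matrix.trace_fin_two] at h1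
  rw [h1]

theorem ker_psi_two :
    (Cfsg.Agent.Lib.Helper18.PSL2Aut.psi (F := F) p).ker = (conjAHom (n := 2) (F := F)).range := by
  ext α
  rw [MonoidHom.mem_ker]
  constructor
  · intro h
    obtain ⟨g, κ, hα⟩ := aut_decomp_two p α
    have hα' : α = conjAHom g * fieldA κ := by
      ext x
      exact hα x
    have h1 : Cfsg.Agent.Lib.Helper18.PSL2Aut.psi p α = κ := by
      rw [hα', map_mul, psi_conjA, one_mul, ← fAut_eq_fieldA,
        Cfsg.Agent.Lib.Helper18.PSL2Aut.psi_fAut]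
    rw [h] at h1
    refine ⟨g, ?_⟩
    rw [hα', ← h1]
    ext x
    obtain ⟨s, rfl⟩ := pi_surjective x
    show conjA g (pi s) = conjA g (fieldA (1 : RingAut F) (pi s))
    rw [fieldA_pi]
    congr 2
  · rintro ⟨g, rfl⟩
    exact psi_conjA p g

end two

/-- **the order of `Aut(PSL_n(F))`** -/
theorem card_aut_psl [Fintype F] {p f : ℕ} [Fact p.Prime] (hF : Fintype.card F = p ^ f)
    (hn : 2 ≤ n) :
    Nat.card (MulAut (ProjectiveSpecialLinearGroup (Fin n) F)) =
      (if n = 2 then 1 else 2) * f * Nat.card (Matrix.ProjGenLinGroup (Fin n) F) := by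
  have : CharP F p := charP_of_card_eq_prime_pow hF
  have hcard : Nat.card (RingAut F) = f := Cfsg.Agent.Lib.Helper18.PSL2Aut.ringAut_card p hF
  rcases Nat.lt_or_ge n 3 with h | h
  · obtain rfl : n = 2 := by omega
    rw [if_pos rfl, one_mul, ← hcard]
    refine card_aut_of_hom hn (Cfsg.Agent.Lib.Helper18.PSL2Aut.psi (F := F) p) ?_ (ker_psi_two p)
    intro κ
    exact ⟨_, Cfsg.Agent.Lib.Helper18.PSL2Aut.psi_fAut p κ⟩
  · have hn2 : n ≠ 2 := by omega
    obtain ⟨Φ, hΦ1, hΦ2⟩ := exists_autHom (n := n) (F := F) p h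
    rw [if_neg hn2, card_aut_of_hom hn Φ (fun t => ⟨_, hΦ1 t⟩) hΦ2, Nat.card_prod, hcard,
      Nat.card_eq_fintype_card, Fintype.card_multiplicative, ZMod.card, mul_comm f 2]

end Cfsg.Agent.Lib.Helper18.PSLnAut
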