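import Mathlib
import Cfsg.Prelude.Def_LieTypeDatum
import Cfsg.Agent.Lib.Helper18.PSLnOutD
import Cfsg.Agent.Lib.Helper18.PSLnFldA

/-!
Field automorphisms of `PSL_n(F)`: the predicates of the Prelude in terms of the explicit
automorphisms, the inner-diagonal group, and conjugacy in the coset of a field automorphism
(helper18).
-/

set_option autoImplicit false

namespace Cfsg.Agent.Lib.Helper18.PSLnFld

open Matrix Cfsg Cfsg.Agent.Lib.Helper18.PSLnAut

variable {n : ℕ} {F : Type*} [Field F]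

theorem isInnerDiagonal_iff (β : MulAut (ProjectiveSpecialLinearGroup (Fin n) F)) :
    Cfsg.IsInnerDiagonalAutPSL β ↔ ∃ g : GL (Fin n) F, β = conjAHom g := by
  constructor
  · rintro ⟨g, hg⟩
    refine ⟨g, ?_⟩
    ext x
    obtain ⟨s, rfl⟩ := pi_surjective x
    rw [conjAHom_apply, conjA_pi]
    exact hg s (conjMat g s) (conjMat_coe g s)
  · rintro ⟨g, rfl⟩
    exact isInnerDiagonal_conjA g

theorem isStdField_iff (σ : F ≃+* F) (β : MulAut (ProjectiveSpecialLinearGroup (Fin n) F)) :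
    Cfsg.IsStdFieldAutPSL σ β ↔ β = fieldAHom σ := by
  constructor
  · intro h
    ext x
    obtain ⟨s, rfl⟩ := pi_surjective x
    rw [fieldAHom_apply, fieldA_pi]
    exact h s (fieldS σ s) (fieldS_coe σ s)
  · rintro rfl
    exact isStdField_fieldA σ

theorem isInverseTranspose_iff (β : MulAut (ProjectiveSpecialLinearGroup (Fin n) F)) :
    Cfsg.IsInverseTransposeAutPSL β ↔ β = itA := by
  constructor
  · intro h
    ext x
    obtain ⟨s, rfl⟩ := pi_surjective x
    rw [itA_pi]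
    exact h s (itS s) (itS_coe s)
  · rintro rfl
    exact isInverseTranspose_itA

theorem inndiag_eq : Cfsg.inndiagPSL n F = (conjAHom (n := n) (F := F)).range := by
  unfold Cfsg.inndiagPSL Cfsg.autSubgroupOf
  apply le_antisymm
  · rw [Subgroup.closure_le]
    intro β hβ
    obtain ⟨g, rfl⟩ := (isInnerDiagonal_iff β).1 hβ
    exact ⟨g, rfl⟩
  · rintro _ ⟨g, rfl⟩
    exact Subgroup.subset_closure ((isInnerDiagonal_iff _).2 ⟨g, rfl⟩)

/-- the Galois action on `GL_n` -/
noncomputable def glF (σ : RingAut F) : GL (Fin n) F →* GL (Fin n) F :=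
  Matrix.GeneralLinearGroup.map ((σ : F ≃+* F) : F →+* F)

theorem glF_coe (σ : RingAut F) (g : GL (Fin n) F) :
    ((glF σ g : GL (Fin n) F) : Matrix (Fin n) (Fin n) F) =
      (g : Matrix (Fin n) (Fin n) F).map σ := rfl

theorem glF_one (g : GL (Fin n) F) : glF (1 : RingAut F) g = g := by
  apply Units.ext
  ext i j
  rfl

theorem glF_mul (σ τ : RingAut F) (g : GL (Fin n) F) : glF (σ * τ) g = glF σ (glF τ g) := by
  apply Units.ext
  ext i j
  rfl

theorem field_mul_conj (σ : RingAut F) (g : GL (Fin n) F) :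
    fieldAHom σ * conjAHom g = conjAHom (glF σ g) * fieldAHom σ := by
  ext x
  exact fieldA_conjA σ g x

theorem it_mul_conj (g : GL (Fin n) F) :
    (itA : MulAut (ProjectiveSpecialLinearGroup (Fin n) F)) * conjAHom g =
      conjAHom (gti g) * itA := by
  ext x
  exact itA_conjA g x

theorem it_mul_field (σ : RingAut F) :
    (itA : MulAut (ProjectiveSpecialLinearGroup (Fin n) F)) * fieldAHom σ =
      fieldAHom σ * itA := by
  ext x
  exact itA_fieldA σ x

theorem it_mul_it :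
    (itA : MulAut (ProjectiveSpecialLinearGroup (Fin n) F)) * itA = 1 := itA_mul_itA

/-- the cocycle sequence `g σ(g) ⋯ σ^{i-1}(g)` -/
noncomputable def cocyc (σ : RingAut F) (g : GL (Fin n) F) : ℕ → GL (Fin n) F
  | 0 => 1
  | i + 1 => g * glF σ (cocyc σ g i)

theorem cocyc_zero (σ : RingAut F) (g : GL (Fin n) F) : cocyc σ g 0 = 1 := rfl

theorem cocyc_succ (σ : RingAut F) (g : GL (Fin n) F) (i : ℕ) :
    cocyc σ g (i + 1) = g * glF σ (cocyc σ g i) := rfl

theorem cocyc_one (σ : RingAut F) (g : GL (Fin n) F) : cocyc σ g 1 = g := by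
  rw [cocyc_succ, cocyc_zero, map_one, mul_one]

theorem pow_conj_field (σ : RingAut F) (g : GL (Fin n) F) (i : ℕ) :
    (conjAHom g * fieldAHom σ) ^ i = conjAHom (cocyc σ g i) * fieldAHom (σ ^ i) := by
  induction i with
  | zero => simp [cocyc_zero]
  | succ i ih =>
    rw [pow_succ', ih, cocyc_succ, map_mul, pow_succ', map_mul, mul_assoc, mul_assoc,
      ← mul_assoc (fieldAHom σ) (conjAHom _), field_mul_conj, mul_assoc]

theorem conj_conj_field (σ : RingAut F) (h : GL (Fin n) F) :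
    conjAHom h * fieldAHom σ * (conjAHom h)⁻¹ = conjAHom (h * (glF σ h)⁻¹) * fieldAHom σ := by
  rw [mul_inv_eq_iff_eq_mul, map_mul, map_inv, mul_assoc, mul_assoc]
  congr 1
  rw [eq_inv_mul_iff_mul_eq, field_mul_conj]

section finite

variable [Finite F]

/-- **conjugacy in the coset of a field automorphism** -/
theorem field_coset_conj (hn : 2 ≤ n) (σ : RingAut F) (r : ℕ) (hσ : orderOf σ = r) (hr : 0 < r)
    (g : GL (Fin n) F) (hg : (conjAHom g * fieldAHom σ) ^ r = 1) :
    ∃ h : GL (Fin n) F,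
      conjAHom g * fieldAHom σ = conjAHom h * fieldAHom σ * (conjAHom h)⁻¹ := by
  rw [pow_conj_field, ← hσ, pow_orderOf_eq_one, map_one, mul_one, hσ] at hg
  have hcen : cocyc σ g r ∈ Subgroup.center (GL (Fin n) F) := by
    rw [← ker_conjAHom hn]
    exact hg
  obtain ⟨μ, hμ⟩ := Matrix.GeneralLinearGroup.mem_center_iff_val_mem_range_scalar.1 hcen
  have hμ0 : μ ≠ 0 := by
    rintro rfl
    have h1 : ((cocyc σ g r : GL (Fin n) F) : Matrix (Fin n) (Fin n) F) = 0 := by
      rw [← hμ, map_zero]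
    have h2 := (cocyc σ g r).isUnit
    have h3 : IsUnit ((cocyc σ g r : GL (Fin n) F) : Matrix (Fin n) (Fin n) F) :=
      ⟨cocyc σ g r, rfl⟩
    rw [h1] at h3
    have : Nontrivial (Matrix (Fin n) (Fin n) F) := by
      have : Nonempty (Fin n) := ⟨⟨0, by omega⟩⟩
      infer_instance
    exact not_isUnit_zero h3
  obtain ⟨h, ν, hh, hν0, hfix⟩ := exists_matrix_fixed_scalar (n := n) (by omega) σ r hσ hr
    (fun i => ((cocyc σ g i : GL (Fin n) F) : Matrix (Fin n) (Fin n) F))
    (by rw [cocyc_zero]; rfl)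
    (by
      intro i
      rw [cocyc_succ, cocyc_one]
      rfl)
    μ hμ0
    (by
      rw [← hμ]
      ext a b
      simp [Matrix.scalar_apply, Matrix.diagonal_apply, Matrix.one_apply])
  rw [cocyc_one] at hfix
  obtain ⟨h, rfl⟩ := hh
  refine ⟨h, ?_⟩
  rw [conj_conj_field]
  congr 1
  -- `g = ν • h σ(h)⁻¹`, and scalars act trivially
  let z : GL (Fin n) F := Matrix.GeneralLinearGroup.scalar (Fin n) (Units.mk0 ν hν0)
  have hz : z ∈ (conjAHom (n := n) (F := F)).ker := by
    rw [ker_conjAHom hn, Matrix.GeneralLinearGroup.center_eq_range_scalar]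
    exact ⟨_, rfl⟩
  have hgz : g = z * (h * (glF σ h)⁻¹) := by
    rw [← mul_assoc, eq_mul_inv_iff_mul_eq]
    apply Units.ext
    show (g : Matrix (Fin n) (Fin n) F) * (h : Matrix (Fin n) (Fin n) F).map σ =
      (z : Matrix (Fin n) (Fin n) F) * (h : Matrix (Fin n) (Fin n) F)
    rw [hfix]
    show _ = Matrix.scalar (Fin n) ν * _
    ext a b
    simp [Matrix.scalar_apply, Matrix.diagonal_mul]
  rw [hgz, map_mul, MonoidHom.mem_ker.1 hz, one_mul]

end finite

/-- transport of a coset conjugacy statement along a conjugation of the ambient group -/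
theorem conjUnder_of_std {X : Type*} [Group X] (D : Subgroup X) [D.Normal] (α x δ Φ : X)
    (hΦ : α * x * α⁻¹ = Φ) (hδ : δ ∈ D)
    (H : ∀ d ∈ D, orderOf (d * Φ) = orderOf Φ → ∃ h ∈ D, d * Φ = h * Φ * h⁻¹)
    (hord : orderOf (δ * x) = orderOf x) : Cfsg.IsConjUnder D x (δ * x) := by
  have hd : α * δ * α⁻¹ ∈ D := Subgroup.Normal.conj_mem inferInstance δ hδ α
  have h1 : α * δ * α⁻¹ * Φ = α * (δ * x) * α⁻¹ := by
    rw [← hΦ]
    group
  have h2 : orderOf (α * δ * α⁻¹ * Φ) = orderOf Φ := by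
    rw [h1, ← hΦ]
    have e1 : α * (δ * x) * α⁻¹ = MulAut.conj α (δ * x) := rfl
    have e2 : α * x * α⁻¹ = MulAut.conj α x := rfl
    rw [e1, e2, MulEquiv.orderOf_eq, MulEquiv.orderOf_eq, hord]
  obtain ⟨h, hh, hconj⟩ := H _ hd h2
  refine ⟨α⁻¹ * h * α, ?_, ?_⟩
  · have := Subgroup.Normal.conj_mem (inferInstance : D.Normal) h hh α⁻¹
    rwa [inv_inv] at this
  · have h3 : δ * x = α⁻¹ * (α * δ * α⁻¹ * Φ) * α := by
      rw [h1]
      group
    rw [h3, hconj, ← hΦ]
    group

section fin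

variable [Fintype F] (p : ℕ) [Fact p.Prime] [CharP F p]

include p in
theorem range_conjAHom_normal (hn : 2 ≤ n) : (conjAHom (n := n) (F := F)).range.Normal := by
  constructor
  intro d hd α
  obtain ⟨d', hd', t, rfl⟩ := exists_conjA_mul_fgHom p hn α
  have h1 : d' * fgHom t * d * (d' * fgHom t)⁻¹ = d' * (fgHom t * d * (fgHom t)⁻¹) * d'⁻¹ := by
    group
  rw [h1]
  exact Subgroup.mul_mem _ (Subgroup.mul_mem _ hd' (fgHom_normalises t d hd))
    (Subgroup.inv_mem _ hd')

include p in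
theorem inndiag_normal (hn : 2 ≤ n) : (Cfsg.inndiagPSL n F).Normal := by
  rw [inndiag_eq]
  exact range_conjAHom_normal p hn

include p in
/-- the field automorphism part of an automorphism of `PSL_n(F)` -/
theorem exists_thetaHom (hn : 2 ≤ n) :
    ∃ Θ : MulAut (ProjectiveSpecialLinearGroup (Fin n) F) →* RingAut F,
      (∀ g, Θ (conjAHom g) = 1) ∧ (∀ σ, Θ (fieldAHom σ) = σ) ∧ (3 ≤ n → Θ itA = 1) := by
  rcases Nat.lt_or_ge n 3 with h | h
  · obtain rfl : n = 2 := by omega
    refine ⟨Cfsg.Agent.Lib.Helper18.PSL2Aut.psi (F := F) p, psi_conjA p, ?_, fun h3 => by omega⟩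
    intro σ
    exact Cfsg.Agent.Lib.Helper18.PSL2Aut.psi_fAut p σ
  · obtain ⟨Φ, hΦ1, hΦ2⟩ := exists_autHom (n := n) (F := F) p h
    refine ⟨(MonoidHom.fst _ _).comp Φ, ?_, ?_, ?_⟩
    · intro g
      have : conjAHom g ∈ Φ.ker := by
        rw [hΦ2]
        exact ⟨g, rfl⟩
      rw [MonoidHom.comp_apply, MonoidHom.mem_ker.1 this]
      rfl
    · intro σ
      have h1 : fieldAHom (n := n) σ = fgHom (σ, 1) := by
        rw [fgHom_apply, map_one, mul_one]
      rw [MonoidHom.comp_apply, h1, hΦ1]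
      rfl
    · intro _
      have h1 : (itA : MulAut (ProjectiveSpecialLinearGroup (Fin n) F)) =
          fgHom (1, Multiplicative.ofAdd 1) := by
        rw [fgHom_apply, map_one, one_mul]
        rcases itHom_one_or (n := n) (F := F) (Multiplicative.ofAdd 1) with ⟨h, -⟩ | ⟨-, h⟩
        · exact absurd h (by decide)
        · exact h.symm
      rw [MonoidHom.comp_apply, h1, hΦ1]
      rfl

include p in
theorem fieldAHom_injective (hn : 2 ≤ n) :
    Function.Injective (fieldAHom (n := n) (F := F)) := by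
  obtain ⟨Θ, -, hΘ, -⟩ := exists_thetaHom (n := n) (F := F) p hn
  intro σ τ h
  rw [← hΘ σ, ← hΘ τ, h]

include p in
theorem orderOf_fieldAHom (hn : 2 ≤ n) (σ : RingAut F) :
    orderOf (fieldAHom (n := n) σ) = orderOf σ :=
  orderOf_injective _ (fieldAHom_injective p hn) σ

include p in
/-- **S2697, field case** -/
theorem field_class_conj (hn : 2 ≤ n)
    (x δ : MulAut (ProjectiveSpecialLinearGroup (Fin n) F)) (hx : Cfsg.IsFieldAutClassPSL x)
    (hx0 : 0 < orderOf x)
    (hδ : δ ∈ Cfsg.inndiagPSL n F) (hord : orderOf (δ * x) = orderOf x) :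
    Cfsg.IsConjUnder (Cfsg.inndiagPSL n F) x (δ * x) := by
  obtain ⟨α, σ, -, hstd⟩ := hx
  rw [isStdField_iff] at hstd
  have : (Cfsg.inndiagPSL n F).Normal := inndiag_normal p hn
  have hoσ : orderOf σ = orderOf x := by
    rw [← orderOf_fieldAHom p hn σ, ← hstd]
    have e2 : α * x * α⁻¹ = MulAut.conj α x := rfl
    rw [e2, MulEquiv.orderOf_eq]
  apply conjUnder_of_std _ α x δ (fieldAHom σ) hstd hδ _ hord
  intro d hd hdo
  rw [inndiag_eq] at hd
  obtain ⟨g, rfl⟩ := hd
  rw [orderOf_fieldAHom p hn σ] at hdo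
  have hpow : (conjAHom g * fieldAHom σ) ^ orderOf x = 1 := by
    rw [← hoσ, ← hdo]
    exact pow_orderOf_eq_one _
  obtain ⟨h, hh⟩ := field_coset_conj hn σ (orderOf x) hoσ hx0 g hpow
  refine ⟨conjAHom h, ?_, hh⟩
  rw [inndiag_eq]
  exact ⟨h, rfl⟩

end fin

end Cfsg.Agent.Lib.Helper18.PSLnFld
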