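import Mathlib
import Cfsg.Agent.Lib.Helper18.PSLnFldA

/-!
Nondegenerate Hermitian matrices over a finite field are of the form `h σ(h)ᵀ` (helper18).
-/

set_option autoImplicit false

namespace Cfsg.Agent.Lib.Helper18.PSLnFld

open Matrix

variable {F : Type*} [Field F] {n : ℕ}

/-- the sesquilinear form of a matrix -/
def hB (σ : RingAut F) (G : Matrix (Fin n) (Fin n) F) (u v : Fin n → F) : F :=
  u ⬝ᵥ G.mulVec (fun i => σ (v i))

theorem hB_add_left (σ : RingAut F) (G : Matrix (Fin n) (Fin n) F) (u u' v : Fin n → F) :
    hB σ G (u + u') v = hB σ G u v + hB σ G u' v := by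
  unfold hB
  rw [add_dotProduct]

theorem hB_smul_left (σ : RingAut F) (G : Matrix (Fin n) (Fin n) F) (c : F) (u v : Fin n → F) :
    hB σ G (c • u) v = c * hB σ G u v := by
  unfold hB
  rw [smul_dotProduct, smul_eq_mul]

theorem hB_sub_left (σ : RingAut F) (G : Matrix (Fin n) (Fin n) F) (u u' v : Fin n → F) :
    hB σ G (u - u') v = hB σ G u v - hB σ G u' v := by
  unfold hB
  rw [sub_dotProduct]

theorem hB_sum_left (σ : RingAut F) (G : Matrix (Fin n) (Fin n) F) {ι : Type*} (s : Finset ι)
    (c : ι → F) (w : ι → Fin n → F) (v : Fin n → F) :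
    hB σ G (∑ i ∈ s, c i • w i) v = ∑ i ∈ s, c i * hB σ G (w i) v := by
  unfold hB
  rw [sum_dotProduct]
  apply Finset.sum_congr rfl
  intro i _
  rw [smul_dotProduct, smul_eq_mul]

theorem hB_add_right (σ : RingAut F) (G : Matrix (Fin n) (Fin n) F) (u v v' : Fin n → F) :
    hB σ G u (v + v') = hB σ G u v + hB σ G u v' := by
  unfold hB
  have : (fun i => σ ((v + v') i)) = (fun i => σ (v i)) + (fun i => σ (v' i)) := by
    funext i
    simp
  rw [this, Matrix.mulVec_add, dotProduct_add]

theorem hB_smul_right (σ : RingAut F) (G : Matrix (Fin n) (Fin n) F) (c : F) (u v : Fin n → F) :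
    hB σ G u (c • v) = σ c * hB σ G u v := by
  unfold hB
  have : (fun i => σ ((c • v) i)) = σ c • (fun i => σ (v i)) := by
    funext i
    simp
  rw [this, Matrix.mulVec_smul, dotProduct_smul, smul_eq_mul]

theorem hB_sum_right (σ : RingAut F) (G : Matrix (Fin n) (Fin n) F) {ι : Type*} (s : Finset ι)
    (c : ι → F) (w : ι → Fin n → F) (u : Fin n → F) :
    hB σ G u (∑ i ∈ s, c i • w i) = ∑ i ∈ s, σ (c i) * hB σ G u (w i) := by
  classical
  induction s using Finset.induction_on with
  | empty =>
    simp only [Finset.sum_empty]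
    unfold hB
    have : (fun i => σ ((0 : Fin n → F) i)) = 0 := by
      funext i
      simp
    rw [this, Matrix.mulVec_zero, dotProduct_zero]
  | insert a s ha ih =>
    rw [Finset.sum_insert ha, Finset.sum_insert ha, hB_add_right, hB_smul_right, ih]

theorem hB_herm (σ : RingAut F) (hσ : ∀ a, σ (σ a) = a) (G : Matrix (Fin n) (Fin n) F)
    (hG : ∀ i j, σ (G i j) = G j i) (u v : Fin n → F) : σ (hB σ G u v) = hB σ G v u := by
  unfold hB dotProduct Matrix.mulVec dotProduct
  rw [map_sum]
  simp_rw [map_mul, map_sum, map_mul, hG, hσ, Finset.mul_sum]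
  rw [Finset.sum_comm]
  apply Finset.sum_congr rfl
  intro i _
  apply Finset.sum_congr rfl
  intro j _
  ring

theorem hB_nondeg (σ : RingAut F) (G : Matrix (Fin n) (Fin n) F) (hGu : IsUnit G)
    (u : Fin n → F) (h : ∀ v, hB σ G u v = 0) : u = 0 := by
  have h1 : Matrix.vecMul u G = 0 := by
    funext l
    have h2 := h (Pi.single l 1)
    unfold hB at h2
    have h3 : (fun i => σ ((Pi.single l (1 : F) : Fin n → F) i)) = Pi.single l 1 := by
      funext i
      by_cases hi : i = l
      · subst hi
        simp
      · simp [Pi.single_eq_of_ne hi]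
    rw [h3, Matrix.dotProduct_mulVec, dotProduct_single, mul_one] at h2
    exact h2
  have := Matrix.vecMul_injective_of_isUnit hGu
  apply this
  show Matrix.vecMul u G = Matrix.vecMul 0 G
  rw [h1, Matrix.zero_vecMul]

section finite

variable [Finite F]

/-- orthonormal families for a nondegenerate Hermitian form over a finite field -/
theorem exists_orthonormal (σ : RingAut F) (hσ2 : orderOf σ = 2) (G : Matrix (Fin n) (Fin n) F)
    (hGu : IsUnit G) (hG : ∀ i j, σ (G i j) = G j i) :
    ∀ k ≤ n, ∃ e : ℕ → (Fin n → F), ∀ i < k, ∀ j < k,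
      hB σ G (e i) (e j) = if i = j then 1 else 0 := by
  classical
  have hσ : ∀ a, σ (σ a) = a := by
    intro a
    have h1 : σ ^ 2 = 1 := by rw [← hσ2]; exact pow_orderOf_eq_one σ
    have h2 : (σ ^ 2) a = a := by rw [h1]; rfl
    rwa [pow_two] at h2
  have hσne : ∃ c, σ c ≠ c := by
    by_contra hcon
    push Not at hcon
    have : σ = 1 := RingEquiv.ext hcon
    rw [this, orderOf_one] at hσ2
    omega
  intro k
  induction k with
  | zero =>
    intro _
    exact ⟨fun _ => 0, fun i hi => absurd hi (Nat.not_lt_zero i)⟩
  | succ k ih =>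
    intro hk
    obtain ⟨e, he⟩ := ih (by omega)
    -- the projection to the orthogonal complement
    let P : (Fin n → F) → (Fin n → F) :=
      fun v => v - ∑ i ∈ Finset.range k, hB σ G v (e i) • e i
    have hP : ∀ v, ∀ j < k, hB σ G (P v) (e j) = 0 := by
      intro v j hj
      show hB σ G (v - ∑ i ∈ Finset.range k, hB σ G v (e i) • e i) (e j) = 0
      rw [hB_sub_left, hB_sum_left, Finset.sum_eq_single j]
      · rw [he j hj j hj, if_pos rfl, mul_one, sub_self]
      · intro i hi hij
        rw [he i (Finset.mem_range.1 hi) j hj, if_neg hij, mul_zero]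
      · intro hj'
        exact absurd (Finset.mem_range.2 hj) hj'
    -- a nonzero vector in the complement
    obtain ⟨u₀, hu₀, hu₀0⟩ : ∃ u₀ : Fin n → F, (∀ j < k, hB σ G u₀ (e j) = 0) ∧ u₀ ≠ 0 := by
      have hlt : Submodule.span F ((Finset.image e (Finset.range k) : Finset (Fin n → F)) :
          Set (Fin n → F)) ≠ ⊤ := by
        intro htop
        have h1 := finrank_span_finset_le_card (R := F) (Finset.image e (Finset.range k))
        rw [Set.finrank, htop, finrank_top, Module.finrank_fin_fun] at h1
        have h2 : (Finset.image e (Finset.range k)).card ≤ k := by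
          calc _ ≤ (Finset.range k).card := Finset.card_image_le
            _ = k := Finset.card_range k
        omega
      obtain ⟨v, hv⟩ : ∃ v, v ∉ Submodule.span F
          ((Finset.image e (Finset.range k) : Finset (Fin n → F)) : Set (Fin n → F)) := by
        by_contra hcon
        push Not at hcon
        exact hlt (eq_top_iff.2 fun v _ => hcon v)
      refine ⟨P v, hP v, ?_⟩
      intro h0
      apply hv
      have h1 : v = ∑ i ∈ Finset.range k, hB σ G v (e i) • e i := sub_eq_zero.1 h0
      rw [h1]
      apply Submodule.sum_mem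
      intro i hi
      apply Submodule.smul_mem
      apply Submodule.subset_span
      exact Finset.mem_coe.2 (Finset.mem_image_of_mem e hi)
    -- an anisotropic vector in the complement
    obtain ⟨u, hu, huu⟩ : ∃ u : Fin n → F, (∀ j < k, hB σ G u (e j) = 0) ∧ hB σ G u u ≠ 0 := by
      by_contra hcon
      push Not at hcon
      have hzero : ∀ u u' : Fin n → F, (∀ j < k, hB σ G u (e j) = 0) →
          (∀ j < k, hB σ G u' (e j) = 0) → hB σ G u u' = 0 := by
        intro u u' hu hu'
        have key : ∀ c : F, σ c * hB σ G u u' + c * σ (hB σ G u u') = 0 := by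
          intro c
          have hmem : ∀ j < k, hB σ G (u + c • u') (e j) = 0 := by
            intro j hj
            rw [hB_add_left, hB_smul_left, hu j hj, hu' j hj, mul_zero, add_zero]
          have h1 := hcon (u + c • u') hmem
          rw [hB_add_left, hB_add_right, hB_add_right, hB_smul_left, hB_smul_left, hB_smul_right,
            hB_smul_right, hcon u hu, hcon u' hu'] at h1
          rw [hB_herm σ hσ G hG]
          linear_combination h1
        have h1 := key 1
        rw [map_one, one_mul, one_mul] at h1
        obtain ⟨c, hc⟩ := hσne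
        have h2 := key c
        have h3 : (σ c - c) * hB σ G u u' = 0 := by
          linear_combination h2 - c * h1
        rcases mul_eq_zero.1 h3 with h4 | h4
        · exact absurd (sub_eq_zero.1 h4) hc
        · exact h4
      apply hu₀0
      apply hB_nondeg σ G hGu
      intro v
      have hv : v = P v + ∑ i ∈ Finset.range k, hB σ G v (e i) • e i := by
        show v = v - _ + _
        rw [sub_add_cancel]
      rw [hv, hB_add_right, hzero u₀ (P v) hu₀ (hP v), hB_sum_right, zero_add]
      apply Finset.sum_eq_zero
      intro i hi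
      rw [hu₀ i (Finset.mem_range.1 hi), mul_zero]
    -- normalise
    have hfix : σ (hB σ G u u) = hB σ G u u := hB_herm σ hσ G hG u u
    obtain ⟨ν, hν0, hν⟩ := exists_nrm_eq σ 2 hσ2 (by norm_num) (hB σ G u u) huu hfix
    have hν' : ν * σ ν = hB σ G u u := by
      rw [← hν]
      simp [nrm, Finset.prod_range_succ]
    have hσν : σ ν ≠ 0 := (map_ne_zero_iff _ (RingEquiv.injective _)).2 hν0
    refine ⟨Function.update e k (ν⁻¹ • u), ?_⟩
    intro i hi j hj
    by_cases hik : i = k
    · subst hik
      rw [Function.update_self]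
      by_cases hjk : j = i
      · subst hjk
        rw [Function.update_self, if_pos rfl, hB_smul_left, hB_smul_right, ← hν', map_inv₀]
        field_simp
      · rw [Function.update_of_ne hjk, if_neg (Ne.symm hjk), hB_smul_left,
          hu j (by omega), mul_zero]
    · rw [Function.update_of_ne hik]
      by_cases hjk : j = k
      · subst hjk
        rw [Function.update_self, if_neg hik, hB_smul_right, ← hB_herm σ hσ G hG,
          hu i (by omega), map_zero, mul_zero]
      · rw [Function.update_of_ne hjk]
        exact he i (by omega) j (by omega)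

/-- **nondegenerate Hermitian matrices over a finite field are equivalent to the identity** -/
theorem exists_herm_factor (σ : RingAut F) (hσ2 : orderOf σ = 2) (G : Matrix (Fin n) (Fin n) F)
    (hGu : IsUnit G) (hG : ∀ i j, σ (G i j) = G j i) :
    ∃ P : Matrix (Fin n) (Fin n) F, IsUnit P ∧ P * G * (P.map σ)ᵀ = 1 := by
  obtain ⟨e, he⟩ := exists_orthonormal σ hσ2 G hGu hG n le_rfl
  have hmain : (Matrix.of (fun (i : Fin n) (j : Fin n) => e (i : ℕ) j)) * G *
      ((Matrix.of (fun (i : Fin n) (j : Fin n) => e (i : ℕ) j)).map σ)ᵀ =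
        (1 : Matrix (Fin n) (Fin n) F) := by
    ext i j
    have h1 := he i i.2 j j.2
    rw [Matrix.one_apply]
    have h2 : (if (i : ℕ) = (j : ℕ) then (1 : F) else 0) = if i = j then 1 else 0 := by
      by_cases hij : i = j
      · subst hij
        simp
      · rw [if_neg hij, if_neg (fun h => hij (Fin.ext h))]
    rw [← h2, ← h1]
    unfold hB
    rw [Matrix.mul_apply, dotProduct]
    simp_rw [Matrix.mul_apply, Matrix.mulVec, dotProduct, Finset.sum_mul, Finset.mul_sum]
    rw [Finset.sum_comm]
    apply Finset.sum_congr rfl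
    intro l _
    apply Finset.sum_congr rfl
    intro m _
    simp only [Matrix.of_apply, Matrix.transpose_apply, Matrix.map_apply]
    ring
  refine ⟨Matrix.of (fun (i : Fin n) (j : Fin n) => e (i : ℕ) j), ?_, hmain⟩
  rw [Matrix.mul_assoc] at hmain
  exact (Matrix.isUnit_iff_isUnit_det _).2 (Matrix.isUnit_det_of_right_inverse hmain)

end finite

end Cfsg.Agent.Lib.Helper18.PSLnFld
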