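import Mathlib
import Cfsg.Agent.Lib.Helper18.PSLnFldB
import Cfsg.Agent.Lib.Helper18.PSLnFldC

/-!
Graph-field automorphisms of `PSL_n(F)`: conjugacy in the coset (helper18).
-/

set_option autoImplicit false

namespace Cfsg.Agent.Lib.Helper18.PSLnFld

open Matrix Cfsg Cfsg.Agent.Lib.Helper18.PSLnAut

variable {n : ℕ} {F : Type*} [Field F]

/-- the inverse transpose as an endomorphism of `GL_n` -/
noncomputable def gtiHom : GL (Fin n) F →* GL (Fin n) F where
  toFun := gti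
  map_one' := by
    apply Units.ext
    rw [gti_coe, inv_one]
    exact Matrix.transpose_one
  map_mul' a b := by
    apply Units.ext
    rw [gti_coe, _root_.mul_inv_rev]
    show (((b⁻¹ : GL (Fin n) F) : Matrix (Fin n) (Fin n) F) *
      ((a⁻¹ : GL (Fin n) F) : Matrix (Fin n) (Fin n) F))ᵀ = _
    rw [Matrix.transpose_mul]
    rfl

/-- the twisted Galois action `g ↦ σ(g)^{-T}` -/
noncomputable def twHom (σ : RingAut F) : GL (Fin n) F →* GL (Fin n) F :=
  (glF σ).comp gtiHom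

theorem twHom_coe (σ : RingAut F) (g : GL (Fin n) F) :
    ((twHom σ g : GL (Fin n) F) : Matrix (Fin n) (Fin n) F) =
      (((g⁻¹ : GL (Fin n) F) : Matrix (Fin n) (Fin n) F)ᵀ).map σ := rfl

theorem twHom_inv_coe (σ : RingAut F) (g : GL (Fin n) F) :
    (((twHom σ g)⁻¹ : GL (Fin n) F) : Matrix (Fin n) (Fin n) F) =
      ((g : Matrix (Fin n) (Fin n) F)ᵀ).map σ := by
  rw [← map_inv, twHom_coe, inv_inv]

/-- the standard graph-field automorphism -/
noncomputable def psiA (σ : RingAut F) : MulAut (ProjectiveSpecialLinearGroup (Fin n) F) :=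
  fieldAHom σ * itA

theorem psiA_mul_conj (σ : RingAut F) (g : GL (Fin n) F) :
    psiA σ * conjAHom g = conjAHom (twHom σ g) * psiA σ := by
  unfold psiA
  rw [mul_assoc, it_mul_conj, ← mul_assoc, field_mul_conj, mul_assoc]
  rfl

theorem psiA_sq (σ : RingAut F) (hσ : σ * σ = 1) : psiA (n := n) σ * psiA σ = 1 := by
  unfold psiA
  rw [mul_assoc, ← mul_assoc itA, it_mul_field, mul_assoc, it_mul_it, mul_one, ← map_mul, hσ,
    map_one]

theorem conj_conj_psiA (σ : RingAut F) (h : GL (Fin n) F) :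
    conjAHom h * psiA σ * (conjAHom h)⁻¹ = conjAHom (h * (twHom σ h)⁻¹) * psiA σ := by
  rw [mul_inv_eq_iff_eq_mul, map_mul, map_inv, mul_assoc, mul_assoc]
  congr 1
  rw [eq_inv_mul_iff_mul_eq, psiA_mul_conj]

section finite

variable [Finite F]

/-- **conjugacy in the coset of a graph-field involution** -/
theorem gf_coset_conj (hn : 2 ≤ n) (σ : RingAut F) (hσ : orderOf σ = 2)
    (g : GL (Fin n) F) (hg : (conjAHom g * psiA σ) ^ 2 = 1) :
    ∃ h : GL (Fin n) F, conjAHom g * psiA σ = conjAHom h * psiA σ * (conjAHom h)⁻¹ := by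
  have hσσ : σ * σ = 1 := by rw [← pow_two, ← hσ]; exact pow_orderOf_eq_one σ
  have hσa : ∀ a, σ (σ a) = a := by
    intro a
    have : (σ * σ) a = a := by rw [hσσ]; rfl
    exact this
  rw [pow_two, mul_assoc, ← mul_assoc (psiA σ), psiA_mul_conj, mul_assoc, psiA_sq σ hσσ, mul_one,
    ← map_mul] at hg
  have hcen : g * twHom σ g ∈ Subgroup.center (GL (Fin n) F) := by
    rw [← ker_conjAHom hn]
    exact hg
  obtain ⟨μ, hμ⟩ := Matrix.GeneralLinearGroup.mem_center_iff_val_mem_range_scalar.1 hcen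
  -- `g = μ σ(g)ᵀ`
  have hM : (g : Matrix (Fin n) (Fin n) F) = μ • ((g : Matrix (Fin n) (Fin n) F)ᵀ).map σ := by
    have h1 : (g : Matrix (Fin n) (Fin n) F) =
        ((g * twHom σ g : GL (Fin n) F) : Matrix (Fin n) (Fin n) F) *
          (((twHom σ g)⁻¹ : GL (Fin n) F) : Matrix (Fin n) (Fin n) F) := by
      rw [← Units.val_mul, mul_inv_cancel_right]
    rw [twHom_inv_coe] at h1
    have h2 : ((g * twHom σ g : GL (Fin n) F) : Matrix (Fin n) (Fin n) F) =
        Matrix.scalar (Fin n) μ := hμ.symm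
    rw [h2] at h1
    refine h1.trans ?_
    rw [Matrix.scalar_apply, ← Matrix.smul_eq_diagonal_mul]
  have hMe : ∀ a b, (g : Matrix (Fin n) (Fin n) F) a b =
      μ * σ ((g : Matrix (Fin n) (Fin n) F) b a) := by
    intro a b
    have := congrFun (congrFun hM a) b
    simpa using this
  obtain ⟨a, b, hab⟩ : ∃ a b, (g : Matrix (Fin n) (Fin n) F) a b ≠ 0 := by
    by_contra hcon
    push Not at hcon
    have h0 : (g : Matrix (Fin n) (Fin n) F) = 0 := by
      ext a b
      exact hcon a b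
    have h3 : IsUnit (g : Matrix (Fin n) (Fin n) F) := ⟨g, rfl⟩
    rw [h0] at h3
    have : Nontrivial (Matrix (Fin n) (Fin n) F) := by
      have : Nonempty (Fin n) := ⟨⟨0, by omega⟩⟩
      infer_instance
    exact not_isUnit_zero h3
  have hμ0 : μ ≠ 0 := by
    rintro rfl
    apply hab
    rw [hMe, zero_mul]
  have hμσ : μ * σ μ = 1 := by
    have h1 := hMe a b
    rw [hMe b a, map_mul, hσa, ← mul_assoc] at h1
    have h2 : (μ * σ μ - 1) * (g : Matrix (Fin n) (Fin n) F) a b = 0 := by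
      linear_combination -h1
    rcases mul_eq_zero.1 h2 with h3 | h3
    · exact sub_eq_zero.1 h3
    · exact absurd h3 hab
  obtain ⟨ν, hν0, hν⟩ := exists_fixed_of_nrm_eq_one σ 2 hσ (by norm_num) μ⁻¹ (by
    have : nrm σ μ⁻¹ 2 = μ⁻¹ * σ μ⁻¹ := by rw [nrm_succ, nrm_one]
    rw [this, map_inv₀, ← mul_inv, hμσ, inv_one])
  have hν' : σ ν = μ * ν := by
    have h1 : σ ν = μ * (μ⁻¹ * σ ν) := by rw [← mul_assoc, mul_inv_cancel₀ hμ0, one_mul]
    rw [hν] at h1
    exact h1
  -- the Hermitian matrix `ν g`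
  have hGu : IsUnit (ν • (g : Matrix (Fin n) (Fin n) F)) := by
    have h3 : IsUnit (g : Matrix (Fin n) (Fin n) F) := ⟨g, rfl⟩
    rw [Matrix.isUnit_iff_isUnit_det] at h3 ⊢
    rw [Matrix.det_smul]
    exact IsUnit.mul (IsUnit.pow _ (isUnit_iff_ne_zero.2 hν0)) h3
  obtain ⟨P, hPu, hP⟩ := exists_herm_factor σ hσ (ν • (g : Matrix (Fin n) (Fin n) F)) hGu (by
    intro i j
    rw [Matrix.smul_apply, Matrix.smul_apply, smul_eq_mul, smul_eq_mul, map_mul, hν', hMe j i]
    ring)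
  obtain ⟨u, rfl⟩ := hPu
  refine ⟨u⁻¹, ?_⟩
  rw [conj_conj_psiA]
  congr 1
  let z : GL (Fin n) F := Matrix.GeneralLinearGroup.scalar (Fin n) (Units.mk0 ν hν0)
  have hz : z ∈ (conjAHom (n := n) (F := F)).ker := by
    rw [ker_conjAHom hn, Matrix.GeneralLinearGroup.center_eq_range_scalar]
    exact ⟨_, rfl⟩
  have hmain : u * (z * g) * (twHom σ u)⁻¹ = 1 := by
    apply Units.ext
    rw [Units.val_mul, Units.val_mul, twHom_inv_coe, Units.val_one, ← hP]
    congr 2
    show Matrix.scalar (Fin n) ν * _ = _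
    ext a b
    simp [Matrix.scalar_apply, Matrix.diagonal_mul]
  have hgz : g = z⁻¹ * (u⁻¹ * (twHom σ u⁻¹)⁻¹) := by
    rw [map_inv, inv_inv]
    have h1 : z * g = u⁻¹ * twHom σ u := by
      rw [mul_inv_eq_one] at hmain
      rw [← hmain, inv_mul_cancel_left]
    rw [← h1, inv_mul_cancel_left]
  rw [hgz, map_mul, map_inv, MonoidHom.mem_ker.1 hz, inv_one, one_mul]

end finite

section fin

variable [Fintype F] (p : ℕ) [Fact p.Prime] [CharP F p]

omit [Fintype F] in
theorem psiA_eq_fgHom (σ : RingAut F) :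
    psiA (n := n) σ = fgHom (σ, Multiplicative.ofAdd 1) := by
  rw [fgHom_apply]
  unfold psiA
  congr 1

include p in
theorem fgHom_injective (hn : 3 ≤ n) : Function.Injective (fgHom (n := n) (F := F)) := by
  obtain ⟨Φ, hΦ1, -⟩ := exists_autHom (n := n) (F := F) p hn
  intro s t h
  rw [← hΦ1 s, ← hΦ1 t, h]

include p in
/-- a graph-field automorphism of prime order is a conjugate of a standard involution -/
theorem gf_class_std (hn : 3 ≤ n) (x : MulAut (ProjectiveSpecialLinearGroup (Fin n) F))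
    (hx : Cfsg.IsGraphFieldAutClassPSL x) {r : ℕ} (hr : r.Prime) (hxr : orderOf x = r) :
    r = 2 ∧ ∃ (α : MulAut (ProjectiveSpecialLinearGroup (Fin n) F)) (σ : RingAut F),
      orderOf σ = 2 ∧ α * x * α⁻¹ = psiA σ := by
  obtain ⟨-, α, φ, γ, σ, hσ1, hφ, hγ, hconj⟩ := hx
  rw [isStdField_iff] at hφ
  rw [isInverseTranspose_iff] at hγ
  subst hφ hγ
  have hord : orderOf (psiA (n := n) (σ : RingAut F)) = r := by
    show orderOf (fieldAHom σ * itA) = r
    rw [← hconj, ← hxr]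
    have e2 : α * x * α⁻¹ = MulAut.conj α x := rfl
    rw [e2, MulEquiv.orderOf_eq]
  have hpow : (σ, Multiplicative.ofAdd (1 : ZMod 2)) ^ r =
      (1 : RingAut F × Multiplicative (ZMod 2)) := by
    apply fgHom_injective (n := n) p hn
    rw [map_pow, ← psiA_eq_fgHom, map_one, ← hord]
    exact pow_orderOf_eq_one _
  have h1 : (σ : RingAut F) ^ r = 1 := congrArg Prod.fst hpow
  have h2 : (Multiplicative.ofAdd (1 : ZMod 2)) ^ r = 1 := congrArg Prod.snd hpow
  have hr2 : r = 2 := by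
    have h3 : orderOf (Multiplicative.ofAdd (1 : ZMod 2)) = 2 := by
      rw [orderOf_ofAdd_eq_addOrderOf, ZMod.addOrderOf_one]
    have h4 : 2 ∣ r := by
      rw [← h3]
      exact orderOf_dvd_of_pow_eq_one h2
    exact ((Nat.prime_dvd_prime_iff_eq Nat.prime_two hr).1 h4).symm
  refine ⟨hr2, α, σ, ?_, hconj⟩
  subst hr2
  apply orderOf_eq_prime h1
  intro h
  apply hσ1
  exact h

include p in
/-- **S2697, graph-field case** -/
theorem gf_class_conj (hn : 3 ≤ n)
    (x δ : MulAut (ProjectiveSpecialLinearGroup (Fin n) F))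
    (hx : Cfsg.IsGraphFieldAutClassPSL x) {r : ℕ} (hr : r.Prime) (hxr : orderOf x = r)
    (hδ : δ ∈ Cfsg.inndiagPSL n F) (hord : orderOf (δ * x) = r) :
    Cfsg.IsConjUnder (Cfsg.inndiagPSL n F) x (δ * x) := by
  obtain ⟨hr2, α, σ, hσ, hstd⟩ := gf_class_std p hn x hx hr hxr
  subst hr2
  have : (Cfsg.inndiagPSL n F).Normal := inndiag_normal p (by omega)
  have hoψ : orderOf (psiA (n := n) σ) = 2 := by
    rw [← hstd, ← hxr]
    have e2 : α * x * α⁻¹ = MulAut.conj α x := rfl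
    rw [e2, MulEquiv.orderOf_eq]
  apply conjUnder_of_std _ α x δ (psiA σ) hstd hδ _ (hord.trans hxr.symm)
  intro d hd hdo
  rw [inndiag_eq] at hd
  obtain ⟨g, rfl⟩ := hd
  have hpow : (conjAHom g * psiA σ) ^ 2 = 1 := by
    rw [← hoψ, ← hdo]
    exact pow_orderOf_eq_one _
  obtain ⟨h, hh⟩ := gf_coset_conj (by omega) σ hσ g hpow
  refine ⟨conjAHom h, ?_, hh⟩
  rw [inndiag_eq]
  exact ⟨h, rfl⟩

end fin

end Cfsg.Agent.Lib.Helper18.PSLnFld
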