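import Mathlib
import Cfsg.Prelude.Def_LieTypeDatum

/-!
Counting the classes into which a conjugacy class splits under a normal subgroup; joins of
power subgroups of cyclic groups (helper18).
-/

set_option autoImplicit false

namespace Cfsg.Agent.Lib.Helper18.PSLnFld

section split

variable {X : Type*} [Group X]

/-- the class of `x` under `H` splits into `|H : K C_H(x)|` classes under `K ⊴ H` -/
theorem splitClassCount_eq (H K : Subgroup X) (hKH : K ≤ H)
    (hnorm : ∀ h ∈ H, ∀ k ∈ K, h * k * h⁻¹ ∈ K) (x : X) (M : Subgroup X)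
    (hM : ∀ m, m ∈ M ↔ ∃ k ∈ K, ∃ c ∈ H ⊓ Subgroup.centralizer {x}, m = k * c) :
    Cfsg.splitClassCount H K x = M.relIndex H := by
  unfold Cfsg.splitClassCount
  have hequiv : Equivalence
      (fun y z : {y : X // Cfsg.IsConjUnder H x y} => Cfsg.IsConjUnder K y.1 z.1) := by
    refine ⟨fun y => ⟨1, K.one_mem, by simp⟩, ?_, ?_⟩
    · rintro y z ⟨k, hk, hz⟩
      refine ⟨k⁻¹, K.inv_mem hk, ?_⟩
      rw [hz]
      group
    · rintro y z w ⟨k, hk, hz⟩ ⟨k', hk', hw⟩
      refine ⟨k' * k, K.mul_mem hk' hk, ?_⟩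
      rw [hw, hz]
      group
  let f : ↥H → Quot (fun y z : {y : X // Cfsg.IsConjUnder H x y} => Cfsg.IsConjUnder K y.1 z.1) :=
    fun h => Quot.mk _ ⟨(h : X) * x * (h : X)⁻¹, h, h.2, rfl⟩
  have hf : ∀ h h' : ↥H, f h = f h' ↔ ((h : X)⁻¹ * (h' : X)) ∈ M := by
    intro h h'
    show Quot.mk _ _ = Quot.mk _ _ ↔ _
    rw [Quot.eq, hequiv.eqvGen_iff, hM]
    constructor
    · rintro ⟨k, hk, hz⟩
      have hz' : (h' : X) * x * (h' : X)⁻¹ = k * ((h : X) * x * (h : X)⁻¹) * k⁻¹ := hz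
      refine ⟨(h : X)⁻¹ * k * (h : X), ?_, (h : X)⁻¹ * k⁻¹ * (h' : X), ⟨?_, ?_⟩, by group⟩
      · have := hnorm (h : X)⁻¹ (H.inv_mem h.2) k hk
        rwa [inv_inv] at this
      · exact H.mul_mem (H.mul_mem (H.inv_mem h.2) (hKH (K.inv_mem hk))) h'.2
      · show _ ∈ Subgroup.centralizer {x}
        rw [Subgroup.mem_centralizer_iff]
        intro y hy
        rw [Set.mem_singleton_iff] at hy
        subst hy
        have h1 : (h : X)⁻¹ * k⁻¹ * ((h' : X) * y * (h' : X)⁻¹) * k * (h : X) = y := by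
          rw [hz']
          group
        calc y * ((h : X)⁻¹ * k⁻¹ * (h' : X))
            = ((h : X)⁻¹ * k⁻¹ * ((h' : X) * y * (h' : X)⁻¹) * k * (h : X)) *
                ((h : X)⁻¹ * k⁻¹ * (h' : X)) := by rw [h1]
          _ = (h : X)⁻¹ * k⁻¹ * (h' : X) * y := by group
    · rintro ⟨k, hk, c, ⟨hcH, hcC⟩, hkc⟩
      refine ⟨(h : X) * k * (h : X)⁻¹, hnorm _ h.2 k hk, ?_⟩
      show (h' : X) * x * (h' : X)⁻¹ = _
      have h1 : (h' : X) = (h : X) * (k * c) := by rw [← hkc]; group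
      have h2 : c * x * c⁻¹ = x := by
        have hcC : c ∈ Subgroup.centralizer {x} := hcC
        rw [Subgroup.mem_centralizer_iff] at hcC
        have := hcC x rfl
        rw [← this]
        group
      calc (h' : X) * x * (h' : X)⁻¹ = (h : X) * k * (c * x * c⁻¹) * k⁻¹ * (h : X)⁻¹ := by
            rw [h1]; group
        _ = _ := by rw [h2]; group
  rw [Subgroup.relIndex, Subgroup.index]
  symm
  apply Nat.card_congr
  refine Equiv.ofBijective
    (fun q => Quotient.liftOn' q f (fun a b hab => by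
      rw [QuotientGroup.leftRel_apply] at hab
      exact (hf a b).2 hab)) ⟨?_, ?_⟩
  · intro q q'
    induction q using Quotient.inductionOn' with | h a => ?_
    induction q' using Quotient.inductionOn' with | h b => ?_
    intro hab
    apply Quotient.sound'
    rw [QuotientGroup.leftRel_apply]
    exact (hf a b).1 hab
  · intro q
    induction q using Quot.inductionOn with | h y => ?_
    obtain ⟨y, h, hh, rfl⟩ := y
    exact ⟨Quotient.mk'' ⟨h, hh⟩, rfl⟩

/-- the count is invariant under conjugation by elements normalising both subgroups -/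
theorem splitClassCount_conj (H K : Subgroup X) (a x : X)
    (hH : ∀ h, h ∈ H ↔ a * h * a⁻¹ ∈ H) (hK : ∀ k, k ∈ K ↔ a * k * a⁻¹ ∈ K) :
    Cfsg.splitClassCount H K (a * x * a⁻¹) = Cfsg.splitClassCount H K x := by
  unfold Cfsg.splitClassCount
  symm
  apply Nat.card_congr
  have hP : ∀ y, Cfsg.IsConjUnder H x y ↔ Cfsg.IsConjUnder H (a * x * a⁻¹) (a * y * a⁻¹) := by
    intro y
    constructor
    · rintro ⟨h, hh, rfl⟩
      exact ⟨a * h * a⁻¹, (hH h).1 hh, by group⟩
    · rintro ⟨h, hh, hy⟩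
      refine ⟨a⁻¹ * h * a, ?_, ?_⟩
      · rw [hH]
        have : a * (a⁻¹ * h * a) * a⁻¹ = h := by group
        rwa [this]
      · have : y = a⁻¹ * (a * y * a⁻¹) * a := by group
        rw [this, hy]
        group
  let e : {y : X // Cfsg.IsConjUnder H x y} ≃ {y : X // Cfsg.IsConjUnder H (a * x * a⁻¹) y} :=
    { toFun := fun y => ⟨a * y.1 * a⁻¹, (hP y.1).1 y.2⟩
      invFun := fun y => ⟨a⁻¹ * y.1 * a, by
        rw [hP]
        have : a * (a⁻¹ * y.1 * a) * a⁻¹ = y.1 := by group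
        rw [this]
        exact y.2⟩
      left_inv := fun y => Subtype.ext (by show a⁻¹ * (a * y.1 * a⁻¹) * a = y.1; group)
      right_inv := fun y => Subtype.ext (by show a * (a⁻¹ * y.1 * a) * a⁻¹ = y.1; group) }
  refine Quot.congr e ?_
  intro y z
  show Cfsg.IsConjUnder K y.1 z.1 ↔ Cfsg.IsConjUnder K (a * y.1 * a⁻¹) (a * z.1 * a⁻¹)
  constructor
  · rintro ⟨k, hk, hz⟩
    refine ⟨a * k * a⁻¹, (hK k).1 hk, ?_⟩
    rw [hz]
    group
  · rintro ⟨k, hk, hz⟩
    refine ⟨a⁻¹ * k * a, ?_, ?_⟩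
    · rw [hK]
      have : a * (a⁻¹ * k * a) * a⁻¹ = k := by group
      rwa [this]
    · have : z.1 = a⁻¹ * (a * z.1 * a⁻¹) * a := by group
      rw [this, hz]
      group

end split

section cyclic

variable {G : Type*} [CommGroup G]

theorem range_pow_sup (a b : ℕ) :
    (powMonoidHom a : G →* G).range ⊔ (powMonoidHom b : G →* G).range =
      (powMonoidHom (Nat.gcd a b) : G →* G).range := by
  apply le_antisymm
  · rw [sup_le_iff]
    constructor
    · rintro _ ⟨y, rfl⟩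
      obtain ⟨c, hc⟩ := Nat.gcd_dvd_left a b
      refine ⟨y ^ c, ?_⟩
      show (y ^ c) ^ (Nat.gcd a b) = y ^ a
      rw [← pow_mul, mul_comm, ← hc]
    · rintro _ ⟨y, rfl⟩
      obtain ⟨c, hc⟩ := Nat.gcd_dvd_right a b
      refine ⟨y ^ c, ?_⟩
      show (y ^ c) ^ (Nat.gcd a b) = y ^ b
      rw [← pow_mul, mul_comm, ← hc]
  · rintro _ ⟨y, rfl⟩
    show y ^ (Nat.gcd a b) ∈ _
    have h1 : y ^ (Nat.gcd a b) = (y ^ (Nat.gcdA a b)) ^ a * (y ^ (Nat.gcdB a b)) ^ b := by
      rw [← zpow_natCast y (Nat.gcd a b), Nat.gcd_eq_gcd_ab, zpow_add, zpow_mul', zpow_mul',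
        zpow_natCast, zpow_natCast]
    rw [h1]
    exact Subgroup.mul_mem _ (Subgroup.mem_sup_left ⟨_, rfl⟩) (Subgroup.mem_sup_right ⟨_, rfl⟩)

variable [Finite G] [IsCyclic G]

theorem index_range_pow (d : ℕ) (hd : d ∣ Nat.card G) :
    (powMonoidHom d : G →* G).range.index = d := by
  rw [IsCyclic.index_powMonoidHom_range, Nat.gcd_eq_right hd]

theorem eq_range_pow_of_card (S : Subgroup G) (a : ℕ) (h : Nat.card G = a * Nat.card S) :
    S = (powMonoidHom a : G →* G).range := by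
  have hS : 0 < Nat.card S := Nat.card_pos
  have ha : 0 < a := by
    rcases Nat.eq_zero_or_pos a with h0 | h0
    · rw [h0, zero_mul] at h
      have : 0 < Nat.card G := Nat.card_pos
      omega
    · exact h0
  apply Subgroup.eq_of_le_of_card_ge
  · intro u hu
    obtain ⟨ζ, hζ⟩ := IsCyclic.exists_generator (α := G)
    obtain ⟨k, rfl⟩ := Subgroup.mem_zpowers_iff.1 (hζ u)
    have h1 : (ζ ^ k) ^ (Nat.card S) = 1 := by
      have h2 : (⟨ζ ^ k, hu⟩ : S) ^ Nat.card S = 1 := pow_card_eq_one'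
      have h3 := congrArg Subtype.val h2
      rw [Subgroup.coe_pow] at h3
      exact h3
    rw [← zpow_natCast, ← zpow_mul] at h1
    have h2 : (orderOf ζ : ℤ) ∣ k * (Nat.card S : ℤ) := orderOf_dvd_iff_zpow_eq_one.2 h1
    rw [orderOf_eq_card_of_forall_mem_zpowers hζ, h] at h2
    have h3 : (a : ℤ) ∣ k := by
      have hS' : ((Nat.card S : ℕ) : ℤ) ≠ 0 := by exact_mod_cast hS.ne'
      rw [Nat.cast_mul] at h2
      exact Int.dvd_of_mul_dvd_mul_right hS' h2
    obtain ⟨c, rfl⟩ := h3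
    refine ⟨ζ ^ c, ?_⟩
    show (ζ ^ c) ^ a = _
    rw [← zpow_natCast, ← zpow_mul, mul_comm]
  · rw [IsCyclic.card_powMonoidHom_range, h, Nat.gcd_eq_right (Dvd.intro _ rfl),
      Nat.mul_div_cancel_left _ ha]

end cyclic

end Cfsg.Agent.Lib.Helper18.PSLnFld
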