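import Mathlib
import Cfsg.Agent.Lib.Helper18.PSLnFldD
import Cfsg.Agent.Lib.Helper18.PSLnFldE

/-!
The centralizer of a field automorphism of `PSL_n(F)` in the inner-diagonal group and the splitting
of its class (helper18).
-/

set_option autoImplicit false

namespace Cfsg.Agent.Lib.Helper18.PSLnFld

open Matrix Cfsg Cfsg.Agent.Lib.Helper18.PSLnAut

section fixed

variable {F : Type*} [Field F]

theorem finite_ringAut [Finite F] : Finite (RingAut F) :=
  Finite.of_injective (fun e : F ≃+* F => (e : F → F)) DFunLike.coe_injective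

theorem mem_fixed_iff (σ : RingAut F) (a : F) :
    a ∈ FixedPoints.subfield (Subgroup.zpowers σ) F ↔ σ a = a := by
  constructor
  · intro h
    exact h ⟨σ, Subgroup.mem_zpowers σ⟩
  · intro h g
    obtain ⟨g, hg⟩ := g
    obtain ⟨k, rfl⟩ := Subgroup.mem_zpowers_iff.1 hg
    show (σ ^ k) a = a
    have hnat : ∀ m : ℕ, (σ ^ m) a = a := by
      intro m
      induction m with
      | zero => rfl
      | succ m ih =>
        rw [pow_succ]
        show (σ ^ m) (σ a) = a
        rw [h, ih]
    have hinv : ∀ m : ℕ, (σ ^ m)⁻¹ a = a := by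
      intro m
      have h1 := hnat m
      have h2 : (σ ^ m)⁻¹ ((σ ^ m) a) = a := by
        show ((σ ^ m)⁻¹ * (σ ^ m)) a = a
        rw [inv_mul_cancel]
        rfl
      rw [h1] at h2
      exact h2
    cases k with
    | ofNat m => exact hnat m
    | negSucc m =>
      rw [zpow_negSucc]
      exact hinv (m + 1)

/-- the fixed field of an automorphism of order `r` of the field with `p ^ f` elements -/
theorem exists_fixed_embedding [Fintype F] {p f : ℕ} [Fact p.Prime] (hF : Fintype.card F = p ^ f)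
    (σ : RingAut F) (r : ℕ) (hσ : orderOf σ = r) (hr : 0 < r)
    (F₀ : Type*) [Field F₀] [Fintype F₀] (hF₀ : Fintype.card F₀ = p ^ (f / r)) :
    r ∣ f ∧ ∃ ι : F₀ →+* F, ∀ a : F, σ a = a ↔ a ∈ Set.range ι := by
  classical
  have : CharP F p := charP_of_card_eq_prime_pow hF
  have : Finite (RingAut F) := finite_ringAut
  have : Fintype (Subgroup.zpowers σ) := Fintype.ofFinite _
  let K : Subfield F := FixedPoints.subfield (Subgroup.zpowers σ) F
  have h1 : Module.finrank K F = r := by
    rw [FixedPoints.finrank_eq_card, ← Nat.card_eq_fintype_card, Nat.card_zpowers, hσ]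
  have h2 : Nat.card F = Nat.card K ^ r := by
    rw [← h1]
    exact Module.natCard_eq_pow_finrank
  have : CharP K p := RingHom.charP K.subtype Subtype.val_injective p
  have : Fintype K := Fintype.ofFinite _
  obtain ⟨d, -, hd⟩ := FiniteField.card K p
  rw [Nat.card_eq_fintype_card, Nat.card_eq_fintype_card, hF, hd, ← pow_mul] at h2
  have h3 : f = d * r := Nat.pow_right_injective (Fact.out : p.Prime).two_le h2
  have hdvd : r ∣ f := ⟨d, by rw [h3, mul_comm]⟩
  refine ⟨hdvd, ?_⟩
  have h4 : f / r = d := by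
    rw [h3]
    exact Nat.mul_div_cancel _ hr
  have hcard : Fintype.card F₀ = Fintype.card K := by rw [hF₀, hd, h4]
  let e : F₀ ≃+* K := FiniteField.ringEquivOfCardEq hcard
  refine ⟨K.subtype.comp (e : F₀ →+* K), ?_⟩
  intro a
  rw [← mem_fixed_iff]
  constructor
  · intro ha
    refine ⟨e.symm ⟨a, ha⟩, ?_⟩
    show ((e (e.symm ⟨a, ha⟩) : K) : F) = a
    rw [RingEquiv.apply_symm_apply]
  · rintro ⟨b, rfl⟩
    exact (e b).2

end fixed

section cent

variable {n : ℕ} {F : Type*} [Field F] {F₀ : Type*} [Field F₀]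

/-- base change of invertible matrices -/
noncomputable def glMap (ι : F₀ →+* F) : GL (Fin n) F₀ →* GL (Fin n) F :=
  Matrix.GeneralLinearGroup.map ι

theorem glMap_coe (ι : F₀ →+* F) (g : GL (Fin n) F₀) :
    ((glMap ι g : GL (Fin n) F) : Matrix (Fin n) (Fin n) F) =
      (g : Matrix (Fin n) (Fin n) F₀).map ι := rfl

/-- the action of `GL_n` of a subfield on `PSL_n(F)` -/
noncomputable def PsiF (ι : F₀ →+* F) :
    GL (Fin n) F₀ →* MulAut (ProjectiveSpecialLinearGroup (Fin n) F) :=
  conjAHom.comp (glMap ι)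

theorem PsiF_apply (ι : F₀ →+* F) (g : GL (Fin n) F₀) :
    PsiF (n := n) ι g = conjAHom (glMap ι g) := rfl

theorem ker_PsiF (hn : 2 ≤ n) (ι : F₀ →+* F) :
    (PsiF (n := n) ι).ker = Subgroup.center (GL (Fin n) F₀) := by
  ext g
  rw [MonoidHom.mem_ker, PsiF_apply, ← MonoidHom.mem_ker, ker_conjAHom hn,
    Matrix.GeneralLinearGroup.mem_center_iff_val_mem_range_scalar,
    Matrix.GeneralLinearGroup.mem_center_iff_val_mem_range_scalar]
  constructor
  · rintro ⟨a, ha⟩
    rw [glMap_coe] at ha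
    have i0 : Fin n := ⟨0, by omega⟩
    refine ⟨(g : Matrix (Fin n) (Fin n) F₀) i0 i0, ?_⟩
    ext i j
    apply ι.injective
    have h1 := congrFun (congrFun ha i) j
    have h2 := congrFun (congrFun ha i0) i0
    rw [Matrix.map_apply] at h1 h2
    rw [← h1]
    rw [Matrix.scalar_apply, Matrix.diagonal_apply] at h2 ⊢
    rw [Matrix.scalar_apply, Matrix.diagonal_apply]
    rw [if_pos rfl] at h2
    by_cases hij : i = j
    · rw [if_pos hij, if_pos hij, h2]
    · rw [if_neg hij, if_neg hij, map_zero]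
  · rintro ⟨a, ha⟩
    refine ⟨ι a, ?_⟩
    rw [glMap_coe, ← ha]
    ext i j
    rw [Matrix.map_apply, Matrix.scalar_apply, Matrix.diagonal_apply, Matrix.scalar_apply,
      Matrix.diagonal_apply]
    by_cases hij : i = j
    · rw [if_pos hij, if_pos hij]
    · rw [if_neg hij, if_neg hij, map_zero]

theorem glF_glMap (σ : RingAut F) (ι : F₀ →+* F) (hι : ∀ b, σ (ι b) = ι b)
    (g : GL (Fin n) F₀) : glF σ (glMap ι g) = glMap ι g := by
  apply Units.ext
  ext i j
  exact hι _

theorem PsiF_mem_centralizer (σ : RingAut F) (ι : F₀ →+* F) (hι : ∀ b, σ (ι b) = ι b)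
    (g : GL (Fin n) F₀) :
    PsiF (n := n) ι g ∈ Subgroup.centralizer {fieldAHom (n := n) σ} := by
  rw [Subgroup.mem_centralizer_iff]
  intro y hy
  rw [Set.mem_singleton_iff] at hy
  subst hy
  rw [PsiF_apply, field_mul_conj, glF_glMap σ ι hι]

theorem iterate_entry (σ : RingAut F) (g : GL (Fin n) F) (lam : F)
    (h : ∀ a b, σ ((g : Matrix (Fin n) (Fin n) F) a b) =
      (g : Matrix (Fin n) (Fin n) F) a b * lam) (i : ℕ) (a b : Fin n) :
    (σ ^ i) ((g : Matrix (Fin n) (Fin n) F) a b) =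
      (g : Matrix (Fin n) (Fin n) F) a b * nrm σ lam i := by
  induction i with
  | zero => rw [nrm_zero, mul_one]; rfl
  | succ i ih =>
    rw [pow_succ']
    show σ ((σ ^ i) _) = _
    rw [ih, map_mul, h, nrm_succ]
    ring

theorem exists_entry_ne_zero (hn : 2 ≤ n) (g : GL (Fin n) F) :
    ∃ a b, (g : Matrix (Fin n) (Fin n) F) a b ≠ 0 := by
  by_contra hcon
  push Not at hcon
  have h0 : (g : Matrix (Fin n) (Fin n) F) = 0 := by
    ext a b
    exact hcon a b
  have h3 : IsUnit (g : Matrix (Fin n) (Fin n) F) := ⟨g, rfl⟩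
  rw [h0] at h3
  have : Nontrivial (Matrix (Fin n) (Fin n) F) := by
    have : Nonempty (Fin n) := ⟨⟨0, by omega⟩⟩
    infer_instance
  exact not_isUnit_zero h3

/-- **the centralizer of a standard field automorphism in the inner-diagonal group** -/
theorem range_PsiF (hn : 2 ≤ n) (σ : RingAut F) (r : ℕ) (hσ : orderOf σ = r) (hr : 0 < r)
    (ι : F₀ →+* F) (hι : ∀ a : F, σ a = a ↔ a ∈ Set.range ι) :
    (PsiF (n := n) ι).range =
      (conjAHom (n := n) (F := F)).range ⊓ Subgroup.centralizer {fieldAHom (n := n) σ} := by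
  have hι' : ∀ b, σ (ι b) = ι b := fun b => (hι _).2 ⟨b, rfl⟩
  apply le_antisymm
  · rintro _ ⟨g, rfl⟩
    exact ⟨⟨_, rfl⟩, PsiF_mem_centralizer σ ι hι' g⟩
  · rintro d ⟨⟨g, rfl⟩, hc⟩
    have hc : conjAHom g ∈ Subgroup.centralizer {fieldAHom (n := n) σ} := hc
    rw [Subgroup.mem_centralizer_iff] at hc
    have h1 := hc _ rfl
    rw [field_mul_conj] at h1
    have h2 : conjAHom (glF σ g) = conjAHom g := mul_right_cancel h1
    have h3 : g⁻¹ * glF σ g ∈ Subgroup.center (GL (Fin n) F) := by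
      rw [← ker_conjAHom hn, MonoidHom.mem_ker, map_mul, map_inv, h2, inv_mul_cancel]
    obtain ⟨lam, hlam⟩ := Matrix.GeneralLinearGroup.mem_center_iff_val_mem_range_scalar.1 h3
    have hent : ∀ a b, σ ((g : Matrix (Fin n) (Fin n) F) a b) =
        (g : Matrix (Fin n) (Fin n) F) a b * lam := by
      intro a b
      have h4 : (glF σ g : Matrix (Fin n) (Fin n) F) =
          (g : Matrix (Fin n) (Fin n) F) * ((g⁻¹ * glF σ g : GL (Fin n) F) :
            Matrix (Fin n) (Fin n) F) := by
        rw [← Units.val_mul, mul_inv_cancel_left]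
      rw [← hlam] at h4
      have h5 := congrFun (congrFun h4 a) b
      rw [glF_coe, Matrix.map_apply] at h5
      rw [h5, Matrix.scalar_apply, Matrix.mul_diagonal]
    obtain ⟨a, b, hab⟩ := exists_entry_ne_zero hn g
    have hnrm : nrm σ lam r = 1 := by
      have h6 := iterate_entry σ g lam hent r a b
      rw [← hσ, pow_orderOf_eq_one, hσ] at h6
      have h7 : (g : Matrix (Fin n) (Fin n) F) a b * 1 =
          (g : Matrix (Fin n) (Fin n) F) a b * nrm σ lam r := by
        rw [mul_one]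
        exact h6
      exact (mul_left_cancel₀ hab h7).symm
    obtain ⟨ν, hν0, hν⟩ := exists_fixed_of_nrm_eq_one σ r hσ hr lam hnrm
    -- the entries of `ν g` are fixed
    have hfix : ∀ a b, σ (ν * (g : Matrix (Fin n) (Fin n) F) a b) =
        ν * (g : Matrix (Fin n) (Fin n) F) a b := by
      intro a b
      rw [map_mul, hent]
      calc σ ν * ((g : Matrix (Fin n) (Fin n) F) a b * lam)
          = (lam * σ ν) * (g : Matrix (Fin n) (Fin n) F) a b := by ring
        _ = _ := by rw [hν]
    choose g₀ hg₀ using fun a b => (hι _).1 (hfix a b)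
    have hmap : (Matrix.of g₀ : Matrix (Fin n) (Fin n) F₀).map ι =
        ν • (g : Matrix (Fin n) (Fin n) F) := by
      ext a b
      rw [Matrix.map_apply, Matrix.of_apply, hg₀, Matrix.smul_apply, smul_eq_mul]
    have hdet : (Matrix.of g₀ : Matrix (Fin n) (Fin n) F₀).det ≠ 0 := by
      intro h0
      have h8 : ((Matrix.of g₀ : Matrix (Fin n) (Fin n) F₀).map ι).det = 0 := by
        have := (RingHom.map_det ι (Matrix.of g₀ : Matrix (Fin n) (Fin n) F₀)).symm
        rw [RingHom.mapMatrix_apply] at this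
        rw [this, h0, map_zero]
      rw [hmap, Matrix.det_smul] at h8
      have h9 : (g : Matrix (Fin n) (Fin n) F).det ≠ 0 := by
        have : IsUnit (g : Matrix (Fin n) (Fin n) F).det :=
          (Matrix.isUnit_iff_isUnit_det _).1 ⟨g, rfl⟩
        exact this.ne_zero
      exact (mul_ne_zero (pow_ne_zero _ hν0) h9) h8
    refine ⟨Matrix.GeneralLinearGroup.mkOfDetNeZero (Matrix.of g₀) hdet, ?_⟩
    rw [PsiF_apply]
    let z : GL (Fin n) F := Matrix.GeneralLinearGroup.scalar (Fin n) (Units.mk0 ν hν0)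
    have hz : z ∈ (conjAHom (n := n) (F := F)).ker := by
      rw [ker_conjAHom hn, Matrix.GeneralLinearGroup.center_eq_range_scalar]
      exact ⟨_, rfl⟩
    have hgz : glMap ι (Matrix.GeneralLinearGroup.mkOfDetNeZero (Matrix.of g₀) hdet) = z * g := by
      apply Units.ext
      rw [glMap_coe]
      show (Matrix.of g₀ : Matrix (Fin n) (Fin n) F₀).map ι = Matrix.scalar (Fin n) ν * _
      rw [hmap, Matrix.scalar_apply, ← Matrix.smul_eq_diagonal_mul]
    rw [hgz, map_mul, MonoidHom.mem_ker.1 hz, one_mul]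

/-- the centralizer is a projective general linear group over the fixed field -/
theorem nonempty_centralizer_equiv (hn : 2 ≤ n) (σ : RingAut F) (r : ℕ) (hσ : orderOf σ = r)
    (hr : 0 < r) (ι : F₀ →+* F) (hι : ∀ a : F, σ a = a ↔ a ∈ Set.range ι) :
    Nonempty (↥((conjAHom (n := n) (F := F)).range ⊓
      Subgroup.centralizer {fieldAHom (n := n) σ}) ≃* Matrix.ProjGenLinGroup (Fin n) F₀) := by
  rw [← range_PsiF hn σ r hσ hr ι hι]
  have e1 := QuotientGroup.quotientKerEquivRange (PsiF (n := n) ι)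
  have e2 : GL (Fin n) F₀ ⧸ (PsiF (n := n) ι).ker ≃* GL (Fin n) F₀ ⧸ Subgroup.center _ :=
    QuotientGroup.quotientMulEquivOfEq (ker_PsiF hn ι)
  exact ⟨e1.symm.trans e2⟩

end cent

section count

variable {n : ℕ} {F : Type*} [Field F] {F₀ : Type*} [Field F₀]

theorem inn_le_range : Cfsg.Inn (ProjectiveSpecialLinearGroup (Fin n) F) ≤
    (conjAHom (n := n) (F := F)).range := by
  rintro _ ⟨t, rfl⟩
  obtain ⟨s, rfl⟩ := pi_surjective t
  exact ⟨_, (conj_pi_eq_conjA s).symm⟩

theorem det_surjective (hn : 2 ≤ n) :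
    Function.Surjective (Matrix.GeneralLinearGroup.det : GL (Fin n) F →* Fˣ) := by
  intro a
  exact ⟨dgHom ⟨0, by omega⟩ a, det_dgHom' _ a⟩

/-- the index of the subgroup of `Aut(PSL_n)` induced by the matrices with determinant in a
subgroup containing the `n`-th powers -/
theorem relIndex_map_comap_det (hn : 2 ≤ n) (S : Subgroup Fˣ)
    (hS : (powMonoidHom n : Fˣ →* Fˣ).range ≤ S) :
    ((S.comap (Matrix.GeneralLinearGroup.det : GL (Fin n) F →* Fˣ)).map conjAHom).relIndex
      (conjAHom (n := n) (F := F)).range = S.index := by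
  rw [← Subgroup.index_comap, Subgroup.comap_map_eq]
  have hker : (conjAHom (n := n) (F := F)).ker ≤
      S.comap (Matrix.GeneralLinearGroup.det : GL (Fin n) F →* Fˣ) := by
    intro g hg
    rw [ker_conjAHom hn, Matrix.GeneralLinearGroup.center_eq_range_scalar] at hg
    obtain ⟨a, rfl⟩ := hg
    rw [Subgroup.mem_comap, Matrix.GeneralLinearGroup.det_scalar, Fintype.card_fin]
    exact hS ⟨a, rfl⟩
  rw [sup_eq_left.2 hker]
  exact Subgroup.index_comap_of_surjective _ (det_surjective hn)

/-- the class of a standard field automorphism: description of the stabiliser of its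
`PSL_n`-class -/
theorem mem_map_comap_det_iff (hn : 2 ≤ n) (σ : RingAut F) (r : ℕ) (hσ : orderOf σ = r)
    (hr : 0 < r) (ι : F₀ →+* F) (hι : ∀ a : F, σ a = a ↔ a ∈ Set.range ι)
    (m : MulAut (ProjectiveSpecialLinearGroup (Fin n) F)) :
    m ∈ (((powMonoidHom n : Fˣ →* Fˣ).range ⊔ (Units.map (ι : F₀ →* F)).range).comap
      (Matrix.GeneralLinearGroup.det : GL (Fin n) F →* Fˣ)).map conjAHom ↔
    ∃ k ∈ Cfsg.Inn (ProjectiveSpecialLinearGroup (Fin n) F),
      ∃ c ∈ (conjAHom (n := n) (F := F)).range ⊓ Subgroup.centralizer {fieldAHom (n := n) σ},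
        m = k * c := by
  rw [← range_PsiF hn σ r hσ hr ι hι]
  constructor
  · rintro ⟨g, hg, rfl⟩
    rw [SetLike.mem_coe, Subgroup.mem_comap] at hg
    obtain ⟨y, ⟨lam, rfl⟩, z, ⟨μ₀, rfl⟩, hyz⟩ := Subgroup.mem_sup.1 hg
    let i0 : Fin n := ⟨0, by omega⟩
    let zl : GL (Fin n) F := Matrix.GeneralLinearGroup.scalar (Fin n) lam
    let g₁ : GL (Fin n) F := glMap ι (dgHom i0 μ₀)
    have hdet : Matrix.GeneralLinearGroup.det (g * (zl * g₁)⁻¹) = 1 := by
      rw [map_mul, map_inv, map_mul, Matrix.GeneralLinearGroup.det_scalar, Fintype.card_fin]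
      have : Matrix.GeneralLinearGroup.det g₁ = Units.map (ι : F₀ →* F) μ₀ := by
        show Matrix.GeneralLinearGroup.det (Matrix.GeneralLinearGroup.map ι (dgHom i0 μ₀)) = _
        rw [Matrix.GeneralLinearGroup.map_det, det_dgHom']
      rw [this, ← hyz]
      exact mul_inv_cancel _
    obtain ⟨s, hs⟩ := exists_toGL_eq _ hdet
    have hg' : g = Matrix.SpecialLinearGroup.toGL s * (zl * g₁) := by
      rw [hs, inv_mul_cancel_right]
    have hz : zl ∈ (conjAHom (n := n) (F := F)).ker := by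
      rw [ker_conjAHom hn, Matrix.GeneralLinearGroup.center_eq_range_scalar]
      exact ⟨_, rfl⟩
    refine ⟨MulAut.conj (pi s), ⟨_, rfl⟩, PsiF ι (dgHom i0 μ₀), ⟨_, rfl⟩, ?_⟩
    rw [hg', map_mul, map_mul, MonoidHom.mem_ker.1 hz, one_mul, conj_pi_eq_conjA]
    rfl
  · rintro ⟨k, ⟨t, rfl⟩, c, ⟨g₀, rfl⟩, rfl⟩
    obtain ⟨s, rfl⟩ := pi_surjective t
    refine ⟨Matrix.SpecialLinearGroup.toGL s * glMap ι g₀, ?_, ?_⟩
    · rw [SetLike.mem_coe, Subgroup.mem_comap, map_mul, det_toGL, one_mul]
      apply Subgroup.mem_sup_right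
      refine ⟨Matrix.GeneralLinearGroup.det g₀, ?_⟩
      show _ = Matrix.GeneralLinearGroup.det (Matrix.GeneralLinearGroup.map ι g₀)
      rw [Matrix.GeneralLinearGroup.map_det]
    · rw [map_mul, conj_pi_eq_conjA]
      rfl

variable [Fintype F] [Fintype F₀]

/-- the index of the subgroup generated by the `n`-th powers and the units of a subfield -/
theorem index_pow_sup_units (ι : F₀ →+* F) :
    ((powMonoidHom n : Fˣ →* Fˣ).range ⊔ (Units.map (ι : F₀ →* F)).range).index =
      Nat.gcd n ((Fintype.card F - 1) / (Fintype.card F₀ - 1)) := by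
  have hinj : Function.Injective (Units.map (ι : F₀ →* F)) :=
    Units.map_injective ι.injective
  have h1 : Nat.card (Units.map (ι : F₀ →* F)).range = Fintype.card F₀ - 1 := by
    rw [MonoidHom.range_eq_map, Subgroup.card_map_of_injective hinj, Subgroup.card_top,
      Nat.card_units, Nat.card_eq_fintype_card]
  have h2 : Nat.card Fˣ = Fintype.card F - 1 := by
    rw [Nat.card_units, Nat.card_eq_fintype_card]
  have hdvd : Fintype.card F₀ - 1 ∣ Fintype.card F - 1 := by
    rw [← h1, ← h2]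
    exact Subgroup.card_subgroup_dvd_card _
  have h3 : Nat.card Fˣ = (Fintype.card F - 1) / (Fintype.card F₀ - 1) *
      Nat.card (Units.map (ι : F₀ →* F)).range := by
    rw [h1, h2, Nat.div_mul_cancel hdvd]
  rw [eq_range_pow_of_card _ _ h3, range_pow_sup]
  apply index_range_pow
  rw [h2]
  exact (Nat.gcd_dvd_right _ _).trans (Nat.div_dvd_of_dvd hdvd)

/-- **the class of a standard field automorphism under the inner-diagonal group splits into
`gcd(n, (q - 1)/(q₀ - 1))` classes under `PSL_n`** -/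
theorem splitClassCount_field (hn : 2 ≤ n) (σ : RingAut F) (r : ℕ) (hσ : orderOf σ = r)
    (hr : 0 < r) (ι : F₀ →+* F) (hι : ∀ a : F, σ a = a ↔ a ∈ Set.range ι) :
    Cfsg.splitClassCount (conjAHom (n := n) (F := F)).range
      (Cfsg.Inn (ProjectiveSpecialLinearGroup (Fin n) F)) (fieldAHom (n := n) σ) =
      Nat.gcd n ((Fintype.card F - 1) / (Fintype.card F₀ - 1)) := by
  rw [splitClassCount_eq _ _ inn_le_range
    (fun h _ k hk => (Cfsg.innNormal _).conj_mem k hk h) _ _
    (mem_map_comap_det_iff hn σ r hσ hr ι hι),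
    relIndex_map_comap_det hn _ le_sup_left, index_pow_sup_units]

end count

/-- transport of the centralizer along a conjugation -/
theorem nonempty_centralizer_conj {X : Type*} [Group X] (D : Subgroup X) [D.Normal] (α x : X) :
    Nonempty (↥(D ⊓ Subgroup.centralizer {x}) ≃* ↥(D ⊓ Subgroup.centralizer {α * x * α⁻¹})) := by
  refine ⟨{ toFun := fun s => ⟨α * s.1 * α⁻¹, ?_, ?_⟩
            invFun := fun t => ⟨α⁻¹ * t.1 * α, ?_, ?_⟩
            left_inv := fun s => Subtype.ext (by show α⁻¹ * (α * s.1 * α⁻¹) * α = s.1; group)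
            right_inv := fun t => Subtype.ext (by show α * (α⁻¹ * t.1 * α) * α⁻¹ = t.1; group)
            map_mul' := fun s t => Subtype.ext (by
              show α * (s.1 * t.1) * α⁻¹ = α * s.1 * α⁻¹ * (α * t.1 * α⁻¹); group) }⟩
  · exact Subgroup.Normal.conj_mem inferInstance _ s.2.1 α
  · have hs : s.1 ∈ Subgroup.centralizer {x} := s.2.2
    show _ ∈ Subgroup.centralizer {α * x * α⁻¹}
    rw [Subgroup.mem_centralizer_iff] at hs ⊢
    intro y hy
    rw [Set.mem_singleton_iff] at hy
    subst hy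
    have := hs x rfl
    calc α * x * α⁻¹ * (α * s.1 * α⁻¹) = α * (x * s.1) * α⁻¹ := by group
      _ = α * (s.1 * x) * α⁻¹ := by rw [this]
      _ = _ := by group
  · have := Subgroup.Normal.conj_mem (inferInstance : D.Normal) _ t.2.1 α⁻¹
    rwa [inv_inv] at this
  · have ht : t.1 ∈ Subgroup.centralizer {α * x * α⁻¹} := t.2.2
    show _ ∈ Subgroup.centralizer {x}
    rw [Subgroup.mem_centralizer_iff] at ht ⊢
    intro y hy
    rw [Set.mem_singleton_iff] at hy
    subst hy
    have := ht _ rfl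
    calc y * (α⁻¹ * t.1 * α) = α⁻¹ * (α * y * α⁻¹ * t.1) * α := by group
      _ = α⁻¹ * (t.1 * (α * y * α⁻¹)) * α := by rw [this]
      _ = _ := by group

end Cfsg.Agent.Lib.Helper18.PSLnFld
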