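import Mathlib
import Cfsg.Prelude.Def_Solvable
import Cfsg.Prelude.Def_KGroupFacts
import Cfsg.Agent.Lib.Helper12.Cores
import Cfsg.Agent.Lib.Helper18.PSLnFldF

set_option autoImplicit false

/-!
# Abstract group theory for local balance of field automorphisms
-/

namespace Cfsg.Agent.Lib.Helper18.OrthBal

section kernels

variable {G A₁ A₂ : Type*} [Group G] [Group A₁] [Group A₂]

theorem map_mem_map_of_ker_eq (f₁ : G →* A₁) (f₂ : G →* A₂) (hker : f₁.ker = f₂.ker)
    (S : Subgroup G) (g : G) (hg : f₁ g ∈ S.map f₁) : f₂ g ∈ S.map f₂ := by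
  obtain ⟨s, hs, hsg⟩ := hg
  refine ⟨s, hs, ?_⟩
  have h1 : s⁻¹ * g ∈ f₁.ker := by
    rw [MonoidHom.mem_ker, map_mul, map_inv, hsg, inv_mul_cancel]
  rw [hker, MonoidHom.mem_ker, map_mul, map_inv, inv_mul_eq_one] at h1
  exact h1

theorem map_mem_map_iff_of_ker_eq (f₁ : G →* A₁) (f₂ : G →* A₂) (hker : f₁.ker = f₂.ker)
    (S : Subgroup G) (g : G) : f₁ g ∈ S.map f₁ ↔ f₂ g ∈ S.map f₂ :=
  ⟨map_mem_map_of_ker_eq f₁ f₂ hker S g, map_mem_map_of_ker_eq f₂ f₁ hker.symm S g⟩

end kernels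

section conj

variable {K : Type*} [Group K]

theorem conj_conj (x : MulAut K) (k : K) : x * MulAut.conj k * x⁻¹ = MulAut.conj (x k) := by
  apply MulEquiv.ext
  intro y
  show x (k * x⁻¹ y * k⁻¹) = x k * y * (x k)⁻¹
  rw [map_mul, map_mul, map_inv]
  congr 2
  exact MulEquiv.apply_symm_apply x y

theorem conj_injective_of_center (hZ : Subgroup.center K = ⊥) :
    Function.Injective (MulAut.conj : K →* MulAut K) := by
  rw [injective_iff_map_eq_one]
  intro a ha
  have h1 : a ∈ Subgroup.center K := by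
    rw [Subgroup.mem_center_iff]
    intro g
    have h2 : MulAut.conj a g = g := by rw [ha]; rfl
    rw [MulAut.conj_apply] at h2
    calc g * a = (a * g * a⁻¹) * a := by rw [h2]
      _ = a * g := by group
  rw [hZ] at h1
  exact h1

/-- an automorphism commutes with an inner automorphism iff it fixes the element -/
theorem commute_conj_iff (hZ : Subgroup.center K = ⊥) (x : MulAut K) (k : K) :
    x * MulAut.conj k = MulAut.conj k * x ↔ x k = k := by
  have h1 : x * MulAut.conj k = MulAut.conj (x k) * x := by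
    rw [← conj_conj, inv_mul_cancel_right]
  rw [h1, mul_left_inj]
  exact (conj_injective_of_center hZ).eq_iff

/-- the inner automorphisms centralising `φ` correspond to the fixed points of `φ` -/
theorem card_inn_inf_centralizer (hZ : Subgroup.center K = ⊥) (φ : MulAut K) :
    Nat.card ↥(Cfsg.Inn K ⊓ Subgroup.centralizer {φ}) =
      Nat.card ↥(MonoidHom.eqLocus φ.toMonoidHom (MonoidHom.id K)) := by
  symm
  apply Nat.card_congr
  refine Equiv.ofBijective
    (fun k : ↥(MonoidHom.eqLocus φ.toMonoidHom (MonoidHom.id K)) =>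
      (⟨MulAut.conj k.1, ⟨k.1, rfl⟩, by
        show MulAut.conj k.1 ∈ Subgroup.centralizer {φ}
        rw [Subgroup.mem_centralizer_iff]
        intro y hy
        rw [Set.mem_singleton_iff] at hy
        subst hy
        rw [commute_conj_iff hZ]
        exact k.2⟩ : ↥(Cfsg.Inn K ⊓ Subgroup.centralizer {φ}))) ⟨?_, ?_⟩
  · intro a b hab
    apply Subtype.ext
    exact conj_injective_of_center hZ (congrArg Subtype.val hab)
  · rintro ⟨c, ⟨k, rfl⟩, hc⟩
    have hc' : MulAut.conj k ∈ Subgroup.centralizer {φ} := hc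
    rw [Subgroup.mem_centralizer_iff] at hc'
    have hc := hc'
    have h1 := hc φ (Set.mem_singleton φ)
    rw [commute_conj_iff hZ] at h1
    exact ⟨⟨k, h1⟩, rfl⟩

end conj

section balance

variable {Y : Type*} [Group Y]

/-- a nontrivial normal `p'`-subgroup forces a nontrivial `p'`-core -/
theorem core_ne_bot (p : ℕ) (H C : Subgroup Y) (hCH : C ≤ H)
    (hCn : ∀ h ∈ H, ∀ c ∈ C, h * c * h⁻¹ ∈ C) (hcop : (Nat.card ↥C).Coprime p) (hC : C ≠ ⊥) :
    Cfsg.pPrimeCore p ↥H ≠ ⊥ := by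
  have hN : (C.subgroupOf H).Normal := by
    constructor
    intro n hn g
    rw [Subgroup.mem_subgroupOf] at hn ⊢
    exact hCn g.1 g.2 n.1 hn
  have hcard : Nat.card ↥(C.subgroupOf H) = Nat.card ↥C :=
    Nat.card_congr (Subgroup.subgroupOfEquivOfLe hCH).toEquiv
  have hle := Cfsg.Agent.Lib.Helper12.le_pPrimeCore p (C.subgroupOf H) hN (by rw [hcard]; exact hcop)
  intro hbot
  rw [hbot, le_bot_iff, Subgroup.subgroupOf_eq_bot] at hle
  apply hC
  rw [eq_bot_iff]
  intro c hc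
  exact hle.le_bot ⟨hc, hCH hc⟩

/-- **abstract local balance**: the `p'`-core of `H` is trivial as soon as `H` has a normal
subgroup `C` containing a simple normal subgroup `L` of order divisible by `p` with
`C_C(L) = 1` and `C_H(L)` a `p`-group -/
theorem core_trivial [Finite Y] (p : ℕ) [Fact p.Prime] (H C L P : Subgroup Y) (hCH : C ≤ H)
    (hCn : ∀ h ∈ H, ∀ c ∈ C, h * c * h⁻¹ ∈ C) (hLC : L ≤ C)
    (hLn : ∀ c ∈ C, ∀ l ∈ L, c * l * c⁻¹ ∈ L) (hLs : IsSimpleGroup ↥L)
    (hpL : p ∣ Nat.card ↥L)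
    (hCL : ∀ c ∈ C, (∀ l ∈ L, c * l = l * c) → c = 1)
    (hcent : ∀ x ∈ H, (∀ l ∈ L, x * l = l * x) → x ∈ P) (hP : IsPGroup p ↥P) :
    Cfsg.pPrimeCore p ↥H = ⊥ := by
  have hchar := Cfsg.Agent.Lib.Helper12.pPrimeCore_characteristic (G := ↥H) p
  have hnorm : (Cfsg.pPrimeCore p ↥H).Normal := inferInstance
  have hcop := Cfsg.Agent.Lib.Helper12.pPrimeCore_coprime (X := ↥H) p
  set X : Subgroup Y := (Cfsg.pPrimeCore p ↥H).map H.subtype with hX
  have hXcard : Nat.card ↥X = Nat.card ↥(Cfsg.pPrimeCore p ↥H) :=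
    Subgroup.card_map_of_injective H.subtype_injective
  have hXH : X ≤ H := by
    rintro _ ⟨x, -, rfl⟩
    exact x.2
  have hXn : ∀ h ∈ H, ∀ x ∈ X, h * x * h⁻¹ ∈ X := by
    rintro h hh _ ⟨x, hx, rfl⟩
    exact ⟨⟨h, hh⟩ * x * ⟨h, hh⟩⁻¹, hnorm.conj_mem x hx ⟨h, hh⟩, rfl⟩
  -- `X ∩ L = 1`
  have hXL : ∀ y, y ∈ X → y ∈ L → y = 1 := by
    have hMn : ((X ⊓ L).subgroupOf L).Normal := by
      constructor
      intro n hn g
      rw [Subgroup.mem_subgroupOf] at hn ⊢
      refine ⟨hXn g.1 (hCH (hLC g.2)) n.1 hn.1, ?_⟩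
      exact L.mul_mem (L.mul_mem g.2 n.2) (L.inv_mem g.2)
    rcases hMn.eq_bot_or_eq_top with h | h
    · intro y hyX hyL
      rw [Subgroup.subgroupOf_eq_bot] at h
      exact h.le_bot ⟨⟨hyX, hyL⟩, hyL⟩
    · exfalso
      rw [Subgroup.subgroupOf_eq_top] at h
      have hLX : L ≤ X := fun l hl => (h hl).1
      have h1 : Nat.card ↥L ∣ Nat.card ↥X := Subgroup.card_dvd_of_le hLX
      have h2 : p ∣ Nat.card ↥X := dvd_trans hpL h1
      rw [hXcard] at h2
      have h3 := Nat.eq_one_of_dvd_coprimes hcop h2 (dvd_refl p)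
      exact (Fact.out : p.Prime).one_lt.ne' h3
  -- `X ∩ C = 1`
  have hXC : ∀ n, n ∈ X → n ∈ C → n = 1 := by
    intro n hnX hnC
    apply hCL n hnC
    intro l hl
    have h1 : n * l * n⁻¹ * l⁻¹ = 1 := by
      apply hXL
      · have h2 : l * n⁻¹ * l⁻¹ ∈ X := hXn l (hCH (hLC hl)) n⁻¹ (X.inv_mem hnX)
        have h3 : n * l * n⁻¹ * l⁻¹ = n * (l * n⁻¹ * l⁻¹) := by group
        rw [h3]
        exact X.mul_mem hnX h2
      · exact L.mul_mem (hLn n hnC l hl) (L.inv_mem hl)
    calc n * l = (n * l * n⁻¹ * l⁻¹) * (l * n) := by group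
      _ = l * n := by rw [h1, one_mul]
  -- `X` centralises `L`
  have hXP : X ≤ P := by
    intro x hx
    apply hcent x (hXH hx)
    intro l hl
    have h1 : x * l * x⁻¹ * l⁻¹ = 1 := by
      apply hXC
      · have h2 : l * x⁻¹ * l⁻¹ ∈ X := hXn l (hCH (hLC hl)) x⁻¹ (X.inv_mem hx)
        have h3 : x * l * x⁻¹ * l⁻¹ = x * (l * x⁻¹ * l⁻¹) := by group
        rw [h3]
        exact X.mul_mem hx h2
      · exact C.mul_mem (hCn x (hXH hx) l (hLC hl)) (C.inv_mem (hLC hl))
    calc x * l = (x * l * x⁻¹ * l⁻¹) * (l * x) := by group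
      _ = l * x := by rw [h1, one_mul]
  -- conclusion
  have hXp : IsPGroup p ↥X := hP.to_le hXP
  obtain ⟨n, hn⟩ := IsPGroup.iff_card.1 hXp
  have hn0 : n = 0 := by
    by_contra h0
    have h2 : p ∣ Nat.card ↥X := by
      rw [hn]
      exact dvd_pow_self p h0
    rw [hXcard] at h2
    have h3 := Nat.eq_one_of_dvd_coprimes hcop h2 (dvd_refl p)
    exact (Fact.out : p.Prime).one_lt.ne' h3
  rw [hn0, pow_zero, hXcard] at hn
  exact Subgroup.card_eq_one.1 hn

end balance

section galois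

variable {F : Type*} [Field F] [Finite F]

/-- a field automorphism fixing the fixed field of `σ` is a power of `σ` -/
theorem mem_zpowers_of_fix (σ τ : RingAut F) (h : ∀ x, σ x = x → τ x = x) :
    τ ∈ Subgroup.zpowers σ := by
  have : Finite (RingAut F) := Cfsg.Agent.Lib.Helper18.PSLnFld.finite_ringAut
  let τ' : F ≃ₐ[FixedPoints.subfield (Subgroup.zpowers σ) F] F :=
    { τ with
      commutes' := by
        intro k
        apply h
        exact (Cfsg.Agent.Lib.Helper18.PSLnFld.mem_fixed_iff σ k.1).1 k.2 }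
  obtain ⟨g, hg⟩ := FixedPoints.toAlgAut_surjective (Subgroup.zpowers σ) F τ'
  have h1 : g.1 = τ := by
    apply RingEquiv.ext
    intro x
    have := DFunLike.congr_fun hg x
    exact this
  rw [← h1]
  exact g.2

end galois

end Cfsg.Agent.Lib.Helper18.OrthBal
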