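import Mathlib
import Cfsg.Prelude.Def_LieTypeDatum

set_option autoImplicit false

/-!
# Abstract group lemmas: transport of centralizers and class counts along an isomorphism;
subgroups of the ranges of two homomorphisms with the same kernel
-/

namespace Cfsg.Agent.Lib.Helper18.OrthMin

section kernels

variable {G A₁ A₂ : Type*} [Group G] [Group A₁] [Group A₂]

/-- two homomorphisms with the same kernel: subgroups of the two ranges that correspond under
the homomorphisms are isomorphic -/
theorem nonempty_equiv_of_ker_eq (Θ₁ : G →* A₁) (Θ₂ : G →* A₂) (hker : Θ₁.ker = Θ₂.ker)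
    (N₁ : Subgroup A₁) (N₂ : Subgroup A₂) (h₁ : N₁ ≤ Θ₁.range) (h₂ : N₂ ≤ Θ₂.range)
    (hiff : ∀ g, Θ₁ g ∈ N₁ ↔ Θ₂ g ∈ N₂) : Nonempty (↥N₁ ≃* ↥N₂) := by
  let P : Subgroup G := N₁.comap Θ₁
  let f₁ : ↥P →* ↥N₁ := (Θ₁.comp P.subtype).codRestrict N₁ (fun p => p.2)
  let f₂ : ↥P →* ↥N₂ := (Θ₂.comp P.subtype).codRestrict N₂ (fun p => (hiff p.1).1 p.2)
  have hf₁ : Function.Surjective f₁ := by
    rintro ⟨n, hn⟩
    obtain ⟨g, rfl⟩ := h₁ hn
    exact ⟨⟨g, hn⟩, rfl⟩
  have hf₂ : Function.Surjective f₂ := by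
    rintro ⟨n, hn⟩
    obtain ⟨g, rfl⟩ := h₂ hn
    exact ⟨⟨g, (hiff g).2 hn⟩, rfl⟩
  have hk : f₁.ker = f₂.ker := by
    ext p
    rw [MonoidHom.mem_ker, MonoidHom.mem_ker]
    have e1 : f₁ p = 1 ↔ Θ₁ p.1 = 1 := by
      constructor
      · intro h
        exact congrArg Subtype.val h
      · intro h
        exact Subtype.ext h
    have e2 : f₂ p = 1 ↔ Θ₂ p.1 = 1 := by
      constructor
      · intro h
        exact congrArg Subtype.val h
      · intro h
        exact Subtype.ext h
    rw [e1, e2, ← MonoidHom.mem_ker, ← MonoidHom.mem_ker, hker]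
  have e1 := QuotientGroup.quotientKerEquivOfSurjective f₁ hf₁
  have e2 := QuotientGroup.quotientKerEquivOfSurjective f₂ hf₂
  exact ⟨(e1.symm.trans (QuotientGroup.quotientMulEquivOfEq hk)).trans e2⟩

end kernels

section transport

variable {X Y : Type*} [Group X] [Group Y] (E : X ≃* Y)

theorem isConjUnder_map (H : Subgroup X) (H' : Subgroup Y) (hH : ∀ h, h ∈ H ↔ E h ∈ H')
    (x y : X) : Cfsg.IsConjUnder H x y ↔ Cfsg.IsConjUnder H' (E x) (E y) := by
  constructor
  · rintro ⟨h, hh, rfl⟩
    exact ⟨E h, (hH h).1 hh, by rw [map_mul, map_mul, map_inv]⟩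
  · rintro ⟨h', hh', hy⟩
    refine ⟨E.symm h', (hH _).2 (by rw [MulEquiv.apply_symm_apply]; exact hh'), ?_⟩
    apply E.injective
    rw [hy, map_mul, map_mul, map_inv, MulEquiv.apply_symm_apply]

/-- the class count is invariant under an isomorphism carrying the subgroups to each other -/
theorem splitClassCount_map (H K : Subgroup X) (H' K' : Subgroup Y)
    (hH : ∀ h, h ∈ H ↔ E h ∈ H') (hK : ∀ k, k ∈ K ↔ E k ∈ K') (x : X) :
    Cfsg.splitClassCount H' K' (E x) = Cfsg.splitClassCount H K x := by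
  unfold Cfsg.splitClassCount
  symm
  apply Nat.card_congr
  let e : {y : X // Cfsg.IsConjUnder H x y} ≃ {y : Y // Cfsg.IsConjUnder H' (E x) y} :=
    { toFun := fun y => ⟨E y.1, (isConjUnder_map E H H' hH x y.1).1 y.2⟩
      invFun := fun y => ⟨E.symm y.1, by
        rw [isConjUnder_map E H H' hH, MulEquiv.apply_symm_apply]
        exact y.2⟩
      left_inv := fun y => Subtype.ext (E.symm_apply_apply y.1)
      right_inv := fun y => Subtype.ext (E.apply_symm_apply y.1) }
  refine Quot.congr e ?_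
  intro y z
  exact isConjUnder_map E K K' hK y.1 z.1

/-- transport of the centralizer along an isomorphism -/
theorem nonempty_centralizer_map (D : Subgroup X) (D' : Subgroup Y)
    (hD : ∀ h, h ∈ D ↔ E h ∈ D') (x : X) :
    Nonempty (↥(D ⊓ Subgroup.centralizer {x}) ≃* ↥(D' ⊓ Subgroup.centralizer {E x})) := by
  have key : ∀ s : X, s ∈ D ⊓ Subgroup.centralizer {x} ↔
      E s ∈ D' ⊓ Subgroup.centralizer {E x} := by
    intro s
    rw [Subgroup.mem_inf, Subgroup.mem_inf, ← hD s, Subgroup.mem_centralizer_iff,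
      Subgroup.mem_centralizer_iff]
    constructor
    · rintro ⟨h1, h2⟩
      refine ⟨h1, ?_⟩
      intro y hy
      rw [Set.mem_singleton_iff] at hy
      subst hy
      rw [← map_mul, ← map_mul, h2 x rfl]
    · rintro ⟨h1, h2⟩
      refine ⟨h1, ?_⟩
      intro y hy
      rw [Set.mem_singleton_iff] at hy
      subst hy
      apply E.injective
      rw [map_mul, map_mul]
      exact h2 _ rfl
  exact ⟨{ toFun := fun s => ⟨E s.1, (key s.1).1 s.2⟩
           invFun := fun t => ⟨E.symm t.1, (key _).2 (by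
             rw [MulEquiv.apply_symm_apply]; exact t.2)⟩
           left_inv := fun s => Subtype.ext (E.symm_apply_apply s.1)
           right_inv := fun t => Subtype.ext (E.apply_symm_apply t.1)
           map_mul' := fun s t => Subtype.ext (map_mul E s.1 t.1) }⟩

end transport

end Cfsg.Agent.Lib.Helper18.OrthMin
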