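import Cfsg.Agent.Lib.Helper18.OrthBalB
import Cfsg.Agent.Lib.Helper18.OrthBalC
import Cfsg.Agent.Lib.Helper18.OrthMinF
import Cfsg.Agent.Lib.Helper25.POmegaSimple
import Cfsg.Agent.Lib.Helper25.AutOut2

set_option autoImplicit false

/-!
# Local balance for a standard field automorphism of `PΩ(Q)`: the subfield subgroup
-/

namespace Cfsg.Agent.Lib.Helper18.OrthBal

open Module QuadraticMap Matrix Cfsg.Agent.Lib.Helper25.PSim Cfsg.Agent.Lib.Helper25.Spin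
  Cfsg.Agent.Lib.Helper25.CD Cfsg.Agent.Lib.Helper18.OrthFld Cfsg.Agent.Lib.Helper25.GraphSplit
  Cfsg.Agent.Lib.Helper25.Siegel Cfsg.Agent.Lib.Helper25.MaxTS Cfsg.Agent.Lib.Helper25.Fam
  Cfsg.Agent.Lib.Helper25.PAut Cfsg.Agent.Lib.Helper25.AutOut Cfsg.Agent.Lib.Helper18.OrthMin

universe u v

section general

variable {ι : Type} [Fintype ι] [DecidableEq ι] {F : Type u} [Field F] (Q : (ι → F) → F)

theorem conjTHom_omega (s : ↥(Cfsg.Omega F Q)) :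
    conjTHom Q s.1 = MulAut.conj (QuotientGroup.mk s : Cfsg.POmega F Q) := by
  apply MulEquiv.ext
  intro x
  induction x using QuotientGroup.induction_on with
  | H y =>
    rw [conjTHom_apply, conjT_mk, MulAut.conj_apply]
    rfl

/-- an automorphism induced by `(c • 1, τ)` is induced by `(1, τ)` -/
theorem induced_of_scalar {g : GL ι F} {τ : F ≃+* F} {β : Cfsg.POmega F Q ≃* Cfsg.POmega F Q}
    (hind : Cfsg.IsInducedBySemilinearPOmega Q g τ β) (c : F)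
    (hg : ((g : GL ι F) : Matrix ι ι F) = c • (1 : Matrix ι ι F)) :
    Cfsg.IsInducedBySemilinearPOmega Q 1 τ β := by
  intro s s' hs
  apply hind
  have h1 : (g : Matrix ι ι F) * ((((s : ↥(Cfsg.isometryGroup F Q)) : GL ι F) : Matrix ι ι F)).map τ =
      ((((s : ↥(Cfsg.isometryGroup F Q)) : GL ι F) : Matrix ι ι F)).map τ * (g : Matrix ι ι F) := by
    rw [hg, Matrix.smul_mul, Matrix.one_mul, Matrix.mul_smul, Matrix.mul_one]
  rw [hs, Units.val_one, inv_one, Units.val_one, Matrix.one_mul, Matrix.mul_one, h1,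
    Matrix.mul_assoc, ← Units.val_mul, mul_inv_cancel, Units.val_one, Matrix.mul_one]

end general

section concrete

variable {κ : Type} [Fintype κ] [DecidableEq κ] {F₀ : Type v} {F : Type u} [Field F₀] [Field F]
  [Fintype F₀] [Fintype F] (e : F₀ →+* F)
  (Q₀ : QuadraticForm F₀ (κ → F₀)) (Q : QuadraticForm F (κ → F))
  (hc : Compat e (⇑Q₀) (⇑Q))

omit [Fintype F₀] [Fintype F] in
/-- a semisimilarity pair with scalar linear part gives the pair `(1, τ)` -/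
theorem pair_of_scalar {g : GL κ F} {τ : F ≃+* F} (h : Cfsg.IsSemisimilarityPair (⇑Q) g τ)
    (c : F) (hc0 : c ≠ 0) (hg : ((g : GL κ F) : Matrix κ κ F) = c • (1 : Matrix κ κ F)) :
    Cfsg.IsSemisimilarityPair (⇑Q) 1 τ := by
  obtain ⟨μ, hμ⟩ := h
  refine ⟨Units.mk0 ((μ : F) / (c * c)) (div_ne_zero μ.ne_zero (mul_ne_zero hc0 hc0)), fun v => ?_⟩
  have h1 := hμ v
  rw [hg, Matrix.smul_mulVec, Matrix.one_mulVec, QuadraticMap.map_smul, smul_eq_mul] at h1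
  rw [Units.val_one, Matrix.one_mulVec, Units.val_mk0, div_mul_eq_mul_div, ← h1,
    mul_div_assoc, mul_div_cancel₀ _ (mul_ne_zero hc0 hc0)]

/-- the subfield subgroup `PΩ(Q₀)`, inside `Aut(PΩ(Q))` -/
noncomputable def Lsub : Subgroup (MulAut (Cfsg.POmega F ⇑Q)) :=
  ((Cfsg.Omega F₀ ⇑Q₀).map (incl ⇑Q₀)).map (PsiF e Q₀ Q hc)

theorem PsiF_incl_omega (s₀ : ↥(Cfsg.Omega F₀ ⇑Q₀)) :
    PsiF e Q₀ Q hc (incl (⇑Q₀) s₀.1) =
      MulAut.conj (QuotientGroup.mk (omegaMap e Q₀ Q hc s₀) : Cfsg.POmega F ⇑Q) := by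
  rw [PsiF_apply, theta_simMap_incl, theta_incl, ← omegaMap_val, conjTHom_omega]

theorem mem_Lsub_iff (x : MulAut (Cfsg.POmega F ⇑Q)) :
    x ∈ Lsub e Q₀ Q hc ↔ ∃ s₀ : ↥(Cfsg.Omega F₀ ⇑Q₀),
      x = MulAut.conj (QuotientGroup.mk (omegaMap e Q₀ Q hc s₀) : Cfsg.POmega F ⇑Q) := by
  constructor
  · rintro ⟨_, ⟨s, hs, rfl⟩, rfl⟩
    exact ⟨⟨s, hs⟩, PsiF_incl_omega e Q₀ Q hc ⟨s, hs⟩⟩
  · rintro ⟨s₀, rfl⟩
    rw [← PsiF_incl_omega]
    exact ⟨_, ⟨s₀.1, s₀.2, rfl⟩, rfl⟩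

theorem Lsub_le_inn : Lsub e Q₀ Q hc ≤ Cfsg.Inn (Cfsg.POmega F ⇑Q) := by
  intro x hx
  obtain ⟨s₀, rfl⟩ := (mem_Lsub_iff e Q₀ Q hc x).1 hx
  exact ⟨_, rfl⟩

omit [Fintype F₀] [Fintype F] in
theorem Lsub_le_range : Lsub e Q₀ Q hc ≤ (PsiF e Q₀ Q hc).range := by
  rintro _ ⟨g, -, rfl⟩
  exact ⟨g, rfl⟩

omit [Fintype F₀] [Fintype F] in
/-- the subfield subgroup is normalised by the image of the similarity group of `Q₀` -/
theorem Lsub_normal (d : MulAut (Cfsg.POmega F ⇑Q)) (hd : d ∈ (PsiF e Q₀ Q hc).range)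
    (l : MulAut (Cfsg.POmega F ⇑Q)) (hl : l ∈ Lsub e Q₀ Q hc) :
    d * l * d⁻¹ ∈ Lsub e Q₀ Q hc := by
  obtain ⟨g₀, rfl⟩ := hd
  obtain ⟨_, ⟨s, hs, rfl⟩, rfl⟩ := hl
  refine ⟨g₀ * incl (⇑Q₀) s * g₀⁻¹, ?_, by rw [map_mul, map_mul, map_inv]⟩
  refine ⟨(MulAut.characteristic (Cfsg.Omega F₀ ⇑Q₀) (conjSub (⇑Q₀) g₀) ⟨s, hs⟩).1,
    (MulAut.characteristic (Cfsg.Omega F₀ ⇑Q₀) (conjSub (⇑Q₀) g₀) ⟨s, hs⟩).2, ?_⟩
  apply Subtype.ext
  rw [incl_val, char_val]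
  rfl

variable (hQ₀ : (polarBilin Q₀).Nondegenerate) (hQ : (polarBilin Q).Nondegenerate)
  (hn : 7 ≤ Fintype.card κ)

include hQ₀ hQ hn in
/-- the subfield subgroup is isomorphic to `PΩ(Q₀)` -/
theorem Lsub_equiv : Nonempty (↥(Lsub e Q₀ Q hc) ≃* Cfsg.POmega F₀ ⇑Q₀) := by
  have hker := ker_PsiF e Q₀ Q hc hQ₀ hQ hn
  obtain ⟨e1⟩ := nonempty_equiv_of_ker_eq (PsiF e Q₀ Q hc) (theta ⇑Q₀) hker
    (Lsub e Q₀ Q hc) (Cfsg.Inn (Cfsg.POmega F₀ ⇑Q₀)) (Lsub_le_range e Q₀ Q hc) (inn_le_range Q₀)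
    (fun g => by
      unfold Lsub
      rw [inn_eq']
      exact map_mem_map_iff_of_ker_eq _ _ hker _ g)
  have e2 : Cfsg.POmega F₀ ⇑Q₀ ≃* ↥(Cfsg.Inn (Cfsg.POmega F₀ ⇑Q₀)) :=
    MonoidHom.ofInjective (conj_injective_pomega Q₀ hQ₀ hn)
  exact ⟨e1.trans e2.symm⟩

include hQ₀ hQ hn in
theorem Lsub_simple : IsSimpleGroup ↥(Lsub e Q₀ Q hc) := by
  obtain ⟨e1⟩ := Lsub_equiv e Q₀ Q hc hQ₀ hQ hn
  have := Cfsg.Agent.Lib.Helper25.PS.pomega_simple Q₀ hQ₀ hn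
  exact e1.isSimpleGroup

include hQ₀ hQ hn in
theorem card_Lsub : Nat.card ↥(Lsub e Q₀ Q hc) = Nat.card (Cfsg.POmega F₀ ⇑Q₀) := by
  obtain ⟨e1⟩ := Lsub_equiv e Q₀ Q hc hQ₀ hQ hn
  exact Nat.card_congr e1.toEquiv

include hQ₀ hQ hn in
/-- the basic dichotomy-free statement: a pair automorphism commuting with the subfield subgroup
has scalar linear part and field automorphism fixing the subfield -/
theorem pair_of_comm {g : GL κ F} {τ : F ≃+* F} (h : Cfsg.IsSemisimilarityPair (⇑Q) g τ)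
    {x : MulAut (Cfsg.POmega F ⇑Q)} (hind : Cfsg.IsInducedBySemilinearPOmega (⇑Q) g τ x)
    (hx : ∀ l ∈ Lsub e Q₀ Q hc, x * l = l * x) :
    (∀ a : F₀, τ (e a) = e a) ∧
      ∃ c : F, c ≠ 0 ∧ ((g : GL κ F) : Matrix κ κ F) = c • (1 : Matrix κ κ F) :=
  pair_of_fix e Q₀ Q hc hQ₀ hn h hind
    (fun s₀ => (commute_conj_iff (center_pomega Q hQ hn) x _).1
      (hx _ ((mem_Lsub_iff e Q₀ Q hc _).2 ⟨s₀, rfl⟩)))

include hQ₀ hQ hn in
/-- an inner automorphism commuting with the subfield subgroup is trivial -/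
theorem inn_comm_Lsub (c : MulAut (Cfsg.POmega F ⇑Q)) (hcI : c ∈ Cfsg.Inn (Cfsg.POmega F ⇑Q))
    (hx : ∀ l ∈ Lsub e Q₀ Q hc, c * l = l * c) : c = 1 := by
  rw [inn_eq'] at hcI
  obtain ⟨_, ⟨s, -, rfl⟩, rfl⟩ := hcI
  obtain ⟨-, a, -, ha⟩ := pair_of_comm e Q₀ Q hc hQ₀ hQ hn (pair_of_sim (⇑Q) (incl (⇑Q) s).2)
    (theta_induced (⇑Q) (incl (⇑Q) s)) hx
  exact theta_eq_one_of_scalar_matrix Q _ a ha

variable {σ : RingAut F} (hfix : Qfix (⇑Q) σ) {φ : MulAut (Cfsg.POmega F ⇑Q)}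
  (hφ : Cfsg.IsFieldAutPOmegaOf (⇑Q) σ φ) (he : ∀ a : F, σ a = a ↔ a ∈ Set.range e)

include hQ₀ hQ hn hfix hφ he in
/-- **the centraliser of the subfield subgroup** in the group of automorphisms induced by
semisimilarities is generated by the field automorphism -/
theorem cent_Lsub (x : MulAut (Cfsg.POmega F ⇑Q)) (hpx : IsPairAut (⇑Q) x)
    (hx : ∀ l ∈ Lsub e Q₀ Q hc, x * l = l * x) : x ∈ Subgroup.zpowers φ := by
  obtain ⟨g, τ, hp, hind⟩ := hpx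
  obtain ⟨hτ, c, hc0, hg⟩ := pair_of_comm e Q₀ Q hc hQ₀ hQ hn hp hind hx
  have hτσ : (τ : RingAut F) ∈ Subgroup.zpowers σ := by
    apply mem_zpowers_of_fix σ τ
    intro y hy
    obtain ⟨b, rfl⟩ := (he y).1 hy
    exact hτ b
  have hfin : IsOfFinOrder σ := by
    have : Finite (RingAut F) := Cfsg.Agent.Lib.Helper18.PSLnFld.finite_ringAut
    exact isOfFinOrder_of_finite σ
  rw [← hfin.mem_powers_iff_mem_zpowers] at hτσ
  obtain ⟨k, hk⟩ := hτσ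
  have hk' : (σ ^ k : RingAut F) = τ := hk
  have h1 := induced_of_scalar (⇑Q) hind c hg
  have hp1 := pair_of_scalar Q hp c hc0 hg
  have h2 := pow_field_induced (⇑Q) hfix hφ k
  rw [hk'] at h2
  have h3 : x = φ ^ k := induced_unique (⇑Q) hp1 h1 h2
  rw [h3]
  exact Subgroup.pow_mem _ (Subgroup.mem_zpowers φ) k

end concrete

end Cfsg.Agent.Lib.Helper18.OrthBal
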