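import Cfsg.Agent.Lib.Helper18.OrthBalD

set_option autoImplicit false

/-!
# Local balance for a standard field automorphism of `PΩ(Q)`: the two directions
-/

namespace Cfsg.Agent.Lib.Helper18.OrthBal

open Module QuadraticMap Matrix Cfsg.Agent.Lib.Helper25.PSim Cfsg.Agent.Lib.Helper25.Spin
  Cfsg.Agent.Lib.Helper25.CD Cfsg.Agent.Lib.Helper18.OrthFld Cfsg.Agent.Lib.Helper25.GraphSplit
  Cfsg.Agent.Lib.Helper25.Siegel Cfsg.Agent.Lib.Helper25.MaxTS Cfsg.Agent.Lib.Helper25.Fam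
  Cfsg.Agent.Lib.Helper25.PAut Cfsg.Agent.Lib.Helper25.AutOut Cfsg.Agent.Lib.Helper18.OrthMin

universe u v

section std

variable {κ : Type} [Fintype κ] [DecidableEq κ] {F₀ : Type v} {F : Type u} [Field F₀] [Field F]
  [Fintype F₀] [Fintype F] (e : F₀ →+* F)
  (Q₀ : QuadraticForm F₀ (κ → F₀)) (Q : QuadraticForm F (κ → F))
  (hc : Compat e (⇑Q₀) (⇑Q))
  (hQ₀ : (polarBilin Q₀).Nondegenerate) (hQ : (polarBilin Q).Nondegenerate)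
  (hn : 7 ≤ Fintype.card κ)
  {σ : RingAut F} (hfix : Qfix (⇑Q) σ) {φ : MulAut (Cfsg.POmega F ⇑Q)}
  (hφ : Cfsg.IsFieldAutPOmegaOf (⇑Q) σ φ) (he : ∀ a : F, σ a = a ↔ a ∈ Set.range e)

include hfix hφ he in
theorem Lsub_le_C : Lsub e Q₀ Q hc ≤
    Cfsg.Inn (Cfsg.POmega F ⇑Q) ⊓ Subgroup.centralizer {φ} := by
  have he' : ∀ b, σ (e b) = e b := fun b => (he _).2 ⟨b, rfl⟩
  intro l hl
  refine ⟨Lsub_le_inn e Q₀ Q hc hl, ?_⟩
  obtain ⟨g, rfl⟩ := Lsub_le_range e Q₀ Q hc hl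
  exact PsiF_mem_centralizer e Q₀ Q hc hfix hφ he' g

omit [Fintype F₀] [Fintype F] in
theorem C_normal (A : Subgroup (MulAut (Cfsg.POmega F ⇑Q))) (h : MulAut (Cfsg.POmega F ⇑Q))
    (hh : h ∈ A ⊓ Subgroup.centralizer {φ}) (c : MulAut (Cfsg.POmega F ⇑Q))
    (hcC : c ∈ Cfsg.Inn (Cfsg.POmega F ⇑Q) ⊓ Subgroup.centralizer {φ}) :
    h * c * h⁻¹ ∈ Cfsg.Inn (Cfsg.POmega F ⇑Q) ⊓ Subgroup.centralizer {φ} :=
  ⟨(Cfsg.innNormal _).conj_mem c hcC.1 h,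
    Subgroup.mul_mem _ (Subgroup.mul_mem _ hh.2 hcC.2) (Subgroup.inv_mem _ hh.2)⟩

include hc hQ₀ hQ hn hfix hφ he in
/-- if `p` does not divide the number of fixed points, the `p'`-core of the centraliser is
nontrivial -/
theorem core_std_ne_bot (p : ℕ) (A : Subgroup (MulAut (Cfsg.POmega F ⇑Q)))
    (hinn : Cfsg.Inn (Cfsg.POmega F ⇑Q) ≤ A)
    (hcop : (Nat.card ↥(Cfsg.Inn (Cfsg.POmega F ⇑Q) ⊓ Subgroup.centralizer {φ})).Coprime p) :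
    Cfsg.pPrimeCore p ↥(A ⊓ Subgroup.centralizer {φ}) ≠ ⊥ := by
  apply core_ne_bot p (A ⊓ Subgroup.centralizer {φ})
    (Cfsg.Inn (Cfsg.POmega F ⇑Q) ⊓ Subgroup.centralizer {φ}) (inf_le_inf_right _ hinn)
    (fun h hh c hcC => C_normal Q A h hh c hcC) hcop
  intro hbot
  have hL : Lsub e Q₀ Q hc = ⊥ := by
    rw [eq_bot_iff, ← hbot]
    exact Lsub_le_C e Q₀ Q hc hfix hφ he
  have hs := Lsub_simple e Q₀ Q hc hQ₀ hQ hn
  have hnt : Nontrivial ↥(Lsub e Q₀ Q hc) := IsSimpleGroup.toNontrivial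
  rw [Subgroup.nontrivial_iff_ne_bot] at hnt
  exact hnt hL

include hc hQ₀ hQ hn hfix hφ he in
/-- if `p` divides the number of fixed points, the `p'`-core of the centraliser is trivial -/
theorem core_std_eq_bot (p : ℕ) [Fact p.Prime] (hσ : orderOf σ = p)
    (hAll : ∀ β : MulAut (Cfsg.POmega F ⇑Q), IsPairAut (⇑Q) β)
    (hidx : (Cfsg.Inn (Cfsg.POmega F₀ ⇑Q₀)).relIndex (theta ⇑Q₀).range = 2)
    (heven : Even (Nat.card (Cfsg.POmega F₀ ⇑Q₀)))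
    (A : Subgroup (MulAut (Cfsg.POmega F ⇑Q)))
    (hinn : Cfsg.Inn (Cfsg.POmega F ⇑Q) ≤ A)
    (hpdvd : p ∣ Nat.card ↥(Cfsg.Inn (Cfsg.POmega F ⇑Q) ⊓ Subgroup.centralizer {φ})) :
    Cfsg.pPrimeCore p ↥(A ⊓ Subgroup.centralizer {φ}) = ⊥ := by
  have hp : p.Prime := Fact.out
  have hLC := Lsub_le_C e Q₀ Q hc hfix hφ he
  have hCD : Cfsg.Inn (Cfsg.POmega F ⇑Q) ⊓ Subgroup.centralizer {φ} ≤
      (PsiF e Q₀ Q hc).range := by
    rw [range_PsiF e Q₀ Q hc hfix hφ hQ hn p hσ hp.pos he]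
    exact inf_le_inf_right _ (inn_le_range Q)
  have hker := ker_PsiF e Q₀ Q hc hQ₀ hQ hn
  -- the order of `L`
  have hpL : p ∣ Nat.card ↥(Lsub e Q₀ Q hc) := by
    obtain ⟨e1⟩ := nonempty_equiv_of_ker_eq (PsiF e Q₀ Q hc) (theta ⇑Q₀) hker
      (PsiF e Q₀ Q hc).range (theta ⇑Q₀).range le_rfl le_rfl
      (fun g => ⟨fun _ => ⟨g, rfl⟩, fun _ => ⟨g, rfl⟩⟩)
    have hD : Nat.card ↥(PsiF e Q₀ Q hc).range = Nat.card ↥(theta ⇑Q₀).range :=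
      Nat.card_congr e1.toEquiv
    have hθ : Nat.card ↥(theta ⇑Q₀).range =
        Nat.card ↥(Cfsg.Inn (Cfsg.POmega F₀ ⇑Q₀)) * 2 := by
      rw [card_of_relIndex (inn_le_range Q₀), hidx]
    have hI : Nat.card ↥(Cfsg.Inn (Cfsg.POmega F₀ ⇑Q₀)) = Nat.card (Cfsg.POmega F₀ ⇑Q₀) :=
      (Nat.card_congr (MonoidHom.ofInjective (conj_injective_pomega Q₀ hQ₀ hn)).toEquiv).symm
    have hL := card_Lsub e Q₀ Q hc hQ₀ hQ hn
    have h1 : p ∣ Nat.card ↥(PsiF e Q₀ Q hc).range :=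
      dvd_trans hpdvd (Subgroup.card_dvd_of_le hCD)
    rw [hD, hθ, hI, ← hL] at h1
    rcases hp.dvd_mul.1 h1 with h2 | h2
    · exact h2
    · have hp2 : p = 2 := (Nat.prime_dvd_prime_iff_eq hp Nat.prime_two).1 h2
      rw [hp2, hL]
      exact even_iff_two_dvd.1 heven
  have hoφ : orderOf φ = p := by
    rw [orderOf_field Q hQ hn hfix hφ, hσ]
  have hP : IsPGroup p ↥(Subgroup.zpowers φ) := by
    apply IsPGroup.of_card (n := 1)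
    rw [Nat.card_zpowers, hoφ, pow_one]
  exact core_trivial p (A ⊓ Subgroup.centralizer {φ})
    (Cfsg.Inn (Cfsg.POmega F ⇑Q) ⊓ Subgroup.centralizer {φ}) (Lsub e Q₀ Q hc)
    (Subgroup.zpowers φ) (inf_le_inf_right _ hinn)
    (fun h hh c hcC => C_normal Q A h hh c hcC) hLC
    (fun c hcC l hl => Lsub_normal e Q₀ Q hc c (hCD hcC) l hl)
    (Lsub_simple e Q₀ Q hc hQ₀ hQ hn) hpL
    (fun c hcC hx => inn_comm_Lsub e Q₀ Q hc hQ₀ hQ hn c hcC.1 hx)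
    (fun x _ hx => cent_Lsub e Q₀ Q hc hQ₀ hQ hn hfix hφ he x (hAll x) hx) hP

end std

end Cfsg.Agent.Lib.Helper18.OrthBal
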