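import Cfsg.Agent.Lib.Helper18.OrthBalE
import Cfsg.Agent.Lib.Helper25.AutOut1

set_option autoImplicit false

/-!
# Local balance for automorphisms of prime order of `Ω_{2m+1}(q)` outside `Inndiag`
-/

namespace Cfsg.Agent.Lib.Helper18.OrthBal

open Module QuadraticMap Matrix Cfsg.Agent.Lib.Helper25.PSim Cfsg.Agent.Lib.Helper25.Spin
  Cfsg.Agent.Lib.Helper25.CD Cfsg.Agent.Lib.Helper18.OrthFld Cfsg.Agent.Lib.Helper25.GraphSplit
  Cfsg.Agent.Lib.Helper25.Siegel Cfsg.Agent.Lib.Helper25.MaxTS Cfsg.Agent.Lib.Helper25.Fam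
  Cfsg.Agent.Lib.Helper25.PAut Cfsg.Agent.Lib.Helper25.AutOut Cfsg.Agent.Lib.Helper18.OrthMin

universe u v

section transport

variable {Y : Type*} [Group Y]

/-- conjugation by `d` carries the centraliser of `φ` in `d⁻¹ A d` to the centraliser of
`d φ d⁻¹` in `A` -/
def centralizerConjEquiv (A : Subgroup Y) (d φ : Y) :
    ↥(A.comap (MulAut.conj d).toMonoidHom ⊓ Subgroup.centralizer {φ}) ≃*
      ↥(A ⊓ Subgroup.centralizer {d * φ * d⁻¹}) where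
  toFun y := ⟨d * y.1 * d⁻¹, by
    refine ⟨y.2.1, ?_⟩
    show d * y.1 * d⁻¹ ∈ Subgroup.centralizer {d * φ * d⁻¹}
    rw [Subgroup.mem_centralizer_iff]
    intro z hz
    rw [Set.mem_singleton_iff] at hz
    subst hz
    have h1 := (Subgroup.mem_centralizer_iff.1 y.2.2) φ (Set.mem_singleton φ)
    calc d * φ * d⁻¹ * (d * y.1 * d⁻¹) = d * (φ * y.1) * d⁻¹ := by group
      _ = d * (y.1 * φ) * d⁻¹ := by rw [h1]
      _ = d * y.1 * d⁻¹ * (d * φ * d⁻¹) := by group⟩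
  invFun z := ⟨d⁻¹ * z.1 * d, by
    refine ⟨?_, ?_⟩
    · show d * (d⁻¹ * z.1 * d) * d⁻¹ ∈ A
      have : d * (d⁻¹ * z.1 * d) * d⁻¹ = z.1 := by group
      rw [this]
      exact z.2.1
    · show d⁻¹ * z.1 * d ∈ Subgroup.centralizer {φ}
      rw [Subgroup.mem_centralizer_iff]
      intro w hw
      rw [Set.mem_singleton_iff] at hw
      subst hw
      have h1 := (Subgroup.mem_centralizer_iff.1 z.2.2) (d * w * d⁻¹) (Set.mem_singleton _)
      calc w * (d⁻¹ * z.1 * d) = d⁻¹ * ((d * w * d⁻¹) * z.1) * d := by group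
        _ = d⁻¹ * (z.1 * (d * w * d⁻¹)) * d := by rw [h1]
        _ = d⁻¹ * z.1 * d * w := by group⟩
  left_inv y := by
    apply Subtype.ext
    show d⁻¹ * (d * y.1 * d⁻¹) * d = y.1
    group
  right_inv z := by
    apply Subtype.ext
    show d * (d⁻¹ * z.1 * d) * d⁻¹ = z.1
    group
  map_mul' y z := by
    apply Subtype.ext
    show d * (y.1 * z.1) * d⁻¹ = (d * y.1 * d⁻¹) * (d * z.1 * d⁻¹)
    group

theorem pPrimeCore_eq_bot_of_equiv {G G' : Type*} [Group G] [Group G'] (p : ℕ) (E : G ≃* G')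
    (h : Cfsg.pPrimeCore p G = ⊥) : Cfsg.pPrimeCore p G' = ⊥ := by
  rw [← Cfsg.Agent.Lib.Helper12.pPrimeCore_map_equiv p E, h, Subgroup.map_bot]

theorem pPrimeCore_eq_bot_iff_of_equiv {G G' : Type*} [Group G] [Group G'] (p : ℕ)
    (E : G ≃* G') : Cfsg.pPrimeCore p G = ⊥ ↔ Cfsg.pPrimeCore p G' = ⊥ :=
  ⟨pPrimeCore_eq_bot_of_equiv p E, pPrimeCore_eq_bot_of_equiv p E.symm⟩

end transport

section fixconj

variable {K : Type*} [Group K]

/-- the fixed points of conjugate automorphisms are in bijection -/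
theorem card_eqLocus_conj (d φ : MulAut K) :
    Nat.card ↥(MonoidHom.eqLocus (d * φ * d⁻¹).toMonoidHom (MonoidHom.id K)) =
      Nat.card ↥(MonoidHom.eqLocus φ.toMonoidHom (MonoidHom.id K)) := by
  apply Nat.card_congr
  refine
    { toFun := fun k => ⟨d⁻¹ k.1, ?_⟩
      invFun := fun k => ⟨d k.1, ?_⟩
      left_inv := fun k => Subtype.ext (MulAut.apply_inv_self _ d k.1)
      right_inv := fun k => Subtype.ext (MulAut.inv_apply_self _ d k.1) }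
  · have h1 : (d * φ * d⁻¹) k.1 = k.1 := k.2
    have h2 : d (φ (d⁻¹ k.1)) = k.1 := h1
    show φ (d⁻¹ k.1) = d⁻¹ k.1
    have h3 := congrArg (fun y => d⁻¹ y) h2
    simp only [MulAut.inv_apply_self] at h3
    exact h3
  · have h1 : φ k.1 = k.1 := k.2
    show d (φ (d⁻¹ (d k.1))) = d k.1
    rw [MulAut.inv_apply_self, h1]

end fixconj

section odd

variable {F : Type u} [Field F] [Fintype F] {m : ℕ}

/-- `odd_class_conj` in the language of `Qo` -/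
theorem odd_class_conj' (hodd : Odd (Fintype.card F)) (hm : 3 ≤ m) (h2 : (2 : F) ≠ 0)
    (hgam : Cfsg.gammaPOmega F (Cfsg.quadFormOdd m F) = ⊤)
    (x δ : MulAut (Cfsg.POmega F ⇑(Qo m F h2)))
    (hx : Cfsg.IsFieldAutClassPOmega (⇑(Qo m F h2)) x) (hx0 : 0 < orderOf x)
    (hδ : δ ∈ Cfsg.pgoAut F ⇑(Qo m F h2)) (hord : orderOf (δ * x) = orderOf x) :
    Cfsg.IsConjUnder (Cfsg.pgoAut F ⇑(Qo m F h2)) x (δ * x) :=
  odd_class_conj hodd hm hgam x δ hx hx0 hδ hord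

set_option maxHeartbeats 1600000 in
/-- **S2731** modulo the determination of the automorphism group and the parity of `|Ω_{2m+1}|`,
in the language of `Qo` -/
theorem odd_balance_aux (hodd : Odd (Fintype.card F)) (hm : 3 ≤ m) (h2 : (2 : F) ≠ 0)
    (hgam : Cfsg.gammaPOmega F (Cfsg.quadFormOdd m F) = ⊤)
    (heven : ∀ (F₀ : Type u) [Field F₀] [Fintype F₀] (h2₀ : (2 : F₀) ≠ 0),
      Even (Nat.card (Cfsg.POmega F₀ ⇑(Qo m F₀ h2₀))))
    (A : Subgroup (MulAut (Cfsg.POmega F ⇑(Qo m F h2))))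
    (hinn : ∀ k : Cfsg.POmega F ⇑(Qo m F h2), MulAut.conj k ∈ A)
    {p : ℕ} [Fact p.Prime] (x : MulAut (Cfsg.POmega F ⇑(Qo m F h2)))
    (hord : orderOf x = p) (hnot : ¬ Cfsg.IsSimilarityInducedAutPOmega (⇑(Qo m F h2)) x) :
    Cfsg.pPrimeCore p ↥(A ⊓ Subgroup.centralizer {x}) ≠ ⊥ ↔
      (Cfsg.IsFieldAutClassPOmega (⇑(Qo m F h2)) x ∧
        Nat.Coprime p (Nat.card ↥(MonoidHom.eqLocus x.toMonoidHom
          (MonoidHom.id (Cfsg.POmega F ⇑(Qo m F h2)))))) := by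
  have hp : p.Prime := Fact.out
  have hQ := Qo_nondeg (m := m) h2
  have hn : 7 ≤ Fintype.card (Unit ⊕ (Fin m ⊕ Fin m)) := by
    rw [card_odd_index]; omega
  have hgam' : Cfsg.gammaPOmega F ⇑(Qo m F h2) = ⊤ := hgam
  have hAll : ∀ β : MulAut (Cfsg.POmega F ⇑(Qo m F h2)), IsPairAut (⇑(Qo m F h2)) β := by
    intro β
    apply isPairAut_of_mem_gamma
    rw [hgam']
    trivial
  -- the field automorphism of `x`
  obtain ⟨τ, hτ⟩ : ∃ τ : RingAut F, fieldHom (Qo m F h2) hQ hn hAll x = τ := ⟨_, rfl⟩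
  have hτ1 : τ ≠ 1 := by
    intro h1
    rw [h1] at hτ
    have h3 : x ∈ (fieldHom (Qo m F h2) hQ hn hAll).ker := hτ
    rw [fieldHom_ker, pgoAut_eq] at h3
    obtain ⟨g, rfl⟩ := h3
    exact hnot ⟨g.1, g.2, (Cfsg.Agent.Lib.Helper25.PSim.induced_iff _ g.1 g.2 _).2 rfl⟩
  have hτp : orderOf τ = p := by
    have h1 : τ ^ p = 1 := by
      rw [← hτ, ← map_pow, ← hord, pow_orderOf_eq_one, map_one]
    rcases (Nat.dvd_prime hp).1 (orderOf_dvd_of_pow_eq_one h1) with h3 | h3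
    · exact absurd (orderOf_eq_one_iff.1 h3) hτ1
    · exact h3
  have hfix : Qfix (⇑(Qo m F h2)) τ := qfix_odd τ
  obtain ⟨φ, hφdef⟩ : ∃ φ : MulAut (Cfsg.POmega F ⇑(Qo m F h2)),
      φ = semiAut (⇑(Qo m F h2)) (pair_one (⇑(Qo m F h2)) hfix) := ⟨_, rfl⟩
  have hφind : Cfsg.IsInducedBySemilinearPOmega (⇑(Qo m F h2)) 1 τ φ := by
    rw [hφdef]
    exact semiAut_induced _ _
  have hφ : Cfsg.IsFieldAutPOmegaOf (⇑(Qo m F h2)) τ φ :=
    (fieldAut_iff_induced (⇑(Qo m F h2)) τ φ).2 hφind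
  have hΦφ : fieldHom (Qo m F h2) hQ hn hAll φ = τ :=
    fieldHom_eq (Qo m F h2) hQ hn hAll (pair_one (⇑(Qo m F h2)) hfix) hφind
  have hδ : x * φ⁻¹ ∈ Cfsg.pgoAut F ⇑(Qo m F h2) := by
    have h3 : x * φ⁻¹ ∈ (fieldHom (Qo m F h2) hQ hn hAll).ker := by
      rw [MonoidHom.mem_ker, map_mul, map_inv, hτ, hΦφ, mul_inv_cancel]
    rw [fieldHom_ker] at h3
    exact h3
  have hτrefl : (τ : F ≃+* F) ≠ RingEquiv.refl F := hτ1
  have hoφ : orderOf φ = p := by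
    rw [orderOf_field (Qo m F h2) hQ hn hfix hφ, hτp]
  have hclassφ : Cfsg.IsFieldAutClassPOmega (⇑(Qo m F h2)) φ :=
    ⟨1, φ, τ, hτrefl, hφ, by rw [one_mul, inv_one, mul_one]⟩
  have hxφ : x * φ⁻¹ * φ = x := inv_mul_cancel_right x φ
  obtain ⟨d, -, hdx⟩ := odd_class_conj' hodd hm h2 hgam φ (x * φ⁻¹) hclassφ
    (by rw [hoφ]; exact hp.pos) hδ (by rw [hxφ, hord, hoφ])
  rw [hxφ] at hdx
  subst hdx
  have hclass : Cfsg.IsFieldAutClassPOmega (⇑(Qo m F h2)) (d * φ * d⁻¹) :=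
    ⟨d⁻¹, φ, τ, hτrefl, hφ, by group⟩
  -- the subfield
  have : Finite (RingAut F) := Cfsg.Agent.Lib.Helper18.PSLnFld.finite_ringAut
  letI : Fintype ↥(Kf τ) := Fintype.ofFinite _
  have he : ∀ a : F, τ a = a ↔ a ∈ Set.range (Kf τ).subtype := by
    intro a
    rw [← Cfsg.Agent.Lib.Helper18.PSLnFld.mem_fixed_iff]
    constructor
    · intro h
      exact ⟨⟨a, h⟩, rfl⟩
    · rintro ⟨b, rfl⟩
      exact b.2
  have h2' : (2 : ↥(Kf τ)) ≠ 0 := by
    intro h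
    apply h2
    have := congrArg (Kf τ).subtype h
    rwa [map_ofNat, map_zero] at this
  have hQ₀ := Qo_nondeg (m := m) (F := ↥(Kf τ)) h2'
  have hc : Compat (Kf τ).subtype (⇑(Qo m ↥(Kf τ) h2')) (⇑(Qo m F h2)) := compat_odd _
  have hfin₀ : 2 ≤ finrank ↥(Kf τ) (Unit ⊕ (Fin m ⊕ Fin m) → ↥(Kf τ)) := by
    rw [Module.finrank_fintype_fun_eq_card]
    omega
  obtain ⟨u₁, hu₁⟩ := exists_rep (Qo m ↥(Kf τ) h2') hQ₀ hfin₀ 1
  have hidx := relIndex_inn_odd (Qo m ↥(Kf τ) h2') u₁ hu₁ h2' card_odd_index hQ₀ hn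
  have hev := heven ↥(Kf τ) h2'
  -- transport along conjugation by `d`
  have hinn'' : Cfsg.Inn (Cfsg.POmega F ⇑(Qo m F h2)) ≤ A.comap (MulAut.conj d).toMonoidHom := by
    rintro _ ⟨k, rfl⟩
    show d * MulAut.conj k * d⁻¹ ∈ A
    rw [conj_conj]
    exact hinn _
  have hcardfix : Nat.card ↥(MonoidHom.eqLocus (d * φ * d⁻¹).toMonoidHom
      (MonoidHom.id (Cfsg.POmega F ⇑(Qo m F h2)))) =
      Nat.card ↥(Cfsg.Inn (Cfsg.POmega F ⇑(Qo m F h2)) ⊓ Subgroup.centralizer {φ}) := by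
    rw [card_eqLocus_conj, card_inn_inf_centralizer (center_pomega (Qo m F h2) hQ hn)]
  have hiff := pPrimeCore_eq_bot_iff_of_equiv p (centralizerConjEquiv A d φ)
  refine ⟨fun hne => ⟨hclass, ?_⟩, fun hcop => ?_⟩
  · by_contra hncop
    have hdvd : p ∣ Nat.card ↥(Cfsg.Inn (Cfsg.POmega F ⇑(Qo m F h2)) ⊓
        Subgroup.centralizer {φ}) := by
      rw [← hcardfix]
      exact (Nat.Prime.dvd_iff_not_coprime hp).2 hncop
    apply hne
    rw [← hiff]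
    exact core_std_eq_bot (Kf τ).subtype (Qo m ↥(Kf τ) h2') (Qo m F h2) hc hQ₀ hQ hn hfix hφ he p
      hτp hAll hidx hev _ hinn'' hdvd
  · intro hbot
    rw [← hiff] at hbot
    refine core_std_ne_bot (Kf τ).subtype (Qo m ↥(Kf τ) h2') (Qo m F h2) hc hQ₀ hQ hn hfix hφ he p
      _ hinn'' ?_ hbot
    rw [← hcardfix]
    exact hcop.2.symm

/-- **S2731** modulo the determination of the automorphism group and the parity of `|Ω_{2m+1}|` -/
theorem odd_balance_main (hodd : Odd (Fintype.card F)) (hm : 3 ≤ m)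
    (hgam : Cfsg.gammaPOmega F (Cfsg.quadFormOdd m F) = ⊤)
    (heven : ∀ (F₀ : Type u) [Field F₀] [Fintype F₀], (2 : F₀) ≠ 0 →
      Even (Nat.card (Cfsg.POmega F₀ (Cfsg.quadFormOdd m F₀))))
    (A : Subgroup (MulAut (Cfsg.POmega F (Cfsg.quadFormOdd m F))))
    (hinn : ∀ k : Cfsg.POmega F (Cfsg.quadFormOdd m F), MulAut.conj k ∈ A)
    {p : ℕ} [Fact p.Prime] (x : MulAut (Cfsg.POmega F (Cfsg.quadFormOdd m F)))
    (hord : orderOf x = p) (hnot : ¬ Cfsg.IsInnerDiagonalAutPOmegaOdd m x) :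
    Cfsg.pPrimeCore p ↥(A ⊓ Subgroup.centralizer {x}) ≠ ⊥ ↔
      (Cfsg.IsFieldAutClassPOmega (Cfsg.quadFormOdd m F) x ∧
        Nat.Coprime p (Nat.card ↥(MonoidHom.eqLocus x.toMonoidHom
          (MonoidHom.id (Cfsg.POmega F (Cfsg.quadFormOdd m F)))))) :=
  odd_balance_aux hodd hm (Cfsg.Agent.Lib.Helper25.Spin.two_ne_zero_of_odd_card hodd) hgam
    (fun F₀ _ _ h2₀ => heven F₀ h2₀) A hinn x hord hnot

end odd

end Cfsg.Agent.Lib.Helper18.OrthBal
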