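import Mathlib
import Cfsg.Agent.Lib.Helper18.PSLnFldA
import Cfsg.Agent.Lib.Helper18.PSpAutD
import Cfsg.Agent.Lib.Helper15.SymIso

/-!
Hilbert 90 for matrices with a general index type; Lang-type descent for the conformal
symplectic group (helper18).
-/

set_option autoImplicit false
set_option linter.unusedSectionVars false

namespace Cfsg.Agent.Lib.Helper18.PSpAut

open Matrix Cfsg.Agent.Lib.Helper18.PSLnFld

section matrixK

variable {F : Type*} [Field F] {κ : Type*} [Fintype κ] [DecidableEq κ]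

theorem map_mulVecK (σ : RingAut F) (M : Matrix κ κ F) (v : κ → F) :
    (fun i => σ ((M.mulVec v) i)) = (M.map σ).mulVec (fun i => σ (v i)) := by
  funext i
  have := RingHom.map_mulVec ((σ : F ≃+* F) : F →+* F) M v i
  exact this

/-- **Hilbert 90 for `GL`**, normalised form, general index type -/
theorem exists_matrix_fixedK (σ : RingAut F) (r : ℕ) (hσ : orderOf σ = r) (hr : 0 < r)
    (A : ℕ → Matrix κ κ F) (hA0 : A 0 = 1)
    (hA : ∀ i, A (i + 1) = A 1 * (A i).map σ) (hAr : A r = 1) :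
    ∃ h : Matrix κ κ F, IsUnit h ∧ A 1 * h.map σ = h := by
  classical
  let T : (κ → F) → (κ → F) := fun v => (A 1).mulVec (fun i => σ (v i))
  have hT : ∀ (i : ℕ) (v : κ → F), T^[i] v = (A i).mulVec (fun k => (σ ^ i) (v k)) := by
    intro i v
    induction i with
    | zero =>
      rw [hA0, Matrix.one_mulVec]
      rfl
    | succ i ih =>
      rw [Function.iterate_succ_apply', ih]
      show (A 1).mulVec (fun k => σ (((A i).mulVec fun k => (σ ^ i) (v k)) k)) = _
      rw [map_mulVecK, Matrix.mulVec_mulVec, ← hA i]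
      congr 1
      funext k
      rw [pow_succ']
      rfl
  have hspan := span_fixed_eq_top (V := κ → F) σ r hσ hr T
    (fun u v => by
      show (A 1).mulVec (fun i => σ ((u + v) i)) = (A 1).mulVec _ + (A 1).mulVec _
      rw [← Matrix.mulVec_add]
      congr 1
      funext i
      simp)
    (fun c v => by
      show (A 1).mulVec (fun i => σ ((c • v) i)) = σ c • (A 1).mulVec _
      rw [← Matrix.mulVec_smul]
      congr 1
      funext i
      simp)
    (fun v => by
      rw [hT, hAr, Matrix.one_mulVec, ← hσ, pow_orderOf_eq_one]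
      rfl)
  obtain ⟨f, hfS, -, hfli⟩ := Submodule.exists_fun_fin_finrank_span_eq F {v : κ → F | T v = v}
  have hd : Module.finrank F (Submodule.span F {v : κ → F | T v = v}) = Fintype.card κ := by
    rw [hspan, finrank_top, Module.finrank_fintype_fun_eq_card]
  let e : κ ≃ Fin (Fintype.card κ) := Fintype.equivFin κ
  let f' : κ → (κ → F) := fun j => f (Fin.cast hd.symm (e j))
  have hf'li : LinearIndependent F f' :=
    hfli.comp _ ((Fin.cast_injective _).comp e.injective)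
  refine ⟨Matrix.of (fun i j => f' j i), ?_, ?_⟩
  · rw [← Matrix.linearIndependent_cols_iff_isUnit]
    exact hf'li
  · ext i j
    have h1 : T (f' j) = f' j := hfS _
    have h2 := congrFun h1 i
    rw [Matrix.mul_apply]
    exact h2

theorem seq_shiftK (σ : RingAut F) (A : ℕ → Matrix κ κ F) (hA0 : A 0 = 1)
    (hA : ∀ i, A (i + 1) = A 1 * (A i).map σ) (i : ℕ) :
    A (i + 1) = A i * (A 1).map (σ ^ i) := by
  induction i with
  | zero =>
    rw [hA0, Matrix.one_mul, pow_zero]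
    ext a b
    rfl
  | succ i ih =>
    rw [hA (i + 1), ih, Matrix.map_mul, ← Matrix.mul_assoc, ← hA i]
    congr 1
    ext a b
    show σ ((σ ^ i) (A 1 a b)) = (σ ^ (i + 1)) (A 1 a b)
    rw [pow_succ']
    rfl

/-- **Hilbert 90 for `PGL`** over a finite field, general index type -/
theorem exists_matrix_fixed_scalarK [Finite F] [Nonempty κ] (σ : RingAut F) (r : ℕ)
    (hσ : orderOf σ = r) (hr : 0 < r)
    (A : ℕ → Matrix κ κ F) (hA0 : A 0 = 1)
    (hA : ∀ i, A (i + 1) = A 1 * (A i).map σ) (μ : F) (hμ : μ ≠ 0)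
    (hAr : A r = μ • (1 : Matrix κ κ F)) :
    ∃ (h : Matrix κ κ F) (ν : F), IsUnit h ∧ ν ≠ 0 ∧ A 1 * h.map σ = ν • h := by
  have hfix : σ μ = μ := by
    have h1 : A (r + 1) = σ μ • A 1 := by
      rw [hA r, hAr]
      have : (μ • (1 : Matrix κ κ F)).map σ = σ μ • (1 : Matrix κ κ F) := by
        ext a b
        by_cases hab : a = b
        · subst hab
          simp
        · simp [hab]
      rw [this, Matrix.mul_smul, Matrix.mul_one]
    have h2 : A (r + 1) = μ • A 1 := by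
      rw [seq_shiftK σ A hA0 hA r, hAr, ← hσ, pow_orderOf_eq_one, Matrix.smul_mul, Matrix.one_mul]
      congr 1
    have h3 : A 1 ≠ 0 := by
      intro h0
      have : ∀ i, A (i + 1) = 0 := by
        intro i
        rw [hA i, h0, Matrix.zero_mul]
      obtain ⟨k, rfl⟩ : ∃ k, r = k + 1 := ⟨r - 1, by omega⟩
      have h4 := this k
      rw [hAr] at h4
      have h5 := congrFun (congrFun h4 (Classical.arbitrary κ)) (Classical.arbitrary κ)
      simp at h5
      exact hμ h5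
    obtain ⟨a, b, hab⟩ : ∃ a b, A 1 a b ≠ 0 := by
      by_contra hcon
      push Not at hcon
      apply h3
      ext a b
      exact hcon a b
    have h6 := congrFun (congrFun (h1.symm.trans h2) a) b
    simp only [Matrix.smul_apply, smul_eq_mul] at h6
    exact mul_right_cancel₀ hab h6
  obtain ⟨ν, hν0, hν⟩ := exists_nrm_eq σ r hσ hr μ hμ hfix
  let A' : ℕ → Matrix κ κ F := fun i => (nrm σ ν i)⁻¹ • A i
  have hA'1 : A' 1 = ν⁻¹ • A 1 := by
    show (nrm σ ν 1)⁻¹ • A 1 = _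
    rw [nrm_one]
  obtain ⟨h, hh, hfixh⟩ := exists_matrix_fixedK σ r hσ hr A'
    (by show (nrm σ ν 0)⁻¹ • A 0 = 1; rw [nrm_zero, hA0, inv_one, one_smul])
    (by
      intro i
      rw [hA'1]
      show (nrm σ ν (i + 1))⁻¹ • A (i + 1) = ν⁻¹ • A 1 * ((nrm σ ν i)⁻¹ • A i).map σ
      have : ((nrm σ ν i)⁻¹ • A i).map σ = (σ (nrm σ ν i))⁻¹ • (A i).map σ := by
        ext a b
        simp
      rw [this, hA i, nrm_succ, Matrix.smul_mul, Matrix.mul_smul, smul_smul, mul_inv])
    (by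
      show (nrm σ ν r)⁻¹ • A r = 1
      rw [hν, hAr, smul_smul, inv_mul_cancel₀ hμ, one_smul])
  refine ⟨h, ν, hh, hν0, ?_⟩
  rw [hA'1, Matrix.smul_mul] at hfixh
  have h7 : ν • (ν⁻¹ • (A 1 * h.map σ)) = ν • h := by rw [hfixh]
  rw [smul_smul, mul_inv_cancel₀ hν0, one_smul] at h7
  exact h7

theorem iterate_entryK (σ : RingAut F) (M : Matrix κ κ F) (lam : F)
    (h : M.map σ = lam • M) (i : ℕ) (a b : κ) :
    (σ ^ i) (M a b) = M a b * nrm σ lam i := by
  induction i with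
  | zero => rw [nrm_zero, mul_one]; rfl
  | succ i ih =>
    rw [pow_succ']
    show σ ((σ ^ i) _) = _
    have h1 : σ (M a b) = lam * M a b := by
      have := congrFun (congrFun h a) b
      rwa [Matrix.map_apply, Matrix.smul_apply, smul_eq_mul] at this
    rw [ih, map_mul, h1, nrm_succ]
    ring

/-- two matrices defining the same bilinear form are equal -/
theorem matrix_eq_of_dot {K : Type*} [CommRing K] {M N : Matrix κ κ K}
    (h : ∀ u v : κ → K, u ⬝ᵥ M *ᵥ v = u ⬝ᵥ N *ᵥ v) : M = N := by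
  ext a b
  have := h (Pi.single a 1) (Pi.single b 1)
  rw [Matrix.mulVec_single_one, Matrix.mulVec_single_one, single_one_dotProduct,
    single_one_dotProduct] at this
  exact this

end matrixK


section symp

variable {m : ℕ} {F : Type*} [Field F]

theorem mem_fixedK (σ : RingAut F) (a : F) :
    a ∈ FixedPoints.subfield (Subgroup.zpowers σ) F ↔ σ a = a := by
  constructor
  · intro h
    exact h ⟨σ, Subgroup.mem_zpowers σ⟩
  · intro h g
    obtain ⟨g, hg⟩ := g
    obtain ⟨k, rfl⟩ := Subgroup.mem_zpowers_iff.1 hg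
    show (σ ^ k) a = a
    have hnat : ∀ n : ℕ, (σ ^ n) a = a := by
      intro n
      induction n with
      | zero => rfl
      | succ n ih =>
        rw [pow_succ]
        show (σ ^ n) (σ a) = a
        rw [h, ih]
    have hinv : ∀ n : ℕ, (σ ^ n)⁻¹ a = a := by
      intro n
      have h1 := hnat n
      have h2 : (σ ^ n)⁻¹ ((σ ^ n) a) = a := by
        show ((σ ^ n)⁻¹ * (σ ^ n)) a = a
        rw [inv_mul_cancel]
        rfl
      rw [h1] at h2
      exact h2
    cases k with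
    | ofNat n => exact hnat n
    | negSucc n =>
      rw [zpow_negSucc]
      exact hinv (n + 1)

theorem sympForm_mulVec_mulVec {K : Type*} [CommRing K]
    (g : Matrix (Fin m ⊕ Fin m) (Fin m ⊕ Fin m) K) (u v : Fin m ⊕ Fin m → K) :
    Cfsg.sympForm m K (g *ᵥ u) (g *ᵥ v) = u ⬝ᵥ (gᵀ * J (Fin m) K * g) *ᵥ v := by
  unfold Cfsg.sympForm
  rw [← Matrix.vecMul_transpose g u, ← Matrix.dotProduct_mulVec, Matrix.mulVec_mulVec,
    Matrix.mulVec_mulVec, Matrix.mul_assoc]

/-- membership in the conformal symplectic group in terms of the Gram matrix -/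
theorem mem_GSp_iff (g : GL (Fin m ⊕ Fin m) F) :
    g ∈ Cfsg.GSp m F ↔ ∃ c : Fˣ,
      (g : Matrix (Fin m ⊕ Fin m) (Fin m ⊕ Fin m) F)ᵀ * J (Fin m) F *
        (g : Matrix (Fin m ⊕ Fin m) (Fin m ⊕ Fin m) F) = (c : F) • J (Fin m) F := by
  constructor
  · rintro ⟨c, hc⟩
    refine ⟨c, matrix_eq_of_dot fun u v => ?_⟩
    rw [← sympForm_mulVec_mulVec, hc, Matrix.smul_mulVec, dotProduct_smul, smul_eq_mul]
    rfl
  · rintro ⟨c, hc⟩
    refine ⟨c, fun u v => ?_⟩
    rw [sympForm_mulVec_mulVec, hc, Matrix.smul_mulVec, dotProduct_smul, smul_eq_mul]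
    rfl

/-- a nondegenerate alternating matrix is congruent to `J` -/
theorem exists_congr_J {K : Type*} [Field K] (M : Matrix (Fin m ⊕ Fin m) (Fin m ⊕ Fin m) K)
    (halt : ∀ x : Fin m ⊕ Fin m → K, x ⬝ᵥ M *ᵥ x = 0) (hM : IsUnit M) :
    ∃ k : Matrix (Fin m ⊕ Fin m) (Fin m ⊕ Fin m) K, IsUnit k ∧ kᵀ * M * k = J (Fin m) K := by
  let γ : LinearMap.BilinForm K (Fin m ⊕ Fin m → K) := Matrix.toLinearMap₂' K M
  have hγ : ∀ x y, γ x y = x ⬝ᵥ M *ᵥ y := fun x y => Matrix.toLinearMap₂'_apply' M x y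
  obtain ⟨M', hM1⟩ := hM.exists_left_inv
  have hM2 : M * M' = 1 := mul_eq_one_comm.mp hM1
  have hnd : ∀ x, (∀ y, γ x y = 0) → x = 0 := by
    intro x hx
    have h1 : x ᵥ* M = 0 := by
      funext b
      have := hx (Pi.single b 1)
      rw [hγ, Matrix.dotProduct_mulVec, dotProduct_single_one] at this
      exact this
    have h2 : x = (x ᵥ* M) ᵥ* M' := by
      rw [Matrix.vecMul_vecMul, hM2, Matrix.vecMul_one]
    rw [h2, h1, Matrix.zero_vecMul]
  obtain ⟨k', φ, h2k, hφ⟩ := Cfsg.Agent.Lib.Helper15.SymIso.exists_symp_equiv (Fin m ⊕ Fin m → K) γ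
    (fun x => by rw [hγ]; exact halt x) hnd
  rw [Module.finrank_fintype_fun_eq_card, Fintype.card_sum, Fintype.card_fin] at h2k
  obtain rfl : m = k' := by omega
  let P : Matrix (Fin m ⊕ Fin m) (Fin m ⊕ Fin m) K :=
    LinearMap.toMatrix' (φ : (Fin m ⊕ Fin m → K) →ₗ[K] (Fin m ⊕ Fin m → K))
  let Q : Matrix (Fin m ⊕ Fin m) (Fin m ⊕ Fin m) K :=
    LinearMap.toMatrix' (φ.symm : (Fin m ⊕ Fin m → K) →ₗ[K] (Fin m ⊕ Fin m → K))
  have hPQ : P * Q = 1 := by
    rw [← LinearMap.toMatrix'_comp, ← LinearMap.toMatrix'_id]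
    congr 1
    apply LinearMap.ext
    intro x
    exact φ.apply_symm_apply x
  have hP : ∀ x, P *ᵥ x = φ x := fun x => LinearMap.toMatrix'_mulVec _ x
  have hPM : Pᵀ * J (Fin m) K * P = M := by
    apply matrix_eq_of_dot
    intro u v
    rw [← sympForm_mulVec_mulVec, hP, hP, hφ, hγ]
  refine ⟨Q, ⟨⟨Q, P, mul_eq_one_comm.mp hPQ, hPQ⟩, rfl⟩, ?_⟩
  rw [← hPM]
  calc Qᵀ * (Pᵀ * J (Fin m) K * P) * Q = (P * Q)ᵀ * J (Fin m) K * (P * Q) := by
        rw [Matrix.transpose_mul]
        simp only [Matrix.mul_assoc]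
    _ = J (Fin m) K := by rw [hPQ, Matrix.transpose_one, Matrix.one_mul, Matrix.mul_one]

/-- **Lang's theorem for the conformal symplectic group**: a cocycle with values in `GSp` whose
norm is a scalar is a coboundary up to a scalar -/
theorem gsp_lang [Finite F] (hm : 1 ≤ m) (σ : RingAut F) (r : ℕ) (hσ : orderOf σ = r) (hr : 0 < r)
    (A : ℕ → Matrix (Fin m ⊕ Fin m) (Fin m ⊕ Fin m) F) (hA0 : A 0 = 1)
    (hA : ∀ i, A (i + 1) = A 1 * (A i).map σ) (μ : F) (hμ : μ ≠ 0)
    (hAr : A r = μ • (1 : Matrix (Fin m ⊕ Fin m) (Fin m ⊕ Fin m) F)) (c : F) (hc0 : c ≠ 0)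
    (hc : (A 1)ᵀ * J (Fin m) F * A 1 = c • J (Fin m) F) :
    ∃ (h : Matrix (Fin m ⊕ Fin m) (Fin m ⊕ Fin m) F) (ν d : F), IsUnit h ∧ ν ≠ 0 ∧ d ≠ 0 ∧
      A 1 * h.map σ = ν • h ∧ hᵀ * J (Fin m) F * h = d • J (Fin m) F := by
  have : Nonempty (Fin m ⊕ Fin m) := ⟨Sum.inl ⟨0, hm⟩⟩
  obtain ⟨h₁, ν, hh₁, hν0, hfix⟩ := exists_matrix_fixed_scalarK σ r hσ hr A hA0 hA μ hμ hAr
  set M : Matrix (Fin m ⊕ Fin m) (Fin m ⊕ Fin m) F := h₁ᵀ * J (Fin m) F * h₁ with hMdef
  have hJσ : (J (Fin m) F).map σ = J (Fin m) F := Matrix.map_J (Fin m) σ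
  have hMσ : M.map σ = (ν ^ 2 * c⁻¹) • M := by
    have h1 : (A 1 * h₁.map σ)ᵀ * J (Fin m) F * (A 1 * h₁.map σ) = c • M.map σ := by
      rw [Matrix.transpose_mul]
      calc (h₁.map σ)ᵀ * (A 1)ᵀ * J (Fin m) F * (A 1 * h₁.map σ)
          = (h₁.map σ)ᵀ * ((A 1)ᵀ * J (Fin m) F * A 1) * h₁.map σ := by
            simp only [Matrix.mul_assoc]
        _ = c • ((h₁.map σ)ᵀ * J (Fin m) F * h₁.map σ) := by
            rw [hc, Matrix.mul_smul, Matrix.smul_mul]
        _ = c • M.map σ := by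
            rw [hMdef, Matrix.map_mul, Matrix.map_mul, hJσ, Matrix.transpose_map]
    rw [hfix, Matrix.transpose_smul, Matrix.smul_mul, Matrix.smul_mul, Matrix.mul_smul,
      smul_smul] at h1
    have h2 : c⁻¹ • (c • M.map σ) = M.map σ := by
      rw [smul_smul, inv_mul_cancel₀ hc0, one_smul]
    rw [← h2, ← h1, smul_smul]
    congr 1
    ring
  have hMu : IsUnit M := by
    have hJu : IsUnit (J (Fin m) F) :=
      (Matrix.isUnit_iff_isUnit_det _).2 (Matrix.isUnit_det_J (Fin m) F)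
    have hTu : IsUnit h₁ᵀ := by
      rw [Matrix.isUnit_iff_isUnit_det, Matrix.det_transpose, ← Matrix.isUnit_iff_isUnit_det]
      exact hh₁
    exact (hTu.mul hJu).mul hh₁
  obtain ⟨a, b, hab⟩ : ∃ a b, M a b ≠ 0 := by
    by_contra hcon
    push Not at hcon
    have h0 : M = 0 := by
      ext a b
      exact hcon a b
    rw [h0] at hMu
    exact not_isUnit_zero hMu
  have hnrm : nrm σ (ν ^ 2 * c⁻¹) r = 1 := by
    have h6 := iterate_entryK σ M _ hMσ r a b
    rw [← hσ, pow_orderOf_eq_one, hσ] at h6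
    have h7 : M a b * 1 = M a b * nrm σ (ν ^ 2 * c⁻¹) r := by
      rw [mul_one]
      exact h6
    exact (mul_left_cancel₀ hab h7).symm
  obtain ⟨k0, hk0, hk⟩ := exists_fixed_of_nrm_eq_one σ r hσ hr _ hnrm
  -- the rescaled Gram matrix is fixed
  have hM'σ : (k0 • M).map σ = k0 • M := by
    have : (k0 • M).map σ = σ k0 • M.map σ := by
      ext a b
      simp
    rw [this, hMσ, smul_smul, mul_comm, hk]
  let K : Subfield F := FixedPoints.subfield (Subgroup.zpowers σ) F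
  have hmemK : ∀ x : F, σ x = x → x ∈ K := fun x hx => (mem_fixedK σ x).2 hx
  let M₀ : Matrix (Fin m ⊕ Fin m) (Fin m ⊕ Fin m) K := fun a b =>
    ⟨(k0 • M) a b, hmemK _ (by
      have := congrFun (congrFun hM'σ a) b
      rwa [Matrix.map_apply] at this)⟩
  have hM₀ : M₀.map K.subtype = k0 • M := by
    ext a b
    rfl
  have halt : ∀ x : Fin m ⊕ Fin m → K, x ⬝ᵥ M₀ *ᵥ x = 0 := by
    intro x
    apply K.subtype_injective
    rw [RingHom.map_dotProduct, map_zero]
    have h1 : (K.subtype ∘ (M₀ *ᵥ x)) = (M₀.map K.subtype) *ᵥ (K.subtype ∘ x) := by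
      funext i
      exact RingHom.map_mulVec K.subtype M₀ x i
    rw [h1, hM₀, Matrix.smul_mulVec, dotProduct_smul, hMdef, ← sympForm_mulVec_mulVec,
      Cfsg.Agent.Lib.Helper5.sympForm_self, smul_zero]
  have hM₀u : IsUnit M₀ := by
    rw [Matrix.isUnit_iff_isUnit_det, isUnit_iff_ne_zero]
    intro h0
    have h1 := RingHom.map_det K.subtype M₀
    rw [h0, map_zero, RingHom.mapMatrix_apply, hM₀, Matrix.det_smul] at h1
    have h2 : M.det ≠ 0 := ((Matrix.isUnit_iff_isUnit_det _).1 hMu).ne_zero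
    exact (mul_ne_zero (pow_ne_zero _ hk0) h2) h1.symm
  obtain ⟨k, hku, hkJ⟩ := exists_congr_J M₀ halt hM₀u
  have hkσ : (k.map K.subtype).map σ = k.map K.subtype := by
    ext a b
    exact (mem_fixedK σ _).1 (k a b).2
  have hkJ' : (k.map K.subtype)ᵀ * (k0 • M) * k.map K.subtype = J (Fin m) F := by
    rw [← hM₀, ← Matrix.transpose_map, ← Matrix.map_mul, ← Matrix.map_mul, hkJ]
    exact Matrix.map_J (Fin m) K.subtype
  have hku' : IsUnit (k.map K.subtype) := by
    have := hku.map (K.subtype.mapMatrix (m := Fin m ⊕ Fin m))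
    rwa [RingHom.mapMatrix_apply] at this
  refine ⟨h₁ * k.map K.subtype, ν, k0⁻¹, hh₁.mul hku', hν0, inv_ne_zero hk0, ?_, ?_⟩
  · rw [Matrix.map_mul, hkσ, ← Matrix.mul_assoc, hfix, Matrix.smul_mul]
  · rw [Matrix.transpose_mul]
    calc (k.map K.subtype)ᵀ * h₁ᵀ * J (Fin m) F * (h₁ * k.map K.subtype)
        = (k.map K.subtype)ᵀ * M * k.map K.subtype := by
          rw [hMdef]
          simp only [Matrix.mul_assoc]
      _ = k0⁻¹ • ((k.map K.subtype)ᵀ * (k0 • M) * k.map K.subtype) := by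
          rw [Matrix.mul_smul, Matrix.smul_mul, smul_smul, inv_mul_cancel₀ hk0, one_smul]
      _ = k0⁻¹ • J (Fin m) F := by rw [hkJ']

end symp

end Cfsg.Agent.Lib.Helper18.PSpAut
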