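import Mathlib
import Cfsg.Agent.Lib.Helper18.PSpFldA
import Cfsg.Agent.Lib.Helper15.QuadSim

/-!
Galois descent of quadratic forms along a field automorphism; a Lang-type theorem for the
conformal orthogonal group (helper18).
-/

set_option autoImplicit false
set_option linter.unusedSectionVars false

namespace Cfsg.Agent.Lib.Helper18.OrthFld

open Matrix QuadraticMap Cfsg.Agent.Lib.Helper18.PSLnFld Cfsg.Agent.Lib.Helper18.PSpAut

section descent

variable {F : Type*} [Field F] {ι : Type*} [Fintype ι] [DecidableEq ι]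

/-- the form `Q` commutes with the field automorphism `σ` -/
def Qfix (Q : (ι → F) → F) (σ : RingAut F) : Prop :=
  ∀ v : ι → F, Q (fun i => σ (v i)) = σ (Q v)

/-- a vector with entries fixed by `σ` -/
def VFix (σ : RingAut F) (v : ι → F) : Prop := ∀ i, σ (v i) = v i

theorem vfix_single (σ : RingAut F) (i : ι) : VFix σ (Pi.single i (1 : F)) := by
  intro j
  by_cases hij : j = i
  · subst hij
    rw [Pi.single_eq_same, map_one]
  · rw [Pi.single_eq_of_ne hij, map_zero]

theorem vfix_add (σ : RingAut F) {u v : ι → F} (hu : VFix σ u) (hv : VFix σ v) :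
    VFix σ (u + v) := by
  intro i
  rw [Pi.add_apply, map_add, hu i, hv i]

theorem Qfix_value {Q : (ι → F) → F} {σ : RingAut F} (h : Qfix Q σ) {v : ι → F}
    (hv : VFix σ v) : σ (Q v) = Q v := by
  rw [← h v]
  congr 1
  funext i
  exact hv i

/-- two quadratic forms agreeing on the `σ`-fixed vectors are equal -/
theorem quad_ext_fixed (σ : RingAut F) (Q₁ Q₂ : QuadraticForm F (ι → F))
    (h : ∀ v, VFix σ v → Q₁ v = Q₂ v) : Q₁ = Q₂ := by
  apply Cfsg.Agent.Lib.Helper15.quad_ext_basis (Pi.basisFun F ι)
  · intro i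
    rw [Pi.basisFun_apply]
    exact h _ (vfix_single σ i)
  · intro i j _
    rw [Pi.basisFun_apply, Pi.basisFun_apply]
    unfold polar
    rw [h _ (vfix_add σ (vfix_single σ i) (vfix_single σ j)), h _ (vfix_single σ i),
      h _ (vfix_single σ j)]

/-- the fixed field -/
abbrev Kf (σ : RingAut F) : Subfield F := FixedPoints.subfield (Subgroup.zpowers σ) F

/-- embedding of vectors over the fixed field -/
def emb (σ : RingAut F) (v : ι → Kf σ) : ι → F := fun i => ((v i : Kf σ) : F)

theorem emb_apply (σ : RingAut F) (v : ι → Kf σ) (i : ι) : emb σ v i = ((v i : Kf σ) : F) := rfl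

theorem emb_add (σ : RingAut F) (u v : ι → Kf σ) : emb σ (u + v) = emb σ u + emb σ v := by
  funext i
  rfl

theorem emb_smul (σ : RingAut F) (a : Kf σ) (v : ι → Kf σ) :
    emb σ (a • v) = (a : F) • emb σ v := by
  funext i
  rfl

theorem emb_zero (σ : RingAut F) : emb σ (0 : ι → Kf σ) = 0 := by
  funext i
  rfl

theorem emb_injective (σ : RingAut F) : Function.Injective (emb (ι := ι) σ) := by
  intro u v h
  funext i
  apply Subtype.ext
  exact congrFun h i

theorem vfix_emb (σ : RingAut F) (v : ι → Kf σ) : VFix σ (emb σ v) := fun i =>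
  (mem_fixedK σ _).1 (v i).2

theorem exists_emb_of_vfix (σ : RingAut F) {v : ι → F} (hv : VFix σ v) :
    ∃ v₀ : ι → Kf σ, emb σ v₀ = v :=
  ⟨fun i => ⟨v i, (mem_fixedK σ _).2 (hv i)⟩, rfl⟩

theorem emb_single (σ : RingAut F) (i : ι) :
    emb σ (Pi.single i (1 : Kf σ)) = Pi.single i (1 : F) := by
  funext j
  by_cases hij : j = i
  · subst hij
    rw [emb_apply, Pi.single_eq_same, Pi.single_eq_same]
    rfl
  · rw [emb_apply, Pi.single_eq_of_ne hij, Pi.single_eq_of_ne hij]
    rfl

theorem emb_mulVec (σ : RingAut F) (k : Matrix ι ι (Kf σ)) (v : ι → Kf σ) :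
    emb σ (k *ᵥ v) = (k.map (Kf σ).subtype) *ᵥ emb σ v := by
  funext i
  exact RingHom.map_mulVec (Kf σ).subtype k v i

theorem map_subtype_fixed (σ : RingAut F) (k : Matrix ι ι (Kf σ)) :
    (k.map (Kf σ).subtype).map σ = k.map (Kf σ).subtype := by
  ext a b
  exact (mem_fixedK σ _).1 (k a b).2

variable (σ : RingAut F) (Q : QuadraticForm F (ι → F)) (h : Qfix Q σ)

include h in
theorem Q_emb_mem (v : ι → Kf σ) : Q (emb σ v) ∈ Kf σ :=
  (mem_fixedK σ _).2 (Qfix_value h (vfix_emb σ v))

/-- the underlying function of the descended form -/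
def descFun (v : ι → Kf σ) : Kf σ := ⟨Q (emb σ v), Q_emb_mem σ Q h v⟩

theorem coe_polar_descFun (u v : ι → Kf σ) :
    ((polar (descFun σ Q h) u v : Kf σ) : F) = polar Q (emb σ u) (emb σ v) := by
  unfold polar
  rw [Subfield.coe_sub, Subfield.coe_sub, ← emb_add]
  rfl

/-- the descended quadratic form over the fixed field -/
noncomputable def descQ : QuadraticForm (Kf σ) (ι → Kf σ) :=
  QuadraticMap.ofPolar (descFun σ Q h)
    (fun a x => by
      apply Subtype.ext
      show Q (emb σ (a • x)) = ((a * a : Kf σ) : F) * Q (emb σ x)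
      rw [emb_smul, QuadraticMap.map_smul, smul_eq_mul]
      rfl)
    (fun x x' y => by
      apply Subtype.ext
      rw [Subfield.coe_add, coe_polar_descFun, coe_polar_descFun, coe_polar_descFun, emb_add,
        polar_add_left])
    (fun a x y => by
      apply Subtype.ext
      rw [smul_eq_mul, Subfield.coe_mul, coe_polar_descFun, coe_polar_descFun, emb_smul,
        polar_smul_left, smul_eq_mul])

theorem descQ_apply (v : ι → Kf σ) : ((descQ σ Q h v : Kf σ) : F) = Q (emb σ v) := rfl

theorem polar_descQ (u v : ι → Kf σ) :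
    ((polar (descQ σ Q h) u v : Kf σ) : F) = polar Q (emb σ u) (emb σ v) :=
  coe_polar_descFun σ Q h u v

theorem descQ_nondeg (hQ : (polarBilin Q).Nondegenerate) :
    (polarBilin (descQ σ Q h)).Nondegenerate := by
  have key : ∀ u : ι → Kf σ, (∀ v, polar (descQ σ Q h) u v = 0) → u = 0 := by
    intro u hu
    apply emb_injective σ
    rw [emb_zero]
    apply hQ.1
    intro w
    have h0 : polarBilin Q (emb σ u) = 0 := by
      apply (Pi.basisFun F ι).ext
      intro j
      rw [Pi.basisFun_apply, polarBilin_apply_apply, ← emb_single σ j, ← polar_descQ σ Q h,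
        hu]
      rfl
    rw [h0]
    rfl
  constructor
  · intro u hu
    exact key u (fun v => by rw [← polarBilin_apply_apply]; exact hu v)
  · intro u hu
    exact key u (fun v => by
      rw [polar_comm, ← polarBilin_apply_apply]; exact hu v)

end descent

end Cfsg.Agent.Lib.Helper18.OrthFld
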