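import Mathlib
import Cfsg.Agent.Lib.Helper18.OrthFldA

/-!
Similarity of odd-dimensional quadratic forms over finite fields; Lang-type theorem for the
conformal orthogonal group (helper18).
-/

set_option autoImplicit false
set_option linter.unusedSectionVars false

namespace Cfsg.Agent.Lib.Helper18.OrthFld

open Matrix QuadraticMap Module Cfsg.Agent.Lib.Helper18.PSLnFld Cfsg.Agent.Lib.Helper18.PSpAut

section similar

variable {K V : Type*} [Field K] [AddCommGroup V] [Module K V]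

/-- a linear map scaling one form to a nondegenerate one is injective -/
theorem similar_injective (Q₁ Q₂ : QuadraticForm K V) (hQ₂ : (polarBilin Q₂).Nondegenerate)
    (d : K) (hd : d ≠ 0) (g₀ : V →ₗ[K] V) (hg : ∀ v, Q₁ (g₀ v) = d * Q₂ v) :
    Function.Injective g₀ := by
  have hpol : ∀ v w, polar Q₁ (g₀ v) (g₀ w) = d * polar Q₂ v w := by
    intro v w
    simp only [polar, ← map_add, hg]
    ring
  rw [injective_iff_map_eq_zero]
  intro v hv
  apply hQ₂.1 v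
  intro w
  rw [polarBilin_apply_apply]
  have := hpol v w
  rw [hv, polar_zero_left] at this
  exact (mul_eq_zero.mp this.symm).resolve_left hd

/-- standard basis of an odd-dimensional nondegenerate quadratic space over a finite field -/
theorem odd_basis [Finite K] [FiniteDimensional K V] {m : ℕ} (hV : finrank K V = 2 * m + 1)
    (Q : QuadraticForm K V) (hQ : (polarBilin Q).Nondegenerate) :
    ∃ b : Basis (Unit ⊕ (Fin m ⊕ Fin m)) K V, Q (b (Sum.inl ())) ≠ 0 ∧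
      (∀ i, polar Q (b (Sum.inl ())) (b (Sum.inr (Sum.inl i))) = 0 ∧
        polar Q (b (Sum.inl ())) (b (Sum.inr (Sum.inr i))) = 0) ∧
      (∀ i, Q (b (Sum.inr (Sum.inl i))) = 0 ∧ Q (b (Sum.inr (Sum.inr i))) = 0) ∧
      (∀ i j, polar Q (b (Sum.inr (Sum.inl i))) (b (Sum.inr (Sum.inr j))) =
        if i = j then 1 else 0) ∧
      (∀ i j, polar Q (b (Sum.inr (Sum.inl i))) (b (Sum.inr (Sum.inl j))) = 0 ∧
        polar Q (b (Sum.inr (Sum.inr i))) (b (Sum.inr (Sum.inr j))) = 0) := by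
  obtain ⟨e, f, x, H, -, hQx, hx⟩ := Cfsg.Agent.Lib.Helper15.odd_family Q m ⊤
    (Cfsg.Agent.Lib.Helper15.ndOn_top Q hQ) (by rw [finrank_top, hV])
  have hx0 : x ≠ 0 := by
    rintro rfl
    exact hQx (QuadraticMap.map_zero Q)
  have hli := H.linearIndependent_sum (fun _ : Unit => x) (linearIndependent_unique_iff.mpr hx0)
    (fun _ i => hx i)
  have hcard : Fintype.card (Unit ⊕ (Fin m ⊕ Fin m)) = finrank K V := by
    rw [hV]; simp; omega
  refine ⟨basisOfLinearIndependentOfCardEqFinrank' _ hli hcard, ?_⟩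
  rw [coe_basisOfLinearIndependentOfCardEqFinrank']
  simp only [Sum.elim_inl, Sum.elim_inr]
  exact ⟨hQx, hx, H.2.1, H.2.2.1, H.2.2.2⟩

/-- two nondegenerate quadratic forms of odd dimension over a finite field are similar -/
theorem odd_similar [Finite K] [FiniteDimensional K V] {m : ℕ} (hV : finrank K V = 2 * m + 1)
    (Q₁ Q₂ : QuadraticForm K V) (hQ₁ : (polarBilin Q₁).Nondegenerate)
    (hQ₂ : (polarBilin Q₂).Nondegenerate) :
    ∃ (g : V ≃ₗ[K] V) (d : K), d ≠ 0 ∧ ∀ v, Q₁ (g v) = d * Q₂ v := by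
  obtain ⟨b₁, hx₁, hxe₁, hs₁, hef₁, hee₁⟩ := odd_basis hV Q₁ hQ₁
  obtain ⟨b₂, hx₂, hxe₂, hs₂, hef₂, hee₂⟩ := odd_basis hV Q₂ hQ₂
  set d : K := Q₁ (b₁ (Sum.inl ())) / Q₂ (b₂ (Sum.inl ())) with hd
  have hd0 : d ≠ 0 := div_ne_zero hx₁ hx₂
  let b' : Unit ⊕ (Fin m ⊕ Fin m) → V := fun j =>
    match j with
    | Sum.inl _ => b₁ (Sum.inl ())
    | Sum.inr (Sum.inl i) => d • b₁ (Sum.inr (Sum.inl i))
    | Sum.inr (Sum.inr i) => b₁ (Sum.inr (Sum.inr i))
  have hcomp : Q₁.comp (b₂.constr K b') = d • Q₂ := by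
    apply Cfsg.Agent.Lib.Helper15.quad_ext_basis b₂
    · intro j
      rw [QuadraticMap.comp_apply, Basis.constr_basis, _root_.smul_apply, smul_eq_mul]
      rcases j with ⟨⟩ | i | i
      · show Q₁ (b₁ (Sum.inl ())) = d * Q₂ (b₂ (Sum.inl ()))
        rw [hd, div_mul_cancel₀ _ hx₂]
      · show Q₁ (d • b₁ (Sum.inr (Sum.inl i))) = _
        rw [QuadraticMap.map_smul, (hs₁ i).1, (hs₂ i).1, smul_zero, mul_zero]
      · show Q₁ (b₁ (Sum.inr (Sum.inr i))) = _
        rw [(hs₁ i).2, (hs₂ i).2, mul_zero]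
    · intro j j' _
      have e1 : polar (Q₁.comp (b₂.constr K b')) (b₂ j) (b₂ j') = polar Q₁ (b' j) (b' j') := by
        simp only [polar, QuadraticMap.comp_apply, map_add, Basis.constr_basis]
      have e2 : polar (d • Q₂) (b₂ j) (b₂ j') = d * polar Q₂ (b₂ j) (b₂ j') := by
        simp only [polar, _root_.smul_apply, smul_eq_mul]
        ring
      rw [e1, e2]
      rcases j with ⟨⟩ | i | i <;> rcases j' with ⟨⟩ | i' | i'
      · show polar Q₁ (b₁ (Sum.inl ())) (b₁ (Sum.inl ())) = _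
        exact absurd rfl ‹_›
      · show polar Q₁ (b₁ (Sum.inl ())) (d • b₁ (Sum.inr (Sum.inl i'))) = _
        rw [polar_smul_right, (hxe₁ i').1, (hxe₂ i').1, smul_zero, mul_zero]
      · show polar Q₁ (b₁ (Sum.inl ())) (b₁ (Sum.inr (Sum.inr i'))) = _
        rw [(hxe₁ i').2, (hxe₂ i').2, mul_zero]
      · show polar Q₁ (d • b₁ (Sum.inr (Sum.inl i))) (b₁ (Sum.inl ())) = _
        rw [polar_smul_left, polar_comm, (hxe₁ i).1, polar_comm Q₂, (hxe₂ i).1, smul_zero, mul_zero]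
      · show polar Q₁ (d • b₁ (Sum.inr (Sum.inl i))) (d • b₁ (Sum.inr (Sum.inl i'))) = _
        rw [polar_smul_left, polar_smul_right, (hee₁ i i').1, (hee₂ i i').1, smul_zero, smul_zero,
          mul_zero]
      · show polar Q₁ (d • b₁ (Sum.inr (Sum.inl i))) (b₁ (Sum.inr (Sum.inr i'))) = _
        rw [polar_smul_left, hef₁, hef₂, smul_eq_mul]
      · show polar Q₁ (b₁ (Sum.inr (Sum.inr i))) (b₁ (Sum.inl ())) = _
        rw [polar_comm, (hxe₁ i).2, polar_comm Q₂, (hxe₂ i).2, mul_zero]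
      · show polar Q₁ (b₁ (Sum.inr (Sum.inr i))) (d • b₁ (Sum.inr (Sum.inl i'))) = _
        rw [polar_smul_right, polar_comm, hef₁, polar_comm Q₂, hef₂, smul_eq_mul]
      · show polar Q₁ (b₁ (Sum.inr (Sum.inr i))) (b₁ (Sum.inr (Sum.inr i'))) = _
        rw [(hee₁ i i').2, (hee₂ i i').2, mul_zero]
  have hval : ∀ v, Q₁ (b₂.constr K b' v) = d * Q₂ v := by
    intro v
    have := DFunLike.congr_fun hcomp v
    rwa [QuadraticMap.comp_apply, _root_.smul_apply, smul_eq_mul] at this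
  have hinj := similar_injective Q₁ Q₂ hQ₂ d hd0 _ hval
  refine ⟨LinearEquiv.ofInjectiveEndo _ hinj, d, hd0, fun v => ?_⟩
  rw [LinearEquiv.coe_ofInjectiveEndo]
  exact hval v

end similar

section lang

variable {F : Type*} [Field F] {ι : Type*} [Fintype ι] [DecidableEq ι]

/-- lifting a similarity over the fixed field -/
theorem lift_similarity (σ : RingAut F) (Q Q' : QuadraticForm F (ι → F)) (hfix : Qfix Q σ)
    (hfix' : Qfix Q' σ) (g : (ι → Kf σ) ≃ₗ[Kf σ] (ι → Kf σ)) (d : Kf σ) (hd0 : d ≠ 0)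
    (hg : ∀ v, descQ σ Q' hfix' (g v) = d * descQ σ Q hfix v) :
    ∃ (k : Matrix ι ι F) (d : F), IsUnit k ∧ k.map σ = k ∧ d ≠ 0 ∧
      ∀ v, Q' (k *ᵥ v) = d * Q v := by
  let k₀ : Matrix ι ι (Kf σ) := LinearMap.toMatrix' (g : (ι → Kf σ) →ₗ[Kf σ] (ι → Kf σ))
  let k₁ : Matrix ι ι (Kf σ) := LinearMap.toMatrix' (g.symm : (ι → Kf σ) →ₗ[Kf σ] (ι → Kf σ))
  have hk01 : k₀ * k₁ = 1 := by
    rw [← LinearMap.toMatrix'_comp, ← LinearMap.toMatrix'_id]
    congr 1
    apply LinearMap.ext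
    intro x
    exact g.apply_symm_apply x
  have hk₀ : ∀ v, k₀ *ᵥ v = g v := fun v => LinearMap.toMatrix'_mulVec _ v
  refine ⟨k₀.map (Kf σ).subtype, (d : F), ?_, map_subtype_fixed σ k₀, ?_, ?_⟩
  · have hu : IsUnit k₀ := ⟨⟨k₀, k₁, hk01, mul_eq_one_comm.mp hk01⟩, rfl⟩
    have := hu.map ((Kf σ).subtype.mapMatrix (m := ι))
    rwa [RingHom.mapMatrix_apply] at this
  · intro h0
    apply hd0
    apply Subtype.ext
    exact h0
  · have hq : Q'.comp (Matrix.toLin' (k₀.map (Kf σ).subtype)) = (d : F) • Q := by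
      apply quad_ext_fixed σ
      intro v hv
      obtain ⟨v₀, rfl⟩ := exists_emb_of_vfix σ hv
      rw [QuadraticMap.comp_apply, Matrix.toLin'_apply, _root_.smul_apply, smul_eq_mul,
        ← emb_mulVec, hk₀, ← descQ_apply σ Q' hfix', hg, Subfield.coe_mul, descQ_apply]
    intro v
    have := DFunLike.congr_fun hq v
    rwa [QuadraticMap.comp_apply, Matrix.toLin'_apply, _root_.smul_apply, smul_eq_mul] at this

/-- `σ`-fixed similarity between `σ`-fixed odd-dimensional forms -/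
theorem hsim_odd [Finite F] (σ : RingAut F) {m : ℕ} (hcard : Fintype.card ι = 2 * m + 1)
    (Q Q' : QuadraticForm F (ι → F)) (hQ : (polarBilin Q).Nondegenerate) (hfix : Qfix Q σ)
    (hQ' : (polarBilin Q').Nondegenerate) (hfix' : Qfix Q' σ) :
    ∃ (k : Matrix ι ι F) (d : F), IsUnit k ∧ k.map σ = k ∧ d ≠ 0 ∧
      ∀ v, Q' (k *ᵥ v) = d * Q v := by
  obtain ⟨g, d, hd0, hg⟩ := odd_similar (K := Kf σ) (V := ι → Kf σ)
    (by rw [finrank_fintype_fun_eq_card, hcard]) (descQ σ Q' hfix') (descQ σ Q hfix)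
    (descQ_nondeg σ Q' hfix' hQ') (descQ_nondeg σ Q hfix hQ)
  exact lift_similarity σ Q Q' hfix hfix' g d hd0 hg

/-- **Lang's theorem for the conformal orthogonal group**: a cocycle with values in the
similarity group of a `σ`-fixed form whose norm is a scalar is a coboundary up to a scalar,
provided the `σ`-fixed forms `F`-similar to `Q` are similar to `Q` by `σ`-fixed matrices -/
theorem go_lang [Finite F] [Nonempty ι] (σ : RingAut F) (r : ℕ) (hσ : orderOf σ = r) (hr : 0 < r)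
    (Q : QuadraticForm F (ι → F)) (hQ : (polarBilin Q).Nondegenerate) (hfix : Qfix Q σ)
    (hsim : ∀ Q' : QuadraticForm F (ι → F), (polarBilin Q').Nondegenerate → Qfix Q' σ →
      (∃ (h₁ : Matrix ι ι F) (a : F), IsUnit h₁ ∧ a ≠ 0 ∧ ∀ v, Q' v = a * Q (h₁ *ᵥ v)) →
      ∃ (k : Matrix ι ι F) (d : F), IsUnit k ∧ k.map σ = k ∧ d ≠ 0 ∧
        ∀ v, Q' (k *ᵥ v) = d * Q v)
    (A : ℕ → Matrix ι ι F) (hA0 : A 0 = 1) (hA : ∀ i, A (i + 1) = A 1 * (A i).map σ)
    (μ : F) (hμ : μ ≠ 0) (hAr : A r = μ • (1 : Matrix ι ι F)) (c : F)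
    (hc : ∀ v, Q (A 1 *ᵥ v) = c * Q v) :
    ∃ (h : Matrix ι ι F) (ν d : F), IsUnit h ∧ ν ≠ 0 ∧ d ≠ 0 ∧ A 1 * h.map σ = ν • h ∧
      ∀ v, Q (h *ᵥ v) = d * Q v := by
  obtain ⟨h₁, ν, hh₁, hν0, hfixh⟩ := exists_matrix_fixed_scalarK σ r hσ hr A hA0 hA μ hμ hAr
  -- the transported form
  set Q₁ : QuadraticForm F (ι → F) := Q.comp (Matrix.toLin' h₁) with hQ₁def
  have hQ₁ : ∀ v, Q₁ v = Q (h₁ *ᵥ v) := fun v => by
    rw [hQ₁def, QuadraticMap.comp_apply, Matrix.toLin'_apply]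
  obtain ⟨h₁', hh₁'⟩ := hh₁.exists_left_inv
  have hh₁'' : h₁ * h₁' = 1 := mul_eq_one_comm.mp hh₁'
  have hQ₁nd : ∀ u, (∀ v, polar Q₁ u v = 0) → u = 0 := by
    intro u hu
    have h1 : h₁ *ᵥ u = 0 := by
      apply hQ.1
      intro w
      rw [polarBilin_apply_apply]
      have := hu (h₁' *ᵥ w)
      unfold polar at this
      rw [hQ₁, hQ₁, hQ₁, Matrix.mulVec_add, Matrix.mulVec_mulVec, hh₁'', Matrix.one_mulVec] at this
      exact this
    have h2 : u = h₁' *ᵥ (h₁ *ᵥ u) := by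
      rw [Matrix.mulVec_mulVec, hh₁', Matrix.one_mulVec]
    rw [h2, h1, Matrix.mulVec_zero]
  -- semi-invariance
  have hsemi : ∀ v, ν ^ 2 * Q₁ (fun i => σ (v i)) = c * σ (Q₁ v) := by
    intro v
    have e1 : Q ((A 1 * h₁.map σ) *ᵥ (fun i => σ (v i))) = c * σ (Q₁ v) := by
      rw [← Matrix.mulVec_mulVec, hc, ← map_mulVecK, hfix, hQ₁]
    rw [hfixh, Matrix.smul_mulVec, QuadraticMap.map_smul, smul_eq_mul, ← hQ₁] at e1
    rw [← e1]
    ring
  -- a fixed vector with nonzero value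
  obtain ⟨v₀, hv₀, hQv₀⟩ : ∃ v₀, VFix σ v₀ ∧ Q₁ v₀ ≠ 0 := by
    by_contra hcon
    push Not at hcon
    have h0 : Q₁ = 0 := by
      apply quad_ext_fixed σ
      intro v hv
      rw [hcon v hv]
      rfl
    have i₀ : ι := Classical.arbitrary ι
    have h1 : (Pi.single i₀ (1 : F) : ι → F) = 0 := by
      apply hQ₁nd
      intro v
      rw [h0]
      simp [polar]
    have h2 := congrFun h1 i₀
    rw [Pi.single_eq_same] at h2
    exact one_ne_zero h2
  set a : F := Q₁ v₀ with hadef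
  have ha : ν ^ 2 * a = c * σ a := by
    have := hsemi v₀
    have e : (fun i => σ (v₀ i)) = v₀ := funext hv₀
    rwa [e] at this
  have hσa : σ a ≠ 0 := by
    intro h0
    apply hQv₀
    have : σ a = σ 0 := by rw [h0, map_zero]
    exact σ.injective this
  set Q₂ : QuadraticForm F (ι → F) := a⁻¹ • Q₁ with hQ₂def
  have hQ₂ : ∀ v, Q₂ v = a⁻¹ * Q (h₁ *ᵥ v) := fun v => by
    rw [hQ₂def, _root_.smul_apply, smul_eq_mul, hQ₁]
  have hQ₂fix : Qfix Q₂ σ := by
    intro v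
    rw [hQ₂def, _root_.smul_apply, _root_.smul_apply, smul_eq_mul, smul_eq_mul, map_mul, map_inv₀]
    rw [inv_mul_eq_iff_eq_mul₀ hQv₀]
    apply mul_left_cancel₀ (pow_ne_zero 2 hν0)
    rw [hsemi v]
    calc c * σ (Q₁ v) = (c * σ a) * ((σ a)⁻¹ * σ (Q₁ v)) := by
          rw [mul_assoc, ← mul_assoc (σ a), mul_inv_cancel₀ hσa, one_mul]
      _ = ν ^ 2 * (a * ((σ a)⁻¹ * σ (Q₁ v))) := by rw [← ha]; ring
  have hQ₂nd : (polarBilin Q₂).Nondegenerate := by
    have key : ∀ u, (∀ v, polar Q₂ u v = 0) → u = 0 := by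
      intro u hu
      apply hQ₁nd
      intro v
      have := hu v
      unfold polar at this ⊢
      rw [hQ₂def, _root_.smul_apply, _root_.smul_apply, _root_.smul_apply, smul_eq_mul, smul_eq_mul,
        smul_eq_mul, ← mul_sub, ← mul_sub] at this
      exact (mul_eq_zero.1 this).resolve_left (inv_ne_zero hQv₀)
    constructor
    · intro u hu
      exact key u (fun v => by rw [← polarBilin_apply_apply]; exact hu v)
    · intro u hu
      exact key u (fun v => by rw [polar_comm, ← polarBilin_apply_apply]; exact hu v)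
  obtain ⟨k, d, hk, hkσ, hd0, hkd⟩ := hsim Q₂ hQ₂nd hQ₂fix
    ⟨h₁, a⁻¹, hh₁, inv_ne_zero hQv₀, hQ₂⟩
  refine ⟨h₁ * k, ν, a * d, hh₁.mul hk, hν0, mul_ne_zero hQv₀ hd0, ?_, ?_⟩
  · rw [Matrix.map_mul, hkσ, ← Matrix.mul_assoc, hfixh, Matrix.smul_mul]
  · intro v
    rw [← Matrix.mulVec_mulVec]
    have := hkd v
    rw [hQ₂] at this
    rw [mul_assoc, ← this, ← mul_assoc, mul_inv_cancel₀ hQv₀, one_mul]

end lang

end Cfsg.Agent.Lib.Helper18.OrthFld
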