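import Mathlib
import Cfsg.Agent.Lib.Helper18.OrthFldB
import Cfsg.Agent.Lib.Helper18.PSLnFldB
import Cfsg.Agent.Lib.Helper25.GraphSplit6

/-!
Field automorphisms of `PΩ(Q)`: relations with the similarity group, the coset of a field
automorphism (helper18).
-/

set_option autoImplicit false
set_option linter.unusedSectionVars false

namespace Cfsg.Agent.Lib.Helper18.OrthFld

open Matrix QuadraticMap Module Cfsg.Agent.Lib.Helper25.GraphSplit Cfsg.Agent.Lib.Helper25.PSim

universe u

section general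

variable {ι : Type} [Fintype ι] [DecidableEq ι] {F : Type u} [Field F]
  (Q : (ι → F) → F)

/-- the standard field automorphism predicate is "induced by `(1, σ)`" -/
theorem fieldAut_iff_induced (σ : F ≃+* F) (φ : Cfsg.POmega F Q ≃* Cfsg.POmega F Q) :
    Cfsg.IsFieldAutPOmegaOf Q σ φ ↔ Cfsg.IsInducedBySemilinearPOmega Q 1 σ φ := by
  unfold Cfsg.IsFieldAutPOmegaOf Cfsg.IsInducedBySemilinearPOmega
  simp only [Units.val_one, inv_one, Matrix.one_mul, Matrix.mul_one]

theorem pair_one {σ : RingAut F} (h : Qfix Q σ) : Cfsg.IsSemisimilarityPair Q 1 σ := by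
  refine ⟨1, fun v => ?_⟩
  rw [Units.val_one, Matrix.one_mulVec, Units.val_one, one_mul]
  exact h v

/-- automorphisms induced by the same semisimilarity are equal -/
theorem induced_unique {g : GL ι F} {σ : F ≃+* F} (h : Cfsg.IsSemisimilarityPair Q g σ)
    {β₁ β₂ : Cfsg.POmega F Q ≃* Cfsg.POmega F Q}
    (h₁ : Cfsg.IsInducedBySemilinearPOmega Q g σ β₁)
    (h₂ : Cfsg.IsInducedBySemilinearPOmega Q g σ β₂) : β₁ = β₂ := by
  apply MulEquiv.ext
  intro t
  induction t using QuotientGroup.induction_on with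
  | H s => rw [induced_mk Q h h₁, induced_mk Q h h₂]

/-- the Galois action preserves the similarity group of a fixed form -/
theorem sigma_mem_sim {σ : RingAut F} (h : Qfix Q σ) {g : GL ι F}
    (hg : g ∈ Cfsg.Geo.quadSimilarityGroup (F := F) Q) :
    sigmaGL σ g ∈ Cfsg.Geo.quadSimilarityGroup (F := F) Q := by
  obtain ⟨c, hc⟩ := hg
  refine ⟨Units.map ((σ : F ≃+* F) : F →* F) c, fun v => ?_⟩
  have hv : v = fun i => σ (σ.symm (v i)) := by
    funext i
    exact (σ.apply_symm_apply (v i)).symm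
  rw [sigmaGL_coe]
  conv_lhs => rw [hv]
  rw [← map_mulVec_equiv, h, hc, map_mul, ← h, ← hv]
  rfl

/-- the Galois action on the similarity group -/
noncomputable def simF {σ : RingAut F} (h : Qfix Q σ) :
    ↥(Cfsg.Geo.quadSimilarityGroup (F := F) Q) →* ↥(Cfsg.Geo.quadSimilarityGroup (F := F) Q) :=
  ((sigmaGL σ).comp (Cfsg.Geo.quadSimilarityGroup (F := F) Q).subtype).codRestrict _
    (fun g => sigma_mem_sim Q h g.2)

theorem simF_val {σ : RingAut F} (h : Qfix Q σ)
    (g : ↥(Cfsg.Geo.quadSimilarityGroup (F := F) Q)) : (simF Q h g).1 = sigmaGL σ g.1 := rfl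

theorem theta_induced (g : ↥(Cfsg.Geo.quadSimilarityGroup (F := F) Q)) :
    Cfsg.IsInducedBySemilinearPOmega Q g.1 (RingEquiv.refl F) (theta Q g) :=
  (Cfsg.Agent.Lib.Helper25.PSim.induced_iff Q g.1 g.2 _).2 rfl

variable {σ : RingAut F} (hfix : Qfix Q σ) {φ : MulAut (Cfsg.POmega F Q)}
  (hφ : Cfsg.IsFieldAutPOmegaOf Q σ φ)

include hφ in
theorem field_mul_theta (g : ↥(Cfsg.Geo.quadSimilarityGroup (F := F) Q)) :
    φ * theta Q g = theta Q (simF Q hfix g) * φ := by
  rw [fieldAut_iff_induced] at hφ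
  have hp1 := pair_one Q hfix
  have hpg := pair_of_sim Q g.2
  have hpg' := pair_of_sim Q (simF Q hfix g).2
  have e1 := induced_mul Q hp1 hpg hφ (theta_induced Q g)
  have e2 := induced_mul Q hpg' hp1 (theta_induced Q (simF Q hfix g)) hφ
  have hpair := pair_mul Q hp1 hpg
  have e3 : (simF Q hfix g).1 * sigmaGL (RingEquiv.refl F) 1 = 1 * sigmaGL σ g.1 := by
    rw [map_one, mul_one, one_mul, simF_val]
  have e4 : (σ : F ≃+* F).trans (RingEquiv.refl F) = (RingEquiv.refl F).trans σ := by
    apply RingEquiv.ext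
    intro x
    rfl
  rw [e3, e4] at e2
  exact induced_unique Q hpair e1 e2

/-- the cocycle sequence `g σ(g) ⋯ σ^{i-1}(g)` -/
noncomputable def cocyc (g : ↥(Cfsg.Geo.quadSimilarityGroup (F := F) Q)) :
    ℕ → ↥(Cfsg.Geo.quadSimilarityGroup (F := F) Q)
  | 0 => 1
  | i + 1 => g * simF Q hfix (cocyc g i)

theorem cocyc_zero (g : ↥(Cfsg.Geo.quadSimilarityGroup (F := F) Q)) : cocyc Q hfix g 0 = 1 := rfl

theorem cocyc_succ (g : ↥(Cfsg.Geo.quadSimilarityGroup (F := F) Q)) (i : ℕ) :
    cocyc Q hfix g (i + 1) = g * simF Q hfix (cocyc Q hfix g i) := rfl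

theorem cocyc_one (g : ↥(Cfsg.Geo.quadSimilarityGroup (F := F) Q)) : cocyc Q hfix g 1 = g := by
  rw [cocyc_succ, cocyc_zero, map_one, mul_one]

include hφ in
theorem pow_theta_field (g : ↥(Cfsg.Geo.quadSimilarityGroup (F := F) Q)) (i : ℕ) :
    (theta Q g * φ) ^ i = theta Q (cocyc Q hfix g i) * φ ^ i := by
  induction i with
  | zero => simp [cocyc_zero]
  | succ i ih =>
    rw [pow_succ', ih, cocyc_succ, map_mul, pow_succ', mul_assoc, mul_assoc,
      ← mul_assoc φ (theta Q _), field_mul_theta Q hfix hφ, mul_assoc]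

include hφ in
theorem conj_theta_field (h : ↥(Cfsg.Geo.quadSimilarityGroup (F := F) Q)) :
    theta Q h * φ * (theta Q h)⁻¹ = theta Q (h * (simF Q hfix h)⁻¹) * φ := by
  rw [mul_inv_eq_iff_eq_mul, map_mul, map_inv, mul_assoc, mul_assoc]
  congr 1
  rw [eq_inv_mul_iff_mul_eq, field_mul_theta Q hfix hφ]

include hfix hφ in
/-- powers of the standard field automorphism -/
theorem pow_field_induced (i : ℕ) :
    Cfsg.IsInducedBySemilinearPOmega Q 1 (σ ^ i : RingAut F) (φ ^ i) := by
  rw [fieldAut_iff_induced] at hφ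
  have hp1 := pair_one Q hfix
  induction i with
  | zero =>
    rw [pow_zero, pow_zero]
    have := theta_induced Q 1
    rw [map_one] at this
    exact this
  | succ i ih =>
    have hpi : Cfsg.IsSemisimilarityPair Q 1 (σ ^ i : RingAut F) := by
      have hfi : Qfix Q (σ ^ i) := by
        clear ih
        induction i with
        | zero => intro v; rfl
        | succ i ih2 =>
          intro v
          rw [pow_succ]
          show Q (fun j => (σ ^ i) (σ (v j))) = (σ ^ i) (σ (Q v))
          rw [← hfix v, ← ih2]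
      exact pair_one Q hfi
    have e := induced_mul Q hpi hp1 ih hφ
    rw [map_one, mul_one] at e
    rw [pow_succ, pow_succ]
    exact e

end general

end Cfsg.Agent.Lib.Helper18.OrthFld
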