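import Mathlib
import Cfsg.Agent.Lib.Helper18.OrthFldC

/-!
Field automorphisms of `PΩ(Q)` over finite fields: order, conjugacy in the coset, normality
of the image of the similarity group (helper18).
-/

set_option autoImplicit false
set_option linter.unusedSectionVars false

namespace Cfsg.Agent.Lib.Helper18.OrthFld

open Matrix QuadraticMap Module Cfsg.Agent.Lib.Helper25.GraphSplit Cfsg.Agent.Lib.Helper25.PSim

universe u

section finite

variable {ι : Type} [Fintype ι] [DecidableEq ι] {F : Type u} [Field F] [Fintype F]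
  (Q : QuadraticForm F (ι → F)) (hQ : (polarBilin Q).Nondegenerate) (hn : 7 ≤ Fintype.card ι)
  {σ : RingAut F} (hfix : Qfix (⇑Q) σ) {φ : MulAut (Cfsg.POmega F ⇑Q)}
  (hφ : Cfsg.IsFieldAutPOmegaOf (⇑Q) σ φ)

include hQ hn hfix hφ in
theorem pow_field_eq_one_iff (i : ℕ) : φ ^ i = 1 ↔ σ ^ i = 1 := by
  have hind := pow_field_induced (⇑Q) hfix hφ i
  have hfi : Cfsg.IsSemisimilarityPair (⇑Q) 1 (σ ^ i : RingAut F) := by
    have hfi : Qfix (⇑Q) (σ ^ i) := by
      induction i with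
      | zero => intro v; rfl
      | succ i ih2 =>
        intro v
        rw [pow_succ]
        show Q (fun j => (σ ^ i) (σ (v j))) = (σ ^ i) (σ (Q v))
        rw [← hfix v, ← ih2 (pow_field_induced (⇑Q) hfix hφ i)]
    exact pair_one (⇑Q) hfi
  constructor
  · intro h1
    rw [h1] at hind
    exact sigma_eq_refl_of_induced_one Q hQ hn hfi hind
  · intro h1
    rw [h1] at hind
    have := (Cfsg.Agent.Lib.Helper25.PSim.induced_iff (⇑Q) 1 (Subgroup.one_mem _) _).1 hind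
    rw [this]
    exact map_one (theta ⇑Q)

include hQ hn hfix hφ in
theorem orderOf_field : orderOf φ = orderOf σ :=
  orderOf_eq_orderOf_iff.2 (fun i => pow_field_eq_one_iff Q hQ hn hfix hφ i)

/-- a similarity acting trivially is a nonzero scalar matrix -/
theorem scalar_matrix_of_theta_eq_one (hQ : (polarBilin Q).Nondegenerate)
    (hn : 7 ≤ Fintype.card ι) (g : ↥(Cfsg.Geo.quadSimilarityGroup (F := F) ⇑Q))
    (hg : theta ⇑Q g = 1) :
    ∃ c : F, c ≠ 0 ∧ ((g.1 : GL ι F) : Matrix ι ι F) = c • (1 : Matrix ι ι F) := by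
  obtain ⟨c, hc⟩ := scalar_of_theta_eq_one Q hQ hn g hg
  have hM : ((g.1 : GL ι F) : Matrix ι ι F) = c • (1 : Matrix ι ι F) := by
    apply Matrix.toLin'.injective
    apply LinearMap.ext
    intro x
    rw [Matrix.toLin'_apply, hc, Matrix.toLin'_apply, Matrix.smul_mulVec, Matrix.one_mulVec]
  refine ⟨c, ?_, hM⟩
  rintro rfl
  rw [zero_smul] at hM
  have hu : IsUnit ((g.1 : GL ι F) : Matrix ι ι F) := ⟨g.1, rfl⟩
  rw [hM] at hu
  have : Nonempty ι := by
    rw [← Fintype.card_pos_iff]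
    omega
  exact not_isUnit_zero hu

/-- a similarity whose matrix is scalar acts trivially -/
theorem theta_eq_one_of_scalar_matrix (g : ↥(Cfsg.Geo.quadSimilarityGroup (F := F) ⇑Q)) (c : F)
    (hc : ((g.1 : GL ι F) : Matrix ι ι F) = c • (1 : Matrix ι ι F)) : theta ⇑Q g = 1 := by
  apply theta_eq_one_of_scalar Q g c
  intro x
  rw [hc, Matrix.smul_mulVec, Matrix.one_mulVec]

include hQ hn hfix hφ in
/-- **conjugacy in the coset of a field automorphism** -/
theorem field_coset_conj [Nonempty ι] (r : ℕ) (hσ : orderOf σ = r) (hr : 0 < r)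
    (hsim : ∀ Q' : QuadraticForm F (ι → F), (polarBilin Q').Nondegenerate → Qfix Q' σ →
      (∃ (h₁ : Matrix ι ι F) (a : F), IsUnit h₁ ∧ a ≠ 0 ∧ ∀ v, Q' v = a * Q (h₁ *ᵥ v)) →
      ∃ (k : Matrix ι ι F) (d : F), IsUnit k ∧ k.map σ = k ∧ d ≠ 0 ∧
        ∀ v, Q' (k *ᵥ v) = d * Q v)
    (g : ↥(Cfsg.Geo.quadSimilarityGroup (F := F) ⇑Q)) (hg : (theta ⇑Q g * φ) ^ r = 1) :
    ∃ h : ↥(Cfsg.Geo.quadSimilarityGroup (F := F) ⇑Q),
      theta ⇑Q g * φ = theta ⇑Q h * φ * (theta ⇑Q h)⁻¹ := by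
  have hφr : φ ^ r = 1 := by
    rw [pow_field_eq_one_iff Q hQ hn hfix hφ, ← hσ, pow_orderOf_eq_one]
  rw [pow_theta_field (⇑Q) hfix hφ, hφr, mul_one] at hg
  obtain ⟨μ, hμ0, hμ⟩ := scalar_matrix_of_theta_eq_one Q hQ hn _ hg
  obtain ⟨c, hc⟩ := g.2
  obtain ⟨h, ν, d, hh, hν0, hd0, hfixh, hsimh⟩ := go_lang σ r hσ hr Q hQ hfix hsim
    (fun i => (((cocyc (⇑Q) hfix g i).1 : GL ι F) : Matrix ι ι F))
    (by rw [cocyc_zero]; rfl)
    (by
      intro i
      rw [cocyc_succ, cocyc_one]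
      rfl)
    μ hμ0 hμ (c : F)
    (by
      intro v
      rw [cocyc_one]
      exact hc v)
  have hfix' : ((g.1 : GL ι F) : Matrix ι ι F) * h.map σ = ν • h := by
    have : (((cocyc (⇑Q) hfix g 1).1 : GL ι F) : Matrix ι ι F) * h.map σ = ν • h := hfixh
    rwa [cocyc_one] at this
  obtain ⟨hG, rfl⟩ := hh
  have hmem : hG ∈ Cfsg.Geo.quadSimilarityGroup (F := F) ⇑Q := ⟨Units.mk0 d hd0, hsimh⟩
  refine ⟨⟨hG, hmem⟩, ?_⟩
  rw [conj_theta_field (⇑Q) hfix hφ]
  congr 1
  have h1 : theta ⇑Q (g * (⟨hG, hmem⟩ * (simF (⇑Q) hfix ⟨hG, hmem⟩)⁻¹)⁻¹) = 1 := by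
    apply theta_eq_one_of_scalar_matrix Q _ ν
    have e : ((g * (⟨hG, hmem⟩ * (simF (⇑Q) hfix ⟨hG, hmem⟩)⁻¹)⁻¹ :
        ↥(Cfsg.Geo.quadSimilarityGroup (F := F) ⇑Q)) : GL ι F) = g.1 * sigmaGL σ hG * hG⁻¹ := by
      rw [_root_.mul_inv_rev, inv_inv, ← mul_assoc]
      rfl
    rw [e, Units.val_mul, Units.val_mul, sigmaGL_coe, hfix', Matrix.smul_mul, ← Units.val_mul,
      mul_inv_cancel, Units.val_one]
  rw [map_mul, map_inv, mul_inv_eq_one] at h1
  exact h1

end finite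

section normal

variable {ι : Type} [Fintype ι] [DecidableEq ι] {F : Type u} [Field F] (Q : (ι → F) → F)

/-- conjugating a similarity by a semisimilarity gives a similarity -/
theorem semi_conj_mem_sim {g : GL ι F} {τ : F ≃+* F} (h : Cfsg.IsSemisimilarityPair Q g τ)
    {k : GL ι F} (hk : k ∈ Cfsg.Geo.quadSimilarityGroup (F := F) Q) :
    g * sigmaGL τ k * g⁻¹ ∈ Cfsg.Geo.quadSimilarityGroup (F := F) Q := by
  obtain ⟨c, hc⟩ := pair_apply Q h
  obtain ⟨μ, hμ⟩ := hk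
  refine ⟨Units.map (τ : F →* F) μ, fun v => ?_⟩
  obtain ⟨w, rfl⟩ := semiMap_surjective g τ v
  rw [semiMap_conj, hc, hc, hμ, map_mul]
  show _ = τ (μ : F) * _
  ring

/-- the image of the similarity group is normalised by automorphisms induced by
semisimilarities -/
theorem pairAut_conj_theta {β : MulAut (Cfsg.POmega F Q)} (hβ : IsPairAut Q β)
    (k : ↥(Cfsg.Geo.quadSimilarityGroup (F := F) Q)) :
    β * theta Q k * β⁻¹ ∈ (theta Q).range := by
  obtain ⟨g, τ, hp, hind⟩ := hβ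
  have hmem := semi_conj_mem_sim Q hp k.2
  refine ⟨⟨_, hmem⟩, ?_⟩
  rw [eq_mul_inv_iff_mul_eq]
  have hpk := pair_of_sim Q k.2
  have hpk' := pair_of_sim Q hmem
  have e1 := induced_mul Q hp hpk hind (theta_induced Q k)
  have e2 := induced_mul Q hpk' hp (theta_induced Q ⟨_, hmem⟩) hind
  have hpair := pair_mul Q hp hpk
  have e3 : (g * sigmaGL τ k.1 * g⁻¹) * sigmaGL (RingEquiv.refl F) g = g * sigmaGL τ k.1 := by
    rw [sigmaGL_refl, inv_mul_cancel_right]
  have e4 : τ.trans (RingEquiv.refl F) = (RingEquiv.refl F).trans τ := by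
    apply RingEquiv.ext
    intro x
    rfl
  rw [e3, e4] at e2
  exact induced_unique Q hpair e2 e1

end normal

section normal2

variable {ι : Type} [Fintype ι] [DecidableEq ι] {F : Type u} [Field F] [Fintype F]
  (Q : (ι → F) → F)

/-- if every automorphism is induced by a semisimilarity then the image of the similarity
group is normal -/
theorem pgoAut_normal (hgam : Cfsg.gammaPOmega F Q = ⊤) : (Cfsg.pgoAut F Q).Normal := by
  constructor
  intro d hd α
  rw [pgoAut_eq] at hd ⊢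
  obtain ⟨k, rfl⟩ := hd
  have hα : α ∈ Cfsg.gammaPOmega F Q := by rw [hgam]; trivial
  exact pairAut_conj_theta Q (isPairAut_of_mem_gamma Q hα) k

end normal2

end Cfsg.Agent.Lib.Helper18.OrthFld
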