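import Mathlib
import Cfsg.Agent.Lib.Helper18.OrthFldD
import Cfsg.Agent.Lib.Helper25.SpinForms

/-!
Field automorphisms of `Ω_{2m+1}(F)`: conjugacy in the coset (helper18).
-/

set_option autoImplicit false
set_option linter.unusedSectionVars false

namespace Cfsg.Agent.Lib.Helper18.OrthFld

open Matrix QuadraticMap Module Cfsg.Agent.Lib.Helper25.GraphSplit Cfsg.Agent.Lib.Helper25.PSim

universe u

section odd

variable {F : Type u} [Field F] {m : ℕ}

theorem qfix_odd (σ : RingAut F) : Qfix (Cfsg.quadFormOdd m F) σ := by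
  intro v
  unfold Cfsg.quadFormOdd
  rw [map_add, map_pow, map_sum]
  congr 1
  apply Finset.sum_congr rfl
  intro i _
  rw [map_mul]

/-- the odd-dimensional form as a Mathlib quadratic form -/
noncomputable abbrev Qo (m : ℕ) (F : Type u) [Field F] (h2 : (2 : F) ≠ 0) :
    QuadraticForm F (Unit ⊕ (Fin m ⊕ Fin m) → F) :=
  Cfsg.Agent.Lib.Helper25.Spin.qfOf (Cfsg.Agent.Lib.Helper14.isQF_odd (F := F) (m := m) h2)

theorem Qo_nondeg (h2 : (2 : F) ≠ 0) : (polarBilin (Qo m F h2)).Nondegenerate :=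
  Cfsg.Agent.Lib.Helper25.Spin.qfOf_nondeg _

theorem card_odd_index : Fintype.card (Unit ⊕ (Fin m ⊕ Fin m)) = 2 * m + 1 := by
  simp only [Fintype.card_sum, Fintype.card_fin, Fintype.card_unit]
  omega

theorem inndiag_odd_eq : Cfsg.inndiagPOmegaOdd m F = Cfsg.pgoAut F (Cfsg.quadFormOdd m F) := rfl

variable [Fintype F]

/-- **S2735** modulo the determination of the automorphism group -/
theorem odd_class_conj (hodd : Odd (Fintype.card F)) (hm : 3 ≤ m)
    (hgam : Cfsg.gammaPOmega F (Cfsg.quadFormOdd m F) = ⊤)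
    (x δ : MulAut (Cfsg.POmega F (Cfsg.quadFormOdd m F)))
    (hx : Cfsg.IsFieldAutClassPOmega (Cfsg.quadFormOdd m F) x) (hx0 : 0 < orderOf x)
    (hδ : δ ∈ Cfsg.inndiagPOmegaOdd m F) (hord : orderOf (δ * x) = orderOf x) :
    Cfsg.IsConjUnder (Cfsg.inndiagPOmegaOdd m F) x (δ * x) := by
  have h2 : (2 : F) ≠ 0 := Cfsg.Agent.Lib.Helper25.Spin.two_ne_zero_of_odd_card hodd
  have hQ := Qo_nondeg (m := m) h2
  have hn : 7 ≤ Fintype.card (Unit ⊕ (Fin m ⊕ Fin m)) := by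
    rw [card_odd_index]; omega
  obtain ⟨α, φ, σ, -, hφ, hconj⟩ := hx
  have hfix : Qfix (⇑(Qo m F h2)) σ := qfix_odd σ
  have hnorm : (Cfsg.inndiagPOmegaOdd m F).Normal := by
    rw [inndiag_odd_eq]
    exact pgoAut_normal _ hgam
  have hoφ : orderOf φ = orderOf x := by
    rw [← hconj]
    have e2 : α * x * α⁻¹ = MulAut.conj α x := rfl
    rw [e2, MulEquiv.orderOf_eq]
  have hoσ : orderOf (σ : RingAut F) = orderOf x := by
    rw [← hoφ]
    exact (orderOf_field (Qo m F h2) hQ hn hfix hφ).symm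
  apply Cfsg.Agent.Lib.Helper18.PSLnFld.conjUnder_of_std _ α x δ φ hconj hδ _ hord
  intro d hd hdo
  rw [inndiag_odd_eq, pgoAut_eq] at hd
  obtain ⟨g, rfl⟩ := hd
  have hpow : (theta (Cfsg.quadFormOdd m F) g * φ) ^ orderOf x = 1 := by
    rw [← hoφ, ← hdo]
    exact pow_orderOf_eq_one _
  obtain ⟨h, hh⟩ := field_coset_conj (Qo m F h2) hQ hn hfix hφ (orderOf x) hoσ hx0
    (fun Q' hQ' hfix' _ => hsim_odd σ card_odd_index (Qo m F h2) Q' hQ hfix hQ' hfix') g hpow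
  have hh' : theta (Cfsg.quadFormOdd m F) g * φ =
      theta (Cfsg.quadFormOdd m F) h * φ * (theta (Cfsg.quadFormOdd m F) h)⁻¹ := hh
  refine ⟨theta (Cfsg.quadFormOdd m F) h, ?_, hh'⟩
  rw [inndiag_odd_eq, pgoAut_eq]
  exact ⟨h, rfl⟩

end odd

end Cfsg.Agent.Lib.Helper18.OrthFld
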