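import Mathlib
import Cfsg.Agent.Lib.Helper18.OrthFldD
import Cfsg.Agent.Lib.Helper25.SpinSO

/-!
Base change of similarity and isometry groups of quadratic forms along a field embedding
(helper18).
-/

set_option autoImplicit false
set_option linter.unusedSectionVars false

namespace Cfsg.Agent.Lib.Helper18.OrthFld

open Matrix QuadraticMap Module Cfsg.Agent.Lib.Helper25.GraphSplit Cfsg.Agent.Lib.Helper25.PSim
  Cfsg.Agent.Lib.Helper25.CD Cfsg.Agent.Lib.Helper25.Spin

section basechange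

variable {κ : Type} [Fintype κ] [DecidableEq κ] {F₀ F : Type*} [Field F₀] [Field F]
  (e : F₀ →+* F)

/-- entrywise embedding of vectors -/
def ev (v : κ → F₀) : κ → F := fun i => e (v i)

theorem ev_apply (v : κ → F₀) (i : κ) : ev e v i = e (v i) := rfl

theorem ev_add (u v : κ → F₀) : ev e (u + v) = ev e u + ev e v := by
  funext i
  simp [ev]

theorem ev_smul (a : F₀) (v : κ → F₀) : ev e (a • v) = e a • ev e v := by
  funext i
  simp [ev]

theorem ev_single (i : κ) : ev e (Pi.single i (1 : F₀)) = Pi.single i (1 : F) := by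
  funext j
  by_cases hij : j = i
  · subst hij
    rw [ev_apply, Pi.single_eq_same, Pi.single_eq_same, map_one]
  · rw [ev_apply, Pi.single_eq_of_ne hij, Pi.single_eq_of_ne hij, map_zero]

theorem ev_mulVec (M : Matrix κ κ F₀) (v : κ → F₀) : ev e (M *ᵥ v) = (M.map e) *ᵥ ev e v := by
  funext i
  exact RingHom.map_mulVec e M v i

theorem ev_injective : Function.Injective (ev (κ := κ) e) := by
  intro u v h
  funext i
  exact e.injective (congrFun h i)

/-- two quadratic forms agreeing on the vectors defined over the subfield are equal -/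
theorem quad_ext_ev (Q₁ Q₂ : QuadraticForm F (κ → F))
    (h : ∀ v : κ → F₀, Q₁ (ev e v) = Q₂ (ev e v)) : Q₁ = Q₂ := by
  apply Cfsg.Agent.Lib.Helper15.quad_ext_basis (Pi.basisFun F κ)
  · intro i
    rw [Pi.basisFun_apply, ← ev_single e]
    exact h _
  · intro i j _
    rw [Pi.basisFun_apply, Pi.basisFun_apply]
    unfold polar
    rw [← ev_single e i, ← ev_single e j, ← ev_add, h, h, h]

/-- compatibility of a form over `F` with a form over the subfield -/
def Compat (Q₀ : (κ → F₀) → F₀) (Q : (κ → F) → F) : Prop := ∀ v, Q (ev e v) = e (Q₀ v)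

variable (Q₀ : QuadraticForm F₀ (κ → F₀)) (Q : QuadraticForm F (κ → F))
  (hc : Compat e (⇑Q₀) (⇑Q))

include hc in
theorem polar_compat (u v : κ → F₀) : polar Q (ev e u) (ev e v) = e (polar Q₀ u v) := by
  unfold polar
  rw [← ev_add, hc, hc, hc, map_sub, map_sub]

include hc in
theorem map_mem_sim {g : GL κ F₀} (hg : g ∈ Cfsg.Geo.quadSimilarityGroup (F := F₀) ⇑Q₀) :
    Matrix.GeneralLinearGroup.map e g ∈ Cfsg.Geo.quadSimilarityGroup (F := F) ⇑Q := by
  obtain ⟨c, hcg⟩ := hg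
  refine ⟨Units.map (e : F₀ →* F) c, ?_⟩
  have hq : Q.comp (Matrix.toLin' ((g : Matrix κ κ F₀).map e)) = e (c : F₀) • Q := by
    apply quad_ext_ev e
    intro v
    rw [QuadraticMap.comp_apply, Matrix.toLin'_apply, _root_.smul_apply, smul_eq_mul,
      ← ev_mulVec, hc, hcg, map_mul, hc]
  intro v
  have := DFunLike.congr_fun hq v
  rw [QuadraticMap.comp_apply, Matrix.toLin'_apply, _root_.smul_apply, smul_eq_mul] at this
  exact this

/-- base change of similarities -/
noncomputable def simMap :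
    ↥(Cfsg.Geo.quadSimilarityGroup (F := F₀) ⇑Q₀) →* ↥(Cfsg.Geo.quadSimilarityGroup (F := F) ⇑Q) :=
  ((Matrix.GeneralLinearGroup.map e).comp
    (Cfsg.Geo.quadSimilarityGroup (F := F₀) ⇑Q₀).subtype).codRestrict _
      (fun g => map_mem_sim e Q₀ Q hc g.2)

theorem simMap_coe (g : ↥(Cfsg.Geo.quadSimilarityGroup (F := F₀) ⇑Q₀)) :
    (((simMap e Q₀ Q hc g).1 : GL κ F) : Matrix κ κ F) = ((g.1 : GL κ F₀) : Matrix κ κ F₀).map e :=
  rfl

include hc in
theorem map_mem_iso {g : GL κ F₀} (hg : g ∈ Cfsg.isometryGroup F₀ ⇑Q₀) :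
    Matrix.GeneralLinearGroup.map e g ∈ Cfsg.isometryGroup F ⇑Q := by
  rw [mem_iso_iff'] at hg ⊢
  have hq : Q.comp (Matrix.toLin' ((g : Matrix κ κ F₀).map e)) = Q := by
    apply quad_ext_ev e
    intro v
    rw [QuadraticMap.comp_apply, Matrix.toLin'_apply, ← ev_mulVec, hc, hg, hc]
  intro v
  have := DFunLike.congr_fun hq v
  rw [QuadraticMap.comp_apply, Matrix.toLin'_apply] at this
  exact this

/-- base change of isometries -/
noncomputable def isoMap : ↥(Cfsg.isometryGroup F₀ ⇑Q₀) →* ↥(Cfsg.isometryGroup F ⇑Q) :=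
  ((Matrix.GeneralLinearGroup.map e).comp (Cfsg.isometryGroup F₀ ⇑Q₀).subtype).codRestrict _
    (fun g => map_mem_iso e Q₀ Q hc g.2)

theorem isoMap_coe (g : ↥(Cfsg.isometryGroup F₀ ⇑Q₀)) :
    (((isoMap e Q₀ Q hc g).1 : GL κ F) : Matrix κ κ F) = ((g.1 : GL κ F₀) : Matrix κ κ F₀).map e :=
  rfl

theorem isoMap_mem_omega (s : ↥(Cfsg.isometryGroup F₀ ⇑Q₀)) (hs : s ∈ Cfsg.Omega F₀ ⇑Q₀) :
    isoMap e Q₀ Q hc s ∈ Cfsg.Omega F ⇑Q := by
  have h1 : isoMap e Q₀ Q hc s ∈
      (commutator ↥(Cfsg.isometryGroup F₀ ⇑Q₀)).map (isoMap e Q₀ Q hc) := ⟨s, hs, rfl⟩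
  rw [commutator_def, Subgroup.map_commutator] at h1
  exact Subgroup.commutator_mono le_top le_top h1

theorem isoMap_mem_special (s : ↥(Cfsg.isometryGroup F₀ ⇑Q₀))
    (hs : s ∈ Cfsg.specialIsometryGroup F₀ ⇑Q₀) :
    isoMap e Q₀ Q hc s ∈ Cfsg.specialIsometryGroup F ⇑Q := by
  rw [mem_special_iff_det] at hs ⊢
  rw [isoMap_coe]
  have := RingHom.map_det e ((s.1 : GL κ F₀) : Matrix κ κ F₀)
  rw [RingHom.mapMatrix_apply] at this
  rw [← this, hs, map_one]

include hc in
theorem reflectionMatrix_map (v : κ → F₀) :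
    (Cfsg.reflectionMatrix (⇑Q₀) v).map e = Cfsg.reflectionMatrix (⇑Q) (ev e v) := by
  ext a b
  unfold Cfsg.reflectionMatrix Cfsg.polarVec
  rw [Matrix.map_apply, Matrix.sub_apply, Matrix.sub_apply, Matrix.smul_apply, Matrix.smul_apply,
    Matrix.vecMulVec_apply, Matrix.vecMulVec_apply, smul_eq_mul, smul_eq_mul, map_sub, map_mul,
    map_mul, map_inv₀, ← hc, ← polar_compat e Q₀ Q hc, ev_single, ev_apply]
  congr 1
  by_cases hab : a = b
  · subst hab
    rw [Matrix.one_apply_eq, Matrix.one_apply_eq, map_one]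
  · rw [Matrix.one_apply_ne hab, Matrix.one_apply_ne hab, map_zero]

theorem isoMap_reflM (v : κ → F₀) : isoMap e Q₀ Q hc (reflM Q₀ v) = reflM Q (ev e v) := by
  apply eq_reflM_of_coe
  rw [isoMap_coe, reflM_coe, reflectionMatrix_map e Q₀ Q hc]

theorem isoMap_wordG (vs : List (κ → F₀)) :
    isoMap e Q₀ Q hc (wordG Q₀ vs) = wordG Q (vs.map (ev e)) := by
  induction vs with
  | nil => rw [wordG_nil, map_one, List.map_nil, wordG_nil]
  | cons v vs ih => rw [wordG_cons, map_mul, ih, isoMap_reflM, List.map_cons, wordG_cons]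

include hc in
theorem normProd_map (vs : List (κ → F₀)) :
    normProd Q (vs.map (ev e)) = e (normProd Q₀ vs) := by
  induction vs with
  | nil => rw [List.map_nil, normProd_nil, normProd_nil, map_one]
  | cons v vs ih => rw [List.map_cons, normProd_cons, normProd_cons, ih, hc, map_mul]

theorem theta_simMap_incl (s : ↥(Cfsg.isometryGroup F₀ ⇑Q₀)) :
    simMap e Q₀ Q hc (incl (⇑Q₀) s) = incl (⇑Q) (isoMap e Q₀ Q hc s) := by
  apply Subtype.ext
  apply Units.ext
  rfl

end basechange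

end Cfsg.Agent.Lib.Helper18.OrthFld
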