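import Mathlib
import Cfsg.Agent.Lib.Helper18.OrthFldF

/-!
The centralizer of a standard field automorphism of `PΩ(Q)` in the image of the similarity
group (helper18).
-/

set_option autoImplicit false
set_option linter.unusedSectionVars false

namespace Cfsg.Agent.Lib.Helper18.OrthFld

open Matrix QuadraticMap Module Cfsg.Agent.Lib.Helper25.GraphSplit Cfsg.Agent.Lib.Helper25.PSim
  Cfsg.Agent.Lib.Helper25.CD Cfsg.Agent.Lib.Helper25.Spin

open Cfsg.Agent.Lib.Helper18.PSLnFld (nrm nrm_zero nrm_succ exists_fixed_of_nrm_eq_one)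
open Cfsg.Agent.Lib.Helper18.PSpAut (iterate_entryK)

universe u v

section cent

variable {κ : Type} [Fintype κ] [DecidableEq κ] {F₀ : Type v} {F : Type u} [Field F₀] [Field F]
  [Fintype F₀] [Fintype F] (e : F₀ →+* F)
  (Q₀ : QuadraticForm F₀ (κ → F₀)) (Q : QuadraticForm F (κ → F))
  (hc : Compat e (⇑Q₀) (⇑Q))

/-- the action of the similarity group over the subfield on `PΩ(Q)` -/
noncomputable def PsiF :
    ↥(Cfsg.Geo.quadSimilarityGroup (F := F₀) ⇑Q₀) →* MulAut (Cfsg.POmega F ⇑Q) :=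
  (theta ⇑Q).comp (simMap e Q₀ Q hc)

theorem PsiF_apply (g : ↥(Cfsg.Geo.quadSimilarityGroup (F := F₀) ⇑Q₀)) :
    PsiF e Q₀ Q hc g = theta ⇑Q (simMap e Q₀ Q hc g) := rfl

theorem map_smul_one (c : F₀) :
    (c • (1 : Matrix κ κ F₀)).map e = e c • (1 : Matrix κ κ F) := by
  ext i j
  rw [Matrix.map_apply, Matrix.smul_apply, Matrix.smul_apply, smul_eq_mul, smul_eq_mul, map_mul]
  by_cases hij : i = j
  · rw [hij, Matrix.one_apply_eq, Matrix.one_apply_eq, map_one]
  · rw [Matrix.one_apply_ne hij, Matrix.one_apply_ne hij, map_zero]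

theorem ker_PsiF (hQ₀ : (polarBilin Q₀).Nondegenerate) (hQ : (polarBilin Q).Nondegenerate)
    (hn : 7 ≤ Fintype.card κ) : (PsiF e Q₀ Q hc).ker = (theta ⇑Q₀).ker := by
  have : Nonempty κ := by
    rw [← Fintype.card_pos_iff]
    omega
  ext g
  rw [MonoidHom.mem_ker, MonoidHom.mem_ker, PsiF_apply]
  constructor
  · intro h
    obtain ⟨a, ha0, ha⟩ := scalar_matrix_of_theta_eq_one Q hQ hn _ h
    rw [simMap_coe] at ha
    let i0 : κ := Classical.arbitrary κ
    have h2 := congrFun (congrFun ha i0) i0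
    rw [Matrix.map_apply, Matrix.smul_apply, Matrix.one_apply_eq, smul_eq_mul, mul_one] at h2
    apply theta_eq_one_of_scalar_matrix Q₀ g (((g.1 : GL κ F₀) : Matrix κ κ F₀) i0 i0)
    apply Matrix.map_injective e.injective
    show ((g.1 : GL κ F₀) : Matrix κ κ F₀).map e =
      ((((g.1 : GL κ F₀) : Matrix κ κ F₀) i0 i0) • (1 : Matrix κ κ F₀)).map e
    rw [map_smul_one, h2]
    exact ha
  · intro h
    obtain ⟨a, ha0, ha⟩ := scalar_matrix_of_theta_eq_one Q₀ hQ₀ hn _ h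
    apply theta_eq_one_of_scalar_matrix Q _ (e a)
    rw [simMap_coe, ha, map_smul_one]

variable {σ : RingAut F} (hfix : Qfix (⇑Q) σ) {φ : MulAut (Cfsg.POmega F ⇑Q)}
  (hφ : Cfsg.IsFieldAutPOmegaOf (⇑Q) σ φ)

theorem simF_simMap (he : ∀ b, σ (e b) = e b)
    (g : ↥(Cfsg.Geo.quadSimilarityGroup (F := F₀) ⇑Q₀)) :
    simF (⇑Q) hfix (simMap e Q₀ Q hc g) = simMap e Q₀ Q hc g := by
  apply Subtype.ext
  apply Units.ext
  ext i j
  exact he _

include hfix hφ in
theorem PsiF_mem_centralizer (he : ∀ b, σ (e b) = e b)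
    (g : ↥(Cfsg.Geo.quadSimilarityGroup (F := F₀) ⇑Q₀)) :
    PsiF e Q₀ Q hc g ∈ Subgroup.centralizer {φ} := by
  rw [Subgroup.mem_centralizer_iff]
  intro y hy
  rw [Set.mem_singleton_iff] at hy
  subst hy
  rw [PsiF_apply, field_mul_theta (⇑Q) hfix hφ, simF_simMap e Q₀ Q hc hfix he]

include hfix hφ in
/-- **the centralizer of a standard field automorphism in the image of the similarity group** -/
theorem range_PsiF (hQ : (polarBilin Q).Nondegenerate) (hn : 7 ≤ Fintype.card κ)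
    (r : ℕ) (hσ : orderOf σ = r) (hr : 0 < r)
    (he : ∀ a : F, σ a = a ↔ a ∈ Set.range e) :
    (PsiF e Q₀ Q hc).range = (theta ⇑Q).range ⊓ Subgroup.centralizer {φ} := by
  have he' : ∀ b, σ (e b) = e b := fun b => (he _).2 ⟨b, rfl⟩
  have hne : Nonempty κ := by
    rw [← Fintype.card_pos_iff]
    omega
  apply le_antisymm
  · rintro _ ⟨g, rfl⟩
    exact ⟨⟨_, rfl⟩, PsiF_mem_centralizer e Q₀ Q hc hfix hφ he' g⟩
  · rintro d ⟨⟨g, rfl⟩, hcen⟩
    have hcen : theta ⇑Q g ∈ Subgroup.centralizer {φ} := hcen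
    rw [Subgroup.mem_centralizer_iff] at hcen
    have h1 := hcen _ rfl
    rw [field_mul_theta (⇑Q) hfix hφ] at h1
    have h2 : theta ⇑Q (simF (⇑Q) hfix g) = theta ⇑Q g := mul_right_cancel h1
    have h3 : theta ⇑Q (g⁻¹ * simF (⇑Q) hfix g) = 1 := by
      rw [map_mul, map_inv, h2, inv_mul_cancel]
    obtain ⟨lam, hlam0, hlam⟩ := scalar_matrix_of_theta_eq_one Q hQ hn _ h3
    set G : Matrix κ κ F := ((g.1 : GL κ F) : Matrix κ κ F) with hG
    have hGσ : G.map σ = lam • G := by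
      have h4 : (((simF (⇑Q) hfix g).1 : GL κ F) : Matrix κ κ F) =
          G * (((g⁻¹ * simF (⇑Q) hfix g :
            ↥(Cfsg.Geo.quadSimilarityGroup (F := F) ⇑Q)) : GL κ F) : Matrix κ κ F) := by
        rw [hG, ← Units.val_mul, ← Subgroup.coe_mul, mul_inv_cancel_left]
      rw [hlam, Matrix.mul_smul, Matrix.mul_one] at h4
      exact h4
    have hGu : IsUnit G := ⟨g.1, rfl⟩
    obtain ⟨a, b, hab⟩ : ∃ a b, G a b ≠ 0 := by
      by_contra hcon
      push Not at hcon
      have h0 : G = 0 := by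
        ext a b
        exact hcon a b
      rw [h0] at hGu
      exact not_isUnit_zero hGu
    have hnrm : nrm σ lam r = 1 := by
      have h6 := iterate_entryK σ G _ hGσ r a b
      rw [← hσ, pow_orderOf_eq_one, hσ] at h6
      have h7 : G a b * 1 = G a b * nrm σ lam r := by
        rw [mul_one]
        exact h6
      exact (mul_left_cancel₀ hab h7).symm
    obtain ⟨ν, hν0, hν⟩ := exists_fixed_of_nrm_eq_one σ r hσ hr lam hnrm
    have hfixG : ∀ a b, σ (ν * G a b) = ν * G a b := by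
      intro a b
      have h5 := congrFun (congrFun hGσ a) b
      rw [Matrix.map_apply, Matrix.smul_apply, smul_eq_mul] at h5
      rw [map_mul, h5]
      calc σ ν * (lam * G a b) = (lam * σ ν) * G a b := by ring
        _ = _ := by rw [hν]
    choose g₀ hg₀ using fun a b => (he _).1 (hfixG a b)
    have hmap : (Matrix.of g₀ : Matrix κ κ F₀).map e = ν • G := by
      ext a b
      rw [Matrix.map_apply, Matrix.of_apply, hg₀, Matrix.smul_apply, smul_eq_mul]
    have hdet : (Matrix.of g₀ : Matrix κ κ F₀).det ≠ 0 := by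
      intro h0
      have h8 : ((Matrix.of g₀ : Matrix κ κ F₀).map e).det = 0 := by
        have := (RingHom.map_det e (Matrix.of g₀ : Matrix κ κ F₀)).symm
        rw [RingHom.mapMatrix_apply] at this
        rw [this, h0, map_zero]
      rw [hmap, Matrix.det_smul] at h8
      have h9 : G.det ≠ 0 := ((Matrix.isUnit_iff_isUnit_det _).1 hGu).ne_zero
      exact (mul_ne_zero (pow_ne_zero _ hν0) h9) h8
    obtain ⟨cg, hcg⟩ := g.2
    -- the descended matrix is a similarity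
    have hval : ∀ v : κ → F₀, e (Q₀ ((Matrix.of g₀ : Matrix κ κ F₀) *ᵥ v)) =
        (ν ^ 2 * (cg : F)) * e (Q₀ v) := by
      intro v
      rw [← hc, ev_mulVec, hmap, Matrix.smul_mulVec, QuadraticMap.map_smul, smul_eq_mul, hcg, hc]
      ring
    obtain ⟨v₁, hv₁⟩ : ∃ v₁ : κ → F₀, Q₀ v₁ ≠ 0 := by
      by_contra hcon
      push Not at hcon
      have h0 : Q = 0 := by
        apply quad_ext_ev e
        intro v
        rw [hc, hcon, map_zero]
        rfl
      have h1 : (Pi.single (Classical.arbitrary κ) (1 : F) : κ → F) = 0 := by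
        apply hQ.1
        intro w
        rw [polarBilin_apply_apply, h0]
        simp [polar]
      have h2 := congrFun h1 (Classical.arbitrary κ)
      rw [Pi.single_eq_same] at h2
      exact one_ne_zero h2
    set c₀ : F₀ := Q₀ ((Matrix.of g₀ : Matrix κ κ F₀) *ᵥ v₁) / Q₀ v₁ with hc₀
    have hec₀ : e c₀ = ν ^ 2 * (cg : F) := by
      rw [hc₀, map_div₀, hval v₁, mul_div_assoc, div_self, mul_one]
      intro h0
      apply hv₁
      apply e.injective
      rw [h0, map_zero]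
    have hc₀0 : c₀ ≠ 0 := by
      intro h0
      rw [h0, map_zero] at hec₀
      exact (mul_ne_zero (pow_ne_zero _ hν0) cg.ne_zero) hec₀.symm
    let G₀ : GL κ F₀ := Matrix.GeneralLinearGroup.mkOfDetNeZero (Matrix.of g₀) hdet
    have hG₀ : G₀ ∈ Cfsg.Geo.quadSimilarityGroup (F := F₀) ⇑Q₀ := by
      refine ⟨Units.mk0 c₀ hc₀0, fun v => ?_⟩
      apply e.injective
      show e (Q₀ ((Matrix.of g₀ : Matrix κ κ F₀) *ᵥ v)) = e (c₀ * Q₀ v)
      rw [hval, map_mul, hec₀]
    refine ⟨⟨G₀, hG₀⟩, ?_⟩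
    rw [PsiF_apply]
    have h5 : theta ⇑Q (simMap e Q₀ Q hc ⟨G₀, hG₀⟩ * g⁻¹) = 1 := by
      apply theta_eq_one_of_scalar_matrix Q _ ν
      have e1 : ((simMap e Q₀ Q hc ⟨G₀, hG₀⟩ * g⁻¹ :
          ↥(Cfsg.Geo.quadSimilarityGroup (F := F) ⇑Q)) : GL κ F) =
          (simMap e Q₀ Q hc ⟨G₀, hG₀⟩).1 * g.1⁻¹ := rfl
      rw [e1, Units.val_mul, simMap_coe]
      show (Matrix.of g₀ : Matrix κ κ F₀).map e * _ = _
      rw [hmap, hG, Matrix.smul_mul, ← Units.val_mul, mul_inv_cancel, Units.val_one]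
    rw [map_mul, map_inv, mul_inv_eq_one] at h5
    exact h5

include hc hfix hφ in
/-- the centralizer is the image of the similarity group over the fixed field -/
theorem nonempty_centralizer_equiv (hQ₀ : (polarBilin Q₀).Nondegenerate)
    (hQ : (polarBilin Q).Nondegenerate) (hn : 7 ≤ Fintype.card κ)
    (r : ℕ) (hσ : orderOf σ = r) (hr : 0 < r)
    (he : ∀ a : F, σ a = a ↔ a ∈ Set.range e) :
    Nonempty (↥((theta ⇑Q).range ⊓ Subgroup.centralizer {φ}) ≃* ↥((theta ⇑Q₀).range)) := by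
  rw [← range_PsiF e Q₀ Q hc hfix hφ hQ hn r hσ hr he]
  have e1 := QuotientGroup.quotientKerEquivRange (PsiF e Q₀ Q hc)
  have e2 : ↥(Cfsg.Geo.quadSimilarityGroup (F := F₀) ⇑Q₀) ⧸ (PsiF e Q₀ Q hc).ker ≃*
      ↥(Cfsg.Geo.quadSimilarityGroup (F := F₀) ⇑Q₀) ⧸ (theta ⇑Q₀).ker :=
    QuotientGroup.quotientMulEquivOfEq (ker_PsiF e Q₀ Q hc hQ₀ hQ hn)
  have e3 := QuotientGroup.quotientKerEquivRange (theta ⇑Q₀)
  exact ⟨(e1.symm.trans e2).trans e3⟩

end cent

end Cfsg.Agent.Lib.Helper18.OrthFld
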