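import Mathlib
import Cfsg.Agent.Lib.Helper18.OrthFldG
import Cfsg.Agent.Lib.Helper18.PSLnFldE
import Cfsg.Agent.Lib.Helper25.POmegaSim3
import Cfsg.Agent.Lib.Helper25.SpinIndex

/-!
Odd-dimensional orthogonal groups: the image of the similarity group is the special orthogonal
group; splitting of the class of a field automorphism (helper18).
-/

set_option autoImplicit false
set_option linter.unusedSectionVars false

namespace Cfsg.Agent.Lib.Helper18.OrthFld

open Matrix QuadraticMap Module Cfsg.Agent.Lib.Helper25.GraphSplit Cfsg.Agent.Lib.Helper25.PSim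
  Cfsg.Agent.Lib.Helper25.CD Cfsg.Agent.Lib.Helper25.Spin

universe u

section oddstruct

variable {κ : Type} [Fintype κ] [DecidableEq κ] {F : Type u} [Field F] [Fintype F]
  (Q : QuadraticForm F (κ → F)) (u₀ : κ → F) (hu₀ : Q u₀ = 1)
  (h2 : (2 : F) ≠ 0) (hQ : (polarBilin Q).Nondegenerate) {m : ℕ}
  (hcard : Fintype.card κ = 2 * m + 1)

include hu₀ hQ hcard in
/-- in odd dimension every similarity is a scalar multiple of a special isometry -/
theorem exists_special_of_sim (g : ↥(Cfsg.Geo.quadSimilarityGroup (F := F) ⇑Q)) :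
    ∃ (s : ↥(Cfsg.isometryGroup F ⇑Q)) (c : F), s ∈ Cfsg.specialIsometryGroup F ⇑Q ∧ c ≠ 0 ∧
      ∀ x, (g.1 : Matrix κ κ F) *ᵥ x = c • ((s.1 : Matrix κ κ F) *ᵥ x) := by
  set μ : F := (mult Q u₀ hu₀ g : F) with hμ
  have hμ0 : μ ≠ 0 := (mult Q u₀ hu₀ g).ne_zero
  set D : F := (g.1 : Matrix κ κ F).det with hD
  have hD0 : D ≠ 0 := by
    have hu : IsUnit (g.1 : Matrix κ κ F) := ⟨g.1, rfl⟩
    exact ((Matrix.isUnit_iff_isUnit_det _).1 hu).ne_zero
  have hsq : D ^ 2 = μ ^ (2 * m + 1) := by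
    have := det_sq Q u₀ hu₀ hQ g
    rwa [hcard] at this
  set c : F := D / μ ^ m with hc
  have hμm : μ ^ m ≠ 0 := pow_ne_zero m hμ0
  have hc0 : c ≠ 0 := div_ne_zero hD0 hμm
  have hc2 : μ = c ^ 2 := by
    rw [hc, div_pow, hsq, pow_succ, ← pow_mul, mul_comm m 2, mul_comm (μ ^ (2 * m)) μ,
      mul_div_assoc, div_self (pow_ne_zero _ hμ0), mul_one]
  obtain ⟨s, hs⟩ := exists_iso_of_sq Q u₀ hu₀ g c hc2
  refine ⟨s, c, ?_, hc0, hs⟩
  rw [mem_special_iff_det]
  have hM : (g.1 : Matrix κ κ F) = c • (s.1 : Matrix κ κ F) := by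
    apply matrix_eq_of_mulVec
    intro x
    rw [hs, Matrix.smul_mulVec]
  have hdet : D = c ^ (2 * m + 1) * ((s.1 : GL κ F) : Matrix κ κ F).det := by
    rw [hD, hM, Matrix.det_smul, hcard]
  have hcD : c ^ (2 * m + 1) = D := by
    rw [pow_succ, pow_mul, ← hc2, hc]
    field_simp
  rw [hcD] at hdet
  have : D * 1 = D * ((s.1 : GL κ F) : Matrix κ κ F).det := by
    rw [mul_one]
    exact hdet
  exact (mul_left_cancel₀ hD0 this).symm

/-- the action of the special orthogonal group on `PΩ(Q)` -/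
noncomputable def thetaSO :
    ↥(Cfsg.specialIsometryGroup F ⇑Q) →* MulAut (Cfsg.POmega F ⇑Q) :=
  ((theta ⇑Q).comp (incl ⇑Q)).comp (Cfsg.specialIsometryGroup F ⇑Q).subtype

theorem thetaSO_apply (s : ↥(Cfsg.specialIsometryGroup F ⇑Q)) :
    thetaSO Q s = theta ⇑Q (incl ⇑Q s.1) := rfl

include hu₀ h2 hcard in
theorem thetaSO_injective (hQ : (polarBilin Q).Nondegenerate) (hn : 7 ≤ Fintype.card κ) :
    Function.Injective (thetaSO Q) := by
  rw [injective_iff_map_eq_one]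
  intro s hs
  rw [thetaSO_apply] at hs
  obtain ⟨c, hc0, hc⟩ := scalar_matrix_of_theta_eq_one Q hQ hn _ hs
  rw [incl_val] at hc
  have hdet := (mem_special_iff_det Q s.1).1 s.2
  rw [hc, Matrix.det_smul, Matrix.det_one, mul_one, hcard] at hdet
  have hiso : Q (((s.1.1 : GL κ F) : Matrix κ κ F) *ᵥ u₀) = Q u₀ := Q_iso Q s.1 u₀
  rw [hc, Matrix.smul_mulVec, Matrix.one_mulVec, QuadraticMap.map_smul, hu₀, smul_eq_mul,
    mul_one] at hiso
  have hc1 : c = 1 := by
    have h3 : c ^ (2 * m + 1) = c := by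
      rw [pow_succ, pow_mul, pow_two, hiso, one_pow, one_mul]
    rw [h3] at hdet
    exact hdet
  apply Subtype.ext
  apply Subtype.ext
  apply Units.ext
  rw [hc, hc1, one_smul]
  rfl

include hu₀ hQ hcard in
theorem range_thetaSO : (thetaSO Q).range = (theta ⇑Q).range := by
  apply le_antisymm
  · rintro _ ⟨s, rfl⟩
    exact ⟨_, rfl⟩
  · rintro _ ⟨g, rfl⟩
    obtain ⟨s, c, hs, hc0, hsc⟩ := exists_special_of_sim Q u₀ hu₀ hQ hcard g
    exact ⟨⟨s, hs⟩, (rel_theta Q g s c hc0 hsc).symm⟩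

include h2 in
theorem inn_eq_map_thetaSO (hQ : (polarBilin Q).Nondegenerate) :
    Cfsg.Inn (Cfsg.POmega F ⇑Q) =
      ((Cfsg.Omega F ⇑Q).subgroupOf (Cfsg.specialIsometryGroup F ⇑Q)).map (thetaSO Q) := by
  rw [inn_eq']
  ext β
  constructor
  · rintro ⟨_, ⟨s, hs, rfl⟩, rfl⟩
    exact ⟨⟨s, omega_le_special Q h2 hQ hs⟩, hs, rfl⟩
  · rintro ⟨s, hs, rfl⟩
    exact ⟨_, ⟨s.1, hs, rfl⟩, rfl⟩

include hu₀ h2 hcard in
/-- the inner automorphisms have index two in the image of the similarity group -/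
theorem relIndex_inn_odd (hQ : (polarBilin Q).Nondegenerate) (hn : 7 ≤ Fintype.card κ) :
    (Cfsg.Inn (Cfsg.POmega F ⇑Q)).relIndex (theta ⇑Q).range = 2 := by
  have hfin : 2 ≤ finrank F (κ → F) := by
    rw [Module.finrank_fintype_fun_eq_card]; omega
  obtain ⟨a, ha⟩ := FiniteField.exists_nonsquare (ringChar_ne_two h2)
  obtain ⟨w, hw⟩ := exists_rep Q hQ hfin a
  have ha0 : a ≠ 0 := by
    rintro rfl
    exact ha ⟨0, by simp⟩
  have hidx := omega_relIndex_two Q h2 hQ (u := u₀) (w := w) (by rw [hu₀]; exact one_ne_zero)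
    (by rw [hw]; exact ha0) (by rw [hu₀, hw, one_mul]; exact ha)
  rw [← range_thetaSO Q u₀ hu₀ hQ hcard, inn_eq_map_thetaSO Q h2 hQ, MonoidHom.range_eq_map,
    Subgroup.relIndex_map_map_of_injective _ _ (thetaSO_injective Q u₀ hu₀ h2 hcard hQ hn),
    Subgroup.relIndex_top_right]
  exact hidx

end oddstruct

end Cfsg.Agent.Lib.Helper18.OrthFld
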