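import Mathlib
import Cfsg.Agent.Lib.Helper18.OrthFldH

/-!
Odd-dimensional orthogonal groups: the number of classes into which the class of a field
automorphism of prime order splits (helper18).
-/

set_option autoImplicit false
set_option linter.unusedSectionVars false

namespace Cfsg.Agent.Lib.Helper18.OrthFld

open Matrix QuadraticMap Module Cfsg.Agent.Lib.Helper25.GraphSplit Cfsg.Agent.Lib.Helper25.PSim
  Cfsg.Agent.Lib.Helper25.CD Cfsg.Agent.Lib.Helper25.Spin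

universe u v

section squares

variable {F₀ F : Type*} [Field F₀] [Field F] (e : F₀ →+* F)

/-- nonsquares of the fixed field of an automorphism of odd order stay nonsquares -/
theorem not_isSquare_of_odd (h2 : (2 : F) ≠ 0) (σ : RingAut F) (r : ℕ) (hσ : orderOf σ = r)
    (hr : Odd r) (he : ∀ a : F, σ a = a ↔ a ∈ Set.range e) (b : F₀) (hb : ¬ IsSquare b) :
    ¬ IsSquare (e b) := by
  rintro ⟨c, hc⟩
  have h1 : σ c * σ c = c * c := by
    rw [← map_mul, ← hc]
    exact (he _).2 ⟨b, rfl⟩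
  have h3 : (σ c - c) * (σ c + c) = 0 := by linear_combination h1
  rcases mul_eq_zero.1 h3 with h | h
  · have h4 : σ c = c := by linear_combination h
    obtain ⟨c₀, rfl⟩ := (he c).1 h4
    apply hb
    refine ⟨c₀, ?_⟩
    apply e.injective
    rw [hc, map_mul]
  · have h4 : σ c = -c := by linear_combination h
    have h5 : ∀ i : ℕ, (σ ^ i) c = (-1) ^ i * c := by
      intro i
      induction i with
      | zero => simp
      | succ i ih =>
        rw [pow_succ]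
        show (σ ^ i) (σ c) = _
        rw [h4, map_neg, ih, pow_succ]
        ring
    have h6 := h5 r
    rw [← hσ, pow_orderOf_eq_one, hσ, hr.neg_one_pow] at h6
    have h7 : c = 0 := by
      have h8 : (2 : F) * c = 0 := by
        have : c = -1 * c := h6
        linear_combination this
      exact (mul_eq_zero.1 h8).resolve_left h2
    apply hb
    refine ⟨0, ?_⟩
    apply e.injective
    rw [hc, h7, mul_zero, mul_zero, map_zero]

/-- elements of a subfield of index two are squares -/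
theorem isSquare_of_two [Fintype F₀] [Fintype F] (h2 : (2 : F) ≠ 0)
    (hcard : Fintype.card F = Fintype.card F₀ ^ 2) (b : F₀) : IsSquare (e b) := by
  by_cases hb : b = 0
  · rw [hb, map_zero]
    exact ⟨0, by simp⟩
  have hb' : e b ≠ 0 := by
    intro h
    apply hb
    apply e.injective
    rw [h, map_zero]
  have h2' : (2 : F₀) ≠ 0 := by
    intro h
    apply h2
    have := congrArg e h
    rwa [map_ofNat, map_zero] at this
  have hch : ringChar F ≠ 2 := ringChar_ne_two h2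
  have hch₀ : ringChar F₀ ≠ 2 := ringChar_ne_two h2'
  rw [FiniteField.isSquare_iff hch hb', hcard]
  have hodd : Fintype.card F₀ % 2 = 1 := FiniteField.odd_card_of_char_ne_two hch₀
  obtain ⟨k, hk⟩ : ∃ k, Fintype.card F₀ = 2 * k + 1 := ⟨Fintype.card F₀ / 2, by omega⟩
  have e1 : Fintype.card F₀ ^ 2 / 2 = (Fintype.card F₀ - 1) * (k + 1) := by
    rw [hk]
    have : (2 * k + 1) ^ 2 = 2 * ((2 * k + 1 - 1) * (k + 1)) + 1 := by
      have : 2 * k + 1 - 1 = 2 * k := by omega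
      rw [this]
      ring
    rw [this]
    omega
  rw [e1, pow_mul, ← map_pow, FiniteField.pow_card_sub_one_eq_one b hb, map_one, one_pow]

end squares

section count

variable {κ : Type} [Fintype κ] [DecidableEq κ] {F₀ : Type v} {F : Type u} [Field F₀] [Field F]
  [Fintype F₀] [Fintype F] (e : F₀ →+* F)
  (Q₀ : QuadraticForm F₀ (κ → F₀)) (Q : QuadraticForm F (κ → F))
  (hc : Compat e (⇑Q₀) (⇑Q))
  (h2 : (2 : F) ≠ 0) (hQ₀ : (polarBilin Q₀).Nondegenerate) (hQ : (polarBilin Q).Nondegenerate)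
  {m : ℕ} (hcard : Fintype.card κ = 2 * m + 1) (hn : 7 ≤ Fintype.card κ)
  {σ : RingAut F} (hfix : Qfix (⇑Q) σ) {φ : MulAut (Cfsg.POmega F ⇑Q)}
  (hφ : Cfsg.IsFieldAutPOmegaOf (⇑Q) σ φ)
  (r : ℕ) (hσ : orderOf σ = r) (hr : 0 < r) (he : ∀ a : F, σ a = a ↔ a ∈ Set.range e)

theorem inn_le_range : Cfsg.Inn (Cfsg.POmega F ⇑Q) ≤ (theta ⇑Q).range := by
  rw [inn_eq']
  rintro _ ⟨g, -, rfl⟩
  exact ⟨g, rfl⟩

/-- the subgroup `Inn · C` -/
theorem mem_sup_iff (C : Subgroup (MulAut (Cfsg.POmega F ⇑Q))) (x : MulAut (Cfsg.POmega F ⇑Q)) :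
    x ∈ Cfsg.Inn (Cfsg.POmega F ⇑Q) ⊔ C ↔
      ∃ k ∈ Cfsg.Inn (Cfsg.POmega F ⇑Q), ∃ c ∈ C, x = k * c := by
  rw [← SetLike.mem_coe, Subgroup.normal_mul, Set.mem_mul]
  constructor
  · rintro ⟨k, hk, c, hc, rfl⟩
    exact ⟨k, hk, c, hc, rfl⟩
  · rintro ⟨k, hk, c, hc, rfl⟩
    exact ⟨k, hk, c, hc, rfl⟩

include hc h2 hQ₀ hQ hcard hn hfix hφ hσ hr he in
/-- for `r` odd the class does not split -/
theorem split_odd (hodd : Odd r) :
    Cfsg.splitClassCount (theta ⇑Q).range (Cfsg.Inn (Cfsg.POmega F ⇑Q)) φ = 1 := by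
  have h2' : (2 : F₀) ≠ 0 := by
    intro h
    apply h2
    have := congrArg e h
    rwa [map_ofNat, map_zero] at this
  have hfin₀ : 2 ≤ finrank F₀ (κ → F₀) := by
    rw [Module.finrank_fintype_fun_eq_card]; omega
  obtain ⟨b, hb⟩ := FiniteField.exists_nonsquare (ringChar_ne_two h2')
  obtain ⟨u₁, hu₁⟩ := exists_rep Q₀ hQ₀ hfin₀ 1
  obtain ⟨w₁, hw₁⟩ := exists_rep Q₀ hQ₀ hfin₀ b
  have hb0 : b ≠ 0 := by
    rintro rfl
    exact hb ⟨0, by simp⟩
  have hbF : ¬ IsSquare (e b) := not_isSquare_of_odd e h2 σ r hσ hodd he b hb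
  have hebF : e b ≠ 0 := by
    intro h
    exact hbF ⟨0, by rw [h, mul_zero]⟩
  have hQu : Q (ev e u₁) = 1 := by rw [hc, hu₁, map_one]
  have hQw : Q (ev e w₁) = e b := by rw [hc, hw₁]
  set t₀ : ↥(Cfsg.isometryGroup F₀ ⇑Q₀) := wordG Q₀ [u₁, w₁] with ht₀
  set t : ↥(Cfsg.isometryGroup F ⇑Q) := wordG Q [ev e u₁, ev e w₁] with ht
  have htt₀ : isoMap e Q₀ Q hc t₀ = t := by
    rw [ht₀, isoMap_wordG]
    rfl
  have htC : theta ⇑Q (incl ⇑Q t) ∈ (theta ⇑Q).range ⊓ Subgroup.centralizer {φ} := by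
    rw [← range_PsiF e Q₀ Q hc hfix hφ hQ hn r hσ hr he]
    refine ⟨incl ⇑Q₀ t₀, ?_⟩
    rw [PsiF_apply, theta_simMap_incl, htt₀]
  have hu₀ : Q (ev e u₁) = 1 := hQu
  rw [Cfsg.Agent.Lib.Helper18.PSLnFld.splitClassCount_eq (theta ⇑Q).range
    (Cfsg.Inn (Cfsg.POmega F ⇑Q)) (inn_le_range Q)
    (fun h _ k hk => (Cfsg.innNormal _).conj_mem k hk h) φ
    (Cfsg.Inn (Cfsg.POmega F ⇑Q) ⊔ ((theta ⇑Q).range ⊓ Subgroup.centralizer {φ}))
    (fun x => mem_sup_iff Q _ x), Subgroup.relIndex_eq_one]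
  intro d hd
  rw [← range_thetaSO Q (ev e u₁) hu₀ hQ hcard] at hd
  obtain ⟨s, rfl⟩ := hd
  rw [thetaSO_apply]
  obtain ⟨vs, hvs, hword⟩ := exists_word Q h2 hQ s.1
  have hev : Even vs.length := by
    rw [← mem_special_iff Q h2 hvs, hword]
    exact s.2
  by_cases hsq : IsSquare (normProd Q vs)
  · apply Subgroup.mem_sup_left
    rw [inn_eq']
    refine ⟨_, ⟨s.1, ?_, rfl⟩, rfl⟩
    show s.1 ∈ Cfsg.Omega F ⇑Q
    rw [← hword, mem_omega_iff Q h2 hQ hvs]
    exact ⟨hev, hsq⟩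
  · have hst : s.1 * t ∈ Cfsg.Omega F ⇑Q := by
      have hvs' : ∀ v ∈ vs ++ [ev e u₁, ev e w₁], Q v ≠ 0 := by
        intro v hv
        rcases List.mem_append.1 hv with h | h
        · exact hvs v h
        · simp only [List.mem_cons, List.not_mem_nil, or_false] at h
          rcases h with rfl | rfl
          · rw [hQu]; exact one_ne_zero
          · rw [hQw]; exact hebF
      have e1 : s.1 * t = wordG Q (vs ++ [ev e u₁, ev e w₁]) := by
        rw [wordG_append, hword]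
      rw [e1, mem_omega_iff Q h2 hQ hvs']
      refine ⟨?_, ?_⟩
      · rw [List.length_append]
        exact hev.add ⟨1, rfl⟩
      · rw [normProd_append, normProd_cons, normProd_cons, normProd_nil, hQu, hQw, one_mul,
          mul_one, isSquare_mul_iff (normProd_ne_zero Q hvs) hebF]
        exact ⟨fun h => absurd h hsq, fun h => absurd h hbF⟩
    have e2 : theta ⇑Q (incl ⇑Q s.1) =
        theta ⇑Q (incl ⇑Q (s.1 * t)) * (theta ⇑Q (incl ⇑Q t))⁻¹ := by
      rw [map_mul, map_mul, mul_inv_cancel_right]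
    rw [e2, mem_sup_iff]
    refine ⟨_, ?_, _, inv_mem htC, rfl⟩
    rw [inn_eq']
    exact ⟨_, ⟨_, hst, rfl⟩, rfl⟩

include hc h2 hQ₀ hQ hcard hn hfix hφ hσ hr he in
/-- for `r = 2` the class splits into two classes -/
theorem split_two (hcardF : Fintype.card F = Fintype.card F₀ ^ 2) :
    Cfsg.splitClassCount (theta ⇑Q).range (Cfsg.Inn (Cfsg.POmega F ⇑Q)) φ = 2 := by
  have h2' : (2 : F₀) ≠ 0 := by
    intro h
    apply h2
    have := congrArg e h
    rwa [map_ofNat, map_zero] at this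
  have hfin₀ : 2 ≤ finrank F₀ (κ → F₀) := by
    rw [Module.finrank_fintype_fun_eq_card]; omega
  obtain ⟨u₁, hu₁⟩ := exists_rep Q₀ hQ₀ hfin₀ 1
  have hu₀ : Q (ev e u₁) = 1 := by rw [hc, hu₁, map_one]
  have hCle : (theta ⇑Q).range ⊓ Subgroup.centralizer {φ} ≤ Cfsg.Inn (Cfsg.POmega F ⇑Q) := by
    rw [← range_PsiF e Q₀ Q hc hfix hφ hQ hn r hσ hr he]
    rintro _ ⟨g₀, rfl⟩
    rw [PsiF_apply]
    obtain ⟨s₀, c₀, hs₀, hc₀, hsc⟩ := exists_special_of_sim Q₀ u₁ hu₁ hQ₀ hcard g₀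
    obtain ⟨vs, hvs, hword⟩ := exists_word Q₀ h2' hQ₀ s₀
    have hev : Even vs.length := by
      rw [← mem_special_iff Q₀ h2' hvs, hword]
      exact hs₀
    have hM : ((g₀.1 : GL κ F₀) : Matrix κ κ F₀) = c₀ • ((s₀.1 : GL κ F₀) : Matrix κ κ F₀) := by
      apply matrix_eq_of_mulVec
      intro x
      rw [hsc, Matrix.smul_mulVec]
    have hrel : theta ⇑Q (simMap e Q₀ Q hc g₀) = theta ⇑Q (incl ⇑Q (isoMap e Q₀ Q hc s₀)) := by
      apply rel_theta Q _ _ (e c₀)
      · intro h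
        apply hc₀
        apply e.injective
        rw [h, map_zero]
      · intro x
        rw [simMap_coe, hM, isoMap_coe, ← Matrix.smul_mulVec]
        congr 1
        ext i j
        simp
    rw [hrel, inn_eq']
    refine ⟨_, ⟨_, ?_, rfl⟩, rfl⟩
    show isoMap e Q₀ Q hc s₀ ∈ Cfsg.Omega F ⇑Q
    rw [← hword, isoMap_wordG]
    have hvs' : ∀ v ∈ vs.map (ev e), Q v ≠ 0 := by
      intro v hv
      obtain ⟨v₀, hv₀, rfl⟩ := List.mem_map.1 hv
      rw [hc]
      intro h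
      apply hvs v₀ hv₀
      apply e.injective
      rw [h, map_zero]
    rw [mem_omega_iff Q h2 hQ hvs', List.length_map, normProd_map e Q₀ Q hc]
    exact ⟨hev, isSquare_of_two e h2 hcardF _⟩
  rw [Cfsg.Agent.Lib.Helper18.PSLnFld.splitClassCount_eq (theta ⇑Q).range
    (Cfsg.Inn (Cfsg.POmega F ⇑Q)) (inn_le_range Q)
    (fun h _ k hk => (Cfsg.innNormal _).conj_mem k hk h) φ
    (Cfsg.Inn (Cfsg.POmega F ⇑Q) ⊔ ((theta ⇑Q).range ⊓ Subgroup.centralizer {φ}))
    (fun x => mem_sup_iff Q _ x), sup_eq_left.2 hCle]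
  exact relIndex_inn_odd Q (ev e u₁) hu₀ h2 hcard hQ hn

end count

end Cfsg.Agent.Lib.Helper18.OrthFld
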