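import Mathlib
import Cfsg.Agent.Lib.Helper18.OrthFldE
import Cfsg.Agent.Lib.Helper18.OrthFldI
import Cfsg.Agent.Lib.Helper18.PSLnFldF

/-!
Field automorphisms of prime order of `Ω_{2m+1}(F)`: centralizer and splitting of the class
(helper18).
-/

set_option autoImplicit false
set_option linter.unusedSectionVars false

namespace Cfsg.Agent.Lib.Helper18.OrthFld

open Matrix QuadraticMap Module Cfsg.Agent.Lib.Helper25.GraphSplit Cfsg.Agent.Lib.Helper25.PSim

universe u v

section odd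

variable {F : Type u} [Field F] {F₀ : Type v} [Field F₀] {m : ℕ}

theorem compat_odd (e : F₀ →+* F) :
    Compat e (Cfsg.quadFormOdd m F₀) (Cfsg.quadFormOdd m F) := by
  intro v
  unfold Cfsg.quadFormOdd
  rw [map_add, map_pow, map_sum]
  congr 1
  apply Finset.sum_congr rfl
  intro i _
  rw [map_mul]
  rfl

variable [Fintype F] [Fintype F₀]

set_option maxHeartbeats 1600000 in
/-- **S2714** modulo the determination of the automorphism group -/
theorem odd_field_main {p f : ℕ} [Fact p.Prime] (hF : Fintype.card F = p ^ f)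
    (hodd : Odd (Fintype.card F)) (hm : 3 ≤ m)
    (hgam : Cfsg.gammaPOmega F (Cfsg.quadFormOdd m F) = ⊤)
    (x : MulAut (Cfsg.POmega F (Cfsg.quadFormOdd m F)))
    (hx : Cfsg.IsFieldAutClassPOmega (Cfsg.quadFormOdd m F) x) {r : ℕ} (hr : r.Prime)
    (hxr : orderOf x = r) (hF₀ : Fintype.card F₀ = p ^ (f / r)) :
    r ∣ f ∧
    Nonempty (↥(Cfsg.inndiagPOmegaOdd m F ⊓ Subgroup.centralizer {x}) ≃*
      ↥(Cfsg.inndiagPOmegaOdd m F₀)) ∧
    (Odd r → Cfsg.splitClassCount (Cfsg.inndiagPOmegaOdd m F)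
      (Cfsg.Inn (Cfsg.POmega F (Cfsg.quadFormOdd m F))) x = 1) ∧
    (r = 2 → Cfsg.splitClassCount (Cfsg.inndiagPOmegaOdd m F)
      (Cfsg.Inn (Cfsg.POmega F (Cfsg.quadFormOdd m F))) x = 2) := by
  have h2 : (2 : F) ≠ 0 := Cfsg.Agent.Lib.Helper25.Spin.two_ne_zero_of_odd_card hodd
  have hQ := Qo_nondeg (m := m) h2
  have hn : 7 ≤ Fintype.card (Unit ⊕ (Fin m ⊕ Fin m)) := by
    rw [card_odd_index]; omega
  obtain ⟨α, φ, σ, -, hφ, hconj⟩ := hx
  have hfix : Qfix (⇑(Qo m F h2)) σ := qfix_odd σ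
  have hnormal : (Cfsg.inndiagPOmegaOdd m F).Normal := by
    rw [inndiag_odd_eq]
    exact pgoAut_normal _ hgam
  have hoφ : orderOf φ = r := by
    rw [← hconj, ← hxr]
    have e2 : α * x * α⁻¹ = MulAut.conj α x := rfl
    rw [e2, MulEquiv.orderOf_eq]
  have hoσ : orderOf (σ : RingAut F) = r := by
    rw [← hoφ]
    exact (orderOf_field (Qo m F h2) hQ hn hfix hφ).symm
  obtain ⟨hdvd, e, he⟩ := Cfsg.Agent.Lib.Helper18.PSLnFld.exists_fixed_embedding hF σ r hoσ hr.pos
    F₀ hF₀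
  have h2' : (2 : F₀) ≠ 0 := by
    intro h
    apply h2
    have := congrArg e h
    rwa [map_ofNat, map_zero] at this
  have hQ₀ := Qo_nondeg (m := m) (F := F₀) h2'
  have hc : Compat e (⇑(Qo m F₀ h2')) (⇑(Qo m F h2)) := compat_odd e
  refine ⟨hdvd, ?_, ?_, ?_⟩
  · obtain ⟨e1⟩ := Cfsg.Agent.Lib.Helper18.PSLnFld.nonempty_centralizer_conj
      (Cfsg.inndiagPOmegaOdd m F) α x
    rw [hconj] at e1
    obtain ⟨e2⟩ := nonempty_centralizer_equiv e (Qo m F₀ h2') (Qo m F h2) hc hfix hφ hQ₀ hQ hn r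
      hoσ hr.pos he
    have e3 : ↥(Cfsg.inndiagPOmegaOdd m F ⊓ Subgroup.centralizer {φ}) ≃*
        ↥((theta (Cfsg.quadFormOdd m F)).range ⊓ Subgroup.centralizer {φ}) :=
      MulEquiv.subgroupCongr (by rw [inndiag_odd_eq, pgoAut_eq])
    have e4 : ↥((theta (Cfsg.quadFormOdd m F₀)).range) ≃* ↥(Cfsg.inndiagPOmegaOdd m F₀) :=
      MulEquiv.subgroupCongr (by rw [inndiag_odd_eq, pgoAut_eq])
    exact ⟨((e1.trans e3).trans e2).trans e4⟩
  · intro hrodd
    have h1 := Cfsg.Agent.Lib.Helper18.PSLnFld.splitClassCount_conj (Cfsg.inndiagPOmegaOdd m F)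
      (Cfsg.Inn (Cfsg.POmega F (Cfsg.quadFormOdd m F))) α x
      (fun h => ⟨fun hh => hnormal.conj_mem h hh α, fun hh => by
        have := hnormal.conj_mem _ hh α⁻¹
        rw [inv_inv] at this
        have e : α⁻¹ * (α * h * α⁻¹) * α = h := by group
        rwa [e] at this⟩)
      (fun k => ⟨fun hk => (Cfsg.innNormal _).conj_mem k hk α, fun hk => by
        have := (Cfsg.innNormal _).conj_mem _ hk α⁻¹
        rw [inv_inv] at this
        have e : α⁻¹ * (α * k * α⁻¹) * α = k := by group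
        rwa [e] at this⟩)
    rw [← h1, hconj, inndiag_odd_eq, pgoAut_eq]
    exact split_odd e (Qo m F₀ h2') (Qo m F h2) hc h2 hQ₀ hQ card_odd_index hn hfix hφ r hoσ
      hr.pos he hrodd
  · intro hr2
    have h1 := Cfsg.Agent.Lib.Helper18.PSLnFld.splitClassCount_conj (Cfsg.inndiagPOmegaOdd m F)
      (Cfsg.Inn (Cfsg.POmega F (Cfsg.quadFormOdd m F))) α x
      (fun h => ⟨fun hh => hnormal.conj_mem h hh α, fun hh => by
        have := hnormal.conj_mem _ hh α⁻¹
        rw [inv_inv] at this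
        have e : α⁻¹ * (α * h * α⁻¹) * α = h := by group
        rwa [e] at this⟩)
      (fun k => ⟨fun hk => (Cfsg.innNormal _).conj_mem k hk α, fun hk => by
        have := (Cfsg.innNormal _).conj_mem _ hk α⁻¹
        rw [inv_inv] at this
        have e : α⁻¹ * (α * k * α⁻¹) * α = k := by group
        rwa [e] at this⟩)
    have hcardF : Fintype.card F = Fintype.card F₀ ^ 2 := by
      rw [hF, hF₀, ← pow_mul, hr2]
      rw [hr2] at hdvd
      rw [Nat.div_mul_cancel hdvd]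
    rw [← h1, hconj, inndiag_odd_eq, pgoAut_eq]
    exact split_two e (Qo m F₀ h2') (Qo m F h2) hc h2 hQ₀ hQ card_odd_index hn hfix hφ r hoσ
      hr.pos he hcardF

end odd

end Cfsg.Agent.Lib.Helper18.OrthFld
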