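import Mathlib
import Cfsg.Agent.Lib.Helper18.OrthFldB

/-!
Descent data of cocycles in the conformal orthogonal group and conjugacy of cocycles with
similar descents (a twisted form of Lang's theorem) (helper18).
-/

set_option autoImplicit false
set_option linter.unusedSectionVars false

namespace Cfsg.Agent.Lib.Helper18.OrthFld

open Matrix QuadraticMap Module Cfsg.Agent.Lib.Helper18.PSLnFld Cfsg.Agent.Lib.Helper18.PSpAut

section twisted

variable {F : Type*} [Field F] {ι : Type*} [Fintype ι] [DecidableEq ι]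

/-- transporting a nondegenerate form along an invertible matrix and rescaling keeps it
nondegenerate -/
theorem comp_smul_nondeg (Q : QuadraticForm F (ι → F)) (hQ : (polarBilin Q).Nondegenerate)
    (h₁ : Matrix ι ι F) (hh₁ : IsUnit h₁) (a : F) (ha : a ≠ 0) :
    (polarBilin (a • Q.comp (Matrix.toLin' h₁))).Nondegenerate := by
  obtain ⟨h₁', hh₁'⟩ := hh₁.exists_left_inv
  have hh₁'' : h₁ * h₁' = 1 := mul_eq_one_comm.mp hh₁'
  have hval : ∀ v, (a • Q.comp (Matrix.toLin' h₁)) v = a * Q (h₁ *ᵥ v) := fun v => by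
    rw [_root_.smul_apply, smul_eq_mul, QuadraticMap.comp_apply, Matrix.toLin'_apply]
  have key : ∀ u, (∀ v, polar (a • Q.comp (Matrix.toLin' h₁)) u v = 0) → u = 0 := by
    intro u hu
    have h1 : h₁ *ᵥ u = 0 := by
      apply hQ.1
      intro w
      rw [polarBilin_apply_apply]
      have := hu (h₁' *ᵥ w)
      unfold polar at this
      rw [hval, hval, hval, Matrix.mulVec_add, Matrix.mulVec_mulVec, hh₁'', Matrix.one_mulVec,
        ← mul_sub, ← mul_sub] at this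
      exact (mul_eq_zero.1 this).resolve_left ha
    have h2 : u = h₁' *ᵥ (h₁ *ᵥ u) := by
      rw [Matrix.mulVec_mulVec, hh₁', Matrix.one_mulVec]
    rw [h2, h1, Matrix.mulVec_zero]
  constructor
  · intro u hu
    exact key u (fun v => by rw [← polarBilin_apply_apply]; exact hu v)
  · intro u hu
    exact key u (fun v => by rw [polar_comm, ← polarBilin_apply_apply]; exact hu v)

/-- **descent datum of a cocycle**: a cocycle with values in the similarity group of a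
`σ`-fixed form whose norm is a scalar gives an `F`-similar `σ`-fixed form -/
theorem descent_datum [Finite F] [Nonempty ι] (σ : RingAut F) (r : ℕ) (hσ : orderOf σ = r)
    (hr : 0 < r) (Q : QuadraticForm F (ι → F)) (hQ : (polarBilin Q).Nondegenerate)
    (hfix : Qfix Q σ)
    (A : ℕ → Matrix ι ι F) (hA0 : A 0 = 1) (hA : ∀ i, A (i + 1) = A 1 * (A i).map σ)
    (μ : F) (hμ : μ ≠ 0) (hAr : A r = μ • (1 : Matrix ι ι F)) (c : F)
    (hc : ∀ v, Q (A 1 *ᵥ v) = c * Q v) :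
    ∃ (h₁ : Matrix ι ι F) (ν a : F), IsUnit h₁ ∧ ν ≠ 0 ∧ a ≠ 0 ∧ A 1 * h₁.map σ = ν • h₁ ∧
      Qfix (⇑(a • Q.comp (Matrix.toLin' h₁))) σ ∧
      (polarBilin (a • Q.comp (Matrix.toLin' h₁))).Nondegenerate := by
  obtain ⟨h₁, ν, hh₁, hν0, hfixh⟩ := exists_matrix_fixed_scalarK σ r hσ hr A hA0 hA μ hμ hAr
  set Q₁ : QuadraticForm F (ι → F) := Q.comp (Matrix.toLin' h₁) with hQ₁def
  have hQ₁ : ∀ v, Q₁ v = Q (h₁ *ᵥ v) := fun v => by
    rw [hQ₁def, QuadraticMap.comp_apply, Matrix.toLin'_apply]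
  have hnd1 := comp_smul_nondeg Q hQ h₁ hh₁ 1 one_ne_zero
  rw [one_smul] at hnd1
  have hsemi : ∀ v, ν ^ 2 * Q₁ (fun i => σ (v i)) = c * σ (Q₁ v) := by
    intro v
    have e1 : Q ((A 1 * h₁.map σ) *ᵥ (fun i => σ (v i))) = c * σ (Q₁ v) := by
      rw [← Matrix.mulVec_mulVec, hc, ← map_mulVecK, hfix, hQ₁]
    rw [hfixh, Matrix.smul_mulVec, QuadraticMap.map_smul, smul_eq_mul, ← hQ₁] at e1
    rw [← e1]
    ring
  obtain ⟨v₀, hv₀, hQv₀⟩ : ∃ v₀, VFix σ v₀ ∧ Q₁ v₀ ≠ 0 := by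
    by_contra hcon
    push Not at hcon
    have h0 : Q₁ = 0 := by
      apply quad_ext_fixed σ
      intro v hv
      rw [hcon v hv]
      rfl
    have i₀ : ι := Classical.arbitrary ι
    have h1 : (Pi.single i₀ (1 : F) : ι → F) = 0 := by
      apply hnd1.1
      intro v
      rw [polarBilin_apply_apply, ← hQ₁def, h0]
      simp [polar]
    have h2 := congrFun h1 i₀
    rw [Pi.single_eq_same] at h2
    exact one_ne_zero h2
  set a : F := Q₁ v₀ with hadef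
  have ha : ν ^ 2 * a = c * σ a := by
    have := hsemi v₀
    have e : (fun i => σ (v₀ i)) = v₀ := funext hv₀
    rwa [e] at this
  have hσa : σ a ≠ 0 := by
    intro h0
    apply hQv₀
    have : σ a = σ 0 := by rw [h0, map_zero]
    exact σ.injective this
  refine ⟨h₁, ν, a⁻¹, hh₁, hν0, inv_ne_zero hQv₀, hfixh, ?_,
    comp_smul_nondeg Q hQ h₁ hh₁ a⁻¹ (inv_ne_zero hQv₀)⟩
  intro v
  rw [← hQ₁def, _root_.smul_apply, _root_.smul_apply, smul_eq_mul, smul_eq_mul, map_mul, map_inv₀]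
  rw [inv_mul_eq_iff_eq_mul₀ hQv₀]
  apply mul_left_cancel₀ (pow_ne_zero 2 hν0)
  rw [hsemi v]
  calc c * σ (Q₁ v) = (c * σ a) * ((σ a)⁻¹ * σ (Q₁ v)) := by
        rw [mul_assoc, ← mul_assoc (σ a), mul_inv_cancel₀ hσa, one_mul]
    _ = ν ^ 2 * (a * ((σ a)⁻¹ * σ (Q₁ v))) := by rw [← ha]; ring

/-- **conjugacy of cocycles with similar descents** -/
theorem conj_of_similar (σ : RingAut F) (Q : QuadraticForm F (ι → F))
    (g₁ g₂ h₁ h₂ k : Matrix ι ι F) (ν₁ ν₂ a₁ a₂ d : F)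
    (hh₁ : IsUnit h₁) (hh₂ : IsUnit h₂) (hk : IsUnit k) (hg₂ : IsUnit g₂) (hkσ : k.map σ = k)
    (hν₂ : ν₂ ≠ 0) (ha₁ : a₁ ≠ 0)
    (e₁ : g₁ * h₁.map σ = ν₁ • h₁) (e₂ : g₂ * h₂.map σ = ν₂ • h₂)
    (hsim : ∀ v, a₁ * Q (h₁ *ᵥ (k *ᵥ v)) = d * (a₂ * Q (h₂ *ᵥ v))) :
    ∃ h : Matrix ι ι F, IsUnit h ∧ g₁ * h.map σ = (ν₁ / ν₂) • (h * g₂) ∧
      ∀ w, Q (h *ᵥ w) = (d * a₂ / a₁) * Q w := by
  obtain ⟨h₂', hh₂'⟩ := hh₂.exists_left_inv
  have hh₂'' : h₂ * h₂' = 1 := mul_eq_one_comm.mp hh₂'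
  obtain ⟨g₂', hg₂'⟩ := hg₂.exists_left_inv
  have hu' : IsUnit h₂' := ⟨⟨h₂', h₂, hh₂', hh₂''⟩, rfl⟩
  have hσinv : h₂'.map σ * h₂.map σ = 1 := by
    rw [← Matrix.map_mul, hh₂']
    ext i j
    by_cases hij : i = j
    · subst hij
      simp
    · simp [hij]
  -- σ(h₂') = ν₂⁻¹ h₂' g₂
  have hσinv' : h₂.map σ * h₂'.map σ = 1 := mul_eq_one_comm.mp hσinv
  have hσh₂' : h₂'.map σ = ν₂⁻¹ • (h₂' * g₂) := by
    have h1 : (ν₂⁻¹ • (h₂' * g₂)) * h₂.map σ = 1 := by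
      rw [Matrix.smul_mul, Matrix.mul_assoc, e₂, Matrix.mul_smul, hh₂', smul_smul,
        inv_mul_cancel₀ hν₂, one_smul]
    calc h₂'.map σ = ((ν₂⁻¹ • (h₂' * g₂)) * h₂.map σ) * h₂'.map σ := by rw [h1, Matrix.one_mul]
      _ = ν₂⁻¹ • (h₂' * g₂) := by rw [Matrix.mul_assoc, hσinv', Matrix.mul_one]
  refine ⟨h₁ * k * h₂', (hh₁.mul hk).mul hu', ?_, ?_⟩
  · rw [Matrix.map_mul, Matrix.map_mul, hkσ, hσh₂', ← Matrix.mul_assoc, ← Matrix.mul_assoc, e₁,
      Matrix.smul_mul, Matrix.smul_mul, Matrix.mul_smul, smul_smul, div_eq_mul_inv]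
    congr 1
    simp only [Matrix.mul_assoc]
  · intro w
    have h3 := hsim (h₂' *ᵥ w)
    rw [Matrix.mulVec_mulVec w h₂ h₂', hh₂'', Matrix.one_mulVec] at h3
    rw [← Matrix.mulVec_mulVec, ← Matrix.mulVec_mulVec]
    have h4 : Q (h₁ *ᵥ (k *ᵥ (h₂' *ᵥ w))) = a₁⁻¹ * (d * (a₂ * Q w)) := by
      rw [← h3, ← mul_assoc, inv_mul_cancel₀ ha₁, one_mul]
    rw [h4]
    field_simp

end twisted

end Cfsg.Agent.Lib.Helper18.OrthFld
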