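import Cfsg.Agent.Lib.Helper25.CDOdd
import Cfsg.Agent.Lib.Helper25.OrthGeom

set_option autoImplicit false

/-!
# Normal subgroups of odd order of finite orthogonal groups (odd characteristic)

For a nondegenerate quadratic space `(V, Q)` over a finite field of odd characteristic whose
dimension is not `2`, a subgroup of odd order of the isometry group `OG Q` normalised by `OG Q`
is trivial.  (Group-theoretic preliminaries and the geometry of dimension `3`.)
-/

namespace Cfsg.Agent.Lib.Helper18.OrthGr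

open Module QuadraticMap Cfsg.Agent.Lib.Helper25.CD Cfsg.Agent.Lib.Helper15

universe u

section group

variable {G : Type*} [Group G]

/-- an involution normalising a finite subgroup `K` and centralising no nontrivial element of
`K` inverts `K` -/
theorem inverts_of_fpf (K : Subgroup G) [Finite K] (z : G) (hz2 : z * z = 1)
    (hnorm : ∀ k ∈ K, z * k * z⁻¹ ∈ K) (hfix : ∀ k ∈ K, z * k = k * z → k = 1) :
    ∀ k ∈ K, z * k * z⁻¹ = k⁻¹ := by
  have hzinv : z⁻¹ = z := inv_eq_of_mul_eq_one_left hz2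
  let f : ↥K → ↥K := fun k => ⟨(k : G)⁻¹ * (z * (k : G) * z⁻¹),
    K.mul_mem (K.inv_mem k.2) (hnorm _ k.2)⟩
  have hinj : Function.Injective f := by
    intro k l hkl
    have h1 : (k : G)⁻¹ * (z * (k : G) * z⁻¹) = (l : G)⁻¹ * (z * (l : G) * z⁻¹) :=
      congrArg Subtype.val hkl
    have h2 : (l : G) * (k : G)⁻¹ * z = z * ((l : G) * (k : G)⁻¹) := by
      calc (l : G) * (k : G)⁻¹ * z
          = (l : G) * ((k : G)⁻¹ * (z * (k : G) * z⁻¹)) * (z * (k : G)⁻¹) := by group
        _ = (l : G) * ((l : G)⁻¹ * (z * (l : G) * z⁻¹)) * (z * (k : G)⁻¹) := by rw [h1]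
        _ = z * ((l : G) * (k : G)⁻¹) := by group
    have h3 := hfix _ (K.mul_mem l.2 (K.inv_mem k.2)) h2.symm
    apply Subtype.ext
    have h4 : (l : G) = (k : G) := by
      calc (l : G) = (l : G) * (k : G)⁻¹ * (k : G) := by group
        _ = (k : G) := by rw [h3, one_mul]
    exact h4.symm
  have hsurj : Function.Surjective f := Finite.injective_iff_surjective.mp hinj
  intro x hx
  obtain ⟨k, hk⟩ := hsurj ⟨x, hx⟩
  have hk' : (k : G)⁻¹ * (z * (k : G) * z⁻¹) = x := congrArg Subtype.val hk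
  rw [← hk']
  have hzz : z⁻¹ * z⁻¹ = 1 := by rw [hzinv]; exact hz2
  calc z * ((k : G)⁻¹ * (z * (k : G) * z⁻¹)) * z⁻¹
      = (z * (k : G)⁻¹ * z⁻¹) * ((z * z) * (k : G) * (z⁻¹ * z⁻¹)) := by group
    _ = (z * (k : G)⁻¹ * z⁻¹) * (k : G) := by rw [hz2, hzz]; group
    _ = ((k : G)⁻¹ * (z * (k : G) * z⁻¹))⁻¹ := by group

/-- in a subgroup of odd order, an element with trivial square is trivial -/
theorem eq_one_of_sq_of_odd (N : Subgroup G) (hodd : Odd (Nat.card N)) {m : G} (hm : m ∈ N)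
    (h : m * m = 1) : m = 1 := by
  have h1 : orderOf (⟨m, hm⟩ : ↥N) ∣ 2 := by
    apply orderOf_dvd_of_pow_eq_one
    apply Subtype.ext
    rw [pow_two]
    exact h
  have h2 : orderOf (⟨m, hm⟩ : ↥N) ∣ Nat.card N := orderOf_dvd_natCard _
  have h3 : orderOf (⟨m, hm⟩ : ↥N) = 1 := by
    rcases (Nat.dvd_prime Nat.prime_two).1 h1 with h | h
    · exact h
    · exfalso
      rw [h] at h2
      exact (Nat.not_even_iff_odd.2 hodd) (even_iff_two_dvd.2 h2)
  have h4 := orderOf_eq_one_iff.1 h3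
  exact congrArg Subtype.val h4

/-- in a subgroup of odd order, an element whose `k`-th power is trivial... here: if
`m ∈ N` acts on a vector by a sign, the sign is `1` -/
theorem pow_card_eq_one (N : Subgroup G) [Finite N] {m : G} (hm : m ∈ N) :
    m ^ Nat.card N = 1 := by
  have h : (⟨m, hm⟩ : ↥N) ^ Nat.card N = 1 := pow_card_eq_one'
  exact congrArg Subtype.val h

end group

section geometry

variable {F : Type*} [Field F] {V : Type u} [AddCommGroup V] [Module F V]
  (Q : QuadraticForm F V)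

/-- an isometry of odd order mapping `u` to `± u` fixes `u` -/
theorem fix_of_sign (N : Subgroup (V ≃ₗ[F] V)) (hodd : Odd (Nat.card N)) {m : V ≃ₗ[F] V}
    (hm : m ∈ N) {u : V} {ε : F} (hε : ε * ε = 1) (hmu : m u = ε • u) : m u = u := by
  have hfin : Finite N := Nat.finite_of_card_ne_zero (fun h => by rw [h] at hodd; simp at hodd)
  have h1 : ∀ k : ℕ, (m ^ k) u = ε ^ k • u := by
    intro k
    induction k with
    | zero => simp
    | succ k ih =>
      rw [pow_succ, LinearEquiv.mul_apply, hmu, map_smul, ih, smul_smul, pow_succ, mul_comm]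
  have h2 := h1 (Nat.card N)
  rw [pow_card_eq_one N hm, LinearEquiv.coe_one, id_eq] at h2
  obtain ⟨j, hj⟩ := hodd
  have h3 : ε ^ Nat.card N = ε := by
    rw [hj, pow_succ, pow_mul, pow_two, hε, one_pow, one_mul]
  rw [h3] at h2
  rw [hmu, ← h2]

end geometry

section dim3

variable {F : Type*} [Field F] [Finite F] {V : Type u} [AddCommGroup V] [Module F V]
  [FiniteDimensional F V] (Q : QuadraticForm F V)

/-- in dimension `3`, two orthogonal singular vectors are proportional -/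
theorem exists_smul_of_sing_perp (hQ : (polarBilin Q).Nondegenerate) (h3 : finrank F V = 3)
    {e e' : V} (he0 : e ≠ 0) (he : Q e = 0) (he' : Q e' = 0) (hee' : polar Q e e' = 0) :
    ∃ c : F, e' = c • e := by
  have hTS := Cfsg.Agent.Lib.Helper25.OGeom.ts_span_pair Q he he' hee'
  have h1 := Submodule.finrank_mono hTS.le_perp
  rw [Cfsg.Agent.Lib.Helper25.MaxTS.finrank_perp hQ, h3] at h1
  have h2 : finrank F (Submodule.span F ({e, e'} : Set V)) ≤ 1 := by omega
  obtain ⟨v, hv⟩ := finrank_le_one_iff.1 h2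
  have heU : e ∈ Submodule.span F ({e, e'} : Set V) := Submodule.subset_span (by simp)
  have he'U : e' ∈ Submodule.span F ({e, e'} : Set V) := Submodule.subset_span (by simp)
  obtain ⟨a, ha⟩ := hv ⟨e, heU⟩
  obtain ⟨b, hb⟩ := hv ⟨e', he'U⟩
  have ha' : a • (v : V) = e := by
    have := congrArg Subtype.val ha
    simpa using this
  have hb' : b • (v : V) = e' := by
    have := congrArg Subtype.val hb
    simpa using this
  have ha0 : a ≠ 0 := by
    rintro rfl
    rw [zero_smul] at ha'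
    exact he0 ha'.symm
  refine ⟨b * a⁻¹, ?_⟩
  calc e' = b • (v : V) := hb'.symm
    _ = (b * a⁻¹) • (a • (v : V)) := by
      rw [smul_smul, mul_assoc, inv_mul_cancel₀ ha0, mul_one]
    _ = (b * a⁻¹) • e := by rw [ha']

/-- a hyperbolic pair through a given singular vector together with a nonsingular vector
orthogonal to it -/
theorem exists_triple_of (hQ : (polarBilin Q).Nondegenerate) (h3 : 3 ≤ finrank F V)
    {e : V} (he0 : e ≠ 0) (he : Q e = 0) :
    ∃ f d : V, Q f = 0 ∧ polar Q e f = 1 ∧ polar Q e d = 0 ∧ polar Q f d = 0 ∧ Q d ≠ 0 := by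
  obtain ⟨f, hf, hef⟩ := Cfsg.Agent.Lib.Helper25.Fam.exists_sing_partner Q hQ he0 he
  have hnd := perpPair_nd Q ⊤ (ndOn_top Q hQ) (Submodule.mem_top : e ∈ ⊤)
    (Submodule.mem_top : f ∈ ⊤) he hf hef
  have hfr := perpPair_finrank Q ⊤ (Submodule.mem_top : e ∈ ⊤) (Submodule.mem_top : f ∈ ⊤)
    he hf hef
  rw [finrank_top] at hfr
  by_contra hcon
  push Not at hcon
  have hall : ∀ x ∈ perpPair Q ⊤ e f, Q x = 0 := by
    intro x hx
    rw [mem_perpPair] at hx
    exact hcon f x hf hef hx.2.1 hx.2.2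
  have hzero : ∀ x ∈ perpPair Q ⊤ e f, x = 0 := by
    intro x hx
    apply hnd x hx
    intro y hy
    unfold polar
    rw [hall _ (Submodule.add_mem _ hx hy), hall x hx, hall y hy]
    ring
  have h0 : finrank F (perpPair Q ⊤ e f) = 0 := by
    rw [Submodule.finrank_eq_zero, eq_bot_iff]
    intro x hx
    rw [Submodule.mem_bot]
    exact hzero x hx
  omega

/-- coordinates with respect to a hyperbolic pair and a vector orthogonal to it, in
dimension `3` -/
theorem decomp3 (h3 : finrank F V = 3) {e f d : V} (he : Q e = 0) (hf : Q f = 0)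
    (hef : polar Q e f = 1) (hed : polar Q e d = 0) (hfd : polar Q f d = 0) (hd : Q d ≠ 0)
    (v : V) : ∃ γ : F, v = polar Q f v • e + polar Q e v • f + γ • d := by
  have hfr := perpPair_finrank Q ⊤ (Submodule.mem_top : e ∈ ⊤) (Submodule.mem_top : f ∈ ⊤)
    he hf hef
  rw [finrank_top, h3] at hfr
  have hfr1 : finrank F (perpPair Q ⊤ e f) = 1 := by omega
  have hdm : d ∈ perpPair Q ⊤ e f := by
    rw [mem_perpPair]
    exact ⟨Submodule.mem_top, hed, hfd⟩
  have hd0 : (⟨d, hdm⟩ : ↥(perpPair Q ⊤ e f)) ≠ 0 := by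
    intro h
    have : d = 0 := congrArg Subtype.val h
    rw [this, QuadraticMap.map_zero] at hd
    exact hd rfl
  have hee : polar Q e e = 0 := by
    rw [Cfsg.Agent.Lib.Helper25.MaxTS.polar_self, he, mul_zero]
  have hff : polar Q f f = 0 := by
    rw [Cfsg.Agent.Lib.Helper25.MaxTS.polar_self, hf, mul_zero]
  have hwm : v - polar Q f v • e - polar Q e v • f ∈ perpPair Q ⊤ e f := by
    rw [mem_perpPair]
    refine ⟨Submodule.mem_top, ?_, ?_⟩
    · rw [polar_sub_right, polar_sub_right, polar_smul_right, polar_smul_right, hee, hef]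
      simp
    · rw [polar_sub_right, polar_sub_right, polar_smul_right, polar_smul_right, hff,
        polar_comm Q f e, hef]
      simp
  obtain ⟨γ, hγ⟩ := (finrank_eq_one_iff_of_nonzero' _ hd0).1 hfr1 ⟨_, hwm⟩
  refine ⟨γ, ?_⟩
  have h1 : γ • d = v - polar Q f v • e - polar Q e v • f := congrArg Subtype.val hγ
  rw [h1]
  abel

end dim3

section geometry2

variable {F : Type*} [Field F] {V : Type u} [AddCommGroup V] [Module F V]
  (Q : QuadraticForm F V)

theorem pow_apply_smul {m : V ≃ₗ[F] V} {u : V} {ε : F} (hmu : m u = ε • u) (k : ℕ) :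
    (m ^ k) u = ε ^ k • u := by
  induction k with
  | zero => simp
  | succ k ih =>
    rw [pow_succ, LinearEquiv.mul_apply, hmu, map_smul, ih, smul_smul, pow_succ, mul_comm]

/-- an element of odd order mapping `u` to `± u` fixes `u` -/
theorem fix_of_sign' {m : V ≃ₗ[F] V} {k : ℕ} (hk : Odd k) (hmk : m ^ k = 1)
    {u : V} {ε : F} (hε : ε * ε = 1) (hmu : m u = ε • u) : m u = u := by
  have h2 := pow_apply_smul hmu k
  rw [hmk, LinearEquiv.coe_one, id_eq] at h2
  obtain ⟨j, hj⟩ := hk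
  have h3 : ε ^ k = ε := by
    rw [hj, pow_succ, pow_mul, pow_two, hε, one_pow, one_mul]
  rw [h3] at h2
  rw [hmu, ← h2]

/-- an isometry mapping a nonsingular vector to a multiple of itself maps it to `± u` -/
theorem sign_of_smul {m : V ≃ₗ[F] V} (hm : m ∈ OG Q) {u : V} (hu : Q u ≠ 0) {c : F}
    (h : m u = c • u) : c * c = 1 := by
  have h1 := hm u
  rw [h, QuadraticMap.map_smul, smul_eq_mul] at h1
  have h2 : (c * c - 1) * Q u = 0 := by linear_combination h1
  rcases mul_eq_zero.1 h2 with h3 | h3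
  · linear_combination h3
  · exact absurd h3 hu

/-- a vector negated by the reflection in `u` is a multiple of `u` -/
theorem smul_of_reflE_neg (h2 : (2 : F) ≠ 0) {u x : V} (h : reflE Q u x = -x) :
    ∃ c : F, x = c • u := by
  rw [reflE_apply] at h
  refine ⟨2⁻¹ * ((Q u)⁻¹ * polar Q u x), ?_⟩
  have h1 : (2 : F) • x = ((Q u)⁻¹ * polar Q u x) • u := by
    rw [two_smul]
    calc x + x = (x - ((Q u)⁻¹ * polar Q u x) • u) + ((Q u)⁻¹ * polar Q u x) • u + x := by abel
      _ = -x + ((Q u)⁻¹ * polar Q u x) • u + x := by rw [h]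
      _ = ((Q u)⁻¹ * polar Q u x) • u := by abel
  rw [mul_smul, ← h1, smul_smul, inv_mul_cancel₀ h2, one_smul]

end geometry2

section dim3b

variable {F : Type*} [Field F] {V : Type u} [AddCommGroup V] [Module F V]
  (Q : QuadraticForm F V)

/-- the value of the form in coordinates adapted to a hyperbolic pair -/
theorem Q_decomp3 {e f d : V} (he : Q e = 0) (hf : Q f = 0)
    (hef : polar Q e f = 1) (hed : polar Q e d = 0) (hfd : polar Q f d = 0) (α β γ : F) :
    Q (α • e + β • f + γ • d) = α * β + γ * γ * Q d := by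
  rw [QuadraticMap.map_add (⇑Q), QuadraticMap.map_add (⇑Q), QuadraticMap.map_smul,
    QuadraticMap.map_smul, QuadraticMap.map_smul, he, hf]
  simp only [polar_add_left, polar_smul_left, polar_smul_right, hef, hed, hfd, smul_eq_mul]
  ring

/-- a reflection without fixed singular points, in dimension `3` -/
theorem free_refl [Finite F] [FiniteDimensional F V] (h3 : finrank F V = 3) {e f d : V} (he : Q e = 0)
    (hf : Q f = 0) (hef : polar Q e f = 1) (hed : polar Q e d = 0) (hfd : polar Q f d = 0)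
    (hd : Q d ≠ 0) {ν : F} (hν : ¬ IsSquare ν) {x : V} (hx0 : x ≠ 0) (hx : Q x = 0) {c : F}
    (h : reflE Q (e + (Q d * ν) • f) x = c • x) : False := by
  have hν0 : ν ≠ 0 := by
    rintro rfl
    exact hν ⟨0, by simp⟩
  have hw : Q (e + (Q d * ν) • f) = Q d * ν := by
    have := Q_decomp3 Q he hf hef hed hfd 1 (Q d * ν) 0
    simpa using this
  have hw0 : Q (e + (Q d * ν) • f) ≠ 0 := by
    rw [hw]
    exact mul_ne_zero hd hν0
  rw [reflE_apply] at h
  have hpol : polar Q (e + (Q d * ν) • f) x = 0 := by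
    by_contra hne
    have hκ : (Q (e + (Q d * ν) • f))⁻¹ * polar Q (e + (Q d * ν) • f) x ≠ 0 :=
      mul_ne_zero (inv_ne_zero hw0) hne
    have h1 : ((Q (e + (Q d * ν) • f))⁻¹ * polar Q (e + (Q d * ν) • f) x) • (e + (Q d * ν) • f)
        = (1 - c) • x := by
      rw [sub_smul, one_smul, ← h]
      abel
    have h2 := congrArg Q h1
    rw [QuadraticMap.map_smul, QuadraticMap.map_smul, hx, smul_zero] at h2
    have h4 := smul_eq_zero.1 h2
    rcases h4 with h4 | h4
    · exact hκ (mul_self_eq_zero.1 h4)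
    · exact hw0 h4
  obtain ⟨γ, hγ⟩ := decomp3 Q h3 he hf hef hed hfd hd x
  rw [polar_add_left, polar_smul_left, smul_eq_mul] at hpol
  have hQ := Q_decomp3 Q he hf hef hed hfd (polar Q f x) (polar Q e x) γ
  rw [← hγ, hx] at hQ
  have hβ : polar Q e x = - (Q d * ν * polar Q f x) := by linear_combination hpol
  have hsq : γ * γ = ν * (polar Q f x * polar Q f x) := by
    have h5 : Q d * (γ * γ - ν * (polar Q f x * polar Q f x)) = 0 := by
      rw [hβ] at hQ
      linear_combination -hQ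
    rcases mul_eq_zero.1 h5 with h6 | h6
    · exact absurd h6 hd
    · linear_combination h6
  by_cases hα : polar Q f x = 0
  · rw [hα] at hsq hβ
    have hγ0 : γ = 0 := by
      have : γ * γ = 0 := by rw [hsq]; ring
      exact mul_self_eq_zero.1 this
    apply hx0
    rw [hγ, hα, hβ, hγ0]
    simp
  · apply hν
    refine ⟨γ * (polar Q f x)⁻¹, ?_⟩
    field_simp
    linear_combination -hsq

end dim3b

section dim3c

variable {F : Type*} [Field F] {V : Type u} [AddCommGroup V] [Module F V]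
  (Q : QuadraticForm F V)

/-- in dimension `3`, an isometry of odd order fixing all singular points is trivial -/
theorem eq_one_of_fix_sing [Finite F] [FiniteDimensional F V] (h2 : (2 : F) ≠ 0)
    (hQ : (polarBilin Q).Nondegenerate) (h3 : finrank F V = 3)
    {m : V ≃ₗ[F] V} (hm : m ∈ OG Q) {k : ℕ} (hk : Odd k) (hmk : m ^ k = 1)
    (hfix : ∀ x, Q x = 0 → ∃ c : F, m x = c • x) : m = 1 := by
  obtain ⟨e, he0, he⟩ := exists_singular_of_three_le Q (by omega)
  obtain ⟨f, d, hf, hef, hed, hfd, hd⟩ := exists_triple_of Q hQ (by omega) he0 he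
  obtain ⟨α, hα⟩ := hfix e he
  obtain ⟨β, hβ⟩ := hfix f hf
  have hαβ : α * β = 1 := by
    have h := polar_of_iso Q hm e f
    rw [hα, hβ, polar_smul_left, polar_smul_right, hef] at h
    simpa using h
  have hα0 : α ≠ 0 := left_ne_zero_of_mul_eq_one hαβ
  have hβ0 : β ≠ 0 := right_ne_zero_of_mul_eq_one hαβ
  have h1 : polar Q e (m d) = 0 := by
    have h := polar_of_iso Q hm e d
    rw [hα, polar_smul_left, hed, smul_eq_mul] at h
    rcases mul_eq_zero.1 h with h | h
    · exact absurd h hα0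
    · exact h
  have h1' : polar Q f (m d) = 0 := by
    have h := polar_of_iso Q hm f d
    rw [hβ, polar_smul_left, hfd, smul_eq_mul] at h
    rcases mul_eq_zero.1 h with h | h
    · exact absurd h hβ0
    · exact h
  obtain ⟨γ, hγ⟩ := decomp3 Q h3 he hf hef hed hfd hd (m d)
  rw [h1, h1', zero_smul, zero_smul, zero_add, zero_add] at hγ
  have hv : Q ((1 : F) • e + (-(Q d)) • f + (1 : F) • d) = 0 := by
    rw [Q_decomp3 Q he hf hef hed hfd]
    ring
  obtain ⟨κ, hκ⟩ := hfix _ hv
  rw [map_add, map_add, map_smul, map_smul, map_smul, hα, hβ, hγ] at hκ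
  have hee : polar Q e e = 0 := by
    rw [Cfsg.Agent.Lib.Helper25.MaxTS.polar_self, he, mul_zero]
  have hff : polar Q f f = 0 := by
    rw [Cfsg.Agent.Lib.Helper25.MaxTS.polar_self, hf, mul_zero]
  have hdd : polar Q d d = 2 * Q d := Cfsg.Agent.Lib.Helper25.MaxTS.polar_self d
  have hfe : polar Q f e = 1 := by rw [polar_comm, hef]
  have hde : polar Q d e = 0 := by rw [polar_comm, hed]
  have hdf : polar Q d f = 0 := by rw [polar_comm, hfd]
  have c1 := congrArg (polar Q f) hκ
  have c2 := congrArg (polar Q e) hκ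
  have c3 := congrArg (polar Q d) hκ
  simp only [polar_add_right, polar_smul_right, hee, hff, hdd, hef, hfe, hed, hfd, hde, hdf,
    smul_eq_mul] at c1 c2 c3
  have e1 : α = κ := by linear_combination c1
  have e2 : β = κ := by
    have : Q d * (β - κ) = 0 := by linear_combination -c2
    rcases mul_eq_zero.1 this with h | h
    · exact absurd h hd
    · linear_combination h
  have e3 : γ = κ := by
    have : (2 * Q d) * (γ - κ) = 0 := by linear_combination c3
    rcases mul_eq_zero.1 this with h | h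
    · exact absurd h (mul_ne_zero h2 hd)
    · linear_combination h
  have hκκ : κ * κ = 1 := by rw [← e1] at e2; rw [← e1, ← hαβ, e2]
  rw [e1] at hα
  rw [e2] at hβ
  rw [e3] at hγ
  have me := fix_of_sign' hk hmk hκκ hα
  have mf := fix_of_sign' hk hmk hκκ hβ
  have md := fix_of_sign' hk hmk hκκ hγ
  ext x
  obtain ⟨c, hc⟩ := decomp3 Q h3 he hf hef hed hfd hd x
  rw [LinearEquiv.coe_one, id_eq]
  nth_rewrite 1 [hc]
  rw [map_add, map_add, map_smul, map_smul, map_smul, me, mf, md, ← hc]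

end dim3c

section dim3d

variable {F : Type*} [Field F] {V : Type u} [AddCommGroup V] [Module F V]
  (Q : QuadraticForm F V)

theorem Q_sub_sing {u u' : V} (hu : Q u = 0) (hu' : Q u' = 0) :
    Q (u - u') = - polar Q u u' := by
  rw [sub_eq_add_neg, QuadraticMap.map_add (⇑Q), QuadraticMap.map_neg, polar_neg_right, hu, hu']
  ring

theorem ne_zero_of_polar_ne {u v : V} (h : polar Q u v ≠ 0) : u ≠ 0 := by
  rintro rfl
  apply h
  simp [polar]

/-- `2`-transitivity of the isometry group on singular points, in dimension `3` -/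
theorem two_trans [Finite F] [FiniteDimensional F V] (hQ : (polarBilin Q).Nondegenerate)
    (h3 : finrank F V = 3) {e₁ e₂ x y : V} (h1 : Q e₁ = 0) (h2 : Q e₂ = 0)
    (h12 : polar Q e₁ e₂ ≠ 0) (hx : Q x = 0) (hy : Q y = 0) (hxy : polar Q x y ≠ 0) :
    ∃ g ∈ OG Q, ∃ a b : F, a ≠ 0 ∧ g e₁ = a • x ∧ g e₂ = b • y := by
  have he₁0 : e₁ ≠ 0 := ne_zero_of_polar_ne Q h12
  have hx0 : x ≠ 0 := ne_zero_of_polar_ne Q hxy
  -- step 1
  have step1 : ∃ g₁ ∈ OG Q, ∃ a : F, a ≠ 0 ∧ g₁ e₁ = a • x := by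
    by_cases hp : polar Q e₁ x = 0
    · obtain ⟨c, hc⟩ := exists_smul_of_sing_perp Q hQ h3 he₁0 h1 hx hp
      have hc0 : c ≠ 0 := by
        rintro rfl
        rw [zero_smul] at hc
        exact hx0 hc
      refine ⟨1, one_mem _, c⁻¹, inv_ne_zero hc0, ?_⟩
      rw [hc, smul_smul, inv_mul_cancel₀ hc0, one_smul]
      rfl
    · refine ⟨reflE Q (e₁ - x), reflE_mem_OG Q _, 1, one_ne_zero, ?_⟩
      rw [one_smul]
      apply reflE_swap Q (by rw [h1, hx])
      rw [Q_sub_sing Q h1 hx]
      exact neg_ne_zero.2 hp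
  obtain ⟨g₁, hg₁, a, ha0, hga⟩ := step1
  have hQe₂' : Q (g₁ e₂) = 0 := by rw [hg₁ e₂, h2]
  have hpx : polar Q x (g₁ e₂) ≠ 0 := by
    have h := polar_of_iso Q hg₁ e₁ e₂
    rw [hga, polar_smul_left, smul_eq_mul] at h
    intro h0
    rw [h0, mul_zero] at h
    exact h12 h.symm
  have he₂'0 : g₁ e₂ ≠ 0 := by
    intro h0
    rw [h0] at hpx
    apply hpx
    simp [polar]
  have hy' : Q ((polar Q x (g₁ e₂) * (polar Q x y)⁻¹) • y) = 0 := by
    rw [QuadraticMap.map_smul, hy, smul_zero]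
  have hxy' : polar Q x ((polar Q x (g₁ e₂) * (polar Q x y)⁻¹) • y) = polar Q x (g₁ e₂) := by
    rw [polar_smul_right, smul_eq_mul, mul_assoc, inv_mul_cancel₀ hxy, mul_one]
  by_cases hp2 : polar Q (g₁ e₂) ((polar Q x (g₁ e₂) * (polar Q x y)⁻¹) • y) = 0
  · obtain ⟨c, hc⟩ := exists_smul_of_sing_perp Q hQ h3 he₂'0 hQe₂' hy' hp2
    have hc1 : c = 1 := by
      have h := hxy'
      rw [hc, polar_smul_right, smul_eq_mul] at h
      have h' : (c - 1) * polar Q x (g₁ e₂) = 0 := by linear_combination h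
      rcases mul_eq_zero.1 h' with h'' | h''
      · linear_combination h''
      · exact absurd h'' hpx
    rw [hc1, one_smul] at hc
    exact ⟨g₁, hg₁, a, _, ha0, hga, hc.symm⟩
  · refine ⟨reflE Q (g₁ e₂ - (polar Q x (g₁ e₂) * (polar Q x y)⁻¹) • y) * g₁,
      mul_mem (reflE_mem_OG Q _) hg₁, a, polar Q x (g₁ e₂) * (polar Q x y)⁻¹, ha0, ?_, ?_⟩
    · rw [LinearEquiv.mul_apply, hga, map_smul]
      congr 1
      apply reflE_of_perp
      rw [polar_sub_left, polar_comm Q (g₁ e₂) x, polar_comm Q (_ • y) x, hxy', sub_self]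
    · rw [LinearEquiv.mul_apply]
      apply reflE_swap Q (by rw [hQe₂', hy'])
      rw [Q_sub_sing Q hQe₂' hy']
      exact neg_ne_zero.2 hp2

end dim3d

section group2

variable {G : Type*} [Group G]

/-- an involution `r` normalising a group `N` all of whose elements have odd order: every
element of the coset `N r` has a power conjugate to `r` under `N` -/
theorem conj_invol (N : Subgroup G) (hodd : ∀ n ∈ N, ∃ k : ℕ, Odd k ∧ n ^ k = 1) {r : G}
    (hr : r * r = 1) (hnorm : ∀ n ∈ N, r * n * r⁻¹ ∈ N) {n : G} (hn : n ∈ N) :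
    ∃ s ∈ N, ∃ K : ℕ, s * r * s⁻¹ = (n * r) ^ K := by
  have hrinv : r⁻¹ = r := inv_eq_of_mul_eq_one_left hr
  have hc : (n * r) * (n * r) = n * (r * n * r⁻¹) := by rw [hrinv]; group
  have hcN : (n * r) * (n * r) ∈ N := by
    rw [hc]
    exact N.mul_mem hn (hnorm n hn)
  obtain ⟨k, ⟨j, hj⟩, hk⟩ := hodd _ hcN
  -- `t' = (n r)^k = n' r`
  have ht' : (n * r) ^ k = ((n * r) * (n * r)) ^ j * n * r := by
    rw [hj, pow_succ, pow_mul, pow_two, mul_assoc (((n * r) * (n * r)) ^ j) n r]
  have hn' : ((n * r) * (n * r)) ^ j * n ∈ N := N.mul_mem (N.pow_mem hcN j) hn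
  have ht'2 : (n * r) ^ k * (n * r) ^ k = 1 := by
    rw [← pow_add, ← two_mul, pow_mul, pow_two, hk]
  obtain ⟨n', hn'def⟩ : ∃ n', n' = ((n * r) * (n * r)) ^ j * n := ⟨_, rfl⟩
  rw [← hn'def] at ht' hn'
  rw [ht'] at ht'2
  have hinv : r * n' * r⁻¹ = n'⁻¹ := by
    rw [hrinv]
    have : n' * (r * n' * r) = 1 := by
      rw [← ht'2]; group
    exact eq_inv_of_mul_eq_one_right this
  obtain ⟨k', ⟨i, hi⟩, hk'⟩ := hodd _ hn'
  refine ⟨n' ^ (i + 1), N.pow_mem hn' _, k, ?_⟩
  have hss : n' ^ (i + 1) * n' ^ (i + 1) = n' := by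
    rw [← pow_add, show i + 1 + (i + 1) = k' + 1 by omega, pow_succ, hk', one_mul]
  have hsinv : r * n' ^ (i + 1) * r⁻¹ = (n' ^ (i + 1))⁻¹ := by
    rw [← conj_pow, hinv, inv_pow]
  rw [ht']
  calc n' ^ (i + 1) * r * (n' ^ (i + 1))⁻¹
      = n' ^ (i + 1) * (r * n' ^ (i + 1) * r⁻¹)⁻¹ * r := by group
    _ = n' ^ (i + 1) * n' ^ (i + 1) * r := by rw [hsinv, inv_inv]
    _ = n' * r := by rw [hss]

end group2

section dim3e

variable {F : Type*} [Field F] {V : Type u} [AddCommGroup V] [Module F V]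
  (Q : QuadraticForm F V)

theorem exists_nonsquare_of_two_ne [Finite F] (h2 : (2 : F) ≠ 0) : ∃ ν : F, ¬ IsSquare ν := by
  apply FiniteField.exists_nonsquare
  intro h
  apply h2
  have := CharP.cast_eq_zero F (ringChar F)
  rw [h] at this
  exact_mod_cast this

/-- dimension `3`: a subgroup of the isometry group all of whose elements have odd order and
which is normalised by the isometry group is trivial -/
theorem odd_normal_trivial_three [Finite F] [FiniteDimensional F V] (h2 : (2 : F) ≠ 0)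
    (hQ : (polarBilin Q).Nondegenerate) (h3 : finrank F V = 3)
    (N : Subgroup (V ≃ₗ[F] V)) (hN : N ≤ OG Q)
    (hodd : ∀ m ∈ N, ∃ k : ℕ, Odd k ∧ m ^ k = 1)
    (hnorm : ∀ g ∈ OG Q, ∀ m ∈ N, g * m * g⁻¹ ∈ N) : N = ⊥ := by
  rw [eq_bot_iff]
  intro m hm
  rw [Subgroup.mem_bot]
  obtain ⟨k, hk, hmk⟩ := hodd m hm
  apply eq_one_of_fix_sing Q h2 hQ h3 (hN hm) hk hmk
  by_contra hcon
  push Not at hcon
  obtain ⟨e₁, he₁, hmove⟩ := hcon
  have he₁0 : e₁ ≠ 0 := by
    rintro rfl
    apply hmove 0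
    simp
  have he₂ : Q (m e₁) = 0 := by rw [hN hm e₁, he₁]
  have h12 : polar Q e₁ (m e₁) ≠ 0 := by
    intro h0
    obtain ⟨c, hc⟩ := exists_smul_of_sing_perp Q hQ h3 he₁0 he₁ he₂ h0
    exact hmove c hc
  have trans : ∀ x y : V, Q x = 0 → Q y = 0 → polar Q x y ≠ 0 →
      ∃ n ∈ N, ∃ c : F, n x = c • y := by
    intro x y hx hy hxy
    obtain ⟨g, hg, a, b, ha0, hg1, hg2⟩ := two_trans Q hQ h3 he₁ he₂ h12 hx hy hxy
    refine ⟨g * m * g⁻¹, hnorm g hg m hm, a⁻¹ * b, ?_⟩
    have h1 : g⁻¹ x = a⁻¹ • e₁ := by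
      have : g⁻¹ (g e₁) = e₁ := by rw [← LinearEquiv.mul_apply, inv_mul_cancel]; rfl
      rw [hg1, map_smul] at this
      rw [← this, smul_smul, inv_mul_cancel₀ ha0, one_smul]
    rw [LinearEquiv.mul_apply, LinearEquiv.mul_apply, h1, map_smul, map_smul, hg2, smul_smul]
  obtain ⟨e, he0, he⟩ := exists_singular_of_three_le Q (by omega)
  obtain ⟨f, d, hf, hef, hed, hfd, hd⟩ := exists_triple_of Q hQ (by omega) he0 he
  obtain ⟨ν, hν⟩ := exists_nonsquare_of_two_ne h2
  have hrx : Q (reflE Q (e + (Q d * ν) • f) e) = 0 := by rw [Q_reflE, he]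
  have hpe : polar Q (reflE Q (e + (Q d * ν) • f) e) e ≠ 0 := by
    intro h0
    rw [polar_comm] at h0
    obtain ⟨c, hc⟩ := exists_smul_of_sing_perp Q hQ h3 he0 he hrx h0
    exact free_refl Q h3 he hf hef hed hfd hd hν he0 he hc
  obtain ⟨n, hn, c, hnc⟩ := trans _ e hrx he hpe
  obtain ⟨s, hs, K, hsK⟩ := conj_invol N hodd (reflE_mul_self Q (e + (Q d * ν) • f))
    (fun n hn => hnorm _ (reflE_mem_OG Q _) n hn) hn
  have h1 : (n * reflE Q (e + (Q d * ν) • f)) e = c • e := by
    rw [LinearEquiv.mul_apply, hnc]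
  have h4 := pow_apply_smul h1 K
  rw [← hsK, LinearEquiv.mul_apply, LinearEquiv.mul_apply] at h4
  have h5 : reflE Q (e + (Q d * ν) • f) (s⁻¹ e) = c ^ K • (s⁻¹ e) := by
    rw [← map_smul, ← h4, ← LinearEquiv.mul_apply s⁻¹ s, inv_mul_cancel]
    rfl
  have hs0 : s⁻¹ e ≠ 0 := by
    intro h0
    apply he0
    have : s (s⁻¹ e) = e := by rw [← LinearEquiv.mul_apply, mul_inv_cancel]; rfl
    rw [← this, h0, map_zero]
  have hsQ : Q (s⁻¹ e) = 0 := by
    rw [(OG Q).inv_mem (hN hs) e, he]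
  exact free_refl Q h3 he hf hef hed hfd hd hν hs0 hsQ h5

end dim3e

section step

variable {F : Type*} [Field F] {V : Type u} [AddCommGroup V] [Module F V]
  (Q : QuadraticForm F V)

/-- normalisation by reflections gives normalisation by the whole isometry group -/
theorem norm_of_refl [FiniteDimensional F V] (h2 : (2 : F) ≠ 0)
    (hQ : (polarBilin Q).Nondegenerate) (N : Subgroup (V ≃ₗ[F] V))
    (hnorm : ∀ u, Q u ≠ 0 → ∀ m ∈ N, reflE Q u * m * (reflE Q u)⁻¹ ∈ N) :
    ∀ g ∈ OG Q, ∀ m ∈ N, g * m * g⁻¹ ∈ N := by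
  intro g hg
  have h1 : g ∈ RG Q := cd_odd h2 _ V Q rfl hQ hg
  have h3 : RG Q ≤ Subgroup.normalizer (N : Set (V ≃ₗ[F] V)) := by
    rw [RG, Subgroup.closure_le]
    rintro r ⟨v, hv, rfl⟩
    rw [SetLike.mem_coe, Subgroup.mem_normalizer_iff]
    intro m
    refine ⟨hnorm v hv m, fun h => ?_⟩
    have h4 := hnorm v hv _ h
    have h5 : reflE Q v * (reflE Q v * m * (reflE Q v)⁻¹) * (reflE Q v)⁻¹ = m := by
      rw [reflE_inv]
      calc reflE Q v * (reflE Q v * m * reflE Q v) * reflE Q v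
          = (reflE Q v * reflE Q v) * m * (reflE Q v * reflE Q v) := by group
        _ = m := by rw [reflE_mul_self, one_mul, mul_one]
    rw [h5] at h4
    exact h4
  intro m hm
  exact (Subgroup.mem_normalizer_iff.1 (h3 h1) m).1 hm

/-- restriction of an isometry fixing `P` pointwise to the orthogonal complement of `P` -/
theorem exists_restrict (P : Submodule F V) {g : V ≃ₗ[F] V} (hg : g ∈ OG Q)
    (hfix : ∀ p ∈ P, g p = p) :
    ∃ h : (perp Q P) ≃ₗ[F] (perp Q P), ∀ w, (h w : V) = g w := by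
  have key : ∀ k : V ≃ₗ[F] V, k ∈ OG Q → (∀ p ∈ P, k p = p) →
      ∀ w ∈ perp Q P, k w ∈ perp Q P := by
    intro k hk hkfix w hw p hp
    show polar Q p (k w) = 0
    have := polar_of_iso Q hk p w
    rw [hkfix p hp] at this
    rw [this]
    exact hw p hp
  have hginv : ∀ p ∈ P, g⁻¹ p = p := by
    intro p hp
    have : g⁻¹ (g p) = p := by rw [← LinearEquiv.mul_apply, inv_mul_cancel]; rfl
    rw [hfix p hp] at this
    exact this
  have hmap : (perp Q P).map (g : V →ₗ[F] V) = perp Q P := by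
    apply le_antisymm
    · rintro _ ⟨w, hw, rfl⟩
      exact key g hg hfix w hw
    · intro w hw
      refine ⟨g⁻¹ w, key g⁻¹ (inv_mem hg) hginv w hw, ?_⟩
      show g (g⁻¹ w) = w
      rw [← LinearEquiv.mul_apply, mul_inv_cancel]; rfl
  exact ⟨LinearEquiv.ofSubmodules g _ _ hmap, fun w => LinearEquiv.ofSubmodules_apply g hmap w⟩

theorem reflE_coe (W : Submodule F V) (w₀ w : W) :
    ((reflE (QR Q W) w₀ w : W) : V) = reflE Q (w₀ : V) (w : V) := by
  rw [reflE_apply, reflE_apply]
  simp [polar_QR, QR]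

theorem reflE_self (h2 : (2 : F) ≠ 0) {u : V} (hu : Q u ≠ 0) : reflE Q u u = -u := by
  rw [reflE_apply, Cfsg.Agent.Lib.Helper25.MaxTS.polar_self,
    show (Q u)⁻¹ * (2 * Q u) = 2 by field_simp, two_smul]
  abel

/-- the subgroup of the isometry group of `u^⊥` induced by the stabiliser of `u` in `N` -/
def resGroup (u : V) (N : Subgroup (V ≃ₗ[F] V)) :
    Subgroup ((perp Q (Submodule.span F ({u} : Set V))) ≃ₗ[F]
      (perp Q (Submodule.span F ({u} : Set V)))) where
  carrier := {h | ∃ m ∈ N, m u = u ∧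
    ∀ w : ↥(perp Q (Submodule.span F ({u} : Set V))), m (w : V) = (h w : V)}
  one_mem' := ⟨1, N.one_mem, rfl, fun _ => rfl⟩
  mul_mem' := by
    rintro h₁ h₂ ⟨m₁, hm₁, hu₁, hw₁⟩ ⟨m₂, hm₂, hu₂, hw₂⟩
    refine ⟨m₁ * m₂, N.mul_mem hm₁ hm₂, ?_, ?_⟩
    · rw [LinearEquiv.mul_apply, hu₂, hu₁]
    · intro w
      rw [LinearEquiv.mul_apply, hw₂, hw₁, LinearEquiv.mul_apply]
  inv_mem' := by
    rintro h ⟨m, hm, hu, hw⟩
    refine ⟨m⁻¹, N.inv_mem hm, ?_, ?_⟩
    · have : m⁻¹ (m u) = u := by rw [← LinearEquiv.mul_apply, inv_mul_cancel]; rfl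
      rw [hu] at this
      exact this
    · intro w
      have h1 := hw (h⁻¹ w)
      have h2 : h (h⁻¹ w) = w := by rw [← LinearEquiv.mul_apply, mul_inv_cancel]; rfl
      rw [h2] at h1
      have h3 : m⁻¹ (m ((h⁻¹ w : _) : V)) = ((h⁻¹ w : _) : V) := by
        rw [← LinearEquiv.mul_apply, inv_mul_cancel]; rfl
      rw [h1] at h3
      exact h3

end step

section step2

variable {F : Type*} [Field F] {V : Type u} [AddCommGroup V] [Module F V]
  (Q : QuadraticForm F V)

theorem mem_resGroup {u : V} {N : Subgroup (V ≃ₗ[F] V)}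
    {h : (perp Q (Submodule.span F ({u} : Set V))) ≃ₗ[F]
      (perp Q (Submodule.span F ({u} : Set V)))} :
    h ∈ resGroup Q u N ↔ ∃ m ∈ N, m u = u ∧
      ∀ w : ↥(perp Q (Submodule.span F ({u} : Set V))), m (w : V) = (h w : V) := Iff.rfl

theorem resGroup_le_OG {u : V} {N : Subgroup (V ≃ₗ[F] V)} (hN : N ≤ OG Q) :
    resGroup Q u N ≤ OG (QR Q _) := by
  rintro h ⟨m, hm, -, hw⟩ w
  rw [QR_apply, QR_apply, ← hw, hN hm]

theorem resGroup_odd {u : V} {N : Subgroup (V ≃ₗ[F] V)}
    (hodd : ∀ m ∈ N, ∃ k : ℕ, Odd k ∧ m ^ k = 1) :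
    ∀ h ∈ resGroup Q u N, ∃ k : ℕ, Odd k ∧ h ^ k = 1 := by
  rintro h ⟨m, hm, -, hw⟩
  obtain ⟨k, hk, hmk⟩ := hodd m hm
  refine ⟨k, hk, ?_⟩
  have hpow : ∀ j : ℕ, ∀ w : ↥(perp Q (Submodule.span F ({u} : Set V))),
      (m ^ j) (w : V) = ((h ^ j) w : V) := by
    intro j
    induction j with
    | zero => intro w; rfl
    | succ j ih =>
      intro w
      rw [pow_succ, pow_succ, LinearEquiv.mul_apply, LinearEquiv.mul_apply, hw, ih]
  ext w
  rw [← hpow, hmk]
  rfl

theorem resGroup_norm {u : V} {N : Subgroup (V ≃ₗ[F] V)}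
    (hnorm : ∀ v, Q v ≠ 0 → ∀ m ∈ N, reflE Q v * m * (reflE Q v)⁻¹ ∈ N) :
    ∀ w₀, QR Q (perp Q (Submodule.span F ({u} : Set V))) w₀ ≠ 0 → ∀ h ∈ resGroup Q u N,
      reflE (QR Q _) w₀ * h * (reflE (QR Q _) w₀)⁻¹ ∈ resGroup Q u N := by
  rintro w₀ hw₀ h ⟨m, hm, hmu, hw⟩
  have hperp : polar Q (w₀ : V) u = 0 := by
    rw [polar_comm]
    exact w₀.2 u (Submodule.mem_span_singleton_self u)
  have hru : reflE Q (w₀ : V) u = u := reflE_of_perp Q hperp
  refine ⟨reflE Q (w₀ : V) * m * (reflE Q (w₀ : V))⁻¹, hnorm _ hw₀ m hm, ?_, ?_⟩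
  · rw [reflE_inv, LinearEquiv.mul_apply, LinearEquiv.mul_apply, hru, hmu, hru]
  · intro w
    rw [reflE_inv, reflE_inv, LinearEquiv.mul_apply, LinearEquiv.mul_apply,
      LinearEquiv.mul_apply, LinearEquiv.mul_apply, ← reflE_coe, hw, ← reflE_coe]

/-- if the induced group on `u^⊥` is trivial, then the stabiliser of `u` in `N` is trivial -/
theorem stab_trivial (h2 : (2 : F) ≠ 0) {u : V} (hu : Q u ≠ 0) {N : Subgroup (V ≃ₗ[F] V)}
    (hN : N ≤ OG Q) (hres : resGroup Q u N = ⊥) {m : V ≃ₗ[F] V} (hm : m ∈ N)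
    (hmu : m u = u) : m = 1 := by
  have hBu : polarBilin Q u u ≠ 0 := by
    rw [polarBilin_apply_apply, polar_self]
    simp only [nsmul_eq_mul, Nat.cast_ofNat]
    exact mul_ne_zero h2 hu
  have hPW : Submodule.span F ({u} : Set V) ⊔ perp Q (Submodule.span F ({u} : Set V)) = ⊤ :=
    LinearMap.BilinForm.span_singleton_sup_orthogonal_eq_top hBu
  obtain ⟨h, hh⟩ := exists_restrict Q (Submodule.span F ({u} : Set V)) (hN hm)
    (fix_span_singleton hmu)
  have hmem : h ∈ resGroup Q u N := ⟨m, hm, hmu, fun w => (hh w).symm⟩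
  rw [hres, Subgroup.mem_bot] at hmem
  ext x
  have hx : x ∈ Submodule.span F ({u} : Set V) ⊔ perp Q (Submodule.span F ({u} : Set V)) := by
    rw [hPW]; trivial
  obtain ⟨p, hp, w, hw, rfl⟩ := Submodule.mem_sup.1 hx
  rw [map_add, fix_span_singleton hmu p hp]
  have := hh ⟨w, hw⟩
  rw [hmem] at this
  rw [← this]
  rfl

/-- an element of `N` commuting with the reflection in `u` fixes `u` -/
theorem fix_of_commute (h2 : (2 : F) ≠ 0) {u : V} (hu : Q u ≠ 0) {N : Subgroup (V ≃ₗ[F] V)}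
    (hN : N ≤ OG Q) (hodd : ∀ m ∈ N, ∃ k : ℕ, Odd k ∧ m ^ k = 1) {m : V ≃ₗ[F] V} (hm : m ∈ N)
    (hcomm : reflE Q u * m = m * reflE Q u) : m u = u := by
  have h1 : reflE Q u (m u) = - (m u) := by
    rw [← LinearEquiv.mul_apply, hcomm, LinearEquiv.mul_apply, reflE_self Q h2 hu, map_neg]
  obtain ⟨c, hc⟩ := smul_of_reflE_neg Q h2 h1
  obtain ⟨k, hk, hmk⟩ := hodd m hm
  exact fix_of_sign' hk hmk (sign_of_smul Q (hN hm) hu hc) hc

end step2

section step3

variable {F : Type*} [Field F] {V : Type u} [AddCommGroup V] [Module F V]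
  (Q : QuadraticForm F V)

theorem finite_linearEquiv [Finite F] [FiniteDimensional F V] : Finite (V ≃ₗ[F] V) := by
  haveI : Finite V := Module.finite_of_finite F
  exact Finite.of_injective (fun e : V ≃ₗ[F] V => (e : V → V)) DFunLike.coe_injective

theorem exists_third {n : ℕ} (hn : 3 ≤ n) (i t : Fin n) : ∃ j : Fin n, j ≠ i ∧ j ≠ t := by
  classical
  have h1 : ({i, t} : Finset (Fin n)).card < (Finset.univ : Finset (Fin n)).card := by
    rw [Finset.card_univ, Fintype.card_fin]
    exact lt_of_le_of_lt Finset.card_le_two (by omega)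
  obtain ⟨j, -, hj⟩ := Finset.exists_mem_notMem_of_card_lt_card h1
  refine ⟨j, ?_, ?_⟩
  · rintro rfl
    exact hj (by simp)
  · rintro rfl
    exact hj (by simp)

/-- the last step: if every reflection inverts `N`, then `N` is trivial (dimension `≥ 3`) -/
theorem trivial_of_inverted [FiniteDimensional F V] (h2 : (2 : F) ≠ 0)
    (hQ : (polarBilin Q).Nondegenerate) (h3 : 3 ≤ finrank F V) {N : Subgroup (V ≃ₗ[F] V)}
    (hN : N ≤ OG Q) (hodd : ∀ m ∈ N, ∃ k : ℕ, Odd k ∧ m ^ k = 1)
    (hinv : ∀ u, Q u ≠ 0 → ∀ m ∈ N, reflE Q u * m * (reflE Q u)⁻¹ = m⁻¹) : N = ⊥ := by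
  rw [eq_bot_iff]
  intro m hm
  rw [Subgroup.mem_bot]
  haveI : Invertible (2 : F) := invertibleOfNonzero h2
  have hsymm : (polarBilin Q).IsSymm := ⟨fun x y => polar_comm Q x y⟩
  obtain ⟨b, hb⟩ := LinearMap.BilinForm.exists_orthogonal_basis hsymm
  have hortho : ∀ i j, i ≠ j → polar Q (b i) (b j) = 0 := fun i j hij => hb hij
  have hns : ∀ i, Q (b i) ≠ 0 := by
    intro i h0
    have := hb.not_isOrtho_basis_self_of_separatingLeft hQ.1 i
    apply this
    show polar Q (b i) (b i) = 0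
    rw [Cfsg.Agent.Lib.Helper25.MaxTS.polar_self, h0, mul_zero]
  have hcomm : ∀ u w, Q u ≠ 0 → Q w ≠ 0 →
      (reflE Q u * reflE Q w) * m = m * (reflE Q u * reflE Q w) := by
    intro u w hu hw
    have e1 := hinv w hw m hm
    have e2 := hinv u hu m⁻¹ (N.inv_mem hm)
    rw [inv_inv] at e2
    have e3 : reflE Q u * reflE Q w * m * (reflE Q u * reflE Q w)⁻¹ = m := by
      calc reflE Q u * reflE Q w * m * (reflE Q u * reflE Q w)⁻¹
          = reflE Q u * (reflE Q w * m * (reflE Q w)⁻¹) * (reflE Q u)⁻¹ := by group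
        _ = m := by rw [e1, e2]
    calc reflE Q u * reflE Q w * m
        = (reflE Q u * reflE Q w * m * (reflE Q u * reflE Q w)⁻¹) * (reflE Q u * reflE Q w) := by
          group
      _ = m * (reflE Q u * reflE Q w) := by rw [e3]
  have hperp : ∀ i t, i ≠ t → polar Q (m (b i)) (b t) = 0 := by
    intro i t hit
    obtain ⟨j, hji, hjt⟩ := exists_third h3 i t
    have hT := hcomm (b i) (b j) (hns i) (hns j)
    have hTi : (reflE Q (b i) * reflE Q (b j)) (b i) = - b i := by
      rw [LinearEquiv.mul_apply, reflE_of_perp Q (hortho j i hji), reflE_self Q h2 (hns i)]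
    have hTt : (reflE Q (b i) * reflE Q (b j)) (b t) = b t := by
      rw [LinearEquiv.mul_apply, reflE_of_perp Q (hortho j t hjt),
        reflE_of_perp Q (hortho i t hit)]
    have hTO : reflE Q (b i) * reflE Q (b j) ∈ OG Q :=
      mul_mem (reflE_mem_OG Q _) (reflE_mem_OG Q _)
    have h4 := polar_of_iso Q hTO (m (b i)) (b t)
    rw [hTt, ← LinearEquiv.mul_apply, hT, LinearEquiv.mul_apply, hTi, map_neg,
      polar_neg_left] at h4
    have h5 : (2 : F) * polar Q (m (b i)) (b t) = 0 := by linear_combination -h4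
    rcases mul_eq_zero.1 h5 with h6 | h6
    · exact absurd h6 h2
    · exact h6
  have hfix : ∀ i, m (b i) = b i := by
    intro i
    have hbb : polar Q (b i) (b i) ≠ 0 := by
      rw [Cfsg.Agent.Lib.Helper25.MaxTS.polar_self]
      exact mul_ne_zero h2 (hns i)
    have hy : m (b i) - (polar Q (m (b i)) (b i) * (polar Q (b i) (b i))⁻¹) • b i = 0 := by
      apply hQ.1
      intro x
      have hlin : (polarBilin Q) (m (b i) - (polar Q (m (b i)) (b i) *
          (polar Q (b i) (b i))⁻¹) • b i) = 0 := by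
        apply b.ext
        intro t
        rw [LinearMap.zero_apply, polarBilin_apply_apply, polar_sub_left, polar_smul_left,
          smul_eq_mul]
        by_cases hit : i = t
        · subst hit
          rw [mul_assoc, inv_mul_cancel₀ hbb, mul_one, sub_self]
        · rw [hperp i t hit, hortho i t hit, mul_zero, sub_zero]
      rw [hlin, LinearMap.zero_apply]
    have hc : m (b i) = (polar Q (m (b i)) (b i) * (polar Q (b i) (b i))⁻¹) • b i :=
      sub_eq_zero.1 hy
    obtain ⟨k, hk, hmk⟩ := hodd m hm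
    exact fix_of_sign' hk hmk (sign_of_smul Q (hN hm) (hns i) hc) hc
  apply LinearEquiv.toLinearMap_injective
  apply b.ext
  intro i
  exact hfix i

end step3

section main

variable {F : Type*} [Field F]

/-- **Odd normal subgroups of orthogonal groups are trivial.**  Over a finite field of odd
characteristic, for a nondegenerate quadratic space of dimension different from `2`, a subgroup
of the isometry group all of whose elements have odd order and which is normalised by the
reflections is trivial. -/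
theorem odd_normal_trivial [Finite F] (h2 : (2 : F) ≠ 0) : ∀ (n : ℕ) (V : Type u)
    [AddCommGroup V] [Module F V] [FiniteDimensional F V] (Q : QuadraticForm F V),
    finrank F V = n → n ≠ 2 → (polarBilin Q).Nondegenerate →
    ∀ N : Subgroup (V ≃ₗ[F] V), N ≤ OG Q → (∀ m ∈ N, ∃ k : ℕ, Odd k ∧ m ^ k = 1) →
    (∀ u, Q u ≠ 0 → ∀ m ∈ N, reflE Q u * m * (reflE Q u)⁻¹ ∈ N) → N = ⊥ := by
  intro n
  induction n with
  | zero =>
    intro V _ _ _ Q hn _ hQ N hN hodd hnorm
    have : Subsingleton V := Module.finrank_zero_iff.1 hn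
    rw [eq_bot_iff]
    intro m _
    rw [Subgroup.mem_bot]
    ext x
    exact Subsingleton.elim _ _
  | succ n ih =>
    intro V _ _ _ Q hn hn2 hQ N hN hodd hnorm
    have hnt : Nontrivial V := Module.nontrivial_of_finrank_pos (R := F) (by omega)
    by_cases h0 : n = 0
    · -- dimension one
      subst h0
      obtain ⟨u, hu⟩ := exists_nonsing Q hQ
      have hu0 : u ≠ 0 := by
        rintro rfl
        exact hu (QuadraticMap.map_zero Q)
      rw [eq_bot_iff]
      intro m hm
      rw [Subgroup.mem_bot]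
      have hspan := (finrank_eq_one_iff_of_nonzero' u hu0).1 hn
      obtain ⟨c, hc⟩ := hspan (m u)
      obtain ⟨k, hk, hmk⟩ := hodd m hm
      have hmu : m u = u := fix_of_sign' hk hmk (sign_of_smul Q (hN hm) hu hc.symm) hc.symm
      ext x
      obtain ⟨a, ha⟩ := hspan x
      rw [← ha, map_smul, hmu]
      rfl
    by_cases h3 : n = 2
    · subst h3
      exact odd_normal_trivial_three Q h2 hQ hn N hN hodd (norm_of_refl Q h2 hQ N hnorm)
    · have hn3 : 3 ≤ n := by omega
      haveI : Finite (V ≃ₗ[F] V) := finite_linearEquiv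
      apply trivial_of_inverted Q h2 hQ (by omega) hN hodd
      intro u hu
      have hu0 : u ≠ 0 := by
        rintro rfl
        exact hu (QuadraticMap.map_zero Q)
      have hBu : polarBilin Q u u ≠ 0 := by
        rw [polarBilin_apply_apply, polar_self]
        simp only [nsmul_eq_mul, Nat.cast_ofNat]
        exact mul_ne_zero h2 hu
      have hPW : Submodule.span F ({u} : Set V) ⊔ perp Q (Submodule.span F ({u} : Set V)) = ⊤ :=
        LinearMap.BilinForm.span_singleton_sup_orthogonal_eq_top hBu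
      have hfin : finrank F (perp Q (Submodule.span F ({u} : Set V))) = n := by
        have := LinearMap.BilinForm.finrank_orthogonal hQ (Submodule.span F ({u} : Set V))
        rw [finrank_span_singleton hu0, hn] at this
        rw [perp, this]
        omega
      have hres : resGroup Q u N = ⊥ :=
        ih _ (QR Q _) hfin (by omega) (nondeg_perp Q hQ _ hPW) _ (resGroup_le_OG Q hN)
          (resGroup_odd Q hodd) (resGroup_norm Q hnorm)
      apply inverts_of_fpf N (reflE Q u) (reflE_mul_self Q u) (hnorm u hu)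
      intro k hk hcomm
      exact stab_trivial Q h2 hu hN hres hk (fix_of_commute Q h2 hu hN hodd hk hcomm)

end main

end Cfsg.Agent.Lib.Helper18.OrthGr
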