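import Cfsg.Agent.Lib.Helper18.OrthGrA
import Cfsg.Agent.Lib.Helper25.Siegel

set_option autoImplicit false

/-!
# Additive maps commuting with the Eichler transformations are scalars
-/

namespace Cfsg.Agent.Lib.Helper18.OrthGr

open Module QuadraticMap Cfsg.Agent.Lib.Helper25.CD Cfsg.Agent.Lib.Helper15

universe u

section eichler

variable {F : Type*} [Field F] {V : Type u} [AddCommGroup V] [Module F V]
  (Q : QuadraticForm F V)

/-- the Eichler (Siegel) transformation attached to a singular vector `e`, a vector `a ⊥ e`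
and a parameter `c` -/
def eich (e a : V) (c : F) (x : V) : V :=
  x + (c * polar Q e x) • a - (c * polar Q a x + c * c * Q a * polar Q e x) • e

theorem eich_comp {e a : V} (he : Q e = 0) (hae : polar Q a e = 0) (c c' : F) (x : V) :
    eich Q e a c (eich Q e a c' x) = eich Q e a (c + c') x := by
  have hee : polar Q e e = 0 := by
    rw [Cfsg.Agent.Lib.Helper25.MaxTS.polar_self, he, mul_zero]
  have haa : polar Q a a = 2 * Q a := Cfsg.Agent.Lib.Helper25.MaxTS.polar_self a
  have hea : polar Q e a = 0 := by rw [polar_comm, hae]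
  unfold eich
  simp only [polar_add_right, polar_sub_right, polar_smul_right, hee, haa, hea, hae, smul_eq_mul]
  match_scalars <;> ring

theorem eich_zero (e a x : V) : eich Q e a 0 x = x := by
  unfold eich
  simp

/-- the product of two reflections `r_a r_{a+s}` is an Eichler transformation -/
theorem refl_pair_eq_eich {a s : V} (ha : Q a ≠ 0) (hs : Q s = 0) (has : polar Q a s = 0)
    (x : V) : (reflE Q a * reflE Q (a + s)) x = eich Q s a (Q a)⁻¹ x := by
  rw [LinearEquiv.mul_apply, Cfsg.Agent.Lib.Helper25.Siegel.refl_pair_apply' Q ha rfl hs has]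
  unfold eich
  match_scalars <;> field_simp

theorem eich_smul_left {e a : V} (l c : F) (x : V) :
    eich Q (l • e) a c x = eich Q e a (c * l) x := by
  unfold eich
  simp only [polar_smul_left, smul_eq_mul]
  match_scalars <;> ring

/-- every Eichler transformation is the fourth power of a product of two reflections -/
theorem fourth_eq_eich (h2 : (2 : F) ≠ 0) {e a : V} (ha : Q a ≠ 0) (he : Q e = 0)
    (hae : polar Q a e = 0) (c : F) (x : V) :
    ((reflE Q a * reflE Q (a + (c * Q a * 4⁻¹) • e)) ^ 4) x = eich Q e a c x := by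
  have h4 : (4 : F) ≠ 0 := by
    have : (4 : F) = 2 * 2 := by norm_num
    rw [this]
    exact mul_ne_zero h2 h2
  have hs : Q ((c * Q a * 4⁻¹) • e) = 0 := by rw [QuadraticMap.map_smul, he, smul_zero]
  have has : polar Q a ((c * Q a * 4⁻¹) • e) = 0 := by rw [polar_smul_right, hae, smul_zero]
  have h1 : ∀ y, (reflE Q a * reflE Q (a + (c * Q a * 4⁻¹) • e)) y = eich Q e a (c * 4⁻¹) y := by
    intro y
    rw [refl_pair_eq_eich Q ha hs has, eich_smul_left]
    congr 1
    field_simp
  rw [show (4 : ℕ) = 1 + 1 + 1 + 1 from rfl, pow_succ, pow_succ, pow_succ, pow_one,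
    LinearEquiv.mul_apply, LinearEquiv.mul_apply, LinearEquiv.mul_apply, h1, h1, h1, h1,
    eich_comp Q he hae, eich_comp Q he hae, eich_comp Q he hae]
  congr 1
  field_simp
  ring

/-- every Eichler transformation is the fourth power of an isometry -/
theorem exists_fourth_eq_eich (h2 : (2 : F) ≠ 0) {e a : V} (ha : Q a ≠ 0) (he : Q e = 0)
    (hae : polar Q a e = 0) (c : F) :
    ∃ d ∈ OG Q, ∀ x, (d ^ 4) x = eich Q e a c x :=
  ⟨reflE Q a * reflE Q (a + (c * Q a * 4⁻¹) • e),
    mul_mem (reflE_mem_OG Q _) (reflE_mem_OG Q _), fun x => fourth_eq_eich Q h2 ha he hae c x⟩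

/-- a vector fixed by an Eichler transformation is orthogonal to `e` and `a` -/
theorem perp_of_eich_fix (h2 : (2 : F) ≠ 0) {e a : V} (he0 : e ≠ 0) (ha : Q a ≠ 0)
    (hae : polar Q a e = 0) {y : V} (h : eich Q e a 1 y = y) :
    polar Q e y = 0 ∧ polar Q a y = 0 := by
  unfold eich at h
  have h1 : (1 * polar Q e y) • a - (1 * polar Q a y + 1 * 1 * Q a * polar Q e y) • e = 0 := by
    have := sub_eq_zero.2 h
    rw [← this]
    abel
  have h3 := congrArg (polar Q a) h1
  rw [polar_sub_right, polar_smul_right, polar_smul_right, hae,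
    Cfsg.Agent.Lib.Helper25.MaxTS.polar_self, polar_zero_right] at h3
  have hey : polar Q e y = 0 := by
    have h4 : (2 * Q a) * polar Q e y = 0 := by
      simp only [smul_eq_mul] at h3
      linear_combination h3
    rcases mul_eq_zero.1 h4 with h5 | h5
    · exact absurd h5 (mul_ne_zero h2 ha)
    · exact h5
  refine ⟨hey, ?_⟩
  rw [hey] at h1
  simp only [mul_zero, zero_smul, zero_sub, neg_eq_zero, one_mul, add_zero] at h1
  rcases smul_eq_zero.1 h1 with h5 | h5
  · exact h5
  · exact absurd h5 he0

end eichler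

section scalar

variable {F : Type*} [Field F] {V : Type u} [AddCommGroup V] [Module F V]
  (Q : QuadraticForm F V)

/-- the commutation hypothesis: `T` commutes with all Eichler transformations -/
def CommEich (T : V →+ V) : Prop :=
  ∀ e a : V, ∀ c : F, Q e = 0 → Q a ≠ 0 → polar Q a e = 0 →
    ∀ x, T (eich Q e a c x) = eich Q e a c (T x)

theorem commEich_of_fourth (h2 : (2 : F) ≠ 0) (T : V →+ V)
    (hT : ∀ d ∈ OG Q, ∀ v, T ((d ^ 4) v) = (d ^ 4) (T v)) : CommEich Q T := by
  intro e a c he ha hae x
  obtain ⟨d, hd, hdx⟩ := exists_fourth_eq_eich Q h2 ha he hae c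
  rw [← hdx, hT d hd, hdx]

theorem eich_fix_of_perp {e a : V} (c : F) {x : V} (h1 : polar Q e x = 0)
    (h2 : polar Q a x = 0) : eich Q e a c x = x := by
  unfold eich
  rw [h1, h2]
  simp

/-- `T` maps the line through a singular vector into itself -/
theorem line_lemma [Finite F] [FiniteDimensional F V] (h2 : (2 : F) ≠ 0)
    (hQ : (polarBilin Q).Nondegenerate) (h3 : 3 ≤ finrank F V) (T : V →+ V)
    (hT : CommEich Q T) {e : V} (he : Q e = 0) (c : F) : ∃ t : F, T (c • e) = t • e := by
  by_cases he0 : e = 0
  · subst he0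
    exact ⟨0, by simp⟩
  obtain ⟨f, d, hf, hef, hed, hfd, hd⟩ := exists_triple_of Q hQ h3 he0 he
  have hee : polar Q e e = 0 := by
    rw [Cfsg.Agent.Lib.Helper25.MaxTS.polar_self, he, mul_zero]
  -- (P2)
  have P2 : ∀ a, Q a ≠ 0 → polar Q a e = 0 →
      polar Q e (T (c • e)) = 0 ∧ polar Q a (T (c • e)) = 0 := by
    intro a ha hae
    apply perp_of_eich_fix Q h2 he0 ha hae
    have h1 := hT e a 1 he ha hae (c • e)
    rw [eich_fix_of_perp Q 1 (by rw [polar_smul_right, hee, smul_zero])
      (by rw [polar_smul_right, hae, smul_zero])] at h1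
    exact h1.symm
  have hde : polar Q d e = 0 := by rw [polar_comm, hed]
  have P1 : polar Q e (T (c • e)) = 0 := (P2 d hd hde).1
  -- (P3)
  have P3 : ∀ b, polar Q b e = 0 → polar Q b (T (c • e)) = 0 := by
    intro b hbe
    by_cases hb : Q b = 0
    swap
    · exact (P2 b hb hbe).2
    have hdy := (P2 d hd hde).2
    by_cases hplus : Q (d + b) = 0
    · have hminus : Q (d - b) ≠ 0 := by
        intro h0
        rw [QuadraticMap.map_add (⇑Q), hb] at hplus
        rw [sub_eq_add_neg, QuadraticMap.map_add (⇑Q), QuadraticMap.map_neg, hb,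
          polar_neg_right] at h0
        have : (2 : F) * Q d = 0 := by linear_combination hplus + h0
        rcases mul_eq_zero.1 this with h | h
        · exact h2 h
        · exact hd h
      have h5 := (P2 (d - b) hminus (by rw [polar_sub_left, hde, hbe, sub_zero])).2
      rw [polar_sub_left, hdy, zero_sub, neg_eq_zero] at h5
      exact h5
    · have h5 := (P2 (d + b) hplus (by rw [polar_add_left, hde, hbe, add_zero])).2
      rw [polar_add_left, hdy, zero_add] at h5
      exact h5
  refine ⟨polar Q f (T (c • e)), ?_⟩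
  have hzero : T (c • e) - polar Q f (T (c • e)) • e = 0 := by
    apply hQ.1
    intro x
    rw [polarBilin_apply_apply, polar_sub_left, polar_smul_left, smul_eq_mul]
    have hb : polar Q (x - polar Q e x • f) e = 0 := by
      rw [polar_sub_left, polar_smul_left, polar_comm Q f e, hef, polar_comm Q x e]
      simp
    have h6 := P3 _ hb
    rw [polar_sub_left, polar_smul_left, smul_eq_mul] at h6
    rw [polar_comm Q (T (c • e)) x]
    linear_combination h6
  exact sub_eq_zero.1 hzero

end scalar

section scalar2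

variable {F : Type*} [Field F] {V : Type u} [AddCommGroup V] [Module F V]
  (Q : QuadraticForm F V)

/-- the computation with a hyperbolic pair `e, f` and a nonsingular vector `d` orthogonal to
both -/
theorem triple_lemma [Finite F] [FiniteDimensional F V] (h2 : (2 : F) ≠ 0)
    (hQ : (polarBilin Q).Nondegenerate) (h3 : 3 ≤ finrank F V) (T : V →+ V)
    (hT : CommEich Q T) {e f d : V} (he : Q e = 0) (hf : Q f = 0) (hef : polar Q e f = 1)
    (hed : polar Q e d = 0) (hfd : polar Q f d = 0) (hd : Q d ≠ 0) {t : F} (hTe : T e = t • e) :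
    (∀ c : F, T (c • d) = (t * c) • d) ∧ ∀ k : F, T (k • f) = (t * k) • f := by
  have hee : polar Q e e = 0 := by
    rw [Cfsg.Agent.Lib.Helper25.MaxTS.polar_self, he, mul_zero]
  have hff : polar Q f f = 0 := by
    rw [Cfsg.Agent.Lib.Helper25.MaxTS.polar_self, hf, mul_zero]
  have hdd : polar Q d d = 2 * Q d := Cfsg.Agent.Lib.Helper25.MaxTS.polar_self d
  have hfe : polar Q f e = 1 := by rw [polar_comm, hef]
  have hde : polar Q d e = 0 := by rw [polar_comm, hed]
  have hdf : polar Q d f = 0 := by rw [polar_comm, hfd]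
  have key : ∀ c : F, T (c • d) = (t * c) • d ∧
      T ((c * c * Q d) • f) = (t * (c * c * Q d)) • f := by
    intro c
    by_cases hc : c = 0
    · subst hc
      simp
    have hv : Q ((1 : F) • e + (-(c * c * Q d)) • f + c • d) = 0 := by
      rw [Q_decomp3 Q he hf hef hed hfd]
      ring
    have hv' : Q ((1 : F) • e + (-(c * c * Q d)) • f + (-c) • d) = 0 := by
      rw [Q_decomp3 Q he hf hef hed hfd]
      ring
    obtain ⟨t₁, ht₁⟩ := line_lemma Q h2 hQ h3 T hT hv 1
    obtain ⟨t₂, ht₂⟩ := line_lemma Q h2 hQ h3 T hT hv' 1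
    obtain ⟨s, hs⟩ := line_lemma Q h2 hQ h3 T hT hf (c * c * Q d)
    rw [one_smul, one_smul, map_add, map_add, hTe, neg_smul, map_neg, hs] at ht₁
    rw [one_smul, one_smul, map_add, map_add, hTe, neg_smul, map_neg, hs, neg_smul, map_neg]
      at ht₂
    -- sum and difference
    have hsum : t₁ • (e + -((c * c * Q d) • f) + c • d) + t₂ • (e + -((c * c * Q d) • f) + -(c • d))
        = (2 * t) • e - (2 * s) • f := by
      rw [← ht₁, ← ht₂]
      module
    have hdiff : t₁ • (e + -((c * c * Q d) • f) + c • d) - t₂ • (e + -((c * c * Q d) • f) + -(c • d))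
        = (2 : F) • T (c • d) := by
      rw [← ht₁, ← ht₂]
      module
    have c1 := congrArg (polar Q d) hsum
    have c2 := congrArg (polar Q f) hsum
    have c3 := congrArg (polar Q e) hsum
    simp only [polar_add_right, polar_sub_right, polar_neg_right, polar_smul_right, hee, hff,
      hdd, hef, hfe, hed, hfd, hde, hdf, smul_eq_mul] at c1 c2 c3
    have e12 : t₁ = t₂ := by
      have : (2 * Q d * c) * (t₁ - t₂) = 0 := by linear_combination c1
      rcases mul_eq_zero.1 this with h | h
      · exact absurd h (mul_ne_zero (mul_ne_zero h2 hd) hc)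
      · linear_combination h
    have e1 : t₁ = t := by
      have : (2 : F) * (t₁ - t) = 0 := by rw [← e12] at c2; linear_combination c2
      rcases mul_eq_zero.1 this with h | h
      · exact absurd h h2
      · linear_combination h
    have es : s = t * (c * c * Q d) := by
      have : (2 : F) * (s - t * (c * c * Q d)) = 0 := by
        rw [← e12, e1] at c3
        linear_combination c3
      rcases mul_eq_zero.1 this with h | h
      · exact absurd h h2
      · linear_combination h
    refine ⟨?_, by rw [hs, es]⟩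
    rw [← e12, e1] at hdiff
    have h5 : (2 : F) • T (c • d) = (2 : F) • ((t * c) • d) := by
      rw [← hdiff]
      module
    have h6 := congrArg (fun z => (2 : F)⁻¹ • z) h5
    simp only [smul_smul, inv_mul_cancel₀ h2, one_smul] at h6
    rw [← mul_assoc, inv_mul_cancel₀ h2, one_mul] at h6
    exact h6
  refine ⟨fun c => (key c).1, fun k => ?_⟩
  have hk : k • f = ((2⁻¹ * (k * (Q d)⁻¹ + 1)) * (2⁻¹ * (k * (Q d)⁻¹ + 1)) * Q d) • f -
      ((2⁻¹ * (k * (Q d)⁻¹ - 1)) * (2⁻¹ * (k * (Q d)⁻¹ - 1)) * Q d) • f := by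
    rw [← sub_smul]
    congr 1
    field_simp
    ring
  rw [hk, map_sub, (key _).2, (key _).2, ← sub_smul]
  congr 1
  field_simp
  ring

/-- **Additive maps commuting with all Eichler transformations are scalar**
(dimension at least `3`, finite field of odd characteristic). -/
theorem scalar_of_commEich [Finite F] [FiniteDimensional F V] (h2 : (2 : F) ≠ 0)
    (hQ : (polarBilin Q).Nondegenerate) (h3 : 3 ≤ finrank F V) (T : V →+ V)
    (hT : CommEich Q T) : ∃ t : F, ∀ v, T v = t • v := by
  obtain ⟨e, he0, he⟩ := exists_singular_of_three_le Q h3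
  obtain ⟨f, d₀, hf, hef, hed₀, hfd₀, hd₀⟩ := exists_triple_of Q hQ h3 he0 he
  have hfe : polar Q f e = 1 := by rw [polar_comm, hef]
  obtain ⟨t, ht⟩ := line_lemma Q h2 hQ h3 T hT he 1
  rw [one_smul] at ht
  refine ⟨t, ?_⟩
  have h1 := triple_lemma Q h2 hQ h3 T hT he hf hef hed₀ hfd₀ hd₀ ht
  have hTf : T f = t • f := by
    have := h1.2 1
    rwa [one_smul, mul_one] at this
  have h1' := triple_lemma Q h2 hQ h3 T hT hf he hfe hfd₀ hed₀ hd₀ hTf
  -- nonsingular vectors orthogonal to the pair
  have A : ∀ d, polar Q e d = 0 → polar Q f d = 0 → Q d ≠ 0 → T d = t • d := by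
    intro d hed hfd hd
    have := (triple_lemma Q h2 hQ h3 T hT he hf hef hed hfd hd ht).1 1
    rwa [one_smul, mul_one] at this
  have B : ∀ b, polar Q e b = 0 → polar Q f b = 0 → T b = t • b := by
    intro b heb hfb
    by_cases hb : Q b = 0
    swap
    · exact A b heb hfb hb
    by_cases hplus : Q (d₀ + b) = 0
    · have hminus : Q (d₀ - b) ≠ 0 := by
        intro h0
        rw [QuadraticMap.map_add (⇑Q), hb] at hplus
        rw [sub_eq_add_neg, QuadraticMap.map_add (⇑Q), QuadraticMap.map_neg, hb,
          polar_neg_right] at h0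
        have : (2 : F) * Q d₀ = 0 := by linear_combination hplus + h0
        rcases mul_eq_zero.1 this with h | h
        · exact h2 h
        · exact hd₀ h
      have h5 := A (d₀ - b) (by rw [polar_sub_right, hed₀, heb, sub_zero])
        (by rw [polar_sub_right, hfd₀, hfb, sub_zero]) hminus
      have h6 := A d₀ hed₀ hfd₀ hd₀
      have : b = d₀ - (d₀ - b) := by abel
      rw [this, map_sub, h5, h6]
      module
    · have h5 := A (d₀ + b) (by rw [polar_add_right, hed₀, heb, add_zero])
        (by rw [polar_add_right, hfd₀, hfb, add_zero]) hplus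
      have h6 := A d₀ hed₀ hfd₀ hd₀
      have : b = (d₀ + b) - d₀ := by abel
      rw [this, map_sub, h5, h6]
      module
  intro v
  have hee : polar Q e e = 0 := by
    rw [Cfsg.Agent.Lib.Helper25.MaxTS.polar_self, he, mul_zero]
  have hff : polar Q f f = 0 := by
    rw [Cfsg.Agent.Lib.Helper25.MaxTS.polar_self, hf, mul_zero]
  have hb1 : polar Q e (v - polar Q f v • e - polar Q e v • f) = 0 := by
    rw [polar_sub_right, polar_sub_right, polar_smul_right, polar_smul_right, hee, hef]
    simp
  have hb2 : polar Q f (v - polar Q f v • e - polar Q e v • f) = 0 := by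
    rw [polar_sub_right, polar_sub_right, polar_smul_right, polar_smul_right, hff, hfe]
    simp
  have hv : v = polar Q f v • e + polar Q e v • f + (v - polar Q f v • e - polar Q e v • f) := by
    abel
  rw [hv, map_add, map_add, h1'.2, h1.2, B _ hb1 hb2]
  module

/-- the version with fourth powers of isometries -/
theorem scalar_of_commute_fourth [Finite F] [FiniteDimensional F V] (h2 : (2 : F) ≠ 0)
    (hQ : (polarBilin Q).Nondegenerate) (h3 : 3 ≤ finrank F V) (T : V →+ V)
    (hT : ∀ d ∈ OG Q, ∀ v, T ((d ^ 4) v) = (d ^ 4) (T v)) : ∃ t : F, ∀ v, T v = t • v :=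
  scalar_of_commEich Q h2 hQ h3 T (commEich_of_fourth Q h2 T hT)

end scalar2

end Cfsg.Agent.Lib.Helper18.OrthGr
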