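import Cfsg.Agent.Lib.Helper18.OrthGrB

set_option autoImplicit false

/-!
# Orthogonal decompositions `V = U ⊥ W`: the subgroup of isometries preserving both summands
-/

namespace Cfsg.Agent.Lib.Helper18.OrthGr

open Module QuadraticMap Cfsg.Agent.Lib.Helper25.CD Cfsg.Agent.Lib.Helper15

universe u

section pair

variable {F : Type*} [Field F] {V : Type u} [AddCommGroup V] [Module F V]
  (Q : QuadraticForm F V) (U W : Submodule F V)

/-- nondegeneracy passes to an orthogonal summand -/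
theorem nondeg_of_pair (hQ : (polarBilin Q).Nondegenerate)
    (hUW : ∀ u ∈ U, ∀ w ∈ W, polar Q u w = 0) (hsup : U ⊔ W = ⊤) :
    (polarBilin (QR Q W)).Nondegenerate := by
  have hsep : ∀ w : W, (∀ w' : W, polar Q (w : V) (w' : V) = 0) → w = 0 := by
    intro w hw
    have : (w : V) = 0 := by
      apply hQ.1
      intro x
      have hx : x ∈ U ⊔ W := by rw [hsup]; trivial
      obtain ⟨p, hp, w', hw', rfl⟩ := Submodule.mem_sup.1 hx
      rw [map_add]
      show polar Q (w : V) p + polar Q (w : V) w' = 0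
      rw [polar_comm, hUW p hp w w.2, hw ⟨w', hw'⟩, add_zero]
    exact Subtype.ext this
  constructor
  · intro w hw
    apply hsep w
    intro w'
    have := hw w'
    rwa [polarBilin_apply_apply, polar_QR] at this
  · intro w hw
    apply hsep w
    intro w'
    have := hw w'
    rwa [polarBilin_apply_apply, polar_QR, polar_comm] at this

/-- a vector orthogonal to `W` lies in `U` -/
theorem mem_of_perp (hQ : (polarBilin Q).Nondegenerate)
    (hUW : ∀ u ∈ U, ∀ w ∈ W, polar Q u w = 0) (hsup : U ⊔ W = ⊤) {x : V}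
    (hx : ∀ w ∈ W, polar Q x w = 0) : x ∈ U := by
  have hx' : x ∈ U ⊔ W := by rw [hsup]; trivial
  obtain ⟨p, hp, w, hw, rfl⟩ := Submodule.mem_sup.1 hx'
  have hw0 : w = 0 := by
    have hnd := nondeg_of_pair Q U W hQ hUW hsup
    have h1 : (⟨w, hw⟩ : W) = 0 := by
      apply hnd.1
      intro w'
      rw [polarBilin_apply_apply, polar_QR]
      have h3 := hx w' w'.2
      rw [polar_add_left, hUW p hp w' w'.2, zero_add] at h3
      exact h3
    exact congrArg Subtype.val h1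
  rw [hw0, add_zero]
  exact hp

/-- the group induced on `W` by a group of linear automorphisms -/
def resSub (N : Subgroup (V ≃ₗ[F] V)) : Subgroup (W ≃ₗ[F] W) where
  carrier := {h | ∃ n ∈ N, ∀ w : W, n (w : V) = (h w : V)}
  one_mem' := ⟨1, N.one_mem, fun _ => rfl⟩
  mul_mem' := by
    rintro h₁ h₂ ⟨m₁, hm₁, hw₁⟩ ⟨m₂, hm₂, hw₂⟩
    refine ⟨m₁ * m₂, N.mul_mem hm₁ hm₂, ?_⟩
    intro w
    rw [LinearEquiv.mul_apply, hw₂, hw₁, LinearEquiv.mul_apply]
  inv_mem' := by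
    rintro h ⟨m, hm, hw⟩
    refine ⟨m⁻¹, N.inv_mem hm, ?_⟩
    intro w
    have h1 := hw (h⁻¹ w)
    have h2 : h (h⁻¹ w) = w := by rw [← LinearEquiv.mul_apply, mul_inv_cancel]; rfl
    rw [h2] at h1
    have h3 : m⁻¹ (m ((h⁻¹ w : W) : V)) = ((h⁻¹ w : W) : V) := by
      rw [← LinearEquiv.mul_apply, inv_mul_cancel]; rfl
    rw [h1] at h3
    exact h3

theorem resSub_le_OG {N : Subgroup (V ≃ₗ[F] V)} (hN : N ≤ OG Q) :
    resSub W N ≤ OG (QR Q W) := by
  rintro h ⟨m, hm, hw⟩ w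
  rw [QR_apply, QR_apply, ← hw, hN hm]

theorem pow_coe {m : V ≃ₗ[F] V} {h : W ≃ₗ[F] W} (hw : ∀ w : W, m (w : V) = (h w : V)) (j : ℕ)
    (w : W) : (m ^ j) (w : V) = ((h ^ j) w : V) := by
  induction j generalizing w with
  | zero => rfl
  | succ j ih =>
    rw [pow_succ, pow_succ, LinearEquiv.mul_apply, LinearEquiv.mul_apply, hw, ih]

theorem resSub_odd {N : Subgroup (V ≃ₗ[F] V)}
    (hodd : ∀ m ∈ N, ∃ k : ℕ, Odd k ∧ m ^ k = 1) :
    ∀ h ∈ resSub W N, ∃ k : ℕ, Odd k ∧ h ^ k = 1 := by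
  rintro h ⟨m, hm, hw⟩
  obtain ⟨k, hk, hmk⟩ := hodd m hm
  refine ⟨k, hk, ?_⟩
  ext w
  rw [← pow_coe W hw, hmk]
  rfl

theorem resSub_norm {N : Subgroup (V ≃ₗ[F] V)}
    (hnorm : ∀ v ∈ W, Q v ≠ 0 → ∀ m ∈ N, reflE Q v * m * (reflE Q v)⁻¹ ∈ N) :
    ∀ w₀, QR Q W w₀ ≠ 0 → ∀ h ∈ resSub W N,
      reflE (QR Q W) w₀ * h * (reflE (QR Q W) w₀)⁻¹ ∈ resSub W N := by
  rintro w₀ hw₀ h ⟨m, hm, hw⟩
  refine ⟨reflE Q (w₀ : V) * m * (reflE Q (w₀ : V))⁻¹, hnorm _ w₀.2 hw₀ m hm, ?_⟩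
  intro w
  rw [reflE_inv, reflE_inv, LinearEquiv.mul_apply, LinearEquiv.mul_apply,
    LinearEquiv.mul_apply, LinearEquiv.mul_apply, ← reflE_coe, hw, ← reflE_coe]

/-- restriction of a linear automorphism preserving `W` -/
theorem exists_restrict' {n : V ≃ₗ[F] V} (hn : ∀ w ∈ W, n w ∈ W) (hn' : ∀ w ∈ W, n⁻¹ w ∈ W) :
    ∃ h : W ≃ₗ[F] W, ∀ w : W, n (w : V) = (h w : V) := by
  have hmap : W.map (n : V →ₗ[F] V) = W := by
    apply le_antisymm
    · rintro _ ⟨w, hw, rfl⟩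
      exact hn w hw
    · intro w hw
      refine ⟨n⁻¹ w, hn' w hw, ?_⟩
      show n (n⁻¹ w) = w
      rw [← LinearEquiv.mul_apply, mul_inv_cancel]; rfl
  exact ⟨LinearEquiv.ofSubmodules n _ _ hmap,
    fun w => (LinearEquiv.ofSubmodules_apply n hmap w).symm⟩

/-- extension of an isometry of `W` by the identity on `U` -/
theorem exists_extend [FiniteDimensional F V] (h2 : (2 : F) ≠ 0)
    (hQ : (polarBilin Q).Nondegenerate)
    (hUW : ∀ u ∈ U, ∀ w ∈ W, polar Q u w = 0) (hsup : U ⊔ W = ⊤) {h : W ≃ₗ[F] W}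
    (hh : h ∈ OG (QR Q W)) :
    ∃ d ∈ OG Q, (∀ u ∈ U, d u = u) ∧ ∀ w : W, d (w : V) = (h w : V) := by
  have hnd := nondeg_of_pair Q U W hQ hUW hsup
  have h1 : h ∈ RG (QR Q W) := cd_odd h2 _ W (QR Q W) rfl hnd hh
  obtain ⟨g, hg, hg1, hg2⟩ := ext_mem Q U W
    (fun p hp w hw => by rw [polar_comm]; exact hUW p hp w hw) h1
  exact ⟨g, RG_le_OG Q hg, hg1, hg2⟩

end pair

section pair2

variable {F : Type*} [Field F] {V : Type u} [AddCommGroup V] [Module F V]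
  (Q : QuadraticForm F V) (U W : Submodule F V)

/-- **`G1` for an orthogonal decomposition**: a group of isometries of odd order preserving
both summands and normalised by the reflections in vectors of the summands is trivial -/
theorem odd_normal_pair [Finite F] [FiniteDimensional F V] (h2 : (2 : F) ≠ 0)
    (hQ : (polarBilin Q).Nondegenerate)
    (hUW : ∀ u ∈ U, ∀ w ∈ W, polar Q u w = 0) (hsup : U ⊔ W = ⊤)
    (hU2 : finrank F U ≠ 2) (hW2 : finrank F W ≠ 2)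
    (N : Subgroup (V ≃ₗ[F] V)) (hN : N ≤ OG Q) (hodd : ∀ m ∈ N, ∃ k : ℕ, Odd k ∧ m ^ k = 1)
    (hpU : ∀ n ∈ N, ∀ u ∈ U, n u ∈ U) (hpW : ∀ n ∈ N, ∀ w ∈ W, n w ∈ W)
    (hnormU : ∀ v ∈ U, Q v ≠ 0 → ∀ m ∈ N, reflE Q v * m * (reflE Q v)⁻¹ ∈ N)
    (hnormW : ∀ v ∈ W, Q v ≠ 0 → ∀ m ∈ N, reflE Q v * m * (reflE Q v)⁻¹ ∈ N) : N = ⊥ := by
  have hWU : ∀ w ∈ W, ∀ u ∈ U, polar Q w u = 0 := fun w hw u hu => by
    rw [polar_comm]; exact hUW u hu w hw
  have hsup' : W ⊔ U = ⊤ := by rw [sup_comm]; exact hsup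
  have hresW : resSub W N = ⊥ :=
    odd_normal_trivial h2 _ W (QR Q W) rfl hW2 (nondeg_of_pair Q U W hQ hUW hsup) _
      (resSub_le_OG Q W hN) (resSub_odd W hodd) (resSub_norm Q W hnormW)
  have hresU : resSub U N = ⊥ :=
    odd_normal_trivial h2 _ U (QR Q U) rfl hU2 (nondeg_of_pair Q W U hQ hWU hsup') _
      (resSub_le_OG Q U hN) (resSub_odd U hodd) (resSub_norm Q U hnormU)
  rw [eq_bot_iff]
  intro n hn
  rw [Subgroup.mem_bot]
  obtain ⟨hW, hhW⟩ := exists_restrict' W (hpW n hn) (hpW n⁻¹ (N.inv_mem hn))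
  obtain ⟨hU, hhU⟩ := exists_restrict' U (hpU n hn) (hpU n⁻¹ (N.inv_mem hn))
  have h1 : hW ∈ resSub W N := ⟨n, hn, hhW⟩
  have h3 : hU ∈ resSub U N := ⟨n, hn, hhU⟩
  rw [hresW, Subgroup.mem_bot] at h1
  rw [hresU, Subgroup.mem_bot] at h3
  ext x
  have hx : x ∈ U ⊔ W := by rw [hsup]; trivial
  obtain ⟨p, hp, w, hw, rfl⟩ := Submodule.mem_sup.1 hx
  have e1 := hhW ⟨w, hw⟩
  have e2 := hhU ⟨p, hp⟩
  rw [h1] at e1
  rw [h3] at e2
  rw [map_add, e1, e2]
  rfl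

/-- the commutation hypothesis for the Eichler transformations of a summand -/
def CommEichOn (T : V →+ V) : Prop :=
  ∀ e ∈ W, ∀ a ∈ W, ∀ c : F, Q e = 0 → Q a ≠ 0 → polar Q a e = 0 →
    ∀ x, T (eich Q e a c x) = eich Q e a c (T x)

theorem reflE_mem_of_mem {a x : V} (ha : a ∈ W) (hx : x ∈ W) : reflE Q a x ∈ W := by
  rw [reflE_apply]
  exact W.sub_mem hx (W.smul_mem _ ha)

theorem commEichOn_of_fourth (h2 : (2 : F) ≠ 0)
    (hUW : ∀ u ∈ U, ∀ w ∈ W, polar Q u w = 0) (T : V →+ V)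
    (hT : ∀ d ∈ OG Q, (∀ u ∈ U, d u ∈ U) → (∀ w ∈ W, d w ∈ W) →
      ∀ v, T ((d ^ 4) v) = (d ^ 4) (T v)) : CommEichOn Q W T := by
  intro e he a ha c hQe hQa hae x
  have hmem : a + (c * Q a * 4⁻¹) • e ∈ W := W.add_mem ha (W.smul_mem _ he)
  have h1 := hT (reflE Q a * reflE Q (a + (c * Q a * 4⁻¹) • e))
    (mul_mem (reflE_mem_OG Q _) (reflE_mem_OG Q _))
    (fun u hu => by
      have e1 : reflE Q (a + (c * Q a * 4⁻¹) • e) u = u :=
        reflE_of_perp Q (by rw [polar_comm]; exact hUW u hu _ hmem)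
      have e2 : reflE Q a u = u := reflE_of_perp Q (by rw [polar_comm]; exact hUW u hu _ ha)
      rw [LinearEquiv.mul_apply, e1, e2]
      exact hu)
    (fun w hw => by
      rw [LinearEquiv.mul_apply]
      exact reflE_mem_of_mem Q W ha (reflE_mem_of_mem Q W hmem hw)) x
  rw [fourth_eq_eich Q h2 hQa hQe hae, fourth_eq_eich Q h2 hQa hQe hae] at h1
  exact h1

/-- a nonsingular vector of `W` orthogonal to a given nonzero singular vector of `W` -/
theorem exists_nonsing_perp_in [Finite F] [FiniteDimensional F V]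
    (hQ : (polarBilin Q).Nondegenerate)
    (hUW : ∀ u ∈ U, ∀ w ∈ W, polar Q u w = 0) (hsup : U ⊔ W = ⊤) (hW3 : 3 ≤ finrank F W)
    {e : V} (he : e ∈ W) (he0 : e ≠ 0) (hQe : Q e = 0) :
    ∃ a ∈ W, Q a ≠ 0 ∧ polar Q a e = 0 := by
  have hnd := nondeg_of_pair Q U W hQ hUW hsup
  have he0' : (⟨e, he⟩ : W) ≠ 0 := fun h => he0 (congrArg Subtype.val h)
  obtain ⟨f, d, -, -, hed, -, hd⟩ := exists_triple_of (QR Q W) hnd hW3 he0' hQe
  refine ⟨d, d.2, hd, ?_⟩
  rw [polar_comm]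
  rw [polar_QR] at hed
  exact hed

/-- `T` maps `W` into itself -/
theorem map_W_of_comm [Finite F] [FiniteDimensional F V]
    (hQ : (polarBilin Q).Nondegenerate)
    (hUW : ∀ u ∈ U, ∀ w ∈ W, polar Q u w = 0) (hsup : U ⊔ W = ⊤) (hW3 : 3 ≤ finrank F W)
    (h2 : (2 : F) ≠ 0)
    (T : V →+ V) (τ : F →+* F) (hsemi : ∀ c v, T (c • v) = τ c • T v)
    (hT : CommEichOn Q W T) : ∀ w ∈ W, T w ∈ W := by
  have hnd := nondeg_of_pair Q U W hQ hUW hsup
  have hsing : ∀ e ∈ W, Q e = 0 → T e ∈ W := by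
    intro e he hQe
    by_cases he0 : e = 0
    · rw [he0, map_zero]
      exact W.zero_mem
    obtain ⟨a, ha, hQa, hae⟩ := exists_nonsing_perp_in Q U W hQ hUW hsup hW3 he he0 hQe
    have hea : polar Q e a = 0 := by rw [polar_comm, hae]
    have h1 : eich Q e a (-(2 * Q a)⁻¹) a = a + e := by
      unfold eich
      rw [hea, Cfsg.Agent.Lib.Helper25.MaxTS.polar_self]
      have : (2 * Q a) ≠ 0 := mul_ne_zero h2 hQa
      match_scalars <;> field_simp <;> ring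
    have h3 := hT e he a ha (-(2 * Q a)⁻¹) hQe hQa hae a
    rw [h1, map_add] at h3
    have h4 : T e = eich Q e a (-(2 * Q a)⁻¹) (T a) - T a := by
      rw [← h3]; abel
    rw [h4]
    unfold eich
    have : T a + (-(2 * Q a)⁻¹ * polar Q e (T a)) • a - (-(2 * Q a)⁻¹ * polar Q a (T a) +
        -(2 * Q a)⁻¹ * -(2 * Q a)⁻¹ * Q a * polar Q e (T a)) • e - T a =
        (-(2 * Q a)⁻¹ * polar Q e (T a)) • a - (-(2 * Q a)⁻¹ * polar Q a (T a) +
        -(2 * Q a)⁻¹ * -(2 * Q a)⁻¹ * Q a * polar Q e (T a)) • e := by abel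
    rw [this]
    exact W.sub_mem (W.smul_mem _ ha) (W.smul_mem _ he)
  have hs := Cfsg.Agent.Lib.Helper25.OGeom.span_singular_eq_top (QR Q W) hnd hW3
  have key : ∀ w' : W, T (w' : V) ∈ W := by
    intro w'
    have hw' : w' ∈ Submodule.span F {x : W | QR Q W x = 0} := by rw [hs]; trivial
    induction hw' using Submodule.span_induction with
    | mem x hx => exact hsing x x.2 hx
    | zero => simp
    | add x y _ _ hx hy =>
      rw [Submodule.coe_add, map_add]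
      exact W.add_mem hx hy
    | smul c x _ hx =>
      rw [Submodule.coe_smul, hsemi]
      exact W.smul_mem _ hx
  intro w hw
  exact key ⟨w, hw⟩

/-- `T` maps `U` into itself -/
theorem map_U_of_comm [Finite F] [FiniteDimensional F V]
    (hQ : (polarBilin Q).Nondegenerate)
    (hUW : ∀ u ∈ U, ∀ w ∈ W, polar Q u w = 0) (hsup : U ⊔ W = ⊤) (hW3 : 3 ≤ finrank F W)
    (h2 : (2 : F) ≠ 0) (T : V →+ V)
    (hT : CommEichOn Q W T) : ∀ u ∈ U, T u ∈ U := by
  have hnd := nondeg_of_pair Q U W hQ hUW hsup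
  intro u hu
  apply mem_of_perp Q U W hQ hUW hsup
  have hsing : ∀ e ∈ W, Q e = 0 → polar Q (T u) e = 0 := by
    intro e he hQe
    by_cases he0 : e = 0
    · rw [he0, polar_zero_right]
    obtain ⟨a, ha, hQa, hae⟩ := exists_nonsing_perp_in Q U W hQ hUW hsup hW3 he he0 hQe
    have h1 := hT e he a ha 1 hQe hQa hae u
    rw [eich_fix_of_perp Q 1 (by rw [polar_comm]; exact hUW u hu e he)
      (by rw [polar_comm]; exact hUW u hu a ha)] at h1
    rw [polar_comm]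
    exact (perp_of_eich_fix Q h2 he0 hQa hae h1.symm).1
  have hs := Cfsg.Agent.Lib.Helper25.OGeom.span_singular_eq_top (QR Q W) hnd hW3
  have key : ∀ w' : W, polar Q (T u) (w' : V) = 0 := by
    intro w'
    have hw' : w' ∈ Submodule.span F {x : W | QR Q W x = 0} := by rw [hs]; trivial
    induction hw' using Submodule.span_induction with
    | mem x hx => exact hsing x x.2 hx
    | zero => simp
    | add x y _ _ hx hy =>
      rw [Submodule.coe_add, polar_add_right, hx, hy, add_zero]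
    | smul c x _ hx =>
      rw [Submodule.coe_smul, polar_smul_right, hx, smul_zero]
  intro w hw
  exact key ⟨w, hw⟩

end pair2

section pair3

variable {F : Type*} [Field F] {V : Type u} [AddCommGroup V] [Module F V]
  (Q : QuadraticForm F V) (U W : Submodule F V)

/-- `T` is scalar on a summand of dimension at least `3` which it preserves -/
theorem scalar_on_summand [Finite F] [FiniteDimensional F V] (h2 : (2 : F) ≠ 0)
    (hQ : (polarBilin Q).Nondegenerate)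
    (hUW : ∀ u ∈ U, ∀ w ∈ W, polar Q u w = 0) (hsup : U ⊔ W = ⊤) (hW3 : 3 ≤ finrank F W)
    (T : V →+ V) (hTW : ∀ w ∈ W, T w ∈ W)
    (hT : ∀ d ∈ OG Q, (∀ u ∈ U, d u ∈ U) → (∀ w ∈ W, d w ∈ W) →
      ∀ v, T ((d ^ 4) v) = (d ^ 4) (T v)) : ∃ t : F, ∀ w ∈ W, T w = t • w := by
  have hnd := nondeg_of_pair Q U W hQ hUW hsup
  let TW : W →+ W := AddMonoidHom.mk' (fun w => ⟨T w, hTW w w.2⟩) (fun x y => by
    apply Subtype.ext
    show T ((x + y : W) : V) = T x + T y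
    rw [Submodule.coe_add, map_add])
  have hTWc : ∀ w : W, ((TW w : W) : V) = T w := fun _ => rfl
  obtain ⟨t, ht⟩ := scalar_of_commute_fourth (QR Q W) h2 hnd hW3 TW (by
    intro d hd w
    obtain ⟨d', hd', hd'U, hd'W⟩ := exists_extend Q U W h2 hQ hUW hsup hd
    apply Subtype.ext
    have h1 := hT d' hd' (fun u hu => by rw [hd'U u hu]; exact hu)
      (fun w hw => by
        have := hd'W ⟨w, hw⟩
        rw [this]
        exact (d ⟨w, hw⟩).2) (w : V)
    rw [hTWc, ← pow_coe W hd'W, h1, ← hTWc, pow_coe W hd'W])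
  refine ⟨t, fun w hw => ?_⟩
  have := congrArg Subtype.val (ht ⟨w, hw⟩)
  exact this

/-- **`G2` for an orthogonal decomposition** -/
theorem scalar_pair [Finite F] [FiniteDimensional F V] (h2 : (2 : F) ≠ 0)
    (hQ : (polarBilin Q).Nondegenerate)
    (hUW : ∀ u ∈ U, ∀ w ∈ W, polar Q u w = 0) (hsup : U ⊔ W = ⊤) (hW3 : 3 ≤ finrank F W)
    (hU : finrank F U ≤ 1 ∨ 3 ≤ finrank F U)
    (T : V →+ V) (τ : F →+* F) (hsemi : ∀ c v, T (c • v) = τ c • T v)
    (hinj : Function.Injective T)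
    (hT : ∀ d ∈ OG Q, (∀ u ∈ U, d u ∈ U) → (∀ w ∈ W, d w ∈ W) →
      ∀ v, T ((d ^ 4) v) = (d ^ 4) (T v)) :
    (∀ c, τ c = c) ∧ ∃ tU tW : F, (∀ u ∈ U, T u = tU • u) ∧ (∀ w ∈ W, T w = tW • w) := by
  have hWU : ∀ w ∈ W, ∀ u ∈ U, polar Q w u = 0 := fun w hw u hu => by
    rw [polar_comm]; exact hUW u hu w hw
  have hsup' : W ⊔ U = ⊤ := by rw [sup_comm]; exact hsup
  have hcomm := commEichOn_of_fourth Q U W h2 hUW T hT
  have hTW := map_W_of_comm Q U W hQ hUW hsup hW3 h2 T τ hsemi hcomm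
  have hTU := map_U_of_comm Q U W hQ hUW hsup hW3 h2 T hcomm
  obtain ⟨tW, htW⟩ := scalar_on_summand Q U W h2 hQ hUW hsup hW3 T hTW hT
  -- `τ` is the identity
  have hntW : Nontrivial W := Module.nontrivial_of_finrank_pos (R := F) (by omega)
  obtain ⟨w₀, hw₀⟩ := exists_ne (0 : W)
  have hw₀' : (w₀ : V) ≠ 0 := fun h => hw₀ (Subtype.ext h)
  have htW0 : tW ≠ 0 := by
    rintro rfl
    have h1 := htW w₀ w₀.2
    rw [zero_smul] at h1
    apply hw₀'
    apply hinj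
    rw [h1, map_zero]
  have hτ : ∀ c, τ c = c := by
    intro c
    have h1 := hsemi c (w₀ : V)
    rw [htW _ (W.smul_mem c w₀.2), htW _ w₀.2, smul_smul, smul_smul] at h1
    have h3 : (tW * c - τ c * tW) • (w₀ : V) = 0 := by rw [sub_smul, h1, sub_self]
    rcases smul_eq_zero.1 h3 with h4 | h4
    · have h5 : tW * (c - τ c) = 0 := by linear_combination h4
      rcases mul_eq_zero.1 h5 with h6 | h6
      · exact absurd h6 htW0
      · linear_combination -h6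
    · exact absurd h4 hw₀'
  refine ⟨hτ, ?_⟩
  rcases hU with hU1 | hU3
  · obtain ⟨u₀, hu₀⟩ := finrank_le_one_iff.1 hU1
    obtain ⟨tU, htU⟩ := hu₀ ⟨T u₀, hTU u₀ u₀.2⟩
    have htU' : T (u₀ : V) = tU • (u₀ : V) := (congrArg Subtype.val htU).symm
    refine ⟨tU, tW, fun u hu => ?_, htW⟩
    obtain ⟨c, hc⟩ := hu₀ ⟨u, hu⟩
    have hc' : u = c • (u₀ : V) := (congrArg Subtype.val hc).symm
    rw [hc', hsemi, hτ, htU', smul_smul, smul_smul, mul_comm]
  · obtain ⟨tU, htU⟩ := scalar_on_summand Q W U h2 hQ hWU hsup' hU3 T hTU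
      (fun d hd hdW hdU => hT d hd hdU hdW)
    exact ⟨tU, tW, htU, htW⟩

end pair3

section eigen

variable {F : Type*} [Field F] {V : Type u} [AddCommGroup V] [Module F V]
  (Q : QuadraticForm F V)

/-- the eigenspace of `g` for the eigenvalue `c` -/
def eigW (g : V ≃ₗ[F] V) (c : F) : Submodule F V :=
  LinearMap.ker ((g : V →ₗ[F] V) - c • LinearMap.id)

theorem mem_eigW {g : V ≃ₗ[F] V} {c : F} {v : V} : v ∈ eigW g c ↔ g v = c • v := by
  unfold eigW
  rw [LinearMap.mem_ker, LinearMap.sub_apply, LinearMap.smul_apply, LinearMap.id_apply,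
    sub_eq_zero]
  rfl

theorem polar_sim {g : V ≃ₗ[F] V} {μ : F} (hQg : ∀ v, Q (g v) = μ * Q v) (x y : V) :
    polar Q (g x) (g y) = μ * polar Q x y := by
  unfold polar
  rw [← map_add, hQg, hQg, hQg]
  ring

theorem eig_perp (h2 : (2 : F) ≠ 0) {g : V ≃ₗ[F] V} {c : F} (hc : c ≠ 0)
    (hQg : ∀ v, Q (g v) = (c * c) * Q v) :
    ∀ u ∈ eigW g (-c), ∀ w ∈ eigW g c, polar Q u w = 0 := by
  intro u hu w hw
  rw [mem_eigW] at hu hw
  have h1 := polar_sim Q hQg u w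
  rw [hu, hw, polar_smul_left, polar_smul_right, smul_eq_mul, smul_eq_mul] at h1
  have h3 : (2 * (c * c)) * polar Q u w = 0 := by linear_combination -h1
  rcases mul_eq_zero.1 h3 with h4 | h4
  · exact absurd h4 (mul_ne_zero h2 (mul_ne_zero hc hc))
  · exact h4

theorem eig_sup (h2 : (2 : F) ≠ 0) {g : V ≃ₗ[F] V} {c : F} (hc : c ≠ 0)
    (hgg : ∀ v, g (g v) = (c * c) • v) : eigW g (-c) ⊔ eigW g c = ⊤ := by
  rw [eq_top_iff]
  intro v _
  have h2c : (2 * c) ≠ 0 := mul_ne_zero h2 hc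
  have hv : v = (2 * c)⁻¹ • (c • v - g v) + (2 * c)⁻¹ • (c • v + g v) := by
    rw [← smul_add]
    have : c • v - g v + (c • v + g v) = (2 * c) • v := by module
    rw [this, smul_smul, inv_mul_cancel₀ h2c, one_smul]
  rw [hv]
  apply Submodule.add_mem_sup
  · apply Submodule.smul_mem
    rw [mem_eigW, map_sub, map_smul, hgg]
    module
  · apply Submodule.smul_mem
    rw [mem_eigW, map_add, map_smul, hgg]
    module

theorem preserve_of_comm {g d : V ≃ₗ[F] V} (hd : ∀ v, d (g v) = g (d v)) (c : F) :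
    ∀ w ∈ eigW g c, d w ∈ eigW g c := by
  intro w hw
  rw [mem_eigW] at hw ⊢
  rw [← hd, hw, map_smul]

theorem comm_of_preserve (h2 : (2 : F) ≠ 0) {g d : V ≃ₗ[F] V} {c : F} (hc : c ≠ 0)
    (hgg : ∀ v, g (g v) = (c * c) • v) (hU : ∀ u ∈ eigW g (-c), d u ∈ eigW g (-c))
    (hW : ∀ w ∈ eigW g c, d w ∈ eigW g c) : ∀ v, d (g v) = g (d v) := by
  intro v
  have hv : v ∈ eigW g (-c) ⊔ eigW g c := by rw [eig_sup h2 hc hgg]; trivial
  obtain ⟨u, hu, w, hw, rfl⟩ := Submodule.mem_sup.1 hv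
  have e1 := mem_eigW.1 hu
  have e2 := mem_eigW.1 hw
  have e3 := mem_eigW.1 (hU u hu)
  have e4 := mem_eigW.1 (hW w hw)
  simp only [map_add, e1, e2, e3, e4, map_smul]

/-- **`G1`, type (i)** -/
theorem typeI_odd_normal [Finite F] [FiniteDimensional F V] (h2 : (2 : F) ≠ 0)
    (hQ : (polarBilin Q).Nondegenerate) (g : V ≃ₗ[F] V) {c : F} (hc : c ≠ 0)
    (hgg : ∀ v, g (g v) = (c * c) • v) (hQg : ∀ v, Q (g v) = (c * c) * Q v)
    (hW3 : 3 ≤ finrank F (eigW g c))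
    (hU : finrank F (eigW g (-c)) ≤ 1 ∨ 3 ≤ finrank F (eigW g (-c)))
    (N : Subgroup (V ≃ₗ[F] V)) (hN : N ≤ OG Q) (hNg : ∀ n ∈ N, ∀ v, n (g v) = g (n v))
    (hodd : ∀ m ∈ N, ∃ k : ℕ, Odd k ∧ m ^ k = 1)
    (hnorm : ∀ d ∈ OG Q, (∀ v, d (g v) = g (d v)) → ∀ m ∈ N, d * m * d⁻¹ ∈ N) : N = ⊥ := by
  have hUW := eig_perp Q h2 hc hQg
  have hsup := eig_sup h2 hc hgg
  apply odd_normal_pair Q (eigW g (-c)) (eigW g c) h2 hQ hUW hsup (by omega) (by omega) N hN hodd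
    (fun n hn => preserve_of_comm (hNg n hn) _) (fun n hn => preserve_of_comm (hNg n hn) _)
  · intro v hv hQv m hm
    apply hnorm _ (reflE_mem_OG Q v) _ m hm
    apply comm_of_preserve h2 hc hgg
    · intro u hu
      exact reflE_mem_of_mem Q _ hv hu
    · intro w hw
      rw [reflE_of_perp Q (hUW v hv w hw)]
      exact hw
  · intro v hv hQv m hm
    apply hnorm _ (reflE_mem_OG Q v) _ m hm
    apply comm_of_preserve h2 hc hgg
    · intro u hu
      rw [reflE_of_perp Q (by rw [polar_comm]; exact hUW u hu v hv)]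
      exact hu
    · intro w hw
      exact reflE_mem_of_mem Q _ hv hw

/-- **`G2`, type (i)** -/
theorem typeI_scalar [Finite F] [FiniteDimensional F V] (h2 : (2 : F) ≠ 0)
    (hQ : (polarBilin Q).Nondegenerate) (g : V ≃ₗ[F] V) {c : F} (hc : c ≠ 0)
    (hgg : ∀ v, g (g v) = (c * c) • v) (hQg : ∀ v, Q (g v) = (c * c) * Q v)
    (hW3 : 3 ≤ finrank F (eigW g c))
    (hU : finrank F (eigW g (-c)) ≤ 1 ∨ 3 ≤ finrank F (eigW g (-c)))
    (T : V →+ V) (τ : F →+* F) (hsemi : ∀ c v, T (c • v) = τ c • T v)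
    (hinj : Function.Injective T)
    (hT : ∀ d ∈ OG Q, (∀ v, d (g v) = g (d v)) → ∀ v, T ((d ^ 4) v) = (d ^ 4) (T v)) :
    (∀ a, τ a = a) ∧ ∃ α β : F, ∀ v, T v = α • v + β • g v := by
  have hUW := eig_perp Q h2 hc hQg
  have hsup := eig_sup h2 hc hgg
  obtain ⟨hτ, tU, tW, htU, htW⟩ := scalar_pair Q (eigW g (-c)) (eigW g c) h2 hQ hUW hsup hW3 hU
    T τ hsemi hinj (fun d hd hdU hdW => hT d hd (comm_of_preserve h2 hc hgg hdU hdW))
  refine ⟨hτ, 2⁻¹ * (tW + tU), (2 * c)⁻¹ * (tW - tU), fun v => ?_⟩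
  have hv : v ∈ eigW g (-c) ⊔ eigW g c := by rw [hsup]; trivial
  obtain ⟨u, hu, w, hw, rfl⟩ := Submodule.mem_sup.1 hv
  rw [map_add, htU u hu, htW w hw, map_add, mem_eigW.1 hu, mem_eigW.1 hw]
  have h2c : (2 * c) ≠ 0 := mul_ne_zero h2 hc
  match_scalars <;> field_simp <;> ring

end eigen

end Cfsg.Agent.Lib.Helper18.OrthGr
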