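import Cfsg.Agent.Lib.Helper18.OrthGrC

set_option autoImplicit false

/-!
# Similitudes with nonsquare scalar square: the structure over the quadratic extension
-/

namespace Cfsg.Agent.Lib.Helper18.OrthGr

open Module QuadraticMap Cfsg.Agent.Lib.Helper25.CD Cfsg.Agent.Lib.Helper15
open scoped QuadraticAlgebra

universe u

section ext

variable {F : Type*} [Field F] {lam : F} [hlam : Fact (∀ r : F, r ^ 2 ≠ lam + 0 * r)]
  {V : Type u} [AddCommGroup V] [Module F V] [Module (QuadraticAlgebra F lam 0) V]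
  [IsScalarTower F (QuadraticAlgebra F lam 0) V]
  (Q : QuadraticForm F V) (g : V ≃ₗ[F] V)
  (hω : ∀ v : V, (ω : QuadraticAlgebra F lam 0) • v = g v)
  (hQg : ∀ v, Q (g v) = lam * Q v)

include hlam in
theorem lam_ne_zero : lam ≠ 0 := by
  intro h
  apply hlam.out 0
  rw [h]
  ring

include hω in
theorem smul_eq (z : QuadraticAlgebra F lam 0) (v : V) : z • v = z.re • v + z.im • g v := by
  have hz : z = algebraMap F _ z.re + z.im • (ω : QuadraticAlgebra F lam 0) := by
    rw [← QuadraticAlgebra.mk_eq_add_smul_omega]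
  nth_rewrite 1 [hz]
  rw [add_smul, algebraMap_smul, smul_assoc, hω]

include hω in
theorem gg_eq (v : V) : g (g v) = lam • v := by
  rw [← hω, ← hω, smul_smul, QuadraticAlgebra.omega_mul_omega_eq_mk, smul_eq g hω]
  simp

include hω hQg in
theorem selfadj (u v : V) : polar Q (g u) v = polar Q u (g v) := by
  have h1 := polar_sim Q hQg (g u) v
  rw [gg_eq g hω, polar_smul_left, smul_eq_mul] at h1
  have h0 := lam_ne_zero (lam := lam)
  have h3 : lam * (polar Q u (g v) - polar Q (g u) v) = 0 := by linear_combination h1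
  rcases mul_eq_zero.1 h3 with h | h
  · exact absurd h h0
  · linear_combination -h

end ext

section ext2

variable {F : Type*} [Field F] {lam : F} [hlam : Fact (∀ r : F, r ^ 2 ≠ lam + 0 * r)]
  {V : Type u} [AddCommGroup V] [Module F V] [Module (QuadraticAlgebra F lam 0) V]
  [IsScalarTower F (QuadraticAlgebra F lam 0) V]
  (Q : QuadraticForm F V) (g : V ≃ₗ[F] V)
  (hω : ∀ v : V, (ω : QuadraticAlgebra F lam 0) • v = g v)
  (hQg : ∀ v, Q (g v) = lam * Q v)

/-- half of the polar form of the quadratic form over the quadratic extension -/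
noncomputable def bK : LinearMap.BilinForm (QuadraticAlgebra F lam 0) V :=
  LinearMap.mk₂ (QuadraticAlgebra F lam 0)
    (fun u v => (⟨2⁻¹ * polar Q u v, 2⁻¹ * lam⁻¹ * polar Q u (g v)⟩ : QuadraticAlgebra F lam 0))
    (fun m₁ m₂ n => by
      ext
      · simp only [polar_add_left, QuadraticAlgebra.re_add]
        ring
      · simp only [polar_add_left, QuadraticAlgebra.im_add]
        ring)
    (fun c m n => by
      have h0 := lam_ne_zero (lam := lam)
      rw [smul_eq g hω]
      ext
      · simp only [polar_add_left, polar_smul_left, smul_eq_mul, QuadraticAlgebra.re_mul,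
          selfadj Q g hω hQg m n]
        field_simp
      · simp only [polar_add_left, polar_smul_left, smul_eq_mul, QuadraticAlgebra.im_mul,
          selfadj Q g hω hQg m (g n), gg_eq g hω, polar_smul_right]
        field_simp
        ring)
    (fun m n₁ n₂ => by
      ext
      · simp only [polar_add_right, QuadraticAlgebra.re_add]
        ring
      · simp only [map_add, polar_add_right, QuadraticAlgebra.im_add]
        ring)
    (fun c m n => by
      have h0 := lam_ne_zero (lam := lam)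
      rw [smul_eq g hω]
      ext
      · simp only [polar_add_right, polar_smul_right, smul_eq_mul, QuadraticAlgebra.re_mul]
        field_simp
      · simp only [map_add, map_smul, polar_add_right, polar_smul_right, smul_eq_mul,
          QuadraticAlgebra.im_mul, gg_eq g hω]
        field_simp
        ring)

end ext2

section ext3

variable {F : Type*} [Field F] {lam : F} [hlam : Fact (∀ r : F, r ^ 2 ≠ lam + 0 * r)]
  {V : Type u} [AddCommGroup V] [Module F V] [Module (QuadraticAlgebra F lam 0) V]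
  [IsScalarTower F (QuadraticAlgebra F lam 0) V]
  (Q : QuadraticForm F V) (g : V ≃ₗ[F] V)
  (hω : ∀ v : V, (ω : QuadraticAlgebra F lam 0) • v = g v)
  (hQg : ∀ v, Q (g v) = lam * Q v)

theorem bK_apply (u v : V) : bK Q g hω hQg u v =
    (⟨2⁻¹ * polar Q u v, 2⁻¹ * lam⁻¹ * polar Q u (g v)⟩ : QuadraticAlgebra F lam 0) := rfl

/-- the quadratic form over the quadratic extension -/
noncomputable def QK : QuadraticForm (QuadraticAlgebra F lam 0) V :=
  (bK Q g hω hQg).toQuadraticMap

theorem QK_apply (h2 : (2 : F) ≠ 0) (v : V) : QK Q g hω hQg v =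
    (⟨Q v, 2⁻¹ * lam⁻¹ * polar Q v (g v)⟩ : QuadraticAlgebra F lam 0) := by
  unfold QK
  rw [LinearMap.BilinMap.toQuadraticMap_apply, bK_apply,
    Cfsg.Agent.Lib.Helper25.MaxTS.polar_self]
  congr 1
  field_simp

theorem polar_QK (h2 : (2 : F) ≠ 0) (u v : V) : polar (QK Q g hω hQg) u v =
    (⟨polar Q u v, lam⁻¹ * polar Q u (g v)⟩ : QuadraticAlgebra F lam 0) := by
  unfold QK
  rw [LinearMap.BilinMap.polar_toQuadraticMap, bK_apply, bK_apply]
  ext
  · simp only [QuadraticAlgebra.re_add]
    rw [polar_comm Q v u]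
    field_simp
    ring
  · simp only [QuadraticAlgebra.im_add]
    rw [polar_comm Q v (g u), selfadj Q g hω hQg u v]
    field_simp
    ring

theorem QK_nondeg (h2 : (2 : F) ≠ 0) (hQ : (polarBilin Q).Nondegenerate) :
    (polarBilin (QK Q g hω hQg)).Nondegenerate := by
  have hsep : ∀ u : V, (∀ v : V, polar (QK Q g hω hQg) u v = 0) → u = 0 := by
    intro u hu
    apply hQ.1
    intro v
    have h1 := congrArg QuadraticAlgebra.re (hu v)
    rw [polar_QK Q g hω hQg h2] at h1
    exact h1
  constructor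
  · intro u hu
    exact hsep u (fun v => hu v)
  · intro u hu
    apply hsep u
    intro v
    rw [polar_comm]
    exact hu v

end ext3

section ext4

variable {F : Type*} [Field F] {lam : F} [hlam : Fact (∀ r : F, r ^ 2 ≠ lam + 0 * r)]
  {V : Type u} [AddCommGroup V] [Module F V] [Module (QuadraticAlgebra F lam 0) V]
  [IsScalarTower F (QuadraticAlgebra F lam 0) V]
  (Q : QuadraticForm F V) (g : V ≃ₗ[F] V)
  (hω : ∀ v : V, (ω : QuadraticAlgebra F lam 0) • v = g v)
  (hQg : ∀ v, Q (g v) = lam * Q v)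

/-- an `F`-linear automorphism commuting with `g` is linear over the quadratic extension -/
noncomputable def toK (d : V ≃ₗ[F] V) (hd : ∀ v, d (g v) = g (d v)) :
    V ≃ₗ[QuadraticAlgebra F lam 0] V :=
  { toFun := d
    invFun := d.symm
    map_add' := d.map_add
    map_smul' := fun z v => by
      show d (z • v) = z • d v
      rw [smul_eq g hω, smul_eq g hω, map_add, map_smul, map_smul, hd]
    left_inv := d.left_inv
    right_inv := d.right_inv }

theorem toK_apply (d : V ≃ₗ[F] V) (hd : ∀ v, d (g v) = g (d v)) (v : V) :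
    toK g hω d hd v = d v := rfl

/-- restriction of scalars as a group homomorphism -/
noncomputable def ofK : (V ≃ₗ[QuadraticAlgebra F lam 0] V) →* (V ≃ₗ[F] V) where
  toFun d' := d'.restrictScalars F
  map_one' := rfl
  map_mul' _ _ := rfl

theorem ofK_apply (d' : V ≃ₗ[QuadraticAlgebra F lam 0] V) (v : V) :
    ofK (F := F) d' v = d' v := rfl

theorem ofK_injective :
    Function.Injective (ofK : (V ≃ₗ[QuadraticAlgebra F lam 0] V) →* (V ≃ₗ[F] V)) := by
  intro a b hab
  ext v
  have := DFunLike.congr_fun hab v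
  exact this

include hω in
theorem ofK_comm (d' : V ≃ₗ[QuadraticAlgebra F lam 0] V) (v : V) :
    ofK (F := F) d' (g v) = g (ofK (F := F) d' v) := by
  rw [ofK_apply, ofK_apply, ← hω, ← hω, map_smul]

theorem ofK_toK (d : V ≃ₗ[F] V) (hd : ∀ v, d (g v) = g (d v)) :
    ofK (toK g hω d hd) = d := by
  ext v
  rfl

theorem ofK_mem_OG (h2 : (2 : F) ≠ 0) {d' : V ≃ₗ[QuadraticAlgebra F lam 0] V}
    (hd' : d' ∈ OG (QK Q g hω hQg)) : ofK (F := F) d' ∈ OG Q := by
  intro v
  have h1 := congrArg QuadraticAlgebra.re (hd' v)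
  rw [QK_apply Q g hω hQg h2, QK_apply Q g hω hQg h2] at h1
  exact h1

theorem toK_mem_OG (h2 : (2 : F) ≠ 0) {d : V ≃ₗ[F] V} (hd : ∀ v, d (g v) = g (d v))
    (hdO : d ∈ OG Q) : toK g hω d hd ∈ OG (QK Q g hω hQg) := by
  intro v
  rw [QK_apply Q g hω hQg h2, QK_apply Q g hω hQg h2, toK_apply, hdO v, ← hd,
    polar_of_iso Q hdO]

theorem pow_ofK (d' : V ≃ₗ[QuadraticAlgebra F lam 0] V) (k : ℕ) (v : V) :
    ((ofK (F := F) d') ^ k) v = (d' ^ k) v := by
  rw [← map_pow, ofK_apply]

end ext4

section ext5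

variable {F : Type*} [Field F] {lam : F} [hlam : Fact (∀ r : F, r ^ 2 ≠ lam + 0 * r)]
  {V : Type u} [AddCommGroup V] [Module F V] [Module (QuadraticAlgebra F lam 0) V]
  [IsScalarTower F (QuadraticAlgebra F lam 0) V]
  (Q : QuadraticForm F V) (g : V ≃ₗ[F] V)
  (hω : ∀ v : V, (ω : QuadraticAlgebra F lam 0) • v = g v)
  (hQg : ∀ v, Q (g v) = lam * Q v)

theorem two_ne_zero_K (h2 : (2 : F) ≠ 0) : (2 : QuadraticAlgebra F lam 0) ≠ 0 := by
  intro h
  apply h2
  have := congrArg QuadraticAlgebra.re h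
  simpa using this

theorem finite_K [Finite F] : Finite (QuadraticAlgebra F lam 0) :=
  Finite.of_equiv _ (QuadraticAlgebra.equivProd lam 0).symm

theorem finrank_K [FiniteDimensional F V] :
    finrank F V = 2 * finrank (QuadraticAlgebra F lam 0) V := by
  have h1 := Module.finrank_mul_finrank F (QuadraticAlgebra F lam 0) V
  rw [QuadraticAlgebra.finrank_eq_two] at h1
  exact h1.symm

include hω hQg in
theorem typeII_odd_normal_aux [Finite F] [FiniteDimensional F V] (h2 : (2 : F) ≠ 0)
    (hQ : (polarBilin Q).Nondegenerate) (hdim : 6 ≤ finrank F V)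
    (N : Subgroup (V ≃ₗ[F] V)) (hN : N ≤ OG Q) (hNg : ∀ n ∈ N, ∀ v, n (g v) = g (n v))
    (hodd : ∀ m ∈ N, ∃ k : ℕ, Odd k ∧ m ^ k = 1)
    (hnorm : ∀ d ∈ OG Q, (∀ v, d (g v) = g (d v)) → ∀ m ∈ N, d * m * d⁻¹ ∈ N) : N = ⊥ := by
  haveI : Finite (QuadraticAlgebra F lam 0) := finite_K
  haveI : FiniteDimensional (QuadraticAlgebra F lam 0) V :=
    Module.Finite.of_restrictScalars_finite F _ V
  have hfr := finrank_K (F := F) (lam := lam) (V := V)
  have hbot : N.comap (ofK : (V ≃ₗ[QuadraticAlgebra F lam 0] V) →* (V ≃ₗ[F] V)) = ⊥ := by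
    apply odd_normal_trivial (two_ne_zero_K h2) _ V (QK Q g hω hQg) rfl (by omega)
      (QK_nondeg Q g hω hQg h2 hQ)
    · intro d' hd'
      have h1 : ofK (F := F) d' ∈ N := hd'
      have h3 := toK_mem_OG Q g hω hQg h2 (ofK_comm g hω d') (hN h1)
      have h4 : toK g hω (ofK (F := F) d') (ofK_comm g hω d') = d' := by
        ext v
        rfl
      rw [h4] at h3
      exact h3
    · intro d' hd'
      have h1 : ofK (F := F) d' ∈ N := hd'
      obtain ⟨k, hk, hdk⟩ := hodd _ h1
      refine ⟨k, hk, ?_⟩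
      apply ofK_injective (F := F)
      rw [map_pow, hdk, map_one]
    · intro v hv d' hd'
      have h1 : ofK (F := F) d' ∈ N := hd'
      show ofK (F := F) (reflE (QK Q g hω hQg) v * d' * (reflE (QK Q g hω hQg) v)⁻¹) ∈ N
      rw [map_mul, map_mul, map_inv]
      exact hnorm _ (ofK_mem_OG Q g hω hQg h2 (reflE_mem_OG _ v)) (ofK_comm g hω _) _ h1
  rw [eq_bot_iff]
  intro n hn
  rw [Subgroup.mem_bot]
  have h1 : toK g hω n (hNg n hn) ∈
      N.comap (ofK : (V ≃ₗ[QuadraticAlgebra F lam 0] V) →* (V ≃ₗ[F] V)) := by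
    show ofK (toK g hω n (hNg n hn)) ∈ N
    rw [ofK_toK]
    exact hn
  rw [hbot, Subgroup.mem_bot] at h1
  have h3 := ofK_toK g hω n (hNg n hn)
  rw [h1, map_one] at h3
  exact h3.symm

include hω hQg in
theorem typeII_scalar_aux [Finite F] [FiniteDimensional F V] (h2 : (2 : F) ≠ 0)
    (hQ : (polarBilin Q).Nondegenerate) (hdim : 6 ≤ finrank F V) (T : V →+ V)
    (hT : ∀ d ∈ OG Q, (∀ v, d (g v) = g (d v)) → ∀ v, T ((d ^ 4) v) = (d ^ 4) (T v)) :
    ∃ α β : F, ∀ v, T v = α • v + β • g v := by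
  haveI : Finite (QuadraticAlgebra F lam 0) := finite_K
  haveI : FiniteDimensional (QuadraticAlgebra F lam 0) V :=
    Module.Finite.of_restrictScalars_finite F _ V
  have hfr := finrank_K (F := F) (lam := lam) (V := V)
  obtain ⟨z, hz⟩ := scalar_of_commute_fourth (QK Q g hω hQg) (two_ne_zero_K h2)
    (QK_nondeg Q g hω hQg h2 hQ) (by omega) T (by
      intro d' hd' v
      have h1 := hT (ofK (F := F) d') (ofK_mem_OG Q g hω hQg h2 hd') (ofK_comm g hω d') v
      rw [pow_ofK, pow_ofK] at h1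
      exact h1)
  refine ⟨z.re, z.im, fun v => ?_⟩
  rw [hz, smul_eq g hω]

end ext5

section inst

variable {F : Type*} [Field F] {lam : F}
  {V : Type u} [AddCommGroup V] [Module F V]

/-- the module structure over the quadratic extension defined by `g` -/
@[reducible] def kModule (g : V ≃ₗ[F] V) (hgg : ∀ v, g (g v) = lam • v) :
    Module (QuadraticAlgebra F lam 0) V where
  smul z v := z.re • v + z.im • g v
  one_smul v := by
    show (1 : QuadraticAlgebra F lam 0).re • v + (1 : QuadraticAlgebra F lam 0).im • g v = v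
    simp
  mul_smul z w v := by
    show (z * w).re • v + (z * w).im • g v =
      z.re • (w.re • v + w.im • g v) + z.im • g (w.re • v + w.im • g v)
    rw [map_add, map_smul, map_smul, hgg]
    simp only [QuadraticAlgebra.re_mul, QuadraticAlgebra.im_mul]
    module
  smul_zero z := by
    show z.re • (0 : V) + z.im • g 0 = 0
    simp
  smul_add z v w := by
    show z.re • (v + w) + z.im • g (v + w) = (z.re • v + z.im • g v) + (z.re • w + z.im • g w)
    rw [map_add]
    module
  add_smul z w v := by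
    show (z + w).re • v + (z + w).im • g v = (z.re • v + z.im • g v) + (w.re • v + w.im • g v)
    simp only [QuadraticAlgebra.re_add, QuadraticAlgebra.im_add]
    module
  zero_smul v := by
    show (0 : QuadraticAlgebra F lam 0).re • v + (0 : QuadraticAlgebra F lam 0).im • g v = 0
    simp

variable (Q : QuadraticForm F V)

/-- **`G1`, type (ii)** -/
theorem typeII_odd_normal [Finite F] [FiniteDimensional F V] (h2 : (2 : F) ≠ 0)
    (hQ : (polarBilin Q).Nondegenerate) (hdim : 6 ≤ finrank F V) (g : V ≃ₗ[F] V)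
    (hns : ¬ IsSquare lam) (hgg : ∀ v, g (g v) = lam • v) (hQg : ∀ v, Q (g v) = lam * Q v)
    (N : Subgroup (V ≃ₗ[F] V)) (hN : N ≤ OG Q) (hNg : ∀ n ∈ N, ∀ v, n (g v) = g (n v))
    (hodd : ∀ m ∈ N, ∃ k : ℕ, Odd k ∧ m ^ k = 1)
    (hnorm : ∀ d ∈ OG Q, (∀ v, d (g v) = g (d v)) → ∀ m ∈ N, d * m * d⁻¹ ∈ N) : N = ⊥ := by
  haveI : Fact (∀ r : F, r ^ 2 ≠ lam + 0 * r) := ⟨fun r h => hns ⟨r, by rw [← pow_two, h]; ring⟩⟩
  letI : Module (QuadraticAlgebra F lam 0) V := kModule g hgg
  haveI : IsScalarTower F (QuadraticAlgebra F lam 0) V := ⟨fun a z v => by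
    show (a • z).re • v + (a • z).im • g v = a • (z.re • v + z.im • g v)
    simp only [QuadraticAlgebra.re_smul, QuadraticAlgebra.im_smul, smul_eq_mul]
    module⟩
  have hω : ∀ v : V, (ω : QuadraticAlgebra F lam 0) • v = g v := fun v => by
    show (ω : QuadraticAlgebra F lam 0).re • v + (ω : QuadraticAlgebra F lam 0).im • g v = g v
    simp
  exact typeII_odd_normal_aux Q g hω hQg h2 hQ hdim N hN hNg hodd hnorm

/-- **`G2`, type (ii)** -/
theorem typeII_scalar [Finite F] [FiniteDimensional F V] (h2 : (2 : F) ≠ 0)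
    (hQ : (polarBilin Q).Nondegenerate) (hdim : 6 ≤ finrank F V) (g : V ≃ₗ[F] V)
    (hns : ¬ IsSquare lam) (hgg : ∀ v, g (g v) = lam • v) (hQg : ∀ v, Q (g v) = lam * Q v)
    (T : V →+ V)
    (hT : ∀ d ∈ OG Q, (∀ v, d (g v) = g (d v)) → ∀ v, T ((d ^ 4) v) = (d ^ 4) (T v)) :
    ∃ α β : F, ∀ v, T v = α • v + β • g v := by
  haveI : Fact (∀ r : F, r ^ 2 ≠ lam + 0 * r) := ⟨fun r h => hns ⟨r, by rw [← pow_two, h]; ring⟩⟩
  letI : Module (QuadraticAlgebra F lam 0) V := kModule g hgg
  haveI : IsScalarTower F (QuadraticAlgebra F lam 0) V := ⟨fun a z v => by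
    show (a • z).re • v + (a • z).im • g v = a • (z.re • v + z.im • g v)
    simp only [QuadraticAlgebra.re_smul, QuadraticAlgebra.im_smul, smul_eq_mul]
    module⟩
  have hω : ∀ v : V, (ω : QuadraticAlgebra F lam 0) • v = g v := fun v => by
    show (ω : QuadraticAlgebra F lam 0).re • v + (ω : QuadraticAlgebra F lam 0).im • g v = g v
    simp
  exact typeII_scalar_aux Q g hω hQg h2 hQ hdim T hT

end inst

end Cfsg.Agent.Lib.Helper18.OrthGr
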