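import Cfsg.Agent.Lib.Helper18.OrthGrD

set_option autoImplicit false

/-!
# Similitudes with scalar square: the two geometric facts used for local balance
-/

namespace Cfsg.Agent.Lib.Helper18.OrthGr

open Module QuadraticMap Cfsg.Agent.Lib.Helper25.CD Cfsg.Agent.Lib.Helper15

universe u

section combined

variable {F : Type*} [Field F] {V : Type u} [AddCommGroup V] [Module F V]
  (Q : QuadraticForm F V)

/-- the similitudes `g` with `g² = lam` to which the theory applies -/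
def GoodInvol (g : V ≃ₗ[F] V) (lam : F) : Prop :=
  (∃ c : F, c ≠ 0 ∧ lam = c * c ∧ 3 ≤ finrank F (eigW g c) ∧
    (finrank F (eigW g (-c)) ≤ 1 ∨ 3 ≤ finrank F (eigW g (-c)))) ∨
  (¬ IsSquare lam ∧ 6 ≤ finrank F V)

/-- **`G1`**: a group of odd order of isometries commuting with `g` which is normalised by all
isometries commuting with `g` is trivial -/
theorem good_odd_normal [Finite F] [FiniteDimensional F V] (h2 : (2 : F) ≠ 0)
    (hQ : (polarBilin Q).Nondegenerate) (g : V ≃ₗ[F] V) {lam : F} (hgood : GoodInvol g lam)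
    (hgg : ∀ v, g (g v) = lam • v) (hQg : ∀ v, Q (g v) = lam * Q v)
    (N : Subgroup (V ≃ₗ[F] V)) (hN : N ≤ OG Q) (hNg : ∀ n ∈ N, ∀ v, n (g v) = g (n v))
    (hodd : ∀ m ∈ N, ∃ k : ℕ, Odd k ∧ m ^ k = 1)
    (hnorm : ∀ d ∈ OG Q, (∀ v, d (g v) = g (d v)) → ∀ m ∈ N, d * m * d⁻¹ ∈ N) : N = ⊥ := by
  rcases hgood with ⟨c, hc, rfl, hW3, hU⟩ | ⟨hns, hdim⟩
  · exact typeI_odd_normal Q h2 hQ g hc hgg hQg hW3 hU N hN hNg hodd hnorm
  · exact typeII_odd_normal Q h2 hQ hdim g hns hgg hQg N hN hNg hodd hnorm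

theorem selfadj' {g : V ≃ₗ[F] V} {lam : F} (hlam : lam ≠ 0) (hgg : ∀ v, g (g v) = lam • v)
    (hQg : ∀ v, Q (g v) = lam * Q v) (u v : V) : polar Q (g u) v = polar Q u (g v) := by
  have h1 := polar_sim Q hQg (g u) v
  rw [hgg, polar_smul_left, smul_eq_mul] at h1
  have h3 : lam * (polar Q u (g v) - polar Q (g u) v) = 0 := by linear_combination h1
  rcases mul_eq_zero.1 h3 with h | h
  · exact absurd h hlam
  · linear_combination -h

/-- a semilinear similitude of the form `α + β g` is a scalar or a scalar multiple of `g` -/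
theorem scalar_or_smul_g (h2 : (2 : F) ≠ 0) (hQ : (polarBilin Q).Nondegenerate)
    {g : V ≃ₗ[F] V} {lam : F} (hlam : lam ≠ 0) (hgg : ∀ v, g (g v) = lam • v)
    (hQg : ∀ v, Q (g v) = lam * Q v) (hnsc : ∀ κ : F, ∃ v, g v ≠ κ • v)
    (T : V →+ V) (τ : F →+* F) (hsemi : ∀ c v, T (c • v) = τ c • T v)
    (hinj : Function.Injective T) {μ : F} (hsim : ∀ v, Q (T v) = μ * τ (Q v))
    {α β : F} (hT : ∀ v, T v = α • v + β • g v) :
    (∀ a, τ a = a) ∧ ((∀ v, T v = α • v) ∨ (∀ v, T v = β • g v)) := by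
  obtain ⟨v₀, hv₀⟩ := hnsc 0
  have hv₀0 : v₀ ≠ 0 := by
    rintro rfl
    apply hv₀
    simp
  have hTv₀ : T v₀ ≠ 0 := by
    intro h
    apply hv₀0
    apply hinj
    rw [h, map_zero]
  have hτ : ∀ a, τ a = a := by
    intro a
    have h1 := hsemi a v₀
    have h3 : T (a • v₀) = a • T v₀ := by
      rw [hT, hT, map_smul]
      module
    rw [h3] at h1
    have h4 : (a - τ a) • T v₀ = 0 := by rw [sub_smul, h1, sub_self]
    rcases smul_eq_zero.1 h4 with h5 | h5
    · linear_combination -h5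
    · exact absurd h5 hTv₀
  refine ⟨hτ, ?_⟩
  by_cases hα : α = 0
  · right
    intro v
    rw [hT, hα, zero_smul, zero_add]
  by_cases hβ : β = 0
  · left
    intro v
    rw [hT, hβ, zero_smul, add_zero]
  exfalso
  -- `polar v (g v) = κ Q v`
  have hpol : ∀ v, (α * β) * polar Q v (g v) = (μ - α * α - β * β * lam) * Q v := by
    intro v
    have h1 := hsim v
    rw [hτ, hT, QuadraticMap.map_add (⇑Q), QuadraticMap.map_smul, QuadraticMap.map_smul, hQg,
      polar_smul_left, polar_smul_right] at h1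
    simp only [smul_eq_mul] at h1
    linear_combination h1
  obtain ⟨κ, hκ⟩ : ∃ κ : F, ∀ v, polar Q v (g v) = κ * Q v := by
    refine ⟨(α * β)⁻¹ * (μ - α * α - β * β * lam), fun v => ?_⟩
    have hαβ : α * β ≠ 0 := mul_ne_zero hα hβ
    rw [mul_assoc, ← hpol v, ← mul_assoc, inv_mul_cancel₀ hαβ, one_mul]
  obtain ⟨v₁, hv₁⟩ := hnsc (2⁻¹ * κ)
  apply hv₁
  have hz : g v₁ - (2⁻¹ * κ) • v₁ = 0 := by
    apply hQ.2
    intro u
    rw [polarBilin_apply_apply, polar_sub_right, polar_smul_right, smul_eq_mul]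
    have h1 := hκ (u + v₁)
    rw [map_add, polar_add_left, polar_add_right, polar_add_right, hκ u, hκ v₁,
      QuadraticMap.map_add (⇑Q)] at h1
    have h3 : polar Q v₁ (g u) = polar Q u (g v₁) := by
      rw [polar_comm, selfadj' Q hlam hgg hQg]
    rw [h3] at h1
    have h4 : (2 : F) * (polar Q u (g v₁) - 2⁻¹ * κ * polar Q u v₁) = 0 := by
      have : (2 : F) * (2⁻¹ * κ * polar Q u v₁) = κ * polar Q u v₁ := by
        rw [← mul_assoc, ← mul_assoc, mul_inv_cancel₀ h2, one_mul]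
      linear_combination h1 - this
    rcases mul_eq_zero.1 h4 with h5 | h5
    · exact absurd h5 h2
    · exact h5
  exact sub_eq_zero.1 hz

/-- **`G2`**: a semilinear similitude commuting with the fourth powers of the isometries
commuting with `g` is a scalar or a scalar multiple of `g`, and is linear -/
theorem good_scalar [Finite F] [FiniteDimensional F V] (h2 : (2 : F) ≠ 0)
    (hQ : (polarBilin Q).Nondegenerate) (g : V ≃ₗ[F] V) {lam : F} (hgood : GoodInvol g lam)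
    (hlam : lam ≠ 0) (hgg : ∀ v, g (g v) = lam • v) (hQg : ∀ v, Q (g v) = lam * Q v)
    (hnsc : ∀ κ : F, ∃ v, g v ≠ κ • v)
    (T : V →+ V) (τ : F →+* F) (hsemi : ∀ c v, T (c • v) = τ c • T v)
    (hinj : Function.Injective T) {μ : F} (hsim : ∀ v, Q (T v) = μ * τ (Q v))
    (hT : ∀ d ∈ OG Q, (∀ v, d (g v) = g (d v)) → ∀ v, T ((d ^ 4) v) = (d ^ 4) (T v)) :
    (∀ a, τ a = a) ∧ ∃ γ : F, (∀ v, T v = γ • v) ∨ (∀ v, T v = γ • g v) := by
  have hform : ∃ α β : F, ∀ v, T v = α • v + β • g v := by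
    rcases hgood with ⟨c, hc, rfl, hW3, hU⟩ | ⟨hns, hdim⟩
    · exact (typeI_scalar Q h2 hQ g hc hgg hQg hW3 hU T τ hsemi hinj hT).2
    · exact typeII_scalar Q h2 hQ hdim g hns hgg hQg T hT
  obtain ⟨α, β, hαβ⟩ := hform
  obtain ⟨hτ, h | h⟩ := scalar_or_smul_g Q h2 hQ hlam hgg hQg hnsc T τ hsemi hinj hsim hαβ
  · exact ⟨hτ, α, Or.inl h⟩
  · exact ⟨hτ, β, Or.inr h⟩

end combined

end Cfsg.Agent.Lib.Helper18.OrthGr
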