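import Mathlib
import Cfsg.Prelude.Def_Solvable
import Cfsg.Agent.Lib.Helper12.Cores

set_option autoImplicit false

/-!
# Abstract group theory for local balance of graph involutions
-/

namespace Cfsg.Agent.Lib.Helper18.OrthGr

section balance

variable {Y : Type*} [Group Y]

/-- **abstract local balance**, second form: the `p'`-core of `H` is trivial as soon as `H` has
a normal subgroup `C` containing a normal subgroup `L` with `O_{p'}(L) = 1`, `C_C(L) = 1` and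
`C_H(L)` a `p`-group -/
theorem core_trivial' [Finite Y] (p : ℕ) [Fact p.Prime] (H C L P : Subgroup Y) (hCH : C ≤ H)
    (hCn : ∀ h ∈ H, ∀ c ∈ C, h * c * h⁻¹ ∈ C) (hLC : L ≤ C)
    (hLn : ∀ c ∈ C, ∀ l ∈ L, c * l * c⁻¹ ∈ L)
    (hb : Cfsg.pPrimeCore p ↥L = ⊥)
    (hCL : ∀ c ∈ C, (∀ l ∈ L, c * l = l * c) → c = 1)
    (hcent : ∀ x ∈ H, (∀ l ∈ L, x * l = l * x) → x ∈ P) (hP : IsPGroup p ↥P) :
    Cfsg.pPrimeCore p ↥H = ⊥ := by
  have hchar := Cfsg.Agent.Lib.Helper12.pPrimeCore_characteristic (G := ↥H) p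
  have hnorm : (Cfsg.pPrimeCore p ↥H).Normal := inferInstance
  have hcop := Cfsg.Agent.Lib.Helper12.pPrimeCore_coprime (X := ↥H) p
  set X : Subgroup Y := (Cfsg.pPrimeCore p ↥H).map H.subtype with hX
  have hXcard : Nat.card ↥X = Nat.card ↥(Cfsg.pPrimeCore p ↥H) :=
    Subgroup.card_map_of_injective H.subtype_injective
  have hXH : X ≤ H := by
    rintro _ ⟨x, -, rfl⟩
    exact x.2
  have hXn : ∀ h ∈ H, ∀ x ∈ X, h * x * h⁻¹ ∈ X := by
    rintro h hh _ ⟨x, hx, rfl⟩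
    exact ⟨⟨h, hh⟩ * x * ⟨h, hh⟩⁻¹, hnorm.conj_mem x hx ⟨h, hh⟩, rfl⟩
  -- `X ∩ L = 1`
  have hXL : ∀ y, y ∈ X → y ∈ L → y = 1 := by
    have hMn : ((X ⊓ L).subgroupOf L).Normal := by
      constructor
      intro n hn g
      rw [Subgroup.mem_subgroupOf] at hn ⊢
      refine ⟨hXn g.1 (hCH (hLC g.2)) n.1 hn.1, ?_⟩
      exact L.mul_mem (L.mul_mem g.2 n.2) (L.inv_mem g.2)
    have hMcop : (Nat.card ↥((X ⊓ L).subgroupOf L)).Coprime p := by
      have h1 : Nat.card ↥((X ⊓ L).subgroupOf L) = Nat.card ↥(X ⊓ L) :=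
        Nat.card_congr (Subgroup.subgroupOfEquivOfLe inf_le_right).toEquiv
      rw [h1]
      have h3 : Nat.card ↥(X ⊓ L) ∣ Nat.card ↥X := Subgroup.card_dvd_of_le inf_le_left
      rw [hXcard] at h3
      exact Nat.Coprime.coprime_dvd_left h3 hcop
    have hle := Cfsg.Agent.Lib.Helper12.le_pPrimeCore p _ hMn hMcop
    rw [hb, le_bot_iff, Subgroup.subgroupOf_eq_bot] at hle
    intro y hyX hyL
    exact hle.le_bot ⟨⟨hyX, hyL⟩, hyL⟩
  -- `X ∩ C = 1`
  have hXC : ∀ n, n ∈ X → n ∈ C → n = 1 := by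
    intro n hnX hnC
    apply hCL n hnC
    intro l hl
    have h1 : n * l * n⁻¹ * l⁻¹ = 1 := by
      apply hXL
      · have h2 : l * n⁻¹ * l⁻¹ ∈ X := hXn l (hCH (hLC hl)) n⁻¹ (X.inv_mem hnX)
        have h3 : n * l * n⁻¹ * l⁻¹ = n * (l * n⁻¹ * l⁻¹) := by group
        rw [h3]
        exact X.mul_mem hnX h2
      · exact L.mul_mem (hLn n hnC l hl) (L.inv_mem hl)
    calc n * l = (n * l * n⁻¹ * l⁻¹) * (l * n) := by group
      _ = l * n := by rw [h1, one_mul]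
  -- `X` centralises `L`
  have hXP : X ≤ P := by
    intro x hx
    apply hcent x (hXH hx)
    intro l hl
    have h1 : x * l * x⁻¹ * l⁻¹ = 1 := by
      apply hXC
      · have h2 : l * x⁻¹ * l⁻¹ ∈ X := hXn l (hCH (hLC hl)) x⁻¹ (X.inv_mem hx)
        have h3 : x * l * x⁻¹ * l⁻¹ = x * (l * x⁻¹ * l⁻¹) := by group
        rw [h3]
        exact X.mul_mem hx h2
      · exact C.mul_mem (hCn x (hXH hx) l (hLC hl)) (C.inv_mem (hLC hl))
    calc x * l = (x * l * x⁻¹ * l⁻¹) * (l * x) := by group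
      _ = l * x := by rw [h1, one_mul]
  -- conclusion
  have hXp : IsPGroup p ↥X := hP.to_le hXP
  obtain ⟨n, hn⟩ := IsPGroup.iff_card.1 hXp
  have hn0 : n = 0 := by
    by_contra h0
    have h2 : p ∣ Nat.card ↥X := by
      rw [hn]
      exact dvd_pow_self p h0
    rw [hXcard] at h2
    have h3 := Nat.eq_one_of_dvd_coprimes hcop h2 (dvd_refl p)
    exact (Fact.out : p.Prime).one_lt.ne' h3
  rw [hn0, pow_zero, hXcard] at hn
  exact Subgroup.card_eq_one.1 hn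

/-- the image in the ambient group of the `p'`-core of a subgroup `L` is invariant under every
element normalising `L` -/
theorem core_conj_invariant (p : ℕ) (L : Subgroup Y) {d : Y}
    (hd : ∀ l ∈ L, d * l * d⁻¹ ∈ L) (hd' : ∀ l ∈ L, d⁻¹ * l * d ∈ L)
    {y : Y} (hy : y ∈ (Cfsg.pPrimeCore p ↥L).map L.subtype) :
    d * y * d⁻¹ ∈ (Cfsg.pPrimeCore p ↥L).map L.subtype := by
  let φ : ↥L ≃* ↥L :=
    { toFun := fun l => ⟨d * l.1 * d⁻¹, hd l.1 l.2⟩
      invFun := fun l => ⟨d⁻¹ * l.1 * d, hd' l.1 l.2⟩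
      left_inv := fun l => Subtype.ext (by
        show d⁻¹ * (d * l.1 * d⁻¹) * d = l.1
        group)
      right_inv := fun l => Subtype.ext (by
        show d * (d⁻¹ * l.1 * d) * d⁻¹ = l.1
        group)
      map_mul' := fun a b => Subtype.ext (by
        show d * (a.1 * b.1) * d⁻¹ = (d * a.1 * d⁻¹) * (d * b.1 * d⁻¹)
        group) }
  obtain ⟨x, hx, rfl⟩ := hy
  have h1 := Cfsg.Agent.Lib.Helper12.pPrimeCore_map_equiv p φ
  have h2 : φ x ∈ Cfsg.pPrimeCore p ↥L := by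
    rw [← h1]
    exact ⟨x, hx, rfl⟩
  exact ⟨φ x, h2, rfl⟩

end balance

section oddpart

variable {G : Type*} [Group G]

/-- **the odd part** of a finite group which is of odd order modulo a central elementary
abelian `2`-subgroup `Z`: the elements of odd order form a subgroup `H` with `G = Z H` -/
theorem odd_part [Finite G] (Z : Subgroup G) (hZc : Z ≤ Subgroup.center G)
    (hZ2 : ∀ z ∈ Z, z * z = 1) (hodd : ∀ x : G, ∃ k : ℕ, Odd k ∧ x ^ k ∈ Z) :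
    ∃ H : Subgroup G, (∀ h ∈ H, ∃ k : ℕ, Odd k ∧ h ^ k = 1) ∧
      (∀ x : G, (∃ k : ℕ, Odd k ∧ x ^ k = 1) → x ∈ H) ∧ ∀ x : G, ∃ z ∈ Z, x * z ∈ H := by
  have hcomm : ∀ z ∈ Z, ∀ g : G, g * z = z * g := fun z hz g =>
    (Subgroup.mem_center_iff.1 (hZc hz)) g
  haveI : Z.Normal := ⟨fun n hn g => by
    have : g * n * g⁻¹ = n := by rw [hcomm n hn g, mul_assoc, mul_inv_cancel, mul_one]
    rw [this]
    exact hn⟩
  -- the index of `Z` is odd
  have hidx : Odd Z.index := by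
    by_contra hne
    have h2 : 2 ∣ Nat.card (G ⧸ Z) := by
      rw [← Subgroup.index_eq_card]
      exact even_iff_two_dvd.1 (Nat.not_odd_iff_even.1 hne)
    haveI : Fact (Nat.Prime 2) := ⟨Nat.prime_two⟩
    obtain ⟨q, hq⟩ := exists_prime_orderOf_dvd_card' 2 h2
    induction q using QuotientGroup.induction_on with
    | H x =>
      obtain ⟨k, hk, hxk⟩ := hodd x
      have h3 : ((x : G ⧸ Z)) ^ k = 1 := by
        rw [← QuotientGroup.mk_pow]
        exact (QuotientGroup.eq_one_iff _).2 hxk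
      have h4 := orderOf_dvd_of_pow_eq_one h3
      rw [hq] at h4
      exact (Nat.not_even_iff_odd.2 hk) (even_iff_two_dvd.2 h4)
  have hZp : IsPGroup 2 ↥Z := by
    intro z
    refine ⟨1, ?_⟩
    apply Subtype.ext
    rw [pow_one, pow_two]
    exact hZ2 z.1 z.2
  obtain ⟨j, hj⟩ := IsPGroup.iff_card.1 hZp
  have hcop : Nat.Coprime (Nat.card ↥Z) Z.index := by
    rw [hj]
    exact Nat.Coprime.pow_left j (Nat.coprime_two_left.2 hidx)
  obtain ⟨H, hH⟩ := Subgroup.exists_right_complement'_of_coprime hcop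
  have hHcard : Nat.card ↥H = Z.index := (hH.symm.index_eq_card).symm
  have hdisj := hH.disjoint
  have h3 : ∀ x : G, ∃ z ∈ Z, x * z ∈ H := by
    intro x
    obtain ⟨⟨z₀, h⟩, hzh, -⟩ := (Subgroup.isComplement'_def.1 hH).existsUnique x
    refine ⟨z₀.1⁻¹, Z.inv_mem z₀.2, ?_⟩
    have h4 : x * z₀.1⁻¹ = h.1 := by
      rw [← hzh]
      show z₀.1 * h.1 * z₀.1⁻¹ = h.1
      rw [← hcomm z₀.1 z₀.2 h.1, mul_assoc, mul_inv_cancel, mul_one]
    rw [h4]
    exact h.2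
  refine ⟨H, ?_, ?_, h3⟩
  · intro h hh
    refine ⟨Nat.card ↥H, by rw [hHcard]; exact hidx, ?_⟩
    have : (⟨h, hh⟩ : ↥H) ^ Nat.card ↥H = 1 := pow_card_eq_one'
    exact congrArg Subtype.val this
  · rintro x ⟨k, hk, hxk⟩
    obtain ⟨z, hz, hxz⟩ := h3 x
    have h5 : (x * z) ^ k = z ^ k := by
      rw [(show Commute x z from hcomm z hz x).mul_pow, hxk, one_mul]
    have h6 : z ^ k ∈ Z ⊓ H := ⟨Z.pow_mem hz k, by rw [← h5]; exact H.pow_mem hxz k⟩
    rw [hdisj.eq_bot, Subgroup.mem_bot] at h6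
    obtain ⟨i, hi⟩ := hk
    have h7 : z ^ k = z := by
      rw [hi, pow_succ, pow_mul, pow_two, hZ2 z hz, one_pow, one_mul]
    rw [h7] at h6
    rw [h6, mul_one] at hxz
    exact hxz

/-- the odd part, for a subgroup of an ambient group -/
theorem odd_part' (P Z : Subgroup G) [Finite ↥P] (hZP : Z ≤ P)
    (hZc : ∀ z ∈ Z, ∀ x ∈ P, x * z = z * x)
    (hZ2 : ∀ z ∈ Z, z * z = 1) (hodd : ∀ x ∈ P, ∃ k : ℕ, Odd k ∧ x ^ k ∈ Z) :
    ∃ H : Subgroup G, H ≤ P ∧ (∀ h ∈ H, ∃ k : ℕ, Odd k ∧ h ^ k = 1) ∧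
      (∀ x ∈ P, (∃ k : ℕ, Odd k ∧ x ^ k = 1) → x ∈ H) ∧ ∀ x ∈ P, ∃ z ∈ Z, x * z ∈ H := by
  obtain ⟨H, h1, h2, h3⟩ := odd_part (Z.subgroupOf P)
    (by
      intro z hz
      rw [Subgroup.mem_center_iff]
      intro x
      apply Subtype.ext
      exact hZc z.1 (Subgroup.mem_subgroupOf.1 hz) x.1 x.2)
    (by
      intro z hz
      apply Subtype.ext
      exact hZ2 z.1 (Subgroup.mem_subgroupOf.1 hz))
    (by
      intro x
      obtain ⟨k, hk, hxk⟩ := hodd x.1 x.2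
      refine ⟨k, hk, ?_⟩
      rw [Subgroup.mem_subgroupOf]
      exact hxk)
  refine ⟨H.map P.subtype, ?_, ?_, ?_, ?_⟩
  · rintro _ ⟨x, -, rfl⟩
    exact x.2
  · rintro _ ⟨x, hx, rfl⟩
    obtain ⟨k, hk, hxk⟩ := h1 x hx
    refine ⟨k, hk, ?_⟩
    have := congrArg Subtype.val hxk
    exact this
  · rintro x hx ⟨k, hk, hxk⟩
    refine ⟨⟨x, hx⟩, h2 ⟨x, hx⟩ ⟨k, hk, Subtype.ext hxk⟩, rfl⟩
  · intro x hx
    obtain ⟨z, hz, hxz⟩ := h3 ⟨x, hx⟩
    exact ⟨z.1, Subgroup.mem_subgroupOf.1 hz, ⟨⟨x, hx⟩ * z, hxz, rfl⟩⟩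

end oddpart

end Cfsg.Agent.Lib.Helper18.OrthGr
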