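import Cfsg.Agent.Lib.Helper18.OrthBalE
import Cfsg.Agent.Lib.Helper18.OrthGrE
import Cfsg.Agent.Lib.Helper18.OrthGrF

set_option autoImplicit false

/-!
# Local balance for involutory graph automorphisms of `PΩ(Q)` induced by similitudes
-/

namespace Cfsg.Agent.Lib.Helper18.OrthGr

open Module QuadraticMap Matrix Cfsg.Agent.Lib.Helper25.PSim Cfsg.Agent.Lib.Helper25.Spin
  Cfsg.Agent.Lib.Helper25.CD Cfsg.Agent.Lib.Helper25.GraphSplit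
  Cfsg.Agent.Lib.Helper25.Siegel Cfsg.Agent.Lib.Helper25.PAut Cfsg.Agent.Lib.Helper25.AutOut
  Cfsg.Agent.Lib.Helper18.OrthBal Cfsg.Agent.Lib.Helper18.OrthFld

universe u

section defs

variable {ι : Type} [Fintype ι] [DecidableEq ι] {F : Type u} [Field F]
  (Q : QuadraticForm F (ι → F)) (g : ↥(Cfsg.Geo.quadSimilarityGroup (F := F) ⇑Q))

/-- the isometries commuting with the similitude `g` -/
def Dg : Subgroup ↥(Cfsg.isometryGroup F ⇑Q) where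
  carrier := {d | d.1 * g.1 = g.1 * d.1}
  one_mem' := by
    show (1 : GL ι F) * g.1 = g.1 * 1
    rw [one_mul, mul_one]
  mul_mem' := by
    intro a b ha hb
    have ha' : a.1 * g.1 = g.1 * a.1 := ha
    have hb' : b.1 * g.1 = g.1 * b.1 := hb
    show a.1 * b.1 * g.1 = g.1 * (a.1 * b.1)
    rw [mul_assoc, hb', ← mul_assoc, ha', mul_assoc]
  inv_mem' := by
    intro a ha
    have ha' : a.1 * g.1 = g.1 * a.1 := ha
    show a.1⁻¹ * g.1 = g.1 * a.1⁻¹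
    calc a.1⁻¹ * g.1 = a.1⁻¹ * (g.1 * a.1) * a.1⁻¹ := by group
      _ = a.1⁻¹ * (a.1 * g.1) * a.1⁻¹ := by rw [ha']
      _ = g.1 * a.1⁻¹ := by group

theorem mem_Dg {d : ↥(Cfsg.isometryGroup F ⇑Q)} : d ∈ Dg Q g ↔ d.1 * g.1 = g.1 * d.1 := Iff.rfl

/-- the image in `Aut(PΩ)` of the group of elements of `Ω` commuting with `g` -/
noncomputable def Lg : Subgroup (MulAut (Cfsg.POmega F ⇑Q)) :=
  (Dg Q g ⊓ Cfsg.Omega F ⇑Q).map (conjTHom ⇑Q)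

theorem conjTHom_comm {d : ↥(Cfsg.isometryGroup F ⇑Q)} (hd : d ∈ Dg Q g) :
    conjTHom (⇑Q) d * theta (⇑Q) g = theta (⇑Q) g * conjTHom (⇑Q) d := by
  rw [← theta_incl, ← map_mul, ← map_mul]
  congr 1
  apply Subtype.ext
  exact hd

theorem conjTHom_omega' {s : ↥(Cfsg.isometryGroup F ⇑Q)} (hs : s ∈ Cfsg.Omega F ⇑Q) :
    conjTHom (⇑Q) s = MulAut.conj (QuotientGroup.mk ⟨s, hs⟩ : Cfsg.POmega F ⇑Q) :=
  conjTHom_omega (⇑Q) ⟨s, hs⟩

theorem Lg_le : Lg Q g ≤ Cfsg.Inn (Cfsg.POmega F ⇑Q) ⊓ Subgroup.centralizer {theta (⇑Q) g} := by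
  rintro _ ⟨s, ⟨hsD, hsΩ⟩, rfl⟩
  refine ⟨?_, ?_⟩
  · rw [conjTHom_omega' Q hsΩ]
    exact ⟨_, rfl⟩
  · show conjTHom (⇑Q) s ∈ Subgroup.centralizer {theta (⇑Q) g}
    rw [Subgroup.mem_centralizer_iff]
    intro y hy
    rw [Set.mem_singleton_iff] at hy
    subst hy
    exact (conjTHom_comm Q g hsD).symm

/-- the image of `D` normalises `L` -/
theorem Lg_conj {d : ↥(Cfsg.isometryGroup F ⇑Q)} (hd : d ∈ Dg Q g)
    {l : MulAut (Cfsg.POmega F ⇑Q)} (hl : l ∈ Lg Q g) :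
    conjTHom (⇑Q) d * l * (conjTHom (⇑Q) d)⁻¹ ∈ Lg Q g := by
  obtain ⟨s, ⟨hsD, hsΩ⟩, rfl⟩ := hl
  refine ⟨d * s * d⁻¹, ⟨?_, ?_⟩, by rw [map_mul, map_mul, map_inv]⟩
  · exact (Dg Q g).mul_mem ((Dg Q g).mul_mem hd hsD) ((Dg Q g).inv_mem hd)
  · have hn : (Cfsg.Omega F ⇑Q).Normal := inferInstance
    exact hn.conj_mem s hsΩ d

end defs

section center

variable {ι : Type} [Fintype ι] [DecidableEq ι] {F : Type u} [Field F] [Fintype F]
  (Q : QuadraticForm F (ι → F)) (g : ↥(Cfsg.Geo.quadSimilarityGroup (F := F) ⇑Q))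

/-- the centre of `Ω` has exponent two -/
theorem center_sq (hQ : (polarBilin Q).Nondegenerate) (hn : 7 ≤ Fintype.card ι)
    {z : ↥(Cfsg.Omega F ⇑Q)} (hz : z ∈ Subgroup.center ↥(Cfsg.Omega F ⇑Q)) : z * z = 1 := by
  have hcomm : ∀ s : ↥(Cfsg.Omega F ⇑Q), z.1.1 * s.1.1 = s.1.1 * z.1.1 := by
    intro s
    have h1 := (Subgroup.mem_center_iff.1 hz) s
    have h2 := congrArg (fun y : ↥(Cfsg.Omega F ⇑Q) => y.1.1) h1
    exact h2.symm
  obtain ⟨c, hc⟩ := scalar_of_eigen Q hQ (by omega) (toLE z.1.1).toLinearMap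
    (fun u hu0 hu => eigen_of_commute Q hQ (by omega) z.1.1 (iso_le_sim (⇑Q) z.1.2) hcomm u hu0 hu)
  have hc' : ∀ x, (z.1.1 : Matrix ι ι F) *ᵥ x = c • x := hc
  have hfin : 2 ≤ finrank F (ι → F) := by
    rw [Module.finrank_fintype_fun_eq_card]
    omega
  obtain ⟨u₀, hu₀⟩ := exists_rep Q hQ hfin 1
  have hcc : c * c = 1 := by
    have h1 := (mem_iso_iff' (⇑Q) z.1.1).1 z.1.2 u₀
    rw [hc', QuadraticMap.map_smul, hu₀, smul_eq_mul, mul_one] at h1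
    exact h1
  apply Subtype.ext
  apply Subtype.ext
  apply toLE.injective
  apply LinearEquiv.ext
  intro x
  show toLE (z.1.1 * z.1.1) x = toLE (1 : GL ι F) x
  rw [map_mul, map_one, LinearEquiv.mul_apply, toLE_apply, toLE_apply, hc', hc', smul_smul, hcc,
    one_smul]
  rfl

/-- an element of `Ω` whose class is fixed by `θ(g)` is mapped by `g` to a central multiple -/
theorem exists_central_of_fix {t : ↥(Cfsg.Omega F ⇑Q)}
    (ht : theta (⇑Q) g (QuotientGroup.mk t) = QuotientGroup.mk t) :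
    ∃ z : ↥(Cfsg.Omega F ⇑Q), z ∈ Subgroup.center ↥(Cfsg.Omega F ⇑Q) ∧
      g.1 * t.1.1 * g.1⁻¹ = t.1.1 * z.1.1 := by
  rw [theta_mk] at ht
  have h1 := QuotientGroup.eq.1 ht.symm
  refine ⟨_, h1, ?_⟩
  rw [← char_val (⇑Q) g t]
  show _ = t.1.1 * (t⁻¹ * (MulAut.characteristic (Cfsg.Omega F ⇑Q)) ((conjSub ⇑Q) g) t).1.1
  have : t * (t⁻¹ * (MulAut.characteristic (Cfsg.Omega F ⇑Q)) ((conjSub ⇑Q) g) t) =
      (MulAut.characteristic (Cfsg.Omega F ⇑Q)) ((conjSub ⇑Q) g) t := by group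
  nth_rewrite 1 [← this]
  rfl

/-- `L` is normalised by the inner automorphisms centralising `θ(g)` -/
theorem Lg_normal (hQ : (polarBilin Q).Nondegenerate) (hn : 7 ≤ Fintype.card ι)
    {c : MulAut (Cfsg.POmega F ⇑Q)}
    (hc : c ∈ Cfsg.Inn (Cfsg.POmega F ⇑Q) ⊓ Subgroup.centralizer {theta (⇑Q) g})
    {l : MulAut (Cfsg.POmega F ⇑Q)} (hl : l ∈ Lg Q g) : c * l * c⁻¹ ∈ Lg Q g := by
  obtain ⟨⟨k, rfl⟩, hcent⟩ := hc
  induction k using QuotientGroup.induction_on with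
  | H t =>
    have hcent' : MulAut.conj (QuotientGroup.mk t : Cfsg.POmega F ⇑Q) ∈
        Subgroup.centralizer {theta (⇑Q) g} := hcent
    rw [Subgroup.mem_centralizer_iff] at hcent'
    have h1 := hcent' _ (Set.mem_singleton _)
    rw [commute_conj_iff (center_pomega Q hQ hn)] at h1
    obtain ⟨z, hz, hgt⟩ := exists_central_of_fix Q g h1
    obtain ⟨s, ⟨hsD, hsΩ⟩, rfl⟩ := hl
    have hconj : MulAut.conj (QuotientGroup.mk t : Cfsg.POmega F ⇑Q) = conjTHom (⇑Q) t.1 :=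
      (conjTHom_omega (⇑Q) t).symm
    refine ⟨t.1 * s * t.1⁻¹, ⟨?_, ?_⟩, ?_⟩
    · have hsD' : s.1 * g.1 = g.1 * s.1 := hsD
      show t.1.1 * s.1 * t.1.1⁻¹ * g.1 = g.1 * (t.1.1 * s.1 * t.1.1⁻¹)
      have hzs : z.1.1 * s.1 = s.1 * z.1.1 := by
        have h3 := (Subgroup.mem_center_iff.1 hz) ⟨s, hsΩ⟩
        have h4 := congrArg (fun y : ↥(Cfsg.Omega F ⇑Q) => y.1.1) h3
        exact h4.symm
      have hgs : g.1 * s.1 * g.1⁻¹ = s.1 := by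
        rw [← hsD']; group
      have e1 : g.1 * (t.1.1 * s.1 * t.1.1⁻¹) =
          (g.1 * t.1.1 * g.1⁻¹) * (g.1 * s.1 * g.1⁻¹) * (g.1 * t.1.1 * g.1⁻¹)⁻¹ * g.1 := by group
      rw [e1, hgt, hgs]
      calc t.1.1 * s.1 * t.1.1⁻¹ * g.1
          = t.1.1 * (s.1 * z.1.1) * z.1.1⁻¹ * t.1.1⁻¹ * g.1 := by group
        _ = t.1.1 * (z.1.1 * s.1) * z.1.1⁻¹ * t.1.1⁻¹ * g.1 := by rw [hzs]
        _ = t.1.1 * z.1.1 * s.1 * (t.1.1 * z.1.1)⁻¹ * g.1 := by group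
    · have hnorm : (Cfsg.Omega F ⇑Q).Normal := inferInstance
      exact hnorm.conj_mem s hsΩ t.1
    · rw [map_mul, map_mul, map_inv, hconj]

end center

section cent

variable {ι : Type} [Fintype ι] [DecidableEq ι] {F : Type u} [Field F] [Fintype F]
  (Q : QuadraticForm F (ι → F)) (g : ↥(Cfsg.Geo.quadSimilarityGroup (F := F) ⇑Q))

/-- a semisimilarity whose automorphism centralises `L` commutes with the fourth powers of the
isometries commuting with `g` -/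
theorem semi_comm_fourth (hQ : (polarBilin Q).Nondegenerate) (hn : 7 ≤ Fintype.card ι)
    (h2 : (2 : F) ≠ 0) {g' : GL ι F} {τ : F ≃+* F} (hp : Cfsg.IsSemisimilarityPair (⇑Q) g' τ)
    {y : MulAut (Cfsg.POmega F ⇑Q)} (hind : Cfsg.IsInducedBySemilinearPOmega (⇑Q) g' τ y)
    (hcomm : ∀ l ∈ Lg Q g, y * l = l * y)
    {d : (ι → F) ≃ₗ[F] (ι → F)} (hd : d ∈ OG Q)
    (hdg : ∀ v, d (toLE g.1 v) = toLE g.1 (d v)) (v : ι → F) :
    semiMap g' τ ((d ^ 4) v) = (d ^ 4) (semiMap g' τ v) := by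
  obtain ⟨dM, hdM⟩ : ∃ dM : ↥(Cfsg.isometryGroup F ⇑Q), toOG Q dM = d :=
    ⟨ofOG Q d hd, toOG_ofOG Q d hd⟩
  have hdM' : toLE dM.1 = d := hdM
  have hD : dM ∈ Dg Q g := by
    rw [mem_Dg]
    apply toLE.injective
    apply LinearEquiv.ext
    intro x
    rw [map_mul, map_mul, LinearEquiv.mul_apply, LinearEquiv.mul_apply, hdM', hdg]
  have hsΩ : dM * dM ∈ Cfsg.Omega F ⇑Q := sq_mem_omega Q h2 hQ dM
  have hsD : dM * dM ∈ Dg Q g := (Dg Q g).mul_mem hD hD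
  have hl : conjTHom (⇑Q) (dM * dM) ∈ Lg Q g := ⟨dM * dM, ⟨hsD, hsΩ⟩, rfl⟩
  have h3 := hcomm _ hl
  rw [conjTHom_omega' Q hsΩ, commute_conj_iff (center_pomega Q hQ hn)] at h3
  rw [induced_mk (⇑Q) hp hind] at h3
  have hz := QuotientGroup.eq.1 h3.symm
  obtain ⟨z, hzdef⟩ : ∃ z : ↥(Cfsg.Omega F ⇑Q),
      z = (⟨dM * dM, hsΩ⟩ : ↥(Cfsg.Omega F ⇑Q))⁻¹ * semiOmega (⇑Q) hp ⟨dM * dM, hsΩ⟩ := ⟨_, rfl⟩
  rw [← hzdef] at hz
  have hzz := center_sq Q hQ hn hz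
  have hsemi : semiOmega (⇑Q) hp ⟨dM * dM, hsΩ⟩ = ⟨dM * dM, hsΩ⟩ * z := by
    rw [hzdef]; group
  have hzc : ∀ w : ↥(Cfsg.Omega F ⇑Q), w * z = z * w := Subgroup.mem_center_iff.1 hz
  have h4 : semiOmega (⇑Q) hp (⟨dM * dM, hsΩ⟩ * ⟨dM * dM, hsΩ⟩) =
      ⟨dM * dM, hsΩ⟩ * ⟨dM * dM, hsΩ⟩ := by
    rw [map_mul, hsemi]
    obtain ⟨S, hS⟩ : ∃ S : ↥(Cfsg.Omega F ⇑Q), S = ⟨dM * dM, hsΩ⟩ := ⟨_, rfl⟩
    rw [← hS]
    calc S * z * (S * z) = S * (z * S) * z := by group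
      _ = S * (S * z) * z := by rw [← hzc S]
      _ = S * S * (z * z) := by group
      _ = S * S := by rw [hzz, mul_one]
  have h5 := congrArg (fun w : ↥(Cfsg.Omega F ⇑Q) => w.1.1) h4
  have h5' : g' * sigmaGL τ (dM.1 * dM.1 * (dM.1 * dM.1)) * g'⁻¹ =
      dM.1 * dM.1 * (dM.1 * dM.1) := h5
  have h6 := semiMap_conj g' (dM.1 * dM.1 * (dM.1 * dM.1)) τ v
  rw [h5'] at h6
  have h7 : ∀ w, (d ^ 4) w = ((dM.1 * dM.1 * (dM.1 * dM.1) : GL ι F) : Matrix ι ι F) *ᵥ w := by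
    intro w
    have hpow : dM.1 ^ 4 = dM.1 * dM.1 * (dM.1 * dM.1) := by
      simp only [pow_succ, pow_zero, one_mul, mul_assoc]
    rw [← hdM', ← map_pow, hpow, toLE_apply]
  rw [h7, h7, h6]

end cent

section cent2

variable {ι : Type} [Fintype ι] [DecidableEq ι] {F : Type u} [Field F] [Fintype F]
  (Q : QuadraticForm F (ι → F)) (g : ↥(Cfsg.Geo.quadSimilarityGroup (F := F) ⇑Q))

/-- **the centraliser of `L`** in the group of automorphisms induced by semisimilarities is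
`{1, θ(g)}` -/
theorem cent_Lg (hQ : (polarBilin Q).Nondegenerate) (hn : 7 ≤ Fintype.card ι)
    (h2 : (2 : F) ≠ 0) {lam : F} (hlam : lam ≠ 0)
    (hgg : ∀ v, (g.1 : Matrix ι ι F) *ᵥ ((g.1 : Matrix ι ι F) *ᵥ v) = lam • v)
    (hQg : ∀ v, Q ((g.1 : Matrix ι ι F) *ᵥ v) = lam * Q v)
    (hgood : GoodInvol (toLE g.1) lam)
    (hnsc : ∀ κ : F, ∃ v, (g.1 : Matrix ι ι F) *ᵥ v ≠ κ • v)
    {y : MulAut (Cfsg.POmega F ⇑Q)} (hy : IsPairAut (⇑Q) y)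
    (hcomm : ∀ l ∈ Lg Q g, y * l = l * y) : y = 1 ∨ y = theta (⇑Q) g := by
  obtain ⟨g', τ, hp, hind⟩ := hy
  obtain ⟨μ, hμ⟩ := hp
  have hp : Cfsg.IsSemisimilarityPair (⇑Q) g' τ := ⟨μ, hμ⟩
  obtain ⟨hτ, γ, h | h⟩ := good_scalar Q h2 hQ (toLE g.1) hgood hlam hgg hQg hnsc
    (AddMonoidHom.mk' (semiMap g' τ) (semiMap_add g' τ)) (τ : F →+* F)
    (fun c v => semiMap_smul g' τ c v) (semiMap_injective g' τ) (μ := (μ : F))
    (fun v => hμ v)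
    (fun d hd hdg v => semi_comm_fourth Q g hQ hn h2 hp hind hcomm hd hdg v)
  all_goals
    have hτ' : τ = RingEquiv.refl F := RingEquiv.ext hτ
    subst hτ'
    have hg'S : g' ∈ Cfsg.Geo.quadSimilarityGroup (F := F) ⇑Q := sim_of_pair (⇑Q) hp
    have hy' : y = theta (⇑Q) ⟨g', hg'S⟩ :=
      (Cfsg.Agent.Lib.Helper25.PSim.induced_iff (⇑Q) g' hg'S y).1 hind
  · left
    rw [hy']
    apply theta_eq_one_of_scalar Q _ γ
    intro x
    exact h x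
  · right
    rw [hy']
    have h3 : theta (⇑Q) (⟨g', hg'S⟩ * g⁻¹) = 1 := by
      apply theta_eq_one_of_scalar Q _ γ
      intro x
      show ((g' * g.1⁻¹ : GL ι F) : Matrix ι ι F) *ᵥ x = γ • x
      rw [Units.val_mul, ← Matrix.mulVec_mulVec]
      have h4 := h (((g.1⁻¹ : GL ι F) : Matrix ι ι F) *ᵥ x)
      have h5 : (g.1 : Matrix ι ι F) *ᵥ (((g.1⁻¹ : GL ι F) : Matrix ι ι F) *ᵥ x) = x := by
        rw [Matrix.mulVec_mulVec, ← Units.val_mul, mul_inv_cancel, Units.val_one,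
          Matrix.one_mulVec]
      have h6 : toLE g.1 (((g.1⁻¹ : GL ι F) : Matrix ι ι F) *ᵥ x) = x := h5
      rw [h6] at h4
      exact h4
    rw [map_mul, map_inv, mul_inv_eq_one] at h3
    exact h3

end cent2

section coreL

variable {ι : Type} [Fintype ι] [DecidableEq ι] {F : Type u} [Field F] [Fintype F]
  (Q : QuadraticForm F (ι → F)) (g : ↥(Cfsg.Geo.quadSimilarityGroup (F := F) ⇑Q))

omit [Fintype F] in
/-- the matrix of an abstract isometry commuting with `g` lies in `D` -/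
theorem mem_Dg_of_comm {dM : ↥(Cfsg.isometryGroup F ⇑Q)}
    (hdg : ∀ v, toOG Q dM (toLE g.1 v) = toLE g.1 (toOG Q dM v)) : dM ∈ Dg Q g := by
  rw [mem_Dg]
  apply toLE.injective
  apply LinearEquiv.ext
  intro x
  rw [map_mul, map_mul, LinearEquiv.mul_apply, LinearEquiv.mul_apply]
  exact hdg x

omit [Fintype F] in
theorem comm_of_mem_Dg {dM : ↥(Cfsg.isometryGroup F ⇑Q)} (hd : dM ∈ Dg Q g) (v : ι → F) :
    toOG Q dM (toLE g.1 v) = toLE g.1 (toOG Q dM v) := by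
  rw [mem_Dg] at hd
  show toLE dM.1 (toLE g.1 v) = toLE g.1 (toLE dM.1 v)
  rw [← LinearEquiv.mul_apply, ← LinearEquiv.mul_apply, ← map_mul, ← map_mul, hd]

set_option maxHeartbeats 800000 in
/-- **`O_{2'}(L) = 1`** -/
theorem core_Lg (hQ : (polarBilin Q).Nondegenerate) (hn : 7 ≤ Fintype.card ι)
    (h2 : (2 : F) ≠ 0) {lam : F}
    (hgg : ∀ v, (g.1 : Matrix ι ι F) *ᵥ ((g.1 : Matrix ι ι F) *ᵥ v) = lam • v)
    (hQg : ∀ v, Q ((g.1 : Matrix ι ι F) *ᵥ v) = lam * Q v)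
    (hgood : GoodInvol (toLE g.1) lam) : Cfsg.pPrimeCore 2 ↥(Lg Q g) = ⊥ := by
  obtain ⟨P₁, hP₁⟩ : ∃ P₁ : Subgroup (MulAut (Cfsg.POmega F ⇑Q)),
      P₁ = (Cfsg.pPrimeCore 2 ↥(Lg Q g)).map (Lg Q g).subtype := ⟨_, rfl⟩
  suffices hsuff : P₁ = ⊥ by
    rw [hP₁] at hsuff
    exact (Subgroup.map_eq_bot_iff_of_injective _ (Lg Q g).subtype_injective).1 hsuff
  have hP₁L : P₁ ≤ Lg Q g := by
    rw [hP₁]
    rintro _ ⟨x, -, rfl⟩
    exact x.2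
  have hP₁odd : Odd (Nat.card ↥P₁) := by
    rw [hP₁, Subgroup.card_map_of_injective (Lg Q g).subtype_injective]
    exact Nat.coprime_two_right.1
      (Cfsg.Agent.Lib.Helper12.pPrimeCore_coprime (X := ↥(Lg Q g)) 2)
  have hP₁conj : ∀ dM ∈ Dg Q g, ∀ y ∈ P₁,
      conjTHom (⇑Q) dM * y * (conjTHom (⇑Q) dM)⁻¹ ∈ P₁ := by
    intro dM hdM y hy
    rw [hP₁] at hy ⊢
    apply core_conj_invariant 2 (Lg Q g) (fun l hl => Lg_conj Q g hdM hl) _ hy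
    intro l hl
    have := Lg_conj Q g ((Dg Q g).inv_mem hdM) hl
    rwa [map_inv, inv_inv] at this
  -- the preimage
  obtain ⟨Pt, hPt⟩ : ∃ Pt : Subgroup ↥(Cfsg.isometryGroup F ⇑Q),
      Pt = (Dg Q g ⊓ Cfsg.Omega F ⇑Q) ⊓ P₁.comap (conjTHom ⇑Q) := ⟨_, rfl⟩
  have hPtD : ∀ x ∈ Pt, x ∈ Dg Q g := fun x hx => by rw [hPt] at hx; exact hx.1.1
  have hPtΩ : ∀ x ∈ Pt, x ∈ Cfsg.Omega F ⇑Q := fun x hx => by rw [hPt] at hx; exact hx.1.2
  have hPtP : ∀ x ∈ Pt, conjTHom (⇑Q) x ∈ P₁ := fun x hx => by rw [hPt] at hx; exact hx.2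
  have hker : ∀ z : ↥(Cfsg.isometryGroup F ⇑Q), ∀ hz : z ∈ Cfsg.Omega F ⇑Q,
      conjTHom (⇑Q) z = 1 → (⟨z, hz⟩ : ↥(Cfsg.Omega F ⇑Q)) ∈
        Subgroup.center ↥(Cfsg.Omega F ⇑Q) := by
    intro z hz h1
    rw [conjTHom_omega' Q hz] at h1
    have h3 := conj_injective_pomega Q hQ hn (h1.trans (map_one _).symm)
    exact (QuotientGroup.eq_one_iff _).1 h3
  obtain ⟨H₁, hH₁P, hH₁odd, hH₁all, hH₁cover⟩ := odd_part' Pt ((conjTHom ⇑Q).ker ⊓ Pt)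
    inf_le_right
    (by
      rintro z ⟨hz1, hz2⟩ x hx
      have hzc := hker z (hPtΩ z hz2) (MonoidHom.mem_ker.1 hz1)
      have h3 := (Subgroup.mem_center_iff.1 hzc) ⟨x, hPtΩ x hx⟩
      exact congrArg Subtype.val h3)
    (by
      rintro z ⟨hz1, hz2⟩
      have hzc := hker z (hPtΩ z hz2) (MonoidHom.mem_ker.1 hz1)
      have h3 := center_sq Q hQ hn hzc
      exact congrArg Subtype.val h3)
    (by
      intro x hx
      refine ⟨Nat.card ↥P₁, hP₁odd, ?_, Pt.pow_mem hx _⟩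
      show x ^ Nat.card ↥P₁ ∈ (conjTHom ⇑Q).ker
      rw [MonoidHom.mem_ker, map_pow]
      exact pow_card_eq_one P₁ (hPtP x hx))
  -- the odd part is trivial
  have hN : H₁.map (toOG Q) = ⊥ := by
    apply good_odd_normal Q h2 hQ (toLE g.1) hgood hgg hQg
    · rintro _ ⟨h, -, rfl⟩
      exact toOG_mem_OG Q h
    · rintro _ ⟨h, hh, rfl⟩ v
      exact comm_of_mem_Dg Q g (hPtD h (hH₁P hh)) v
    · rintro _ ⟨h, hh, rfl⟩
      obtain ⟨k, hk, hhk⟩ := hH₁odd h hh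
      exact ⟨k, hk, by rw [← map_pow, hhk, map_one]⟩
    · rintro d hd hdg _ ⟨h, hh, rfl⟩
      have hdM : toOG Q (ofOG Q d hd) = d := toOG_ofOG Q d hd
      have hD : ofOG Q d hd ∈ Dg Q g := by
        apply mem_Dg_of_comm
        rw [hdM]
        exact hdg
      refine ⟨ofOG Q d hd * h * (ofOG Q d hd)⁻¹, ?_, by rw [map_mul, map_mul, map_inv, hdM]⟩
      apply hH₁all
      · rw [hPt]
        refine ⟨⟨?_, ?_⟩, ?_⟩
        · exact (Dg Q g).mul_mem ((Dg Q g).mul_mem hD (hPtD h (hH₁P hh))) ((Dg Q g).inv_mem hD)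
        · have hnorm : (Cfsg.Omega F ⇑Q).Normal := inferInstance
          exact hnorm.conj_mem h (hPtΩ h (hH₁P hh)) _
        · show conjTHom (⇑Q) (ofOG Q d hd * h * (ofOG Q d hd)⁻¹) ∈ P₁
          rw [map_mul, map_mul, map_inv]
          exact hP₁conj _ hD _ (hPtP h (hH₁P hh))
      · obtain ⟨k, hk, hhk⟩ := hH₁odd h hh
        exact ⟨k, hk, by rw [conj_pow, hhk, mul_one, mul_inv_cancel]⟩
  have hH₁ : H₁ = ⊥ := by
    rw [eq_bot_iff]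
    intro h hh
    have h1 : toOG Q h ∈ H₁.map (toOG Q) := ⟨h, hh, rfl⟩
    rw [hN, Subgroup.mem_bot] at h1
    rw [Subgroup.mem_bot]
    exact toOG_injective Q (h1.trans (map_one _).symm)
  rw [eq_bot_iff]
  intro p hp
  rw [Subgroup.mem_bot]
  obtain ⟨s, hsS, rfl⟩ := hP₁L hp
  have hsPt : s ∈ Pt := by
    rw [hPt]
    exact ⟨hsS, hp⟩
  obtain ⟨z, hz, hsz⟩ := hH₁cover s hsPt
  rw [hH₁, Subgroup.mem_bot] at hsz
  have h1 : s = z⁻¹ := eq_inv_of_mul_eq_one_left hsz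
  rw [h1, map_inv, inv_eq_one]
  exact MonoidHom.mem_ker.1 hz.1

end coreL

section final

variable {ι : Type} [Fintype ι] [DecidableEq ι] {F : Type u} [Field F] [Fintype F]
  (Q : QuadraticForm F (ι → F)) (g : ↥(Cfsg.Geo.quadSimilarityGroup (F := F) ⇑Q))

/-- **local balance for graph involutions induced by similitudes**: if `θ(g)` is an
involution outside `Inn` with `g` as in `GoodInvol`, then `O_{2'}(C_A(θ(g))) = 1` -/
theorem graph_core_trivial (hQ : (polarBilin Q).Nondegenerate) (hn : 7 ≤ Fintype.card ι)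
    (h2 : (2 : F) ≠ 0) (hAll : ∀ β : MulAut (Cfsg.POmega F ⇑Q), IsPairAut (⇑Q) β)
    {lam : F} (hlam : lam ≠ 0)
    (hgg : ∀ v, (g.1 : Matrix ι ι F) *ᵥ ((g.1 : Matrix ι ι F) *ᵥ v) = lam • v)
    (hQg : ∀ v, Q ((g.1 : Matrix ι ι F) *ᵥ v) = lam * Q v)
    (hgood : GoodInvol (toLE g.1) lam)
    (hnsc : ∀ κ : F, ∃ v, (g.1 : Matrix ι ι F) *ᵥ v ≠ κ • v)
    (hxInn : theta (⇑Q) g ∉ Cfsg.Inn (Cfsg.POmega F ⇑Q))
    (A : Subgroup (MulAut (Cfsg.POmega F ⇑Q))) (hinn : Cfsg.Inn (Cfsg.POmega F ⇑Q) ≤ A) :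
    Cfsg.pPrimeCore 2 ↥(A ⊓ Subgroup.centralizer {theta (⇑Q) g}) = ⊥ := by
  haveI : Fact (Nat.Prime 2) := ⟨Nat.prime_two⟩
  have hxx : theta (⇑Q) g * theta (⇑Q) g = 1 := by
    rw [← map_mul]
    apply theta_eq_one_of_scalar Q _ lam
    intro v
    show ((g.1 * g.1 : GL ι F) : Matrix ι ι F) *ᵥ v = lam • v
    rw [Units.val_mul, ← Matrix.mulVec_mulVec, hgg]
  have hP : IsPGroup 2 ↥(Subgroup.zpowers (theta (⇑Q) g)) := by
    rintro ⟨y, hy⟩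
    refine ⟨1, ?_⟩
    apply Subtype.ext
    obtain ⟨k, rfl⟩ := Subgroup.mem_zpowers_iff.1 hy
    show (theta (⇑Q) g ^ k) ^ 2 ^ 1 = 1
    rw [pow_one, ← zpow_natCast, ← _root_.zpow_mul, mul_comm, _root_.zpow_mul, zpow_natCast,
      pow_two, hxx, _root_.one_zpow]
  have hcent : ∀ y : MulAut (Cfsg.POmega F ⇑Q), (∀ l ∈ Lg Q g, y * l = l * y) →
      y = 1 ∨ y = theta (⇑Q) g := fun y hy =>
    cent_Lg Q g hQ hn h2 hlam hgg hQg hgood hnsc (hAll y) hy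
  exact core_trivial' 2 (A ⊓ Subgroup.centralizer {theta (⇑Q) g})
    (Cfsg.Inn (Cfsg.POmega F ⇑Q) ⊓ Subgroup.centralizer {theta (⇑Q) g}) (Lg Q g)
    (Subgroup.zpowers (theta (⇑Q) g)) (inf_le_inf_right _ hinn)
    (fun h hh c hcC => C_normal Q A h hh c hcC) (Lg_le Q g)
    (fun c hc l hl => Lg_normal Q g hQ hn hc hl)
    (core_Lg Q g hQ hn h2 hgg hQg hgood)
    (fun c hc hcl => by
      rcases hcent c hcl with h | h
      · exact h
      · exfalso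
        apply hxInn
        rw [← h]
        exact hc.1)
    (fun y _ hyl => by
      rcases hcent y hyl with h | h
      · rw [h]
        exact Subgroup.one_mem _
      · rw [h]
        exact Subgroup.mem_zpowers _)
    hP

end final

end Cfsg.Agent.Lib.Helper18.OrthGr
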