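import Cfsg.Agent.Lib.Helper18.OrthGrG
import Cfsg.Agent.Lib.Helper25.GraphSplit8

set_option autoImplicit false

/-!
# Improper similitudes with scalar square are of the two good types
-/

namespace Cfsg.Agent.Lib.Helper18.OrthGr

open Module QuadraticMap Matrix Cfsg.Agent.Lib.Helper25.PSim Cfsg.Agent.Lib.Helper25.Spin
  Cfsg.Agent.Lib.Helper25.CD Cfsg.Agent.Lib.Helper25.GraphSplit
  Cfsg.Agent.Lib.Helper25.Siegel Cfsg.Agent.Lib.Helper25.PAut Cfsg.Agent.Lib.Helper25.AutOut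
  Cfsg.Agent.Lib.Helper18.OrthBal Cfsg.Agent.Lib.Helper18.OrthFld

universe u

section classify

variable {ι : Type} [Fintype ι] [DecidableEq ι] {F : Type u} [Field F] [Fintype F]
  (Q : QuadraticForm F (ι → F)) (u₀ : ι → F) (hu₀ : Q u₀ = 1)
  (h2 : (2 : F) ≠ 0) (hQ : (polarBilin Q).Nondegenerate) {k : ℕ}
  (hcard : Fintype.card ι = 2 * k)

include hu₀ h2 hQ hcard in
/-- a similitude whose square is the negative of its multiplier is proper -/
theorem proper_of_sq_neg' (g : ↥(Cfsg.Geo.quadSimilarityGroup (F := F) ⇑Q))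
    (hsq : ∀ x, (g.1 : Matrix ι ι F) *ᵥ ((g.1 : Matrix ι ι F) *ᵥ x) =
      (-(mult Q u₀ hu₀ g : F)) • x) : IsProper Q u₀ hu₀ k g := by
  obtain ⟨μ, hμ⟩ : ∃ μ : F, μ = (mult Q u₀ hu₀ g : F) := ⟨_, rfl⟩
  have hμ0 : μ ≠ 0 := by rw [hμ]; exact Units.ne_zero _
  rw [← hμ] at hsq
  have hfin : finrank F (ι → F) = 2 * k := by
    rw [Module.finrank_fintype_fun_eq_card, hcard]
  have hQg : ∀ x, Q ((g.1 : Matrix ι ι F) *ᵥ x) = μ * Q x := fun x => by
    rw [Q_sim Q u₀ hu₀, hμ]
  have hGG : (g.1 : Matrix ι ι F) * (g.1 : Matrix ι ι F) = (-μ) • (1 : Matrix ι ι F) := by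
    apply matrix_eq_of_mulVec
    intro x
    rw [← Matrix.mulVec_mulVec, hsq, Matrix.smul_mulVec, Matrix.one_mulVec]
  by_cases hsqμ : IsSquare μ
  · obtain ⟨c, hc⟩ := hsqμ
    apply proper_of_sq_neg Q u₀ hu₀ hQ h2 hcard g c (by rw [← hμ, hc])
    intro x
    rw [hsq, hc]
  · unfold IsProper
    rw [← hμ]
    by_cases hsql : IsSquare (-μ)
    · obtain ⟨c, hc⟩ := hsql
      have hc0 : c ≠ 0 := by
        rintro rfl
        rw [mul_zero, neg_eq_zero] at hc
        exact hμ0 hc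
      obtain ⟨τ, hτdef⟩ : ∃ τ : (ι → F) →ₗ[F] (ι → F),
          τ = c⁻¹ • Matrix.toLin' (g.1 : Matrix ι ι F) := ⟨_, rfl⟩
      have hτa : ∀ x, τ x = c⁻¹ • ((g.1 : Matrix ι ι F) *ᵥ x) := fun x => by
        rw [hτdef, LinearMap.smul_apply, Matrix.toLin'_apply]
      have hμc : μ = -(c * c) := by rw [← hc, neg_neg]
      have hτneg : ∀ x, Q (τ x) = -Q x := by
        intro x
        rw [hτa, QuadraticMap.map_smul, hQg, smul_eq_mul, hμc]
        field_simp
      have hττ : ∀ x, τ (τ x) = x := by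
        intro x
        rw [hτa, hτa, Matrix.mulVec_smul, hsq, smul_smul, smul_smul, hc]
        have : c⁻¹ * c⁻¹ * (c * c) = 1 := by field_simp
        rw [this, one_smul]
      have hdetτ' := det_invol_of_neg h2 Q hQ hfin τ hττ hτneg
      rw [hτdef, LinearMap.det_smul, LinearMap.det_toLin', hfin] at hdetτ'
      have e : (c⁻¹) ^ (2 * k) = ((c * c) ^ k)⁻¹ := by
        rw [inv_pow, pow_mul, pow_two]
      rw [e] at hdetτ'
      have hcck : (c * c) ^ k ≠ 0 := pow_ne_zero _ (mul_ne_zero hc0 hc0)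
      have h5 : (g.1 : Matrix ι ι F).det = (c * c) ^ k * (-1) ^ k := by
        rw [← hdetτ', ← mul_assoc, mul_inv_cancel₀ hcck, one_mul]
      rw [h5, ← mul_pow, hμc]
      congr 1
      ring
    · rw [det_of_sq_nonsquare hcard _ (-μ) hsql hGG, neg_neg]

include hu₀ h2 hQ hcard in
/-- **classification**: an improper similitude whose square is a scalar is of one of the two
good types (dimension at least `8`) -/
theorem good_of_improper (hk : 4 ≤ k) (hn : 7 ≤ Fintype.card ι)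
    (g : ↥(Cfsg.Geo.quadSimilarityGroup (F := F) ⇑Q)) (hg : ¬ IsProper Q u₀ hu₀ k g)
    (hxx : theta (⇑Q) g * theta (⇑Q) g = 1) :
    ∃ lam : F, lam ≠ 0 ∧
      (∀ v, (g.1 : Matrix ι ι F) *ᵥ ((g.1 : Matrix ι ι F) *ᵥ v) = lam • v) ∧
      (∀ v, Q ((g.1 : Matrix ι ι F) *ᵥ v) = lam * Q v) ∧ GoodInvol (toLE g.1) lam ∧
      ∀ κ : F, ∃ v, (g.1 : Matrix ι ι F) *ᵥ v ≠ κ • v := by
  obtain ⟨μ, hμ⟩ : ∃ μ : F, μ = (mult Q u₀ hu₀ g : F) := ⟨_, rfl⟩
  have hμ0 : μ ≠ 0 := by rw [hμ]; exact Units.ne_zero _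
  have hfin : finrank F (ι → F) = 2 * k := by
    rw [Module.finrank_fintype_fun_eq_card, hcard]
  have hQg : ∀ x, Q ((g.1 : Matrix ι ι F) *ᵥ x) = μ * Q x := fun x => by
    rw [Q_sim Q u₀ hu₀, hμ]
  rw [← map_mul] at hxx
  obtain ⟨lam, hlam⟩ := scalar_of_theta_eq_one Q hQ hn _ hxx
  have hsq : ∀ x, (g.1 : Matrix ι ι F) *ᵥ ((g.1 : Matrix ι ι F) *ᵥ x) = lam • x := by
    intro x
    rw [← hlam x, Matrix.mulVec_mulVec]
    rfl
  have hlamμ : lam = μ ∨ lam = -μ := by
    have h1 : Q ((g.1 : Matrix ι ι F) *ᵥ ((g.1 : Matrix ι ι F) *ᵥ u₀)) = μ * μ := by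
      rw [hQg, hQg, hu₀, mul_one]
    rw [hsq, QuadraticMap.map_smul, hu₀, smul_eq_mul, mul_one] at h1
    have h3 : (lam - μ) * (lam + μ) = 0 := by linear_combination h1
    rcases mul_eq_zero.1 h3 with h | h
    · left; linear_combination h
    · right; linear_combination h
  have hlμ : lam = μ := by
    rcases hlamμ with h | h
    · exact h
    · exfalso
      apply hg
      apply proper_of_sq_neg' Q u₀ hu₀ h2 hQ hcard g
      intro x
      rw [hsq, h, hμ]
  have hnsc : ∀ κ : F, ∃ v, (g.1 : Matrix ι ι F) *ᵥ v ≠ κ • v := by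
    intro κ
    by_contra hcon
    push Not at hcon
    exact hg (proper_of_scalar Q u₀ hu₀ hcard g κ hcon)
  refine ⟨lam, by rw [hlμ]; exact hμ0, hsq, by rw [hlμ]; exact hQg, ?_, hnsc⟩
  by_cases hsqμ : IsSquare μ
  · left
    obtain ⟨c, hc⟩ := hsqμ
    have hc0 : c ≠ 0 := by
      rintro rfl
      rw [mul_zero] at hc
      exact hμ0 hc
    obtain ⟨s, hs⟩ := exists_iso_of_sq Q u₀ hu₀ g c (by rw [← hμ, hc, pow_two])
    have hdets : (s.1 : Matrix ι ι F).det = -1 := by
      have hdet := rel_det Q g s c hs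
      rcases det_eq_or Q u₀ hu₀ hQ hcard g with h | h
      · exact absurd h hg
      · rw [h, ← hμ, hcard, hc] at hdet
        have hcm : (c * c) ^ k ≠ 0 := pow_ne_zero _ (mul_ne_zero hc0 hc0)
        have e : c ^ (2 * k) = (c * c) ^ k := by rw [pow_mul, pow_two]
        rw [e] at hdet
        apply mul_left_cancel₀ hcm
        rw [← hdet]
        ring
    have hss : ∀ x, (s.1 : Matrix ι ι F) *ᵥ ((s.1 : Matrix ι ι F) *ᵥ x) = x := by
      intro x
      have h1 := hsq x
      rw [hs, hs, Matrix.mulVec_smul, smul_smul, hlμ, hc] at h1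
      have hcc : c * c ≠ 0 := mul_ne_zero hc0 hc0
      exact smul_right_injective _ hcc h1
    obtain ⟨σ, hσdef⟩ : ∃ σ : (ι → F) →ₗ[F] (ι → F),
        σ = Matrix.toLin' (s.1 : Matrix ι ι F) := ⟨_, rfl⟩
    have hσa : ∀ x, σ x = (s.1 : Matrix ι ι F) *ᵥ x := fun x => by
      rw [hσdef, Matrix.toLin'_apply]
    have hσσ : ∀ x, σ (σ x) = x := fun x => by rw [hσa, hσa, hss]
    have hdetσ := det_invol h2 σ hσσ
    rw [hσdef, LinearMap.det_toLin', hdets, ← hσdef] at hdetσ
    have hsum := finrank_eigen_add h2 σ hσσ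
    rw [hfin] at hsum
    have hoddN : Odd (finrank F (LinearMap.ker (σ + LinearMap.id))) := by
      by_contra hne
      rw [Nat.not_odd_iff_even] at hne
      rw [hne.neg_one_pow] at hdetσ
      have : (2 : F) = 0 := by linear_combination -hdetσ
      exact h2 this
    have hW : eigW (toLE g.1) c = LinearMap.ker (σ - LinearMap.id) := by
      ext v
      rw [mem_eigW, LinearMap.mem_ker, LinearMap.sub_apply, LinearMap.id_apply, sub_eq_zero,
        toLE_apply, hs, hσa]
      constructor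
      · intro h
        exact smul_right_injective _ hc0 h
      · intro h
        rw [h]
    have hU : eigW (toLE g.1) (-c) = LinearMap.ker (σ + LinearMap.id) := by
      ext v
      rw [mem_eigW, LinearMap.mem_ker, LinearMap.add_apply, LinearMap.id_apply,
        toLE_apply, hs, hσa]
      constructor
      · intro h
        have h3 : c • ((s.1 : Matrix ι ι F) *ᵥ v + v) = 0 := by
          rw [smul_add, h]
          module
        rcases smul_eq_zero.1 h3 with h4 | h4
        · exact absurd h4 hc0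
        · exact h4
      · intro h
        have : (s.1 : Matrix ι ι F) *ᵥ v = -v := eq_neg_of_add_eq_zero_left h
        rw [this]
        module
    obtain ⟨j, hj⟩ := hoddN
    by_cases hcmp : finrank F (LinearMap.ker (σ + LinearMap.id)) ≤
        finrank F (LinearMap.ker (σ - LinearMap.id))
    · refine ⟨c, hc0, by rw [hlμ, hc], ?_, ?_⟩
      · rw [hW]; omega
      · rw [hU]; omega
    · refine ⟨-c, neg_ne_zero.2 hc0, by rw [hlμ, hc]; ring, ?_, ?_⟩
      · rw [hU]; omega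
      · rw [neg_neg, hW]; omega
  · right
    refine ⟨by rw [hlμ]; exact hsqμ, ?_⟩
    rw [hfin]
    omega

end classify

end Cfsg.Agent.Lib.Helper18.OrthGr
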