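import Cfsg.Agent.Lib.Helper18.OrthMinI
import Cfsg.Agent.Lib.Helper18.PSLnFldF

set_option autoImplicit false

/-!
# Field automorphisms of prime order of `PΩ⁻_{2m+2}(q)`: the main theorem
-/

namespace Cfsg.Agent.Lib.Helper18.OrthMin

open Module QuadraticMap Matrix Cfsg.Agent.Lib.Helper25.PSim Cfsg.Agent.Lib.Helper25.Spin
  Cfsg.Agent.Lib.Helper25.CD Cfsg.Agent.Lib.Helper14 Cfsg.Agent.Lib.Helper14.OrthMinus
  Cfsg.Agent.Lib.Helper14.QuadExt Cfsg.Agent.Lib.Helper18.OrthFld Cfsg.Agent.Lib.Helper18.OrthPar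
  Cfsg.Agent.Lib.Helper25.GraphSplit Cfsg.Agent.Lib.Helper15.QuadType
  Cfsg.Agent.Lib.Helper18.OrthIso

universe u v

section abstract

theorem congr_congr_symm {G H : Type*} [Group G] [Group H] (ψ : G ≃* H) (d : MulAut G) :
    MulAut.congr ψ.symm (MulAut.congr ψ d) = d := by
  apply MulEquiv.ext
  intro y
  show ψ.symm (ψ (d (ψ.symm (ψ.symm.symm y)))) = d y
  rw [MulEquiv.symm_apply_apply, MulEquiv.symm_symm, MulEquiv.symm_apply_apply]

theorem congr_mem_inn_iff {G H : Type*} [Group G] [Group H] (ψ : G ≃* H) (δ : MulAut G) :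
    δ ∈ Cfsg.Inn G ↔ MulAut.congr ψ δ ∈ Cfsg.Inn H := by
  constructor
  · exact congr_mem_inn ψ
  · intro h
    have := congr_mem_inn ψ.symm h
    rwa [congr_congr_symm] at this

end abstract

section std

variable {F₀ : Type v} {F : Type u} [Field F₀] [Field F] [Fintype F₀] [Fintype F]
  (m : ℕ) (e : F₀ →+* F) (a₀ b₀ : F₀)

/-- the centralizer, in the language of `quadFormMinus` -/
theorem minus_centralizer_std' (hm : 3 ≤ m) (hab₀ : Aniso a₀ b₀) (hab : Aniso (e a₀) (e b₀))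
    {σ : RingAut F} {φ : MulAut (Cfsg.POmega F (Cfsg.quadFormMinus m F (e a₀) (e b₀)))}
    (hφ : Cfsg.IsFieldAutPOmegaOf (Cfsg.quadFormMinus m F (e a₀) (e b₀)) σ φ)
    (r : ℕ) (hσ : orderOf σ = r) (hr : 0 < r) (he : ∀ x : F, σ x = x ↔ x ∈ Set.range e) :
    Nonempty (↥(Cfsg.inndiagPOmegaMinus m F (e a₀) (e b₀) ⊓ Subgroup.centralizer {φ}) ≃*
      ↥(Cfsg.inndiagPOmegaMinus m F₀ a₀ b₀)) :=
  minus_centralizer_std m e a₀ b₀ hm hab₀ hab hφ r hσ hr he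

/-- the class does not split, in the language of `quadFormMinus` -/
theorem minus_split_std' (hm : 3 ≤ m) (hab₀ : Aniso a₀ b₀) (hab : Aniso (e a₀) (e b₀))
    {σ : RingAut F} {φ : MulAut (Cfsg.POmega F (Cfsg.quadFormMinus m F (e a₀) (e b₀)))}
    (hφ : Cfsg.IsFieldAutPOmegaOf (Cfsg.quadFormMinus m F (e a₀) (e b₀)) σ φ)
    (r : ℕ) (hσ : orderOf σ = r) (hr : 0 < r) (hodd : Odd r)
    (he : ∀ x : F, σ x = x ↔ x ∈ Set.range e) :
    Cfsg.splitClassCount (Cfsg.inndiagPOmegaMinus m F (e a₀) (e b₀))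
      (Cfsg.Inn (Cfsg.POmega F (Cfsg.quadFormMinus m F (e a₀) (e b₀)))) φ = 1 :=
  minus_split_std m e a₀ b₀ hm hab₀ hab hφ r hσ hr hodd he

end std

section main

variable {F : Type u} [Field F] [Fintype F] (m : ℕ) (a b : F)

/-- **S2716**: field automorphisms of prime order of `PΩ⁻_{2m+2}(q)` -/
theorem minus_field_main {p f : ℕ} [Fact p.Prime] (hF : Fintype.card F = p ^ f) (hm : 3 ≤ m)
    (hab : Aniso a b) (x : MulAut (Cfsg.POmega F (Cfsg.quadFormMinus m F a b)))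
    (hx : Cfsg.IsFieldAutClassPOmegaMinus m x) {r : ℕ} (hr : r.Prime) (hxr : orderOf x = r)
    (F₀ : Type v) [Field F₀] [Fintype F₀] (hF₀ : Fintype.card F₀ = p ^ (f / r)) :
    Odd r ∧ r ∣ f ∧
    (∃ a₀ b₀ : F₀, Aniso a₀ b₀ ∧
      Nonempty (↥(Cfsg.inndiagPOmegaMinus m F a b ⊓ Subgroup.centralizer {x}) ≃*
        ↥(Cfsg.inndiagPOmegaMinus m F₀ a₀ b₀))) ∧
    Cfsg.splitClassCount (Cfsg.inndiagPOmegaMinus m F a b)
      (Cfsg.Inn (Cfsg.POmega F (Cfsg.quadFormMinus m F a b))) x = 1 := by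
  obtain ⟨a', b', ψ, σ, hab', hσ1, ha', hb', hφ⟩ := hx
  have hab'' : Aniso a' b' := hab'
  rw [congr_eq ψ x] at hφ
  have hoφ : orderOf (MulAut.congr ψ x) = orderOf (σ : RingAut F) :=
    orderOf_field_minus m a' b' hm hab'' ha' hb' hφ
  have hoσ : orderOf (σ : RingAut F) = r := by
    rw [← hoφ, MulEquiv.orderOf_eq, hxr]
  obtain ⟨hdvd, e, he⟩ := Cfsg.Agent.Lib.Helper18.PSLnFld.exists_fixed_embedding hF σ r hoσ
    hr.pos F₀ hF₀
  obtain ⟨a₀, rfl⟩ := (he a').1 ha'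
  obtain ⟨b₀, rfl⟩ := (he b').1 hb'
  have hab₀ : Aniso a₀ b₀ := aniso_of_map e hab''
  have hcard : Fintype.card F = Fintype.card F₀ ^ r := by
    rw [hF, hF₀, ← pow_mul, Nat.div_mul_cancel hdvd]
  have hodd : Odd r := odd_of_aniso e hr hcard hab''
  have hD : ∀ h, h ∈ Cfsg.inndiagPOmegaMinus m F a b ↔
      MulAut.congr ψ h ∈ Cfsg.inndiagPOmegaMinus m F (e a₀) (e b₀) := by
    intro h
    constructor
    · exact congr_mem_inndiag m a b hm hab hab'' ψ h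
    · intro hh
      have := congr_mem_inndiag m (e a₀) (e b₀) hm hab'' hab ψ.symm _ hh
      rwa [congr_congr_symm] at this
  refine ⟨hodd, hdvd, ⟨a₀, b₀, hab₀, ?_⟩, ?_⟩
  · obtain ⟨e1⟩ := nonempty_centralizer_map (MulAut.congr ψ) _ _ hD x
    obtain ⟨e2⟩ := minus_centralizer_std' m e a₀ b₀ hm hab₀ hab'' hφ r hoσ hr.pos he
    exact ⟨e1.trans e2⟩
  · rw [← splitClassCount_map (MulAut.congr ψ) _ _ _ _ hD (congr_mem_inn_iff ψ) x]
    exact minus_split_std' m e a₀ b₀ hm hab₀ hab'' hφ r hoσ hr.pos hodd he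

end main

end Cfsg.Agent.Lib.Helper18.OrthMin
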