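import Cfsg.Agent.Lib.Helper18.OrthGrH
import Cfsg.Agent.Lib.Helper18.OrthMinJ

set_option autoImplicit false

/-!
# The image of the conformal group modulo the inner automorphisms has exponent dividing four
-/

namespace Cfsg.Agent.Lib.Helper18.OrthGr

open Module QuadraticMap Matrix Cfsg.Agent.Lib.Helper25.PSim Cfsg.Agent.Lib.Helper25.Spin
  Cfsg.Agent.Lib.Helper25.CD Cfsg.Agent.Lib.Helper25.GraphSplit
  Cfsg.Agent.Lib.Helper25.Siegel Cfsg.Agent.Lib.Helper25.PAut Cfsg.Agent.Lib.Helper25.AutOut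
  Cfsg.Agent.Lib.Helper18.OrthBal Cfsg.Agent.Lib.Helper18.OrthFld Cfsg.Agent.Lib.Helper18.OrthMin
  Cfsg.Agent.Lib.Helper18.OrthPar

universe u v

section abstract

variable {G : Type*} [Group G]

theorem mem_of_sq_mem_of_odd (H : Subgroup G) (z : G) (hodd : Odd (orderOf z))
    (h : z ^ 2 ∈ H) : z ∈ H := by
  obtain ⟨k, hk⟩ := hodd
  have e : z = (z ^ 2) ^ (k + 1) := by
    rw [← pow_mul]
    have : 2 * (k + 1) = orderOf z + 1 := by omega
    rw [this, pow_succ, pow_orderOf_eq_one, one_mul]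
  rw [e]
  exact Subgroup.pow_mem _ h _

theorem mem_of_pow_four_mem_of_odd (H : Subgroup G) (z : G) (hodd : Odd (orderOf z))
    (h : z ^ 4 ∈ H) : z ∈ H := by
  apply mem_of_sq_mem_of_odd H z hodd
  apply mem_of_sq_mem_of_odd H (z ^ 2)
  · exact Odd.of_dvd_nat hodd (orderOf_pow_dvd 2)
  · rw [← pow_mul]
    exact h

end abstract

section generic

variable {ι : Type} [Fintype ι] [DecidableEq ι] {F : Type u} [Field F] [Fintype F]
  (Q : QuadraticForm F (ι → F)) (hQ : (polarBilin Q).Nondegenerate)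
  (hn : 7 ≤ Fintype.card ι)

theorem theta_incl_mem_inn (s : ↥(Cfsg.isometryGroup F ⇑Q)) (hs : s ∈ Cfsg.Omega F ⇑Q) :
    theta ⇑Q (incl ⇑Q s) ∈ Cfsg.Inn (Cfsg.POmega F ⇑Q) := by
  rw [inn_eq']
  exact ⟨incl _ s, ⟨s, hs, rfl⟩, rfl⟩

include hQ hn in
/-- the fourth power of an automorphism induced by a similarity is inner -/
theorem theta_pow_four_mem_inn (g : ↥(Cfsg.Geo.quadSimilarityGroup (F := F) ⇑Q)) :
    theta ⇑Q g ^ 4 ∈ Cfsg.Inn (Cfsg.POmega F ⇑Q) := by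
  by_cases h2 : (2 : F) = 0
  · have : CharP F 2 := CharTwo.of_one_ne_zero_of_two_eq_zero one_ne_zero h2
    have hex : Fintype.card F ≠ 2 ∨ Fintype.card ι ≠ 4 := by
      right
      omega
    obtain ⟨z, vs, hz, hvs, hgz⟩ := sim_eq_smul_word h2 Q hQ hex g.1 g.2
    have e1 := theta_eq_of_smul Q g (wordG Q vs) z hgz
    have hall : ∀ v ∈ vs ++ vs, Q v ≠ 0 := by
      intro v hv
      rcases List.mem_append.1 hv with h | h <;> exact hvs v h
    have h3 : wordG Q vs * wordG Q vs ∈ Cfsg.Omega F ⇑Q := by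
      rw [← wordG_append, mem_omega_iff_char2 Q hQ hex hall, List.length_append]
      exact ⟨_, rfl⟩
    have h4 : theta ⇑Q g ^ 2 ∈ Cfsg.Inn (Cfsg.POmega F ⇑Q) := by
      rw [e1, pow_two, ← map_mul, ← map_mul]
      exact theta_incl_mem_inn Q _ h3
    have e4 : theta ⇑Q g ^ 4 = (theta ⇑Q g ^ 2) ^ 2 := by rw [← pow_mul]
    rw [e4]
    exact Subgroup.pow_mem _ h4 _
  · have hfin : 2 ≤ finrank F (ι → F) := by
      rw [Module.finrank_fintype_fun_eq_card]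
      omega
    obtain ⟨u₀, hu₀⟩ := exists_rep Q hQ hfin 1
    obtain ⟨μ, hμ⟩ : ∃ μ : F, μ = (mult Q u₀ hu₀ g : F) := ⟨_, rfl⟩
    have hμ0 : μ ≠ 0 := by rw [hμ]; exact Units.ne_zero _
    obtain ⟨s, hs⟩ := exists_iso_of_sq Q u₀ hu₀ (g * g) μ (by
      rw [map_mul, Units.val_mul, ← hμ, pow_two])
    have e1 := rel_theta Q (g * g) s μ hμ0 hs
    have e4 : theta ⇑Q g ^ 4 = theta ⇑Q (g * g) * theta ⇑Q (g * g) := by
      rw [← map_mul, ← map_pow]
      congr 1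
      simp only [pow_succ, pow_zero, one_mul, mul_assoc]
    rw [e4, e1, ← map_mul, ← map_mul]
    exact theta_incl_mem_inn Q _ (sq_mem_omega Q h2 hQ s)

include hQ hn in
/-- an automorphism of odd order induced by a similarity is inner -/
theorem mem_inn_of_odd_order (y : MulAut (Cfsg.POmega F ⇑Q)) (hy : y ∈ (theta ⇑Q).range)
    (hodd : Odd (orderOf y)) : y ∈ Cfsg.Inn (Cfsg.POmega F ⇑Q) := by
  obtain ⟨g, rfl⟩ := hy
  exact mem_of_pow_four_mem_of_odd _ _ hodd (theta_pow_four_mem_inn Q hQ hn g)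

include hQ hn in
/-- an odd prime dividing the order of the image of the conformal group divides `|PΩ|` -/
theorem dvd_card_pomega_of_dvd_range {p : ℕ} [Fact p.Prime] (hp2 : p ≠ 2)
    (h : p ∣ Nat.card ↥(theta ⇑Q).range) : p ∣ Nat.card (Cfsg.POmega F ⇑Q) := by
  have hp : p.Prime := Fact.out
  obtain ⟨y, hy⟩ := exists_prime_orderOf_dvd_card' p h
  have hy' : orderOf (y : MulAut (Cfsg.POmega F ⇑Q)) = p := by
    rw [Subgroup.orderOf_coe, hy]
  have hodd : Odd (orderOf (y : MulAut (Cfsg.POmega F ⇑Q))) := by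
    rw [hy']
    exact hp.odd_of_ne_two hp2
  have hmem := mem_inn_of_odd_order Q hQ hn y.1 y.2 hodd
  have hI : Nat.card ↥(Cfsg.Inn (Cfsg.POmega F ⇑Q)) = Nat.card (Cfsg.POmega F ⇑Q) :=
    (Nat.card_congr (MonoidHom.ofInjective (conj_injective_pomega Q hQ hn)).toEquiv).symm
  rw [← hI, ← hy']
  have h5 := orderOf_dvd_natCard (⟨y.1, hmem⟩ : ↥(Cfsg.Inn (Cfsg.POmega F ⇑Q)))
  rwa [← Subgroup.orderOf_coe] at h5

end generic

section std

variable {κ : Type} [Fintype κ] [DecidableEq κ] {F₀ : Type v} {F : Type u} [Field F₀] [Field F]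
  [Fintype F₀] [Fintype F] (e : F₀ →+* F)
  (Q₀ : QuadraticForm F₀ (κ → F₀)) (Q : QuadraticForm F (κ → F))
  (hc : Compat e (⇑Q₀) (⇑Q))
  (hQ₀ : (polarBilin Q₀).Nondegenerate) (hQ : (polarBilin Q).Nondegenerate)
  (hn : 7 ≤ Fintype.card κ)
  {σ : RingAut F} (hfix : Qfix (⇑Q) σ) {φ : MulAut (Cfsg.POmega F ⇑Q)}
  (hφ : Cfsg.IsFieldAutPOmegaOf (⇑Q) σ φ) (he : ∀ a : F, σ a = a ↔ a ∈ Set.range e)

include hc hQ₀ hQ hn hfix hφ he in
/-- if the odd prime `p` divides the number of fixed points, the `p'`-core of the centraliser is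
trivial (no hypothesis on the index of `Inn` in the image of the conformal group) -/
theorem core_std_eq_bot' (p : ℕ) [Fact p.Prime] (hp2 : p ≠ 2) (hσ : orderOf σ = p)
    (hAll : ∀ β : MulAut (Cfsg.POmega F ⇑Q), IsPairAut (⇑Q) β)
    (A : Subgroup (MulAut (Cfsg.POmega F ⇑Q)))
    (hinn : Cfsg.Inn (Cfsg.POmega F ⇑Q) ≤ A)
    (hpdvd : p ∣ Nat.card ↥(Cfsg.Inn (Cfsg.POmega F ⇑Q) ⊓ Subgroup.centralizer {φ})) :
    Cfsg.pPrimeCore p ↥(A ⊓ Subgroup.centralizer {φ}) = ⊥ := by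
  have hp : p.Prime := Fact.out
  have hLC := Lsub_le_C e Q₀ Q hc hfix hφ he
  have hCD : Cfsg.Inn (Cfsg.POmega F ⇑Q) ⊓ Subgroup.centralizer {φ} ≤
      (PsiF e Q₀ Q hc).range := by
    rw [range_PsiF e Q₀ Q hc hfix hφ hQ hn p hσ hp.pos he]
    exact inf_le_inf_right _ (inn_le_range Q)
  have hker := ker_PsiF e Q₀ Q hc hQ₀ hQ hn
  -- the order of `L`
  have hpL : p ∣ Nat.card ↥(Lsub e Q₀ Q hc) := by
    obtain ⟨e1⟩ := nonempty_equiv_of_ker_eq (PsiF e Q₀ Q hc) (theta ⇑Q₀) hker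
      (PsiF e Q₀ Q hc).range (theta ⇑Q₀).range le_rfl le_rfl
      (fun g => ⟨fun _ => ⟨g, rfl⟩, fun _ => ⟨g, rfl⟩⟩)
    have hD : Nat.card ↥(PsiF e Q₀ Q hc).range = Nat.card ↥(theta ⇑Q₀).range :=
      Nat.card_congr e1.toEquiv
    have hL := card_Lsub e Q₀ Q hc hQ₀ hQ hn
    have h1 : p ∣ Nat.card ↥(PsiF e Q₀ Q hc).range :=
      dvd_trans hpdvd (Subgroup.card_dvd_of_le hCD)
    rw [hD] at h1
    rw [hL]
    exact dvd_card_pomega_of_dvd_range Q₀ hQ₀ hn hp2 h1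
  have hoφ : orderOf φ = p := by
    rw [orderOf_field Q hQ hn hfix hφ, hσ]
  have hP : IsPGroup p ↥(Subgroup.zpowers φ) := by
    apply IsPGroup.of_card (n := 1)
    rw [Nat.card_zpowers, hoφ, pow_one]
  exact core_trivial p (A ⊓ Subgroup.centralizer {φ})
    (Cfsg.Inn (Cfsg.POmega F ⇑Q) ⊓ Subgroup.centralizer {φ}) (Lsub e Q₀ Q hc)
    (Subgroup.zpowers φ) (inf_le_inf_right _ hinn)
    (fun h hh c hcC => C_normal Q A h hh c hcC) hLC
    (fun c hcC l hl => Lsub_normal e Q₀ Q hc c (hCD hcC) l hl)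
    (Lsub_simple e Q₀ Q hc hQ₀ hQ hn) hpL
    (fun c hcC hx => inn_comm_Lsub e Q₀ Q hc hQ₀ hQ hn c hcC.1 hx)
    (fun x _ hx => cent_Lsub e Q₀ Q hc hQ₀ hQ hn hfix hφ he x (hAll x) hx) hP

end std

end Cfsg.Agent.Lib.Helper18.OrthGr
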