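import Cfsg.Agent.Lib.Helper18.OrthGrI

set_option autoImplicit false

/-!
# Anisotropic binary forms over finite fields: existence, odd extensions
-/

namespace Cfsg.Agent.Lib.Helper18.OrthGr

open Module QuadraticMap Matrix Cfsg.Agent.Lib.Helper14 Cfsg.Agent.Lib.Helper14.QuadExt
  Cfsg.Agent.Lib.Helper18.OrthFld

universe u v

section exist

variable (F₀ : Type*) [Field F₀] [Fintype F₀]

/-- every finite field has an anisotropic binary quadratic form -/
theorem exists_aniso : ∃ a₀ b₀ : F₀, Aniso a₀ b₀ := by
  by_cases h2 : (2 : F₀) = 0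
  · -- characteristic two: Artin–Schreier
    have : CharP F₀ 2 := CharTwo.of_one_ne_zero_of_two_eq_zero one_ne_zero h2
    have hni : ¬ Function.Injective (fun x : F₀ => x ^ 2 + x) := by
      intro h
      have h1 : (fun x : F₀ => x ^ 2 + x) 1 = (fun x : F₀ => x ^ 2 + x) 0 := by
        show (1 : F₀) ^ 2 + 1 = 0 ^ 2 + 0
        rw [one_pow, one_add_one_eq_two, h2]
        ring
      exact one_ne_zero (h h1)
    have hns : ¬ Function.Surjective (fun x : F₀ => x ^ 2 + x) := fun h =>
      hni (Finite.injective_iff_surjective.2 h)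
    rw [Function.Surjective] at hns
    push Not at hns
    obtain ⟨b, hb⟩ := hns
    refine ⟨1, b, ?_⟩
    intro z₁ z₂ hz
    by_cases hz2 : z₂ = 0
    · subst hz2
      refine ⟨?_, rfl⟩
      have : z₁ ^ 2 = 0 := by linear_combination hz
      exact pow_eq_zero_iff (two_ne_zero) |>.1 this
    · exfalso
      apply hb (z₁ / z₂)
      show (z₁ / z₂) ^ 2 + z₁ / z₂ = b
      have h4 : b + b = 0 := by
        have : b + b = 2 * b := by ring
        rw [this, h2, zero_mul]
      field_simp
      linear_combination hz - z₂ ^ 2 * h4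
  · -- odd characteristic: a non-square
    obtain ⟨ν, hν⟩ := FiniteField.exists_nonsquare (F := F₀)
      (Cfsg.Agent.Lib.Helper25.Spin.ringChar_ne_two h2)
    refine ⟨0, -ν, ?_⟩
    intro z₁ z₂ hz
    by_cases hz2 : z₂ = 0
    · subst hz2
      refine ⟨?_, rfl⟩
      have : z₁ ^ 2 = 0 := by linear_combination hz
      exact pow_eq_zero_iff (two_ne_zero) |>.1 this
    · exfalso
      apply hν
      refine ⟨z₁ / z₂, ?_⟩
      field_simp
      linear_combination -hz

end exist

section oddext

variable {F₀ : Type v} {F : Type u} [Field F₀] [Field F] [Fintype F₀] [Fintype F]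
  (e : F₀ →+* F)

open Polynomial in
/-- an anisotropic binary form stays anisotropic over an extension of odd degree -/
theorem aniso_of_odd_degree {r : ℕ} (hcard : Fintype.card F = Fintype.card F₀ ^ r)
    (hodd : Odd r) {a₀ b₀ : F₀} (hab₀ : Aniso a₀ b₀) : Aniso (e a₀) (e b₀) := by
  letI : Algebra F₀ F := e.toAlgebra
  have hfr : Module.finrank F₀ F = r := by
    have h1 : Fintype.card F = Fintype.card F₀ ^ Module.finrank F₀ F :=
      Module.card_eq_pow_finrank
    rw [hcard] at h1
    exact (Nat.pow_right_injective Fintype.one_lt_card h1).symm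
  have hfd : FiniteDimensional F₀ F := Module.Finite.of_finite
  intro z₁ z₂ hz
  by_cases hz2 : z₂ = 0
  · subst hz2
    refine ⟨?_, rfl⟩
    have : z₁ ^ 2 = 0 := by linear_combination hz
    exact pow_eq_zero_iff (two_ne_zero) |>.1 this
  · exfalso
    obtain ⟨ζ, hζdef⟩ : ∃ ζ : F, ζ = z₁ / z₂ := ⟨_, rfl⟩
    have hζ : ζ ^ 2 + e a₀ * ζ + e b₀ = 0 := by
      rw [hζdef]
      field_simp
      linear_combination hz
    set f : F₀[X] := X ^ 2 + C a₀ * X + C b₀ with hf
    have hdeg : f.natDegree = 2 := by
      rw [hf]
      compute_degree!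
    have hmonic : f.Monic := by
      rw [hf]
      monicity!
    have hroots : f.roots = 0 := by
      rw [Multiset.eq_zero_iff_forall_notMem]
      intro t ht
      rw [mem_roots hmonic.ne_zero, IsRoot.def, hf] at ht
      simp only [eval_add, eval_pow, eval_X, eval_mul, eval_C] at ht
      have := hab₀ t 1 (by linear_combination ht)
      exact one_ne_zero this.2
    have hirr : Irreducible f :=
      (hmonic.irreducible_iff_roots_eq_zero_of_degree_le_three (by omega) (by omega)).2 hroots
    have haeval : aeval ζ f = 0 := by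
      rw [hf]
      simp only [map_add, map_pow, aeval_X, map_mul, aeval_C]
      exact hζ
    have hmin : f = minpoly F₀ ζ := minpoly.eq_of_irreducible_of_monic hirr haeval hmonic
    have hint : IsIntegral F₀ ζ := IsIntegral.of_finite F₀ ζ
    have hdvd := minpoly.degree_dvd hint
    rw [← hmin, hdeg, hfr] at hdvd
    obtain ⟨k, hk⟩ := hodd
    omega

end oddext

section fixed

variable {F : Type u} [Field F] [Fintype F]

/-- the cardinality of a finite field in terms of the fixed field of an automorphism -/
theorem card_eq_pow_Kf (σ : RingAut F) (r : ℕ) (hσ : orderOf σ = r) [Fintype ↥(Kf σ)] :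
    Fintype.card F = Fintype.card ↥(Kf σ) ^ r := by
  classical
  have : Finite (RingAut F) := Cfsg.Agent.Lib.Helper18.PSLnFld.finite_ringAut
  have : Fintype (Subgroup.zpowers σ) := Fintype.ofFinite _
  have h1 : Module.finrank ↥(Kf σ) F = r := by
    rw [FixedPoints.finrank_eq_card, ← Nat.card_eq_fintype_card, Nat.card_zpowers, hσ]
  have h2 : Nat.card F = Nat.card ↥(Kf σ) ^ r := by
    rw [← h1]
    exact Module.natCard_eq_pow_finrank
  rwa [Nat.card_eq_fintype_card, Nat.card_eq_fintype_card] at h2

end fixed

end Cfsg.Agent.Lib.Helper18.OrthGr
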