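import Cfsg.Agent.Lib.Helper18.OrthGrJ

set_option autoImplicit false

/-!
# Transport of semisimilarities and of the field-automorphism homomorphism along a linear isometry
-/

namespace Cfsg.Agent.Lib.Helper18.OrthGr

open Module QuadraticMap Matrix Cfsg.Agent.Lib.Helper25.PSim Cfsg.Agent.Lib.Helper25.Spin
  Cfsg.Agent.Lib.Helper25.CD Cfsg.Agent.Lib.Helper25.GraphSplit
  Cfsg.Agent.Lib.Helper25.Siegel Cfsg.Agent.Lib.Helper25.PAut Cfsg.Agent.Lib.Helper25.AutOut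
  Cfsg.Agent.Lib.Helper18.OrthBal Cfsg.Agent.Lib.Helper18.OrthFld Cfsg.Agent.Lib.Helper18.OrthMin
  Cfsg.Agent.Lib.Helper18.OrthPar Cfsg.Agent.Lib.Helper18.OrthIso

universe u v

section transport

variable {ι : Type} [Fintype ι] [DecidableEq ι] {F : Type u} [Field F]
  (Q Q' : (ι → F) → F) (k : GL ι F) (hk : ∀ v, Q' ((k : Matrix ι ι F) *ᵥ v) = Q v)

include hk in
/-- transport of a semisimilarity along a linear isometry -/
theorem pair_conj {g : GL ι F} {τ : F ≃+* F} (hp : Cfsg.IsSemisimilarityPair Q g τ) :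
    Cfsg.IsSemisimilarityPair Q' (k * g * (sigmaGL τ k)⁻¹) τ := by
  obtain ⟨c, hc⟩ := hp
  refine ⟨c, fun v => ?_⟩
  obtain ⟨w, rfl⟩ : ∃ w, (k : Matrix ι ι F) *ᵥ w = v :=
    ⟨((k⁻¹ : GL ι F) : Matrix ι ι F) *ᵥ v, by
      rw [Matrix.mulVec_mulVec, ← Units.val_mul, mul_inv_cancel, Units.val_one,
        Matrix.one_mulVec]⟩
  have h1 : (fun i => τ (((k : Matrix ι ι F) *ᵥ w) i)) =
      ((sigmaGL τ k : GL ι F) : Matrix ι ι F) *ᵥ (fun i => τ (w i)) := by
    rw [sigmaGL_coe]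
    exact map_mulVec_equiv τ _ w
  have h2 : ((k * g * (sigmaGL τ k)⁻¹ : GL ι F) : Matrix ι ι F) *ᵥ
      (fun i => τ (((k : Matrix ι ι F) *ᵥ w) i)) =
      (k : Matrix ι ι F) *ᵥ ((g : Matrix ι ι F) *ᵥ (fun i => τ (w i))) := by
    rw [h1, Matrix.mulVec_mulVec, Matrix.mulVec_mulVec, ← Units.val_mul, ← Units.val_mul]
    congr 2
    group
  rw [h2, hk, hc, hk]

include hk in
/-- transport of the induced automorphism along a linear isometry -/
theorem induced_conj {g : GL ι F} {τ : F ≃+* F} (hp : Cfsg.IsSemisimilarityPair Q g τ)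
    {β : MulAut (Cfsg.POmega F Q)} (hind : Cfsg.IsInducedBySemilinearPOmega Q g τ β) :
    Cfsg.IsInducedBySemilinearPOmega Q' (k * g * (sigmaGL τ k)⁻¹) τ
      (MulAut.congr (pomegaConj Q Q' k hk) β) := by
  intro s s' hs
  show pomegaConj Q Q' k hk (β ((pomegaConj Q Q' k hk).symm (QuotientGroup.mk s))) = _
  obtain ⟨t, ht⟩ : ∃ t, commEquiv (isoConj Q Q' k hk) t = s :=
    ⟨(commEquiv (isoConj Q Q' k hk)).symm s, MulEquiv.apply_symm_apply _ _⟩
  have h1 : (pomegaConj Q Q' k hk).symm (QuotientGroup.mk s) = QuotientGroup.mk t := by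
    rw [MulEquiv.symm_apply_eq, pomegaConj_mk, ht]
  rw [h1, induced_mk Q hp hind, pomegaConj_mk]
  congr 1
  apply Subtype.ext
  apply Subtype.ext
  apply Units.ext
  rw [hs, ← coe_conj]
  congr 1
  rw [commEquiv_coe, isoConj_val, semiOmega_val, ← ht, commEquiv_coe, isoConj_val, map_mul,
    map_mul, map_inv]
  group

end transport

section fieldhom

variable {ι : Type} [Fintype ι] [DecidableEq ι] {F : Type u} [Field F] [Fintype F]
  (Q Q' : QuadraticForm F (ι → F)) (k : GL ι F)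
  (hk : ∀ v, Q' ((k : Matrix ι ι F) *ᵥ v) = Q v)

/-- the field automorphism attached to an automorphism is invariant under transport along a
linear isometry -/
theorem fieldHom_congr (hQ : (polarBilin Q).Nondegenerate) (hQ' : (polarBilin Q').Nondegenerate)
    (hn : 7 ≤ Fintype.card ι)
    (hAll : ∀ β : MulAut (Cfsg.POmega F ⇑Q), IsPairAut (⇑Q) β)
    (hAll' : ∀ β : MulAut (Cfsg.POmega F ⇑Q'), IsPairAut (⇑Q') β)
    (β : MulAut (Cfsg.POmega F ⇑Q)) :
    fieldHom Q' hQ' hn hAll' (MulAut.congr (pomegaConj (⇑Q) (⇑Q') k hk) β) =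
      fieldHom Q hQ hn hAll β := by
  obtain ⟨g, τ, hp, hind⟩ := hAll β
  rw [fieldHom_eq Q hQ hn hAll hp hind,
    fieldHom_eq Q' hQ' hn hAll' (pair_conj (⇑Q) (⇑Q') k hk hp) (induced_conj (⇑Q) (⇑Q') k hk hp hind)]

end fieldhom

end Cfsg.Agent.Lib.Helper18.OrthGr
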