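import Cfsg.Agent.Lib.Helper18.OrthGrK
import Cfsg.Agent.Lib.Helper25.GraphSplit7
import Cfsg.Agent.Lib.Helper25.SpinMinus

set_option autoImplicit false

/-!
# Local balance in `PΩ⁻_{2m+2}(q)`: membership in `Inndiag`, and the case `p = 2`
-/

namespace Cfsg.Agent.Lib.Helper18.OrthGr

open Module QuadraticMap Matrix Cfsg.Agent.Lib.Helper25.PSim Cfsg.Agent.Lib.Helper25.Spin
  Cfsg.Agent.Lib.Helper25.CD Cfsg.Agent.Lib.Helper25.GraphSplit
  Cfsg.Agent.Lib.Helper25.Siegel Cfsg.Agent.Lib.Helper25.PAut Cfsg.Agent.Lib.Helper25.AutOut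
  Cfsg.Agent.Lib.Helper18.OrthBal Cfsg.Agent.Lib.Helper18.OrthFld Cfsg.Agent.Lib.Helper18.OrthMin
  Cfsg.Agent.Lib.Helper18.OrthPar Cfsg.Agent.Lib.Helper18.OrthIso
  Cfsg.Agent.Lib.Helper14 Cfsg.Agent.Lib.Helper14.OrthMinus Cfsg.Agent.Lib.Helper14.QuadExt

universe u v

section inndiag

variable {F : Type u} [Field F] [Fintype F] (m : ℕ) (a b : F)

/-- the elements of `Inndiag(PΩ⁻)` are inner-diagonal automorphisms -/
theorem isInnerDiagonal_of_mem (hm : 2 ≤ m) (hab : Aniso a b)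
    (x : MulAut (Cfsg.POmega F ⇑(Qm m a b (disc_ne_zero hab))))
    (hx : x ∈ inndiagQ m a b (disc_ne_zero hab)) :
    Cfsg.IsInnerDiagonalAutPOmegaMinus m a b x := by
  have hD := disc_ne_zero hab
  by_cases h2 : (2 : F) = 0
  · rw [inndiagQ_eq_inn m a b hab h2 hm, inn_eq'] at hx
    obtain ⟨_, ⟨s, hs, rfl⟩, rfl⟩ := hx
    refine ⟨(incl _ s).1, (incl _ s).2, ?_, (induced_iff _ _ (incl _ s).2 _).2 rfl⟩
    rw [presMinus_iff_char2 m a b h2 hm hab _ (incl _ s).2]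
    exact ⟨1, s, one_ne_zero, hs, by rw [one_smul]; rfl⟩
  · have hodd := odd_card_of_two_ne_zero h2
    rw [inndiagQ_eq_proper m a b hab h2] at hx
    obtain ⟨g, hg, rfl⟩ := hx
    rw [SetLike.mem_coe, mem_properSub_iff] at hg
    refine ⟨g.1, g.2, ?_, (induced_iff (⇑(Qm m a b hD)) g.1 g.2 _).2 rfl⟩
    exact (preserves_minus_iff m a b hodd hab (g.1 : Matrix (Idx m) (Idx m) F) _
      (Units.ne_zero (mult (Qm m a b hD) (v0 m) (Qm_v0 m a b hD) g))
      (fun v => Q_sim (Qm m a b hD) (v0 m) (Qm_v0 m a b hD) g v)).2 hg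

end inndiag

section two

variable {F : Type u} [Field F] [Fintype F] (m : ℕ) (a b : F)

set_option maxHeartbeats 800000 in
/-- **the case `p = 2`**: the `2'`-core of the centraliser of an involution outside `Inndiag` is
trivial -/
theorem minus_core_two (hm : 3 ≤ m) (hab : Aniso a b) (h2 : (2 : F) ≠ 0)
    (A : Subgroup (MulAut (Cfsg.POmega F ⇑(Qm m a b (disc_ne_zero hab)))))
    (hinn : Cfsg.Inn (Cfsg.POmega F ⇑(Qm m a b (disc_ne_zero hab))) ≤ A)
    (x : MulAut (Cfsg.POmega F ⇑(Qm m a b (disc_ne_zero hab)))) (hord : orderOf x = 2)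
    (hnot : ¬ Cfsg.IsInnerDiagonalAutPOmegaMinus m a b x) :
    Cfsg.pPrimeCore 2 ↥(A ⊓ Subgroup.centralizer {x}) = ⊥ := by
  have hD := disc_ne_zero hab
  have hodd := odd_card_of_two_ne_zero h2
  have hQ : (polarBilin (Qm m a b hD)).Nondegenerate := qfOf_nondeg _
  have hc1 := card_minus m
  have hn := seven_le_card_Idx m hm
  have hu₀ := Qm_v0 (F := F) m a b hD
  have hgam : Cfsg.gammaPOmega F ⇑(Qm m a b hD) = ⊤ := Cfsg.Agent.S2696.result hm a b hab
  have hAll : ∀ β : MulAut (Cfsg.POmega F ⇑(Qm m a b hD)), IsPairAut (⇑(Qm m a b hD)) β := by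
    intro β
    apply isPairAut_of_mem_gamma
    rw [hgam]
    trivial
  have hxx : x * x = 1 := by
    have h3 := pow_orderOf_eq_one x
    rw [hord, pow_two] at h3
    exact h3
  have hns : IsSquare (-1 : F) → ¬ IsSquare (Matrix.of (fun i j : Idx m =>
      QuadraticMap.polar ⇑(Qm m a b hD) (Pi.single i 1) (Pi.single j 1))).det := by
    intro hsq1 hsq
    rw [det_gram_minus hD] at hsq
    have hne : ((-1 : F)) ^ (m + 1) ≠ 0 := pow_ne_zero _ (neg_ne_zero.2 one_ne_zero)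
    rw [isSquare_mul_iff hne hD] at hsq
    exact not_isSquare_disc h2 hab (hsq.1 (hsq1.pow _))
  obtain ⟨g, hg⟩ := exists_sim_of_gamma_invol (Qm m a b hD) hodd hQ hn
    ⟨m + 1, by rw [hc1]; ring⟩ hns (by rw [hgam]; trivial) hxx
  subst hg
  have himp : ¬ IsProper (Qm m a b hD) (v0 m) hu₀ (m + 1) g := by
    intro h
    apply hnot
    apply isInnerDiagonal_of_mem m a b (by omega) hab
    rw [inndiagQ_eq_proper m a b hab h2]
    exact ⟨g, (mem_properSub_iff _ (v0 m) hu₀ h2 hQ hc1 g).2 h, rfl⟩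
  obtain ⟨lam, hlam, hgg, hQg, hgood, hnsc⟩ := good_of_improper (Qm m a b hD) (v0 m) hu₀ h2 hQ hc1
    (by omega) hn g himp hxx
  have hxInn : theta (⇑(Qm m a b hD)) g ∉ Cfsg.Inn (Cfsg.POmega F ⇑(Qm m a b hD)) := by
    intro h
    apply hnot
    apply isInnerDiagonal_of_mem m a b (by omega) hab
    exact inn_le_inndiagQ m a b hab (by omega) h
  exact graph_core_trivial (Qm m a b hD) g hQ hn h2 hAll hlam hgg hQg hgood hnsc hxInn A hinn

end two

end Cfsg.Agent.Lib.Helper18.OrthGr
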