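import Cfsg.Agent.Lib.Helper18.OrthGrL
import Cfsg.Agent.Lib.Helper18.OrthBalF

set_option autoImplicit false

/-!
# Local balance in `PΩ⁻_{2m+2}(q)`: field automorphisms of odd prime order
-/

namespace Cfsg.Agent.Lib.Helper18.OrthGr

open Module QuadraticMap Matrix Cfsg.Agent.Lib.Helper25.PSim Cfsg.Agent.Lib.Helper25.Spin
  Cfsg.Agent.Lib.Helper25.CD Cfsg.Agent.Lib.Helper25.GraphSplit
  Cfsg.Agent.Lib.Helper25.Siegel Cfsg.Agent.Lib.Helper25.PAut Cfsg.Agent.Lib.Helper25.AutOut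
  Cfsg.Agent.Lib.Helper18.OrthBal Cfsg.Agent.Lib.Helper18.OrthFld Cfsg.Agent.Lib.Helper18.OrthMin
  Cfsg.Agent.Lib.Helper18.OrthPar Cfsg.Agent.Lib.Helper18.OrthIso
  Cfsg.Agent.Lib.Helper14 Cfsg.Agent.Lib.Helper14.OrthMinus Cfsg.Agent.Lib.Helper14.QuadExt

universe u v

section std

variable {F₀ : Type v} {F : Type u} [Field F₀] [Field F] [Fintype F₀] [Fintype F]
  (m : ℕ) (e : F₀ →+* F) (a₀ b₀ : F₀)

/-- **local balance for a standard field automorphism** of odd prime order of `PΩ⁻` -/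
theorem minus_balance_std (hm : 3 ≤ m) (hab₀ : Aniso a₀ b₀) (hab : Aniso (e a₀) (e b₀))
    {σ : RingAut F} {φ : MulAut (Cfsg.POmega F ⇑(Qm m (e a₀) (e b₀) (disc_ne_zero hab)))}
    (hφ : Cfsg.IsFieldAutPOmegaOf (⇑(Qm m (e a₀) (e b₀) (disc_ne_zero hab))) σ φ)
    (p : ℕ) [Fact p.Prime] (hp2 : p ≠ 2) (hσ : orderOf σ = p)
    (he : ∀ x : F, σ x = x ↔ x ∈ Set.range e)
    (A : Subgroup (MulAut (Cfsg.POmega F ⇑(Qm m (e a₀) (e b₀) (disc_ne_zero hab)))))
    (hinn : Cfsg.Inn (Cfsg.POmega F ⇑(Qm m (e a₀) (e b₀) (disc_ne_zero hab))) ≤ A) :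
    Cfsg.pPrimeCore p ↥(A ⊓ Subgroup.centralizer {φ}) ≠ ⊥ ↔
      Nat.Coprime p (Nat.card ↥(MonoidHom.eqLocus φ.toMonoidHom
        (MonoidHom.id (Cfsg.POmega F ⇑(Qm m (e a₀) (e b₀) (disc_ne_zero hab)))))) := by
  have hp : p.Prime := Fact.out
  have hc := hcompat m e a₀ b₀ (disc_ne_zero hab₀)
  have hQ₀ : (polarBilin (Qm m a₀ b₀ (disc_ne_zero hab₀))).Nondegenerate := qfOf_nondeg _
  have hQ : (polarBilin (Qm m (e a₀) (e b₀) (disc_ne_zero hab))).Nondegenerate := qfOf_nondeg _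
  have hn := seven_le_card_Idx m hm
  have he' : ∀ b, σ (e b) = e b := fun b => (he _).2 ⟨b, rfl⟩
  have hfix : Qfix (⇑(Qm m (e a₀) (e b₀) (disc_ne_zero hab))) σ :=
    qfix_minus m (e a₀) (e b₀) σ _ (he' a₀) (he' b₀)
  have hgam : Cfsg.gammaPOmega F ⇑(Qm m (e a₀) (e b₀) (disc_ne_zero hab)) = ⊤ :=
    Cfsg.Agent.S2696.result hm (e a₀) (e b₀) hab
  have hAll : ∀ β : MulAut (Cfsg.POmega F ⇑(Qm m (e a₀) (e b₀) (disc_ne_zero hab))),
      IsPairAut (⇑(Qm m (e a₀) (e b₀) (disc_ne_zero hab))) β := by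
    intro β
    apply isPairAut_of_mem_gamma
    rw [hgam]
    trivial
  have hcardfix := card_inn_inf_centralizer
    (center_pomega (Qm m (e a₀) (e b₀) (disc_ne_zero hab)) hQ hn) φ
  constructor
  · intro hne
    by_contra hncop
    have hdvd : p ∣ Nat.card ↥(Cfsg.Inn (Cfsg.POmega F ⇑(Qm m (e a₀) (e b₀)
        (disc_ne_zero hab))) ⊓ Subgroup.centralizer {φ}) := by
      rw [hcardfix]
      exact (Nat.Prime.dvd_iff_not_coprime hp).2 hncop
    apply hne
    exact core_std_eq_bot' e (Qm m a₀ b₀ (disc_ne_zero hab₀))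
      (Qm m (e a₀) (e b₀) (disc_ne_zero hab)) hc hQ₀ hQ hn hfix hφ he p hp2 hσ hAll A hinn hdvd
  · intro hcop
    refine core_std_ne_bot e (Qm m a₀ b₀ (disc_ne_zero hab₀))
      (Qm m (e a₀) (e b₀) (disc_ne_zero hab)) hc hQ₀ hQ hn hfix hφ he p A hinn ?_
    rw [hcardfix]
    exact hcop.symm

end std

section transport

variable {K K' : Type*} [Group K] [Group K'] (ψ : K ≃* K')

/-- the fixed points of an automorphism and of its transport are in bijection -/
theorem card_eqLocus_congr (x : MulAut K) :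
    Nat.card ↥(MonoidHom.eqLocus (MulAut.congr ψ x).toMonoidHom (MonoidHom.id K')) =
      Nat.card ↥(MonoidHom.eqLocus x.toMonoidHom (MonoidHom.id K)) := by
  symm
  apply Nat.card_congr
  refine
    { toFun := fun k => ⟨ψ k.1, ?_⟩
      invFun := fun k => ⟨ψ.symm k.1, ?_⟩
      left_inv := fun k => Subtype.ext (ψ.symm_apply_apply k.1)
      right_inv := fun k => Subtype.ext (ψ.apply_symm_apply k.1) }
  · have h1 : x k.1 = k.1 := k.2
    show ψ (x (ψ.symm (ψ k.1))) = ψ k.1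
    rw [MulEquiv.symm_apply_apply, h1]
  · have h1 : ψ (x (ψ.symm k.1)) = k.1 := k.2
    show x (ψ.symm k.1) = ψ.symm k.1
    apply ψ.injective
    rw [h1, MulEquiv.apply_symm_apply]

/-- transport of `Inn ≤ A` -/
theorem inn_le_map_congr (A : Subgroup (MulAut K)) (hinn : Cfsg.Inn K ≤ A) :
    Cfsg.Inn K' ≤ A.map (MulAut.congr ψ).toMonoidHom := by
  intro y hy
  refine ⟨MulAut.congr ψ.symm y, hinn (congr_mem_inn ψ.symm hy), ?_⟩
  have := congr_congr_symm ψ.symm y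
  rw [MulEquiv.symm_symm] at this
  exact this

/-- transport of the `p'`-core of the centraliser -/
theorem core_congr_iff (p : ℕ) (A : Subgroup (MulAut K)) (x : MulAut K) :
    Cfsg.pPrimeCore p ↥(A ⊓ Subgroup.centralizer {x}) = ⊥ ↔
      Cfsg.pPrimeCore p ↥(A.map (MulAut.congr ψ).toMonoidHom ⊓
        Subgroup.centralizer {MulAut.congr ψ x}) = ⊥ := by
  obtain ⟨E⟩ := nonempty_centralizer_map (MulAut.congr ψ) A
    (A.map (MulAut.congr ψ).toMonoidHom) (fun h => by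
      constructor
      · intro hh
        exact ⟨h, hh, rfl⟩
      · rintro ⟨h', hh', he⟩
        have : h' = h := (MulAut.congr ψ).injective he
        rw [← this]
        exact hh') x
  exact pPrimeCore_eq_bot_iff_of_equiv p E

end transport

section fielddata

variable {F : Type u} [Field F] [Fintype F] (m : ℕ) (a b : F)

set_option maxHeartbeats 1600000 in
/-- **local balance for field automorphisms of odd prime order** of `PΩ⁻` -/
theorem minus_balance_of_field (hm : 3 ≤ m) (hab : Aniso a b)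
    (A : Subgroup (MulAut (Cfsg.POmega F (Cfsg.quadFormMinus m F a b))))
    (hinn : Cfsg.Inn (Cfsg.POmega F (Cfsg.quadFormMinus m F a b)) ≤ A)
    {p : ℕ} [Fact p.Prime] (hp2 : p ≠ 2)
    (x : MulAut (Cfsg.POmega F (Cfsg.quadFormMinus m F a b))) (hord : orderOf x = p)
    (hx : Cfsg.IsFieldAutClassPOmegaMinus m x) :
    Cfsg.pPrimeCore p ↥(A ⊓ Subgroup.centralizer {x}) ≠ ⊥ ↔
      Nat.Coprime p (Nat.card ↥(MonoidHom.eqLocus x.toMonoidHom
        (MonoidHom.id (Cfsg.POmega F (Cfsg.quadFormMinus m F a b))))) := by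
  obtain ⟨a', b', ψ, σ, hab', hσ1, ha', hb', hφ⟩ := hx
  have hab'' : Aniso a' b' := hab'
  rw [congr_eq ψ x] at hφ
  have hoφ : orderOf (MulAut.congr ψ x) = orderOf (σ : RingAut F) :=
    orderOf_field_minus m a' b' hm hab'' ha' hb' hφ
  have hoσ : orderOf (σ : RingAut F) = p := by
    rw [← hoφ, MulEquiv.orderOf_eq, hord]
  have : Finite (RingAut F) := Cfsg.Agent.Lib.Helper18.PSLnFld.finite_ringAut
  letI : Fintype ↥(Kf (σ : RingAut F)) := Fintype.ofFinite _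
  have he : ∀ y : F, (σ : RingAut F) y = y ↔ y ∈ Set.range (Kf (σ : RingAut F)).subtype := by
    intro y
    rw [← Cfsg.Agent.Lib.Helper18.PSLnFld.mem_fixed_iff]
    constructor
    · intro h
      exact ⟨⟨y, h⟩, rfl⟩
    · rintro ⟨z, rfl⟩
      exact z.2
  obtain ⟨a₀, rfl⟩ := (he a').1 ha'
  obtain ⟨b₀, rfl⟩ := (he b').1 hb'
  have hab₀ : Aniso a₀ b₀ := aniso_of_map (Kf (σ : RingAut F)).subtype hab''
  have hstd : Cfsg.pPrimeCore p ↥(A.map (MulAut.congr ψ).toMonoidHom ⊓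
      Subgroup.centralizer {MulAut.congr ψ x}) ≠ ⊥ ↔
      Nat.Coprime p (Nat.card ↥(MonoidHom.eqLocus (MulAut.congr ψ x).toMonoidHom
        (MonoidHom.id (Cfsg.POmega F (Cfsg.quadFormMinus m F
          ((Kf (σ : RingAut F)).subtype a₀) ((Kf (σ : RingAut F)).subtype b₀)))))) :=
    minus_balance_std m (Kf (σ : RingAut F)).subtype a₀ b₀ hm hab₀ hab'' hφ p hp2 hoσ he
      (A.map (MulAut.congr ψ).toMonoidHom) (inn_le_map_congr ψ A hinn)
  rw [card_eqLocus_congr ψ x] at hstd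
  rw [← hstd, not_iff_not]
  exact core_congr_iff ψ p A x

end fielddata

end Cfsg.Agent.Lib.Helper18.OrthGr
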