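import Cfsg.Agent.Lib.Helper18.OrthGrM

set_option autoImplicit false

/-!
# Local balance in `PΩ⁻_{2m+2}(q)`: automorphisms of odd prime order outside `Inndiag` are field
automorphisms; the main theorem
-/

namespace Cfsg.Agent.Lib.Helper18.OrthGr

open Module QuadraticMap Matrix Cfsg.Agent.Lib.Helper25.PSim Cfsg.Agent.Lib.Helper25.Spin
  Cfsg.Agent.Lib.Helper25.CD Cfsg.Agent.Lib.Helper25.GraphSplit
  Cfsg.Agent.Lib.Helper25.Siegel Cfsg.Agent.Lib.Helper25.PAut Cfsg.Agent.Lib.Helper25.AutOut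
  Cfsg.Agent.Lib.Helper18.OrthBal Cfsg.Agent.Lib.Helper18.OrthFld Cfsg.Agent.Lib.Helper18.OrthMin
  Cfsg.Agent.Lib.Helper18.OrthPar Cfsg.Agent.Lib.Helper18.OrthIso
  Cfsg.Agent.Lib.Helper14 Cfsg.Agent.Lib.Helper14.OrthMinus Cfsg.Agent.Lib.Helper14.QuadExt

universe u v

section fieldclass

variable {F : Type u} [Field F] [Fintype F] (m : ℕ) (a b : F)

set_option maxHeartbeats 1600000 in
/-- an automorphism of odd prime order of `PΩ⁻` outside `Inndiag` is a field automorphism -/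
theorem minus_field_of_odd (hm : 3 ≤ m) (hab : Aniso a b) {p : ℕ} [Fact p.Prime] (hp2 : p ≠ 2)
    (x : MulAut (Cfsg.POmega F ⇑(Qm m a b (disc_ne_zero hab)))) (hord : orderOf x = p)
    (hnot : ¬ Cfsg.IsInnerDiagonalAutPOmegaMinus m a b x) :
    Cfsg.IsFieldAutClassPOmegaMinus m (a := a) (b := b) x := by
  have hp : p.Prime := Fact.out
  have hpodd : Odd p := hp.odd_of_ne_two hp2
  have hD := disc_ne_zero hab
  have hQ : (polarBilin (Qm m a b hD)).Nondegenerate := qfOf_nondeg _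
  have hn := seven_le_card_Idx m hm
  have hgam : Cfsg.gammaPOmega F ⇑(Qm m a b hD) = ⊤ := Cfsg.Agent.S2696.result hm a b hab
  have hAll : ∀ β : MulAut (Cfsg.POmega F ⇑(Qm m a b hD)), IsPairAut (⇑(Qm m a b hD)) β := by
    intro β
    apply isPairAut_of_mem_gamma
    rw [hgam]
    trivial
  -- the field automorphism of `x`
  obtain ⟨τ, hτ⟩ : ∃ τ : RingAut F, fieldHom (Qm m a b hD) hQ hn hAll x = τ := ⟨_, rfl⟩
  have hτ1 : τ ≠ 1 := by
    intro h1
    rw [h1] at hτ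
    have h3 : x ∈ (fieldHom (Qm m a b hD) hQ hn hAll).ker := hτ
    rw [fieldHom_ker, pgoAut_eq] at h3
    apply hnot
    apply isInnerDiagonal_of_mem m a b (by omega) hab
    apply inn_le_inndiagQ m a b hab (by omega)
    exact mem_inn_of_odd_order (Qm m a b hD) hQ hn x h3 (by rw [hord]; exact hpodd)
  have hτp : orderOf τ = p := by
    have h1 : τ ^ p = 1 := by
      rw [← hτ, ← map_pow, ← hord, pow_orderOf_eq_one, map_one]
    rcases (Nat.dvd_prime hp).1 (orderOf_dvd_of_pow_eq_one h1) with h3 | h3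
    · exact absurd (orderOf_eq_one_iff.1 h3) hτ1
    · exact h3
  -- the subfield and an anisotropic form over it
  have : Finite (RingAut F) := Cfsg.Agent.Lib.Helper18.PSLnFld.finite_ringAut
  letI : Fintype ↥(Kf τ) := Fintype.ofFinite _
  have hcard := card_eq_pow_Kf τ p hτp
  obtain ⟨a₀, b₀, hab₀⟩ := exists_aniso ↥(Kf τ)
  have hab' : Aniso ((Kf τ).subtype a₀) ((Kf τ).subtype b₀) :=
    aniso_of_odd_degree (Kf τ).subtype hcard hpodd hab₀
  have ha' : τ ((Kf τ).subtype a₀) = (Kf τ).subtype a₀ :=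
    (Cfsg.Agent.Lib.Helper18.PSLnFld.mem_fixed_iff τ _).1 a₀.2
  have hb' : τ ((Kf τ).subtype b₀) = (Kf τ).subtype b₀ :=
    (Cfsg.Agent.Lib.Helper18.PSLnFld.mem_fixed_iff τ _).1 b₀.2
  obtain ⟨a', ha'def⟩ : ∃ a' : F, a' = (Kf τ).subtype a₀ := ⟨_, rfl⟩
  obtain ⟨b', hb'def⟩ : ∃ b' : F, b' = (Kf τ).subtype b₀ := ⟨_, rfl⟩
  rw [← ha'def] at ha' hab'
  rw [← hb'def] at hb' hab'
  clear ha'def hb'def hab₀ a₀ b₀ hcard
  have hD' := disc_ne_zero hab'
  have hQ' : (polarBilin (Qm m a' b' hD')).Nondegenerate := qfOf_nondeg _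
  have hgam' : Cfsg.gammaPOmega F ⇑(Qm m a' b' hD') = ⊤ := Cfsg.Agent.S2696.result hm a' b' hab'
  have hAll' : ∀ β : MulAut (Cfsg.POmega F ⇑(Qm m a' b' hD')),
      IsPairAut (⇑(Qm m a' b' hD')) β := by
    intro β
    apply isPairAut_of_mem_gamma
    rw [hgam']
    trivial
  obtain ⟨k, hk⟩ := exists_isometry_minus m a b hab hab'
  have hk' : ∀ v, Qm m a' b' hD' ((k : Matrix (Idx m) (Idx m) F) *ᵥ v) = Qm m a b hD v := hk
  obtain ⟨J, hJ⟩ : ∃ J : Cfsg.POmega F ⇑(Qm m a b hD) ≃* Cfsg.POmega F ⇑(Qm m a' b' hD'),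
      J = pomegaConj (⇑(Qm m a b hD)) (⇑(Qm m a' b' hD')) k hk' := ⟨_, rfl⟩
  have hτ' : fieldHom (Qm m a' b' hD') hQ' hn hAll' (MulAut.congr J x) = τ := by
    rw [hJ, fieldHom_congr (Qm m a b hD) (Qm m a' b' hD') k hk' hQ hQ' hn hAll hAll' x, hτ]
  -- the standard field automorphism
  have hfix' : Qfix (⇑(Qm m a' b' hD')) τ := qfix_minus m a' b' τ hD' ha' hb'
  obtain ⟨φ, hφdef⟩ : ∃ φ : MulAut (Cfsg.POmega F ⇑(Qm m a' b' hD')),
      φ = semiAut (⇑(Qm m a' b' hD')) (pair_one (⇑(Qm m a' b' hD')) hfix') := ⟨_, rfl⟩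
  have hφind : Cfsg.IsInducedBySemilinearPOmega (⇑(Qm m a' b' hD')) 1 τ φ := by
    rw [hφdef]
    exact semiAut_induced _ _
  have hφ : Cfsg.IsFieldAutPOmegaOf (⇑(Qm m a' b' hD')) τ φ :=
    (fieldAut_iff_induced (⇑(Qm m a' b' hD')) τ φ).2 hφind
  have hΦφ : fieldHom (Qm m a' b' hD') hQ' hn hAll' φ = τ :=
    fieldHom_eq (Qm m a' b' hD') hQ' hn hAll' (pair_one (⇑(Qm m a' b' hD')) hfix') hφind
  have hδ : MulAut.congr J x * φ⁻¹ ∈ (theta ⇑(Qm m a' b' hD')).range := by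
    have h3 : MulAut.congr J x * φ⁻¹ ∈ (fieldHom (Qm m a' b' hD') hQ' hn hAll').ker := by
      rw [MonoidHom.mem_ker, map_mul, map_inv, hτ', hΦφ, mul_inv_cancel]
    rw [fieldHom_ker, pgoAut_eq] at h3
    exact h3
  obtain ⟨g, hg⟩ := hδ
  have hxφ : theta ⇑(Qm m a' b' hD') g * φ = MulAut.congr J x := by
    rw [hg, inv_mul_cancel_right]
  have hne : Nonempty (Idx m) := ⟨Sum.inr 0⟩
  have hsim : ∀ Q' : QuadraticForm F (Idx m → F), (polarBilin Q').Nondegenerate → Qfix Q' τ →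
      (∃ (h₁ : Matrix (Idx m) (Idx m) F) (c : F), IsUnit h₁ ∧ c ≠ 0 ∧
        ∀ v, Q' v = c * Qm m a' b' hD' (h₁ *ᵥ v)) →
      ∃ (k : Matrix (Idx m) (Idx m) F) (d : F), IsUnit k ∧ k.map τ = k ∧ d ≠ 0 ∧
        ∀ v, Q' (k *ᵥ v) = d * Qm m a' b' hD' v :=
    fun Q' hQ'' hfix'' hs => hsim_minus m a' b' τ hab' ha' hb' Q' hQ'' hfix'' hs
  have hpow : (theta ⇑(Qm m a' b' hD') g * φ) ^ p = 1 := by
    rw [hxφ, ← map_pow, ← hord, pow_orderOf_eq_one, map_one]
  obtain ⟨h, hh⟩ := field_coset_conj (Qm m a' b' hD') hQ' hn hfix' hφ p hτp hp.pos hsim g hpow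
  rw [hxφ] at hh
  obtain ⟨d, hd⟩ : ∃ d : MulAut (Cfsg.POmega F ⇑(Qm m a' b' hD')),
      d = theta ⇑(Qm m a' b' hD') h := ⟨_, rfl⟩
  rw [← hd] at hh
  -- the identification
  refine ⟨a', b', J.trans (d⁻¹ : MulAut (Cfsg.POmega F ⇑(Qm m a' b' hD'))), τ, hab', hτ1, ha', hb',
    ?_⟩
  have e1 : ((J.trans (d⁻¹ : MulAut (Cfsg.POmega F ⇑(Qm m a' b' hD')))).symm.trans x).trans
      (J.trans (d⁻¹ : MulAut (Cfsg.POmega F ⇑(Qm m a' b' hD')))) = φ := by
    apply MulEquiv.ext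
    intro t
    show d⁻¹ (J (x (J.symm (d t)))) = φ t
    have h5 : J (x (J.symm (d t))) = (MulAut.congr J x) (d t) := rfl
    rw [h5, hh]
    show d⁻¹ (d (φ (d⁻¹ (d t)))) = φ t
    rw [MulAut.inv_apply_self, MulAut.inv_apply_self]
  have hfin : Cfsg.IsFieldAutPOmegaOf (⇑(Qm m a' b' hD')) τ
      (((J.trans (d⁻¹ : MulAut (Cfsg.POmega F ⇑(Qm m a' b' hD')))).symm.trans x).trans
        (J.trans (d⁻¹ : MulAut (Cfsg.POmega F ⇑(Qm m a' b' hD'))))) := by
    rw [e1]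
    exact hφ
  exact hfin

end fieldclass

section main

variable {F : Type u} [Field F] [Fintype F] (m : ℕ) (a b : F)

/-- a field automorphism of prime order of `PΩ⁻` has odd order -/
theorem odd_order_of_field (hm : 3 ≤ m)
    (x : MulAut (Cfsg.POmega F (Cfsg.quadFormMinus m F a b)))
    (hx : Cfsg.IsFieldAutClassPOmegaMinus m x) (hr : (orderOf x).Prime) : Odd (orderOf x) := by
  obtain ⟨a', b', ψ, σ, hab', hσ1, ha', hb', hφ⟩ := hx
  have hab'' : Aniso a' b' := hab'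
  rw [congr_eq ψ x] at hφ
  have hoφ : orderOf (MulAut.congr ψ x) = orderOf (σ : RingAut F) :=
    orderOf_field_minus m a' b' hm hab'' ha' hb' hφ
  have hoσ : orderOf (σ : RingAut F) = orderOf x := by
    rw [← hoφ, MulEquiv.orderOf_eq]
  have : Finite (RingAut F) := Cfsg.Agent.Lib.Helper18.PSLnFld.finite_ringAut
  letI : Fintype ↥(Kf (σ : RingAut F)) := Fintype.ofFinite _
  have hcard := card_eq_pow_Kf (σ : RingAut F) (orderOf x) hoσ
  have ha0 : a' ∈ Kf (σ : RingAut F) :=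
    (Cfsg.Agent.Lib.Helper18.PSLnFld.mem_fixed_iff (σ : RingAut F) a').2 ha'
  have hb0 : b' ∈ Kf (σ : RingAut F) :=
    (Cfsg.Agent.Lib.Helper18.PSLnFld.mem_fixed_iff (σ : RingAut F) b').2 hb'
  exact odd_of_aniso (Kf (σ : RingAut F)).subtype hr hcard
    (a₀ := ⟨a', ha0⟩) (b₀ := ⟨b', hb0⟩) hab''

set_option maxHeartbeats 1600000 in
/-- **S2733**: local balance for automorphisms of prime order `p ≠ r` of `PΩ⁻_{2m+2}(q)` outside
`Inndiag` -/
theorem minus_balance_main {r : ℕ} [Fact r.Prime] [CharP F r] (hm : 3 ≤ m) (hab : Aniso a b)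
    (A : Subgroup (MulAut (Cfsg.POmega F (Cfsg.quadFormMinus m F a b))))
    (hinn : ∀ k : Cfsg.POmega F (Cfsg.quadFormMinus m F a b), MulAut.conj k ∈ A)
    {p : ℕ} [Fact p.Prime] (hpr : p ≠ r)
    (x : MulAut (Cfsg.POmega F (Cfsg.quadFormMinus m F a b))) (hord : orderOf x = p)
    (hnot : ¬ Cfsg.IsInnerDiagonalAutPOmegaMinus m a b x) :
    Cfsg.pPrimeCore p ↥(A ⊓ Subgroup.centralizer {x}) ≠ ⊥ ↔
      (Cfsg.IsFieldAutClassPOmegaMinus m x ∧
        Nat.Coprime p (Nat.card ↥(MonoidHom.eqLocus x.toMonoidHom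
          (MonoidHom.id (Cfsg.POmega F (Cfsg.quadFormMinus m F a b)))))) := by
  have hp : p.Prime := Fact.out
  have hinn' : Cfsg.Inn (Cfsg.POmega F (Cfsg.quadFormMinus m F a b)) ≤ A := by
    rintro _ ⟨k, rfl⟩
    exact hinn k
  by_cases hp2 : p = 2
  · subst hp2
    have h2 : (2 : F) ≠ 0 := by
      intro h
      have h1 : ((2 : ℕ) : F) = 0 := by exact_mod_cast h
      rw [CharP.cast_eq_zero_iff F r 2] at h1
      have hr : r.Prime := Fact.out
      exact hpr ((Nat.prime_dvd_prime_iff_eq hr Nat.prime_two).1 h1).symm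
    have hcore := minus_core_two m a b hm hab h2 A hinn' x hord hnot
    constructor
    · intro h
      exact absurd hcore h
    · rintro ⟨hfc, -⟩
      exfalso
      have hodd := odd_order_of_field m a b hm x hfc (by rw [hord]; exact Nat.prime_two)
      rw [hord] at hodd
      exact (by decide : ¬ Odd 2) hodd
  · have hfc := minus_field_of_odd m a b hm hab hp2 x hord hnot
    have bal := minus_balance_of_field m a b hm hab A hinn' hp2 x hord hfc
    exact ⟨fun h => ⟨hfc, bal.1 h⟩, fun h => bal.2 h.2⟩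

end main

end Cfsg.Agent.Lib.Helper18.OrthGr
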