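import Cfsg.Agent.Lib.Helper18.OrthFldD

set_option autoImplicit false

/-!
# The isomorphism `PΩ(Q) ≃* PΩ(Q')` induced by a linear isometry between two forms, and its
compatibility with the automorphisms induced by similarities
-/

namespace Cfsg.Agent.Lib.Helper18.OrthIso

open Matrix Cfsg.Agent.Lib.Helper25.PSim

universe u

section abstract

variable {G H : Type*} [Group G] [Group H]

theorem map_commutator_equiv (e : G ≃* H) :
    (commutator G).map e.toMonoidHom = commutator H := by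
  rw [commutator_def, Subgroup.map_commutator, ← MonoidHom.range_eq_map,
    MonoidHom.range_eq_top.2 e.surjective, commutator_def]

/-- an isomorphism restricts to the commutator subgroups -/
noncomputable def commEquiv (e : G ≃* H) : ↥(commutator G) ≃* ↥(commutator H) :=
  (e.subgroupMap (commutator G)).trans (MulEquiv.subgroupCongr (map_commutator_equiv e))

theorem commEquiv_coe (e : G ≃* H) (s : ↥(commutator G)) :
    ((commEquiv e s : ↥(commutator H)) : H) = e (s : G) := rfl

theorem map_center_equiv (e : G ≃* H) :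
    (Subgroup.center G).map e.toMonoidHom = Subgroup.center H := by
  ext y
  constructor
  · rintro ⟨x, hx, rfl⟩
    have hx' : x ∈ Subgroup.center G := hx
    rw [Subgroup.mem_center_iff] at hx' ⊢
    intro h
    obtain ⟨g, rfl⟩ := e.surjective h
    show e g * e x = e x * e g
    rw [← map_mul, ← map_mul, hx' g]
  · intro hy
    refine ⟨e.symm y, ?_, e.apply_symm_apply y⟩
    show e.symm y ∈ Subgroup.center G
    rw [Subgroup.mem_center_iff] at hy ⊢
    intro g
    apply e.injective
    rw [map_mul, map_mul, e.apply_symm_apply]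
    exact hy (e g)

/-- an isomorphism induces an isomorphism of the central quotients of the commutator
subgroups -/
noncomputable def pcEquiv (e : G ≃* H) :
    (↥(commutator G) ⧸ Subgroup.center ↥(commutator G)) ≃*
      (↥(commutator H) ⧸ Subgroup.center ↥(commutator H)) :=
  QuotientGroup.congr _ _ (commEquiv e) (map_center_equiv (commEquiv e))

theorem pcEquiv_mk (e : G ≃* H) (s : ↥(commutator G)) :
    pcEquiv e (QuotientGroup.mk s) = QuotientGroup.mk (commEquiv e s) := rfl

end abstract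

section forms

variable {ι : Type} [Fintype ι] [DecidableEq ι] {F : Type u} [Field F]
  (Q Q' : (ι → F) → F) (k : GL ι F) (hk : ∀ v, Q' ((k : Matrix ι ι F) *ᵥ v) = Q v)

include hk in
theorem hk_inv (v : ι → F) : Q (((k⁻¹ : GL ι F) : Matrix ι ι F) *ᵥ v) = Q' v := by
  rw [← hk, Matrix.mulVec_mulVec, ← Units.val_mul, mul_inv_cancel, Units.val_one,
    Matrix.one_mulVec]

include hk in
theorem conj_mem_sim' {g : GL ι F} {c : Fˣ}
    (hg : ∀ v, Q ((g : Matrix ι ι F) *ᵥ v) = (c : F) * Q v) (v : ι → F) :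
    Q' (((k * g * k⁻¹ : GL ι F) : Matrix ι ι F) *ᵥ v) = (c : F) * Q' v := by
  have h1 : ((k * g * k⁻¹ : GL ι F) : Matrix ι ι F) *ᵥ v =
      (k : Matrix ι ι F) *ᵥ ((g : Matrix ι ι F) *ᵥ (((k⁻¹ : GL ι F) : Matrix ι ι F) *ᵥ v)) := by
    rw [Matrix.mulVec_mulVec, Matrix.mulVec_mulVec]
    rfl
  rw [h1, hk, hg, hk_inv Q Q' k hk]

include hk in
theorem conj_mem_sim {g : GL ι F} (hg : g ∈ Cfsg.Geo.quadSimilarityGroup (F := F) Q) :
    k * g * k⁻¹ ∈ Cfsg.Geo.quadSimilarityGroup (F := F) Q' := by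
  obtain ⟨c, hc⟩ := hg
  exact ⟨c, conj_mem_sim' Q Q' k hk hc⟩

include hk in
theorem conj_mem_iso {s : GL ι F} (hs : s ∈ Cfsg.isometryGroup F Q) :
    k * s * k⁻¹ ∈ Cfsg.isometryGroup F Q' := by
  rw [mem_iso_iff'] at hs ⊢
  intro v
  have := conj_mem_sim' Q Q' k hk (g := s) (c := 1) (fun v => by
    rw [hs v, Units.val_one, one_mul]) v
  rw [this, Units.val_one, one_mul]

include hk in
theorem hk_symm (v : ι → F) : Q (((k⁻¹ : GL ι F) : Matrix ι ι F) *ᵥ v) = Q' v :=
  hk_inv Q Q' k hk v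

/-- conjugation by a linear isometry, on the isometry groups -/
def isoConj : ↥(Cfsg.isometryGroup F Q) ≃* ↥(Cfsg.isometryGroup F Q') where
  toFun s := ⟨k * s.1 * k⁻¹, conj_mem_iso Q Q' k hk s.2⟩
  invFun s := ⟨k⁻¹ * s.1 * k, by
    have := conj_mem_iso Q' Q k⁻¹ (hk_inv Q Q' k hk) s.2
    rwa [inv_inv] at this⟩
  left_inv s := Subtype.ext (by
    show k⁻¹ * (k * s.1 * k⁻¹) * k = s.1
    group)
  right_inv s := Subtype.ext (by
    show k * (k⁻¹ * s.1 * k) * k⁻¹ = s.1
    group)
  map_mul' s t := Subtype.ext (by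
    show k * (s.1 * t.1) * k⁻¹ = (k * s.1 * k⁻¹) * (k * t.1 * k⁻¹)
    group)

theorem isoConj_val (s : ↥(Cfsg.isometryGroup F Q)) :
    (isoConj Q Q' k hk s : GL ι F) = k * s.1 * k⁻¹ := rfl

/-- the isomorphism `PΩ(Q) ≃* PΩ(Q')` induced by a linear isometry -/
noncomputable def pomegaConj : Cfsg.POmega F Q ≃* Cfsg.POmega F Q' :=
  pcEquiv (isoConj Q Q' k hk)

theorem pomegaConj_mk (s : ↥(Cfsg.Omega F Q)) :
    pomegaConj Q Q' k hk (QuotientGroup.mk s) =
      QuotientGroup.mk (commEquiv (isoConj Q Q' k hk) s) := rfl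

/-- the transported similarity -/
def simConj (g : ↥(Cfsg.Geo.quadSimilarityGroup (F := F) Q)) :
    ↥(Cfsg.Geo.quadSimilarityGroup (F := F) Q') :=
  ⟨k * g.1 * k⁻¹, conj_mem_sim Q Q' k hk g.2⟩

theorem simConj_val (g : ↥(Cfsg.Geo.quadSimilarityGroup (F := F) Q)) :
    (simConj Q Q' k hk g : GL ι F) = k * g.1 * k⁻¹ := rfl

/-- compatibility of the isomorphism with the automorphisms induced by similarities -/
theorem pomegaConj_theta (g : ↥(Cfsg.Geo.quadSimilarityGroup (F := F) Q))
    (t : Cfsg.POmega F Q) :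
    pomegaConj Q Q' k hk (theta Q g t) =
      theta Q' (simConj Q Q' k hk g) (pomegaConj Q Q' k hk t) := by
  induction t using QuotientGroup.induction_on with
  | H s =>
    rw [theta_mk, pomegaConj_mk, pomegaConj_mk, theta_mk]
    congr 1
    apply Subtype.ext
    apply Subtype.ext
    rw [char_val, commEquiv_coe, commEquiv_coe, isoConj_val, isoConj_val, simConj_val]
    have : (((MulAut.characteristic (Cfsg.Omega F Q) (conjSub Q g) s : ↥(Cfsg.Omega F Q)) :
      ↥(Cfsg.isometryGroup F Q)) : GL ι F) = g.1 * s.1.1 * g.1⁻¹ := rfl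
    rw [this]
    group

/-- conjugating by the isomorphism carries `θ_Q(g)` to `θ_{Q'}(k g k⁻¹)` -/
theorem congr_theta (g : ↥(Cfsg.Geo.quadSimilarityGroup (F := F) Q)) :
    MulAut.congr (pomegaConj Q Q' k hk) (theta Q g) = theta Q' (simConj Q Q' k hk g) := by
  apply MulEquiv.ext
  intro t
  show pomegaConj Q Q' k hk (theta Q g ((pomegaConj Q Q' k hk).symm t)) = _
  rw [pomegaConj_theta, MulEquiv.apply_symm_apply]

end forms

end Cfsg.Agent.Lib.Helper18.OrthIso
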