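import Cfsg.Agent.Lib.Helper18.OrthParC
import Cfsg.Agent.Lib.Helper25.SpinAll
import Cfsg.Agent.Lib.Helper25.POmegaSimForms

set_option autoImplicit false

/-!
# Characteristic two: `Inndiag(PΩ⁻) = Inn(PΩ⁻)`
-/

namespace Cfsg.Agent.Lib.Helper18.OrthPar

open Module QuadraticMap Matrix Cfsg.Agent.Lib.Helper25.MaxTS Cfsg.Agent.Lib.Helper25.CD
  Cfsg.Agent.Lib.Helper25.PSim Cfsg.Agent.Lib.Helper25.Spin Cfsg.Agent.Lib.Helper14
  Cfsg.Agent.Lib.Helper14.OrthMinus Cfsg.Agent.Lib.Helper14.QuadExt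
  Cfsg.Agent.Lib.Helper18.OrthFld

universe u

section char2

variable {F : Type u} [Field F] [Fintype F] (m : ℕ) (a b : F)

theorem card_Idx : Fintype.card (Idx m) = 2 * (m + 1) := by
  simp only [Fintype.card_sum, Fintype.card_fin]
  ring

/-- every similarity of a quadratic form over a finite field of characteristic two is a scalar
multiple of a word in reflections -/
theorem sim_eq_smul_word {ι : Type} [Fintype ι] [DecidableEq ι] (h2 : (2 : F) = 0)
    (Q : QuadraticForm F (ι → F)) (hQ : (polarBilin Q).Nondegenerate)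
    (hex : Fintype.card F ≠ 2 ∨ Fintype.card ι ≠ 4) (g : GL ι F)
    (hg : g ∈ Cfsg.Geo.quadSimilarityGroup (F := F) ⇑Q) :
    ∃ (z : F) (vs : List (ι → F)), z ≠ 0 ∧ (∀ v ∈ vs, Q v ≠ 0) ∧
      (g : Matrix ι ι F) = z • (((wordG Q vs : ↥(Cfsg.isometryGroup F ⇑Q)) : GL ι F) :
        Matrix ι ι F) := by
  have : CharP F 2 := CharTwo.of_one_ne_zero_of_two_eq_zero one_ne_zero h2
  obtain ⟨c, hc⟩ := hg
  obtain ⟨e, he⟩ := FiniteField.isSquare_of_char_two (ringChar.eq F 2) (c : F)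
  have he0 : e ≠ 0 := by
    rintro rfl
    rw [mul_zero] at he
    exact c.ne_zero he
  have hA : ∀ v, Q ((e⁻¹ • (g : Matrix ι ι F)) *ᵥ v) = 1 * Q v := by
    intro v
    rw [Matrix.smul_mulVec, QuadraticMap.map_smul, hc, he, smul_eq_mul]
    field_simp
  obtain ⟨d, hd⟩ := exists_gl_of_sim Q hQ (e⁻¹ • (g : Matrix ι ι F)) 1 one_ne_zero hA
  have hdmem : d ∈ Cfsg.isometryGroup F ⇑Q := by
    rw [mem_iso_iff']
    intro v
    rw [hd, hA, one_mul]
  obtain ⟨vs, hvs, hw⟩ := exists_word' Q hQ hex ⟨d, hdmem⟩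
  refine ⟨e, vs, he0, hvs, ?_⟩
  rw [hw]
  show (g : Matrix ι ι F) = e • (d : Matrix ι ι F)
  rw [hd, smul_smul, mul_inv_cancel₀ he0, one_smul]

/-- in characteristic two the class-preserving similarities of the minus-type form are the
scalar multiples of elements of `Ω` -/
theorem presMinus_iff_char2 (h2 : (2 : F) = 0) (hm : 2 ≤ m) (hab : Aniso a b)
    (g : GL (Idx m) F)
    (hg : g ∈ Cfsg.Geo.quadSimilarityGroup (F := F) ⇑(Qm m a b (disc_ne_zero hab))) :
    Cfsg.PreservesSingularClassesMinus m a b (g : Matrix (Idx m) (Idx m) F) ↔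
      ∃ (z : F) (s : ↥(Cfsg.isometryGroup F ⇑(Qm m a b (disc_ne_zero hab)))), z ≠ 0 ∧
        s ∈ Cfsg.Omega F ⇑(Qm m a b (disc_ne_zero hab)) ∧
        (g : Matrix (Idx m) (Idx m) F) = z • ((s : GL (Idx m) F) : Matrix (Idx m) (Idx m) F) := by
  have : CharP F 2 := CharTwo.of_one_ne_zero_of_two_eq_zero one_ne_zero h2
  have hQ := Qm_nondeg m a b (disc_ne_zero hab)
  have hex : Fintype.card F ≠ 2 ∨ Fintype.card (Idx m) ≠ 4 := by
    right
    rw [card_Idx]
    omega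
  constructor
  · intro hpres
    obtain ⟨z, vs, hz, hvs, hgz⟩ := sim_eq_smul_word h2 _ hQ hex g hg
    rw [hgz, presMinus_word_iff m a b hab z hz vs hvs] at hpres
    exact ⟨z, wordG _ vs, hz, (mem_omega_iff_char2 _ hQ hex hvs).2 hpres, hgz⟩
  · rintro ⟨z, s, hz, hs, hgz⟩
    obtain ⟨vs, hvs, hw⟩ := exists_word' _ hQ hex s
    rw [← hw] at hs hgz
    rw [hgz, presMinus_word_iff m a b hab z hz vs hvs]
    exact (mem_omega_iff_char2 _ hQ hex hvs).1 hs

/-- **characteristic two**: `Inndiag(PΩ⁻) = Inn(PΩ⁻)` -/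
theorem inndiag_minus_eq_inn (h2 : (2 : F) = 0) (hm : 2 ≤ m) (hab : Aniso a b) :
    Cfsg.inndiagPOmegaMinus m F a b = Cfsg.Inn (Cfsg.POmega F (Cfsg.quadFormMinus m F a b)) := by
  have key : ∀ β : MulAut (Cfsg.POmega F ⇑(Qm m a b (disc_ne_zero hab))),
      Cfsg.IsInnerDiagonalAutPOmegaMinus m a b β ↔
        β ∈ Cfsg.Inn (Cfsg.POmega F ⇑(Qm m a b (disc_ne_zero hab))) := by
    intro β
    constructor
    · rintro ⟨g, hg, hpres, hind⟩
      have hβ := (induced_iff (⇑(Qm m a b (disc_ne_zero hab))) g hg β).1 hind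
      obtain ⟨z, s, hz, hs, hgz⟩ := (presMinus_iff_char2 m a b h2 hm hab g hg).1 hpres
      rw [inn_eq']
      refine ⟨incl _ s, ⟨s, hs, rfl⟩, ?_⟩
      rw [hβ]
      have h1 : theta ⇑(Qm m a b (disc_ne_zero hab))
          (⟨g, hg⟩ * (incl (⇑(Qm m a b (disc_ne_zero hab))) s)⁻¹) = 1 := by
        apply theta_eq_one_of_scalar _ _ z
        intro x
        have e : (((⟨g, hg⟩ * (incl (⇑(Qm m a b (disc_ne_zero hab))) s)⁻¹ :
            ↥(Cfsg.Geo.quadSimilarityGroup (F := F) ⇑(Qm m a b (disc_ne_zero hab)))) :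
            GL (Idx m) F) : Matrix (Idx m) (Idx m) F) =
            (g : Matrix (Idx m) (Idx m) F) * (((s : GL (Idx m) F)⁻¹ : GL (Idx m) F) :
              Matrix (Idx m) (Idx m) F) := rfl
        rw [e, hgz, Matrix.smul_mul, ← Units.val_mul, mul_inv_cancel, Units.val_one,
          Matrix.smul_mulVec, Matrix.one_mulVec]
      rw [map_mul, map_inv, mul_inv_eq_one] at h1
      exact h1.symm
    · intro hβ
      rw [inn_eq'] at hβ
      obtain ⟨_, ⟨s, hs, rfl⟩, rfl⟩ := hβ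
      refine ⟨(incl _ s).1, (incl _ s).2, ?_, (induced_iff _ _ (incl _ s).2 _).2 rfl⟩
      rw [presMinus_iff_char2 m a b h2 hm hab _ (incl _ s).2]
      exact ⟨1, s, one_ne_zero, hs, by rw [one_smul]; rfl⟩
  unfold Cfsg.inndiagPOmegaMinus Cfsg.autSubgroupOf
  have hset : {β : MulAut (Cfsg.POmega F (Cfsg.quadFormMinus m F a b)) |
      Cfsg.IsInnerDiagonalAutPOmegaMinus m a b β} =
      ((Cfsg.Inn (Cfsg.POmega F (Cfsg.quadFormMinus m F a b)) :
        Subgroup (MulAut (Cfsg.POmega F (Cfsg.quadFormMinus m F a b)))) :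
        Set (MulAut (Cfsg.POmega F (Cfsg.quadFormMinus m F a b)))) := by
    ext β
    exact key β
  rw [hset]
  exact Subgroup.closure_eq _

end char2

end Cfsg.Agent.Lib.Helper18.OrthPar
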