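import Cfsg.Agent.Lib.Helper18.OrthFldD
import Cfsg.Agent.Lib.Helper18.OrthParD
import Cfsg.Agent.Lib.Helper15.QuadType

set_option autoImplicit false

/-!
# Minus-type forms fixed by a field automorphism: descent keeps the type, hence `σ`-fixed forms
similar to a `σ`-fixed minus-type form are similar to it by `σ`-fixed matrices
-/

namespace Cfsg.Agent.Lib.Helper18.OrthMin

open Module QuadraticMap Matrix Cfsg.Agent.Lib.Helper25.Spin Cfsg.Agent.Lib.Helper14
  Cfsg.Agent.Lib.Helper14.OrthMinus Cfsg.Agent.Lib.Helper14.QuadExt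
  Cfsg.Agent.Lib.Helper18.OrthFld Cfsg.Agent.Lib.Helper18.OrthPar
  Cfsg.Agent.Lib.Helper15.QuadType Cfsg.Agent.Lib.Helper18.PSpAut

section hastype

variable {F : Type*} [Field F] [Fintype F]

theorem HasType.smul' {ε : ℤ} {n : ℕ} {W : Type*} {Q : W → F} (h : HasType ε n Q) {a : F}
    (ha : a ≠ 0) : HasType ε n (fun v => a * Q v) := by
  have key : ∀ c : F, Nat.card {v : W // a * Q v = c} = Nat.card {v : W // Q v = a⁻¹ * c} := by
    intro c
    apply Nat.card_congr
    refine Equiv.subtypeEquiv (Equiv.refl W) ?_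
    intro v
    show a * Q v = c ↔ Q v = a⁻¹ * c
    constructor
    · intro h1
      rw [← h1, ← mul_assoc, inv_mul_cancel₀ ha, one_mul]
    · intro h1
      rw [h1, ← mul_assoc, mul_inv_cancel₀ ha, one_mul]
  constructor
  · rw [key, mul_zero]
    exact h.1
  · intro c hc
    rw [key]
    exact h.2 _ (mul_ne_zero (inv_ne_zero ha) hc)

end hastype

section compatp

variable {F₀ F : Type*} [Field F₀] [Field F] (m : ℕ) (e : F₀ →+* F)

theorem compat_plus : Compat e (Cfsg.quadFormPlus m F₀) (Cfsg.quadFormPlus m F) := by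
  intro v
  unfold Cfsg.quadFormPlus
  rw [map_sum]
  apply Finset.sum_congr rfl
  intro i _
  rw [map_mul]
  rfl

end compatp

section lift

variable {F : Type*} [Field F] {ι κ : Type*} [Fintype ι] [DecidableEq ι] [Fintype κ]
  [DecidableEq κ]

/-- an `F`-linear equivalence extending a linear equivalence over the fixed field -/
theorem exists_lift_equiv (σ : RingAut F) (g : (κ → Kf σ) ≃ₗ[Kf σ] (ι → Kf σ)) :
    ∃ T : (κ → F) ≃ₗ[F] (ι → F), ∀ x₀ : κ → Kf σ, T (emb σ x₀) = emb σ (g x₀) := by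
  let M : Matrix ι κ (Kf σ) := LinearMap.toMatrix' (g : (κ → Kf σ) →ₗ[Kf σ] (ι → Kf σ))
  let M' : Matrix κ ι (Kf σ) := LinearMap.toMatrix' (g.symm : (ι → Kf σ) →ₗ[Kf σ] (κ → Kf σ))
  have h1 : M * M' = 1 := by
    rw [← LinearMap.toMatrix'_comp, ← LinearMap.toMatrix'_id]
    congr 1
    apply LinearMap.ext
    intro x
    exact g.apply_symm_apply x
  have h2 : M' * M = 1 := by
    rw [← LinearMap.toMatrix'_comp, ← LinearMap.toMatrix'_id]
    congr 1
    apply LinearMap.ext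
    intro x
    exact g.symm_apply_apply x
  have h1' : M.map (Kf σ).subtype * M'.map (Kf σ).subtype = 1 := by
    rw [← Matrix.map_mul, h1, Matrix.map_one _ (map_zero _) (map_one _)]
  have h2' : M'.map (Kf σ).subtype * M.map (Kf σ).subtype = 1 := by
    rw [← Matrix.map_mul, h2, Matrix.map_one _ (map_zero _) (map_one _)]
  refine ⟨LinearEquiv.ofLinear (Matrix.toLin' (M.map (Kf σ).subtype))
    (Matrix.toLin' (M'.map (Kf σ).subtype)) ?_ ?_, ?_⟩
  · rw [← Matrix.toLin'_mul, h1', Matrix.toLin'_one]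
  · rw [← Matrix.toLin'_mul, h2', Matrix.toLin'_one]
  · intro x₀
    show Matrix.toLin' (M.map (Kf σ).subtype) (emb σ x₀) = emb σ (g x₀)
    rw [Matrix.toLin'_apply]
    have hM : M *ᵥ x₀ = g x₀ := LinearMap.toMatrix'_mulVec _ x₀
    rw [← hM]
    funext i
    exact (RingHom.map_mulVec (Kf σ).subtype M x₀ i).symm

end lift

section hsim

variable {F : Type*} [Field F] [Fintype F] (m : ℕ) (a b : F)

/-- if the descent of a `σ`-fixed form is of plus type then so is the form -/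
theorem hasType_plus_of_desc (σ : RingAut F) (Q' : QuadraticForm F (Idx m → F))
    (hfix' : Qfix Q' σ)
    (bs : Basis (Fin (m + 1) ⊕ Fin (m + 1)) (Kf σ) (Idx m → Kf σ))
    (hbs : ∀ v, Cfsg.quadFormPlus (m + 1) (Kf σ) (bs.equivFun v) = descQ σ Q' hfix' v) :
    HasType 1 (m + 1) ⇑Q' := by
  obtain ⟨T, hT⟩ := exists_lift_equiv σ bs.equivFun.symm
  have hq : Q'.comp (T : (Fin (m + 1) ⊕ Fin (m + 1) → F) →ₗ[F] (Idx m → F)) =
      Qp (m + 1) F := by
    apply quad_ext_fixed σ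
    intro v hv
    obtain ⟨v₀, rfl⟩ := exists_emb_of_vfix σ hv
    rw [QuadraticMap.comp_apply]
    show Q' (T (emb σ v₀)) = Cfsg.quadFormPlus (m + 1) F (emb σ v₀)
    rw [hT, ← descQ_apply σ Q' hfix', ← hbs, LinearEquiv.apply_symm_apply]
    exact (compat_plus (m + 1) (Kf σ).subtype v₀).symm
  apply (hasType_plus (F := F) (m + 1)).congr T.toEquiv
  intro v
  have := DFunLike.congr_fun hq v
  rw [QuadraticMap.comp_apply] at this
  exact this

omit [Fintype F] in
/-- the minus-type form with `σ`-fixed coefficients is `σ`-fixed -/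
theorem qfix_minus (σ : RingAut F) (hD : a ^ 2 - 4 * b ≠ 0) (ha : σ a = a) (hb : σ b = b) :
    Qfix ⇑(Qm m a b hD) σ := by
  intro v
  have h := compat_minus m (σ : F →+* F) a b v
  rw [RingEquiv.coe_toRingHom, ha, hb] at h
  exact h

/-- `σ`-fixed forms similar to a `σ`-fixed minus-type form are similar to it by `σ`-fixed
matrices -/
theorem hsim_minus (σ : RingAut F) (hab : Aniso a b) (ha : σ a = a) (hb : σ b = b)
    (Q' : QuadraticForm F (Idx m → F)) (hQ' : (polarBilin Q').Nondegenerate)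
    (hfix' : Qfix Q' σ)
    (hsimF : ∃ (h₁ : Matrix (Idx m) (Idx m) F) (c : F), IsUnit h₁ ∧ c ≠ 0 ∧
      ∀ v, Q' v = c * Qm m a b (disc_ne_zero hab) (h₁ *ᵥ v)) :
    ∃ (k : Matrix (Idx m) (Idx m) F) (d : F), IsUnit k ∧ k.map σ = k ∧ d ≠ 0 ∧
      ∀ v, Q' (k *ᵥ v) = d * Qm m a b (disc_ne_zero hab) v := by
  classical
  have hfix := qfix_minus m a b σ (disc_ne_zero hab) ha hb
  obtain ⟨a₀, ha₀⟩ : ∃ a₀ : Kf σ, (a₀ : F) = a := ⟨⟨a, (mem_fixedK σ a).2 ha⟩, rfl⟩
  obtain ⟨b₀, hb₀⟩ : ∃ b₀ : Kf σ, (b₀ : F) = b := ⟨⟨b, (mem_fixedK σ b).2 hb⟩, rfl⟩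
  have hab₀ : Aniso a₀ b₀ := by
    apply aniso_of_map (Kf σ).subtype
    show Aniso (a₀ : F) (b₀ : F)
    rw [ha₀, hb₀]
    exact hab
  have hQ₀ : ∀ v, descQ σ (Qm m a b (disc_ne_zero hab)) hfix v =
      Cfsg.quadFormMinus m (Kf σ) a₀ b₀ v := by
    intro v
    apply Subtype.ext
    rw [descQ_apply]
    have h := compat_minus m (Kf σ).subtype a₀ b₀ v
    rw [Subfield.coe_subtype, ha₀, hb₀] at h
    exact h
  have : Fintype (Kf σ) := Fintype.ofFinite _
  have hdim : finrank (Kf σ) (Idx m → Kf σ) = 2 * (m + 1) := by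
    rw [Module.finrank_fintype_fun_eq_card, card_Idx]
  rcases classify (descQ σ Q' hfix') (descQ_nondeg σ Q' hfix' hQ') m hdim hab₀ with
    ⟨bs, hbs⟩ | ⟨bs, hbs⟩
  · exfalso
    have h1 : HasType 1 (m + 1) ⇑Q' := hasType_plus_of_desc m σ Q' hfix' bs hbs
    obtain ⟨h₁, c, hh₁, hc0, hh⟩ := hsimF
    obtain ⟨u, rfl⟩ := hh₁
    have h2 : HasType (-1) (m + 1) (Cfsg.quadFormMinus m F a b) := hasType_minus hab m
    have h3 : HasType (-1) (m + 1)
        (fun v : Idx m → F => Cfsg.quadFormMinus m F a b ((u : Matrix (Idx m) (Idx m) F) *ᵥ v)) := by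
      apply h2.congr (Cfsg.Agent.Lib.Helper25.CD.toLE (u⁻¹ : GL (Idx m) F)).toEquiv
      intro v
      show Cfsg.quadFormMinus m F a b ((u : Matrix (Idx m) (Idx m) F) *ᵥ
        (Cfsg.Agent.Lib.Helper25.CD.toLE (u⁻¹ : GL (Idx m) F) v)) = _
      rw [Cfsg.Agent.Lib.Helper25.CD.toLE_apply, Matrix.mulVec_mulVec, ← Units.val_mul,
        mul_inv_cancel, Units.val_one, Matrix.one_mulVec]
    have h4 := HasType.smul' h3 hc0
    have h5 : HasType (-1) (m + 1) ⇑Q' := by
      have e : ⇑Q' = fun v : Idx m → F =>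
          c * Cfsg.quadFormMinus m F a b ((u : Matrix (Idx m) (Idx m) F) *ᵥ v) := by
        funext v
        exact hh v
      rw [e]
      exact h4
    have := h1.unique h5
    omega
  · exact lift_similarity σ (Qm m a b (disc_ne_zero hab)) Q' hfix hfix' bs.equivFun.symm 1
      one_ne_zero (fun v => by rw [← hbs, LinearEquiv.apply_symm_apply, one_mul, hQ₀])

end hsim

end Cfsg.Agent.Lib.Helper18.OrthMin
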