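import Cfsg.Agent.Lib.Helper18.OrthIsoA
import Cfsg.Agent.Lib.Helper18.OrthMinA
import Cfsg.Agent.S2696

set_option autoImplicit false

/-!
# Transport of `Inndiag(PΩ⁻)` along an arbitrary isomorphism between the groups of two
minus-type forms over the same field
-/

namespace Cfsg.Agent.Lib.Helper18.OrthIso

open Module QuadraticMap Matrix Cfsg.Agent.Lib.Helper25.PSim Cfsg.Agent.Lib.Helper25.Spin
  Cfsg.Agent.Lib.Helper25.CD Cfsg.Agent.Lib.Helper14 Cfsg.Agent.Lib.Helper14.OrthMinus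
  Cfsg.Agent.Lib.Helper14.QuadExt Cfsg.Agent.Lib.Helper18.OrthFld Cfsg.Agent.Lib.Helper18.OrthPar
  Cfsg.Agent.Lib.Helper25.GraphSplit Cfsg.Agent.Lib.Helper15.QuadType

universe u

section pair

variable {ι : Type} [Fintype ι] [DecidableEq ι] {F : Type u} [Field F] (Q : (ι → F) → F)

/-- explicit form of the conjugate of a similarity-induced automorphism by an automorphism
induced by a semisimilarity -/
theorem pairAut_conj_theta_eq {β : MulAut (Cfsg.POmega F Q)} {g : GL ι F} {τ : F ≃+* F}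
    (hp : Cfsg.IsSemisimilarityPair Q g τ) (hind : Cfsg.IsInducedBySemilinearPOmega Q g τ β)
    (k : ↥(Cfsg.Geo.quadSimilarityGroup (F := F) Q)) :
    β * theta Q k * β⁻¹ = theta Q ⟨g * sigmaGL τ k.1 * g⁻¹, semi_conj_mem_sim Q hp k.2⟩ := by
  have hmem := semi_conj_mem_sim Q hp k.2
  rw [mul_inv_eq_iff_eq_mul]
  have hpk := pair_of_sim Q k.2
  have hpk' := pair_of_sim Q hmem
  have e1 := induced_mul Q hp hpk hind (theta_induced Q k)
  have e2 := induced_mul Q hpk' hp (theta_induced Q ⟨_, hmem⟩) hind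
  have hpair := pair_mul Q hp hpk
  have e3 : (g * sigmaGL τ k.1 * g⁻¹) * sigmaGL (RingEquiv.refl F) g = g * sigmaGL τ k.1 := by
    rw [sigmaGL_refl, inv_mul_cancel_right]
  have e4 : τ.trans (RingEquiv.refl F) = (RingEquiv.refl F).trans τ := by
    apply RingEquiv.ext
    intro x
    rfl
  rw [e3, e4] at e2
  exact induced_unique Q hpair e1 e2

/-- the multiplier of the conjugate -/
theorem semi_conj_mult {g : GL ι F} {τ : F ≃+* F} (h : Cfsg.IsSemisimilarityPair Q g τ)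
    {k : GL ι F} {μ : F} (hμ : ∀ v, Q ((k : Matrix ι ι F) *ᵥ v) = μ * Q v) (v : ι → F) :
    Q (((g * sigmaGL τ k * g⁻¹ : GL ι F) : Matrix ι ι F) *ᵥ v) = τ μ * Q v := by
  obtain ⟨c, hc⟩ := pair_apply Q h
  obtain ⟨w, rfl⟩ := semiMap_surjective g τ v
  rw [semiMap_conj, hc, hc, hμ, map_mul]
  ring

theorem semi_conj_det (g k : GL ι F) (τ : F ≃+* F) :
    ((g * sigmaGL τ k * g⁻¹ : GL ι F) : Matrix ι ι F).det = τ (k : Matrix ι ι F).det := by
  rw [Units.val_mul, Units.val_mul, Matrix.det_mul, Matrix.det_mul, sigmaGL_coe]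
  have h1 : (g : Matrix ι ι F).det * ((g⁻¹ : GL ι F) : Matrix ι ι F).det = 1 := by
    rw [← Matrix.det_mul, ← Units.val_mul, mul_inv_cancel, Units.val_one, Matrix.det_one]
  have h2 : ((k : Matrix ι ι F).map τ).det = τ (k : Matrix ι ι F).det := by
    have := RingHom.map_det (τ : F →+* F) (k : Matrix ι ι F)
    rw [RingHom.mapMatrix_apply] at this
    exact this.symm
  rw [h2]
  calc (g : Matrix ι ι F).det * τ (k : Matrix ι ι F).det * ((g⁻¹ : GL ι F) : Matrix ι ι F).det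
      = ((g : Matrix ι ι F).det * ((g⁻¹ : GL ι F) : Matrix ι ι F).det) *
          τ (k : Matrix ι ι F).det := by ring
    _ = τ (k : Matrix ι ι F).det := by rw [h1, one_mul]

theorem conj_det (k g : GL ι F) :
    ((k * g * k⁻¹ : GL ι F) : Matrix ι ι F).det = (g : Matrix ι ι F).det := by
  rw [Units.val_mul, Units.val_mul, Matrix.det_mul, Matrix.det_mul]
  have h1 : (k : Matrix ι ι F).det * ((k⁻¹ : GL ι F) : Matrix ι ι F).det = 1 := by
    rw [← Matrix.det_mul, ← Units.val_mul, mul_inv_cancel, Units.val_one, Matrix.det_one]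
  calc (k : Matrix ι ι F).det * (g : Matrix ι ι F).det * ((k⁻¹ : GL ι F) : Matrix ι ι F).det
      = ((k : Matrix ι ι F).det * ((k⁻¹ : GL ι F) : Matrix ι ι F).det) *
          (g : Matrix ι ι F).det := by ring
    _ = (g : Matrix ι ι F).det := by rw [h1, one_mul]

end pair

section odd

variable {F : Type u} [Field F] [Fintype F] (m : ℕ) (a b : F)

/-- odd `q`: membership in `Inndiag(PΩ⁻)` -/
theorem mem_inndiag_minus_odd_aux (hodd : Odd (Fintype.card F)) (hab : Aniso a b)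
    (β : MulAut (Cfsg.POmega F ⇑(Qm m a b (disc_ne_zero hab)))) :
    β ∈ Cfsg.inndiagPOmegaMinus m F a b ↔
      ∃ (g : ↥(Cfsg.Geo.quadSimilarityGroup (F := F) ⇑(Qm m a b (disc_ne_zero hab)))) (c : F),
        c ≠ 0 ∧ (∀ v, Qm m a b (disc_ne_zero hab) ((g.1 : Matrix (Idx m) (Idx m) F) *ᵥ v) =
          c * Qm m a b (disc_ne_zero hab) v) ∧
        (g.1 : Matrix (Idx m) (Idx m) F).det = c ^ (m + 1) ∧
        theta ⇑(Qm m a b (disc_ne_zero hab)) g = β := by
  have h2 := two_ne_zero_of_odd_card hodd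
  have hD : a ^ 2 - 4 * b ≠ 0 := disc_ne_zero hab
  have hQ : (polarBilin (Qm m a b hD)).Nondegenerate := qfOf_nondeg _
  have hfin : 2 ≤ finrank F (Idx m → F) := by
    rw [Module.finrank_fintype_fun_eq_card, card_Idx]
    omega
  obtain ⟨u₀, hu₀⟩ := exists_rep (Qm m a b hD) hQ hfin 1
  rw [inndiag_minus_eq m a b hD u₀ hu₀ h2 hodd hab]
  constructor
  · rintro ⟨g, hg, rfl⟩
    have hg' : g ∈ properSub (Qm m a b hD) u₀ hu₀ h2 hQ (card_minus m) := hg
    rw [mem_properSub_iff] at hg'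
    exact ⟨g, (mult (Qm m a b hD) u₀ hu₀ g : F), Units.ne_zero _,
      fun v => Q_sim (Qm m a b hD) u₀ hu₀ g v, hg', rfl⟩
  · rintro ⟨g, c, hc0, hgc, hdet, rfl⟩
    refine ⟨g, ?_, rfl⟩
    show g ∈ properSub (Qm m a b hD) u₀ hu₀ h2 hQ (card_minus m)
    rw [mem_properSub_iff]
    unfold IsProper
    have : (mult (Qm m a b hD) u₀ hu₀ g : F) = c := by
      rw [mult_val, hgc, hu₀, mul_one]
    rw [this]
    exact hdet

/-- odd `q`: membership in `Inndiag(PΩ⁻)` -/
theorem mem_inndiag_minus_odd (hodd : Odd (Fintype.card F)) (hab : Aniso a b)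
    (β : MulAut (Cfsg.POmega F (Cfsg.quadFormMinus m F a b))) :
    β ∈ Cfsg.inndiagPOmegaMinus m F a b ↔
      ∃ (g : ↥(Cfsg.Geo.quadSimilarityGroup (F := F) (Cfsg.quadFormMinus m F a b))) (c : F),
        c ≠ 0 ∧ (∀ v, Cfsg.quadFormMinus m F a b ((g.1 : Matrix (Idx m) (Idx m) F) *ᵥ v) =
          c * Cfsg.quadFormMinus m F a b v) ∧
        (g.1 : Matrix (Idx m) (Idx m) F).det = c ^ (m + 1) ∧
        theta (Cfsg.quadFormMinus m F a b) g = β :=
  mem_inndiag_minus_odd_aux m a b hodd hab β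

/-- a linear isometry between two minus-type forms -/
theorem exists_isometry_minus {a' b' : F} (hab : Aniso a b) (hab' : Aniso a' b') :
    ∃ k : GL (Idx m) F, ∀ v, Cfsg.quadFormMinus m F a' b' ((k : Matrix (Idx m) (Idx m) F) *ᵥ v) =
      Cfsg.quadFormMinus m F a b v := by
  have hdim : finrank F (Idx m → F) = 2 * (m + 1) := by
    rw [Module.finrank_fintype_fun_eq_card, card_Idx]
  obtain ⟨bs, hbs⟩ := univ_minus (Qm m a b (disc_ne_zero hab)) (qfOf_nondeg _) m hdim
    (hasType_minus hab m) hab'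
  refine ⟨toLE.symm bs.equivFun, fun v => ?_⟩
  have h1 : ((toLE.symm bs.equivFun : GL (Idx m) F) : Matrix (Idx m) (Idx m) F) *ᵥ v =
      bs.equivFun v := by
    rw [← toLE_apply, MulEquiv.apply_symm_apply]
  rw [h1, hbs]
  rfl

/-- **transport of `Inndiag`**, odd `q` -/
theorem congr_mem_inndiag_odd (hodd : Odd (Fintype.card F)) (hm : 3 ≤ m) {a' b' : F}
    (hab : Aniso a b) (hab' : Aniso a' b')
    (ψ : Cfsg.POmega F (Cfsg.quadFormMinus m F a b) ≃* Cfsg.POmega F (Cfsg.quadFormMinus m F a' b'))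
    (δ : MulAut (Cfsg.POmega F (Cfsg.quadFormMinus m F a b)))
    (hδ : δ ∈ Cfsg.inndiagPOmegaMinus m F a b) :
    MulAut.congr ψ δ ∈ Cfsg.inndiagPOmegaMinus m F a' b' := by
  obtain ⟨k, hk⟩ := exists_isometry_minus m a b hab hab'
  obtain ⟨g, c, hc0, hgc, hdet, hθ⟩ := (mem_inndiag_minus_odd m a b hodd hab δ).1 hδ
  set J := pomegaConj (Cfsg.quadFormMinus m F a b) (Cfsg.quadFormMinus m F a' b') k hk with hJ
  set β : MulAut (Cfsg.POmega F (Cfsg.quadFormMinus m F a b)) := ψ.trans J.symm with hβdef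
  have hβ : IsPairAut (Cfsg.quadFormMinus m F a b) β := by
    apply isPairAut_of_mem_gamma
    rw [Cfsg.Agent.S2696.result hm a b hab]
    trivial
  obtain ⟨gβ, τ, hp, hind⟩ := hβ
  have e1 : MulAut.congr ψ δ = MulAut.congr J (β * δ * β⁻¹) := by
    apply MulEquiv.ext
    intro t
    show ψ (δ (ψ.symm t)) = J (β (δ (β⁻¹ (J.symm t))))
    have h1 : β⁻¹ (J.symm t) = ψ.symm t := by
      rw [MulAut.inv_apply]
      apply β.injective
      rw [MulEquiv.apply_symm_apply]
      show J.symm t = J.symm (ψ (ψ.symm t))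
      rw [MulEquiv.apply_symm_apply]
    rw [h1]
    show _ = J (J.symm (ψ (δ (ψ.symm t))))
    rw [MulEquiv.apply_symm_apply]
  rw [e1, ← hθ, pairAut_conj_theta_eq _ hp hind g, hJ, congr_theta]
  rw [mem_inndiag_minus_odd m a' b' hodd hab']
  refine ⟨_, τ c, ?_, ?_, ?_, rfl⟩
  · intro h0
    apply hc0
    have : τ c = τ 0 := by rw [h0, map_zero]
    exact τ.injective this
  · intro v
    have hμ := semi_conj_mult (Cfsg.quadFormMinus m F a b) hp (k := g.1) (μ := c) hgc
    exact conj_mem_sim' (Cfsg.quadFormMinus m F a b) (Cfsg.quadFormMinus m F a' b') k hk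
      (g := gβ * sigmaGL τ g.1 * gβ⁻¹) (c := Units.mk0 (τ c) (by
        intro h0
        apply hc0
        have : τ c = τ 0 := by rw [h0, map_zero]
        exact τ.injective this)) hμ v
  · rw [simConj_val, conj_det]
    show ((gβ * sigmaGL τ g.1 * gβ⁻¹ : GL (Idx m) F) : Matrix (Idx m) (Idx m) F).det = _
    rw [semi_conj_det, hdet, map_pow]

end odd

end Cfsg.Agent.Lib.Helper18.OrthIso
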