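import Cfsg.Agent.Lib.Helper18.OrthMinA
import Cfsg.Agent.Lib.Helper18.OrthIsoB

set_option autoImplicit false

/-!
# Conjugacy in the coset of a standard field automorphism of `PΩ⁻`, under `Inndiag`
-/

namespace Cfsg.Agent.Lib.Helper18.OrthMin

open Module QuadraticMap Matrix Cfsg.Agent.Lib.Helper25.PSim Cfsg.Agent.Lib.Helper25.Spin
  Cfsg.Agent.Lib.Helper25.CD Cfsg.Agent.Lib.Helper14 Cfsg.Agent.Lib.Helper14.OrthMinus
  Cfsg.Agent.Lib.Helper14.QuadExt Cfsg.Agent.Lib.Helper18.OrthFld Cfsg.Agent.Lib.Helper18.OrthPar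
  Cfsg.Agent.Lib.Helper25.GraphSplit Cfsg.Agent.Lib.Helper15.QuadType
  Cfsg.Agent.Lib.Helper18.OrthIso

universe u

section general

variable {ι : Type} [Fintype ι] [DecidableEq ι] {F : Type u} [Field F] [Fintype F]
  (Q : QuadraticForm F (ι → F))

/-- similarities differing by a scalar induce the same automorphism -/
theorem theta_eq_of_smul (h : ↥(Cfsg.Geo.quadSimilarityGroup (F := F) ⇑Q))
    (w : ↥(Cfsg.isometryGroup F ⇑Q)) (z : F)
    (hz : ((h.1 : GL ι F) : Matrix ι ι F) = z • ((w.1 : GL ι F) : Matrix ι ι F)) :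
    theta ⇑Q h = theta ⇑Q (incl ⇑Q w) := by
  have h1 : theta ⇑Q (h * (incl ⇑Q w)⁻¹) = 1 := by
    apply theta_eq_one_of_scalar _ _ z
    intro x
    have e : (((h * (incl ⇑Q w)⁻¹ : ↥(Cfsg.Geo.quadSimilarityGroup (F := F) ⇑Q)) : GL ι F) :
        Matrix ι ι F) = ((h.1 : GL ι F) : Matrix ι ι F) * (((w.1 : GL ι F)⁻¹ : GL ι F) :
          Matrix ι ι F) := rfl
    rw [e, hz, Matrix.smul_mul, ← Units.val_mul, mul_inv_cancel, Units.val_one,
      Matrix.smul_mulVec, Matrix.one_mulVec]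
  rw [map_mul, map_inv, mul_inv_eq_one] at h1
  exact h1

variable {σ : RingAut F} (hfix : Qfix (⇑Q) σ) {φ : MulAut (Cfsg.POmega F ⇑Q)}
  (hφ : Cfsg.IsFieldAutPOmegaOf (⇑Q) σ φ)

/-- the reflection in a `σ`-fixed vector is `σ`-fixed -/
theorem simF_refl {v : ι → F} (hv : VFix σ v) :
    simF (⇑Q) hfix (incl ⇑Q (reflM Q v)) = incl ⇑Q (reflM Q v) := by
  apply Subtype.ext
  apply Units.ext
  rw [simF_val, sigmaGL_coe]
  show ((reflM Q v : GL ι F) : Matrix ι ι F).map σ = ((reflM Q v : GL ι F) : Matrix ι ι F)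
  rw [reflM_coe]
  have hc : Compat (σ : F →+* F) (⇑Q) (⇑Q) := fun w => hfix w
  have := reflectionMatrix_map (σ : F →+* F) Q Q hc v
  have e : ev (σ : F →+* F) v = v := by
    funext i
    exact hv i
  rw [e] at this
  exact this

include hfix hφ in
theorem refl_comm {v : ι → F} (hv : VFix σ v) :
    theta ⇑Q (incl ⇑Q (reflM Q v)) * φ = φ * theta ⇑Q (incl ⇑Q (reflM Q v)) := by
  rw [field_mul_theta (⇑Q) hfix hφ, simF_refl Q hfix hv]

include hfix hφ in
/-- multiplying the conjugating similarity by a `σ`-fixed reflection does not change the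
conjugate -/
theorem conj_mul_refl {v : ι → F} (hv : VFix σ v)
    (h : ↥(Cfsg.Geo.quadSimilarityGroup (F := F) ⇑Q)) :
    theta ⇑Q (h * incl ⇑Q (reflM Q v)) * φ * (theta ⇑Q (h * incl ⇑Q (reflM Q v)))⁻¹ =
      theta ⇑Q h * φ * (theta ⇑Q h)⁻¹ := by
  rw [map_mul, _root_.mul_inv_rev]
  have := refl_comm Q hfix hφ hv
  calc theta ⇑Q h * theta ⇑Q (incl ⇑Q (reflM Q v)) * φ *
        ((theta ⇑Q (incl ⇑Q (reflM Q v)))⁻¹ * (theta ⇑Q h)⁻¹)
      = theta ⇑Q h * (theta ⇑Q (incl ⇑Q (reflM Q v)) * φ) *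
          (theta ⇑Q (incl ⇑Q (reflM Q v)))⁻¹ * (theta ⇑Q h)⁻¹ := by group
    _ = theta ⇑Q h * (φ * theta ⇑Q (incl ⇑Q (reflM Q v))) *
          (theta ⇑Q (incl ⇑Q (reflM Q v)))⁻¹ * (theta ⇑Q h)⁻¹ := by rw [this]
    _ = theta ⇑Q h * φ * (theta ⇑Q h)⁻¹ := by group

end general

section minus

variable {F : Type u} [Field F] [Fintype F] (m : ℕ) (a b : F)

/-- a nonsingular vector with entries in the prime field -/
def v0 : Idx m → F := Pi.single (Sum.inr 0) 1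

omit [Fintype F] in
theorem Qm_v0 (hD : a ^ 2 - 4 * b ≠ 0) : Qm m a b hD (v0 m) = 1 := by
  show Cfsg.quadFormMinus m F a b (v0 m) = 1
  unfold Cfsg.quadFormMinus v0
  simp

omit [Fintype F] in
theorem vfix_v0 (σ : RingAut F) : VFix σ (v0 m : Idx m → F) := vfix_single σ _


theorem odd_card_of_two_ne_zero (h2 : (2 : F) ≠ 0) : Odd (Fintype.card F) := by
  rw [Nat.odd_iff]
  exact FiniteField.odd_card_of_char_ne_two (ringChar_ne_two h2)

omit [Fintype F] in
theorem seven_le_card_Idx (hm : 3 ≤ m) : 7 ≤ Fintype.card (Idx m) := by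
  rw [card_Idx]
  omega

end minus

end Cfsg.Agent.Lib.Helper18.OrthMin
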