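import Cfsg.Agent.Lib.Helper18.OrthMinB

set_option autoImplicit false

/-!
# Conjugacy in the coset of a standard field automorphism of `PΩ⁻`, under `Inndiag`: the
standard case
-/

namespace Cfsg.Agent.Lib.Helper18.OrthMin

open Module QuadraticMap Matrix Cfsg.Agent.Lib.Helper25.PSim Cfsg.Agent.Lib.Helper25.Spin
  Cfsg.Agent.Lib.Helper25.CD Cfsg.Agent.Lib.Helper14 Cfsg.Agent.Lib.Helper14.OrthMinus
  Cfsg.Agent.Lib.Helper14.QuadExt Cfsg.Agent.Lib.Helper18.OrthFld Cfsg.Agent.Lib.Helper18.OrthPar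
  Cfsg.Agent.Lib.Helper25.GraphSplit Cfsg.Agent.Lib.Helper15.QuadType
  Cfsg.Agent.Lib.Helper18.OrthIso

universe u

section minus

variable {F : Type u} [Field F] [Fintype F] (m : ℕ) (a b : F)

/-- characteristic two: a scalar multiple of an even word in reflections induces an inner
automorphism -/
theorem theta_mem_inn_of_word (hD : a ^ 2 - 4 * b ≠ 0) [CharP F 2]
    (hex : Fintype.card F ≠ 2 ∨ Fintype.card (Idx m) ≠ 4) (z : F)
    (h' : ↥(Cfsg.Geo.quadSimilarityGroup (F := F) ⇑(Qm m a b hD)))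
    (ws : List (Idx m → F)) (hws : ∀ v ∈ ws, Qm m a b hD v ≠ 0) (hev : Even ws.length)
    (hz' : ((h'.1 : GL (Idx m) F) : Matrix (Idx m) (Idx m) F) =
      z • (((wordG (Qm m a b hD) ws : ↥(Cfsg.isometryGroup F ⇑(Qm m a b hD))) :
        GL (Idx m) F) : Matrix (Idx m) (Idx m) F)) :
    theta ⇑(Qm m a b hD) h' ∈ Cfsg.Inn (Cfsg.POmega F ⇑(Qm m a b hD)) := by
  have hQ : (polarBilin (Qm m a b hD)).Nondegenerate := qfOf_nondeg _
  have e1 := theta_eq_of_smul (Qm m a b hD) h' (wordG (Qm m a b hD) ws) z hz'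
  rw [e1, inn_eq']
  exact ⟨incl _ (wordG (Qm m a b hD) ws),
    ⟨_, (mem_omega_iff_char2 (Qm m a b hD) hQ hex hws).2 hev, rfl⟩, rfl⟩

/-- characteristic two: for every similarity `h`, either `h` or `h` times the reflection in
`v0` induces an inner automorphism -/
theorem exists_inn_char2 (hD : a ^ 2 - 4 * b ≠ 0) (h2 : (2 : F) = 0) (hm : 3 ≤ m)
    (h : ↥(Cfsg.Geo.quadSimilarityGroup (F := F) ⇑(Qm m a b hD))) :
    theta ⇑(Qm m a b hD) h ∈ Cfsg.Inn (Cfsg.POmega F ⇑(Qm m a b hD)) ∨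
      theta ⇑(Qm m a b hD) (h * incl _ (reflM (Qm m a b hD) (v0 m))) ∈
        Cfsg.Inn (Cfsg.POmega F ⇑(Qm m a b hD)) := by
  have hQ : (polarBilin (Qm m a b hD)).Nondegenerate := qfOf_nondeg _
  have hn := seven_le_card_Idx m hm
  have hex : Fintype.card F ≠ 2 ∨ Fintype.card (Idx m) ≠ 4 := by
    right
    omega
  have : CharP F 2 := CharTwo.of_one_ne_zero_of_two_eq_zero one_ne_zero h2
  obtain ⟨z, vs, hz, hvs, hhz⟩ := sim_eq_smul_word h2 (Qm m a b hD) hQ hex h.1 h.2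
  by_cases hev : Even vs.length
  · left
    exact theta_mem_inn_of_word m a b hD hex z h vs hvs hev hhz
  · right
    apply theta_mem_inn_of_word m a b hD hex z _ (vs ++ [v0 m])
    · intro v hv
      rcases List.mem_append.1 hv with hv | hv
      · exact hvs v hv
      · rw [List.mem_singleton] at hv
        rw [hv, Qm_v0]
        exact one_ne_zero
    · rw [List.length_append, List.length_singleton, Nat.even_add_one]
      exact hev
    · rw [wordG_append, wordG_singleton]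
      show ((h.1 : GL (Idx m) F) : Matrix (Idx m) (Idx m) F) *
        ((reflM (Qm m a b hD) (v0 m) : GL (Idx m) F) : Matrix (Idx m) (Idx m) F) =
        z • ((((wordG (Qm m a b hD) vs : ↥(Cfsg.isometryGroup F ⇑(Qm m a b hD))) :
          GL (Idx m) F) : Matrix (Idx m) (Idx m) F) *
          ((reflM (Qm m a b hD) (v0 m) : GL (Idx m) F) : Matrix (Idx m) (Idx m) F))
      rw [hhz, Matrix.smul_mul]

/-- odd characteristic: for every similarity `h`, either `h` or `h` times the reflection in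
`v0` is proper -/
theorem exists_proper_odd (hD : a ^ 2 - 4 * b ≠ 0) (h2 : (2 : F) ≠ 0)
    (h : ↥(Cfsg.Geo.quadSimilarityGroup (F := F) ⇑(Qm m a b hD))) :
    h ∈ properSub (Qm m a b hD) (v0 m) (Qm_v0 m a b hD) h2 (qfOf_nondeg _) (card_minus m) ∨
      h * incl _ (reflM (Qm m a b hD) (v0 m)) ∈
        properSub (Qm m a b hD) (v0 m) (Qm_v0 m a b hD) h2 (qfOf_nondeg _) (card_minus m) := by
  have hQ : (polarBilin (Qm m a b hD)).Nondegenerate := qfOf_nondeg _
  have hu₀ := Qm_v0 (F := F) m a b hD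
  rcases det_eq_or (Qm m a b hD) (v0 m) hu₀ hQ (card_minus m) h with hdet | hdet
  · left
    rw [mem_properSub_iff]
    exact hdet
  · right
    rw [mem_properSub_iff]
    unfold IsProper
    have hm1 : mult (Qm m a b hD) (v0 m) hu₀ (incl _ (reflM (Qm m a b hD) (v0 m))) = 1 := by
      apply Units.ext
      rw [mult_val, Units.val_one]
      have := (mem_iso_iff' (⇑(Qm m a b hD)) _).1 (reflM (Qm m a b hD) (v0 m)).2 (v0 m)
      rw [← hu₀]
      exact this
    rw [map_mul, hm1, mul_one]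
    show (((h.1 : GL (Idx m) F) : Matrix (Idx m) (Idx m) F) *
      ((reflM (Qm m a b hD) (v0 m) : GL (Idx m) F) : Matrix (Idx m) (Idx m) F)).det = _
    rw [Matrix.det_mul, hdet, reflM_coe,
      det_reflectionMatrix (Qm m a b hD) h2 (by rw [hu₀]; exact one_ne_zero)]
    ring

/-- `Inndiag(PΩ⁻)` in terms of the quadratic form `Qm` -/
def inndiagQ (hD : a ^ 2 - 4 * b ≠ 0) : Subgroup (MulAut (Cfsg.POmega F ⇑(Qm m a b hD))) :=
  Cfsg.inndiagPOmegaMinus m F a b

theorem inndiagQ_eq_inn (hab : Aniso a b) (h2 : (2 : F) = 0) (hm : 2 ≤ m) :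
    inndiagQ m a b (disc_ne_zero hab) =
      Cfsg.Inn (Cfsg.POmega F ⇑(Qm m a b (disc_ne_zero hab))) :=
  inndiag_minus_eq_inn m a b h2 hm hab

theorem inndiagQ_eq_proper (hab : Aniso a b) (h2 : (2 : F) ≠ 0) :
    inndiagQ m a b (disc_ne_zero hab) =
      properAut (Qm m a b (disc_ne_zero hab)) (v0 m) (Qm_v0 m a b (disc_ne_zero hab)) h2
        (qfOf_nondeg _) (card_minus m) :=
  inndiag_minus_eq m a b (disc_ne_zero hab) (v0 m) (Qm_v0 m a b (disc_ne_zero hab)) h2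
    (odd_card_of_two_ne_zero h2) hab

/-- `Inndiag` is contained in the image of the similarity group -/
theorem inndiagQ_le_range (hab : Aniso a b) (hm : 2 ≤ m) :
    inndiagQ m a b (disc_ne_zero hab) ≤ (theta ⇑(Qm m a b (disc_ne_zero hab))).range := by
  by_cases h2 : (2 : F) = 0
  · rw [inndiagQ_eq_inn m a b hab h2 hm, inn_eq']
    rintro _ ⟨g, -, rfl⟩
    exact ⟨g, rfl⟩
  · rw [inndiagQ_eq_proper m a b hab h2]
    rintro _ ⟨g, -, rfl⟩
    exact ⟨g, rfl⟩

/-- for every similarity `h`, either `h` or `h` times the reflection in `v0` induces an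
inner-diagonal automorphism -/
theorem inndiagQ_dichotomy (hab : Aniso a b) (hm : 3 ≤ m)
    (h : ↥(Cfsg.Geo.quadSimilarityGroup (F := F) ⇑(Qm m a b (disc_ne_zero hab)))) :
    theta ⇑(Qm m a b (disc_ne_zero hab)) h ∈ inndiagQ m a b (disc_ne_zero hab) ∨
      theta ⇑(Qm m a b (disc_ne_zero hab))
        (h * incl _ (reflM (Qm m a b (disc_ne_zero hab)) (v0 m))) ∈
          inndiagQ m a b (disc_ne_zero hab) := by
  by_cases h2 : (2 : F) = 0
  · rw [inndiagQ_eq_inn m a b hab h2 (by omega)]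
    exact exists_inn_char2 m a b (disc_ne_zero hab) h2 hm h
  · rw [inndiagQ_eq_proper m a b hab h2]
    rcases exists_proper_odd m a b (disc_ne_zero hab) h2 h with h1 | h1
    · left
      exact ⟨h, h1, rfl⟩
    · right
      exact ⟨_, h1, rfl⟩

/-- the standard case, in terms of the form `Qm` -/
theorem minus_coset_conj_aux (hm : 3 ≤ m) (hab : Aniso a b) {σ : RingAut F} (ha : σ a = a)
    (hb : σ b = b) {φ : MulAut (Cfsg.POmega F ⇑(Qm m a b (disc_ne_zero hab)))}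
    (hφ : Cfsg.IsFieldAutPOmegaOf (⇑(Qm m a b (disc_ne_zero hab))) σ φ) (r : ℕ)
    (hσ : orderOf σ = r) (hr : 0 < r)
    (δ : MulAut (Cfsg.POmega F ⇑(Qm m a b (disc_ne_zero hab))))
    (hδ : δ ∈ inndiagQ m a b (disc_ne_zero hab)) (hpow : (δ * φ) ^ r = 1) :
    ∃ d : MulAut (Cfsg.POmega F ⇑(Qm m a b (disc_ne_zero hab))),
      d ∈ inndiagQ m a b (disc_ne_zero hab) ∧ δ * φ = d * φ * d⁻¹ := by
  have hD := disc_ne_zero hab
  have hQ : (polarBilin (Qm m a b hD)).Nondegenerate := qfOf_nondeg _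
  have hn := seven_le_card_Idx m hm
  have hfix := qfix_minus m a b σ hD ha hb
  have hne : Nonempty (Idx m) := ⟨Sum.inr 0⟩
  have hsim : ∀ Q' : QuadraticForm F (Idx m → F), (polarBilin Q').Nondegenerate → Qfix Q' σ →
      (∃ (h₁ : Matrix (Idx m) (Idx m) F) (c : F), IsUnit h₁ ∧ c ≠ 0 ∧
        ∀ v, Q' v = c * Qm m a b hD (h₁ *ᵥ v)) →
      ∃ (k : Matrix (Idx m) (Idx m) F) (d : F), IsUnit k ∧ k.map σ = k ∧ d ≠ 0 ∧
        ∀ v, Q' (k *ᵥ v) = d * Qm m a b hD v :=
    fun Q' hQ' hfix' hs => hsim_minus m a b σ hab ha hb Q' hQ' hfix' hs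
  have hv0 := vfix_v0 (F := F) m σ
  obtain ⟨g, hθ⟩ := inndiagQ_le_range m a b hab (by omega) hδ
  obtain ⟨h, hh⟩ := field_coset_conj (Qm m a b hD) hQ hn hfix hφ r hσ hr hsim g
    (by rw [hθ]; exact hpow)
  rw [hθ] at hh
  rcases inndiagQ_dichotomy m a b hab hm h with h1 | h1
  · exact ⟨_, h1, hh⟩
  · refine ⟨_, h1, ?_⟩
    rw [conj_mul_refl (Qm m a b hD) hfix hφ hv0 h]
    exact hh

/-- **the standard case**: conjugacy in the coset of a standard field automorphism of `PΩ⁻`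
under `Inndiag` -/
theorem minus_coset_conj_std (hm : 3 ≤ m) (hab : Aniso a b) {σ : RingAut F} (ha : σ a = a)
    (hb : σ b = b) {φ : MulAut (Cfsg.POmega F (Cfsg.quadFormMinus m F a b))}
    (hφ : Cfsg.IsFieldAutPOmegaOf (Cfsg.quadFormMinus m F a b) σ φ) (r : ℕ)
    (hσ : orderOf σ = r) (hr : 0 < r)
    (δ : MulAut (Cfsg.POmega F (Cfsg.quadFormMinus m F a b)))
    (hδ : δ ∈ Cfsg.inndiagPOmegaMinus m F a b) (hpow : (δ * φ) ^ r = 1) :
    ∃ d : MulAut (Cfsg.POmega F (Cfsg.quadFormMinus m F a b)),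
      d ∈ Cfsg.inndiagPOmegaMinus m F a b ∧ δ * φ = d * φ * d⁻¹ :=
  minus_coset_conj_aux m a b hm hab ha hb hφ r hσ hr δ hδ hpow

end minus

end Cfsg.Agent.Lib.Helper18.OrthMin
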