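import Cfsg.Agent.Lib.Helper18.OrthMinC

set_option autoImplicit false

/-!
# Field automorphisms of `PΩ⁻`: conjugacy in the coset `Inndiag · x` (S2737)
-/

namespace Cfsg.Agent.Lib.Helper18.OrthMin

open Module QuadraticMap Matrix Cfsg.Agent.Lib.Helper25.PSim Cfsg.Agent.Lib.Helper25.Spin
  Cfsg.Agent.Lib.Helper25.CD Cfsg.Agent.Lib.Helper14 Cfsg.Agent.Lib.Helper14.OrthMinus
  Cfsg.Agent.Lib.Helper14.QuadExt Cfsg.Agent.Lib.Helper18.OrthFld Cfsg.Agent.Lib.Helper18.OrthPar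
  Cfsg.Agent.Lib.Helper25.GraphSplit Cfsg.Agent.Lib.Helper15.QuadType
  Cfsg.Agent.Lib.Helper18.OrthIso

universe u

section abstract

theorem congr_mem_inn {G H : Type*} [Group G] [Group H] (ψ : G ≃* H) {δ : MulAut G}
    (hδ : δ ∈ Cfsg.Inn G) : MulAut.congr ψ δ ∈ Cfsg.Inn H := by
  obtain ⟨t, rfl⟩ := hδ
  refine ⟨ψ t, ?_⟩
  apply MulEquiv.ext
  intro y
  show ψ t * y * (ψ t)⁻¹ = ψ (t * ψ.symm y * t⁻¹)
  rw [map_mul, map_mul, map_inv, MulEquiv.apply_symm_apply]

theorem congr_symm_congr {G H : Type*} [Group G] [Group H] (ψ : G ≃* H) (d : MulAut H) :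
    MulAut.congr ψ (MulAut.congr ψ.symm d) = d := by
  apply MulEquiv.ext
  intro y
  show ψ (ψ.symm (d (ψ.symm.symm (ψ.symm y)))) = d y
  rw [MulEquiv.apply_symm_apply, MulEquiv.symm_symm, MulEquiv.apply_symm_apply]

theorem conj_transport {G H : Type*} [Group G] [Group H] (ψ : G ≃* H) (δ x : MulAut G)
    (d : MulAut H)
    (hdx : MulAut.congr ψ δ * MulAut.congr ψ x = d * MulAut.congr ψ x * d⁻¹) :
    δ * x = MulAut.congr ψ.symm d * x * (MulAut.congr ψ.symm d)⁻¹ := by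
  apply (MulAut.congr ψ).injective
  rw [map_mul, map_mul, map_mul, map_inv, congr_symm_congr]
  exact hdx

theorem pow_transport {G H : Type*} [Group G] [Group H] (ψ : G ≃* H) (δ x : MulAut G) (r : ℕ)
    (h : (δ * x) ^ r = 1) : (MulAut.congr ψ δ * MulAut.congr ψ x) ^ r = 1 := by
  rw [← map_mul, ← map_pow, h, map_one]

theorem congr_eq {G H : Type*} [Group G] [Group H] (ψ : G ≃* H) (x : MulAut G) :
    (ψ.symm.trans x).trans ψ = MulAut.congr ψ x := by
  apply MulEquiv.ext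
  intro y
  rfl

end abstract

section minus

variable {F : Type u} [Field F] [Fintype F] (m : ℕ) (a b : F)

/-- **transport of `Inndiag`** along an arbitrary isomorphism -/
theorem congr_mem_inndiag (hm : 3 ≤ m) {a' b' : F} (hab : Aniso a b) (hab' : Aniso a' b')
    (ψ : Cfsg.POmega F (Cfsg.quadFormMinus m F a b) ≃* Cfsg.POmega F (Cfsg.quadFormMinus m F a' b'))
    (δ : MulAut (Cfsg.POmega F (Cfsg.quadFormMinus m F a b)))
    (hδ : δ ∈ Cfsg.inndiagPOmegaMinus m F a b) :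
    MulAut.congr ψ δ ∈ Cfsg.inndiagPOmegaMinus m F a' b' := by
  by_cases h2 : (2 : F) = 0
  · rw [inndiag_minus_eq_inn m a b h2 (by omega) hab] at hδ
    rw [inndiag_minus_eq_inn m a' b' h2 (by omega) hab']
    exact congr_mem_inn ψ hδ
  · exact congr_mem_inndiag_odd m a b (odd_card_of_two_ne_zero h2) hm hab hab' ψ δ hδ

/-- the order of a standard field automorphism -/
theorem orderOf_field_minus (hm : 3 ≤ m) (hab : Aniso a b) {σ : RingAut F} (ha : σ a = a)
    (hb : σ b = b) {φ : MulAut (Cfsg.POmega F (Cfsg.quadFormMinus m F a b))}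
    (hφ : Cfsg.IsFieldAutPOmegaOf (Cfsg.quadFormMinus m F a b) σ φ) :
    orderOf φ = orderOf σ :=
  orderOf_field (Qm m a b (disc_ne_zero hab)) (qfOf_nondeg _) (seven_le_card_Idx m hm)
    (qfix_minus m a b σ (disc_ne_zero hab) ha hb) hφ

/-- **S2737**: conjugacy in the coset of a field automorphism of prime order -/
theorem minus_field_coset (hm : 3 ≤ m) (hab : Aniso a b)
    (x δ : MulAut (Cfsg.POmega F (Cfsg.quadFormMinus m F a b)))
    (hx : Cfsg.IsFieldAutClassPOmegaMinus m x) {r : ℕ} (hr : r.Prime) (hxr : orderOf x = r)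
    (hδ : δ ∈ Cfsg.inndiagPOmegaMinus m F a b) :
    orderOf (δ * x) = r ↔ Cfsg.IsConjUnder (Cfsg.inndiagPOmegaMinus m F a b) x (δ * x) := by
  constructor
  · intro hord
    obtain ⟨a', b', ψ, σ, hab', hσ1, ha', hb', hφ⟩ := hx
    have hab'' : Aniso a' b' := hab'
    have hD' := disc_ne_zero hab''
    rw [congr_eq ψ x] at hφ
    have hoφ : orderOf (MulAut.congr ψ x) = orderOf (σ : RingAut F) :=
      orderOf_field_minus m a' b' hm hab'' ha' hb' hφ
    have hoσ : orderOf (σ : RingAut F) = r := by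
      rw [← hoφ, MulEquiv.orderOf_eq, hxr]
    have hpow : (MulAut.congr ψ δ * MulAut.congr ψ x) ^ r = 1 :=
      pow_transport ψ δ x r (by rw [← hord]; exact pow_orderOf_eq_one _)
    obtain ⟨d, hd, hdx⟩ := minus_coset_conj_std m a' b' hm hab'' ha' hb' hφ r hoσ hr.pos
      (MulAut.congr ψ δ) (congr_mem_inndiag m a b hm hab hab'' ψ δ hδ) hpow
    refine ⟨MulAut.congr ψ.symm d, congr_mem_inndiag m a' b' hm hab'' hab ψ.symm d hd, ?_⟩
    exact conj_transport ψ δ x d hdx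
  · rintro ⟨d, -, hdx⟩
    rw [hdx, ← hxr]
    exact MulEquiv.orderOf_eq (MulAut.conj d) x

end minus

end Cfsg.Agent.Lib.Helper18.OrthMin
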