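import Cfsg.Agent.Lib.Helper18.OrthMinD
import Cfsg.Agent.Lib.Helper18.OrthFldG

set_option autoImplicit false

/-!
# Base change of class-preserving similarities of minus-type forms along a subfield
-/

namespace Cfsg.Agent.Lib.Helper18.OrthMin

open Module QuadraticMap Matrix Cfsg.Agent.Lib.Helper25.PSim Cfsg.Agent.Lib.Helper25.Spin
  Cfsg.Agent.Lib.Helper25.CD Cfsg.Agent.Lib.Helper14 Cfsg.Agent.Lib.Helper14.OrthMinus
  Cfsg.Agent.Lib.Helper14.QuadExt Cfsg.Agent.Lib.Helper18.OrthFld Cfsg.Agent.Lib.Helper18.OrthPar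
  Cfsg.Agent.Lib.Helper25.GraphSplit Cfsg.Agent.Lib.Helper15.QuadType
  Cfsg.Agent.Lib.Helper18.OrthIso

universe u v

section odd

variable {F : Type u} [Field F] [Fintype F] (m : ℕ) (a b : F) (hD : a ^ 2 - 4 * b ≠ 0)
  (h2 : (2 : F) ≠ 0)

/-- scalar similarities are proper -/
theorem scalar_mem_properSub (k : ↥(Cfsg.Geo.quadSimilarityGroup (F := F) ⇑(Qm m a b hD)))
    (ν : F) (hk : ((k.1 : GL (Idx m) F) : Matrix (Idx m) (Idx m) F) = ν • 1) :
    k ∈ properSub (Qm m a b hD) (v0 m) (Qm_v0 m a b hD) h2 (qfOf_nondeg _) (card_minus m) := by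
  rw [mem_properSub_iff]
  unfold IsProper
  rw [mult_val, hk, Matrix.smul_mulVec, Matrix.one_mulVec, QuadraticMap.map_smul, Qm_v0,
    smul_eq_mul, mul_one, Matrix.det_smul, Matrix.det_one, mul_one, card_minus, ← pow_two,
    ← pow_mul]

/-- `θ g` is inner-diagonal iff `g` is proper -/
theorem theta_mem_properAut_iff (hm : 3 ≤ m)
    (g : ↥(Cfsg.Geo.quadSimilarityGroup (F := F) ⇑(Qm m a b hD))) :
    theta ⇑(Qm m a b hD) g ∈
      properAut (Qm m a b hD) (v0 m) (Qm_v0 m a b hD) h2 (qfOf_nondeg _) (card_minus m) ↔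
    g ∈ properSub (Qm m a b hD) (v0 m) (Qm_v0 m a b hD) h2 (qfOf_nondeg _) (card_minus m) := by
  constructor
  · rintro ⟨g₁, hg₁, hθ⟩
    have hg₁' : g₁ ∈ properSub (Qm m a b hD) (v0 m) (Qm_v0 m a b hD) h2 (qfOf_nondeg _)
      (card_minus m) := hg₁
    have hθ' : theta ⇑(Qm m a b hD) g₁ = theta ⇑(Qm m a b hD) g := hθ
    have h1 : theta ⇑(Qm m a b hD) (g₁⁻¹ * g) = 1 := by
      rw [map_mul, map_inv, hθ', inv_mul_cancel]
    obtain ⟨ν, -, hν⟩ := scalar_matrix_of_theta_eq_one (Qm m a b hD) (qfOf_nondeg _)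
      (seven_le_card_Idx m hm) _ h1
    have h3 := scalar_mem_properSub m a b hD h2 _ ν hν
    have h4 := mul_mem hg₁' h3
    rwa [mul_inv_cancel_left] at h4
  · intro hg
    exact ⟨g, hg, rfl⟩

end odd

section basechange

variable {F₀ : Type v} {F : Type u} [Field F₀] [Field F] [Fintype F₀] [Fintype F]
  (m : ℕ) (e : F₀ →+* F) (a₀ b₀ : F₀) (hD₀ : a₀ ^ 2 - 4 * b₀ ≠ 0)

omit [Fintype F₀] [Fintype F] in
theorem ev_v0 : ev e (v0 m : Idx m → F₀) = v0 m := ev_single e _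

omit [Fintype F₀] [Fintype F] in
/-- the compatibility of the two minus-type forms -/
theorem hcompat :
    Compat e (⇑(Qm m a₀ b₀ hD₀)) (⇑(Qm m (e a₀) (e b₀) (disc_map e hD₀))) :=
  compat_minus m e a₀ b₀

theorem mult_simMap (g₀ : ↥(Cfsg.Geo.quadSimilarityGroup (F := F₀) ⇑(Qm m a₀ b₀ hD₀))) :
    (mult (Qm m (e a₀) (e b₀) (disc_map e hD₀)) (v0 m) (Qm_v0 m _ _ _)
      (simMap e (Qm m a₀ b₀ hD₀) (Qm m (e a₀) (e b₀) (disc_map e hD₀))
        (hcompat m e a₀ b₀ hD₀) g₀) : F) =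
      e (mult (Qm m a₀ b₀ hD₀) (v0 m) (Qm_v0 m _ _ _) g₀ : F₀) := by
  rw [mult_val, mult_val, simMap_coe, ← ev_v0 m e, ← ev_mulVec, hcompat m e a₀ b₀ hD₀]

/-- odd `q`: base change preserves and reflects properness -/
theorem proper_simMap_iff (h2 : (2 : F) ≠ 0) (h2₀ : (2 : F₀) ≠ 0)
    (g₀ : ↥(Cfsg.Geo.quadSimilarityGroup (F := F₀) ⇑(Qm m a₀ b₀ hD₀))) :
    simMap e (Qm m a₀ b₀ hD₀) (Qm m (e a₀) (e b₀) (disc_map e hD₀)) (hcompat m e a₀ b₀ hD₀) g₀ ∈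
      properSub (Qm m (e a₀) (e b₀) (disc_map e hD₀)) (v0 m) (Qm_v0 m _ _ _) h2 (qfOf_nondeg _)
        (card_minus m) ↔
    g₀ ∈ properSub (Qm m a₀ b₀ hD₀) (v0 m) (Qm_v0 m _ _ _) h2₀ (qfOf_nondeg _) (card_minus m) := by
  rw [mem_properSub_iff, mem_properSub_iff]
  unfold IsProper
  rw [mult_simMap, simMap_coe, ← map_pow]
  have hdet : (((g₀.1 : GL (Idx m) F₀) : Matrix (Idx m) (Idx m) F₀).map e).det =
      e ((g₀.1 : GL (Idx m) F₀) : Matrix (Idx m) (Idx m) F₀).det := by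
    have := RingHom.map_det e ((g₀.1 : GL (Idx m) F₀) : Matrix (Idx m) (Idx m) F₀)
    rw [RingHom.mapMatrix_apply] at this
    exact this.symm
  rw [hdet]
  exact e.injective.eq_iff

end basechange

section even

variable {F : Type u} [Field F] [Fintype F] (m : ℕ) (a b : F)

/-- characteristic two: `θ g` is inner iff `g` is class-preserving -/
theorem theta_mem_inn_iff_pres (h2 : (2 : F) = 0) (hm : 3 ≤ m) (hab : Aniso a b)
    (g : ↥(Cfsg.Geo.quadSimilarityGroup (F := F) ⇑(Qm m a b (disc_ne_zero hab)))) :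
    theta ⇑(Qm m a b (disc_ne_zero hab)) g ∈
      Cfsg.Inn (Cfsg.POmega F ⇑(Qm m a b (disc_ne_zero hab))) ↔
    Cfsg.PreservesSingularClassesMinus m a b
      ((g.1 : GL (Idx m) F) : Matrix (Idx m) (Idx m) F) := by
  rw [presMinus_iff_char2 m a b h2 (by omega) hab g.1 g.2]
  constructor
  · intro h
    rw [inn_eq'] at h
    obtain ⟨_, ⟨s, hs, rfl⟩, hθ⟩ := h
    have h1 : theta ⇑(Qm m a b (disc_ne_zero hab)) (g * (incl _ s)⁻¹) = 1 := by
      rw [map_mul, map_inv, hθ, mul_inv_cancel]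
    obtain ⟨ν, hν0, hν⟩ := scalar_matrix_of_theta_eq_one (Qm m a b (disc_ne_zero hab))
      (qfOf_nondeg _) (seven_le_card_Idx m hm) _ h1
    refine ⟨ν, s, hν0, hs, ?_⟩
    have e1 : (((g * (incl (⇑(Qm m a b (disc_ne_zero hab))) s)⁻¹ :
        ↥(Cfsg.Geo.quadSimilarityGroup (F := F) ⇑(Qm m a b (disc_ne_zero hab)))) :
        GL (Idx m) F) : Matrix (Idx m) (Idx m) F) =
        ((g.1 : GL (Idx m) F) : Matrix (Idx m) (Idx m) F) *
          (((s.1 : GL (Idx m) F)⁻¹ : GL (Idx m) F) : Matrix (Idx m) (Idx m) F) := rfl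
    rw [e1] at hν
    calc ((g.1 : GL (Idx m) F) : Matrix (Idx m) (Idx m) F)
        = ((g.1 : GL (Idx m) F) : Matrix (Idx m) (Idx m) F) *
          (((s.1 : GL (Idx m) F)⁻¹ : GL (Idx m) F) : Matrix (Idx m) (Idx m) F) *
          ((s.1 : GL (Idx m) F) : Matrix (Idx m) (Idx m) F) := by
          rw [Matrix.mul_assoc, ← Units.val_mul, inv_mul_cancel, Units.val_one, Matrix.mul_one]
      _ = ν • ((s.1 : GL (Idx m) F) : Matrix (Idx m) (Idx m) F) := by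
          rw [hν, Matrix.smul_mul, Matrix.one_mul]
  · rintro ⟨z, s, -, hs, hgz⟩
    rw [theta_eq_of_smul (Qm m a b (disc_ne_zero hab)) g s z hgz, inn_eq']
    exact ⟨_, ⟨s, hs, rfl⟩, rfl⟩

end even

section evenbc

variable {F₀ : Type v} {F : Type u} [Field F₀] [Field F] [Fintype F₀] [Fintype F]
  (m : ℕ) (e : F₀ →+* F) (a₀ b₀ : F₀)

/-- characteristic two: base change preserves and reflects the class-preserving condition -/
theorem pres_simMap_iff_char2 (h2 : (2 : F₀) = 0) (hm : 3 ≤ m) (hab₀ : Aniso a₀ b₀)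
    (hab : Aniso (e a₀) (e b₀))
    (g₀ : ↥(Cfsg.Geo.quadSimilarityGroup (F := F₀) ⇑(Qm m a₀ b₀ (disc_ne_zero hab₀)))) :
    Cfsg.PreservesSingularClassesMinus m (e a₀) (e b₀)
      (((g₀.1 : GL (Idx m) F₀) : Matrix (Idx m) (Idx m) F₀).map e) ↔
    Cfsg.PreservesSingularClassesMinus m a₀ b₀
      ((g₀.1 : GL (Idx m) F₀) : Matrix (Idx m) (Idx m) F₀) := by
  have hQ₀ : (polarBilin (Qm m a₀ b₀ (disc_ne_zero hab₀))).Nondegenerate := qfOf_nondeg _
  have hex : Fintype.card F₀ ≠ 2 ∨ Fintype.card (Idx m) ≠ 4 := by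
    right
    rw [card_Idx]
    omega
  obtain ⟨z₀, vs₀, hz₀, hvs₀, hgz⟩ := sim_eq_smul_word h2 _ hQ₀ hex g₀.1 g₀.2
  have hc := hcompat m e a₀ b₀ (disc_ne_zero hab₀)
  have hmap : ((g₀.1 : GL (Idx m) F₀) : Matrix (Idx m) (Idx m) F₀).map e =
      e z₀ • (((wordG (Qm m (e a₀) (e b₀) (disc_ne_zero hab)) (vs₀.map (ev e)) :
        ↥(Cfsg.isometryGroup F ⇑(Qm m (e a₀) (e b₀) (disc_ne_zero hab)))) :
        GL (Idx m) F) : Matrix (Idx m) (Idx m) F) := by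
    rw [← isoMap_wordG e (Qm m a₀ b₀ (disc_ne_zero hab₀)) _ hc, isoMap_coe, hgz]
    ext i j
    simp [Matrix.map_apply, Matrix.smul_apply]
  have hz : e z₀ ≠ 0 := by
    intro h
    apply hz₀
    apply e.injective
    rw [h, map_zero]
  have hvs : ∀ w ∈ vs₀.map (ev e), Qm m (e a₀) (e b₀) (disc_ne_zero hab) w ≠ 0 := by
    intro w hw
    obtain ⟨v, hv, rfl⟩ := List.mem_map.1 hw
    have := hc v
    intro h0
    apply hvs₀ v hv
    apply e.injective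
    rw [map_zero, ← this]
    exact h0
  rw [hmap, presMinus_word_iff m (e a₀) (e b₀) hab (e z₀) hz _ hvs, hgz,
    presMinus_word_iff m a₀ b₀ hab₀ z₀ hz₀ vs₀ hvs₀, List.length_map]

end evenbc

section uniform

variable {F₀ : Type v} {F : Type u} [Field F₀] [Field F] [Fintype F₀] [Fintype F]
  (m : ℕ) (e : F₀ →+* F) (a₀ b₀ : F₀)

/-- **base change**: `θ(g₀ ⊗ F)` is inner-diagonal iff `θ₀(g₀)` is -/
theorem theta_simMap_mem_iff (hm : 3 ≤ m) (hab₀ : Aniso a₀ b₀) (hab : Aniso (e a₀) (e b₀))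
    (g₀ : ↥(Cfsg.Geo.quadSimilarityGroup (F := F₀) ⇑(Qm m a₀ b₀ (disc_ne_zero hab₀)))) :
    theta ⇑(Qm m (e a₀) (e b₀) (disc_ne_zero hab))
        (simMap e (Qm m a₀ b₀ (disc_ne_zero hab₀)) (Qm m (e a₀) (e b₀) (disc_ne_zero hab))
          (hcompat m e a₀ b₀ (disc_ne_zero hab₀)) g₀) ∈
        inndiagQ m (e a₀) (e b₀) (disc_ne_zero hab) ↔
      theta ⇑(Qm m a₀ b₀ (disc_ne_zero hab₀)) g₀ ∈ inndiagQ m a₀ b₀ (disc_ne_zero hab₀) := by
  by_cases h2 : (2 : F) = 0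
  · have h2₀ : (2 : F₀) = 0 := by
      apply e.injective
      rw [map_ofNat, h2, map_zero]
    rw [inndiagQ_eq_inn m (e a₀) (e b₀) hab h2 (by omega),
      inndiagQ_eq_inn m a₀ b₀ hab₀ h2₀ (by omega),
      theta_mem_inn_iff_pres m (e a₀) (e b₀) h2 hm hab,
      theta_mem_inn_iff_pres m a₀ b₀ h2₀ hm hab₀, simMap_coe]
    exact pres_simMap_iff_char2 m e a₀ b₀ h2₀ hm hab₀ hab g₀
  · have h2₀ : (2 : F₀) ≠ 0 := by
      intro h
      apply h2
      have := congrArg e h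
      rwa [map_ofNat, map_zero] at this
    rw [inndiagQ_eq_proper m (e a₀) (e b₀) hab h2, inndiagQ_eq_proper m a₀ b₀ hab₀ h2₀,
      theta_mem_properAut_iff m (e a₀) (e b₀) _ h2 hm,
      theta_mem_properAut_iff m a₀ b₀ _ h2₀ hm]
    exact proper_simMap_iff m e a₀ b₀ (disc_ne_zero hab₀) h2 h2₀ g₀

end uniform

end Cfsg.Agent.Lib.Helper18.OrthMin
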