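import Cfsg.Agent.Lib.Helper18.OrthMinE
import Cfsg.Agent.Lib.Helper18.OrthMinF

set_option autoImplicit false

/-!
# Field automorphisms of `PΩ⁻`, standard case: the centralizer in `Inndiag`; the order is odd
-/

namespace Cfsg.Agent.Lib.Helper18.OrthMin

open Module QuadraticMap Matrix Cfsg.Agent.Lib.Helper25.PSim Cfsg.Agent.Lib.Helper25.Spin
  Cfsg.Agent.Lib.Helper25.CD Cfsg.Agent.Lib.Helper14 Cfsg.Agent.Lib.Helper14.OrthMinus
  Cfsg.Agent.Lib.Helper14.QuadExt Cfsg.Agent.Lib.Helper18.OrthFld Cfsg.Agent.Lib.Helper18.OrthPar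
  Cfsg.Agent.Lib.Helper25.GraphSplit Cfsg.Agent.Lib.Helper15.QuadType
  Cfsg.Agent.Lib.Helper18.OrthIso

universe u v

section oddorder

variable {F₀ : Type v} {F : Type u} [Field F₀] [Field F] [Fintype F₀] [Fintype F]
  (e : F₀ →+* F)

/-- a quadratic polynomial over a subfield of prime index `r` that stays irreducible has `r` odd -/
theorem odd_of_aniso {r : ℕ} (hr : r.Prime) (hcard : Fintype.card F = Fintype.card F₀ ^ r)
    {a₀ b₀ : F₀} (hab : Aniso (e a₀) (e b₀)) : Odd r := by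
  rcases hr.eq_two_or_odd' with h2 | h2
  · exfalso
    subst h2
    letI : Algebra F₀ F := e.toAlgebra
    have hfr : Module.finrank F₀ F = 2 := by
      have h1 : Fintype.card F = Fintype.card F₀ ^ Module.finrank F₀ F :=
        Module.card_eq_pow_finrank
      rw [hcard] at h1
      exact (Nat.pow_right_injective Fintype.one_lt_card h1).symm
    obtain ⟨ζ, hζ⟩ := exists_root_ext (F := F₀) (K := F) hfr a₀ b₀
    have h3 : algebraMap F₀ F = e := rfl
    rw [h3] at hζ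
    have := hab ζ 1 (by linear_combination hζ)
    exact one_ne_zero this.2
  · exact h2

end oddorder

section cent

variable {F₀ : Type v} {F : Type u} [Field F₀] [Field F] [Fintype F₀] [Fintype F]
  (m : ℕ) (e : F₀ →+* F) (a₀ b₀ : F₀)

/-- `Inn ≤ Inndiag` -/
theorem inn_le_inndiagQ (hab₀ : Aniso a₀ b₀) (hm : 2 ≤ m) :
    Cfsg.Inn (Cfsg.POmega F₀ ⇑(Qm m a₀ b₀ (disc_ne_zero hab₀))) ≤
      inndiagQ m a₀ b₀ (disc_ne_zero hab₀) := by
  by_cases h2 : (2 : F₀) = 0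
  · rw [inndiagQ_eq_inn m a₀ b₀ hab₀ h2 hm]
  · rw [inndiagQ_eq_proper m a₀ b₀ hab₀ h2]
    exact inn_le_properAut _ _ _ h2 _ _

/-- **the centralizer** of a standard field automorphism in `Inndiag(PΩ⁻)` -/
theorem minus_centralizer_std (hm : 3 ≤ m) (hab₀ : Aniso a₀ b₀) (hab : Aniso (e a₀) (e b₀))
    {σ : RingAut F} {φ : MulAut (Cfsg.POmega F ⇑(Qm m (e a₀) (e b₀) (disc_ne_zero hab)))}
    (hφ : Cfsg.IsFieldAutPOmegaOf (⇑(Qm m (e a₀) (e b₀) (disc_ne_zero hab))) σ φ)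
    (r : ℕ) (hσ : orderOf σ = r) (hr : 0 < r) (he : ∀ x : F, σ x = x ↔ x ∈ Set.range e) :
    Nonempty (↥(inndiagQ m (e a₀) (e b₀) (disc_ne_zero hab) ⊓ Subgroup.centralizer {φ}) ≃*
      ↥(inndiagQ m a₀ b₀ (disc_ne_zero hab₀))) := by
  have hc := hcompat m e a₀ b₀ (disc_ne_zero hab₀)
  have hQ₀ : (polarBilin (Qm m a₀ b₀ (disc_ne_zero hab₀))).Nondegenerate := qfOf_nondeg _
  have hQ : (polarBilin (Qm m (e a₀) (e b₀) (disc_ne_zero hab))).Nondegenerate := qfOf_nondeg _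
  have hn := seven_le_card_Idx m hm
  have he' : ∀ b, σ (e b) = e b := fun b => (he _).2 ⟨b, rfl⟩
  have hfix : Qfix (⇑(Qm m (e a₀) (e b₀) (disc_ne_zero hab))) σ :=
    qfix_minus m (e a₀) (e b₀) σ _ (he' a₀) (he' b₀)
  apply nonempty_equiv_of_ker_eq
    (PsiF e (Qm m a₀ b₀ (disc_ne_zero hab₀)) (Qm m (e a₀) (e b₀) (disc_ne_zero hab)) hc)
    (theta ⇑(Qm m a₀ b₀ (disc_ne_zero hab₀)))
    (ker_PsiF e _ _ hc hQ₀ hQ hn)
  · rw [range_PsiF e _ _ hc hfix hφ hQ hn r hσ hr he]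
    exact inf_le_inf_right _ (inndiagQ_le_range m (e a₀) (e b₀) hab (by omega))
  · exact inndiagQ_le_range m a₀ b₀ hab₀ (by omega)
  · intro g₀
    rw [Subgroup.mem_inf, PsiF_apply, theta_simMap_mem_iff m e a₀ b₀ hm hab₀ hab g₀]
    constructor
    · intro h
      exact h.1
    · intro h
      exact ⟨h, PsiF_mem_centralizer e _ _ hc hfix hφ he' g₀⟩

end cent

end Cfsg.Agent.Lib.Helper18.OrthMin
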