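import Cfsg.Agent.Lib.Helper18.OrthMinG
import Cfsg.Agent.Lib.Helper18.OrthFldI

set_option autoImplicit false

/-!
# Field automorphisms of `PΩ⁻`, standard case: the `Inndiag`-class is a single `Inn`-class
-/

namespace Cfsg.Agent.Lib.Helper18.OrthMin

open Module QuadraticMap Matrix Cfsg.Agent.Lib.Helper25.PSim Cfsg.Agent.Lib.Helper25.Spin
  Cfsg.Agent.Lib.Helper25.CD Cfsg.Agent.Lib.Helper14 Cfsg.Agent.Lib.Helper14.OrthMinus
  Cfsg.Agent.Lib.Helper14.QuadExt Cfsg.Agent.Lib.Helper18.OrthFld Cfsg.Agent.Lib.Helper18.OrthPar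
  Cfsg.Agent.Lib.Helper25.GraphSplit Cfsg.Agent.Lib.Helper15.QuadType
  Cfsg.Agent.Lib.Helper18.OrthIso

universe u v

section special

variable {F : Type u} [Field F] [Fintype F] (m : ℕ) (a b : F) (hD : a ^ 2 - 4 * b ≠ 0)
  (h2 : (2 : F) ≠ 0)

/-- a proper similarity with square multiplier is a scalar multiple of a special isometry -/
theorem exists_special_of_proper_sq
    (g : ↥(Cfsg.Geo.quadSimilarityGroup (F := F) ⇑(Qm m a b hD)))
    (hg : g ∈ properSub (Qm m a b hD) (v0 m) (Qm_v0 m a b hD) h2 (qfOf_nondeg _) (card_minus m))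
    (hsq : IsSquare (mult (Qm m a b hD) (v0 m) (Qm_v0 m a b hD) g : F)) :
    ∃ s : ↥(Cfsg.isometryGroup F ⇑(Qm m a b hD)),
      s ∈ Cfsg.specialIsometryGroup F ⇑(Qm m a b hD) ∧
      theta ⇑(Qm m a b hD) g = theta ⇑(Qm m a b hD) (incl _ s) := by
  obtain ⟨z, hz⟩ := hsq
  have hz2 : (mult (Qm m a b hD) (v0 m) (Qm_v0 m a b hD) g : F) = z ^ 2 := by
    rw [hz, pow_two]
  have hz0 : z ≠ 0 := by
    rintro rfl
    have := Units.ne_zero (mult (Qm m a b hD) (v0 m) (Qm_v0 m a b hD) g)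
    rw [hz] at this
    simp at this
  obtain ⟨s, hs⟩ := exists_iso_of_sq (Qm m a b hD) (v0 m) (Qm_v0 m a b hD) g z hz2
  have hM : ((g.1 : GL (Idx m) F) : Matrix (Idx m) (Idx m) F) =
      z • ((s.1 : GL (Idx m) F) : Matrix (Idx m) (Idx m) F) := by
    apply matrix_eq_of_mulVec
    intro x
    rw [hs, Matrix.smul_mulVec]
  refine ⟨s, ?_, theta_eq_of_smul (Qm m a b hD) g s z hM⟩
  rw [mem_special_iff_det]
  rw [mem_properSub_iff] at hg
  unfold IsProper at hg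
  rw [hM, Matrix.det_smul, card_minus, hz2, ← pow_mul] at hg
  have hzp : z ^ (2 * (m + 1)) ≠ 0 := pow_ne_zero _ hz0
  have : z ^ (2 * (m + 1)) * ((s.1 : GL (Idx m) F) : Matrix (Idx m) (Idx m) F).det =
      z ^ (2 * (m + 1)) * 1 := by
    rw [mul_one]
    exact hg
  exact mul_left_cancel₀ hzp this

end special

section abstractsplit

variable {κ : Type} [Fintype κ] [DecidableEq κ] {F₀ : Type v} {F : Type u} [Field F₀] [Field F]
  [Fintype F₀] [Fintype F] (e : F₀ →+* F)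
  (Q₀ : QuadraticForm F₀ (κ → F₀)) (Q : QuadraticForm F (κ → F))
  (hc : Compat e (⇑Q₀) (⇑Q))
  (h2 : (2 : F) ≠ 0) (hQ₀ : (polarBilin Q₀).Nondegenerate) (hQ : (polarBilin Q).Nondegenerate)
  (hn : 7 ≤ Fintype.card κ)
  {σ : RingAut F} (hfix : Qfix (⇑Q) σ) {φ : MulAut (Cfsg.POmega F ⇑Q)}
  (hφ : Cfsg.IsFieldAutPOmegaOf (⇑Q) σ φ)
  (r : ℕ) (hσ : orderOf σ = r) (hr : 0 < r) (he : ∀ a : F, σ a = a ↔ a ∈ Set.range e)

include hc h2 hQ₀ hQ hn hfix hφ hσ hr he in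
/-- special isometries lie in `Inn · C_D(φ)` when `r` is odd, for any subgroup `D` containing the
image of the special orthogonal group -/
theorem special_mem_sup (D : Subgroup (MulAut (Cfsg.POmega F ⇑Q)))
    (hD : ∀ s : ↥(Cfsg.isometryGroup F ⇑Q), s ∈ Cfsg.specialIsometryGroup F ⇑Q →
      theta ⇑Q (incl ⇑Q s) ∈ D)
    (hodd : Odd r) (s : ↥(Cfsg.isometryGroup F ⇑Q))
    (hs : s ∈ Cfsg.specialIsometryGroup F ⇑Q) :
    theta ⇑Q (incl ⇑Q s) ∈
      Cfsg.Inn (Cfsg.POmega F ⇑Q) ⊔ (D ⊓ Subgroup.centralizer {φ}) := by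
  have h2' : (2 : F₀) ≠ 0 := by
    intro h
    apply h2
    have := congrArg e h
    rwa [map_ofNat, map_zero] at this
  have hfin₀ : 2 ≤ finrank F₀ (κ → F₀) := by
    rw [Module.finrank_fintype_fun_eq_card]
    omega
  obtain ⟨b, hb⟩ := FiniteField.exists_nonsquare (ringChar_ne_two h2')
  obtain ⟨u₁, hu₁⟩ := exists_rep Q₀ hQ₀ hfin₀ 1
  obtain ⟨w₁, hw₁⟩ := exists_rep Q₀ hQ₀ hfin₀ b
  have hbF : ¬ IsSquare (e b) := not_isSquare_of_odd e h2 σ r hσ hodd he b hb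
  have hebF : e b ≠ 0 := by
    intro h
    exact hbF ⟨0, by rw [h, mul_zero]⟩
  have hQu : Q (ev e u₁) = 1 := by rw [hc, hu₁, map_one]
  have hQw : Q (ev e w₁) = e b := by rw [hc, hw₁]
  set t₀ : ↥(Cfsg.isometryGroup F₀ ⇑Q₀) := wordG Q₀ [u₁, w₁] with ht₀
  set t : ↥(Cfsg.isometryGroup F ⇑Q) := wordG Q [ev e u₁, ev e w₁] with ht
  have htt₀ : isoMap e Q₀ Q hc t₀ = t := by
    rw [ht₀, isoMap_wordG]
    rfl
  have htvs : ∀ v ∈ [ev e u₁, ev e w₁], Q v ≠ 0 := by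
    intro v hv
    simp only [List.mem_cons, List.not_mem_nil, or_false] at hv
    rcases hv with rfl | rfl
    · rw [hQu]; exact one_ne_zero
    · rw [hQw]; exact hebF
  have htC : theta ⇑Q (incl ⇑Q t) ∈ D ⊓ Subgroup.centralizer {φ} := by
    refine ⟨?_, ?_⟩
    · apply hD
      rw [ht, mem_special_iff Q h2 htvs]
      exact ⟨1, rfl⟩
    · have h1 : theta ⇑Q (incl ⇑Q t) ∈ (theta ⇑Q).range ⊓ Subgroup.centralizer {φ} := by
        rw [← range_PsiF e Q₀ Q hc hfix hφ hQ hn r hσ hr he]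
        refine ⟨incl ⇑Q₀ t₀, ?_⟩
        rw [PsiF_apply, theta_simMap_incl, htt₀]
      exact h1.2
  obtain ⟨vs, hvs, hword⟩ := exists_word Q h2 hQ s
  have hev : Even vs.length := by
    rw [← mem_special_iff Q h2 hvs, hword]
    exact hs
  by_cases hsq : IsSquare (normProd Q vs)
  · apply Subgroup.mem_sup_left
    rw [inn_eq']
    refine ⟨_, ⟨s, ?_, rfl⟩, rfl⟩
    show s ∈ Cfsg.Omega F ⇑Q
    rw [← hword, mem_omega_iff Q h2 hQ hvs]
    exact ⟨hev, hsq⟩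
  · have hst : s * t ∈ Cfsg.Omega F ⇑Q := by
      have hvs' : ∀ v ∈ vs ++ [ev e u₁, ev e w₁], Q v ≠ 0 := by
        intro v hv
        rcases List.mem_append.1 hv with h | h
        · exact hvs v h
        · exact htvs v h
      have e1 : s * t = wordG Q (vs ++ [ev e u₁, ev e w₁]) := by
        rw [wordG_append, hword]
      rw [e1, mem_omega_iff Q h2 hQ hvs']
      refine ⟨?_, ?_⟩
      · rw [List.length_append]
        exact hev.add ⟨1, rfl⟩
      · rw [normProd_append, normProd_cons, normProd_cons, normProd_nil, hQu, hQw, one_mul,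
          mul_one, isSquare_mul_iff (normProd_ne_zero Q hvs) hebF]
        exact ⟨fun h => absurd h hsq, fun h => absurd h hbF⟩
    have e2 : theta ⇑Q (incl ⇑Q s) =
        theta ⇑Q (incl ⇑Q (s * t)) * (theta ⇑Q (incl ⇑Q t))⁻¹ := by
      rw [map_mul, map_mul, mul_inv_cancel_right]
    rw [e2, mem_sup_iff]
    refine ⟨_, ?_, _, inv_mem htC, rfl⟩
    rw [inn_eq']
    exact ⟨_, ⟨_, hst, rfl⟩, rfl⟩

end abstractsplit

end Cfsg.Agent.Lib.Helper18.OrthMin
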