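import Cfsg.Agent.Lib.Helper18.OrthMinH
import Cfsg.Agent.Lib.Helper25.InndiagMinus3
import Cfsg.Agent.Lib.Helper18.PSLnFldE

set_option autoImplicit false

/-!
# Field automorphisms of `PΩ⁻`, standard case: `Inndiag = Inn · C_{Inndiag}(φ)` for odd order
-/

namespace Cfsg.Agent.Lib.Helper18.OrthMin

open Module QuadraticMap Matrix Cfsg.Agent.Lib.Helper25.PSim Cfsg.Agent.Lib.Helper25.Spin
  Cfsg.Agent.Lib.Helper25.CD Cfsg.Agent.Lib.Helper14 Cfsg.Agent.Lib.Helper14.OrthMinus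
  Cfsg.Agent.Lib.Helper14.QuadExt Cfsg.Agent.Lib.Helper18.OrthFld Cfsg.Agent.Lib.Helper18.OrthPar
  Cfsg.Agent.Lib.Helper25.GraphSplit Cfsg.Agent.Lib.Helper15.QuadType
  Cfsg.Agent.Lib.Helper18.OrthIso

universe u v

section delta

variable {F₀ : Type v} [Field F₀] [Fintype F₀] (m : ℕ) (a₀ b₀ : F₀)

/-- a proper similarity over an odd finite field with nonsquare multiplier -/
theorem exists_proper_nonsquare (hab₀ : Aniso a₀ b₀) (h2 : (2 : F₀) ≠ 0) :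
    ∃ δ₀ : ↥(Cfsg.Geo.quadSimilarityGroup (F := F₀) ⇑(Qm m a₀ b₀ (disc_ne_zero hab₀))),
      δ₀ ∈ properSub (Qm m a₀ b₀ (disc_ne_zero hab₀)) (v0 m) (Qm_v0 m _ _ _) h2 (qfOf_nondeg _)
        (card_minus m) ∧
      ¬ IsSquare (mult (Qm m a₀ b₀ (disc_ne_zero hab₀)) (v0 m) (Qm_v0 m _ _ _) δ₀ : F₀) := by
  have hodd := odd_card_of_two_ne_zero h2
  have hodd' : Fintype.card F₀ % 2 = 1 := Nat.odd_iff.1 hodd
  obtain ⟨ν, hν⟩ := FiniteField.exists_nonsquare (F := F₀) (ringChar_ne_two h2)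
  have hν0 : ν ≠ 0 := by
    rintro rfl
    exact hν ⟨0, by simp⟩
  obtain ⟨x, y, hxy⟩ := binary_universal a₀ b₀ hodd' h2 (disc_ne_zero hab₀) ν
  obtain ⟨δ, hδ⟩ := exists_delta_minus m a₀ b₀ (disc_ne_zero hab₀) x y (by rw [hxy]; exact hν0)
  obtain ⟨hmult, hprop⟩ := delta_minus_facts m a₀ b₀ (disc_ne_zero hab₀) (v0 m)
    (Qm_v0 m a₀ b₀ (disc_ne_zero hab₀)) x y δ hδ
  refine ⟨δ, ?_, ?_⟩
  · rw [mem_properSub_iff]
    exact hprop
  · rw [hmult, hxy]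
    exact hν

end delta

section sup

variable {F₀ : Type v} {F : Type u} [Field F₀] [Field F] [Fintype F₀] [Fintype F]
  (m : ℕ) (e : F₀ →+* F) (a₀ b₀ : F₀)

/-- `Inndiag = Inn · C_{Inndiag}(φ)` for a standard field automorphism of odd order -/
theorem inndiagQ_le_sup (hm : 3 ≤ m) (hab₀ : Aniso a₀ b₀) (hab : Aniso (e a₀) (e b₀))
    {σ : RingAut F} {φ : MulAut (Cfsg.POmega F ⇑(Qm m (e a₀) (e b₀) (disc_ne_zero hab)))}
    (hφ : Cfsg.IsFieldAutPOmegaOf (⇑(Qm m (e a₀) (e b₀) (disc_ne_zero hab))) σ φ)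
    (r : ℕ) (hσ : orderOf σ = r) (hr : 0 < r) (hodd : Odd r)
    (he : ∀ x : F, σ x = x ↔ x ∈ Set.range e) :
    inndiagQ m (e a₀) (e b₀) (disc_ne_zero hab) ≤
      Cfsg.Inn (Cfsg.POmega F ⇑(Qm m (e a₀) (e b₀) (disc_ne_zero hab))) ⊔
        (inndiagQ m (e a₀) (e b₀) (disc_ne_zero hab) ⊓ Subgroup.centralizer {φ}) := by
  by_cases h2 : (2 : F) = 0
  · rw [inndiagQ_eq_inn m (e a₀) (e b₀) hab h2 (by omega)]
    exact le_sup_left
  have h2₀ : (2 : F₀) ≠ 0 := by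
    intro h
    apply h2
    have := congrArg e h
    rwa [map_ofNat, map_zero] at this
  have hc := hcompat m e a₀ b₀ (disc_ne_zero hab₀)
  have hQ₀ : (polarBilin (Qm m a₀ b₀ (disc_ne_zero hab₀))).Nondegenerate := qfOf_nondeg _
  have hQ : (polarBilin (Qm m (e a₀) (e b₀) (disc_ne_zero hab))).Nondegenerate := qfOf_nondeg _
  have hn := seven_le_card_Idx m hm
  have he' : ∀ b, σ (e b) = e b := fun b => (he _).2 ⟨b, rfl⟩
  have hfix : Qfix (⇑(Qm m (e a₀) (e b₀) (disc_ne_zero hab))) σ :=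
    qfix_minus m (e a₀) (e b₀) σ _ (he' a₀) (he' b₀)
  -- the subgroup `D`
  have hDs : ∀ s : ↥(Cfsg.isometryGroup F ⇑(Qm m (e a₀) (e b₀) (disc_ne_zero hab))),
      s ∈ Cfsg.specialIsometryGroup F ⇑(Qm m (e a₀) (e b₀) (disc_ne_zero hab)) →
      theta ⇑(Qm m (e a₀) (e b₀) (disc_ne_zero hab)) (incl _ s) ∈
        inndiagQ m (e a₀) (e b₀) (disc_ne_zero hab) := by
    intro s hs
    rw [inndiagQ_eq_proper m (e a₀) (e b₀) hab h2]
    exact ⟨_, incl_special_mem_proper _ _ _ h2 _ _ s hs, rfl⟩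
  have hsp := special_mem_sup e (Qm m a₀ b₀ (disc_ne_zero hab₀))
    (Qm m (e a₀) (e b₀) (disc_ne_zero hab)) hc h2 hQ₀ hQ hn hfix hφ r hσ hr he
    (inndiagQ m (e a₀) (e b₀) (disc_ne_zero hab)) hDs hodd
  -- the diagonal element
  obtain ⟨δ₀, hδ₀p, hδ₀ns⟩ := exists_proper_nonsquare m a₀ b₀ hab₀ h2₀
  have hδp := (proper_simMap_iff m e a₀ b₀ (disc_ne_zero hab₀) h2 h2₀ δ₀).2 hδ₀p
  have hδns : ¬ IsSquare (mult (Qm m (e a₀) (e b₀) (disc_ne_zero hab)) (v0 m) (Qm_v0 m _ _ _)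
      (simMap e (Qm m a₀ b₀ (disc_ne_zero hab₀)) (Qm m (e a₀) (e b₀) (disc_ne_zero hab))
        hc δ₀) : F) := by
    rw [mult_simMap]
    exact not_isSquare_of_odd e h2 σ r hσ hodd he _ hδ₀ns
  have hδC : theta ⇑(Qm m (e a₀) (e b₀) (disc_ne_zero hab))
      (simMap e (Qm m a₀ b₀ (disc_ne_zero hab₀)) (Qm m (e a₀) (e b₀) (disc_ne_zero hab)) hc δ₀) ∈
      inndiagQ m (e a₀) (e b₀) (disc_ne_zero hab) ⊓ Subgroup.centralizer {φ} := by
    refine ⟨?_, ?_⟩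
    · rw [inndiagQ_eq_proper m (e a₀) (e b₀) hab h2]
      exact ⟨_, hδp, rfl⟩
    · have := PsiF_mem_centralizer e _ _ hc hfix hφ he' δ₀
      rwa [PsiF_apply] at this
  intro d hd
  rw [inndiagQ_eq_proper m (e a₀) (e b₀) hab h2] at hd
  obtain ⟨g, hg, rfl⟩ := hd
  have hg' : g ∈ properSub (Qm m (e a₀) (e b₀) (disc_ne_zero hab)) (v0 m) (Qm_v0 m _ _ _) h2
    (qfOf_nondeg _) (card_minus m) := hg
  by_cases hsq : IsSquare (mult (Qm m (e a₀) (e b₀) (disc_ne_zero hab)) (v0 m) (Qm_v0 m _ _ _)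
      g : F)
  · obtain ⟨s, hs, hθ⟩ := exists_special_of_proper_sq m (e a₀) (e b₀) _ h2 g hg' hsq
    rw [hθ]
    exact hsp s hs
  · -- multiply by `δ⁻¹`
    set δ := simMap e (Qm m a₀ b₀ (disc_ne_zero hab₀)) (Qm m (e a₀) (e b₀) (disc_ne_zero hab))
      hc δ₀ with hδdef
    have hgδ : g * δ⁻¹ ∈ properSub (Qm m (e a₀) (e b₀) (disc_ne_zero hab)) (v0 m)
        (Qm_v0 m _ _ _) h2 (qfOf_nondeg _) (card_minus m) := mul_mem hg' (inv_mem hδp)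
    have hmul : (mult (Qm m (e a₀) (e b₀) (disc_ne_zero hab)) (v0 m) (Qm_v0 m _ _ _)
        (g * δ⁻¹) : F) =
        (mult (Qm m (e a₀) (e b₀) (disc_ne_zero hab)) (v0 m) (Qm_v0 m _ _ _) g : F) *
        (mult (Qm m (e a₀) (e b₀) (disc_ne_zero hab)) (v0 m) (Qm_v0 m _ _ _) δ : F)⁻¹ := by
      have := map_mul (mult (Qm m (e a₀) (e b₀) (disc_ne_zero hab)) (v0 m) (Qm_v0 m _ _ _)) g δ⁻¹
      rw [this, map_inv, Units.val_mul, Units.val_inv_eq_inv_val]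
    have hsq' : IsSquare (mult (Qm m (e a₀) (e b₀) (disc_ne_zero hab)) (v0 m) (Qm_v0 m _ _ _)
        (g * δ⁻¹) : F) := by
      rw [hmul, isSquare_mul_iff (Units.ne_zero _) (inv_ne_zero (Units.ne_zero _))]
      constructor
      · intro h
        exact absurd h hsq
      · intro h
        exfalso
        apply hδns
        obtain ⟨z, hz⟩ := h
        refine ⟨z⁻¹, ?_⟩
        rw [← mul_inv, ← hz, inv_inv]
    obtain ⟨s, hs, hθ⟩ := exists_special_of_proper_sq m (e a₀) (e b₀) _ h2 (g * δ⁻¹) hgδ hsq'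
    have e2 : theta ⇑(Qm m (e a₀) (e b₀) (disc_ne_zero hab)) g =
        theta ⇑(Qm m (e a₀) (e b₀) (disc_ne_zero hab)) (g * δ⁻¹) *
          theta ⇑(Qm m (e a₀) (e b₀) (disc_ne_zero hab)) δ := by
      rw [← map_mul, inv_mul_cancel_right]
    rw [e2, hθ]
    exact mul_mem (hsp s hs) (Subgroup.mem_sup_right hδC)

/-- **the class does not split**: standard case -/
theorem minus_split_std (hm : 3 ≤ m) (hab₀ : Aniso a₀ b₀) (hab : Aniso (e a₀) (e b₀))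
    {σ : RingAut F} {φ : MulAut (Cfsg.POmega F ⇑(Qm m (e a₀) (e b₀) (disc_ne_zero hab)))}
    (hφ : Cfsg.IsFieldAutPOmegaOf (⇑(Qm m (e a₀) (e b₀) (disc_ne_zero hab))) σ φ)
    (r : ℕ) (hσ : orderOf σ = r) (hr : 0 < r) (hodd : Odd r)
    (he : ∀ x : F, σ x = x ↔ x ∈ Set.range e) :
    Cfsg.splitClassCount (inndiagQ m (e a₀) (e b₀) (disc_ne_zero hab))
      (Cfsg.Inn (Cfsg.POmega F ⇑(Qm m (e a₀) (e b₀) (disc_ne_zero hab)))) φ = 1 := by
  rw [Cfsg.Agent.Lib.Helper18.PSLnFld.splitClassCount_eq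
    (inndiagQ m (e a₀) (e b₀) (disc_ne_zero hab))
    (Cfsg.Inn (Cfsg.POmega F ⇑(Qm m (e a₀) (e b₀) (disc_ne_zero hab))))
    (inn_le_inndiagQ m (e a₀) (e b₀) hab (by omega))
    (fun h _ k hk => (Cfsg.innNormal _).conj_mem k hk h) φ
    (Cfsg.Inn (Cfsg.POmega F ⇑(Qm m (e a₀) (e b₀) (disc_ne_zero hab))) ⊔
      (inndiagQ m (e a₀) (e b₀) (disc_ne_zero hab) ⊓ Subgroup.centralizer {φ}))
    (fun x => mem_sup_iff _ _ x), Subgroup.relIndex_eq_one]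
  exact inndiagQ_le_sup m e a₀ b₀ hm hab₀ hab hφ r hσ hr hodd he

end sup

end Cfsg.Agent.Lib.Helper18.OrthMin
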