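import Cfsg.Agent.Lib.Helper25.InndiagMinus1

set_option autoImplicit false

/-!
# The parity homomorphism on similarities of a hyperbolic quadratic space (any characteristic)

For a quadratic form `Q` with nondegenerate polar form on a space of dimension `2m` whose
maximal totally singular subspaces have dimension `m`, a similarity `g` either fixes or
interchanges the two families of maximal totally singular subspaces; this is multiplicative,
and reflections interchange the families.
-/

namespace Cfsg.Agent.Lib.Helper18.OrthPar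

open Module QuadraticMap Cfsg.Agent.Lib.Helper25.MaxTS Cfsg.Agent.Lib.Helper25.CD

section abstract

variable {F V : Type*} [Field F] [AddCommGroup V] [Module F V]
variable (Q : QuadraticForm F V)

/-- `g` is a similarity of `Q` -/
def IsSimE (g : V ≃ₗ[F] V) : Prop := ∃ c : F, c ≠ 0 ∧ ∀ v, Q (g v) = c * Q v

variable {Q}

theorem IsSimE.ts {g : V ≃ₗ[F] V} (hg : IsSimE Q g) {U : Submodule F V} (hU : TS Q U) :
    TS Q (U.map (g : V →ₗ[F] V)) := by
  obtain ⟨c, -, hc⟩ := hg
  rintro _ ⟨u, hu, rfl⟩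
  show Q (g u) = 0
  rw [hc, hU u hu, mul_zero]

theorem isSimE_one : IsSimE Q (1 : V ≃ₗ[F] V) := ⟨1, one_ne_zero, fun v => by simp⟩

theorem IsSimE.mul {g h : V ≃ₗ[F] V} (hg : IsSimE Q g) (hh : IsSimE Q h) : IsSimE Q (g * h) := by
  obtain ⟨c, hc0, hc⟩ := hg
  obtain ⟨d, hd0, hd⟩ := hh
  refine ⟨c * d, mul_ne_zero hc0 hd0, fun v => ?_⟩
  rw [LinearEquiv.mul_apply, hc, hd, mul_assoc]

theorem isSimE_of_mem_OG {g : V ≃ₗ[F] V} (hg : g ∈ OG Q) : IsSimE Q g :=
  ⟨1, one_ne_zero, fun v => by rw [one_mul]; exact hg v⟩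

theorem finrank_inf_mapE (g : V ≃ₗ[F] V) (U W : Submodule F V) :
    finrank F (U.map (g : V →ₗ[F] V) ⊓ W.map (g : V →ₗ[F] V) : Submodule F V) =
      finrank F (U ⊓ W : Submodule F V) := by
  rw [← Submodule.map_inf (g : V →ₗ[F] V) g.injective, LinearEquiv.finrank_map_eq]

variable [FiniteDimensional F V]

/-- the parity of `U ∩ gU` does not depend on `U` -/
theorem par_indep (hQ : (polarBilin Q).Nondegenerate) {m : ℕ} (hdim : finrank F V = m + m)
    {g : V ≃ₗ[F] V} (hg : IsSimE Q g) {U W : Submodule F V} (hU : TS Q U)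
    (hUm : finrank F U = m) (hW : TS Q W) (hWm : finrank F W = m) :
    Even (m - finrank F (U ⊓ U.map (g : V →ₗ[F] V) : Submodule F V)) ↔
      Even (m - finrank F (W ⊓ W.map (g : V →ₗ[F] V) : Submodule F V)) := by
  have hgU := hg.ts hU
  have hgW := hg.ts hW
  have hgUm : finrank F (U.map (g : V →ₗ[F] V)) = m := (LinearEquiv.finrank_map_eq g U).trans hUm
  have hgWm : finrank F (W.map (g : V →ₗ[F] V)) = m := (LinearEquiv.finrank_map_eq g W).trans hWm
  have p1 := parity hQ hdim hU hUm hW hWm hgW hgWm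
  have p2 := parity hQ hdim hU hUm hgU hgUm hgW hgWm
  rw [finrank_inf_mapE] at p2
  have b1 : finrank F (U ⊓ W : Submodule F V) ≤ m := by
    rw [← hUm]; exact Submodule.finrank_mono inf_le_left
  have b2 : finrank F (W ⊓ W.map (g : V →ₗ[F] V) : Submodule F V) ≤ m := by
    rw [← hWm]; exact Submodule.finrank_mono inf_le_left
  have b3 : finrank F (U ⊓ W.map (g : V →ₗ[F] V) : Submodule F V) ≤ m := by
    rw [← hUm]; exact Submodule.finrank_mono inf_le_left
  have b4 : finrank F (U ⊓ U.map (g : V →ₗ[F] V) : Submodule F V) ≤ m := by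
    rw [← hUm]; exact Submodule.finrank_mono inf_le_left
  rw [Nat.even_iff] at p1 p2 ⊢
  rw [Nat.even_iff]
  omega

/-- multiplicativity of the parity -/
theorem par_mul (hQ : (polarBilin Q).Nondegenerate) {m : ℕ} (hdim : finrank F V = m + m)
    {g h : V ≃ₗ[F] V} (hg : IsSimE Q g) (hh : IsSimE Q h) {U : Submodule F V} (hU : TS Q U)
    (hUm : finrank F U = m) :
    Even (m - finrank F (U ⊓ U.map ((g * h : V ≃ₗ[F] V) : V →ₗ[F] V) : Submodule F V)) ↔
      (Even (m - finrank F (U ⊓ U.map (g : V →ₗ[F] V) : Submodule F V)) ↔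
        Even (m - finrank F (U ⊓ U.map (h : V →ₗ[F] V) : Submodule F V))) := by
  have e : U.map ((g * h : V ≃ₗ[F] V) : V →ₗ[F] V) =
      (U.map (h : V →ₗ[F] V)).map (g : V →ₗ[F] V) := by
    rw [← Submodule.map_comp]
    rfl
  rw [e]
  have hhU := hh.ts hU
  have hhUm : finrank F (U.map (h : V →ₗ[F] V)) = m := (LinearEquiv.finrank_map_eq h U).trans hUm
  have hgU := hg.ts hU
  have hgUm : finrank F (U.map (g : V →ₗ[F] V)) = m := (LinearEquiv.finrank_map_eq g U).trans hUm
  have hghU := hg.ts hhU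
  have hghUm : finrank F ((U.map (h : V →ₗ[F] V)).map (g : V →ₗ[F] V)) = m :=
    (LinearEquiv.finrank_map_eq g _).trans hhUm
  have p := parity hQ hdim hU hUm hgU hgUm hghU hghUm
  rw [finrank_inf_mapE] at p
  have b1 : finrank F (U ⊓ U.map (g : V →ₗ[F] V) : Submodule F V) ≤ m := by
    rw [← hUm]; exact Submodule.finrank_mono inf_le_left
  have b2 : finrank F (U ⊓ U.map (h : V →ₗ[F] V) : Submodule F V) ≤ m := by
    rw [← hUm]; exact Submodule.finrank_mono inf_le_left
  have b3 : finrank F (U ⊓ (U.map (h : V →ₗ[F] V)).map (g : V →ₗ[F] V) : Submodule F V) ≤ m := by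
    rw [← hUm]; exact Submodule.finrank_mono inf_le_left
  rw [Nat.even_iff] at p ⊢
  rw [Nat.even_iff, Nat.even_iff]
  omega

/-- a reflection moves a maximal totally singular subspace to an adjacent one -/
theorem par_refl (hQ : (polarBilin Q).Nondegenerate) {m : ℕ} (hdim : finrank F V = m + m)
    {v : V} (hv : Q v ≠ 0) {U : Submodule F V} (hU : TS Q U) (hUm : finrank F U = m) :
    finrank F (U ⊓ U.map ((reflE Q v : V ≃ₗ[F] V) : V →ₗ[F] V) : Submodule F V) + 1 = m := by
  have hvU : v ∉ U := fun h => hv (hU v h)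
  have hv0 : v ≠ 0 := by
    rintro rfl
    exact hvU U.zero_mem
  obtain ⟨P, hP⟩ : ∃ P, P = Cfsg.Agent.Lib.Helper25.MaxTS.perp Q (Submodule.span F {v}) := ⟨_, rfl⟩
  have hPdim : finrank F P = m + m - 1 := by
    rw [hP, finrank_perp hQ, hdim, finrank_span_singleton hv0]
  have hlt : U ⊓ P < U := by
    refine lt_of_le_of_ne inf_le_left ?_
    intro h
    apply hvU
    rw [← hU.perp_eq hQ hdim hUm, mem_perp]
    intro u hu
    have : u ∈ U ⊓ P := by rw [h]; exact hu
    have h2 : u ∈ P := this.2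
    rw [hP, mem_perp_span] at h2
    rw [polar_comm]
    exact h2
  have hfin := Submodule.finrank_lt_finrank_of_lt hlt
  have hsum := Submodule.finrank_sup_add_finrank_inf_eq U P
  have hle : finrank F (U ⊔ P : Submodule F V) ≤ m + m := by
    rw [← hdim]; exact Submodule.finrank_le _
  have hUP : finrank F (U ⊓ P : Submodule F V) + 1 = m := by omega
  have hinf : U ⊓ U.map ((reflE Q v : V ≃ₗ[F] V) : V →ₗ[F] V) = U ⊓ P := by
    apply le_antisymm
    · rintro t ⟨htU, u, hu, rfl⟩
      refine ⟨htU, ?_⟩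
      have hu' : u ∈ U := hu
      have e : (reflE Q v : V →ₗ[F] V) u = u - ((Q v)⁻¹ * polar Q v u) • v := reflE_apply Q v u
      rw [e] at htU ⊢
      by_cases ha : (Q v)⁻¹ * polar Q v u = 0
      · rw [ha, zero_smul, sub_zero, hP]
        show u ∈ Cfsg.Agent.Lib.Helper25.MaxTS.perp Q (Submodule.span F {v})
        rw [mem_perp_span]
        rcases mul_eq_zero.1 ha with h | h
        · exact absurd (inv_eq_zero.1 h) hv
        · exact h
      · exfalso
        apply hvU
        have h1 : ((Q v)⁻¹ * polar Q v u) • v ∈ U := by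
          have := U.sub_mem hu' htU
          rwa [sub_sub_cancel] at this
        have h2 := U.smul_mem ((Q v)⁻¹ * polar Q v u)⁻¹ h1
        rwa [smul_smul, inv_mul_cancel₀ ha, one_smul] at h2
    · rintro t ⟨htU, htP⟩
      refine ⟨htU, t, htU, ?_⟩
      have htP' : t ∈ Cfsg.Agent.Lib.Helper25.MaxTS.perp Q (Submodule.span F {v}) := by
        rw [← hP]; exact htP
      rw [mem_perp_span] at htP'
      exact reflE_of_perp Q htP'
  rw [hinf]
  exact hUP

end abstract

end Cfsg.Agent.Lib.Helper18.OrthPar
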