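import Cfsg.Agent.Lib.Helper18.OrthParA

set_option autoImplicit false

/-!
# Parity of similarities, matrix version: `PreservesSingularClasses` for forms isometric to the
standard hyperbolic form (any characteristic)
-/

namespace Cfsg.Agent.Lib.Helper18.OrthPar

open Module QuadraticMap Matrix Cfsg.Agent.Lib.Helper25.MaxTS Cfsg.Agent.Lib.Helper25.CD
  Cfsg.Agent.Lib.Helper25.PSim Cfsg.Agent.Lib.Helper25.Spin

universe u

section transport

variable {ι : Type} [Fintype ι] [DecidableEq ι] {K : Type u} [Field K] (n : ℕ)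
  (Q : QuadraticForm K (ι → K)) (L : (ι → K) ≃ₗ[K] (Fin n ⊕ Fin n → K))
  (hL : ∀ v, Cfsg.quadFormPlus n K (L v) = Q v)

include hL in
theorem isMax_iff_of_equiv (U : Submodule K (ι → K)) :
    Cfsg.IsMaxTotallySingular ⇑Q U ↔ TS Q U ∧ finrank K U = n := by
  rw [← isMax_map_iff n (⇑Q) L hL U, isMax_iff, LinearEquiv.finrank_map_eq, ts_iff]
  have : (∀ u ∈ U.map (L : (ι → K) →ₗ[K] _), Cfsg.quadFormPlus n K u = 0) ↔ TS Q U :=
    ts_map_iff n (⇑Q) L hL U
  rw [this]

include L in
theorem finrank_of_equiv : finrank K (ι → K) = n + n := by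
  rw [L.finrank_eq]
  exact finrank_plus n

/-- a maximal totally singular subspace -/
noncomputable def stdU : Submodule K (ι → K) := (stdE n).map (L.symm : _ →ₗ[K] (ι → K))

include hL in
theorem stdU_ts : TS Q (stdU n L) := by
  rintro _ ⟨w, hw, rfl⟩
  show Q (L.symm w) = 0
  rw [← hL, LinearEquiv.apply_symm_apply, ← plusQ_apply]
  exact stdE_ts n w hw

theorem stdU_finrank : finrank K (stdU n L) = n := by
  unfold stdU
  rw [LinearEquiv.finrank_map_eq]
  exact stdE_finrank n

theorem toLE_coe (G : GL ι K) :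
    ((toLE G : (ι → K) ≃ₗ[K] (ι → K)) : (ι → K) →ₗ[K] (ι → K)) =
      Matrix.toLin' (G : Matrix ι ι K) := by
  apply LinearMap.ext
  intro v
  rw [Matrix.toLin'_apply]
  rfl

variable (hQ : (polarBilin Q).Nondegenerate)

include hL hQ in
/-- the class-preserving condition can be tested on one maximal totally singular subspace -/
theorem pres_iff_one (G : GL ι K) (hG : IsSimE Q (toLE G)) {U : Submodule K (ι → K)}
    (hU : TS Q U) (hUm : finrank K U = n) :
    Cfsg.PreservesSingularClasses ⇑Q (G : Matrix ι ι K) ↔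
      Even (n - finrank K (U ⊓ U.map ((toLE G : (ι → K) ≃ₗ[K] (ι → K)) :
        (ι → K) →ₗ[K] (ι → K)) : Submodule K (ι → K))) := by
  have hdim := finrank_of_equiv n L
  constructor
  · intro h
    have h1 := h U ((isMax_iff_of_equiv n Q L hL U).2 ⟨hU, hUm⟩)
    unfold Cfsg.SameParityClass Cfsg.imageSubmodule at h1
    rw [hUm, ← toLE_coe] at h1
    exact h1
  · intro h W hW
    obtain ⟨hWts, hWm⟩ := (isMax_iff_of_equiv n Q L hL W).1 hW
    unfold Cfsg.SameParityClass Cfsg.imageSubmodule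
    rw [hWm, ← toLE_coe]
    exact (par_indep hQ hdim hG hU hUm hWts hWm).1 h

include hL hQ in
theorem pres_mul (G H : GL ι K) (hG : IsSimE Q (toLE G)) (hH : IsSimE Q (toLE H)) :
    Cfsg.PreservesSingularClasses ⇑Q ((G * H : GL ι K) : Matrix ι ι K) ↔
      (Cfsg.PreservesSingularClasses ⇑Q (G : Matrix ι ι K) ↔
        Cfsg.PreservesSingularClasses ⇑Q (H : Matrix ι ι K)) := by
  have hdim := finrank_of_equiv n L
  have hGH : IsSimE Q (toLE (G * H)) := by
    rw [map_mul]
    exact hG.mul hH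
  rw [pres_iff_one n Q L hL hQ (G * H) hGH (stdU_ts n Q L hL) (stdU_finrank n L),
    pres_iff_one n Q L hL hQ G hG (stdU_ts n Q L hL) (stdU_finrank n L),
    pres_iff_one n Q L hL hQ H hH (stdU_ts n Q L hL) (stdU_finrank n L), map_mul]
  exact par_mul hQ hdim hG hH (stdU_ts n Q L hL) (stdU_finrank n L)

include hL hQ in
theorem pres_one : Cfsg.PreservesSingularClasses ⇑Q ((1 : GL ι K) : Matrix ι ι K) := by
  rw [pres_iff_one n Q L hL hQ 1 (by rw [map_one]; exact isSimE_one)
    (stdU_ts n Q L hL) (stdU_finrank n L), map_one]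
  have : (stdU n L).map (((1 : (ι → K) ≃ₗ[K] (ι → K))) : (ι → K) →ₗ[K] (ι → K)) = stdU n L := by
    ext x
    simp
  rw [this, inf_idem, stdU_finrank, Nat.sub_self]
  exact Even.zero

theorem isSimE_iso (g : ↥(Cfsg.isometryGroup K ⇑Q)) : IsSimE Q (toLE (g : GL ι K)) :=
  isSimE_of_mem_OG ((mem_iso_iff Q (g : GL ι K)).1 g.2)

include hL hQ in
theorem not_pres_reflM {v : ι → K} (hv : Q v ≠ 0) :
    ¬ Cfsg.PreservesSingularClasses ⇑Q (((reflM Q v : ↥(Cfsg.isometryGroup K ⇑Q)) : GL ι K) :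
      Matrix ι ι K) := by
  have hdim := finrank_of_equiv n L
  rw [pres_iff_one n Q L hL hQ _ (isSimE_iso Q (reflM Q v)) (stdU_ts n Q L hL)
    (stdU_finrank n L)]
  have e : toLE ((reflM Q v : ↥(Cfsg.isometryGroup K ⇑Q)) : GL ι K) = reflE Q v := by
    rw [← toOG_eq, toOG_reflM]
  rw [e]
  have := par_refl hQ hdim hv (stdU_ts n Q L hL) (stdU_finrank n L)
  rw [Nat.even_iff]
  omega

include hL hQ in
/-- a word in reflections preserves the classes iff its length is even -/
theorem pres_wordG : ∀ (vs : List (ι → K)), (∀ v ∈ vs, Q v ≠ 0) →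
    (Cfsg.PreservesSingularClasses ⇑Q (((wordG Q vs : ↥(Cfsg.isometryGroup K ⇑Q)) : GL ι K) :
      Matrix ι ι K) ↔ Even vs.length)
  | [], _ => by
    rw [wordG_nil]
    constructor
    · intro _
      exact Even.zero
    · intro _
      exact pres_one n Q L hL hQ
  | v :: vs, hvs => by
    have ih := pres_wordG vs (fun u hu => hvs u (List.mem_cons_of_mem _ hu))
    rw [wordG_cons]
    have e : (((reflM Q v * wordG Q vs : ↥(Cfsg.isometryGroup K ⇑Q)) : GL ι K)) =
        ((reflM Q v : ↥(Cfsg.isometryGroup K ⇑Q)) : GL ι K) *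
          ((wordG Q vs : ↥(Cfsg.isometryGroup K ⇑Q)) : GL ι K) := rfl
    rw [e, pres_mul n Q L hL hQ _ _ (isSimE_iso Q _) (isSimE_iso Q _), ih, List.length_cons,
      Nat.even_add_one]
    have := not_pres_reflM n Q L hL hQ (hvs v (List.mem_cons_self ..))
    tauto

end transport

section smul

variable {ι : Type} [Fintype ι] [DecidableEq ι] {K : Type u} [Field K]

theorem image_smul {z : K} (hz : z ≠ 0) (M : Matrix ι ι K)
    (U : Submodule K (ι → K)) :
    Cfsg.imageSubmodule (z • M) U = Cfsg.imageSubmodule M U := by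
  unfold Cfsg.imageSubmodule
  ext x
  constructor
  · rintro ⟨u, hu, rfl⟩
    refine ⟨z • u, U.smul_mem z hu, ?_⟩
    rw [Matrix.toLin'_apply, Matrix.toLin'_apply, Matrix.smul_mulVec, Matrix.mulVec_smul]
  · rintro ⟨u, hu, rfl⟩
    refine ⟨z⁻¹ • u, U.smul_mem z⁻¹ hu, ?_⟩
    rw [Matrix.toLin'_apply, Matrix.toLin'_apply, Matrix.smul_mulVec, Matrix.mulVec_smul,
      smul_smul, mul_inv_cancel₀ hz, one_smul]

theorem pres_smul (Q : (ι → K) → K) {z : K} (hz : z ≠ 0) (M : Matrix ι ι K) :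
    Cfsg.PreservesSingularClasses Q (z • M) ↔ Cfsg.PreservesSingularClasses Q M := by
  unfold Cfsg.PreservesSingularClasses
  constructor
  · intro h U hU
    have := h U hU
    rwa [image_smul hz] at this
  · intro h U hU
    rw [image_smul hz]
    exact h U hU

end smul

end Cfsg.Agent.Lib.Helper18.OrthPar
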