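import Cfsg.Agent.Lib.Helper18.OrthParB
import Cfsg.Agent.Lib.Helper18.OrthFldF
import Cfsg.Agent.Lib.Helper25.InndiagMinus3

set_option autoImplicit false

/-!
# Class-preserving similarities of the minus-type form, read over a quadratic extension:
words in reflections (any characteristic)
-/

namespace Cfsg.Agent.Lib.Helper18.OrthPar

open Module QuadraticMap Matrix Polynomial Cfsg.Agent.Lib.Helper25.MaxTS Cfsg.Agent.Lib.Helper25.CD
  Cfsg.Agent.Lib.Helper25.PSim Cfsg.Agent.Lib.Helper25.Spin Cfsg.Agent.Lib.Helper14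
  Cfsg.Agent.Lib.Helper14.OrthMinus Cfsg.Agent.Lib.Helper14.QuadExt
  Cfsg.Agent.Lib.Helper18.OrthFld

universe u v

section root

variable {F : Type u} [Field F] [Finite F] {K : Type v} [Field K] [Algebra F K]

/-- every monic quadratic polynomial over a finite field has a root in a quadratic extension -/
theorem exists_root_ext (hK : Module.finrank F K = 2) (a b : F) :
    ∃ ζ : K, ζ ^ 2 + algebraMap F K a * ζ + algebraMap F K b = 0 := by
  by_cases hroot : ∃ z : F, z ^ 2 + a * z + b = 0
  · obtain ⟨z, hz⟩ := hroot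
    refine ⟨algebraMap F K z, ?_⟩
    rw [← map_pow, ← map_mul, ← map_add, ← map_add, hz, map_zero]
  · push Not at hroot
    let f : F[X] := X ^ 2 + C a * X + C b
    have hdeg : f.natDegree = 2 := by
      show (X ^ 2 + C a * X + C b : F[X]).natDegree = 2
      compute_degree!
    have hirr : Irreducible f := by
      apply irreducible_of_degree_le_three_of_not_isRoot
      · rw [hdeg]
        simp
      · intro x hx
        apply hroot x
        have : f.eval x = 0 := hx
        simpa [f] using this
    have : Fact (Irreducible f) := ⟨hirr⟩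
    have hf0 : f ≠ 0 := hirr.ne_zero
    have hfr : Module.finrank F (AdjoinRoot f) = 2 := by
      rw [(AdjoinRoot.powerBasis hf0).finrank, AdjoinRoot.powerBasis_dim hf0, hdeg]
    have : Module.Finite F K := Module.finite_of_finrank_pos (by rw [hK]; norm_num)
    have : Finite K := Module.finite_of_finite F
    obtain ⟨j⟩ := FiniteField.nonempty_algHom_of_finrank_dvd (F := F) (K := AdjoinRoot f) (L := K)
      (by rw [hfr, hK])
    refine ⟨j (AdjoinRoot.root f), ?_⟩
    have h1 : (AdjoinRoot.root f) ^ 2 + algebraMap F (AdjoinRoot f) a * AdjoinRoot.root f +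
        algebraMap F (AdjoinRoot f) b = 0 := by
      have := AdjoinRoot.eval₂_root f
      simp only [f, eval₂_add, eval₂_mul, eval₂_pow, eval₂_X, eval₂_C] at this
      exact this
    have h2 := congrArg j h1
    rw [map_add, map_add, map_mul, map_pow, AlgHom.commutes, AlgHom.commutes, map_zero] at h2
    exact h2

end root

section compat

variable {F₀ : Type u} {F : Type v} [Field F₀] [Field F] (m : ℕ) (e : F₀ →+* F) (a b : F₀)

theorem compat_minus :
    Compat e (Cfsg.quadFormMinus m F₀ a b) (Cfsg.quadFormMinus m F (e a) (e b)) := by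
  intro v
  unfold Cfsg.quadFormMinus
  simp only [map_add, map_mul, map_pow, map_sum]
  rfl

theorem aniso_of_map {a b : F₀} (h : Aniso (e a) (e b)) : Aniso a b := by
  intro z₁ z₂ hz
  have h1 := h (e z₁) (e z₂) (by
    rw [← map_pow, ← map_pow, ← map_mul, ← map_mul, ← map_mul, ← map_add, ← map_add, hz, map_zero])
  exact ⟨e.injective (by rw [h1.1, map_zero]), e.injective (by rw [h1.2, map_zero])⟩

theorem disc_map {a b : F₀} (hD : a ^ 2 - 4 * b ≠ 0) : (e a) ^ 2 - 4 * (e b) ≠ 0 := by
  intro h
  apply hD
  apply e.injective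
  rw [map_sub, map_mul, map_pow, map_ofNat, map_zero]
  exact h

end compat

section word

variable {F : Type u} [Field F] [Fintype F] (m : ℕ) (a b : F)

/-- the minus-type form as a quadratic form -/
noncomputable abbrev Qm (hD : a ^ 2 - 4 * b ≠ 0) : QuadraticForm F (Idx m → F) :=
  qfOf (isQF_minus (n := m) hD)

omit [Fintype F] in
theorem Qm_nondeg (hD : a ^ 2 - 4 * b ≠ 0) : (polarBilin (Qm m a b hD)).Nondegenerate :=
  qfOf_nondeg _

/-- over a fixed quadratic extension: a scalar multiple of a word in reflections preserves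
the classes iff the word has even length -/
theorem pres_word_ext (hD : a ^ 2 - 4 * b ≠ 0) (K : Type u) [Field K] [Algebra F K]
    (hK : Module.finrank F K = 2) (z : F) (hz : z ≠ 0) (vs : List (Idx m → F))
    (hvs : ∀ v ∈ vs, Qm m a b hD v ≠ 0) :
    Cfsg.PreservesSingularClasses
        (Cfsg.quadFormMinus m K (algebraMap F K a) (algebraMap F K b))
        ((z • (((wordG (Qm m a b hD) vs : ↥(Cfsg.isometryGroup F ⇑(Qm m a b hD))) : GL (Idx m) F) :
          Matrix (Idx m) (Idx m) F)).map (algebraMap F K)) ↔ Even vs.length := by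
  obtain ⟨ζ, hζ⟩ := exists_root_ext (K := K) hK a b
  have hD' : (algebraMap F K a) ^ 2 - 4 * (algebraMap F K b) ≠ 0 := disc_map (algebraMap F K) hD
  have hc : Compat (algebraMap F K) (⇑(Qm m a b hD))
      (⇑(Qm m (algebraMap F K a) (algebraMap F K b) hD')) := compat_minus m (algebraMap F K) a b
  have hmap : (z • (((wordG (Qm m a b hD) vs : ↥(Cfsg.isometryGroup F ⇑(Qm m a b hD))) :
      GL (Idx m) F) : Matrix (Idx m) (Idx m) F)).map (algebraMap F K) =
      algebraMap F K z • (((wordG (Qm m (algebraMap F K a) (algebraMap F K b) hD')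
        (vs.map (ev (algebraMap F K))) :
        ↥(Cfsg.isometryGroup K ⇑(Qm m (algebraMap F K a) (algebraMap F K b) hD'))) :
        GL (Idx m) K) : Matrix (Idx m) (Idx m) K) := by
    rw [← isoMap_wordG (algebraMap F K) (Qm m a b hD) _ hc, isoMap_coe]
    ext i j
    simp [Matrix.map_apply, Matrix.smul_apply]
  rw [hmap]
  have hz' : algebraMap F K z ≠ 0 := by
    intro h
    apply hz
    apply (algebraMap F K).injective
    rw [h, map_zero]
  have h1 := pres_smul (Cfsg.quadFormMinus m K (algebraMap F K a) (algebraMap F K b)) hz'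
    (((wordG (Qm m (algebraMap F K a) (algebraMap F K b) hD')
        (vs.map (ev (algebraMap F K))) :
        ↥(Cfsg.isometryGroup K ⇑(Qm m (algebraMap F K a) (algebraMap F K b) hD'))) :
        GL (Idx m) K) : Matrix (Idx m) (Idx m) K)
  rw [h1]
  have h2 := pres_wordG (m + 1) (Qm m (algebraMap F K a) (algebraMap F K b) hD')
    (toPlusEquiv m (algebraMap F K a) (algebraMap F K b) ζ hζ hD')
    (fun v => by rw [toPlusEquiv_apply]; exact plus_toPlus m _ _ ζ hζ v)
    (Qm_nondeg m _ _ hD') (vs.map (ev (algebraMap F K))) (by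
      intro w hw
      obtain ⟨v, hv, rfl⟩ := List.mem_map.1 hw
      have := hc v
      intro h0
      apply hvs v hv
      apply (algebraMap F K).injective
      rw [map_zero, ← this]
      exact h0)
  rw [List.length_map] at h2
  exact h2

/-- a scalar multiple of a word in reflections of the minus-type form is class-preserving
(over a quadratic extension) iff the word has even length -/
theorem presMinus_word_iff (hab : Aniso a b) (z : F) (hz : z ≠ 0) (vs : List (Idx m → F))
    (hvs : ∀ v ∈ vs, Qm m a b (disc_ne_zero hab) v ≠ 0) :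
    Cfsg.PreservesSingularClassesMinus m a b
        (z • (((wordG (Qm m a b (disc_ne_zero hab)) vs :
          ↥(Cfsg.isometryGroup F ⇑(Qm m a b (disc_ne_zero hab)))) : GL (Idx m) F) :
          Matrix (Idx m) (Idx m) F)) ↔ Even vs.length := by
  constructor
  · rintro ⟨K, hKf, hKa, hK, hpres⟩
    exact (@pres_word_ext F _ _ m a b (disc_ne_zero hab) K hKf hKa hK z hz vs hvs).1 hpres
  · intro hev
    have hroot : ∀ z : F, z ^ 2 + a * z + b ≠ 0 := by
      intro z hz
      have := hab z 1 (by linear_combination hz)
      exact one_ne_zero this.2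
    obtain ⟨K, hKf, hKa, hK⟩ := Cfsg.Agent.Lib.Helper25.QExt.exists_ext a b hroot
    exact ⟨K, hKf, hKa, hK,
      (@pres_word_ext F _ _ m a b (disc_ne_zero hab) K hKf hKa hK z hz vs hvs).2 hev⟩

end word

end Cfsg.Agent.Lib.Helper18.OrthPar
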