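import Cfsg.Agent.Lib.Helper25.GFld24
import Cfsg.Agent.Lib.Helper18.OrthMinJ

set_option autoImplicit false

/-!
# Field automorphisms of `PΩ⁺`: invariance of the class-preserving similarities under `PΓO`,
base change of the class-preserving condition, the centralizer of a standard field automorphism
-/

namespace Cfsg.Agent.Lib.Helper18.OrthPl

open Module QuadraticMap Matrix Cfsg.Agent.Lib.Helper25.MaxTS Cfsg.Agent.Lib.Helper25.CD
  Cfsg.Agent.Lib.Helper25.GraphSplit Cfsg.Agent.Lib.Helper25.PSim Cfsg.Agent.Lib.Helper25.Spin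
  Cfsg.Agent.Lib.Helper18.OrthFld Cfsg.Agent.Lib.Helper18.OrthPar
  Cfsg.Agent.Lib.Helper18.OrthMin Cfsg.Agent.Lib.Helper25.GFld

universe u v

section gamma

variable {ι : Type} [Fintype ι] [DecidableEq ι] {F : Type u} [Field F] [Fintype F]
  (Q : QuadraticForm F (ι → F)) (k : ℕ) (L : (ι → F) ≃ₗ[F] (Fin (k + 1) ⊕ Fin (k + 1) → F))
  (hL : ∀ v, Cfsg.quadFormPlus (k + 1) F (L v) = Q v) (hQ : (polarBilin Q).Nondegenerate)

include hL hQ in
/-- the image of the class-preserving similarities is normalised by `PΓO` -/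
theorem gamma_conj_mem_presAut (hn : 7 ≤ Fintype.card ι) (hqf : ∀ τ : RingAut F, Qfix (⇑Q) τ)
    (hstd : ∀ τ : RingAut F, SPres Q (k + 1) (1 : GL ι F) τ)
    {α : MulAut (Cfsg.POmega F ⇑Q)} (hα : α ∈ Cfsg.gammaPOmega F (⇑Q))
    {d : MulAut (Cfsg.POmega F ⇑Q)} (hd : d ∈ presAut Q k L hL hQ) :
    α * d * α⁻¹ ∈ presAut Q k L hL hQ := by
  obtain ⟨d, hd, rfl⟩ := hd
  obtain ⟨g, τ, hp, hind⟩ := isPairAut_of_mem_gamma (⇑Q) hα
  rw [pairAut_conj_theta_eq Q hp hind d, theta_mem_presAut_iff Q k L hL hQ hn]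
  have hg : g ∈ Cfsg.Geo.quadSimilarityGroup (F := F) ⇑Q := sim_of_pair_fixed Q (hqf τ) hp
  have e : (⟨g * sigmaGL τ d.1 * g⁻¹, semi_conj_mem_sim (⇑Q) hp d.2⟩ :
      ↥(Cfsg.Geo.quadSimilarityGroup (F := F) ⇑Q)) =
      ⟨g, hg⟩ * simF (⇑Q) (hqf τ) d * ⟨g, hg⟩⁻¹ := by
    apply Subtype.ext
    rfl
  rw [e, pres_conj_iff Q k L hL hQ, pres_sigma_iff Q k L hL hQ (hqf τ) (hstd τ)]
  exact hd

include hL hQ in
theorem gamma_conj_mem_presAut_iff (hn : 7 ≤ Fintype.card ι)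
    (hqf : ∀ τ : RingAut F, Qfix (⇑Q) τ)
    (hstd : ∀ τ : RingAut F, SPres Q (k + 1) (1 : GL ι F) τ)
    {α : MulAut (Cfsg.POmega F ⇑Q)} (hα : α ∈ Cfsg.gammaPOmega F (⇑Q))
    (d : MulAut (Cfsg.POmega F ⇑Q)) :
    d ∈ presAut Q k L hL hQ ↔ α * d * α⁻¹ ∈ presAut Q k L hL hQ := by
  constructor
  · exact gamma_conj_mem_presAut Q k L hL hQ hn hqf hstd hα
  · intro h
    have := gamma_conj_mem_presAut Q k L hL hQ hn hqf hstd
      ((Cfsg.gammaPOmega F (⇑Q)).inv_mem hα) h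
    have e : α⁻¹ * (α * d * α⁻¹) * α⁻¹⁻¹ = d := by group
    rwa [e] at this

end gamma

section special

variable {ι : Type} [Fintype ι] [DecidableEq ι] {F : Type u} [Field F] [Fintype F]
  (Q : QuadraticForm F (ι → F)) (u₀ : ι → F) (hu₀ : Q u₀ = 1)
  (h2 : (2 : F) ≠ 0) (hQ : (polarBilin Q).Nondegenerate) {m : ℕ}
  (hcard : Fintype.card ι = 2 * m)

/-- a proper similarity with square multiplier is a scalar multiple of a special isometry -/
theorem exists_special_of_proper_sq'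
    (g : ↥(Cfsg.Geo.quadSimilarityGroup (F := F) ⇑Q))
    (hg : g ∈ properSub Q u₀ hu₀ h2 hQ hcard)
    (hsq : IsSquare (mult Q u₀ hu₀ g : F)) :
    ∃ s : ↥(Cfsg.isometryGroup F ⇑Q),
      s ∈ Cfsg.specialIsometryGroup F ⇑Q ∧ theta ⇑Q g = theta ⇑Q (incl _ s) := by
  obtain ⟨z, hz⟩ := hsq
  have hz2 : (mult Q u₀ hu₀ g : F) = z ^ 2 := by
    rw [hz, pow_two]
  have hz0 : z ≠ 0 := by
    rintro rfl
    have := Units.ne_zero (mult Q u₀ hu₀ g)
    rw [hz] at this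
    simp at this
  obtain ⟨s, hs⟩ := exists_iso_of_sq Q u₀ hu₀ g z hz2
  have hM : ((g.1 : GL ι F) : Matrix ι ι F) = z • ((s.1 : GL ι F) : Matrix ι ι F) := by
    apply matrix_eq_of_mulVec
    intro x
    rw [hs, Matrix.smul_mulVec]
  refine ⟨s, ?_, theta_eq_of_smul Q g s z hM⟩
  rw [mem_special_iff_det]
  rw [mem_properSub_iff] at hg
  unfold IsProper at hg
  rw [hM, Matrix.det_smul, hcard, hz2, ← pow_mul] at hg
  have hzp : z ^ (2 * m) ≠ 0 := pow_ne_zero _ hz0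
  have : z ^ (2 * m) * ((s.1 : GL ι F) : Matrix ι ι F).det = z ^ (2 * m) * 1 := by
    rw [mul_one]
    exact hg
  exact mul_left_cancel₀ hzp this

end special

end Cfsg.Agent.Lib.Helper18.OrthPl
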