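import Cfsg.Agent.Lib.Helper18.OrthPlA

set_option autoImplicit false

/-!
# Field automorphisms of `PΩ⁺`: base change of the class-preserving condition and the
centralizer of a standard field automorphism
-/

namespace Cfsg.Agent.Lib.Helper18.OrthPl

open Module QuadraticMap Matrix Cfsg.Agent.Lib.Helper25.MaxTS Cfsg.Agent.Lib.Helper25.CD
  Cfsg.Agent.Lib.Helper25.GraphSplit Cfsg.Agent.Lib.Helper25.PSim Cfsg.Agent.Lib.Helper25.Spin
  Cfsg.Agent.Lib.Helper18.OrthFld Cfsg.Agent.Lib.Helper18.OrthPar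
  Cfsg.Agent.Lib.Helper18.OrthMin Cfsg.Agent.Lib.Helper25.GFld

universe u v

section proper

variable {F : Type u} [Field F] [Fintype F] (k : ℕ)

/-- odd characteristic: class-preserving means proper -/
theorem pres_iff_proper (h2 : (2 : F) ≠ 0)
    (g : ↥(Cfsg.Geo.quadSimilarityGroup (F := F) ⇑(Qp (k + 1) F))) :
    Cfsg.PreservesSingularClasses ⇑(Qp (k + 1) F)
        ((g.1 : GL (Fin (k + 1) ⊕ Fin (k + 1)) F) : Matrix (Fin (k + 1) ⊕ Fin (k + 1)) (Fin (k + 1) ⊕ Fin (k + 1)) F) ↔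
      g ∈ properSub (Qp (k + 1) F) (uStd k) (Q_uStd k) h2 (qfOf_nondeg _) (card_plus (k + 1)) := by
  rw [mem_properSub_iff]
  unfold IsProper
  exact preserves_iff (k + 1) h2 g.1 _ (Units.ne_zero (mult (Qp (k + 1) F) (uStd k) (Q_uStd k) g))
    (fun v => Q_sim (Qp (k + 1) F) (uStd k) (Q_uStd k) g v)

theorem gPlus_eq_proper (h2 : (2 : F) ≠ 0) :
    GPlus (F := F) k =
      properAut (Qp (k + 1) F) (uStd k) (Q_uStd k) h2 (qfOf_nondeg _) (card_plus (k + 1)) := by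
  ext d
  constructor
  · rintro ⟨g, hg, rfl⟩
    exact ⟨g, (pres_iff_proper k h2 g).1 hg, rfl⟩
  · rintro ⟨g, hg, rfl⟩
    exact ⟨g, (pres_iff_proper k h2 g).2 hg, rfl⟩

end proper

section basechange

variable {F₀ : Type v} {F : Type u} [Field F₀] [Field F] [Fintype F₀] [Fintype F]
  (k : ℕ) (e : F₀ →+* F)

omit [Fintype F₀] [Fintype F] in
theorem ev_uStd : ev e (uStd k : Fin (k + 1) ⊕ Fin (k + 1) → F₀) = uStd k := by
  unfold uStd
  rw [ev_add, ev_single, ev_single]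

omit [Fintype F₀] [Fintype F] in
/-- the compatibility of the two hyperbolic forms -/
theorem hcompatP : Compat e (⇑(Qp (k + 1) F₀)) (⇑(Qp (k + 1) F)) :=
  compat_plus (k + 1) e

omit [Fintype F₀] [Fintype F] in
theorem mult_simMapP (g₀ : ↥(Cfsg.Geo.quadSimilarityGroup (F := F₀) ⇑(Qp (k + 1) F₀))) :
    (mult (Qp (k + 1) F) (uStd k) (Q_uStd k)
      (simMap e (Qp (k + 1) F₀) (Qp (k + 1) F) (hcompatP k e) g₀) : F) =
      e (mult (Qp (k + 1) F₀) (uStd k) (Q_uStd k) g₀ : F₀) := by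
  rw [mult_val, mult_val, simMap_coe, ← ev_uStd k e, ← ev_mulVec, hcompatP k e]

/-- odd `q`: base change preserves and reflects properness -/
theorem proper_simMap_iffP (h2 : (2 : F) ≠ 0) (h2₀ : (2 : F₀) ≠ 0)
    (g₀ : ↥(Cfsg.Geo.quadSimilarityGroup (F := F₀) ⇑(Qp (k + 1) F₀))) :
    simMap e (Qp (k + 1) F₀) (Qp (k + 1) F) (hcompatP k e) g₀ ∈
      properSub (Qp (k + 1) F) (uStd k) (Q_uStd k) h2 (qfOf_nondeg _) (card_plus (k + 1)) ↔
    g₀ ∈ properSub (Qp (k + 1) F₀) (uStd k) (Q_uStd k) h2₀ (qfOf_nondeg _)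
      (card_plus (k + 1)) := by
  rw [mem_properSub_iff, mem_properSub_iff]
  unfold IsProper
  rw [mult_simMapP, simMap_coe, ← map_pow]
  have hdet : (((g₀.1 : GL (Fin (k + 1) ⊕ Fin (k + 1)) F₀) :
      Matrix (Fin (k + 1) ⊕ Fin (k + 1)) (Fin (k + 1) ⊕ Fin (k + 1)) F₀).map e).det =
      e ((g₀.1 : GL (Fin (k + 1) ⊕ Fin (k + 1)) F₀) :
        Matrix (Fin (k + 1) ⊕ Fin (k + 1)) (Fin (k + 1) ⊕ Fin (k + 1)) F₀).det := by
    have := RingHom.map_det e ((g₀.1 : GL (Fin (k + 1) ⊕ Fin (k + 1)) F₀) :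
      Matrix (Fin (k + 1) ⊕ Fin (k + 1)) (Fin (k + 1) ⊕ Fin (k + 1)) F₀)
    rw [RingHom.mapMatrix_apply] at this
    exact this.symm
  rw [hdet]
  exact e.injective.eq_iff

/-- base change preserves and reflects the class-preserving condition -/
theorem pres_simMap_iffP (hk : 2 ≤ k)
    (g₀ : ↥(Cfsg.Geo.quadSimilarityGroup (F := F₀) ⇑(Qp (k + 1) F₀))) :
    Cfsg.PreservesSingularClasses ⇑(Qp (k + 1) F)
      (((simMap e (Qp (k + 1) F₀) (Qp (k + 1) F) (hcompatP k e) g₀).1 :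
        GL (Fin (k + 1) ⊕ Fin (k + 1)) F) : Matrix (Fin (k + 1) ⊕ Fin (k + 1)) (Fin (k + 1) ⊕ Fin (k + 1)) F) ↔
    Cfsg.PreservesSingularClasses ⇑(Qp (k + 1) F₀)
      ((g₀.1 : GL (Fin (k + 1) ⊕ Fin (k + 1)) F₀) : Matrix (Fin (k + 1) ⊕ Fin (k + 1)) (Fin (k + 1) ⊕ Fin (k + 1)) F₀) := by
  by_cases h2 : (2 : F) = 0
  · have h2₀ : (2 : F₀) = 0 := by
      apply e.injective
      rw [map_ofNat, h2, map_zero]
    have hQ₀ : (polarBilin (Qp (k + 1) F₀)).Nondegenerate := qfOf_nondeg _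
    have hQ : (polarBilin (Qp (k + 1) F)).Nondegenerate := qfOf_nondeg _
    have hex : Fintype.card F₀ ≠ 2 ∨ Fintype.card (Fin (k + 1) ⊕ Fin (k + 1)) ≠ 4 := by
      right
      rw [card_plus_idx]
      omega
    obtain ⟨z₀, vs₀, hz₀, hvs₀, hgz⟩ := sim_eq_smul_word h2₀ _ hQ₀ hex g₀.1 g₀.2
    have hc := hcompatP k e
    have hmap : ((g₀.1 : GL (Fin (k + 1) ⊕ Fin (k + 1)) F₀) :
        Matrix (Fin (k + 1) ⊕ Fin (k + 1)) (Fin (k + 1) ⊕ Fin (k + 1)) F₀).map e =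
        e z₀ • (((wordG (Qp (k + 1) F) (vs₀.map (ev e)) :
          ↥(Cfsg.isometryGroup F ⇑(Qp (k + 1) F))) :
          GL (Fin (k + 1) ⊕ Fin (k + 1)) F) :
          Matrix (Fin (k + 1) ⊕ Fin (k + 1)) (Fin (k + 1) ⊕ Fin (k + 1)) F) := by
      rw [← isoMap_wordG e (Qp (k + 1) F₀) _ hc, isoMap_coe, hgz]
      ext i j
      simp [Matrix.map_apply, Matrix.smul_apply]
    have hz : e z₀ ≠ 0 := by
      intro h
      apply hz₀
      apply e.injective
      rw [h, map_zero]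
    have hvs : ∀ w ∈ vs₀.map (ev e), Qp (k + 1) F w ≠ 0 := by
      intro w hw
      obtain ⟨v, hv, rfl⟩ := List.mem_map.1 hw
      have := hc v
      intro h0
      apply hvs₀ v hv
      apply e.injective
      rw [map_zero, ← this]
      exact h0
    rw [simMap_coe, hmap, pres_smul _ hz,
      pres_wordG (k + 1) (Qp (k + 1) F) (LinearEquiv.refl F _) (fun _ => rfl) hQ _ hvs, hgz,
      pres_smul _ hz₀,
      pres_wordG (k + 1) (Qp (k + 1) F₀) (LinearEquiv.refl F₀ _) (fun _ => rfl) hQ₀ _ hvs₀,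
      List.length_map]
  · have h2₀ : (2 : F₀) ≠ 0 := by
      intro h
      apply h2
      have := congrArg e h
      rwa [map_ofNat, map_zero] at this
    rw [pres_iff_proper k h2, pres_iff_proper k h2₀]
    exact proper_simMap_iffP k e h2 h2₀ g₀

/-- **base change**: `θ(g₀ ⊗ F)` is inner-diagonal iff `θ₀(g₀)` is -/
theorem theta_simMap_mem_iffP (hk : 3 ≤ k)
    (g₀ : ↥(Cfsg.Geo.quadSimilarityGroup (F := F₀) ⇑(Qp (k + 1) F₀))) :
    theta ⇑(Qp (k + 1) F) (simMap e (Qp (k + 1) F₀) (Qp (k + 1) F) (hcompatP k e) g₀) ∈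
        GPlus (F := F) k ↔
      theta ⇑(Qp (k + 1) F₀) g₀ ∈ GPlus (F := F₀) k := by
  have hn : 7 ≤ Fintype.card (Fin (k + 1) ⊕ Fin (k + 1)) := by
    rw [card_plus_idx]
    omega
  rw [theta_mem_presAut_iff (Qp (k + 1) F) k (LinearEquiv.refl F _) (fun _ => rfl)
      (qfOf_nondeg _) hn,
    theta_mem_presAut_iff (Qp (k + 1) F₀) k (LinearEquiv.refl F₀ _) (fun _ => rfl)
      (qfOf_nondeg _) hn]
  exact pres_simMap_iffP k e (by omega) g₀

/-- **the centralizer** of a standard field automorphism in `Inndiag(PΩ⁺)` -/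
theorem plus_centralizer_std (hk : 3 ≤ k)
    {σ : RingAut F} {φ : MulAut (Cfsg.POmega F ⇑(Qp (k + 1) F))}
    (hφ : Cfsg.IsFieldAutPOmegaOf (⇑(Qp (k + 1) F)) σ φ)
    (r : ℕ) (hσ : orderOf σ = r) (hr : 0 < r) (he : ∀ x : F, σ x = x ↔ x ∈ Set.range e) :
    Nonempty (↥(GPlus (F := F) k ⊓ Subgroup.centralizer {φ}) ≃* ↥(GPlus (F := F₀) k)) := by
  have hc := hcompatP k e
  have hQ₀ : (polarBilin (Qp (k + 1) F₀)).Nondegenerate := qfOf_nondeg _
  have hQ : (polarBilin (Qp (k + 1) F)).Nondegenerate := qfOf_nondeg _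
  have hn : 7 ≤ Fintype.card (Fin (k + 1) ⊕ Fin (k + 1)) := by
    rw [card_plus_idx]
    omega
  have he' : ∀ b, σ (e b) = e b := fun b => (he _).2 ⟨b, rfl⟩
  have hfix : Qfix (⇑(Qp (k + 1) F)) σ := qfix_plus (k + 1) σ
  apply nonempty_equiv_of_ker_eq
    (PsiF e (Qp (k + 1) F₀) (Qp (k + 1) F) hc) (theta ⇑(Qp (k + 1) F₀))
    (ker_PsiF e _ _ hc hQ₀ hQ hn)
  · rw [range_PsiF e _ _ hc hfix hφ hQ hn r hσ hr he]
    apply inf_le_inf_right
    rintro _ ⟨g, -, rfl⟩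
    exact ⟨g, rfl⟩
  · rintro _ ⟨g, -, rfl⟩
    exact ⟨g, rfl⟩
  · intro g₀
    rw [Subgroup.mem_inf, PsiF_apply, theta_simMap_mem_iffP k e hk g₀]
    constructor
    · intro h
      exact h.1
    · intro h
      exact ⟨h, PsiF_mem_centralizer e _ _ hc hfix hφ he' g₀⟩

end basechange

end Cfsg.Agent.Lib.Helper18.OrthPl
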