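import Cfsg.Agent.Lib.Helper18.OrthPlB

set_option autoImplicit false

/-!
# Field automorphisms of `PΩ⁺`, standard case: the number of classes into which the
`Inndiag`-class splits
-/

namespace Cfsg.Agent.Lib.Helper18.OrthPl

open Module QuadraticMap Matrix Cfsg.Agent.Lib.Helper25.MaxTS Cfsg.Agent.Lib.Helper25.CD
  Cfsg.Agent.Lib.Helper25.GraphSplit Cfsg.Agent.Lib.Helper25.PSim Cfsg.Agent.Lib.Helper25.Spin
  Cfsg.Agent.Lib.Helper18.OrthFld Cfsg.Agent.Lib.Helper18.OrthPar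
  Cfsg.Agent.Lib.Helper18.OrthMin Cfsg.Agent.Lib.Helper25.GFld

universe u v

section dm

variable {F₀ : Type v} {F : Type u} [Field F₀] [Field F] (m : ℕ) (e : F₀ →+* F)

theorem Dm_map (c : F₀) : (Dm m c).map e = Dm m (e c) := by
  unfold Dm
  ext i j
  rw [Matrix.map_apply]
  by_cases hij : i = j
  · subst hij
    rw [Matrix.diagonal_apply_eq, Matrix.diagonal_apply_eq]
    rcases i with i | i <;> simp
  · rw [Matrix.diagonal_apply_ne _ hij, Matrix.diagonal_apply_ne _ hij, map_zero]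

end dm

section delta

variable {F₀ : Type v} {F : Type u} [Field F₀] [Field F] [Fintype F₀] [Fintype F]
  (k : ℕ) (e : F₀ →+* F)

/-- the test element: `diag(ν, 1)` over the subfield, `ν` a nonsquare -/
theorem exists_test (h2₀ : (2 : F₀) ≠ 0) :
    ∃ (ν : F₀) (δ₀ : ↥(Cfsg.Geo.quadSimilarityGroup (F := F₀) ⇑(Qp (k + 1) F₀))),
      ¬ IsSquare ν ∧ ν ≠ 0 ∧
      ((δ₀.1 : GL (Fin (k + 1) ⊕ Fin (k + 1)) F₀) :
        Matrix (Fin (k + 1) ⊕ Fin (k + 1)) (Fin (k + 1) ⊕ Fin (k + 1)) F₀) = Dm (k + 1) ν ∧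
      (mult (Qp (k + 1) F₀) (uStd k) (Q_uStd k) δ₀ : F₀) = ν ∧
      δ₀ ∈ properSub (Qp (k + 1) F₀) (uStd k) (Q_uStd k) h2₀ (qfOf_nondeg _)
        (card_plus (k + 1)) := by
  obtain ⟨ν, hν⟩ := FiniteField.exists_nonsquare (F := F₀) (ringChar_ne_two h2₀)
  have hν0 : ν ≠ 0 := by
    rintro rfl
    exact hν ⟨0, by simp⟩
  obtain ⟨δ₀, hδ₀⟩ := exists_delta (k + 1) ν hν0
  obtain ⟨hmult, hprop, -⟩ := delta_facts (k + 1) (uStd k) (Q_uStd k) h2₀ ν hν0 δ₀ hδ₀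
  exact ⟨ν, δ₀, hν, hν0, hδ₀, hmult, hprop⟩

end delta

section sup

variable {F₀ : Type v} {F : Type u} [Field F₀] [Field F] [Fintype F₀] [Fintype F]
  (k : ℕ) (e : F₀ →+* F)

/-- `Inndiag = Inn · C_{Inndiag}(φ)` for a standard field automorphism of odd order -/
theorem gPlus_le_sup (hk : 3 ≤ k) (h2 : (2 : F) ≠ 0)
    {σ : RingAut F} {φ : MulAut (Cfsg.POmega F ⇑(Qp (k + 1) F))}
    (hφ : Cfsg.IsFieldAutPOmegaOf (⇑(Qp (k + 1) F)) σ φ)
    (r : ℕ) (hσ : orderOf σ = r) (hr : 0 < r) (hodd : Odd r)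
    (he : ∀ x : F, σ x = x ↔ x ∈ Set.range e) :
    GPlus (F := F) k ≤
      Cfsg.Inn (Cfsg.POmega F ⇑(Qp (k + 1) F)) ⊔
        (GPlus (F := F) k ⊓ Subgroup.centralizer {φ}) := by
  have h2₀ : (2 : F₀) ≠ 0 := by
    intro h
    apply h2
    have := congrArg e h
    rwa [map_ofNat, map_zero] at this
  have hc := hcompatP k e
  have hQ₀ : (polarBilin (Qp (k + 1) F₀)).Nondegenerate := qfOf_nondeg _
  have hQ : (polarBilin (Qp (k + 1) F)).Nondegenerate := qfOf_nondeg _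
  have hn : 7 ≤ Fintype.card (Fin (k + 1) ⊕ Fin (k + 1)) := by
    rw [card_plus_idx]
    omega
  have he' : ∀ b, σ (e b) = e b := fun b => (he _).2 ⟨b, rfl⟩
  have hfix : Qfix (⇑(Qp (k + 1) F)) σ := qfix_plus (k + 1) σ
  have hDs : ∀ s : ↥(Cfsg.isometryGroup F ⇑(Qp (k + 1) F)),
      s ∈ Cfsg.specialIsometryGroup F ⇑(Qp (k + 1) F) →
      theta ⇑(Qp (k + 1) F) (incl _ s) ∈ GPlus (F := F) k := by
    intro s hs
    rw [gPlus_eq_proper k h2]
    exact ⟨_, incl_special_mem_proper _ _ _ h2 _ _ s hs, rfl⟩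
  have hsp := special_mem_sup e (Qp (k + 1) F₀) (Qp (k + 1) F) hc h2 hQ₀ hQ hn hfix hφ r hσ hr he
    (GPlus (F := F) k) hDs hodd
  obtain ⟨ν, δ₀, hν, hν0, hδ₀, hmult, hδ₀p⟩ := exists_test (F₀ := F₀) k h2₀
  have hδp := (proper_simMap_iffP k e h2 h2₀ δ₀).2 hδ₀p
  have hδns : ¬ IsSquare (mult (Qp (k + 1) F) (uStd k) (Q_uStd k)
      (simMap e (Qp (k + 1) F₀) (Qp (k + 1) F) hc δ₀) : F) := by
    rw [mult_simMapP, hmult]
    exact not_isSquare_of_odd e h2 σ r hσ hodd he _ hν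
  have hδC : theta ⇑(Qp (k + 1) F) (simMap e (Qp (k + 1) F₀) (Qp (k + 1) F) hc δ₀) ∈
      GPlus (F := F) k ⊓ Subgroup.centralizer {φ} := by
    refine ⟨?_, ?_⟩
    · rw [gPlus_eq_proper k h2]
      exact ⟨_, hδp, rfl⟩
    · have := PsiF_mem_centralizer e _ _ hc hfix hφ he' δ₀
      rwa [PsiF_apply] at this
  intro d hd
  rw [gPlus_eq_proper k h2] at hd
  obtain ⟨g, hg, rfl⟩ := hd
  have hg' : g ∈ properSub (Qp (k + 1) F) (uStd k) (Q_uStd k) h2 (qfOf_nondeg _)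
    (card_plus (k + 1)) := hg
  by_cases hsq : IsSquare (mult (Qp (k + 1) F) (uStd k) (Q_uStd k) g : F)
  · obtain ⟨s, hs, hθ⟩ := exists_special_of_proper_sq' (Qp (k + 1) F) (uStd k) (Q_uStd k) h2
      (qfOf_nondeg _) (card_plus (k + 1)) g hg' hsq
    rw [hθ]
    exact hsp s hs
  · set δ := simMap e (Qp (k + 1) F₀) (Qp (k + 1) F) hc δ₀ with hδdef
    have hgδ : g * δ⁻¹ ∈ properSub (Qp (k + 1) F) (uStd k) (Q_uStd k) h2 (qfOf_nondeg _)
        (card_plus (k + 1)) := mul_mem hg' (inv_mem hδp)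
    have hmul : (mult (Qp (k + 1) F) (uStd k) (Q_uStd k) (g * δ⁻¹) : F) =
        (mult (Qp (k + 1) F) (uStd k) (Q_uStd k) g : F) *
        (mult (Qp (k + 1) F) (uStd k) (Q_uStd k) δ : F)⁻¹ := by
      have := map_mul (mult (Qp (k + 1) F) (uStd k) (Q_uStd k)) g δ⁻¹
      rw [this, map_inv, Units.val_mul, Units.val_inv_eq_inv_val]
    have hsq' : IsSquare (mult (Qp (k + 1) F) (uStd k) (Q_uStd k) (g * δ⁻¹) : F) := by
      rw [hmul, isSquare_mul_iff (Units.ne_zero _) (inv_ne_zero (Units.ne_zero _))]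
      constructor
      · intro h
        exact absurd h hsq
      · intro h
        exfalso
        apply hδns
        obtain ⟨z, hz⟩ := h
        refine ⟨z⁻¹, ?_⟩
        rw [← mul_inv, ← hz, inv_inv]
    obtain ⟨s, hs, hθ⟩ := exists_special_of_proper_sq' (Qp (k + 1) F) (uStd k) (Q_uStd k) h2
      (qfOf_nondeg _) (card_plus (k + 1)) (g * δ⁻¹) hgδ hsq'
    have e2 : theta ⇑(Qp (k + 1) F) g =
        theta ⇑(Qp (k + 1) F) (g * δ⁻¹) * theta ⇑(Qp (k + 1) F) δ := by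
      rw [← map_mul, inv_mul_cancel_right]
    rw [e2, hθ]
    exact mul_mem (hsp s hs) (Subgroup.mem_sup_right hδC)

/-- **the class does not split**: standard case, odd order, odd characteristic -/
theorem plus_split_odd_std (hk : 3 ≤ k) (h2 : (2 : F) ≠ 0)
    {σ : RingAut F} {φ : MulAut (Cfsg.POmega F ⇑(Qp (k + 1) F))}
    (hφ : Cfsg.IsFieldAutPOmegaOf (⇑(Qp (k + 1) F)) σ φ)
    (r : ℕ) (hσ : orderOf σ = r) (hr : 0 < r) (hodd : Odd r)
    (he : ∀ x : F, σ x = x ↔ x ∈ Set.range e) :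
    Cfsg.splitClassCount (GPlus (F := F) k) (Cfsg.Inn (Cfsg.POmega F ⇑(Qp (k + 1) F))) φ = 1 := by
  have hQp : (polarBilin (Qp (k + 1) F)).Nondegenerate := qfOf_nondeg _
  have hKH : Cfsg.Inn (Cfsg.POmega F ⇑(Qp (k + 1) F)) ≤ GPlus (F := F) k :=
    inn_le_presAut (Qp (k + 1) F) k (LinearEquiv.refl F _) (fun _ => rfl) hQp
  rw [Cfsg.Agent.Lib.Helper18.PSLnFld.splitClassCount_eq (GPlus (F := F) k)
    (Cfsg.Inn (Cfsg.POmega F ⇑(Qp (k + 1) F))) hKH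
    (fun h _ k' hk' => (Cfsg.innNormal _).conj_mem k' hk' h) φ
    (Cfsg.Inn (Cfsg.POmega F ⇑(Qp (k + 1) F)) ⊔
      (GPlus (F := F) k ⊓ Subgroup.centralizer {φ}))
    (fun x => mem_sup_iff (Qp (k + 1) F) _ x), Subgroup.relIndex_eq_one]
  exact gPlus_le_sup k e hk h2 hφ r hσ hr hodd he

end sup

end Cfsg.Agent.Lib.Helper18.OrthPl
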