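import Cfsg.Agent.Lib.Helper18.OrthPlC

set_option autoImplicit false

/-!
# Field automorphisms of `PΩ⁺`, standard case of order two in odd characteristic: the
`Inndiag`-class splits into two or four classes
-/

namespace Cfsg.Agent.Lib.Helper18.OrthPl

open Module QuadraticMap Matrix Cfsg.Agent.Lib.Helper25.MaxTS Cfsg.Agent.Lib.Helper25.CD
  Cfsg.Agent.Lib.Helper25.GraphSplit Cfsg.Agent.Lib.Helper25.PSim Cfsg.Agent.Lib.Helper25.Spin
  Cfsg.Agent.Lib.Helper18.OrthFld Cfsg.Agent.Lib.Helper18.OrthPar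
  Cfsg.Agent.Lib.Helper18.OrthMin Cfsg.Agent.Lib.Helper25.GFld

universe u v

section crit

variable {F₀ : Type v} {F : Type u} [Field F₀] [Field F] [Fintype F₀] [Fintype F]
  (k : ℕ) (e : F₀ →+* F)

/-- the image of `diag(ν, 1)`, `ν` a nonsquare of the subfield of index two, is inner exactly
when `m` is even or `|F₀| ≡ 3 (mod 4)` -/
theorem theta_delta_mem_inn_iff (hk : 3 ≤ k) (h2 : (2 : F) ≠ 0)
    (hneg : ∃ g : ↥(Cfsg.isometryGroup F ⇑(Qp (k + 1) F)), g ∈ Cfsg.Omega F ⇑(Qp (k + 1) F) ∧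
      ((g : GL (Fin (k + 1) ⊕ Fin (k + 1)) F) :
        Matrix (Fin (k + 1) ⊕ Fin (k + 1)) (Fin (k + 1) ⊕ Fin (k + 1)) F) = -1)
    (hcard : Fintype.card F = Fintype.card F₀ ^ 2) (ν : F₀) (hν : ¬ IsSquare ν)
    (δ₀ : ↥(Cfsg.Geo.quadSimilarityGroup (F := F₀) ⇑(Qp (k + 1) F₀)))
    (hδ₀ : ((δ₀.1 : GL (Fin (k + 1) ⊕ Fin (k + 1)) F₀) :
        Matrix (Fin (k + 1) ⊕ Fin (k + 1)) (Fin (k + 1) ⊕ Fin (k + 1)) F₀) = Dm (k + 1) ν) :
    theta ⇑(Qp (k + 1) F) (simMap e (Qp (k + 1) F₀) (Qp (k + 1) F) (hcompatP k e) δ₀) ∈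
        Cfsg.Inn (Cfsg.POmega F ⇑(Qp (k + 1) F)) ↔
      ¬ (Odd (k + 1) ∧ Fintype.card F₀ % 4 = 1) := by
  have hQp : (polarBilin (Qp (k + 1) F)).Nondegenerate := qfOf_nondeg _
  have hnp : 7 ≤ Fintype.card (Fin (k + 1) ⊕ Fin (k + 1)) := by
    rw [card_plus_idx]
    omega
  have hν0 : ν ≠ 0 := by
    rintro rfl
    exact hν ⟨0, by simp⟩
  obtain ⟨c, hcc⟩ := isSquare_of_two e h2 hcard ν
  have hc' : c ^ 2 = e ν := by rw [pow_two, ← hcc]
  have hc0 : c ≠ 0 := by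
    rintro rfl
    apply hν0
    apply e.injective
    rw [map_zero, ← hc']
    simp
  set s : ↥(Cfsg.isometryGroup F (Cfsg.quadFormPlus (k + 1) F)) :=
    phiGL (dG (fun _ : Fin (k + 1) => c) (fun _ => hc0)) with hs
  have hM : ((((simMap e (Qp (k + 1) F₀) (Qp (k + 1) F) (hcompatP k e) δ₀)).1 :
      GL (Fin (k + 1) ⊕ Fin (k + 1)) F) :
        Matrix (Fin (k + 1) ⊕ Fin (k + 1)) (Fin (k + 1) ⊕ Fin (k + 1)) F) =
      c • ((s.1 : GL (Fin (k + 1) ⊕ Fin (k + 1)) F) :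
        Matrix (Fin (k + 1) ⊕ Fin (k + 1)) (Fin (k + 1) ⊕ Fin (k + 1)) F) := by
    apply matrix_eq_of_mulVec
    intro x
    rw [simMap_coe, hδ₀, Dm_map, hcc, Matrix.smul_mulVec, phiGL_dG_apply]
    funext j
    rcases j with i | i
    · unfold Dm
      rw [Matrix.mulVec_diagonal]
      simp only [Sum.elim_inl, Pi.smul_apply, smul_eq_mul, scaleS, Finset.mem_univ, if_true]
      ring
    · unfold Dm
      rw [Matrix.mulVec_diagonal]
      simp only [Sum.elim_inr, Pi.smul_apply, smul_eq_mul, scaleS, Finset.mem_univ, if_true]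
      field_simp
  have hθ : theta ⇑(Qp (k + 1) F) (simMap e (Qp (k + 1) F₀) (Qp (k + 1) F) (hcompatP k e) δ₀) =
      theta ⇑(Qp (k + 1) F) (incl ⇑(Qp (k + 1) F) s) :=
    theta_eq_of_smul (Qp (k + 1) F) _ s c hM
  rw [hθ, theta_incl_mem_inn_iff (Qp (k + 1) F) hQp hnp hneg s]
  have hmem : s ∈ Cfsg.Omega F ⇑(Qp (k + 1) F) ↔
      IsSquare (∏ _i : Fin (k + 1), c) := phiGL_dG_mem_iff h2 _ _
  refine Iff.trans hmem ?_
  rw [Finset.prod_const, Finset.card_univ, Fintype.card_fin]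
  have hcsq : IsSquare c ↔ Fintype.card F₀ % 4 = 3 := isSquare_sqrt_iff e h2 hcard hν hc'
  have h2₀ : (2 : F₀) ≠ 0 := by
    intro h
    apply h2
    have := congrArg e h
    rwa [map_ofNat, map_zero] at this
  have hodd₀ : Odd (Fintype.card F₀) := odd_card_of_two_ne_zero h2₀
  have hq : Fintype.card F₀ % 4 = 1 ∨ Fintype.card F₀ % 4 = 3 := by
    obtain ⟨j, hj⟩ := hodd₀
    omega
  rcases Nat.even_or_odd (k + 1) with hev | hod
  · constructor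
    · intro _ h
      exact (Nat.not_even_iff_odd.2 h.1) hev
    · intro _
      exact isSquare_pow_of_even (k + 1) c hev
  · constructor
    · intro hsq h
      have hcs : IsSquare c := by
        by_contra hns
        exact not_isSquare_pow_of_odd (k + 1) c hns hod hsq
      have := hcsq.1 hcs
      omega
    · intro h
      have h3 : Fintype.card F₀ % 4 = 3 := by
        rcases hq with h1 | h3
        · exact absurd ⟨hod, h1⟩ h
        · exact h3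
      obtain ⟨z, hz⟩ := hcsq.2 h3
      refine ⟨z ^ (k + 1), ?_⟩
      rw [hz, mul_pow]

end crit

section dich

variable {F₀ : Type v} {F : Type u} [Field F₀] [Field F] [Fintype F₀] [Fintype F]
  (k : ℕ) (e : F₀ →+* F)

/-- proper similarities over the subfield of index two with square multiplier induce inner
automorphisms -/
theorem theta_simMap_mem_inn_of_sq (hk : 3 ≤ k) (h2 : (2 : F) ≠ 0) (h2₀ : (2 : F₀) ≠ 0)
    (hcard : Fintype.card F = Fintype.card F₀ ^ 2)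
    (g₀ : ↥(Cfsg.Geo.quadSimilarityGroup (F := F₀) ⇑(Qp (k + 1) F₀)))
    (hg₀ : g₀ ∈ properSub (Qp (k + 1) F₀) (uStd k) (Q_uStd k) h2₀ (qfOf_nondeg _)
      (card_plus (k + 1)))
    (hsq : IsSquare (mult (Qp (k + 1) F₀) (uStd k) (Q_uStd k) g₀ : F₀)) :
    theta ⇑(Qp (k + 1) F) (simMap e (Qp (k + 1) F₀) (Qp (k + 1) F) (hcompatP k e) g₀) ∈
      Cfsg.Inn (Cfsg.POmega F ⇑(Qp (k + 1) F)) := by
  have hc := hcompatP k e
  have hQ₀ : (polarBilin (Qp (k + 1) F₀)).Nondegenerate := qfOf_nondeg _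
  have hQ : (polarBilin (Qp (k + 1) F)).Nondegenerate := qfOf_nondeg _
  have hn : 7 ≤ Fintype.card (Fin (k + 1) ⊕ Fin (k + 1)) := by
    rw [card_plus_idx]
    omega
  obtain ⟨s₀, hs₀, hθ⟩ := exists_special_of_proper_sq' (Qp (k + 1) F₀) (uStd k) (Q_uStd k) h2₀
    (qfOf_nondeg _) (card_plus (k + 1)) g₀ hg₀ hsq
  have hker : g₀⁻¹ * incl _ s₀ ∈ (theta ⇑(Qp (k + 1) F₀)).ker := by
    rw [MonoidHom.mem_ker, map_mul, map_inv, hθ, inv_mul_cancel]
  rw [← ker_PsiF e _ _ hc hQ₀ hQ hn, MonoidHom.mem_ker, map_mul, map_inv,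
    inv_mul_eq_one] at hker
  rw [← PsiF_apply, hker, PsiF_apply, theta_simMap_incl, inn_eq']
  exact ⟨_, ⟨isoMap e _ _ hc s₀, isoMap_special_mem_omega e _ _ hc h2 hQ₀ hQ hcard s₀ hs₀, rfl⟩,
    rfl⟩

/-- every element of the centralizer is inner, or becomes inner after multiplication by the
image of a fixed proper similarity with nonsquare multiplier -/
theorem cent_mem_inn_orP (hk : 3 ≤ k) (h2 : (2 : F) ≠ 0) (h2₀ : (2 : F₀) ≠ 0)
    (hcard : Fintype.card F = Fintype.card F₀ ^ 2)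
    {σ : RingAut F} {φ : MulAut (Cfsg.POmega F ⇑(Qp (k + 1) F))}
    (hφ : Cfsg.IsFieldAutPOmegaOf (⇑(Qp (k + 1) F)) σ φ)
    (hσ : orderOf σ = 2) (he : ∀ x : F, σ x = x ↔ x ∈ Set.range e)
    (δ₀ : ↥(Cfsg.Geo.quadSimilarityGroup (F := F₀) ⇑(Qp (k + 1) F₀)))
    (hδp : δ₀ ∈ properSub (Qp (k + 1) F₀) (uStd k) (Q_uStd k) h2₀ (qfOf_nondeg _)
      (card_plus (k + 1)))
    (hδns : ¬ IsSquare (mult (Qp (k + 1) F₀) (uStd k) (Q_uStd k) δ₀ : F₀))
    (c : MulAut (Cfsg.POmega F ⇑(Qp (k + 1) F)))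
    (hcC : c ∈ GPlus (F := F) k ⊓ Subgroup.centralizer {φ}) :
    c ∈ Cfsg.Inn (Cfsg.POmega F ⇑(Qp (k + 1) F)) ∨
      c * theta ⇑(Qp (k + 1) F) (simMap e (Qp (k + 1) F₀) (Qp (k + 1) F) (hcompatP k e) δ₀) ∈
        Cfsg.Inn (Cfsg.POmega F ⇑(Qp (k + 1) F)) := by
  have hc := hcompatP k e
  have hQ : (polarBilin (Qp (k + 1) F)).Nondegenerate := qfOf_nondeg _
  have hn : 7 ≤ Fintype.card (Fin (k + 1) ⊕ Fin (k + 1)) := by
    rw [card_plus_idx]
    omega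
  have hfix : Qfix (⇑(Qp (k + 1) F)) σ := qfix_plus (k + 1) σ
  have hrange : c ∈ (PsiF e (Qp (k + 1) F₀) (Qp (k + 1) F) hc).range := by
    rw [range_PsiF e _ _ hc hfix hφ hQ hn 2 hσ (by norm_num) he]
    refine ⟨?_, hcC.2⟩
    obtain ⟨g, -, hg⟩ := hcC.1
    exact ⟨g, hg⟩
  obtain ⟨g₀, rfl⟩ := hrange
  rw [PsiF_apply] at hcC ⊢
  have h1 : g₀ ∈ properSub (Qp (k + 1) F₀) (uStd k) (Q_uStd k) h2₀ (qfOf_nondeg _)
      (card_plus (k + 1)) := by
    have h3 := (theta_simMap_mem_iffP k e hk g₀).1 hcC.1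
    rw [theta_mem_presAut_iff (Qp (k + 1) F₀) k (LinearEquiv.refl F₀ _) (fun _ => rfl)
      (qfOf_nondeg _) hn] at h3
    exact (pres_iff_proper k h2₀ g₀).1 h3
  by_cases hsq : IsSquare (mult (Qp (k + 1) F₀) (uStd k) (Q_uStd k) g₀ : F₀)
  · left
    exact theta_simMap_mem_inn_of_sq k e hk h2 h2₀ hcard g₀ h1 hsq
  · right
    rw [← map_mul, ← map_mul]
    apply theta_simMap_mem_inn_of_sq k e hk h2 h2₀ hcard _ (mul_mem h1 hδp)
    rw [map_mul, Units.val_mul, isSquare_mul_iff (Units.ne_zero _) (Units.ne_zero _)]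
    exact ⟨fun h => absurd h hsq, fun h => absurd h hδns⟩

end dich

section count

variable {F₀ : Type v} {F : Type u} [Field F₀] [Field F] [Fintype F₀] [Fintype F]
  (k : ℕ) (e : F₀ →+* F)

/-- the class count for a standard field automorphism of order two, odd characteristic -/
theorem plus_split_two_std (hk : 3 ≤ k) (h2 : (2 : F) ≠ 0)
    {σ : RingAut F} {φ : MulAut (Cfsg.POmega F ⇑(Qp (k + 1) F))}
    (hφ : Cfsg.IsFieldAutPOmegaOf (⇑(Qp (k + 1) F)) σ φ)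
    (hσ : orderOf σ = 2) (he : ∀ x : F, σ x = x ↔ x ∈ Set.range e)
    (hcard : Fintype.card F = Fintype.card F₀ ^ 2) :
    ((Odd (k + 1) ∧ Fintype.card F₀ % 4 = 1) →
      Cfsg.splitClassCount (GPlus (F := F) k) (Cfsg.Inn (Cfsg.POmega F ⇑(Qp (k + 1) F)))
        φ = 2) ∧
    (¬ (Odd (k + 1) ∧ Fintype.card F₀ % 4 = 1) →
      Cfsg.splitClassCount (GPlus (F := F) k) (Cfsg.Inn (Cfsg.POmega F ⇑(Qp (k + 1) F)))
        φ = 4) := by
  have hQp : (polarBilin (Qp (k + 1) F)).Nondegenerate := qfOf_nondeg _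
  have hc := hcompatP k e
  have h2₀ : (2 : F₀) ≠ 0 := by
    intro h
    apply h2
    have := congrArg e h
    rwa [map_ofNat, map_zero] at this
  have he' : ∀ b, σ (e b) = e b := fun b => (he _).2 ⟨b, rfl⟩
  have hfix : Qfix (⇑(Qp (k + 1) F)) σ := qfix_plus (k + 1) σ
  have hneg := neg_one_mem_omega_plus (F₀ := F₀) k h2 hcard
  have hidx := relIndex_inn_gPlus k h2 hk hneg
  obtain ⟨ν, δ₀, hν, hν0, hδ₀, hmult, hδ₀p⟩ := exists_test (F₀ := F₀) k h2₀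
  have hδns : ¬ IsSquare (mult (Qp (k + 1) F₀) (uStd k) (Q_uStd k) δ₀ : F₀) := by
    rw [hmult]
    exact hν
  have hcrit := theta_delta_mem_inn_iff k e hk h2 hneg hcard ν hν δ₀ hδ₀
  obtain ⟨D, hDd⟩ : ∃ D, D = theta ⇑(Qp (k + 1) F)
    (simMap e (Qp (k + 1) F₀) (Qp (k + 1) F) (hcompatP k e) δ₀) := ⟨_, rfl⟩
  have hδC : D ∈ GPlus (F := F) k ⊓ Subgroup.centralizer {φ} := by
    rw [hDd]
    refine ⟨?_, ?_⟩
    · rw [gPlus_eq_proper k h2]
      exact ⟨_, (proper_simMap_iffP k e h2 h2₀ δ₀).2 hδ₀p, rfl⟩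
    · have := PsiF_mem_centralizer e _ _ hc hfix hφ he' δ₀
      rwa [PsiF_apply] at this
  have hdich : ∀ c ∈ GPlus (F := F) k ⊓ Subgroup.centralizer {φ},
      c ∈ Cfsg.Inn (Cfsg.POmega F ⇑(Qp (k + 1) F)) ∨
      c * D ∈ Cfsg.Inn (Cfsg.POmega F ⇑(Qp (k + 1) F)) := by
    intro c hcC
    rw [hDd]
    exact cent_mem_inn_orP k e hk h2 h2₀ hcard hφ hσ he δ₀ hδ₀p hδns c hcC
  rw [← hDd] at hcrit
  have hKH : Cfsg.Inn (Cfsg.POmega F ⇑(Qp (k + 1) F)) ≤ GPlus (F := F) k :=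
    inn_le_presAut (Qp (k + 1) F) k (LinearEquiv.refl F _) (fun _ => rfl) hQp
  obtain ⟨C, hCd⟩ : ∃ C, C = GPlus (F := F) k ⊓ Subgroup.centralizer {φ} := ⟨_, rfl⟩
  rw [← hCd] at hδC hdich
  have hcount := Cfsg.Agent.Lib.Helper18.PSLnFld.splitClassCount_eq (GPlus (F := F) k)
    (Cfsg.Inn (Cfsg.POmega F ⇑(Qp (k + 1) F))) hKH
    (fun h _ k' hk' => (Cfsg.innNormal _).conj_mem k' hk' h) φ
    (Cfsg.Inn (Cfsg.POmega F ⇑(Qp (k + 1) F)) ⊔ C)
    (fun x => by rw [hCd]; exact mem_sup_iff (Qp (k + 1) F) _ x)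
  rw [hcount]
  haveI : (Cfsg.Inn (Cfsg.POmega F ⇑(Qp (k + 1) F))).Normal := Cfsg.innNormal _
  constructor
  · intro hB
    have hnin : D ∉ Cfsg.Inn (Cfsg.POmega F ⇑(Qp (k + 1) F)) :=
      fun h => (hcrit.1 h) hB
    have h1 : (Cfsg.Inn (Cfsg.POmega F ⇑(Qp (k + 1) F))).relIndex
        (Cfsg.Inn (Cfsg.POmega F ⇑(Qp (k + 1) F)) ⊔ C) = 2 := by
      rw [Subgroup.relIndex_sup_left]
      unfold Subgroup.relIndex
      rw [Subgroup.index_eq_two_iff]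
      refine ⟨⟨_, hδC⟩, fun b => ?_⟩
      rw [Subgroup.mem_subgroupOf, Subgroup.mem_subgroupOf]
      show Xor ((b : MulAut (Cfsg.POmega F ⇑(Qp (k + 1) F))) * D ∈ _)
        ((b : MulAut (Cfsg.POmega F ⇑(Qp (k + 1) F))) ∈ _)
      by_cases hb : (b : MulAut (Cfsg.POmega F ⇑(Qp (k + 1) F))) ∈
          Cfsg.Inn (Cfsg.POmega F ⇑(Qp (k + 1) F))
      · refine Or.inr ⟨hb, fun h => hnin ?_⟩
        have := mul_mem (inv_mem hb) h
        rwa [inv_mul_cancel_left] at this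
      · rcases hdich b b.2 with h | h
        · exact absurd h hb
        · exact Or.inl ⟨h, hb⟩
    have h3 := Subgroup.relIndex_mul_relIndex (Cfsg.Inn (Cfsg.POmega F ⇑(Qp (k + 1) F)))
      (Cfsg.Inn (Cfsg.POmega F ⇑(Qp (k + 1) F)) ⊔ C) (GPlus (F := F) k) le_sup_left
      (sup_le hKH (by rw [hCd]; exact inf_le_left))
    rw [h1, hidx] at h3
    omega
  · intro hA
    have hin := hcrit.2 hA
    have hCle : C ≤ Cfsg.Inn (Cfsg.POmega F ⇑(Qp (k + 1) F)) := by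
      intro c hc
      rcases hdich c hc with h | h
      · exact h
      · have := mul_mem h (inv_mem hin)
        rwa [mul_inv_cancel_right] at this
    rw [sup_eq_left.2 hCle]
    exact hidx

end count

end Cfsg.Agent.Lib.Helper18.OrthPl
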