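import Cfsg.Agent.Lib.Helper25.Tri5

set_option autoImplicit false

/-!
# Triality commutes with the standard field automorphisms of `PΩ₈⁺(F)`
-/

namespace Cfsg.Agent.Lib.Helper18.OrthPl

open Module QuadraticMap Matrix Cfsg.Agent.Lib.Helper25.CD Cfsg.Agent.Lib.Helper25.Siegel
  Cfsg.Agent.Lib.Helper25.AutO Cfsg.Agent.Lib.Helper25.Spin Cfsg.Agent.Lib.Helper25.D4
  Cfsg.Lie Cfsg.Agent.Lib.Helper7 Cfsg.Agent.Lib.Helper25.GraphSplit
  Cfsg.Agent.Lib.Helper25.AutOut Cfsg.Agent.Lib.Helper25.AutPlus Cfsg.Agent.Lib.Helper25.Tri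

section maps

variable {F : Type*} [Field F]

theorem Xm_map (σ : F ≃+* F) (a b : I8) : (Xm a b : Matrix I8 I8 F).map σ = Xm a b := by
  unfold Xm
  ext i j
  rw [Matrix.map_apply, Matrix.sub_apply, map_sub, Matrix.single_apply, Matrix.single_apply]
  split_ifs <;> simp

theorem Eab_map (σ : F ≃+* F) (a b : I8) (h : a ≠ op b) (t : F) :
    ((Eab a b h t : GL I8 F) : Matrix I8 I8 F).map σ =
      ((Eab a b h (σ t) : GL I8 F) : Matrix I8 I8 F) := by
  rw [Eab_val, Eab_val]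
  ext i j
  rw [Matrix.map_apply, Matrix.add_apply, Matrix.add_apply, Matrix.smul_apply, Matrix.smul_apply,
    map_add, smul_eq_mul, smul_eq_mul, map_mul]
  have h1 : σ ((1 : Matrix I8 I8 F) i j) = (1 : Matrix I8 I8 F) i j := by
    by_cases hij : i = j
    · subst hij
      rw [Matrix.one_apply_eq, map_one]
    · rw [Matrix.one_apply_ne hij, map_zero]
  have h2 : σ ((Xm a b : Matrix I8 I8 F) i j) = (Xm a b : Matrix I8 I8 F) i j := by
    have := congrFun (congrFun (Xm_map σ a b) i) j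
    rwa [Matrix.map_apply] at this
  rw [h1, h2]

theorem Eroot_map (σ : F ≃+* F) (r : Fin chevD4.nroots) (t : F) :
    ((Eroot r t : GL I8 F) : Matrix I8 I8 F).map σ =
      ((Eroot r (σ t) : GL I8 F) : Matrix I8 I8 F) := by
  unfold Eroot
  rw [Eab_map, map_mul, map_intCast]

end maps

section gen

variable {F : Type*} [Field F] [Fintype F]

/-- the standard field automorphism on root elements -/
theorem field_ErQ {σ : RingAut F} {φ : MulAut (Cfsg.POmega F ⇑(Qp 4 F))}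
    (hφ : Cfsg.IsFieldAutPOmegaOf (⇑(Qp 4 F)) σ φ) (r : Fin chevD4.nroots) (t : F) :
    φ (prZ ↥(Cfsg.Omega F ⇑(Qp 4 F)) (ErQ r t)) =
      prZ ↥(Cfsg.Omega F ⇑(Qp 4 F)) (ErQ r (σ t)) := by
  apply hφ (ErQ r t) (ErQ r (σ t))
  rw [ErQ_val, ErQ_val]
  exact (Eroot_map σ r t).symm

/-- `PΩ₈⁺(F)` is generated by the images of the root elements -/
theorem top_of_ErQ_mem (S : Subgroup (Cfsg.POmega F ⇑(Qp 4 F)))
    (h : ∀ (r : Fin chevD4.nroots) (t : F), prZ ↥(Cfsg.Omega F ⇑(Qp 4 F)) (ErQ r t) ∈ S) :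
    S = ⊤ := by
  -- the subgroup of `GL₈` of matrices of elements of `Ω` mapping into `S`
  let T : Subgroup (GL I8 F) :=
    ((S.comap (prZ ↥(Cfsg.Omega F ⇑(Qp 4 F)))).map
      (Cfsg.Omega F ⇑(Qp 4 F)).subtype).map (O8 F).subtype
  have hT : ∀ g : GL I8 F, g ∈ T ↔ ∃ w : ↥(Cfsg.Omega F ⇑(Qp 4 F)),
      prZ ↥(Cfsg.Omega F ⇑(Qp 4 F)) w ∈ S ∧ (w.1.1 : GL I8 F) = g := by
    intro g
    constructor
    · rintro ⟨_, ⟨w, hw, rfl⟩, rfl⟩
      exact ⟨w, hw, rfl⟩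
    · rintro ⟨w, hw, rfl⟩
      exact ⟨_, ⟨w, hw, rfl⟩, rfl⟩
  have hroot : ∀ (r : Fin chevD4.nroots) (t : F), Eroot r t ∈ T := by
    intro r t
    rw [hT]
    exact ⟨ErQ r t, h r t, ErQ_val r t⟩
  have hE0 : E0 F ≤ T := by
    unfold E0
    rw [Subgroup.closure_le]
    rintro g ⟨a, b, hab', t, rfl⟩
    by_cases hab : a = b
    · subst hab
      rw [Eab_self]
      exact one_mem _
    obtain ⟨r, hr | hr⟩ := exists_root a b hab hab'
    · obtain ⟨rfl, rfl⟩ := hr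
      rw [SetLike.mem_coe, Eab_eq_Eroot r hab' t]
      exact hroot r _
    · obtain ⟨rfl, rfl⟩ := hr
      have h' : ra r.val ≠ op (rb r.val) := (rootPair_ok r).1
      rw [SetLike.mem_coe, Eab_swap (ra r.val) (rb r.val) h' hab', Eab_eq_Eroot]
      exact hroot r _
  rw [eq_top_iff]
  intro y _
  obtain ⟨w, rfl⟩ := QuotientGroup.mk_surjective y
  have hw : (w.1.1 : GL I8 F) ∈ Om8 F := ⟨w.1, w.2, rfl⟩
  rw [Om8_eq_E0] at hw
  obtain ⟨w', hw', he⟩ := (hT _).1 (hE0 hw)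
  have : w' = w := Subtype.ext (Subtype.ext he)
  rw [← this]
  exact hw'

/-- **triality commutes with the standard field automorphisms** -/
theorem tauQ_comm_field {σ : RingAut F} {φ : MulAut (Cfsg.POmega F ⇑(Qp 4 F))}
    (hφ : Cfsg.IsFieldAutPOmegaOf (⇑(Qp 4 F)) σ φ) : tauQ F * φ = φ * tauQ F := by
  have htop := top_of_ErQ_mem
    (MonoidHom.eqLocus ((tauQ F * φ : MulAut (Cfsg.POmega F ⇑(Qp 4 F))).toMonoidHom)
      ((φ * tauQ F : MulAut (Cfsg.POmega F ⇑(Qp 4 F))).toMonoidHom)) (by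
    intro r t
    show (tauQ F * φ) (prZ ↥(Cfsg.Omega F ⇑(Qp 4 F)) (ErQ r t)) =
      (φ * tauQ F) (prZ ↥(Cfsg.Omega F ⇑(Qp 4 F)) (ErQ r t))
    rw [MulAut.mul_apply, MulAut.mul_apply, field_ErQ hφ, tauQ_ErQ, tauQ_ErQ, field_ErQ hφ,
      map_mul, map_intCast])
  apply MulEquiv.ext
  intro y
  have hy : y ∈ MonoidHom.eqLocus
      ((tauQ F * φ : MulAut (Cfsg.POmega F ⇑(Qp 4 F))).toMonoidHom)
      ((φ * tauQ F : MulAut (Cfsg.POmega F ⇑(Qp 4 F))).toMonoidHom) := by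
    rw [htop]
    trivial
  exact hy

end gen

end Cfsg.Agent.Lib.Helper18.OrthPl
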