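import Cfsg.Agent.Lib.Helper18.OrthPlD
import Cfsg.Agent.Lib.Helper18.OrthPlE

set_option autoImplicit false

/-!
# Field automorphisms of prime order of `PΩ⁺_{2m}(q)`, `m ≥ 4`: the main theorem
-/

namespace Cfsg.Agent.Lib.Helper18.OrthPl

open Module QuadraticMap Matrix Cfsg.Agent.Lib.Helper25.MaxTS Cfsg.Agent.Lib.Helper25.CD
  Cfsg.Agent.Lib.Helper25.GraphSplit Cfsg.Agent.Lib.Helper25.PSim Cfsg.Agent.Lib.Helper25.Spin
  Cfsg.Agent.Lib.Helper18.OrthFld Cfsg.Agent.Lib.Helper18.OrthPar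
  Cfsg.Agent.Lib.Helper18.OrthMin Cfsg.Agent.Lib.Helper25.GFld Cfsg.Agent.Lib.Helper25.Tri

universe u v

section abstract

theorem conj_of_commute {X : Type*} [Group X] {t α x φ : X} (hc : t * φ = φ * t)
    (hα : α * x * α⁻¹ = φ) : (t⁻¹ * α) * x * (t⁻¹ * α)⁻¹ = φ := by
  have h1 : (t⁻¹ * α) * x * (t⁻¹ * α)⁻¹ = t⁻¹ * (α * x * α⁻¹) * t := by group
  rw [h1, hα, mul_assoc, ← hc, inv_mul_cancel_left]

theorem commute_sq {X : Type*} [Group X] {t φ : X} (hc : t * φ = φ * t) :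
    t ^ 2 * φ = φ * t ^ 2 := by
  rw [pow_two, mul_assoc, hc, ← mul_assoc, hc, mul_assoc]

end abstract

section four

variable {F : Type u} [Field F] [Fintype F]

/-- dimension eight: a field automorphism is conjugate under `PΓO` to a standard one -/
theorem exists_gamma_conj_four (p : ℕ) [Fact p.Prime] [CharP F p]
    (x : MulAut (Cfsg.POmega F ⇑(Qp 4 F)))
    (hx : ∃ (α φ : MulAut (Cfsg.POmega F ⇑(Qp 4 F))) (σ : F ≃+* F),
      σ ≠ RingEquiv.refl F ∧ Cfsg.IsFieldAutPOmegaOf (⇑(Qp 4 F)) σ φ ∧ α * x * α⁻¹ = φ) :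
    ∃ (γ φ : MulAut (Cfsg.POmega F ⇑(Qp 4 F))) (σ : F ≃+* F),
      γ ∈ Cfsg.gammaPOmega F ⇑(Qp 4 F) ∧ σ ≠ RingEquiv.refl F ∧
      Cfsg.IsFieldAutPOmegaOf (⇑(Qp 4 F)) σ φ ∧ γ * x * γ⁻¹ = φ := by
  obtain ⟨α, φ, σ, hσ, hφ, hα⟩ := hx
  have hcomm : tauQ F * φ = φ * tauQ F := tauQ_comm_field (σ := σ) hφ
  rcases aut_cases p α with h | h | h
  · exact ⟨α, φ, σ, h, hσ, hφ, hα⟩
  · exact ⟨_, φ, σ, h, hσ, hφ, conj_of_commute hcomm hα⟩
  · exact ⟨_, φ, σ, h, hσ, hφ, conj_of_commute (commute_sq hcomm) hα⟩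

end four

section main

variable {F₀ : Type v} {F : Type u} [Field F₀] [Field F] [Fintype F₀] [Fintype F] (k : ℕ)

/-- a field automorphism of `PΩ⁺_{2m}(F)` is conjugate under `PΓO` to a standard one -/
theorem exists_gamma_conj (p : ℕ) [Fact p.Prime] [CharP F p] (hk : 3 ≤ k)
    (hgam : 4 ≤ k → Cfsg.gammaPOmega F (Cfsg.quadFormPlus (k + 1) F) = ⊤)
    (x : MulAut (Cfsg.POmega F ⇑(Qp (k + 1) F)))
    (hx : Cfsg.IsFieldAutClassPOmega (Cfsg.quadFormPlus (k + 1) F) x) :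
    ∃ (γ φ : MulAut (Cfsg.POmega F ⇑(Qp (k + 1) F))) (σ : F ≃+* F),
      γ ∈ Cfsg.gammaPOmega F ⇑(Qp (k + 1) F) ∧ σ ≠ RingEquiv.refl F ∧
      Cfsg.IsFieldAutPOmegaOf (⇑(Qp (k + 1) F)) σ φ ∧ γ * x * γ⁻¹ = φ := by
  by_cases h4 : 4 ≤ k
  · obtain ⟨α, φ, σ, hσ, hφ, hα⟩ := hx
    refine ⟨α, φ, σ, ?_, hσ, hφ, hα⟩
    have := hgam h4
    show α ∈ Cfsg.gammaPOmega F (Cfsg.quadFormPlus (k + 1) F)
    rw [this]
    trivial
  · obtain rfl : k = 3 := by omega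
    exact exists_gamma_conj_four p x hx

/-- **S2715** in terms of `k = m - 1` -/
theorem plus_field_main {p f : ℕ} [Fact p.Prime] (hF : Fintype.card F = p ^ f) (hk : 3 ≤ k)
    (hgam : 4 ≤ k → Cfsg.gammaPOmega F (Cfsg.quadFormPlus (k + 1) F) = ⊤)
    (x : MulAut (Cfsg.POmega F ⇑(Qp (k + 1) F)))
    (hx : Cfsg.IsFieldAutClassPOmega (Cfsg.quadFormPlus (k + 1) F) x)
    {r : ℕ} (hr : r.Prime) (hxr : orderOf x = r)
    (hF₀ : Fintype.card F₀ = p ^ (f / r)) :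
    r ∣ f ∧
    Nonempty (↥(GPlus (F := F) k ⊓ Subgroup.centralizer {x}) ≃* ↥(GPlus (F := F₀) k)) ∧
    ((Odd r ∨ p = 2) → Cfsg.splitClassCount (GPlus (F := F) k)
      (Cfsg.Inn (Cfsg.POmega F ⇑(Qp (k + 1) F))) x = 1) ∧
    ((r = 2 ∧ p ≠ 2 ∧ Odd (k + 1) ∧ p ^ (f / 2) % 4 = 1) →
      Cfsg.splitClassCount (GPlus (F := F) k)
        (Cfsg.Inn (Cfsg.POmega F ⇑(Qp (k + 1) F))) x = 2) ∧
    ((r = 2 ∧ p ≠ 2 ∧ ¬ (Odd (k + 1) ∧ p ^ (f / 2) % 4 = 1)) →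
      Cfsg.splitClassCount (GPlus (F := F) k)
        (Cfsg.Inn (Cfsg.POmega F ⇑(Qp (k + 1) F))) x = 4) := by
  have hn : 7 ≤ Fintype.card (Fin (k + 1) ⊕ Fin (k + 1)) := by
    rw [card_plus_idx]
    omega
  have hQ : (polarBilin (Qp (k + 1) F)).Nondegenerate := qfOf_nondeg _
  haveI hcp : CharP F p := charP_of_card_eq_prime_pow hF
  have h2iff : (2 : F) = 0 ↔ p = 2 := by
    constructor
    · intro h
      have h' : ((2 : ℕ) : F) = 0 := by exact_mod_cast h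
      rw [CharP.cast_eq_zero_iff F p] at h'
      exact (Nat.prime_dvd_prime_iff_eq (Fact.out : p.Prime) Nat.prime_two).1 h'
    · rintro rfl
      have : ((2 : ℕ) : F) = 0 := CharP.cast_eq_zero F 2
      exact_mod_cast this
  obtain ⟨γ, φ, σ, hγ, hσ1, hφ, hγx⟩ := exists_gamma_conj k p hk hgam x hx
  have hfix := qfix_plus (F := F) (k + 1) σ
  have hoφ : orderOf φ = r := by
    rw [← hγx, ← hxr]
    have e2 : γ * x * γ⁻¹ = MulAut.conj γ x := rfl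
    rw [e2, MulEquiv.orderOf_eq]
  have hoσ : orderOf (σ : RingAut F) = r := by
    rw [← hoφ]
    exact (orderOf_field (Qp (k + 1) F) hQ hn hfix hφ).symm
  obtain ⟨hdvd, e, he⟩ := Cfsg.Agent.Lib.Helper18.PSLnFld.exists_fixed_embedding hF σ r hoσ
    hr.pos F₀ hF₀
  have hcard : Fintype.card F = Fintype.card F₀ ^ r := by
    rw [hF, hF₀, ← pow_mul, Nat.div_mul_cancel hdvd]
  -- transport
  have hD : ∀ h, h ∈ GPlus (F := F) k ↔ γ * h * γ⁻¹ ∈ GPlus (F := F) k := fun h =>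
    gamma_conj_mem_presAut_iff (Qp (k + 1) F) k (LinearEquiv.refl F _) (fun _ => rfl) hQ hn
      (qfix_plus (k + 1)) (spres_plus_std (k + 1)) hγ h
  have hK : ∀ h, h ∈ Cfsg.Inn (Cfsg.POmega F ⇑(Qp (k + 1) F)) ↔
      γ * h * γ⁻¹ ∈ Cfsg.Inn (Cfsg.POmega F ⇑(Qp (k + 1) F)) := by
    intro h
    haveI := Cfsg.innNormal (Cfsg.POmega F ⇑(Qp (k + 1) F))
    constructor
    · intro hh
      exact Subgroup.Normal.conj_mem inferInstance h hh γ
    · intro hh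
      have := Subgroup.Normal.conj_mem
        (inferInstance : (Cfsg.Inn (Cfsg.POmega F ⇑(Qp (k + 1) F))).Normal) _ hh γ⁻¹
      convert this using 1
      group
  have hcount : Cfsg.splitClassCount (GPlus (F := F) k)
      (Cfsg.Inn (Cfsg.POmega F ⇑(Qp (k + 1) F))) x =
      Cfsg.splitClassCount (GPlus (F := F) k)
      (Cfsg.Inn (Cfsg.POmega F ⇑(Qp (k + 1) F))) φ := by
    rw [← hγx]
    exact (Cfsg.Agent.Lib.Helper18.PSLnFld.splitClassCount_conj _ _ γ x hD hK).symm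
  refine ⟨hdvd, ?_, ?_, ?_, ?_⟩
  · obtain ⟨e1⟩ := nonempty_centralizer_map (MulAut.conj γ) (GPlus (F := F) k)
      (GPlus (F := F) k) hD x
    have e3 : MulAut.conj γ x = φ := hγx
    rw [e3] at e1
    obtain ⟨e2⟩ := plus_centralizer_std k e hk hφ r hoσ hr.pos he
    exact ⟨e1.trans e2⟩
  · rintro (hodd | hp)
    · by_cases h2 : (2 : F) = 0
      · exact split_char2 k h2 hk x
      · rw [hcount]
        exact plus_split_odd_std k e hk h2 hφ r hoσ hr.pos hodd he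
    · exact split_char2 k (h2iff.2 hp) hk x
  · rintro ⟨rfl, hp, hcond⟩
    have h2 : (2 : F) ≠ 0 := fun h => hp (h2iff.1 h)
    rw [hcount]
    have := (plus_split_two_std k e hk h2 hφ hoσ he hcard).1
    rw [hF₀] at this
    exact this hcond
  · rintro ⟨rfl, hp, hcond⟩
    have h2 : (2 : F) ≠ 0 := fun h => hp (h2iff.1 h)
    rw [hcount]
    have := (plus_split_two_std k e hk h2 hφ hoσ he hcard).2
    rw [hF₀] at this
    exact this hcond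

end main

end Cfsg.Agent.Lib.Helper18.OrthPl
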