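import Mathlib

set_option autoImplicit false

/-!
# Semisimple isometries of odd order: basic linear algebra

`V` a finite dimensional space with a nondegenerate symmetric bilinear form `B`, `k` an isometry
with `k ^ r = 1`, `r` invertible in `F`.  Invariant subspaces, Maschke, orthogonal complements.
-/

namespace Cfsg.Agent.Lib.Helper18.OrthSs

open Module

variable {F : Type*} [Field F] {V : Type*} [AddCommGroup V] [Module F V]

/-- `W` is `k`-invariant. -/
def Inv (k : V →ₗ[F] V) (W : Submodule F V) : Prop := ∀ x ∈ W, k x ∈ W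

/-- `B` is nondegenerate on `W`. -/
def NdOn (B : LinearMap.BilinForm F V) (W : Submodule F V) : Prop :=
  ∀ x ∈ W, (∀ y ∈ W, B x y = 0) → x = 0

/-- `k` has no nonzero fixed vector in `W`. -/
def Fpf (k : V →ₗ[F] V) (W : Submodule F V) : Prop := ∀ x ∈ W, k x = x → x = 0

/-- the standing hypotheses -/
structure IsoData (B : LinearMap.BilinForm F V) (k : V →ₗ[F] V) (r : ℕ) : Prop where
  sym : ∀ x y, B x y = B y x
  nd : B.Nondegenerate
  iso : ∀ x y, B (k x) (k y) = B x y
  pow : k ^ r = 1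
  rpos : 0 < r
  rinv : (r : F) ≠ 0

theorem Inv.pow {k : V →ₗ[F] V} {W : Submodule F V} (h : Inv k W) (i : ℕ) : Inv (k ^ i) W := by
  induction i with
  | zero => intro x hx; simpa using hx
  | succ i ih =>
    intro x hx
    rw [pow_succ, Module.End.mul_apply]
    exact ih _ (h x hx)

theorem Inv.inf {k : V →ₗ[F] V} {W W' : Submodule F V} (h : Inv k W) (h' : Inv k W') :
    Inv k (W ⊓ W') := fun x hx => ⟨h x hx.1, h' x hx.2⟩

theorem Inv.sup {k : V →ₗ[F] V} {W W' : Submodule F V} (h : Inv k W) (h' : Inv k W') :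
    Inv k (W ⊔ W') := by
  intro x hx
  obtain ⟨a, ha, b, hb, rfl⟩ := Submodule.mem_sup.1 hx
  rw [map_add]
  exact Submodule.add_mem _ (Submodule.mem_sup_left (h a ha)) (Submodule.mem_sup_right (h' b hb))

theorem inv_bot (k : V →ₗ[F] V) : Inv k ⊥ := by
  intro x hx
  rw [Submodule.mem_bot] at hx
  rw [hx, map_zero]
  exact Submodule.zero_mem _

theorem inv_top (k : V →ₗ[F] V) : Inv k ⊤ := fun _ _ => Submodule.mem_top

section data

variable {B : LinearMap.BilinForm F V} {k : V →ₗ[F] V} {r : ℕ}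

theorem IsoData.isRefl (h : IsoData B k r) : B.IsRefl := by
  intro x y hxy
  rw [h.sym, hxy]

theorem IsoData.pow_apply (h : IsoData B k r) (x : V) : (k ^ r) x = x := by
  rw [h.pow, Module.End.one_apply]

/-- `k ^ (r-1)` is the inverse of `k`. -/
theorem IsoData.inv_left (h : IsoData B k r) (x : V) : (k ^ (r - 1)) (k x) = x := by
  have : (k ^ (r - 1)) (k x) = (k ^ r) x := by
    rw [← Module.End.mul_apply, ← pow_succ, Nat.sub_add_cancel h.rpos]
  rw [this, h.pow_apply]

theorem IsoData.inv_right (h : IsoData B k r) (x : V) : k ((k ^ (r - 1)) x) = x := by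
  have : k ((k ^ (r - 1)) x) = (k ^ r) x := by
    rw [← Module.End.mul_apply, ← pow_succ', Nat.sub_add_cancel h.rpos]
  rw [this, h.pow_apply]

theorem IsoData.iso_pow (h : IsoData B k r) (i : ℕ) (x y : V) :
    B ((k ^ i) x) ((k ^ i) y) = B x y := by
  induction i with
  | zero => simp
  | succ i ih => rw [pow_succ', Module.End.mul_apply, Module.End.mul_apply, h.iso, ih]

/-- adjoint of `k` is `k⁻¹` -/
theorem IsoData.adj (h : IsoData B k r) (x y : V) : B (k x) y = B x ((k ^ (r - 1)) y) := by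
  have := h.iso x ((k ^ (r - 1)) y)
  rw [h.inv_right] at this
  exact this

theorem IsoData.inv_perp (h : IsoData B k r) {W : Submodule F V} (hW : Inv k W) :
    Inv k (B.orthogonal W) := by
  intro y hy
  rw [LinearMap.BilinForm.mem_orthogonal_iff] at hy ⊢
  intro n hn
  show B n (k y) = 0
  have h1 : B n (k y) = B ((k ^ (r - 1)) n) y := by
    have := h.iso ((k ^ (r - 1)) n) y
    rw [h.inv_right] at this
    exact this
  rw [h1]
  exact hy _ (hW.pow (r - 1) n hn)

theorem ndOn_iff_disjoint (hs : ∀ x y, B x y = B y x) (W : Submodule F V) :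
    NdOn B W ↔ Disjoint W (B.orthogonal W) := by
  rw [Submodule.disjoint_def]
  constructor
  · intro h x hx hx'
    apply h x hx
    intro y hy
    rw [LinearMap.BilinForm.mem_orthogonal_iff] at hx'
    have := hx' y hy
    rw [hs]
    exact this
  · intro h x hx hx'
    apply h x hx
    rw [LinearMap.BilinForm.mem_orthogonal_iff]
    intro y hy
    show B y x = 0
    rw [hs]
    exact hx' y hy

variable [FiniteDimensional F V]

theorem IsoData.isCompl (h : IsoData B k r) {W : Submodule F V} (hW : NdOn B W) :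
    IsCompl W (B.orthogonal W) := by
  rw [LinearMap.BilinForm.isCompl_orthogonal_iff_disjoint h.isRefl]
  exact (ndOn_iff_disjoint h.sym W).1 hW

theorem IsoData.ndOn_perp (h : IsoData B k r) {W : Submodule F V} (hW : NdOn B W) :
    NdOn B (B.orthogonal W) := by
  rw [ndOn_iff_disjoint h.sym, LinearMap.BilinForm.orthogonal_orthogonal h.nd h.isRefl]
  exact ((ndOn_iff_disjoint h.sym W).1 hW).symm

theorem IsoData.ndOn_top (h : IsoData B k r) : NdOn B ⊤ := by
  intro x _ hx
  exact h.nd.1 x (fun y => hx y Submodule.mem_top)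

theorem ndOn_bot : NdOn B ⊥ := by
  intro x hx _
  exact (Submodule.mem_bot F).1 hx

/-- orthogonal complement inside a nondegenerate subspace -/
theorem IsoData.ndOn_inf_perp (h : IsoData B k r) {W W₁ : Submodule F V} (hW : NdOn B W)
    (hW₁ : NdOn B W₁) (hle : W₁ ≤ W) : NdOn B (W ⊓ B.orthogonal W₁) := by
  intro x hx hx'
  apply hW x hx.1
  intro y hy
  have hc := h.isCompl hW₁
  have hy' : y ∈ W₁ ⊔ B.orthogonal W₁ := by rw [hc.sup_eq_top]; exact Submodule.mem_top
  obtain ⟨a, ha, b, hb, rfl⟩ := Submodule.mem_sup.1 hy'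
  have hbW : b ∈ W := by
    have : b = (a + b) - a := by abel
    rw [this]
    exact Submodule.sub_mem _ hy (hle ha)
  rw [map_add, hx' b ⟨hbW, hb⟩, add_zero]
  have h3 : x ∈ B.orthogonal W₁ := (Submodule.mem_inf.1 hx).2
  rw [LinearMap.BilinForm.mem_orthogonal_iff] at h3
  have h2 := h3 a ha
  rw [h.sym]
  exact h2

theorem IsoData.sup_inf_perp (h : IsoData B k r) {W W₁ : Submodule F V}
    (hW₁ : NdOn B W₁) (hle : W₁ ≤ W) : W₁ ⊔ (W ⊓ B.orthogonal W₁) = W := by
  have hc := h.isCompl hW₁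
  rw [inf_comm, ← sup_inf_assoc_of_le _ hle, hc.sup_eq_top, top_inf_eq]

theorem IsoData.finrank_inf_perp (h : IsoData B k r) {W W₁ : Submodule F V}
    (hW₁ : NdOn B W₁) (hle : W₁ ≤ W) :
    finrank F W₁ + finrank F ↥(W ⊓ B.orthogonal W₁) = finrank F W := by
  have hc := h.isCompl hW₁
  have h1 := Submodule.finrank_sup_add_finrank_inf_eq W₁ (W ⊓ B.orthogonal W₁)
  rw [h.sup_inf_perp hW₁ hle] at h1
  have h2 : W₁ ⊓ (W ⊓ B.orthogonal W₁) = ⊥ := by
    rw [eq_bot_iff]
    intro x hx
    have : x ∈ W₁ ⊓ B.orthogonal W₁ := ⟨hx.1, hx.2.2⟩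
    rw [hc.inf_eq_bot] at this
    exact this
  rw [h2, finrank_bot, add_zero] at h1
  exact h1.symm

/-- Maschke: an invariant subspace has an invariant complement. -/
theorem IsoData.maschke (h : IsoData B k r) {U : Submodule F V} (hU : Inv k U) :
    ∃ U' : Submodule F V, Inv k U' ∧ IsCompl U U' := by
  obtain ⟨U₀, hU₀⟩ := Submodule.exists_isCompl U
  -- projection onto U along U₀
  obtain ⟨π, hπ⟩ : ∃ π : V →ₗ[F] V, π = U.projection U₀ hU₀ := ⟨_, rfl⟩
  have hπU : ∀ x, π x ∈ U := by
    intro x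
    rw [hπ]
    exact Submodule.projection_apply_mem hU₀ x
  have hπid : ∀ x ∈ U, π x = x := by
    intro x hx
    rw [hπ]
    exact Submodule.projection_apply_of_mem_left hU₀ hx
  obtain ⟨A, hA⟩ : ∃ A : V →ₗ[F] V,
      A = ∑ i ∈ Finset.range r, (k ^ (r - 1)) ^ i * π * k ^ i := ⟨_, rfl⟩
  have hkk : k ^ (r - 1) * k = 1 := by
    rw [← pow_succ, Nat.sub_add_cancel h.rpos, h.pow]
  have hkk' : k * k ^ (r - 1) = 1 := by
    rw [← pow_succ', Nat.sub_add_cancel h.rpos, h.pow]
  have hinvr : (k ^ (r - 1)) ^ r = 1 := by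
    rw [← pow_mul, mul_comm, pow_mul, h.pow, one_pow]
  have hAU : ∀ x, A x ∈ U := by
    intro x
    rw [hA, LinearMap.sum_apply]
    apply Submodule.sum_mem
    intro i _
    rw [Module.End.mul_apply, Module.End.mul_apply]
    exact ((hU.pow (r - 1)).pow i) _ (hπU _)
  have hAid : ∀ x ∈ U, A x = (r : F) • x := by
    intro x hx
    rw [hA, LinearMap.sum_apply]
    have : ∀ i ∈ Finset.range r, ((k ^ (r - 1)) ^ i * π * k ^ i) x = x := by
      intro i _
      have hcm : Commute (k ^ (r - 1)) k := Commute.pow_left (Commute.refl k) _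
      rw [Module.End.mul_apply, Module.End.mul_apply, hπid _ (hU.pow i x hx),
        ← Module.End.mul_apply, ← hcm.mul_pow, hkk, one_pow, Module.End.one_apply]
    rw [Finset.sum_congr rfl this, Finset.sum_const, Finset.card_range, Nat.cast_smul_eq_nsmul]
  have hAk : A * k = k * A := by
    have h1 : A * k = ∑ i ∈ Finset.range r, (k ^ (r - 1)) ^ i * π * k ^ (i + 1) := by
      rw [hA, Finset.sum_mul]
      apply Finset.sum_congr rfl
      intro i _
      rw [mul_assoc, ← pow_succ]
    have h2 : k * A = ∑ i ∈ Finset.range r, k * ((k ^ (r - 1)) ^ i * π * k ^ i) := by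
      rw [hA, Finset.mul_sum]
    have h3 : ∀ i, k * ((k ^ (r - 1)) ^ (i + 1) * π * k ^ (i + 1)) =
        (k ^ (r - 1)) ^ i * π * k ^ (i + 1) := by
      intro i
      rw [pow_succ' (k ^ (r - 1)) i, ← mul_assoc, ← mul_assoc, ← mul_assoc, hkk', one_mul]
    rw [h1, h2]
    have e1 : ∑ i ∈ Finset.range r, k * ((k ^ (r - 1)) ^ i * π * k ^ i) =
        ∑ i ∈ Finset.range r, k * ((k ^ (r - 1)) ^ (i + 1) * π * k ^ (i + 1)) := by
      have s1 := Finset.sum_range_succ (fun i => k * ((k ^ (r - 1)) ^ i * π * k ^ i)) r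
      have s2 := Finset.sum_range_succ' (fun i => k * ((k ^ (r - 1)) ^ i * π * k ^ i)) r
      rw [s1] at s2
      have e0 : k * ((k ^ (r - 1)) ^ r * π * k ^ r) = k * ((k ^ (r - 1)) ^ 0 * π * k ^ 0) := by
        rw [hinvr, h.pow, pow_zero, pow_zero]
      rw [e0] at s2
      exact add_right_cancel s2
    rw [e1]
    apply Finset.sum_congr rfl
    intro i _
    rw [h3]
  refine ⟨LinearMap.ker A, ?_, ?_⟩
  · intro x hx
    rw [LinearMap.mem_ker] at hx ⊢
    have : A (k x) = k (A x) := by
      rw [← Module.End.mul_apply, hAk, Module.End.mul_apply]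
    rw [this, hx, map_zero]
  · constructor
    · rw [Submodule.disjoint_def]
      intro x hx hx'
      rw [LinearMap.mem_ker, hAid x hx] at hx'
      rcases smul_eq_zero.1 hx' with h0 | h0
      · exact absurd h0 h.rinv
      · exact h0
    · rw [codisjoint_iff, eq_top_iff]
      intro x _
      have hx : x = (r : F)⁻¹ • A x + (x - (r : F)⁻¹ • A x) := by abel
      rw [hx]
      apply Submodule.add_mem
      · exact Submodule.mem_sup_left (Submodule.smul_mem _ _ (hAU x))
      · apply Submodule.mem_sup_right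
        rw [LinearMap.mem_ker, map_sub, map_smul, hAid _ (hAU x), smul_smul,
          inv_mul_cancel₀ h.rinv, one_smul, sub_self]

/-- Maschke inside an invariant subspace. -/
theorem IsoData.maschke_in (h : IsoData B k r) {U W : Submodule F V} (hU : Inv k U)
    (hW : Inv k W) (hle : U ≤ W) :
    ∃ U' : Submodule F V, Inv k U' ∧ U' ≤ W ∧ U ⊓ U' = ⊥ ∧ U ⊔ U' = W := by
  obtain ⟨U₁, hU₁, hc⟩ := h.maschke hU
  refine ⟨U₁ ⊓ W, hU₁.inf hW, inf_le_right, ?_, ?_⟩
  · rw [← inf_assoc, hc.inf_eq_bot, bot_inf_eq]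
  · rw [← sup_inf_assoc_of_le _ hle, hc.sup_eq_top, top_inf_eq]

end data

end Cfsg.Agent.Lib.Helper18.OrthSs
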