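import Cfsg.Agent.Lib.Helper18.OrthSsA

set_option autoImplicit false

/-!
# Extension by the identity, and similitudes supported on a piece
-/

namespace Cfsg.Agent.Lib.Helper18.OrthSs

open Module

variable {F : Type*} [Field F] {V : Type*} [AddCommGroup V] [Module F V]

/-- extend an endomorphism `h` of `P` by the identity on a complement `P'`. -/
noncomputable def extC {P P' : Submodule F V} (hc : IsCompl P P') (h : P →ₗ[F] P) : V →ₗ[F] V :=
  (Submodule.prodEquivOfIsCompl P P' hc).toLinearMap ∘ₗ (LinearMap.prodMap h LinearMap.id) ∘ₗ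
    (Submodule.prodEquivOfIsCompl P P' hc).symm.toLinearMap

theorem extC_apply_left {P P' : Submodule F V} (hc : IsCompl P P') (h : P →ₗ[F] P) (x : P) :
    extC hc h (x : V) = (h x : V) := by
  unfold extC
  rw [LinearMap.comp_apply, LinearMap.comp_apply, LinearEquiv.coe_coe, LinearEquiv.coe_coe,
    Submodule.prodEquivOfIsCompl_symm_apply_left, LinearMap.prodMap_apply,
    Submodule.coe_prodEquivOfIsCompl']
  simp

theorem extC_apply_right {P P' : Submodule F V} (hc : IsCompl P P') (h : P →ₗ[F] P) (x : P') :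
    extC hc h (x : V) = (x : V) := by
  unfold extC
  rw [LinearMap.comp_apply, LinearMap.comp_apply, LinearEquiv.coe_coe, LinearEquiv.coe_coe,
    Submodule.prodEquivOfIsCompl_symm_apply_right, LinearMap.prodMap_apply,
    Submodule.coe_prodEquivOfIsCompl']
  simp

theorem extC_mem_left {P P' : Submodule F V} (hc : IsCompl P P') (h : P →ₗ[F] P) {x : V}
    (hx : x ∈ P) : extC hc h x ∈ P := by
  have := extC_apply_left hc h ⟨x, hx⟩
  rw [Subtype.coe_mk] at this
  rw [this]
  exact Submodule.coe_mem _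

theorem det_extC [FiniteDimensional F V] {P P' : Submodule F V} (hc : IsCompl P P')
    (h : P →ₗ[F] P) : LinearMap.det (extC hc h) = LinearMap.det h := by
  unfold extC
  rw [LinearMap.det_conj, LinearMap.det_prodMap, LinearMap.det_id, mul_one]

/-- two linear maps agreeing on two complementary subspaces are equal -/
theorem ext_isCompl {P P' : Submodule F V} (hc : IsCompl P P') {f g : V →ₗ[F] V}
    (h1 : ∀ x ∈ P, f x = g x) (h2 : ∀ x ∈ P', f x = g x) : f = g := by
  apply LinearMap.ext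
  intro x
  have hx : x ∈ P ⊔ P' := by rw [hc.sup_eq_top]; exact Submodule.mem_top
  obtain ⟨a, ha, b, hb, rfl⟩ := Submodule.mem_sup.1 hx
  rw [map_add, map_add, h1 a ha, h2 b hb]

/-- a similitude with multiplier `ν` supported on `W`, commuting with `k`, with the right
determinant. -/
def PieceSim (B : LinearMap.BilinForm F V) (k : V →ₗ[F] V) (ν : F) (W : Submodule F V) : Prop :=
  ∃ (g : V →ₗ[F] V) (n : ℕ), finrank F W = 2 * n ∧ LinearMap.det g = ν ^ n ∧
    g ∘ₗ k = k ∘ₗ g ∧ (∀ x ∈ W, g x ∈ W) ∧ (∀ x ∈ B.orthogonal W, g x = x) ∧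
    ∀ x ∈ W, ∀ y ∈ W, B (g x) (g y) = ν * B x y

section glue

variable {B : LinearMap.BilinForm F V} {k : V →ₗ[F] V} {r : ℕ} [FiniteDimensional F V]

theorem pieceSim_bot (ν : F) : PieceSim B k ν ⊥ := by
  refine ⟨LinearMap.id, 0, by simp, by simp, rfl, fun x hx => hx, fun x _ => rfl, ?_⟩
  intro x hx y _
  rw [(Submodule.mem_bot F).1 hx]
  simp

theorem IsoData.pieceSim_sup (h : IsoData B k r) {ν : F} {W₁ W₂ : Submodule F V}
    (hW₁ : NdOn B W₁) (hle : W₂ ≤ B.orthogonal W₁) (h₁ : PieceSim B k ν W₁)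
    (h₂ : PieceSim B k ν W₂) : PieceSim B k ν (W₁ ⊔ W₂) := by
  obtain ⟨g₁, n₁, hf₁, hd₁, hk₁, hs₁, hp₁, hB₁⟩ := h₁
  obtain ⟨g₂, n₂, hf₂, hd₂, hk₂, hs₂, hp₂, hB₂⟩ := h₂
  have horth : ∀ a ∈ W₁, ∀ b ∈ W₂, B a b = 0 := by
    intro a ha b hb
    have := hle hb
    rw [LinearMap.BilinForm.mem_orthogonal_iff] at this
    exact this a ha
  have horth' : ∀ a ∈ W₁, ∀ b ∈ W₂, B b a = 0 := by
    intro a ha b hb
    rw [h.sym]
    exact horth a ha b hb
  have hle' : W₁ ≤ B.orthogonal W₂ := by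
    intro a ha
    rw [LinearMap.BilinForm.mem_orthogonal_iff]
    intro b hb
    exact horth' a ha b hb
  have hdisj : W₁ ⊓ W₂ = ⊥ := by
    rw [eq_bot_iff]
    intro x hx
    have : x ∈ W₁ ⊓ B.orthogonal W₁ := ⟨hx.1, hle hx.2⟩
    rw [(h.isCompl hW₁).inf_eq_bot] at this
    exact this
  refine ⟨g₁ ∘ₗ g₂, n₁ + n₂, ?_, ?_, ?_, ?_, ?_, ?_⟩
  · have := Submodule.finrank_sup_add_finrank_inf_eq W₁ W₂
    rw [hdisj, finrank_bot, add_zero] at this
    rw [this, hf₁, hf₂]
    ring
  · rw [LinearMap.det_comp, hd₁, hd₂, pow_add]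
  · rw [LinearMap.comp_assoc, hk₂, ← LinearMap.comp_assoc, hk₁, LinearMap.comp_assoc]
  · intro x hx
    obtain ⟨a, ha, b, hb, rfl⟩ := Submodule.mem_sup.1 hx
    rw [map_add, LinearMap.comp_apply, LinearMap.comp_apply, hp₂ a (hle' ha),
      hp₁ (g₂ b) (hle (hs₂ b hb))]
    exact Submodule.add_mem _ (Submodule.mem_sup_left (hs₁ a ha))
      (Submodule.mem_sup_right (hs₂ b hb))
  · intro x hx
    rw [LinearMap.BilinForm.mem_orthogonal_iff] at hx
    have hx₁ : x ∈ B.orthogonal W₁ := by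
      rw [LinearMap.BilinForm.mem_orthogonal_iff]
      intro a ha
      exact hx a (Submodule.mem_sup_left ha)
    have hx₂ : x ∈ B.orthogonal W₂ := by
      rw [LinearMap.BilinForm.mem_orthogonal_iff]
      intro a ha
      exact hx a (Submodule.mem_sup_right ha)
    rw [LinearMap.comp_apply, hp₂ x hx₂, hp₁ x hx₁]
  · intro x hx y hy
    obtain ⟨a, ha, b, hb, rfl⟩ := Submodule.mem_sup.1 hx
    obtain ⟨a', ha', b', hb', rfl⟩ := Submodule.mem_sup.1 hy
    have e1 : (g₁ ∘ₗ g₂) (a + b) = g₁ a + g₂ b := by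
      rw [map_add, LinearMap.comp_apply, LinearMap.comp_apply, hp₂ a (hle' ha),
        hp₁ (g₂ b) (hle (hs₂ b hb))]
    have e2 : (g₁ ∘ₗ g₂) (a' + b') = g₁ a' + g₂ b' := by
      rw [map_add, LinearMap.comp_apply, LinearMap.comp_apply, hp₂ a' (hle' ha'),
        hp₁ (g₂ b') (hle (hs₂ b' hb'))]
    rw [e1, e2]
    simp only [map_add, LinearMap.add_apply]
    rw [hB₁ a ha a' ha', hB₂ b hb b' hb', horth _ (hs₁ a ha) _ (hs₂ b' hb'),
      horth' _ (hs₁ a' ha') _ (hs₂ b hb), horth a ha b' hb', horth' a' ha' b hb]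
    ring

/-- hyperbolic piece: `W = U ⊕ U'` with `U`, `U'` invariant and totally isotropic. -/
theorem IsoData.pieceSim_hyp (h : IsoData B k r) (ν : F) {W U U' : Submodule F V}
    (hW : NdOn B W) (hU : Inv k U) (hU' : Inv k U') (hiso : ∀ x ∈ U, ∀ y ∈ U, B x y = 0)
    (hiso' : ∀ x ∈ U', ∀ y ∈ U', B x y = 0) (hdisj : U ⊓ U' = ⊥) (hsup : U ⊔ U' = W) :
    PieceSim B k ν W := by
  have hcW := h.isCompl hW
  have hWinv : Inv k W := by rw [← hsup]; exact hU.sup hU'
  have hPinv := h.inv_perp hWinv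
  -- dimension count
  have hdim : ∀ (X Y : Submodule F V), (∀ x ∈ X, ∀ y ∈ X, B x y = 0) → X ⊔ Y = W →
      finrank F X ≤ finrank F Y := by
    intro X Y hX hXY
    obtain ⟨φ, hφ⟩ : ∃ φ : X →ₗ[F] Module.Dual F Y, φ = B.domRestrict₁₂ X Y := ⟨_, rfl⟩
    have hinj : Function.Injective φ := by
      rw [← LinearMap.ker_eq_bot, eq_bot_iff]
      intro x hx
      rw [LinearMap.mem_ker] at hx
      rw [Submodule.mem_bot]
      apply Subtype.ext
      rw [Submodule.coe_zero]
      have hxW : (x : V) ∈ W := by rw [← hXY]; exact Submodule.mem_sup_left x.2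
      apply hW _ hxW
      intro y hy
      rw [← hXY] at hy
      obtain ⟨a, ha, b, hb, rfl⟩ := Submodule.mem_sup.1 hy
      rw [map_add, hX _ x.2 a ha, zero_add]
      have := LinearMap.congr_fun hx ⟨b, hb⟩
      rw [hφ, LinearMap.domRestrict₁₂_apply] at this
      exact this
    have := LinearMap.finrank_le_finrank_of_injective hinj
    rwa [Subspace.dual_finrank_eq] at this
  have hdimeq : finrank F U = finrank F U' :=
    le_antisymm (hdim U U' hiso hsup) (hdim U' U hiso' (by rw [sup_comm]; exact hsup))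
  have hfr : finrank F W = 2 * finrank F U := by
    have := Submodule.finrank_sup_add_finrank_inf_eq U U'
    rw [hdisj, finrank_bot, add_zero, hsup] at this
    rw [this, ← hdimeq]
    ring
  -- complement of U
  have hc : IsCompl U (U' ⊔ B.orthogonal W) := by
    constructor
    · rw [Submodule.disjoint_def]
      intro x hx hx'
      obtain ⟨a, ha, b, hb, hab⟩ := Submodule.mem_sup.1 hx'
      have hbW : b ∈ W := by
        have : b = x - a := by rw [← hab]; abel
        rw [this, ← hsup]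
        exact Submodule.sub_mem _ (Submodule.mem_sup_left hx) (Submodule.mem_sup_right ha)
      have hb0 : b = 0 := by
        have : b ∈ W ⊓ B.orthogonal W := ⟨hbW, hb⟩
        rw [hcW.inf_eq_bot] at this
        exact this
      rw [hb0, add_zero] at hab
      have : x ∈ U ⊓ U' := ⟨hx, hab ▸ ha⟩
      rw [hdisj] at this
      exact this
    · rw [codisjoint_iff, ← sup_assoc, hsup, hcW.sup_eq_top]
  obtain ⟨g, hg⟩ : ∃ g : V →ₗ[F] V, g = extC hc (ν • LinearMap.id) := ⟨_, rfl⟩
  have hgU : ∀ x ∈ U, g x = ν • x := by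
    intro x hx
    have := extC_apply_left hc (ν • LinearMap.id) ⟨x, hx⟩
    rw [hg]
    simpa using this
  have hgU' : ∀ x ∈ U' ⊔ B.orthogonal W, g x = x := by
    intro x hx
    have := extC_apply_right hc (ν • LinearMap.id) ⟨x, hx⟩
    rw [hg]
    simpa using this
  refine ⟨g, finrank F U, hfr, ?_, ?_, ?_, ?_, ?_⟩
  · rw [hg, det_extC, LinearMap.det_smul, LinearMap.det_id, mul_one]
  · apply ext_isCompl hc
    · intro x hx
      rw [LinearMap.comp_apply, LinearMap.comp_apply, hgU x hx, hgU _ (hU x hx), map_smul]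
    · intro x hx
      have hkx : k x ∈ U' ⊔ B.orthogonal W := (hU'.sup hPinv) x hx
      rw [LinearMap.comp_apply, LinearMap.comp_apply, hgU' x hx, hgU' _ hkx]
  · intro x hx
    rw [← hsup] at hx ⊢
    obtain ⟨a, ha, b, hb, rfl⟩ := Submodule.mem_sup.1 hx
    rw [map_add, hgU a ha, hgU' b (Submodule.mem_sup_left hb)]
    exact Submodule.add_mem _ (Submodule.mem_sup_left (Submodule.smul_mem _ _ ha))
      (Submodule.mem_sup_right hb)
  · intro x hx
    exact hgU' x (Submodule.mem_sup_right hx)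
  · intro x hx y hy
    rw [← hsup] at hx hy
    obtain ⟨a, ha, b, hb, rfl⟩ := Submodule.mem_sup.1 hx
    obtain ⟨a', ha', b', hb', rfl⟩ := Submodule.mem_sup.1 hy
    have e1 : g (a + b) = ν • a + b := by
      rw [map_add, hgU a ha, hgU' b (Submodule.mem_sup_left hb)]
    have e2 : g (a' + b') = ν • a' + b' := by
      rw [map_add, hgU a' ha', hgU' b' (Submodule.mem_sup_left hb')]
    rw [e1, e2]
    simp only [map_add, LinearMap.add_apply, map_smul, LinearMap.smul_apply, smul_eq_mul]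
    rw [hiso a ha a' ha', hiso' b hb b' hb']
    ring

end glue

end Cfsg.Agent.Lib.Helper18.OrthSs
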