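import Cfsg.Agent.Lib.Helper18.OrthSsB

set_option autoImplicit false

/-!
# Similitudes on the fixed space of `k`: planes
-/

namespace Cfsg.Agent.Lib.Helper18.OrthSs

open Module

variable {F : Type*} [Field F] {V : Type*} [AddCommGroup V] [Module F V]
variable {B : LinearMap.BilinForm F V} {k : V →ₗ[F] V} {r : ℕ}

theorem exists_aniso (hs : ∀ x y, B x y = B y x) (h2 : (2 : F) ≠ 0) {W : Submodule F V}
    (hW : NdOn B W) (hne : W ≠ ⊥) : ∃ u ∈ W, B u u ≠ 0 := by
  by_contra hcon
  push Not at hcon
  apply hne
  rw [eq_bot_iff]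
  intro x hx
  rw [Submodule.mem_bot]
  apply hW x hx
  intro y hy
  have h1 := hcon (x + y) (Submodule.add_mem _ hx hy)
  simp only [map_add, LinearMap.add_apply] at h1
  rw [hcon x hx, hcon y hy, hs y x] at h1
  have h3 : (2 : F) * B x y = 0 := by linear_combination h1
  rcases mul_eq_zero.1 h3 with h4 | h4
  · exact absurd h4 h2
  · exact h4

theorem ndOn_span_singleton {u : V} (hu : B u u ≠ 0) : NdOn B (Submodule.span F {u}) := by
  intro x hx hx'
  obtain ⟨a, rfl⟩ := Submodule.mem_span_singleton.1 hx
  have := hx' u (Submodule.mem_span_singleton_self u)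
  rw [map_smul, LinearMap.smul_apply, smul_eq_mul] at this
  rcases mul_eq_zero.1 this with h | h
  · rw [h, zero_smul]
  · exact absurd h hu

variable [FiniteDimensional F V]

/-- a nondegenerate plane fixed pointwise by `k` -/
theorem IsoData.pieceSim_plane (h : IsoData B k r) {ν δ s t : F} {u w : V}
    (hku : k u = u) (hkw : k w = w) (huw : B u w = 0) (hu : B u u ≠ 0) (hw : B w w ≠ 0)
    (hδ : B w w = -δ * B u u) (hst : s ^ 2 - δ * t ^ 2 = ν) :
    PieceSim B k ν (Submodule.span F {u, w}) := by
  have hwu : B w u = 0 := by rw [h.sym]; exact huw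
  obtain ⟨W, hWdef⟩ : ∃ W : Submodule F V, W = Submodule.span F {u, w} := ⟨_, rfl⟩
  have hmem : ∀ x, x ∈ W ↔ ∃ a b : F, a • u + b • w = x := by
    intro x
    rw [hWdef, Submodule.mem_span_pair]
  have huW : u ∈ W := (hmem u).2 ⟨1, 0, by simp⟩
  have hwW : w ∈ W := (hmem w).2 ⟨0, 1, by simp⟩
  have hWnd : NdOn B W := by
    intro x hx hx'
    obtain ⟨a, b, rfl⟩ := (hmem x).1 hx
    have h1 := hx' u huW
    have h2 := hx' w hwW
    simp only [map_add, map_smul, LinearMap.add_apply, LinearMap.smul_apply, smul_eq_mul] at h1 h2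
    rw [hwu, mul_zero, add_zero] at h1
    rw [huw, mul_zero, zero_add] at h2
    have ha : a = 0 := by
      rcases mul_eq_zero.1 h1 with h3 | h3
      · exact h3
      · exact absurd h3 hu
    have hb : b = 0 := by
      rcases mul_eq_zero.1 h2 with h3 | h3
      · exact h3
      · exact absurd h3 hw
    rw [ha, hb, zero_smul, zero_smul, add_zero]
  have hli : LinearIndependent F ![u, w] := by
    rw [LinearIndependent.pair_iff]
    intro a b hab
    have h1 : B (a • u + b • w) u = 0 := by rw [hab]; simp
    have h2 : B (a • u + b • w) w = 0 := by rw [hab]; simp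
    simp only [map_add, map_smul, LinearMap.add_apply, LinearMap.smul_apply, smul_eq_mul] at h1 h2
    rw [hwu, mul_zero, add_zero] at h1
    rw [huw, mul_zero, zero_add] at h2
    constructor
    · rcases mul_eq_zero.1 h1 with h3 | h3
      · exact h3
      · exact absurd h3 hu
    · rcases mul_eq_zero.1 h2 with h3 | h3
      · exact h3
      · exact absurd h3 hw
  have hrange : Set.range ![u, w] = {u, w} := by
    ext x
    simp only [Set.mem_range, Set.mem_insert_iff, Set.mem_singleton_iff]
    constructor
    · rintro ⟨i, rfl⟩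
      fin_cases i
      · left; rfl
      · right; rfl
    · rintro (rfl | rfl)
      · exact ⟨0, rfl⟩
      · exact ⟨1, rfl⟩
  have hfr : finrank F W = 2 := by
    rw [hWdef, ← hrange, finrank_span_eq_card hli, Fintype.card_fin]
  have hkW : ∀ x ∈ W, k x = x := by
    intro x hx
    obtain ⟨a, b, rfl⟩ := (hmem x).1 hx
    rw [map_add, map_smul, map_smul, hku, hkw]
  have hWinv : Inv k W := fun x hx => by rw [hkW x hx]; exact hx
  have hc := h.isCompl hWnd
  -- the map on W
  obtain ⟨φ, hφ⟩ : ∃ φ : V →ₗ[F] V,
      φ = ((B u u)⁻¹ • (B u)).smulRight (s • u + t • w) +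
        ((B w w)⁻¹ • (B w)).smulRight ((δ * t) • u + s • w) := ⟨_, rfl⟩
  have hφu : φ u = s • u + t • w := by
    rw [hφ]
    simp only [LinearMap.add_apply, LinearMap.smulRight_apply, LinearMap.smul_apply, smul_eq_mul]
    rw [hwu, mul_zero, zero_smul, add_zero, inv_mul_cancel₀ hu, one_smul]
  have hφw : φ w = (δ * t) • u + s • w := by
    rw [hφ]
    simp only [LinearMap.add_apply, LinearMap.smulRight_apply, LinearMap.smul_apply, smul_eq_mul]
    rw [huw, mul_zero, zero_smul, zero_add, inv_mul_cancel₀ hw, one_smul]
  have hφW : ∀ x, φ x ∈ W := by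
    intro x
    rw [hφ]
    simp only [LinearMap.add_apply, LinearMap.smulRight_apply]
    apply Submodule.add_mem
    · exact Submodule.smul_mem _ _ (Submodule.add_mem _ (Submodule.smul_mem _ _ huW)
        (Submodule.smul_mem _ _ hwW))
    · exact Submodule.smul_mem _ _ (Submodule.add_mem _ (Submodule.smul_mem _ _ huW)
        (Submodule.smul_mem _ _ hwW))
  obtain ⟨φW, hφW'⟩ : ∃ φW : W →ₗ[F] W, ∀ x : W, (φW x : V) = φ x :=
    ⟨(φ.comp W.subtype).codRestrict W (fun x => hφW _), fun x => rfl⟩
  -- determinant of φW
  have hdet : LinearMap.det φW = ν := by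
    obtain ⟨b, hb⟩ : ∃ b : Basis (Fin 2) F W, (∀ i, (b i : V) = ![u, w] i) := by
      have hsp : Submodule.span F (Set.range ![u, w]) = W := by rw [hrange, hWdef]
      obtain ⟨b0, hb0⟩ : ∃ b0 : Basis (Fin 2) F (Submodule.span F (Set.range ![u, w])),
          ∀ i, (b0 i : V) = ![u, w] i :=
        ⟨Basis.span hli, fun i => congrArg Subtype.val (Basis.span_apply hli i)⟩
      clear hWdef hmem huW hwW hWnd hfr hkW hWinv hc hφW hφW' φW
      subst hsp
      exact ⟨b0, hb0⟩
    have hb0 : (b 0 : V) = u := hb 0
    have hb1 : (b 1 : V) = w := hb 1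
    have hM : LinearMap.toMatrix b b φW = !![s, δ * t; t, s] := by
      have e0 : φW (b 0) = s • b 0 + t • b 1 := by
        apply Subtype.ext
        rw [hφW', hb0, hφu]
        simp [hb0, hb1]
      have e1 : φW (b 1) = (δ * t) • b 0 + s • b 1 := by
        apply Subtype.ext
        rw [hφW', hb1, hφw]
        simp [hb0, hb1]
      ext i j
      rw [LinearMap.toMatrix_apply]
      fin_cases j
      · simp only [Fin.zero_eta]
        rw [e0]
        fin_cases i <;> simp
      · simp only [Fin.mk_one]
        rw [e1]
        fin_cases i <;> simp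
    rw [← LinearMap.det_toMatrix b, hM, Matrix.det_fin_two_of]
    linear_combination hst
  obtain ⟨g, hg⟩ : ∃ g : V →ₗ[F] V, g = extC hc φW := ⟨_, rfl⟩
  have hgW : ∀ x ∈ W, g x = φ x := by
    intro x hx
    have := extC_apply_left hc φW ⟨x, hx⟩
    rw [hg]
    rw [Subtype.coe_mk] at this
    rw [this, hφW']
  have hgP : ∀ x ∈ B.orthogonal W, g x = x := by
    intro x hx
    have := extC_apply_right hc φW ⟨x, hx⟩
    rw [hg]
    exact this
  have hgu : g u = s • u + t • w := by rw [hgW u huW, hφu]
  have hgw : g w = (δ * t) • u + s • w := by rw [hgW w hwW, hφw]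
  rw [← hWdef]
  refine ⟨g, 1, by rw [hfr], ?_, ?_, ?_, hgP, ?_⟩
  · rw [hg, det_extC, hdet, pow_one]
  · apply ext_isCompl hc
    · intro x hx
      rw [LinearMap.comp_apply, LinearMap.comp_apply, hkW x hx, hgW x hx, hkW _ (hφW x)]
    · intro x hx
      rw [LinearMap.comp_apply, LinearMap.comp_apply, hgP x hx,
        hgP _ (h.inv_perp hWinv x hx)]
  · intro x hx
    rw [hgW x hx]
    exact hφW x
  · intro x hx y hy
    obtain ⟨a, b, rfl⟩ := (hmem x).1 hx
    obtain ⟨a', b', rfl⟩ := (hmem y).1 hy
    simp only [map_add, map_smul, hgu, hgw, LinearMap.add_apply, LinearMap.smul_apply,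
      smul_eq_mul]
    rw [huw, hwu, hδ]
    linear_combination (a * a' * B u u - δ * b * b' * B u u) * hst

/-- the part of the fixed space: an even dimensional nondegenerate subspace fixed pointwise -/
theorem IsoData.pieceSim_fixed (h : IsoData B k r) (h2 : (2 : F) ≠ 0) {ν : F}
    (hbin : ∀ δ : F, δ ≠ 0 → ∃ s t : F, s ^ 2 - δ * t ^ 2 = ν) (a : ℕ) :
    ∀ W : Submodule F V, NdOn B W → (∀ x ∈ W, k x = x) → finrank F W = 2 * a →
      PieceSim B k ν W := by
  induction a with
  | zero =>
    intro W _ _ hfr
    have : W = ⊥ := by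
      apply Submodule.finrank_eq_zero.1
      rw [hfr]
    rw [this]
    exact pieceSim_bot ν
  | succ n ih =>
    intro W hW hfix hfr
    have hne : W ≠ ⊥ := by
      intro h0
      rw [h0, finrank_bot] at hfr
      omega
    obtain ⟨u, huW, hu⟩ := exists_aniso h.sym h2 hW hne
    have hu1 : Submodule.span F {u} ≤ W := by
      rw [Submodule.span_le]
      intro x hx
      rw [Set.mem_singleton_iff] at hx
      rw [hx]
      exact huW
    have hnd1 := ndOn_span_singleton (B := B) hu
    have hW' := h.ndOn_inf_perp hW hnd1 hu1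
    have hfr' := h.finrank_inf_perp hnd1 hu1
    have hfu : finrank F (Submodule.span F {u}) = 1 := by
      apply finrank_span_singleton
      intro h0
      rw [h0] at hu
      simp at hu
    have hne' : W ⊓ B.orthogonal (Submodule.span F {u}) ≠ ⊥ := by
      intro h0
      rw [h0, finrank_bot] at hfr'
      omega
    obtain ⟨w, hwW', hw⟩ := exists_aniso h.sym h2 hW' hne'
    have hwW : w ∈ W := hwW'.1
    have huw : B u w = 0 := by
      have h3 : w ∈ B.orthogonal (Submodule.span F {u}) := (Submodule.mem_inf.1 hwW').2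
      rw [LinearMap.BilinForm.mem_orthogonal_iff] at h3
      exact h3 u (Submodule.mem_span_singleton_self u)
    obtain ⟨δ, hδ⟩ : ∃ δ : F, δ = -(B w w) / B u u := ⟨_, rfl⟩
    have hδ0 : δ ≠ 0 := by
      rw [hδ]
      exact div_ne_zero (neg_ne_zero.2 hw) hu
    have hδ' : B w w = -δ * B u u := by
      rw [hδ]
      field_simp
    obtain ⟨s, t, hst⟩ := hbin δ hδ0
    have hP := h.pieceSim_plane (hfix u huW) (hfix w hwW) huw hu hw hδ' hst
    -- the plane is nondegenerate
    have hPle : Submodule.span F {u, w} ≤ W := by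
      rw [Submodule.span_le]
      intro x hx
      rcases hx with rfl | hx
      · exact huW
      · rw [Set.mem_singleton_iff] at hx
        rw [hx]
        exact hwW
    have hwu : B w u = 0 := by rw [h.sym]; exact huw
    have hPnd : NdOn B (Submodule.span F {u, w}) := by
      intro x hx hx'
      obtain ⟨a, b, rfl⟩ := Submodule.mem_span_pair.1 hx
      have h1 := hx' u (Submodule.subset_span (by simp))
      have h3 := hx' w (Submodule.subset_span (by simp))
      simp only [map_add, map_smul, LinearMap.add_apply, LinearMap.smul_apply, smul_eq_mul]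
        at h1 h3
      rw [hwu, mul_zero, add_zero] at h1
      rw [huw, mul_zero, zero_add] at h3
      have ha : a = 0 := by
        rcases mul_eq_zero.1 h1 with h4 | h4
        · exact h4
        · exact absurd h4 hu
      have hb : b = 0 := by
        rcases mul_eq_zero.1 h3 with h4 | h4
        · exact h4
        · exact absurd h4 hw
      rw [ha, hb, zero_smul, zero_smul, add_zero]
    obtain ⟨gP, nP, hfP, -⟩ := id hP
    have hW'' := h.ndOn_inf_perp hW hPnd hPle
    have hfr'' := h.finrank_inf_perp hPnd hPle
    have hfP2 : finrank F (Submodule.span F {u, w}) = 2 := by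
      have hli : LinearIndependent F ![u, w] := by
        rw [LinearIndependent.pair_iff]
        intro a b hab
        have h1 : B (a • u + b • w) u = 0 := by rw [hab]; simp
        have h3 : B (a • u + b • w) w = 0 := by rw [hab]; simp
        simp only [map_add, map_smul, LinearMap.add_apply, LinearMap.smul_apply, smul_eq_mul]
          at h1 h3
        rw [hwu, mul_zero, add_zero] at h1
        rw [huw, mul_zero, zero_add] at h3
        constructor
        · rcases mul_eq_zero.1 h1 with h4 | h4
          · exact h4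
          · exact absurd h4 hu
        · rcases mul_eq_zero.1 h3 with h4 | h4
          · exact h4
          · exact absurd h4 hw
      have hrange : Set.range ![u, w] = {u, w} := by
        ext x
        simp only [Set.mem_range, Set.mem_insert_iff, Set.mem_singleton_iff]
        constructor
        · rintro ⟨i, rfl⟩
          fin_cases i
          · left; rfl
          · right; rfl
        · rintro (rfl | rfl)
          · exact ⟨0, rfl⟩
          · exact ⟨1, rfl⟩
      rw [← hrange, finrank_span_eq_card hli, Fintype.card_fin]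
    have hrest := ih (W ⊓ B.orthogonal (Submodule.span F {u, w})) hW''
      (fun x hx => hfix x hx.1) (by omega)
    have := h.pieceSim_sup hPnd inf_le_right hP hrest
    rwa [h.sup_inf_perp hPnd hPle] at this

end Cfsg.Agent.Lib.Helper18.OrthSs
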