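import Cfsg.Agent.Lib.Helper25.AbelIrr

set_option autoImplicit false

/-!
# The field model of an irreducible self-dual piece: adjoint involution and norms
-/

namespace Cfsg.Agent.Lib.Helper18.OrthSs

open Module Cfsg.Agent.Lib.Helper25

section core

variable {F : Type*} [Field F] [Fintype F] {E : Type*} [Field E] [Algebra F E] [Finite E]
  {H : Type*} [CommGroup H] (ζ : H →* E)

/-- the adjoint involution of an invariant nondegenerate form on the field model: an `F`-algebra
endomorphism `T` with `T x = x ^ (q ^ j)`, `[E : F] = 2 j`. -/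
theorem exists_adjoint_frob (hspan : Submodule.span F (Set.range ζ) = ⊤)
    (B : LinearMap.BilinForm F E) (hB : B.Nondegenerate)
    (hinv : ∀ h x y, B (ζ h * x) (ζ h * y) = B x y) (hnt : ∃ h, ζ h ≠ (ζ h)⁻¹) :
    ∃ (T : E →ₐ[F] E) (j : ℕ), finrank F E = 2 * j ∧ (∀ x, T x = x ^ (Fintype.card F ^ j)) ∧
      (∀ x, T (T x) = x) ∧ (∀ a x y, B (a * x) y = B x (T a * y)) ∧
      ∀ h, T (ζ h) = (ζ h)⁻¹ := by
  obtain ⟨T, hT⟩ := AbelIrr.exists_algHom ζ hspan B hB hinv
  have hadj : ∀ a x y, B (a * x) y = B x (T a * y) := by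
    intro a
    have ha : a ∈ Submodule.span F (Set.range ζ) := hspan ▸ Submodule.mem_top
    induction ha using Submodule.span_induction with
    | mem a ha =>
      obtain ⟨h, rfl⟩ := ha
      intro x y
      rw [hT]
      have := hinv h x ((ζ h)⁻¹ * y)
      rw [← mul_assoc, mul_inv_cancel₀ (AbelIrr.zeta_ne_zero ζ h), one_mul] at this
      exact this
    | zero => intro x y; simp
    | add a b _ _ iha ihb =>
      intro x y
      rw [add_mul, map_add, LinearMap.add_apply, iha, ihb, map_add, add_mul, map_add]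
    | smul c a _ iha =>
      intro x y
      rw [smul_mul_assoc, map_smul, LinearMap.smul_apply, iha, map_smul, smul_mul_assoc,
        map_smul]
  obtain ⟨j, hj⟩ := (FiniteField.bijective_frobeniusAlgHom_pow F E).2 T
  have hj' : FiniteField.frobeniusAlgHom F E ^ j.1 = T := hj
  have hTpow : ∀ x, T x = x ^ (Fintype.card F ^ j.1) := by
    intro x
    have := DFunLike.congr_fun hj' x
    rw [AlgHom.coe_pow, FiniteField.coe_frobeniusAlgHom, pow_iterate] at this
    exact this.symm
  have hTT : ∀ x, T (T x) = x := by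
    intro x
    have hx : x ∈ Submodule.span F (Set.range ζ) := hspan ▸ Submodule.mem_top
    induction hx using Submodule.span_induction with
    | mem a ha =>
      obtain ⟨h, rfl⟩ := ha
      rw [hT, map_inv₀, hT, inv_inv]
    | zero => simp
    | add a b _ _ iha ihb => rw [map_add, map_add, iha, ihb]
    | smul c a _ iha => rw [map_smul, map_smul, iha]
  have hord := FiniteField.orderOf_frobeniusAlgHom F E
  have h2j : (FiniteField.frobeniusAlgHom F E) ^ (2 * j.1) = 1 := by
    rw [two_mul, pow_add, hj']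
    ext x
    exact hTT x
  have hdvd : finrank F E ∣ 2 * j.1 := by
    have := orderOf_dvd_of_pow_eq_one h2j
    rwa [hord] at this
  have hjlt := j.2
  obtain ⟨c, hc⟩ := hdvd
  have hc' : c = 0 ∨ c = 1 := by
    rcases c with _ | _ | c
    · left; rfl
    · right; rfl
    · exfalso; nlinarith
  rcases hc' with rfl | rfl
  · exfalso
    have hj0 : j.1 = 0 := by omega
    obtain ⟨h, hh⟩ := hnt
    apply hh
    rw [← hT, hTpow, hj0, pow_zero, pow_one]
  · refine ⟨T, j.1, by omega, hTpow, hTT, hadj, hT⟩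

/-- an element `c` of the field model with `c * T c = ν` and norm `ν ^ j`. -/
theorem exists_sim_elt (hspan : Submodule.span F (Set.range ζ) = ⊤)
    (B : LinearMap.BilinForm F E) (hB : B.Nondegenerate)
    (hinv : ∀ h x y, B (ζ h * x) (ζ h * y) = B x y) (hnt : ∃ h, ζ h ≠ (ζ h)⁻¹)
    (ν : F) (hν : ν ≠ 0) :
    ∃ (c : E) (n : ℕ), finrank F E = 2 * n ∧ Algebra.norm F c = ν ^ n ∧
      ∀ x y, B (c * x) (c * y) = ν * B x y := by
  obtain ⟨T, j, hfr, hTpow, hTT, hadj, -⟩ := exists_adjoint_frob ζ hspan B hB hinv hnt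
  obtain ⟨q, hq⟩ : ∃ q : ℕ, q = Fintype.card F := ⟨_, rfl⟩
  have hq1 : 1 < q := by rw [hq]; exact Fintype.one_lt_card
  rw [← hq] at hTpow
  have hcardE : Nat.card E = q ^ (2 * j) := by
    rw [hq, ← hfr, Fintype.card_eq_nat_card]
    exact Module.natCard_eq_pow_finrank
  have hcardF : Nat.card F = q := by rw [hq, Fintype.card_eq_nat_card]
  obtain ⟨c₀, hc₀⟩ := FiniteField.norm_surjective F E ν
  have hnorm : ∀ x : E, algebraMap F E (Algebra.norm F x) = x ^ ((q ^ (2 * j) - 1) / (q - 1)) := by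
    intro x
    rw [FiniteField.algebraMap_norm_eq_pow, hcardE, hcardF]
  obtain ⟨M, hM⟩ : ∃ M : ℕ, M = (q ^ j - 1) / (q - 1) := ⟨_, rfl⟩
  have hdvd : (q - 1) ∣ (q ^ j - 1) := by
    have := Nat.sub_dvd_pow_sub_pow q 1 j
    rwa [one_pow] at this
  have hMmul : M * (q - 1) = q ^ j - 1 := by rw [hM]; exact Nat.div_mul_cancel hdvd
  have hqj1 : 1 ≤ q ^ j := Nat.one_le_pow _ _ (by omega)
  have hfac : q ^ (2 * j) - 1 = (q ^ j - 1) * (q ^ j + 1) := by
    have : q ^ (2 * j) = q ^ j * q ^ j := by rw [two_mul, pow_add]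
    rw [this]
    zify [hqj1, Nat.one_le_iff_ne_zero.2 (Nat.mul_ne_zero (by omega : q ^ j ≠ 0)
      (by omega : q ^ j ≠ 0))]
    ring
  have hbig : (q ^ (2 * j) - 1) / (q - 1) = M * (q ^ j + 1) := by
    rw [hfac, ← hMmul, mul_assoc, mul_comm (q - 1), ← mul_assoc]
    exact Nat.mul_div_cancel _ (by omega)
  obtain ⟨c, hc⟩ : ∃ c : E, c = c₀ ^ M := ⟨_, rfl⟩
  have hcT : T c * c = algebraMap F E ν := by
    rw [hTpow, ← pow_succ, hc, ← pow_mul, ← hc₀, hnorm, hbig]
  -- `ν ^ M = ν ^ j`
  have hνpow : ν ^ M = ν ^ j := by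
    have hgeom : M = ∑ i ∈ Finset.range j, q ^ i := by
      rw [hM, Nat.geomSum_eq hq1]
    have hνq : ∀ i, ν ^ (q ^ i) = ν := by
      intro i
      rw [hq]
      exact FiniteField.pow_card_pow i ν
    rw [hgeom, ← Finset.prod_pow_eq_pow_sum]
    rw [Finset.prod_congr rfl (fun i _ => hνq i), Finset.prod_const, Finset.card_range]
  refine ⟨c, j, hfr, ?_, ?_⟩
  · rw [hc, map_pow, hc₀, hνpow]
  · intro x y
    rw [hadj, ← mul_assoc, hcT, Algebra.algebraMap_eq_smul_one, smul_mul_assoc, one_mul,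
      map_smul, smul_eq_mul]

end core

end Cfsg.Agent.Lib.Helper18.OrthSs
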