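import Cfsg.Agent.Lib.Helper18.OrthSsC
import Cfsg.Agent.Lib.Helper18.OrthSsD

set_option autoImplicit false

/-!
# The field model of an irreducible piece; similitude on an irreducible self-dual piece
-/

namespace Cfsg.Agent.Lib.Helper18.OrthSs

open Module Cfsg.Agent.Lib.Helper25

universe u v

variable {F : Type u} [Field F] {V : Type v} [AddCommGroup V] [Module F V]
variable {B : LinearMap.BilinForm F V} {k : V →ₗ[F] V} {r : ℕ}

/-- `k` restricted to an invariant subspace, as a unit. -/
noncomputable def restrictUnit (h : IsoData B k r) {W : Submodule F V} (hinv : Inv k W) :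
    (Module.End F W)ˣ where
  val := k.restrict (fun x hx => hinv x hx)
  inv := (k ^ (r - 1)).restrict (fun x hx => hinv.pow (r - 1) x hx)
  val_inv := by
    apply LinearMap.ext
    intro x
    apply Subtype.ext
    show k ((k ^ (r - 1)) (x : V)) = x
    exact h.inv_right x
  inv_val := by
    apply LinearMap.ext
    intro x
    apply Subtype.ext
    show (k ^ (r - 1)) (k (x : V)) = x
    exact h.inv_left x

theorem restrictUnit_val (h : IsoData B k r) {W : Submodule F V} (hinv : Inv k W) (x : W) :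
    (((restrictUnit h hinv : (Module.End F W)ˣ) : Module.End F W) x : V) = k x := rfl

theorem restrictUnit_zpow_mem (h : IsoData B k r) {W : Submodule F V} (hinv : Inv k W)
    {U : Submodule F V} (hU : Inv k U) (n : ℤ) (x : W) (hx : (x : V) ∈ U) :
    ((((restrictUnit h hinv) ^ n : (Module.End F W)ˣ) : Module.End F W) x : V) ∈ U := by
  have hpos : ∀ (m : ℕ) (x : W), (x : V) ∈ U →
      ((((restrictUnit h hinv) ^ m : (Module.End F W)ˣ) : Module.End F W) x : V) ∈ U := by
    intro m
    induction m with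
    | zero => intro x hx; simpa using hx
    | succ m ih =>
      intro x hx
      rw [pow_succ, Units.val_mul, Module.End.mul_apply]
      apply ih
      rw [restrictUnit_val]
      exact hU _ hx
  have hneg : ∀ (m : ℕ) (x : W), (x : V) ∈ U →
      ((((restrictUnit h hinv)⁻¹ ^ m : (Module.End F W)ˣ) : Module.End F W) x : V) ∈ U := by
    intro m
    induction m with
    | zero => intro x hx; simpa using hx
    | succ m ih =>
      intro x hx
      rw [pow_succ, Units.val_mul, Module.End.mul_apply]
      apply ih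
      show (k ^ (r - 1)) x ∈ U
      exact hU.pow (r - 1) _ hx
  rcases n with m | m
  · rw [Int.ofNat_eq_natCast, zpow_natCast]
    exact hpos m x hx
  · rw [zpow_negSucc, ← inv_pow]
    exact hneg (m + 1) x hx

theorem restrictUnit_zpow_iso (h : IsoData B k r) {W : Submodule F V} (hinv : Inv k W)
    (n : ℤ) (x y : W) :
    B ((((restrictUnit h hinv) ^ n : (Module.End F W)ˣ) : Module.End F W) x : V)
      ((((restrictUnit h hinv) ^ n : (Module.End F W)ˣ) : Module.End F W) y : V) = B x y := by
  have hpos : ∀ (m : ℕ) (x y : W),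
      B ((((restrictUnit h hinv) ^ m : (Module.End F W)ˣ) : Module.End F W) x : V)
      ((((restrictUnit h hinv) ^ m : (Module.End F W)ˣ) : Module.End F W) y : V) = B x y := by
    intro m
    induction m with
    | zero => intro x y; simp
    | succ m ih =>
      intro x y
      rw [pow_succ, Units.val_mul, Module.End.mul_apply, Module.End.mul_apply, ih,
        restrictUnit_val, restrictUnit_val, h.iso]
  have hneg : ∀ (m : ℕ) (x y : W),
      B ((((restrictUnit h hinv)⁻¹ ^ m : (Module.End F W)ˣ) : Module.End F W) x : V)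
      ((((restrictUnit h hinv)⁻¹ ^ m : (Module.End F W)ˣ) : Module.End F W) y : V) = B x y := by
    intro m
    induction m with
    | zero => intro x y; simp
    | succ m ih =>
      intro x y
      rw [pow_succ, Units.val_mul, Module.End.mul_apply, Module.End.mul_apply, ih]
      show B ((k ^ (r - 1)) x) ((k ^ (r - 1)) y) = B x y
      exact h.iso_pow _ _ _
  rcases n with m | m
  · rw [Int.ofNat_eq_natCast, zpow_natCast]
    exact hpos m x y
  · rw [zpow_negSucc, ← inv_pow]
    exact hneg (m + 1) x y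

variable [FiniteDimensional F V]

/-- The field model of an irreducible invariant subspace. -/
theorem IsoData.exists_field_model (h : IsoData B k r) {W : Submodule F V}
    (hinv : Inv k W) (hne : W ≠ ⊥)
    (hirr : ∀ U : Submodule F V, U ≤ W → Inv k U → U = ⊥ ∨ U = W) :
    ∃ (E : Type u) (_ : Field E) (_ : Algebra F E) (_ : Module.Finite F E)
      (e : W ≃ₗ[F] E) (ζ : Multiplicative ℤ →* E),
      Submodule.span F (Set.range ζ) = ⊤ ∧
      ∀ (g : Multiplicative ℤ) (x : W),
        e ((((restrictUnit h hinv) ^ (Multiplicative.toAdd g) : (Module.End F W)ˣ) :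
          Module.End F W) x) = ζ g * e x := by
  obtain ⟨ρ, hρ⟩ : ∃ ρ : Representation F (Multiplicative ℤ) W,
      ρ = (Units.coeHom (Module.End F W)).comp
        (zpowersHom (Module.End F W)ˣ (restrictUnit h hinv)) := ⟨_, rfl⟩
  have hρn : ∀ n : Multiplicative ℤ, ρ n =
      (((restrictUnit h hinv) ^ (Multiplicative.toAdd n) : (Module.End F W)ˣ) :
        Module.End F W) := by
    intro n
    rw [hρ]
    rfl
  have hρ1 : ∀ x : W, ρ (Multiplicative.ofAdd 1) x = ⟨k x, hinv x x.2⟩ := by
    intro x
    rw [hρn]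
    apply Subtype.ext
    rw [toAdd_ofAdd, zpow_one, restrictUnit_val]
  have hnt : Nontrivial W := by
    rw [Submodule.nontrivial_iff_ne_bot]
    exact hne
  have hirr' : ∀ U : Submodule F W, (∀ g : Multiplicative ℤ, ∀ u ∈ U, ρ g u ∈ U) →
      U = ⊥ ∨ U = ⊤ := by
    intro U hU
    have hle : U.map W.subtype ≤ W := by
      rintro _ ⟨x, -, rfl⟩
      exact x.2
    have hUinv : Inv k (U.map W.subtype) := by
      rintro _ ⟨x, hx, rfl⟩
      refine ⟨ρ (Multiplicative.ofAdd 1) x, hU _ x hx, ?_⟩
      rw [hρ1]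
      rfl
    rcases hirr _ hle hUinv with h0 | h0
    · left
      rw [eq_bot_iff]
      intro x hx
      have : (x : V) ∈ U.map W.subtype := ⟨x, hx, rfl⟩
      rw [h0, Submodule.mem_bot] at this
      rw [Submodule.mem_bot]
      exact Subtype.ext this
    · right
      rw [eq_top_iff]
      intro x _
      have : (x : V) ∈ U.map W.subtype := by rw [h0]; exact x.2
      obtain ⟨y, hy, hyx⟩ := this
      have : y = x := Subtype.ext hyx
      rw [← this]
      exact hy
  obtain ⟨I, hI, e, he⟩ := AbelIrr.exists_model ρ hirr'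
  haveI := hI
  letI : Field (MonoidAlgebra F (Multiplicative ℤ) ⧸ I) := Ideal.Quotient.field I
  obtain ⟨ζ, hζ⟩ : ∃ ζ : Multiplicative ℤ →* (MonoidAlgebra F (Multiplicative ℤ) ⧸ I),
      ∀ g, ζ g = Ideal.Quotient.mk I (MonoidAlgebra.of F (Multiplicative ℤ) g) :=
    ⟨(Ideal.Quotient.mk I).toMonoidHom.comp (MonoidAlgebra.of F (Multiplicative ℤ)),
      fun g => rfl⟩
  have hspan : Submodule.span F (Set.range ζ) = ⊤ := by
    rw [eq_top_iff]
    rintro x -
    obtain ⟨a, rfl⟩ := Ideal.Quotient.mk_surjective x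
    induction a using MonoidAlgebra.induction_on with
    | of g => rw [← hζ]; exact Submodule.subset_span ⟨g, rfl⟩
    | add a b ha hb => rw [map_add]; exact Submodule.add_mem _ ha hb
    | smul c a ha =>
      have : Ideal.Quotient.mk I (c • a) = c • Ideal.Quotient.mk I a := rfl
      rw [this]
      exact Submodule.smul_mem _ c ha
  refine ⟨MonoidAlgebra F (Multiplicative ℤ) ⧸ I, inferInstance, inferInstance,
    Module.Finite.equiv e, e, ζ, hspan, ?_⟩
  intro g x
  rw [← hρn, he, hζ]

/-- irreducible self-dual piece -/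
theorem IsoData.pieceSim_irred [Fintype F] (h : IsoData B k r) (hodd : Odd r) {ν : F}
    (hν : ν ≠ 0) {W : Submodule F V} (hW : NdOn B W) (hinv : Inv k W) (hfpf : Fpf k W)
    (hne : W ≠ ⊥) (hirr : ∀ U : Submodule F V, U ≤ W → Inv k U → U = ⊥ ∨ U = W) :
    PieceSim B k ν W := by
  obtain ⟨E, hE1, hE2, hE3, e, ζ, hspan, hek⟩ := h.exists_field_model hinv hne hirr
  haveI : Finite E := Module.finite_of_finite F
  obtain ⟨z, hz⟩ : ∃ z : E, z = ζ (Multiplicative.ofAdd 1) := ⟨_, rfl⟩
  have hek1 : ∀ x : W, e ⟨k x, hinv x x.2⟩ = z * e x := by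
    intro x
    have := hek (Multiplicative.ofAdd 1) x
    rw [toAdd_ofAdd, zpow_one] at this
    rw [hz, ← this]
    rfl
  -- the form on the model
  obtain ⟨BE, hBE⟩ : ∃ BE : LinearMap.BilinForm F E,
      BE = LinearMap.BilinForm.congr e (B.restrict W) := ⟨_, rfl⟩
  have hBEapp : ∀ x y : E, BE x y = B (e.symm x : V) (e.symm y : V) := by
    intro x y
    rw [hBE, LinearMap.BilinForm.congr_apply]
    rfl
  have hBEnd : BE.Nondegenerate := by
    rw [hBE]
    apply LinearMap.BilinForm.Nondegenerate.congr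
    exact LinearMap.BilinForm.nondegenerate_restrict_of_disjoint_orthogonal B h.isRefl
      ((ndOn_iff_disjoint h.sym W).1 hW)
  have hes : ∀ (g : Multiplicative ℤ) (x : E), e.symm (ζ g * x) =
      (((restrictUnit h hinv) ^ (Multiplicative.toAdd g) : (Module.End F W)ˣ) :
          Module.End F W) (e.symm x) := by
    intro g x
    apply e.injective
    rw [hek, e.apply_symm_apply, e.apply_symm_apply]
  have hinvE : ∀ g x y, BE (ζ g * x) (ζ g * y) = BE x y := by
    intro g x y
    rw [hBEapp, hBEapp, hes, hes, restrictUnit_zpow_iso]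
  have hnt : ∃ g, ζ g ≠ (ζ g)⁻¹ := by
    refine ⟨Multiplicative.ofAdd 1, ?_⟩
    rw [← hz]
    intro hzz
    have hz0 : z ≠ 0 := by rw [hz]; exact AbelIrr.zeta_ne_zero ζ _
    have hzz' : z * z = 1 := by
      nth_rewrite 2 [hzz]
      exact mul_inv_cancel₀ hz0
    have hk2 : ∀ x ∈ W, k (k x) = x := by
      intro x hx
      have h1 := hek1 ⟨k x, hinv x hx⟩
      have h2 := hek1 ⟨x, hx⟩
      rw [h2, ← mul_assoc, hzz', one_mul] at h1
      have := e.injective h1
      exact congrArg Subtype.val this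
    have hk2m : ∀ m : ℕ, ∀ x ∈ W, (k ^ (2 * m)) x = x := by
      intro m
      induction m with
      | zero => intro x _; simp
      | succ m ih =>
        intro x hx
        rw [Nat.mul_succ, pow_add, Module.End.mul_apply, pow_two, Module.End.mul_apply,
          hk2 x hx, ih x hx]
    obtain ⟨m, hm⟩ := hodd
    have hfix : ∀ x ∈ W, k x = x := by
      intro x hx
      have h1 := h.pow_apply x
      rw [hm, pow_succ, Module.End.mul_apply, hk2m m _ (hinv x hx)] at h1
      exact h1
    apply hne
    rw [eq_bot_iff]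
    intro x hx
    exact hfpf x hx (hfix x hx)
  obtain ⟨c, n, hfr, hnorm, hsim⟩ := exists_sim_elt ζ hspan BE hBEnd hinvE hnt ν hν
  -- the map on `W`
  obtain ⟨φW, hφW⟩ : ∃ φW : W →ₗ[F] W,
      φW = e.symm.toLinearMap ∘ₗ (Algebra.lmul F E c) ∘ₗ e.symm.symm.toLinearMap := ⟨_, rfl⟩
  have hφapp : ∀ x : W, e (φW x) = c * e x := by
    intro x
    rw [hφW]
    simp
  have hdet : LinearMap.det φW = ν ^ n := by
    rw [hφW, LinearMap.det_conj, ← Algebra.norm_apply, hnorm]
  have hc := h.isCompl hW
  obtain ⟨g, hg⟩ : ∃ g : V →ₗ[F] V, g = extC hc φW := ⟨_, rfl⟩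
  have hgW : ∀ x : W, g x = φW x := by
    intro x
    rw [hg]
    exact extC_apply_left hc φW x
  have hgP : ∀ x ∈ B.orthogonal W, g x = x := by
    intro x hx
    have := extC_apply_right hc φW ⟨x, hx⟩
    rw [hg]
    exact this
  refine ⟨g, n, ?_, ?_, ?_, ?_, hgP, ?_⟩
  · rw [← hfr]
    exact e.finrank_eq
  · rw [hg, det_extC, hdet]
  · apply ext_isCompl hc
    · intro x hx
      rw [LinearMap.comp_apply, LinearMap.comp_apply]
      have h1 := hgW ⟨k x, hinv x hx⟩
      have h2 := hgW ⟨x, hx⟩
      rw [Subtype.coe_mk] at h1 h2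
      rw [h1, h2]
      have h3 : φW ⟨k x, hinv x hx⟩ = ⟨k (φW ⟨x, hx⟩), hinv _ (φW ⟨x, hx⟩).2⟩ := by
        apply e.injective
        have e1 : e ⟨k x, hinv x hx⟩ = z * e ⟨x, hx⟩ := hek1 ⟨x, hx⟩
        rw [hφapp, e1, hek1, hφapp]
        ring
      rw [h3]
    · intro x hx
      rw [LinearMap.comp_apply, LinearMap.comp_apply, hgP x hx,
        hgP _ (h.inv_perp hinv x hx)]
  · intro x hx
    have := hgW ⟨x, hx⟩
    rw [Subtype.coe_mk] at this
    rw [this]
    exact Submodule.coe_mem _
  · intro x hx y hy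
    have h1 := hgW ⟨x, hx⟩
    have h2 := hgW ⟨y, hy⟩
    rw [Subtype.coe_mk] at h1 h2
    rw [h1, h2]
    have h3 := hsim (e ⟨x, hx⟩) (e ⟨y, hy⟩)
    rw [hBEapp, hBEapp, ← hφapp, ← hφapp, e.symm_apply_apply, e.symm_apply_apply,
      e.symm_apply_apply, e.symm_apply_apply] at h3
    exact h3

end Cfsg.Agent.Lib.Helper18.OrthSs
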