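import Cfsg.Agent.Lib.Helper18.OrthSsE

set_option autoImplicit false

/-!
# Minimal pieces; a proper similitude with prescribed multiplier commuting with `k`
-/

namespace Cfsg.Agent.Lib.Helper18.OrthSs

open Module

universe u v

variable {F : Type u} [Field F] {V : Type v} [AddCommGroup V] [Module F V]
variable {B : LinearMap.BilinForm F V} {k : V →ₗ[F] V} {r : ℕ}

/-- `U` is totally isotropic. -/
def Tiso (B : LinearMap.BilinForm F V) (U : Submodule F V) : Prop := ∀ x ∈ U, ∀ y ∈ U, B x y = 0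

/-- `W` is a minimal nonzero invariant nondegenerate subspace. -/
def IsMinPiece (B : LinearMap.BilinForm F V) (k : V →ₗ[F] V) (W : Submodule F V) : Prop :=
  W ≠ ⊥ ∧ Inv k W ∧ NdOn B W ∧
    ∀ X : Submodule F V, X ≤ W → X ≠ ⊥ → Inv k X → NdOn B X → X = W

variable [FiniteDimensional F V]

/-- the radical `U ⊓ U^⊥` is invariant and totally isotropic -/
theorem IsoData.rad_facts (h : IsoData B k r) {U : Submodule F V} (hU : Inv k U) :
    Inv k (U ⊓ B.orthogonal U) ∧ Tiso B (U ⊓ B.orthogonal U) := by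
  refine ⟨hU.inf (h.inv_perp hU), ?_⟩
  intro x hx y hy
  have h1 : y ∈ B.orthogonal U := (Submodule.mem_inf.1 hy).2
  rw [LinearMap.BilinForm.mem_orthogonal_iff] at h1
  exact h1 x hx.1

theorem ndOn_of_rad_eq_bot (hs : ∀ x y, B x y = B y x) {U : Submodule F V}
    (hr : U ⊓ B.orthogonal U = ⊥) : NdOn B U := by
  rw [ndOn_iff_disjoint hs, disjoint_iff]
  exact hr

/-- Structure of a minimal piece: either hyperbolic (sum of two invariant totally isotropic
subspaces, the first of which may be chosen irreducible) or irreducible. -/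
theorem IsoData.minPiece_cases (h : IsoData B k r) {W : Submodule F V}
    (hW : IsMinPiece B k W) :
    (∃ U U' : Submodule F V, Inv k U ∧ Inv k U' ∧ Tiso B U ∧ Tiso B U' ∧ U ⊓ U' = ⊥ ∧
      U ⊔ U' = W ∧ U ≠ ⊥ ∧ ∀ X : Submodule F V, X ≤ U → Inv k X → X = ⊥ ∨ X = U) ∨
    (∀ X : Submodule F V, X ≤ W → Inv k X → X = ⊥ ∨ X = W) := by
  obtain ⟨hne, hinv, hnd, hmin⟩ := hW
  by_cases hex : ∃ U₀ : Submodule F V, U₀ ≤ W ∧ Inv k U₀ ∧ Tiso B U₀ ∧ U₀ ≠ ⊥
  · left
    -- choose such a `U` of minimal dimension: it is irreducible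
    obtain ⟨U, ⟨hUle, hUinv, hUti, hUne⟩, hUmin⟩ :
        ∃ U : Submodule F V, (U ≤ W ∧ Inv k U ∧ Tiso B U ∧ U ≠ ⊥) ∧
          ∀ X : Submodule F V, (X ≤ W ∧ Inv k X ∧ Tiso B X ∧ X ≠ ⊥) →
            finrank F U ≤ finrank F X := by
      classical
      obtain ⟨U₀, hU₀⟩ := hex
      have hex' : ∃ n : ℕ, ∃ X : Submodule F V,
          (X ≤ W ∧ Inv k X ∧ Tiso B X ∧ X ≠ ⊥) ∧ finrank F X = n := ⟨_, U₀, hU₀, rfl⟩
      obtain ⟨X, hX, hXn⟩ := Nat.find_spec hex'
      refine ⟨X, hX, fun Y hY => ?_⟩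
      rw [hXn]
      exact Nat.find_min' hex' ⟨Y, hY, rfl⟩
    have hUirr : ∀ X : Submodule F V, X ≤ U → Inv k X → X = ⊥ ∨ X = U := by
      intro X hXU hXinv
      by_cases hX0 : X = ⊥
      · left; exact hX0
      · right
        have hXti : Tiso B X := fun x hx y hy => hUti x (hXU hx) y (hXU hy)
        have := hUmin X ⟨hXU.trans hUle, hXinv, hXti, hX0⟩
        exact Submodule.eq_of_le_of_finrank_le hXU this
    -- complement of `U^⊥ ⊓ W`
    obtain ⟨X, hX⟩ : ∃ X : Submodule F V, X = W ⊓ B.orthogonal U := ⟨_, rfl⟩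
    have hXinv : Inv k X := by rw [hX]; exact hinv.inf (h.inv_perp hUinv)
    have hXle : X ≤ W := by rw [hX]; exact inf_le_left
    have hUX : U ≤ X := by
      rw [hX]
      refine le_inf hUle ?_
      intro x hx
      rw [LinearMap.BilinForm.mem_orthogonal_iff]
      intro y hy
      exact hUti y hy x hx
    obtain ⟨U', hU'inv, hU'le, hXU', hXU'sup⟩ := h.maschke_in hXinv hinv hXle
    have hUU' : U ⊓ U' = ⊥ := by
      rw [eq_bot_iff, ← hXU']
      exact inf_le_inf_right _ hUX
    have hXorth : ∀ u ∈ U, ∀ y ∈ X, B u y = 0 := by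
      intro u hu y hy
      rw [hX] at hy
      have h1 : y ∈ B.orthogonal U := (Submodule.mem_inf.1 hy).2
      rw [LinearMap.BilinForm.mem_orthogonal_iff] at h1
      exact h1 u hu
    have hsumnd : NdOn B (U ⊔ U') := by
      intro x hx hx'
      obtain ⟨u, hu, u', hu', rfl⟩ := Submodule.mem_sup.1 hx
      have hu'X : u' ∈ X := by
        rw [hX]
        have h3 : u' ∈ B.orthogonal U := by
          rw [LinearMap.BilinForm.mem_orthogonal_iff]
          intro y hy
          show B y u' = 0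
          have h1 := hx' y (Submodule.mem_sup_left hy)
          rw [map_add, LinearMap.add_apply, hUti u hu y hy, zero_add] at h1
          rw [h.sym]
          exact h1
        exact Submodule.mem_inf.2 ⟨hU'le hu', h3⟩
      have hu'0 : u' = 0 := by
        have : u' ∈ X ⊓ U' := ⟨hu'X, hu'⟩
        rw [hXU'] at this
        exact this
      rw [hu'0, add_zero] at hx' ⊢
      apply hnd u (hUle hu)
      intro y hy
      rw [← hXU'sup] at hy
      obtain ⟨a, ha, b, hb, rfl⟩ := Submodule.mem_sup.1 hy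
      rw [map_add, hXorth u hu a ha, zero_add]
      exact hx' b (Submodule.mem_sup_right hb)
    have hsumne : U ⊔ U' ≠ ⊥ := by
      intro h0
      apply hUne
      rw [eq_bot_iff, ← h0]
      exact le_sup_left
    have hsum : U ⊔ U' = W :=
      hmin _ (sup_le hUle hU'le) hsumne (hUinv.sup hU'inv) hsumnd
    -- `U'` is totally isotropic
    obtain ⟨R, hR⟩ : ∃ R : Submodule F V, R = U' ⊓ B.orthogonal U' := ⟨_, rfl⟩
    obtain ⟨hRinv, hRti⟩ := h.rad_facts hU'inv
    rw [← hR] at hRinv hRti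
    have hRle : R ≤ U' := by rw [hR]; exact inf_le_left
    obtain ⟨U'', hU''inv, hU''le, hRU'', hRU''sup⟩ := h.maschke_in hRinv hU'inv hRle
    have hU''nd : NdOn B U'' := by
      intro x hx hx'
      have hxR : x ∈ R := by
        rw [hR]
        have h3 : x ∈ B.orthogonal U' := by
          rw [LinearMap.BilinForm.mem_orthogonal_iff]
          intro y hy
          show B y x = 0
          rw [← hRU''sup] at hy
          obtain ⟨a, ha, b, hb, rfl⟩ := Submodule.mem_sup.1 hy
          rw [map_add, LinearMap.add_apply, h.sym b x, hx' b hb, add_zero]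
          rw [hR] at ha
          have h1 : a ∈ B.orthogonal U' := (Submodule.mem_inf.1 ha).2
          rw [LinearMap.BilinForm.mem_orthogonal_iff] at h1
          have := h1 x (hU''le hx)
          rw [h.sym]
          exact this
        exact Submodule.mem_inf.2 ⟨hU''le hx, h3⟩
      have : x ∈ R ⊓ U'' := ⟨hxR, hx⟩
      rw [hRU''] at this
      exact this
    have hU''0 : U'' = ⊥ := by
      by_contra hcon
      have h1 := hmin U'' (hU''le.trans hU'le) hcon hU''inv hU''nd
      have h2 : U ≤ U ⊓ U' := by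
        refine le_inf le_rfl ?_
        calc U ≤ W := hUle
          _ = U'' := h1.symm
          _ ≤ U' := hU''le
      rw [hUU'] at h2
      exact hUne (eq_bot_iff.2 h2)
    have hU'R : U' = R := by
      rw [← hRU''sup, hU''0, sup_bot_eq]
    have hU'ti : Tiso B U' := by rw [hU'R]; exact hRti
    exact ⟨U, U', hUinv, hU'inv, hUti, hU'ti, hUU', hsum, hUne, hUirr⟩
  · right
    intro X hXle hXinv
    by_cases hX0 : X = ⊥
    · left; exact hX0
    · right
      obtain ⟨hRinv, hRti⟩ := h.rad_facts hXinv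
      have hR0 : X ⊓ B.orthogonal X = ⊥ := by
        by_contra hcon
        exact hex ⟨_, inf_le_left.trans hXle, hRinv, hRti, hcon⟩
      exact hmin X hXle hX0 hXinv (ndOn_of_rad_eq_bot h.sym hR0)

/-- a minimal piece without fixed points carries a proper similitude -/
theorem IsoData.pieceSim_min [Fintype F] (h : IsoData B k r) (hodd : Odd r) {ν : F} (hν : ν ≠ 0)
    {W : Submodule F V} (hW : IsMinPiece B k W) (hfpf : Fpf k W) : PieceSim B k ν W := by
  rcases h.minPiece_cases hW with ⟨U, U', hU, hU', hti, hti', hdisj, hsup, -, -⟩ | hirr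
  · exact h.pieceSim_hyp ν hW.2.2.1 hU hU' hti hti' hdisj hsup
  · exact h.pieceSim_irred hodd hν hW.2.2.1 hW.2.1 hfpf hW.1 hirr

/-- existence of a minimal piece inside a nonzero invariant nondegenerate subspace -/
theorem exists_minPiece {W : Submodule F V} (hne : W ≠ ⊥) (hinv : Inv k W) (hnd : NdOn B W) :
    ∃ W₁ : Submodule F V, W₁ ≤ W ∧ IsMinPiece B k W₁ := by
  classical
  have hex' : ∃ n : ℕ, ∃ X : Submodule F V,
      (X ≤ W ∧ X ≠ ⊥ ∧ Inv k X ∧ NdOn B X) ∧ finrank F X = n :=
    ⟨_, W, ⟨le_rfl, hne, hinv, hnd⟩, rfl⟩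
  obtain ⟨X, ⟨hXle, hXne, hXinv, hXnd⟩, hXn⟩ := Nat.find_spec hex'
  refine ⟨X, hXle, hXne, hXinv, hXnd, ?_⟩
  intro Y hYX hYne hYinv hYnd
  apply Submodule.eq_of_le_of_finrank_le hYX
  rw [hXn]
  exact Nat.find_min' hex' ⟨Y, ⟨hYX.trans hXle, hYne, hYinv, hYnd⟩, rfl⟩

/-- the fixed-point-free part -/
theorem IsoData.pieceSim_fpf [Fintype F] (h : IsoData B k r) (hodd : Odd r) {ν : F}
    (hν : ν ≠ 0) (n : ℕ) :
    ∀ W : Submodule F V, finrank F W = n → NdOn B W → Inv k W → Fpf k W →
      PieceSim B k ν W := by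
  induction n using Nat.strong_induction_on with
  | _ n ih =>
    intro W hfr hnd hinv hfpf
    by_cases hne : W = ⊥
    · rw [hne]; exact pieceSim_bot ν
    · obtain ⟨W₁, hle, hmin⟩ := exists_minPiece hne hinv hnd
      have hfpf₁ : Fpf k W₁ := fun x hx => hfpf x (hle hx)
      have hP₁ := h.pieceSim_min hodd hν hmin hfpf₁
      obtain ⟨hne₁, hinv₁, hnd₁, -⟩ := hmin
      have hnd₂ := h.ndOn_inf_perp hnd hnd₁ hle
      have hfr₂ := h.finrank_inf_perp hnd₁ hle
      have hpos : 0 < finrank F W₁ := by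
        rw [Nat.pos_iff_ne_zero]
        intro h0
        exact hne₁ (Submodule.finrank_eq_zero.1 h0)
      have hP₂ := ih (finrank F ↥(W ⊓ B.orthogonal W₁)) (by omega) _ rfl hnd₂
        (hinv.inf (h.inv_perp hinv₁)) (fun x hx => hfpf x hx.1)
      have := h.pieceSim_sup hnd₁ inf_le_right hP₁ hP₂
      rwa [h.sup_inf_perp hnd₁ hle] at this

/-- the fixed space of `k` -/
def fixedSpace (k : V →ₗ[F] V) : Submodule F V := LinearMap.ker (k - 1)

theorem mem_fixedSpace (k : V →ₗ[F] V) (x : V) : x ∈ fixedSpace k ↔ k x = x := by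
  unfold fixedSpace
  rw [LinearMap.mem_ker, LinearMap.sub_apply, Module.End.one_apply, sub_eq_zero]

theorem IsoData.ndOn_fixedSpace (h : IsoData B k r) : NdOn B (fixedSpace k) := by
  intro x hx hx'
  rw [mem_fixedSpace] at hx
  apply h.nd.1 x
  intro y
  -- average of y
  obtain ⟨a, ha⟩ : ∃ a : V, a = ∑ i ∈ Finset.range r, (k ^ i) y := ⟨_, rfl⟩
  have hak : k a = a := by
    have s1 : k a = ∑ i ∈ Finset.range r, (k ^ (i + 1)) y := by
      rw [ha, map_sum]
      apply Finset.sum_congr rfl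
      intro i _
      rw [pow_succ', Module.End.mul_apply]
    have s2 := Finset.sum_range_succ (fun i => (k ^ i) y) r
    have s3 := Finset.sum_range_succ' (fun i => (k ^ i) y) r
    rw [s2] at s3
    rw [h.pow_apply, pow_zero, Module.End.one_apply] at s3
    rw [s1, ha]
    exact (add_right_cancel s3).symm
  have hxfix : ∀ i : ℕ, (k ^ i) x = x := by
    intro i
    induction i with
    | zero => simp
    | succ i ih => rw [pow_succ, Module.End.mul_apply, hx, ih]
  have hBa : B x a = (r : F) * B x y := by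
    rw [ha, map_sum]
    have : ∀ i ∈ Finset.range r, B x ((k ^ i) y) = B x y := by
      intro i _
      have := h.iso_pow i x y
      rw [hxfix i] at this
      exact this
    rw [Finset.sum_congr rfl this, Finset.sum_const, Finset.card_range, nsmul_eq_mul]
  have h0 := hx' a ((mem_fixedSpace k a).2 hak)
  rw [hBa] at h0
  rcases mul_eq_zero.1 h0 with h1 | h1
  · exact absurd h1 h.rinv
  · exact h1

theorem IsoData.inv_fixedSpace : Inv k (fixedSpace k) := by
  intro x hx
  rw [mem_fixedSpace] at hx ⊢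
  rw [hx, hx]

theorem IsoData.fpf_perp_fixedSpace (h : IsoData B k r) : Fpf k (B.orthogonal (fixedSpace k)) := by
  intro x hx hkx
  have hc := h.isCompl h.ndOn_fixedSpace
  have : x ∈ fixedSpace k ⊓ B.orthogonal (fixedSpace k) := ⟨(mem_fixedSpace k x).2 hkx, hx⟩
  rw [hc.inf_eq_bot] at this
  exact this

/-- **Main existence theorem**: a similitude with multiplier `ν` and determinant `ν ^ (dim / 2)`
commuting with `k`. -/
theorem IsoData.exists_sim [Fintype F] (h : IsoData B k r) (hodd : Odd r) (h2 : (2 : F) ≠ 0)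
    {ν : F} (hν : ν ≠ 0) (hbin : ∀ δ : F, δ ≠ 0 → ∃ s t : F, s ^ 2 - δ * t ^ 2 = ν)
    (heven : Even (finrank F V)) :
    ∃ (g : V →ₗ[F] V) (n : ℕ), finrank F V = 2 * n ∧ LinearMap.det g = ν ^ n ∧
      g ∘ₗ k = k ∘ₗ g ∧ ∀ x y, B (g x) (g y) = ν * B x y := by
  have hCnd := h.ndOn_fixedSpace
  have hPnd := h.ndOn_perp hCnd
  have hCinv : Inv k (fixedSpace k) := IsoData.inv_fixedSpace
  have hP := h.pieceSim_fpf hodd hν _ _ rfl hPnd (h.inv_perp hCinv) h.fpf_perp_fixedSpace
  obtain ⟨g₁, n₁, hf₁, -⟩ := id hP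
  have hc := h.isCompl hCnd
  have hfr : finrank F (fixedSpace k) + finrank F (B.orthogonal (fixedSpace k)) =
      finrank F V := by
    have := Submodule.finrank_sup_add_finrank_inf_eq (fixedSpace k) (B.orthogonal (fixedSpace k))
    rw [hc.sup_eq_top, hc.inf_eq_bot, finrank_top, finrank_bot, add_zero] at this
    exact this.symm
  obtain ⟨m, hm⟩ := heven
  have hCfr : finrank F (fixedSpace k) = 2 * (m - n₁) := by omega
  have hC := h.pieceSim_fixed h2 hbin (m - n₁) _ hCnd
    (fun x hx => (mem_fixedSpace k x).1 hx) hCfr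
  have hall := h.pieceSim_sup hCnd le_rfl hC hP
  rw [hc.sup_eq_top] at hall
  obtain ⟨g, n, hf, hd, hk, -, -, hB⟩ := hall
  rw [finrank_top] at hf
  exact ⟨g, n, hf, hd, hk, fun x y => hB x Submodule.mem_top y Submodule.mem_top⟩

end Cfsg.Agent.Lib.Helper18.OrthSs
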