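import Cfsg.Agent.Lib.Helper25.SpinOrth
import Cfsg.Agent.Lib.Helper25.DiscType

set_option autoImplicit false

/-!
# Spinor norm of a product of two isometric involutions
-/

namespace Cfsg.Agent.Lib.Helper18.OrthSs

open Module QuadraticMap Cfsg.Agent.Lib.Helper25 Cfsg.Agent.Lib.Helper25.Spin
  Cfsg.Agent.Lib.Helper25.CD

variable {F : Type*} [Field F] {V : Type*} [AddCommGroup V] [Module F V] [FiniteDimensional F V]
  (Q : QuadraticForm F V)

/-- the form `polar Q` restricted to a subspace -/
noncomputable def polarOn (N : Submodule F V) : LinearMap.BilinForm F N :=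
  LinearMap.BilinForm.restrict (polarBilin Q) N

theorem polarOn_apply (N : Submodule F V) (x y : N) : polarOn Q N x y = polar Q (x : V) (y : V) :=
  rfl

/-- An isometric involution is the product of the reflections along an orthogonal basis of its
`(-1)`-eigenspace. -/
theorem invol_word (h2 : (2 : F) ≠ 0) (hQ : (polarBilin Q).Nondegenerate) (T : V →ₗ[F] V)
    (hTT : ∀ x, T (T x) = x) (hTB : ∀ x y, polar Q (T x) (T y) = polar Q x y) :
    ∃ (b : Basis (Fin (finrank F (LinearMap.ker (T + 1)))) F (LinearMap.ker (T + 1)))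
      (vs : List V),
      (∀ v ∈ vs, Q v ≠ 0) ∧ vs.length = finrank F (LinearMap.ker (T + 1)) ∧
      (∀ x, wordProd Q vs x = T x) ∧
      (2 : F) ^ (finrank F (LinearMap.ker (T + 1))) * normProd Q vs =
        (LinearMap.BilinForm.toMatrix b (polarOn Q (LinearMap.ker (T + 1)))).det := by
  classical
  obtain ⟨N, hN⟩ : ∃ N : Submodule F V, N = LinearMap.ker (T + 1) := ⟨_, rfl⟩
  rw [← hN]
  have hmemN : ∀ x, x ∈ N ↔ T x = -x := by
    intro x
    rw [hN, LinearMap.mem_ker, LinearMap.add_apply, Module.End.one_apply, add_eq_zero_iff_eq_neg]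
  obtain ⟨i2, hi2⟩ : ∃ i2 : F, 2 * i2 = 1 := ⟨2⁻¹, mul_inv_cancel₀ h2⟩
  -- decomposition
  have hminus : ∀ x, i2 • (x - T x) ∈ N := by
    intro x
    rw [hmemN, map_smul, map_sub, hTT, ← smul_neg, neg_sub]
  have hplus_orth : ∀ x ∈ N, ∀ w, T w = w → polar Q x w = 0 := by
    intro x hx w hw
    have h1 := hTB x w
    rw [(hmemN x).1 hx, hw, polar_neg_left] at h1
    have h3 : (2 : F) * polar Q x w = 0 := by linear_combination -h1
    rcases mul_eq_zero.1 h3 with h4 | h4
    · exact absurd h4 h2
    · exact h4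
  have hdecomp : ∀ x, x = i2 • (x - T x) + i2 • (x + T x) := by
    intro x
    rw [← smul_add]
    have : x - T x + (x + T x) = (2 : F) • x := by rw [two_smul]; abel
    rw [this, smul_smul, mul_comm, hi2, one_smul]
  have hplus_fix : ∀ x, T (i2 • (x + T x)) = i2 • (x + T x) := by
    intro x
    rw [map_smul, map_add, hTT, add_comm]
  -- nondegeneracy on N
  have hsymm : LinearMap.IsSymm (polarOn Q N) := by
    constructor
    intro x y
    simp [polarOn_apply, polar_comm]
  have hsep : LinearMap.SeparatingLeft (polarOn Q N) := by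
    intro x hx
    apply Subtype.ext
    rw [Submodule.coe_zero]
    apply hQ.1 (x : V)
    intro z
    show polar Q (x : V) z = 0
    rw [hdecomp z, polar_add_right, hplus_orth x x.2 _ (hplus_fix z), add_zero]
    exact hx ⟨_, hminus z⟩
  have : Invertible (2 : F) := invertibleOfNonzero h2
  obtain ⟨b, hb⟩ := LinearMap.BilinForm.exists_orthogonal_basis hsymm
  have hbQ : ∀ i, Q (b i : V) ≠ 0 := by
    intro i hi
    have := LinearMap.IsOrthoᵢ.not_isOrtho_basis_self_of_separatingLeft hb hsep i
    apply this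
    show polarOn Q N (b i) (b i) = 0
    rw [polarOn_apply, polar_self, hi, smul_zero]
  have hborth : ∀ i j, i ≠ j → polar Q (b i : V) (b j : V) = 0 := fun i j hij => hb hij
  obtain ⟨vs, h1, h3, h4, h5⟩ := exists_orth_word Q (fun i => (b i : V)) Finset.univ
    (fun j _ => hbQ j) (fun i _ j _ hij => hborth i j hij)
  refine ⟨b, vs, h1, ?_, ?_, ?_⟩
  · rw [h3, Finset.card_univ, Fintype.card_fin]
  · -- the word is T
    have hPN : ∀ y : N, (∑ j, ((Q (b j : V))⁻¹ * polar Q (b j : V) (y : V)) • (b j : V)) =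
        (2 : F) • (y : V) := by
      intro y
      have hy : (y : V) = ∑ j, (b.repr y j) • (b j : V) := by
        conv_lhs => rw [← b.sum_repr y]
        rw [Submodule.coe_sum]
        rfl
      have hpol : ∀ j, polar Q (b j : V) (y : V) = b.repr y j * (2 * Q (b j : V)) := by
        intro j
        rw [hy, ← polarBilin_apply_apply, map_sum]
        rw [Finset.sum_eq_single j]
        · rw [polarBilin_apply_apply, polar_smul_right, polar_self, smul_eq_mul, nsmul_eq_mul]
          norm_num
        · intro l _ hlj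
          rw [polarBilin_apply_apply, polar_smul_right, hborth j l (Ne.symm hlj), smul_zero]
        · intro hj
          exact absurd (Finset.mem_univ j) hj
      conv_rhs => rw [hy]
      rw [Finset.smul_sum]
      apply Finset.sum_congr rfl
      intro j _
      rw [hpol, smul_smul]
      congr 1
      field_simp [hbQ j]
    intro x
    rw [h5]
    have hsum : (∑ j, ((Q (b j : V))⁻¹ * polar Q (b j : V) x) • (b j : V)) = x - T x := by
      have e1 : ∀ j, polar Q (b j : V) x = polar Q (b j : V) (i2 • (x - T x)) := by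
        intro j
        conv_lhs => rw [hdecomp x]
        rw [polar_add_right, hplus_orth _ (b j).2 _ (hplus_fix x), add_zero]
      rw [Finset.sum_congr rfl (fun j _ => by rw [e1 j])]
      have := hPN ⟨_, hminus x⟩
      rw [Subtype.coe_mk] at this
      rw [this, smul_smul, hi2, one_smul]
    rw [hsum]
    abel
  · -- Gram determinant
    have hdiag : LinearMap.BilinForm.toMatrix b (polarOn Q N) =
        Matrix.diagonal (fun i => 2 * Q (b i : V)) := by
      ext i j
      rw [LinearMap.BilinForm.toMatrix_apply, polarOn_apply]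
      by_cases hij : i = j
      · subst hij
        rw [Matrix.diagonal_apply_eq, polar_self, nsmul_eq_mul]
        norm_num
      · rw [Matrix.diagonal_apply_ne _ hij, hborth i j hij]
    rw [hdiag, Matrix.det_diagonal, Finset.prod_mul_distrib, Finset.prod_const, Finset.card_univ,
      Fintype.card_fin, h4]

theorem isSquare_sq_mul_iff' {s t : F} (hs : s ≠ 0) : IsSquare (s ^ 2 * t) ↔ IsSquare t := by
  constructor
  · rintro ⟨r, hr⟩
    refine ⟨r / s, ?_⟩
    field_simp
    rw [mul_comm, hr]
    ring
  · rintro ⟨r, rfl⟩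
    exact ⟨s * r, by ring⟩

/-- **Spinor norm of a product of two isometric involutions** whose `(-1)`-eigenspaces are
related by a linear isomorphism `D` with `f(Dx, Dy) = f(x, Γ y)`: the norm product is
`det Γ` up to squares. -/
theorem two_invol_word (h2 : (2 : F) ≠ 0) (hQ : (polarBilin Q).Nondegenerate)
    (T T' : V →ₗ[F] V)
    (hTT : ∀ x, T (T x) = x) (hTB : ∀ x y, polar Q (T x) (T y) = polar Q x y)
    (hTT' : ∀ x, T' (T' x) = x) (hTB' : ∀ x y, polar Q (T' x) (T' y) = polar Q x y)
    (D : LinearMap.ker (T + 1) ≃ₗ[F] LinearMap.ker (T' + 1))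
    (Γ : LinearMap.ker (T + 1) →ₗ[F] LinearMap.ker (T + 1))
    (hΓ : ∀ x y : LinearMap.ker (T + 1),
      polar Q (D x : V) (D y : V) = polar Q (x : V) (Γ y : V)) :
    ∃ vs : List V, (∀ v ∈ vs, Q v ≠ 0) ∧ Even vs.length ∧
      (∀ x, wordProd Q vs x = T' (T x)) ∧
      (IsSquare (normProd Q vs) ↔ IsSquare (LinearMap.det Γ)) := by
  classical
  obtain ⟨b, vs, hv, hl, hw, hg⟩ := invol_word Q h2 hQ T hTT hTB
  obtain ⟨b', vs', hv', hl', hw', hg'⟩ := invol_word Q h2 hQ T' hTT' hTB'
  have hnn : finrank F (LinearMap.ker (T' + 1)) = finrank F (LinearMap.ker (T + 1)) :=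
    D.finrank_eq.symm
  refine ⟨vs' ++ vs, ?_, ?_, ?_, ?_⟩
  · intro v hvm
    rcases List.mem_append.1 hvm with h | h
    · exact hv' v h
    · exact hv v h
  · rw [List.length_append, hl, hl', hnn]
    exact ⟨_, rfl⟩
  · intro x
    rw [wordProd_append, LinearEquiv.mul_apply, hw, hw']
  · obtain ⟨c, hc⟩ : ∃ c : Basis (Fin (finrank F (LinearMap.ker (T + 1)))) F
        (LinearMap.ker (T' + 1)), c = b.map D := ⟨_, rfl⟩
    obtain ⟨d, hd0, hd⟩ := DiscType.gram_det_change c b' (polarOn Q (LinearMap.ker (T' + 1)))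
    have hmat : LinearMap.BilinForm.toMatrix c (polarOn Q (LinearMap.ker (T' + 1))) =
        LinearMap.BilinForm.toMatrix b ((polarOn Q (LinearMap.ker (T + 1))).compRight Γ) := by
      ext i j
      rw [LinearMap.BilinForm.toMatrix_apply, LinearMap.BilinForm.toMatrix_apply,
        LinearMap.BilinForm.compRight_apply, polarOn_apply, polarOn_apply, hc, Basis.map_apply,
        Basis.map_apply, hΓ]
    rw [hmat, LinearMap.BilinForm.toMatrix_compRight, Matrix.det_mul, LinearMap.det_toMatrix,
      ← hg] at hd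
    rw [← hg', hnn] at hd
    -- `2^n np' = d^2 * (2^n np * det Γ)`
    obtain ⟨n, hn⟩ : ∃ n : ℕ, n = finrank F (LinearMap.ker (T + 1)) := ⟨_, rfl⟩
    rw [← hn] at hd
    have hnp0 : normProd Q vs ≠ 0 := normProd_ne_zero Q hv
    have h2n : (2 : F) ^ n ≠ 0 := pow_ne_zero _ h2
    have hkey : normProd Q (vs' ++ vs) = (d * normProd Q vs) ^ 2 * LinearMap.det Γ := by
      rw [normProd_append]
      have : (2 : F) ^ n * (normProd Q vs' * normProd Q vs) =
          (2 : F) ^ n * ((d * normProd Q vs) ^ 2 * LinearMap.det Γ) := by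
        linear_combination (normProd Q vs) * hd
      exact mul_left_cancel₀ h2n this
    rw [hkey, isSquare_sq_mul_iff' (mul_ne_zero hd0 hnp0)]

end Cfsg.Agent.Lib.Helper18.OrthSs
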