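import Cfsg.Agent.Lib.Helper18.OrthSsD
import Cfsg.Agent.Lib.Helper18.OrthSsG

set_option autoImplicit false

/-!
# Field model: a torus element with nonsquare spinor norm
-/

namespace Cfsg.Agent.Lib.Helper18.OrthSs

open Module QuadraticMap Cfsg.Agent.Lib.Helper25 Cfsg.Agent.Lib.Helper25.Spin
  Cfsg.Agent.Lib.Helper25.CD

section normfix

variable {F : Type*} [Field F] [Fintype F] {E : Type*} [Field E] [Algebra F E] [Finite E]

/-- For an involutive `F`-automorphism `T = Frob^j` of `E` with `[E:F] = 2j`, multiplication by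
`d * T d` on the fixed space of `T` has determinant `N_{E/F}(d)`. -/
theorem det_mul_fixed (T : E →ₐ[F] E) (j : ℕ) (hfr : finrank F E = 2 * j)
    (hTpow : ∀ x, T x = x ^ (Fintype.card F ^ j)) (hTT : ∀ x, T (T x) = x)
    (hTne : ∃ x, T x ≠ x)
    (N : Submodule F E) (hN : ∀ x, x ∈ N ↔ T x = x) (d : E)
    (Γ : N →ₗ[F] N) (hΓ : ∀ x : N, (Γ x : E) = d * T d * x) :
    LinearMap.det Γ = Algebra.norm F d := by
  classical
  obtain ⟨σ', hσ'⟩ : ∃ σ' : E ≃ₐ[F] E, ∀ x, σ' x = T x :=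
    ⟨AlgEquiv.ofAlgHom T T (by ext x; exact hTT x) (by ext x; exact hTT x), fun x => rfl⟩
  have hσ2 : σ' ^ 2 = 1 := by
    ext x
    rw [pow_two, AlgEquiv.mul_apply, hσ', hσ', hTT, AlgEquiv.one_apply]
  have hσ1 : σ' ≠ 1 := by
    intro h1
    obtain ⟨x, hx⟩ := hTne
    apply hx
    rw [← hσ', h1, AlgEquiv.one_apply]
  have hord : orderOf σ' = 2 := orderOf_eq_prime hσ2 hσ1
  obtain ⟨E₀, hE₀⟩ : ∃ E₀ : IntermediateField F E,
      E₀ = IntermediateField.fixedField (Subgroup.zpowers σ') := ⟨_, rfl⟩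
  have hmem : ∀ x, x ∈ E₀ ↔ T x = x := by
    intro x
    rw [hE₀, IntermediateField.mem_fixedField_iff]
    constructor
    · intro h
      rw [← hσ']
      exact h σ' (Subgroup.mem_zpowers σ')
    · intro h f hf
      have hle : Subgroup.zpowers σ' ≤ MulAction.stabilizer (E ≃ₐ[F] E) x := by
        rw [Subgroup.zpowers_le, MulAction.mem_stabilizer_iff]
        show σ' x = x
        rw [hσ', h]
      have := hle hf
      rw [MulAction.mem_stabilizer_iff] at this
      exact this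
  have hfin2 : finrank E₀ E = 2 := by
    rw [hE₀, IntermediateField.finrank_fixedField_eq_card, Nat.card_zpowers, hord]
  have hfinj : finrank F E₀ = j := by
    have := Module.finrank_mul_finrank F E₀ E
    rw [hfin2, hfr] at this
    omega
  obtain ⟨q, hq⟩ : ∃ q : ℕ, q = Fintype.card F := ⟨_, rfl⟩
  have hq1 : 1 < q := by rw [hq]; exact Fintype.one_lt_card
  rw [← hq] at hTpow
  have hcardE : Nat.card E = q ^ (2 * j) := by
    rw [hq, ← hfr, Fintype.card_eq_nat_card]
    exact Module.natCard_eq_pow_finrank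
  have hcardE₀ : Nat.card E₀ = q ^ j := by
    rw [hq, ← hfinj, Fintype.card_eq_nat_card]
    exact Module.natCard_eq_pow_finrank
  have hqj1 : 1 ≤ q ^ j := Nat.one_le_pow _ _ (by omega)
  have hqj2 : 1 < q ^ j ∨ j = 0 := by
    rcases Nat.eq_zero_or_pos j with h0 | h0
    · right; exact h0
    · left; exact Nat.one_lt_pow (by omega) hq1
  have hj0 : j ≠ 0 := by
    intro h0
    -- then `T = id`
    obtain ⟨x, hx⟩ := hTne
    apply hx
    rw [hTpow, h0, pow_zero, pow_one]
  have hqj : 1 < q ^ j := by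
    rcases hqj2 with h | h
    · exact h
    · exact absurd h hj0
  have hnormE₀ : algebraMap E₀ E (Algebra.norm E₀ d) = d * T d := by
    rw [FiniteField.algebraMap_norm_eq_pow, hcardE, hcardE₀]
    have hfac : q ^ (2 * j) - 1 = (q ^ j - 1) * (q ^ j + 1) := by
      have : q ^ (2 * j) = q ^ j * q ^ j := by rw [two_mul, pow_add]
      rw [this]
      zify [hqj1, Nat.one_le_iff_ne_zero.2 (Nat.mul_ne_zero (by omega : q ^ j ≠ 0)
        (by omega : q ^ j ≠ 0))]
      ring
    rw [hfac, Nat.mul_div_cancel_left _ (by omega : 0 < q ^ j - 1), pow_succ, hTpow, mul_comm]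
  have hnn : Algebra.norm F (Algebra.norm E₀ d) = Algebra.norm F d := Algebra.norm_norm
  rw [← hnn, Algebra.norm_apply F (Algebra.norm E₀ d)]
  -- transport along `N ≃ E₀`
  obtain ⟨φ, hφ⟩ : ∃ φ : N ≃ₗ[F] E₀, ∀ x : N, (φ x : E) = x := by
    refine ⟨{ toFun := fun x => ⟨x.1, (hmem _).2 ((hN _).1 x.2)⟩
              invFun := fun x => ⟨x.1, (hN _).2 ((hmem _).1 x.2)⟩
              map_add' := fun x y => rfl
              map_smul' := fun c x => rfl
              left_inv := fun x => rfl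
              right_inv := fun x => rfl }, fun x => rfl⟩
  have hconj : Γ = φ.symm.toLinearMap ∘ₗ (Algebra.lmul F E₀ (Algebra.norm E₀ d)) ∘ₗ
      φ.symm.symm.toLinearMap := by
    apply LinearMap.ext
    intro x
    apply φ.injective
    apply Subtype.ext
    rw [hφ, hΓ]
    simp only [LinearEquiv.symm_symm, LinearMap.comp_apply, LinearEquiv.coe_coe,
      LinearEquiv.apply_symm_apply]
    show d * T d * (x : E) = ((Algebra.norm E₀ d * φ x : E₀) : E)
    rw [MulMemClass.coe_mul, hφ]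
    congr 1
    exact hnormE₀.symm
  rw [hconj, LinearMap.det_conj]

end normfix

section core

variable {F : Type*} [Field F] [Fintype F] {E : Type*} [Field E] [Algebra F E] [Finite E]
  {H : Type*} [CommGroup H] (ζ : H →* E)

/-- In the field model of an irreducible self-dual piece there is a norm-one torus element which
is an even word in reflections with nonsquare norm product. -/
theorem exists_spin_elt (h2 : (2 : F) ≠ 0) (hspan : Submodule.span F (Set.range ζ) = ⊤)
    (QE : QuadraticForm F E) (hQE : (polarBilin QE).Nondegenerate)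
    (hinv : ∀ h x, QE (ζ h * x) = QE x) (hnt : ∃ h, ζ h ≠ (ζ h)⁻¹) :
    ∃ (c : E) (vs : List E), (∀ v ∈ vs, QE v ≠ 0) ∧ Even vs.length ∧
      (∀ x, wordProd QE vs x = c * x) ∧ ¬ IsSquare (normProd QE vs) := by
  obtain ⟨BE, hBE⟩ : ∃ BE : LinearMap.BilinForm F E, BE = polarBilin QE := ⟨_, rfl⟩
  have hBEapp : ∀ x y, BE x y = polar QE x y := by
    intro x y
    rw [hBE]
    rfl
  have hsym : ∀ x y, BE x y = BE y x := by
    intro x y
    rw [hBEapp, hBEapp, polar_comm]
  have hBnd : BE.Nondegenerate := by rw [hBE]; exact hQE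
  have hinvB : ∀ h x y, BE (ζ h * x) (ζ h * y) = BE x y := by
    intro h x y
    rw [hBEapp, hBEapp]
    unfold polar
    rw [← mul_add, hinv, hinv, hinv]
  obtain ⟨T, j, hfr, hTpow, hTT, hadj, hTζ⟩ := exists_adjoint_frob ζ hspan BE hBnd hinvB hnt
  have hTne : ∃ x, T x ≠ x := by
    obtain ⟨h, hh⟩ := hnt
    exact ⟨ζ h, by rw [hTζ]; exact fun h' => hh h'.symm⟩
  -- `T` is an isometry
  have hB1 : ∀ w, BE 1 (T w) = BE 1 w := by
    intro w
    have := hadj (T w) 1 1
    rw [mul_one, hTT, mul_one] at this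
    rw [hsym 1 (T w), this]
  have hTiso : ∀ x y, BE (T x) (T y) = BE x y := by
    intro x y
    have e1 := hadj (T x) 1 (T y)
    rw [mul_one, hTT] at e1
    have e2 := hadj x 1 y
    rw [mul_one] at e2
    have e3 : T (T x * y) = x * T y := by rw [map_mul, hTT]
    rw [e1, e2, ← hB1 (T x * y), e3]
  -- the nonsquare and `d`
  have hchar : ringChar F ≠ 2 := ringChar_ne_two h2
  obtain ⟨ν', hν'⟩ := FiniteField.exists_nonsquare hchar
  obtain ⟨d, hd⟩ := FiniteField.norm_surjective F E ν'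
  have hd0 : d ≠ 0 := by
    rintro rfl
    rw [Algebra.norm_zero] at hd
    exact hν' (hd ▸ ⟨0, by simp⟩)
  have hTd0 : T d ≠ 0 := by
    intro h0
    apply hd0
    have := hTT d
    rw [h0, map_zero] at this
    exact this.symm
  obtain ⟨c, hc⟩ : ∃ c : E, c = d * (T d)⁻¹ := ⟨_, rfl⟩
  have hcTc : T c * c = 1 := by
    rw [hc, map_mul, map_inv₀, hTT]
    field_simp
  have hcTd : c * T d = d := by
    rw [hc]
    field_simp
  have hciso : ∀ x y, BE (c * x) (c * y) = BE x y := by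
    intro x y
    rw [hadj, ← mul_assoc, hcTc, one_mul]
  -- the two involutions
  obtain ⟨τ, hτ⟩ : ∃ τ : E →ₗ[F] E, τ = -T.toLinearMap := ⟨_, rfl⟩
  obtain ⟨τ', hτ'⟩ : ∃ τ' : E →ₗ[F] E, τ' = (LinearMap.mulLeft F c) ∘ₗ τ := ⟨_, rfl⟩
  have hτapp : ∀ x, τ x = -T x := by
    intro x
    rw [hτ]
    rfl
  have hτ'app : ∀ x, τ' x = -(c * T x) := by
    intro x
    rw [hτ', LinearMap.comp_apply, hτapp, LinearMap.mulLeft_apply, mul_neg]
  have hττ : ∀ x, τ (τ x) = x := by
    intro x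
    rw [hτapp, hτapp, map_neg, hTT, neg_neg]
  have hτB : ∀ x y, polar QE (τ x) (τ y) = polar QE x y := by
    intro x y
    rw [hτapp, hτapp, ← hBEapp, ← hBEapp, map_neg, map_neg, LinearMap.neg_apply, neg_neg, hTiso]
  have hττ' : ∀ x, τ' (τ' x) = x := by
    intro x
    rw [hτ'app, hτ'app, map_neg, map_mul, hTT, mul_neg, neg_neg, ← mul_assoc, mul_comm c,
      hcTc, one_mul]
  have hτB' : ∀ x y, polar QE (τ' x) (τ' y) = polar QE x y := by
    intro x y
    rw [hτ'app, hτ'app, ← hBEapp, ← hBEapp, map_neg, map_neg, LinearMap.neg_apply, neg_neg,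
      hciso, hTiso]
  have hprod : ∀ x, τ' (τ x) = c * x := by
    intro x
    rw [hτ'app, hτapp, map_neg, hTT, mul_neg, neg_neg]
  have hmemN : ∀ x, x ∈ LinearMap.ker (τ + 1) ↔ T x = x := by
    intro x
    rw [LinearMap.mem_ker, LinearMap.add_apply, Module.End.one_apply, hτapp, neg_add_eq_zero]
  have hmemN' : ∀ x, x ∈ LinearMap.ker (τ' + 1) ↔ c * T x = x := by
    intro x
    rw [LinearMap.mem_ker, LinearMap.add_apply, Module.End.one_apply, hτ'app, neg_add_eq_zero]
  -- `D`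
  have hDmap : ∀ x ∈ LinearMap.ker (τ + 1), LinearMap.mulLeft F d x ∈ LinearMap.ker (τ' + 1) := by
    intro x hx
    rw [hmemN] at hx
    rw [hmemN', LinearMap.mulLeft_apply, map_mul, hx, ← mul_assoc, hcTd]
  have hDinv : ∀ x ∈ LinearMap.ker (τ' + 1),
      LinearMap.mulLeft F d⁻¹ x ∈ LinearMap.ker (τ + 1) := by
    intro x hx
    rw [hmemN'] at hx
    rw [hmemN, LinearMap.mulLeft_apply, map_mul, map_inv₀]
    have : T x = c⁻¹ * x := by
      have hc0 : c ≠ 0 := by
        rw [hc]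
        exact mul_ne_zero hd0 (inv_ne_zero hTd0)
      rw [← hx, ← mul_assoc, inv_mul_cancel₀ hc0, one_mul, hx]
    rw [this, hc]
    field_simp
  obtain ⟨D, hD⟩ : ∃ D : LinearMap.ker (τ + 1) ≃ₗ[F] LinearMap.ker (τ' + 1),
      ∀ x, (D x : E) = d * (x : E) := by
    refine ⟨LinearEquiv.ofLinear ((LinearMap.mulLeft F d).restrict hDmap)
      ((LinearMap.mulLeft F d⁻¹).restrict hDinv) ?_ ?_, fun x => rfl⟩
    · apply LinearMap.ext
      intro x
      apply Subtype.ext
      show d * (d⁻¹ * (x : E)) = x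
      rw [← mul_assoc, mul_inv_cancel₀ hd0, one_mul]
    · apply LinearMap.ext
      intro x
      apply Subtype.ext
      show d⁻¹ * (d * (x : E)) = x
      rw [← mul_assoc, inv_mul_cancel₀ hd0, one_mul]
  have hΓmap : ∀ x ∈ LinearMap.ker (τ + 1),
      LinearMap.mulLeft F (d * T d) x ∈ LinearMap.ker (τ + 1) := by
    intro x hx
    rw [hmemN] at hx ⊢
    rw [LinearMap.mulLeft_apply, map_mul, map_mul, hTT, hx]
    ring
  obtain ⟨Γ, hΓ⟩ : ∃ Γ : LinearMap.ker (τ + 1) →ₗ[F] LinearMap.ker (τ + 1),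
      ∀ x, (Γ x : E) = d * T d * (x : E) :=
    ⟨(LinearMap.mulLeft F (d * T d)).restrict hΓmap, fun x => rfl⟩
  have hΓpol : ∀ x y : LinearMap.ker (τ + 1),
      polar QE (D x : E) (D y : E) = polar QE (x : E) (Γ y : E) := by
    intro x y
    rw [hD, hD, hΓ, ← hBEapp, ← hBEapp, hadj, ← mul_assoc, mul_comm (T d)]
  obtain ⟨vs, hvs, hev, hw, hsq⟩ := two_invol_word QE h2 hQE τ τ' hττ hτB hττ' hτB' D Γ hΓpol
  refine ⟨c, vs, hvs, hev, fun x => by rw [hw, hprod], ?_⟩
  rw [hsq, det_mul_fixed T j hfr hTpow hTT hTne _ hmemN d Γ hΓ, hd]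
  exact hν'

end core

end Cfsg.Agent.Lib.Helper18.OrthSs
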