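import Cfsg.Agent.Lib.Helper18.OrthSsH

set_option autoImplicit false

/-!
# Transfer of words of reflections along an isometric embedding; the hyperbolic model
-/

namespace Cfsg.Agent.Lib.Helper18.OrthSs

open Module QuadraticMap Cfsg.Agent.Lib.Helper25 Cfsg.Agent.Lib.Helper25.Spin
  Cfsg.Agent.Lib.Helper25.CD

section transfer

variable {F : Type*} [Field F] {V : Type*} [AddCommGroup V] [Module F V]
  {M : Type*} [AddCommGroup M] [Module F M]

theorem polar_of_iso (Q : QuadraticForm F V) (QM : QuadraticForm F M) (ιM : M →ₗ[F] V)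
    (hiso : ∀ m, Q (ιM m) = QM m) (a b : M) : polar Q (ιM a) (ιM b) = polar QM a b := by
  unfold polar
  rw [← map_add, hiso, hiso, hiso]

/-- words of reflections transfer along an isometric linear map -/
theorem transfer_word (Q : QuadraticForm F V) (QM : QuadraticForm F M) (ιM : M →ₗ[F] V)
    (hiso : ∀ m, Q (ιM m) = QM m) (vs : List M) :
    normProd Q (vs.map ιM) = normProd QM vs ∧
    (∀ m, wordProd Q (vs.map ιM) (ιM m) = ιM (wordProd QM vs m)) ∧
    (∀ p, (∀ m, polar Q (ιM m) p = 0) → wordProd Q (vs.map ιM) p = p) := by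
  induction vs with
  | nil =>
    refine ⟨by simp [normProd_nil], fun m => by simp [wordProd_nil], fun p _ => by
      simp [wordProd_nil]⟩
  | cons v vs ih =>
    obtain ⟨ih1, ih2, ih3⟩ := ih
    refine ⟨?_, ?_, ?_⟩
    · rw [List.map_cons, normProd_cons, normProd_cons, ih1, hiso]
    · intro m
      rw [List.map_cons, wordProd_cons, wordProd_cons, LinearEquiv.mul_apply,
        LinearEquiv.mul_apply, ih2, reflE_apply, reflE_apply, hiso,
        polar_of_iso Q QM ιM hiso, map_sub, map_smul]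
    · intro p hp
      rw [List.map_cons, wordProd_cons, LinearEquiv.mul_apply, ih3 p hp, reflE_apply, hp,
        mul_zero, zero_smul, sub_zero]

end transfer

section hypmodel

variable {F : Type*} [Field F] [Fintype F] {E : Type*} [Field E] [Algebra F E] [Finite E]

/-- the hyperbolic quadratic form `(x, y) ↦ Tr(x y)` on `E × E` -/
noncomputable def hypQ (F : Type*) [Field F] (E : Type*) [Field E] [Algebra F E] :
    QuadraticForm F (E × E) :=
  LinearMap.BilinMap.toQuadraticMap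
    ((Algebra.traceForm F E).compl₁₂ (LinearMap.fst F E E) (LinearMap.snd F E E))

theorem hypQ_apply (v : E × E) : hypQ F E v = Algebra.trace F E (v.1 * v.2) := by
  unfold hypQ
  rw [LinearMap.BilinMap.toQuadraticMap_apply, LinearMap.compl₁₂_apply]
  rfl

theorem polar_hypQ (v w : E × E) :
    polar (hypQ F E) v w = Algebra.trace F E (v.1 * w.2 + w.1 * v.2) := by
  unfold polar
  rw [hypQ_apply, hypQ_apply, hypQ_apply, Prod.fst_add, Prod.snd_add, ← map_sub, ← map_sub]
  congr 1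
  ring

theorem hypQ_nondeg : (polarBilin (hypQ F E)).Nondegenerate := by
  have htr := traceForm_nondegenerate F E
  have hleft : ∀ v : E × E, (∀ w, polar (hypQ F E) v w = 0) → v = 0 := by
    intro v hv
    have h1 : v.1 = 0 := by
      apply htr.1
      intro y
      have := hv (0, y)
      rw [polar_hypQ] at this
      simpa [Algebra.traceForm_apply] using this
    have h2 : v.2 = 0 := by
      apply htr.2
      intro x
      have := hv (x, 0)
      rw [polar_hypQ] at this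
      simpa [Algebra.traceForm_apply] using this
    exact Prod.ext h1 h2
  constructor
  · intro v hv
    exact hleft v hv
  · intro v hv
    apply hleft v
    intro w
    rw [polar_comm]
    exact hv w

/-- In the hyperbolic model, `(x, y) ↦ (a x, a⁻¹ y)` with `N(a)` a nonsquare is an even word in
reflections with nonsquare norm product. -/
theorem exists_spin_elt_hyp (h2 : (2 : F) ≠ 0) :
    ∃ (a : E) (vs : List (E × E)), a ≠ 0 ∧ (∀ v ∈ vs, hypQ F E v ≠ 0) ∧ Even vs.length ∧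
      (∀ v : E × E, wordProd (hypQ F E) vs v = (a * v.1, a⁻¹ * v.2)) ∧
      ¬ IsSquare (normProd (hypQ F E) vs) := by
  have hchar : ringChar F ≠ 2 := ringChar_ne_two h2
  obtain ⟨ν', hν'⟩ := FiniteField.exists_nonsquare hchar
  obtain ⟨a, ha⟩ := FiniteField.norm_surjective F E ν'
  have ha0 : a ≠ 0 := by
    rintro rfl
    rw [Algebra.norm_zero] at ha
    exact hν' (ha ▸ ⟨0, by simp⟩)
  obtain ⟨τ, hτ⟩ : ∃ τ : (E × E) →ₗ[F] (E × E),
      τ = (LinearMap.snd F E E).prod (LinearMap.fst F E E) := ⟨_, rfl⟩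
  obtain ⟨τ', hτ'⟩ : ∃ τ' : (E × E) →ₗ[F] (E × E),
      τ' = ((LinearMap.mulLeft F a) ∘ₗ LinearMap.snd F E E).prod
        ((LinearMap.mulLeft F a⁻¹) ∘ₗ LinearMap.fst F E E) := ⟨_, rfl⟩
  have hτapp : ∀ v, τ v = (v.2, v.1) := by
    intro v; rw [hτ]; rfl
  have hτ'app : ∀ v, τ' v = (a * v.2, a⁻¹ * v.1) := by
    intro v; rw [hτ']; rfl
  have hττ : ∀ v, τ (τ v) = v := by
    intro v; rw [hτapp, hτapp]
  have hττ' : ∀ v, τ' (τ' v) = v := by
    intro v
    rw [hτ'app, hτ'app]
    apply Prod.ext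
    · show a * (a⁻¹ * v.1) = v.1
      rw [← mul_assoc, mul_inv_cancel₀ ha0, one_mul]
    · show a⁻¹ * (a * v.2) = v.2
      rw [← mul_assoc, inv_mul_cancel₀ ha0, one_mul]
  have hτB : ∀ v w, polar (hypQ F E) (τ v) (τ w) = polar (hypQ F E) v w := by
    intro v w
    rw [hτapp, hτapp, polar_hypQ, polar_hypQ]
    congr 1
    show v.2 * w.1 + w.2 * v.1 = v.1 * w.2 + w.1 * v.2
    ring
  have hτB' : ∀ v w, polar (hypQ F E) (τ' v) (τ' w) = polar (hypQ F E) v w := by
    intro v w
    rw [hτ'app, hτ'app, polar_hypQ, polar_hypQ]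
    congr 1
    show a * v.2 * (a⁻¹ * w.1) + a * w.2 * (a⁻¹ * v.1) = v.1 * w.2 + w.1 * v.2
    field_simp
    ring
  have hprod : ∀ v, τ' (τ v) = (a * v.1, a⁻¹ * v.2) := by
    intro v; rw [hτapp, hτ'app]
  have hmemN : ∀ v, v ∈ LinearMap.ker (τ + 1) ↔ v.2 = -v.1 := by
    intro v
    rw [LinearMap.mem_ker, LinearMap.add_apply, Module.End.one_apply, hτapp]
    constructor
    · intro h
      have := congrArg Prod.fst h
      simp only [Prod.fst_add, Prod.fst_zero] at this
      exact eq_neg_of_add_eq_zero_left this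
    · intro h
      apply Prod.ext
      · simp only [Prod.fst_add, Prod.fst_zero]; rw [h]; ring
      · simp only [Prod.snd_add, Prod.snd_zero]; rw [h]; ring
  have hmemN' : ∀ v, v ∈ LinearMap.ker (τ' + 1) ↔ v.1 = -(a * v.2) := by
    intro v
    rw [LinearMap.mem_ker, LinearMap.add_apply, Module.End.one_apply, hτ'app]
    constructor
    · intro h
      have := congrArg Prod.fst h
      simp only [Prod.fst_add, Prod.fst_zero] at this
      exact eq_neg_of_add_eq_zero_right this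
    · intro h
      apply Prod.ext
      · simp only [Prod.fst_add, Prod.fst_zero]; rw [h]; ring
      · simp only [Prod.snd_add, Prod.snd_zero]; rw [h]; field_simp; ring
  -- D = (a, 1), inverse (a⁻¹, 1)
  obtain ⟨D₀, hD₀⟩ : ∃ D₀ : (E × E) →ₗ[F] (E × E),
      D₀ = ((LinearMap.mulLeft F a) ∘ₗ LinearMap.fst F E E).prod (LinearMap.snd F E E) :=
    ⟨_, rfl⟩
  obtain ⟨D₁, hD₁⟩ : ∃ D₁ : (E × E) →ₗ[F] (E × E),
      D₁ = ((LinearMap.mulLeft F a⁻¹) ∘ₗ LinearMap.fst F E E).prod (LinearMap.snd F E E) :=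
    ⟨_, rfl⟩
  have hD₀app : ∀ v, D₀ v = (a * v.1, v.2) := by intro v; rw [hD₀]; rfl
  have hD₁app : ∀ v, D₁ v = (a⁻¹ * v.1, v.2) := by intro v; rw [hD₁]; rfl
  have hDmap : ∀ v ∈ LinearMap.ker (τ + 1), D₀ v ∈ LinearMap.ker (τ' + 1) := by
    intro v hv
    rw [hmemN] at hv
    rw [hmemN', hD₀app]
    show a * v.1 = -(a * v.2)
    rw [hv]; ring
  have hDinv : ∀ v ∈ LinearMap.ker (τ' + 1), D₁ v ∈ LinearMap.ker (τ + 1) := by
    intro v hv
    rw [hmemN'] at hv
    rw [hmemN, hD₁app]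
    show v.2 = -(a⁻¹ * v.1)
    rw [hv]; field_simp
  obtain ⟨D, hD⟩ : ∃ D : LinearMap.ker (τ + 1) ≃ₗ[F] LinearMap.ker (τ' + 1),
      ∀ v, (D v : E × E) = (a * (v : E × E).1, (v : E × E).2) := by
    refine ⟨LinearEquiv.ofLinear (D₀.restrict hDmap) (D₁.restrict hDinv) ?_ ?_, fun v => ?_⟩
    · apply LinearMap.ext
      intro v
      apply Subtype.ext
      show D₀ (D₁ (v : E × E)) = v
      rw [hD₁app, hD₀app]
      apply Prod.ext
      · show a * (a⁻¹ * (v : E × E).1) = _
        rw [← mul_assoc, mul_inv_cancel₀ ha0, one_mul]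
      · rfl
    · apply LinearMap.ext
      intro v
      apply Subtype.ext
      show D₁ (D₀ (v : E × E)) = v
      rw [hD₀app, hD₁app]
      apply Prod.ext
      · show a⁻¹ * (a * (v : E × E).1) = _
        rw [← mul_assoc, inv_mul_cancel₀ ha0, one_mul]
      · rfl
    · show D₀ (v : E × E) = _
      rw [hD₀app]
  -- Γ = (a, a)
  obtain ⟨Γ₀, hΓ₀⟩ : ∃ Γ₀ : (E × E) →ₗ[F] (E × E),
      Γ₀ = ((LinearMap.mulLeft F a) ∘ₗ LinearMap.fst F E E).prod
        ((LinearMap.mulLeft F a) ∘ₗ LinearMap.snd F E E) := ⟨_, rfl⟩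
  have hΓ₀app : ∀ v, Γ₀ v = (a * v.1, a * v.2) := by intro v; rw [hΓ₀]; rfl
  have hΓmap : ∀ v ∈ LinearMap.ker (τ + 1), Γ₀ v ∈ LinearMap.ker (τ + 1) := by
    intro v hv
    rw [hmemN] at hv ⊢
    rw [hΓ₀app]
    show a * v.2 = -(a * v.1)
    rw [hv]; ring
  obtain ⟨Γ, hΓ⟩ : ∃ Γ : LinearMap.ker (τ + 1) →ₗ[F] LinearMap.ker (τ + 1),
      ∀ v, (Γ v : E × E) = (a * (v : E × E).1, a * (v : E × E).2) :=
    ⟨Γ₀.restrict hΓmap, fun v => by show Γ₀ (v : E × E) = _; rw [hΓ₀app]⟩
  have hΓpol : ∀ x y : LinearMap.ker (τ + 1),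
      polar (hypQ F E) (D x : E × E) (D y : E × E) =
        polar (hypQ F E) (x : E × E) (Γ y : E × E) := by
    intro x y
    rw [hD, hD, hΓ, polar_hypQ, polar_hypQ]
    have hx := (hmemN _).1 x.2
    have hy := (hmemN _).1 y.2
    congr 1
    show a * (x : E × E).1 * (y : E × E).2 + a * (y : E × E).1 * (x : E × E).2 =
      (x : E × E).1 * (a * (y : E × E).2) + a * (y : E × E).1 * (x : E × E).2
    ring
  obtain ⟨vs, hvs, hev, hw, hsq⟩ := two_invol_word (hypQ F E) h2 hypQ_nondeg τ τ' hττ hτB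
    hττ' hτB' D Γ hΓpol
  refine ⟨a, vs, ha0, hvs, hev, fun v => by rw [hw, hprod], ?_⟩
  rw [hsq]
  -- det Γ = N(a)
  obtain ⟨φ, hφ⟩ : ∃ φ : LinearMap.ker (τ + 1) ≃ₗ[F] E, ∀ v, φ v = (v : E × E).1 := by
    refine ⟨LinearEquiv.ofLinear ((LinearMap.fst F E E) ∘ₗ (LinearMap.ker (τ + 1)).subtype)
      ((LinearMap.id.prod (-LinearMap.id)).codRestrict (LinearMap.ker (τ + 1)) (fun x => by
        rw [hmemN]; rfl)) ?_ ?_, fun v => rfl⟩
    · apply LinearMap.ext
      intro x
      rfl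
    · apply LinearMap.ext
      intro v
      apply Subtype.ext
      have hv := (hmemN _).1 v.2
      apply Prod.ext
      · rfl
      · show -(v : E × E).1 = (v : E × E).2
        rw [hv]
  have hconj : Γ = φ.symm.toLinearMap ∘ₗ (Algebra.lmul F E a) ∘ₗ φ.symm.symm.toLinearMap := by
    apply LinearMap.ext
    intro v
    apply φ.injective
    rw [hφ, hΓ]
    simp only [LinearEquiv.symm_symm, LinearMap.comp_apply, LinearEquiv.coe_coe,
      LinearEquiv.apply_symm_apply]
    rw [hφ]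
    rfl
  rw [hconj, LinearMap.det_conj, ← Algebra.norm_apply, ha]
  exact hν'

end hypmodel

end Cfsg.Agent.Lib.Helper18.OrthSs
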