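import Cfsg.Agent.Lib.Helper18.OrthSsF
import Cfsg.Agent.Lib.Helper18.OrthSsI

set_option autoImplicit false

/-!
# A centralizing element of the special orthogonal group with nonsquare spinor norm
-/

namespace Cfsg.Agent.Lib.Helper18.OrthSs

open Module QuadraticMap Cfsg.Agent.Lib.Helper25 Cfsg.Agent.Lib.Helper25.Spin
  Cfsg.Agent.Lib.Helper25.CD

universe u v

section

variable {F : Type u} [Field F] {V : Type v} [AddCommGroup V] [Module F V]
  [FiniteDimensional F V] (Q : QuadraticForm F V) {k : V →ₗ[F] V} {r : ℕ}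

theorem Q_eq_of_polar (h2 : (2 : F) ≠ 0) {a b : V} (h : polar Q a a = polar Q b b) :
    Q a = Q b := by
  rw [polar_self, polar_self] at h
  simp only [nsmul_eq_mul, Nat.cast_ofNat] at h
  exact mul_left_cancel₀ h2 h

theorem IsoData.Q_iso (h : IsoData (polarBilin Q) k r) (h2 : (2 : F) ≠ 0) (x : V) :
    Q (k x) = Q x := by
  apply Q_eq_of_polar Q h2
  exact h.iso x x

/-- commutation of `k` with a reflection along a fixed vector -/
theorem IsoData.refl_comm (h : IsoData (polarBilin Q) k r) (h2 : (2 : F) ≠ 0) {v : V}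
    (hv : k v = v) (x : V) : reflE Q v (k x) = k (reflE Q v x) := by
  rw [reflE_apply, reflE_apply, map_sub, map_smul, hv]
  have : polar Q v (k x) = polar Q v x := by
    have := h.iso v x
    rw [hv] at this
    exact this
  rw [this]

/-- transfer of commutation -/
theorem IsoData.transfer_commute (h : IsoData (polarBilin Q) k r)
    {M : Type*} [AddCommGroup M] [Module F M] (QM : QuadraticForm F M)
    (hQM : (polarBilin QM).Nondegenerate) (ιM : M →ₗ[F] V) (hiso : ∀ m, Q (ιM m) = QM m)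
    (kM : M → M) (hk : ∀ m, k (ιM m) = ιM (kM m)) (vs : List M)
    (hcomm : ∀ m, wordProd QM vs (kM m) = kM (wordProd QM vs m)) (x : V) :
    wordProd Q (vs.map ιM) (k x) = k (wordProd Q (vs.map ιM) x) := by
  obtain ⟨-, ht2, ht3⟩ := transfer_word Q QM ιM hiso vs
  obtain ⟨W, hW⟩ : ∃ W : Submodule F V, W = LinearMap.range ιM := ⟨_, rfl⟩
  have hWnd : NdOn (polarBilin Q) W := by
    intro y hy hy'
    rw [hW] at hy
    obtain ⟨m, rfl⟩ := hy
    have hm : m = 0 := by
      apply hQM.1 m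
      intro m'
      show polar QM m m' = 0
      rw [← polar_of_iso Q QM ιM hiso]
      exact hy' (ιM m') (by rw [hW]; exact ⟨m', rfl⟩)
    rw [hm, map_zero]
  have hWinv : Inv k W := by
    intro y hy
    rw [hW] at hy ⊢
    obtain ⟨m, rfl⟩ := hy
    exact ⟨kM m, (hk m).symm⟩
  have hc := h.isCompl hWnd
  have hPinv := h.inv_perp hWinv
  have hx : x ∈ W ⊔ LinearMap.BilinForm.orthogonal (polarBilin Q) W := by rw [hc.sup_eq_top]; exact Submodule.mem_top
  obtain ⟨a, ha, p, hp, rfl⟩ := Submodule.mem_sup.1 hx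
  rw [hW] at ha
  obtain ⟨m, rfl⟩ := ha
  have hperp : ∀ p ∈ LinearMap.BilinForm.orthogonal (polarBilin Q) W, ∀ m, polar Q (ιM m) p = 0 := by
    intro p hp m
    rw [LinearMap.BilinForm.mem_orthogonal_iff] at hp
    exact hp (ιM m) (by rw [hW]; exact ⟨m, rfl⟩)
  rw [map_add, map_add, map_add, map_add, hk, ht2, ht2, hcomm, ← hk,
    ht3 p (hperp p hp), ht3 (k p) (hperp (k p) (hPinv p hp))]

/-- the case of a nonzero fixed space -/
theorem IsoData.spin_fixed (h : IsoData (polarBilin Q) k r) (h2 : (2 : F) ≠ 0)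
    (hbin : ∀ ν δ : F, ν ≠ 0 → δ ≠ 0 → ∃ s t : F, s ^ 2 - δ * t ^ 2 = ν)
    {ν' : F} (hν' : ¬ IsSquare ν') (hfr : 2 ≤ finrank F (fixedSpace k)) :
    ∃ vs : List V, (∀ v ∈ vs, Q v ≠ 0) ∧ Even vs.length ∧ ¬ IsSquare (normProd Q vs) ∧
      ∀ x, wordProd Q vs (k x) = k (wordProd Q vs x) := by
  have hν0 : ν' ≠ 0 := by
    rintro rfl
    exact hν' ⟨0, by simp⟩
  have hCnd := h.ndOn_fixedSpace
  have hne : fixedSpace k ≠ ⊥ := by
    intro h0
    rw [h0, finrank_bot] at hfr
    omega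
  obtain ⟨u, huC, hu⟩ := exists_aniso h.sym h2 hCnd hne
  have hu1 : Submodule.span F {u} ≤ fixedSpace k := by
    rw [Submodule.span_le]
    intro x hx
    rw [Set.mem_singleton_iff] at hx
    rw [hx]
    exact huC
  have hnd1 := ndOn_span_singleton (B := polarBilin Q) hu
  have hC' := h.ndOn_inf_perp hCnd hnd1 hu1
  have hfr' := h.finrank_inf_perp hnd1 hu1
  have hfu : finrank F (Submodule.span F {u}) = 1 := by
    apply finrank_span_singleton
    intro h0
    rw [h0] at hu
    simp at hu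
  have hne' : fixedSpace k ⊓ LinearMap.BilinForm.orthogonal (polarBilin Q) (Submodule.span F {u}) ≠ ⊥ := by
    intro h0
    rw [h0, finrank_bot] at hfr'
    omega
  obtain ⟨w, hwC', hw⟩ := exists_aniso h.sym h2 hC' hne'
  have hwC : w ∈ fixedSpace k := hwC'.1
  have huw : polar Q u w = 0 := by
    have h3 : w ∈ LinearMap.BilinForm.orthogonal (polarBilin Q) (Submodule.span F {u}) := (Submodule.mem_inf.1 hwC').2
    rw [LinearMap.BilinForm.mem_orthogonal_iff] at h3
    exact h3 u (Submodule.mem_span_singleton_self u)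
  have hQu : Q u ≠ 0 := by
    intro h0
    apply hu
    show polar Q u u = 0
    rw [polar_self, h0, smul_zero]
  have hQw : Q w ≠ 0 := by
    intro h0
    apply hw
    show polar Q w w = 0
    rw [polar_self, h0, smul_zero]
  obtain ⟨δ, hδ⟩ : ∃ δ : F, δ = -(Q w) / Q u := ⟨_, rfl⟩
  have hδ0 : δ ≠ 0 := by
    rw [hδ]
    exact div_ne_zero (neg_ne_zero.2 hQw) hQu
  obtain ⟨s, t, hst⟩ := hbin ν' δ hν0 hδ0
  obtain ⟨v₂, hv₂⟩ : ∃ v₂ : V, v₂ = s • u + t • w := ⟨_, rfl⟩
  have hQv₂ : Q v₂ = Q u * ν' := by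
    rw [hv₂, QuadraticMap.map_add Q, QuadraticMap.map_smul, QuadraticMap.map_smul, polar_smul_left,
      polar_smul_right, huw, ← hst, hδ]
    simp only [smul_eq_mul, mul_zero, add_zero]
    field_simp
    ring
  have hku : k u = u := (mem_fixedSpace k u).1 huC
  have hkw : k w = w := (mem_fixedSpace k w).1 hwC
  have hkv₂ : k v₂ = v₂ := by rw [hv₂, map_add, map_smul, map_smul, hku, hkw]
  refine ⟨[u, v₂], ?_, ⟨1, rfl⟩, ?_, ?_⟩
  · intro v hv
    simp only [List.mem_cons, List.not_mem_nil, or_false] at hv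
    rcases hv with rfl | rfl
    · exact hQu
    · rw [hQv₂]; exact mul_ne_zero hQu hν0
  · rw [normProd_cons, normProd_cons, normProd_nil, mul_one, hQv₂, ← mul_assoc, ← pow_two,
      isSquare_sq_mul_iff' hQu]
    exact hν'
  · intro x
    rw [wordProd_cons, wordProd_cons, wordProd_nil, mul_one, LinearEquiv.mul_apply,
      LinearEquiv.mul_apply, h.refl_comm Q h2 hkv₂, h.refl_comm Q h2 hku]

end

end Cfsg.Agent.Lib.Helper18.OrthSs
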