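import Cfsg.Agent.Lib.Helper18.OrthSsJ

set_option autoImplicit false

/-!
# A centralizing element with nonsquare spinor norm: irreducible and hyperbolic pieces
-/

namespace Cfsg.Agent.Lib.Helper18.OrthSs

open Module QuadraticMap Cfsg.Agent.Lib.Helper25 Cfsg.Agent.Lib.Helper25.Spin
  Cfsg.Agent.Lib.Helper25.CD

universe u v

variable {F : Type u} [Field F] {V : Type v} [AddCommGroup V] [Module F V]
  [FiniteDimensional F V] (Q : QuadraticForm F V) {k : V →ₗ[F] V} {r : ℕ}

/-- on an irreducible invariant subspace without fixed points, the generator of the field model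
is not its own inverse -/
theorem IsoData.model_nontrivial {B : LinearMap.BilinForm F V} (h : IsoData B k r) (hodd : Odd r)
    {W : Submodule F V} (hinv : Inv k W) (hfpf : Fpf k W) (hne : W ≠ ⊥)
    {E : Type*} [Field E] [Algebra F E] (e : W ≃ₗ[F] E) (z : E) (hz0 : z ≠ 0)
    (hek1 : ∀ x : W, e ⟨k x, hinv x x.2⟩ = z * e x) : z ≠ z⁻¹ := by
  intro hzz
  have hzz' : z * z = 1 := by
    nth_rewrite 2 [hzz]
    exact mul_inv_cancel₀ hz0
  have hk2 : ∀ x ∈ W, k (k x) = x := by
    intro x hx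
    have h1 := hek1 ⟨k x, hinv x hx⟩
    have h3 := hek1 ⟨x, hx⟩
    rw [h3, ← mul_assoc, hzz', one_mul] at h1
    have := e.injective h1
    exact congrArg Subtype.val this
  have hk2m : ∀ m : ℕ, ∀ x ∈ W, (k ^ (2 * m)) x = x := by
    intro m
    induction m with
    | zero => intro x _; simp
    | succ m ih =>
      intro x hx
      rw [Nat.mul_succ, pow_add, Module.End.mul_apply, pow_two, Module.End.mul_apply,
        hk2 x hx, ih x hx]
  obtain ⟨m, hm⟩ := hodd
  have hfix : ∀ x ∈ W, k x = x := by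
    intro x hx
    have h1 := h.pow_apply x
    rw [hm, pow_succ, Module.End.mul_apply, hk2m m _ (hinv x hx)] at h1
    exact h1
  apply hne
  rw [eq_bot_iff]
  intro x hx
  exact hfpf x hx (hfix x hx)

/-- irreducible self-dual piece -/
theorem IsoData.spin_irred [Fintype F] (h : IsoData (polarBilin Q) k r) (hodd : Odd r)
    (h2 : (2 : F) ≠ 0) {W : Submodule F V} (hW : NdOn (polarBilin Q) W) (hinv : Inv k W)
    (hfpf : Fpf k W) (hne : W ≠ ⊥)
    (hirr : ∀ U : Submodule F V, U ≤ W → Inv k U → U = ⊥ ∨ U = W) :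
    ∃ vs : List V, (∀ v ∈ vs, Q v ≠ 0) ∧ Even vs.length ∧ ¬ IsSquare (normProd Q vs) ∧
      ∀ x, wordProd Q vs (k x) = k (wordProd Q vs x) := by
  obtain ⟨E, hE1, hE2, hE3, e, ζ, hspan, hek⟩ := h.exists_field_model hinv hne hirr
  haveI : Finite E := Module.finite_of_finite F
  obtain ⟨z, hz⟩ : ∃ z : E, z = ζ (Multiplicative.ofAdd 1) := ⟨_, rfl⟩
  have hz0 : z ≠ 0 := by rw [hz]; exact AbelIrr.zeta_ne_zero ζ _
  have hek1 : ∀ x : W, e ⟨k x, hinv x x.2⟩ = z * e x := by
    intro x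
    have := hek (Multiplicative.ofAdd 1) x
    rw [toAdd_ofAdd, zpow_one] at this
    rw [hz, ← this]
    rfl
  obtain ⟨ιM, hιM⟩ : ∃ ιM : E →ₗ[F] V, ιM = W.subtype ∘ₗ e.symm.toLinearMap := ⟨_, rfl⟩
  have hιapp : ∀ m, ιM m = (e.symm m : V) := by
    intro m
    rw [hιM]
    rfl
  obtain ⟨QE, hQEdef⟩ : ∃ QE : QuadraticForm F E, QE = Q.comp ιM := ⟨_, rfl⟩
  have hiso : ∀ m, Q (ιM m) = QE m := by
    intro m
    rw [hQEdef]
    rfl
  have hpol : ∀ a b, polar QE a b = polar Q (ιM a) (ιM b) := fun a b =>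
    (polar_of_iso Q QE ιM hiso a b).symm
  have hsepL : ∀ x, (∀ y, polar QE x y = 0) → x = 0 := by
    intro x hx
    have h1 : ιM x = 0 := by
      apply hW (ιM x) (by rw [hιapp]; exact Submodule.coe_mem _)
      intro w hw
      have : w = ιM (e ⟨w, hw⟩) := by rw [hιapp, e.symm_apply_apply]
      rw [this]
      show polar Q (ιM x) (ιM (e ⟨w, hw⟩)) = 0
      rw [← hpol]
      exact hx _
    rw [hιapp] at h1
    have h3 : e.symm x = 0 := Subtype.ext h1
    exact (LinearEquiv.map_eq_zero_iff e.symm).1 h3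
  have hQE : (polarBilin QE).Nondegenerate := by
    constructor
    · intro x hx
      exact hsepL x hx
    · intro x hx
      apply hsepL x
      intro y
      rw [polar_comm]
      exact hx y
  have hes : ∀ (g : Multiplicative ℤ) (x : E), e.symm (ζ g * x) =
      (((restrictUnit h hinv) ^ (Multiplicative.toAdd g) : (Module.End F W)ˣ) :
          Module.End F W) (e.symm x) := by
    intro g x
    apply e.injective
    rw [hek, e.apply_symm_apply, e.apply_symm_apply]
  have hinvQ : ∀ g x, QE (ζ g * x) = QE x := by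
    intro g x
    rw [← hiso, ← hiso, hιapp, hιapp, hes]
    apply Q_eq_of_polar Q h2
    exact restrictUnit_zpow_iso h hinv _ _ _
  have hnt : ∃ g, ζ g ≠ (ζ g)⁻¹ := by
    refine ⟨Multiplicative.ofAdd 1, ?_⟩
    rw [← hz]
    exact h.model_nontrivial hodd hinv hfpf hne e z hz0 hek1
  obtain ⟨c, vsE, hvs, hev, hw, hns⟩ := exists_spin_elt ζ h2 hspan QE hQE hinvQ hnt
  obtain ⟨ht1, -, -⟩ := transfer_word Q QE ιM hiso vsE
  refine ⟨vsE.map ιM, ?_, ?_, ?_, ?_⟩
  · intro v hv
    obtain ⟨v', hv', rfl⟩ := List.mem_map.1 hv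
    rw [hiso]
    exact hvs v' hv'
  · rw [List.length_map]
    exact hev
  · rw [ht1]
    exact hns
  · apply h.transfer_commute Q QE hQE ιM hiso (fun m => z * m)
    · intro m
      have := hek1 (e.symm m)
      rw [e.apply_symm_apply] at this
      rw [hιapp, hιapp, ← this, e.symm_apply_apply]
    · intro m
      rw [hw, hw]
      ring

/-- the two totally isotropic summands of a nondegenerate space have the same dimension -/
theorem finrank_tiso_le {B : LinearMap.BilinForm F V} {W X Y : Submodule F V} (hW : NdOn B W)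
    (hX : ∀ x ∈ X, ∀ y ∈ X, B x y = 0) (hXY : X ⊔ Y = W) : finrank F X ≤ finrank F Y := by
  obtain ⟨φ, hφ⟩ : ∃ φ : X →ₗ[F] Module.Dual F Y, φ = B.domRestrict₁₂ X Y := ⟨_, rfl⟩
  have hinj : Function.Injective φ := by
    rw [← LinearMap.ker_eq_bot, eq_bot_iff]
    intro x hx
    rw [LinearMap.mem_ker] at hx
    rw [Submodule.mem_bot]
    apply Subtype.ext
    rw [Submodule.coe_zero]
    have hxW : (x : V) ∈ W := by rw [← hXY]; exact Submodule.mem_sup_left x.2
    apply hW _ hxW
    intro y hy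
    rw [← hXY] at hy
    obtain ⟨a, ha, b, hb, rfl⟩ := Submodule.mem_sup.1 hy
    rw [map_add, hX _ x.2 a ha, zero_add]
    have := LinearMap.congr_fun hx ⟨b, hb⟩
    rw [hφ, LinearMap.domRestrict₁₂_apply] at this
    exact this
  have := LinearMap.finrank_le_finrank_of_injective hinj
  rwa [Subspace.dual_finrank_eq] at this

/-- hyperbolic piece -/
theorem IsoData.spin_hyp [Fintype F] (h : IsoData (polarBilin Q) k r) (h2 : (2 : F) ≠ 0)
    {W U U' : Submodule F V} (hW : NdOn (polarBilin Q) W) (hU : Inv k U) (hU' : Inv k U')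
    (hti : Tiso (polarBilin Q) U) (hti' : Tiso (polarBilin Q) U') (hsup : U ⊔ U' = W)
    (hUne : U ≠ ⊥) (hUirr : ∀ X : Submodule F V, X ≤ U → Inv k X → X = ⊥ ∨ X = U) :
    ∃ vs : List V, (∀ v ∈ vs, Q v ≠ 0) ∧ Even vs.length ∧ ¬ IsSquare (normProd Q vs) ∧
      ∀ x, wordProd Q vs (k x) = k (wordProd Q vs x) := by
  obtain ⟨E, hE1, hE2, hE3, e, ζ, hspan, hek⟩ := h.exists_field_model hU hUne hUirr
  haveI : Finite E := Module.finite_of_finite F
  obtain ⟨z, hz⟩ : ∃ z : E, z = ζ (Multiplicative.ofAdd 1) := ⟨_, rfl⟩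
  have hz0 : z ≠ 0 := by rw [hz]; exact AbelIrr.zeta_ne_zero ζ _
  have hek1 : ∀ x : U, e ⟨k x, hU x x.2⟩ = z * e x := by
    intro x
    have := hek (Multiplicative.ofAdd 1) x
    rw [toAdd_ofAdd, zpow_one] at this
    rw [hz, ← this]
    rfl
  have hdim : finrank F U = finrank F U' :=
    le_antisymm (finrank_tiso_le hW hti hsup) (finrank_tiso_le hW hti' (by rw [sup_comm]; exact hsup))
  -- the pairing `U' → Dual U`
  obtain ⟨θ, hθ⟩ : ∃ θ : U' →ₗ[F] Module.Dual F U,
      θ = ((polarBilin Q).domRestrict₁₂ U U').flip := ⟨_, rfl⟩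
  have hθapp : ∀ (u' : U') (u : U), θ u' u = polar Q (u : V) (u' : V) := by
    intro u' u
    rw [hθ]
    rfl
  have hθinj : Function.Injective θ := by
    rw [← LinearMap.ker_eq_bot, eq_bot_iff]
    intro x hx
    rw [LinearMap.mem_ker] at hx
    rw [Submodule.mem_bot]
    apply Subtype.ext
    rw [Submodule.coe_zero]
    have hxW : (x : V) ∈ W := by rw [← hsup]; exact Submodule.mem_sup_right x.2
    apply hW _ hxW
    intro y hy
    rw [← hsup] at hy
    obtain ⟨a, ha, b, hb, rfl⟩ := Submodule.mem_sup.1 hy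
    rw [map_add, hti' _ x.2 b hb, add_zero]
    have := LinearMap.congr_fun hx ⟨a, ha⟩
    rw [hθapp] at this
    show polar Q (x : V) a = 0
    rw [polar_comm]
    exact this
  obtain ⟨θe, hθe⟩ : ∃ θe : U' ≃ₗ[F] Module.Dual F U, ∀ x, θe x = θ x :=
    ⟨LinearMap.linearEquivOfInjective θ hθinj (by rw [Subspace.dual_finrank_eq, hdim]),
      fun x => rfl⟩
  obtain ⟨Φ, hΦ⟩ : ∃ Φ : E →ₗ[F] Module.Dual F U,
      Φ = (LinearMap.lcomp F F e.toLinearMap) ∘ₗ (Algebra.traceForm F E).flip := ⟨_, rfl⟩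
  have hΦapp : ∀ (y : E) (u : U), Φ y u = Algebra.trace F E (e u * y) := by
    intro y u
    rw [hΦ]
    rfl
  obtain ⟨η, hη⟩ : ∃ η : E →ₗ[F] U', η = θe.symm.toLinearMap ∘ₗ Φ := ⟨_, rfl⟩
  have hηapp : ∀ (u : U) (y : E), polar Q (u : V) (η y : V) = Algebra.trace F E (e u * y) := by
    intro u y
    rw [← hθapp, ← hθe, hη, LinearMap.comp_apply, LinearEquiv.coe_coe, θe.apply_symm_apply,
      hΦapp]
  obtain ⟨ιM, hιM⟩ : ∃ ιM : (E × E) →ₗ[F] V,
      ιM = (U.subtype ∘ₗ e.symm.toLinearMap).coprod (U'.subtype ∘ₗ η) := ⟨_, rfl⟩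
  have hιapp : ∀ v : E × E, ιM v = (e.symm v.1 : V) + (η v.2 : V) := by
    intro v
    rw [hιM, LinearMap.coprod_apply]
    rfl
  have hQ0 : ∀ {X : Submodule F V}, Tiso (polarBilin Q) X → ∀ x ∈ X, Q x = 0 := by
    intro X hX x hx
    have h1 : polar Q x x = 0 := hX x hx x hx
    rw [polar_self] at h1
    simp only [nsmul_eq_mul, Nat.cast_ofNat] at h1
    rcases mul_eq_zero.1 h1 with h3 | h3
    · exact absurd h3 h2
    · exact h3
  have hiso : ∀ m, Q (ιM m) = hypQ F E m := by
    intro m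
    rw [hιapp, QuadraticMap.map_add Q, hQ0 hti _ (Submodule.coe_mem _),
      hQ0 hti' _ (Submodule.coe_mem _), hηapp, e.apply_symm_apply, hypQ_apply]
    ring
  -- equivariance
  have hkU : ∀ x : E, k (e.symm x : V) = (e.symm (z * x) : V) := by
    intro x
    have := hek1 (e.symm x)
    rw [e.apply_symm_apply] at this
    rw [← this, e.symm_apply_apply]
  have hkη : ∀ y : E, k (η y : V) = (η (z⁻¹ * y) : V) := by
    intro y
    have hmem : k (η y : V) ∈ U' := hU' _ (Submodule.coe_mem _)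
    have : (⟨k (η y : V), hmem⟩ : U') = η (z⁻¹ * y) := by
      apply hθinj
      apply LinearMap.ext
      intro u
      rw [hθapp, hθapp, hηapp]
      -- write u = k u₀
      obtain ⟨u₀, hu₀⟩ : ∃ u₀ : U, (u : V) = k (u₀ : V) :=
        ⟨⟨(k ^ (r - 1)) (u : V), hU.pow (r - 1) _ u.2⟩, (h.inv_right (u : V)).symm⟩
      have hu₀' : u = ⟨k (u₀ : V), hU _ u₀.2⟩ := Subtype.ext hu₀
      have h1 : polar Q (u : V) (k (η y : V)) = polar Q (u₀ : V) (η y : V) := by
        rw [hu₀]
        exact h.iso _ _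
      show polar Q (u : V) (k (η y : V)) = _
      rw [h1, hηapp, hu₀', hek1]
      congr 1
      field_simp
    exact congrArg Subtype.val this
  obtain ⟨a, vsM, ha0, hvs, hev, hw, hns⟩ := exists_spin_elt_hyp (F := F) (E := E) h2
  obtain ⟨ht1, -, -⟩ := transfer_word Q (hypQ F E) ιM hiso vsM
  refine ⟨vsM.map ιM, ?_, ?_, ?_, ?_⟩
  · intro v hv
    obtain ⟨v', hv', rfl⟩ := List.mem_map.1 hv
    rw [hiso]
    exact hvs v' hv'
  · rw [List.length_map]
    exact hev
  · rw [ht1]
    exact hns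
  · apply h.transfer_commute Q (hypQ F E) hypQ_nondeg ιM hiso (fun m => (z * m.1, z⁻¹ * m.2))
    · intro m
      rw [hιapp, hιapp, map_add, hkU, hkη]
    · intro m
      rw [hw, hw]
      apply Prod.ext
      · show a * (z * m.1) = z * (a * m.1)
        ring
      · show a⁻¹ * (z⁻¹ * m.2) = z⁻¹ * (a⁻¹ * m.2)
        ring

/-- **Main theorem**: an even word of reflections with nonsquare norm product commuting with
`k`. -/
theorem IsoData.exists_spin_word [Fintype F] (h : IsoData (polarBilin Q) k r) (hodd : Odd r)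
    (h2 : (2 : F) ≠ 0)
    (hbin : ∀ ν δ : F, ν ≠ 0 → δ ≠ 0 → ∃ s t : F, s ^ 2 - δ * t ^ 2 = ν)
    (heven : Even (finrank F V)) (hpos : 0 < finrank F V) :
    ∃ vs : List V, (∀ v ∈ vs, Q v ≠ 0) ∧ Even vs.length ∧ ¬ IsSquare (normProd Q vs) ∧
      ∀ x, wordProd Q vs (k x) = k (wordProd Q vs x) := by
  by_cases hC : fixedSpace k = ⊥
  · -- no fixed points
    have hfpf : Fpf k ⊤ := by
      intro x _ hx
      have : x ∈ fixedSpace k := (mem_fixedSpace k x).2 hx
      rw [hC] at this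
      exact this
    have htop : (⊤ : Submodule F V) ≠ ⊥ := by
      intro h0
      have := finrank_top F V
      rw [h0, finrank_bot] at this
      omega
    obtain ⟨W₁, -, hmin⟩ := exists_minPiece (B := polarBilin Q) htop (inv_top k) h.ndOn_top
    have hfpf₁ : Fpf k W₁ := fun x _ hx => hfpf x Submodule.mem_top hx
    rcases h.minPiece_cases hmin with ⟨U, U', hU, hU', hti, hti', -, hsup, hUne, hUirr⟩ | hirr
    · exact h.spin_hyp Q h2 hmin.2.2.1 hU hU' hti hti' hsup hUne hUirr
    · exact h.spin_irred Q hodd h2 hmin.2.2.1 hmin.2.1 hfpf₁ hmin.1 hirr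
  · have hCnd := h.ndOn_fixedSpace
    have hPnd := h.ndOn_perp hCnd
    have hCinv : Inv k (fixedSpace k) := IsoData.inv_fixedSpace
    have hP := h.pieceSim_fpf hodd (one_ne_zero (α := F)) _ _ rfl hPnd (h.inv_perp hCinv)
      h.fpf_perp_fixedSpace
    obtain ⟨g₁, n₁, hf₁, -⟩ := hP
    have hc := h.isCompl hCnd
    have hfr : finrank F (fixedSpace k) +
        finrank F (LinearMap.BilinForm.orthogonal (polarBilin Q) (fixedSpace k)) =
        finrank F V := by
      have := Submodule.finrank_sup_add_finrank_inf_eq (fixedSpace k)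
        (LinearMap.BilinForm.orthogonal (polarBilin Q) (fixedSpace k))
      rw [hc.sup_eq_top, hc.inf_eq_bot, finrank_top, finrank_bot, add_zero] at this
      exact this.symm
    obtain ⟨m, hm⟩ := heven
    have hC0 : finrank F (fixedSpace k) ≠ 0 := by
      intro h0
      exact hC (Submodule.finrank_eq_zero.1 h0)
    have hC2 : 2 ≤ finrank F (fixedSpace k) := by omega
    have hchar : ringChar F ≠ 2 := ringChar_ne_two h2
    obtain ⟨ν', hν'⟩ := FiniteField.exists_nonsquare hchar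
    exact h.spin_fixed Q h2 hbin hν' hC2

end Cfsg.Agent.Lib.Helper18.OrthSs
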