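import Cfsg.Agent.Lib.Helper18.OrthSsK
import Cfsg.Agent.Lib.Helper25.POmegaSim6
import Cfsg.Agent.Lib.Helper25.POmegaSimForms

set_option autoImplicit false

/-!
# Semisimple isometries of odd order: from linear maps to the matrix groups
-/

namespace Cfsg.Agent.Lib.Helper18.OrthSs

open Module QuadraticMap Matrix Cfsg.Agent.Lib.Helper25 Cfsg.Agent.Lib.Helper25.Spin
  Cfsg.Agent.Lib.Helper25.CD Cfsg.Agent.Lib.Helper25.PSim Cfsg.Agent.Lib.Helper25.PAut

universe u

section bridge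

variable {ι : Type} [Fintype ι] [DecidableEq ι] {F : Type u} [Field F]
  (Q : QuadraticForm F (ι → F))

/-- the linear map of an isometry -/
noncomputable def linOf (k : ↥(Cfsg.isometryGroup F ⇑Q)) : (ι → F) →ₗ[F] (ι → F) :=
  Matrix.toLin' ((k : GL ι F) : Matrix ι ι F)

theorem linOf_apply (k : ↥(Cfsg.isometryGroup F ⇑Q)) (x : ι → F) :
    linOf Q k x = ((k : GL ι F) : Matrix ι ι F) *ᵥ x := by
  unfold linOf
  rw [Matrix.toLin'_apply]

theorem linOf_eq_toOG (k : ↥(Cfsg.isometryGroup F ⇑Q)) (x : ι → F) :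
    linOf Q k x = toOG Q k x := by
  rw [linOf_apply, toOG_apply]

theorem linOf_mul (k l : ↥(Cfsg.isometryGroup F ⇑Q)) : linOf Q (k * l) = linOf Q k * linOf Q l := by
  apply LinearMap.ext
  intro x
  rw [Module.End.mul_apply, linOf_apply, linOf_apply, linOf_apply, Matrix.mulVec_mulVec]
  rfl

theorem linOf_one : linOf Q 1 = 1 := by
  apply LinearMap.ext
  intro x
  rw [linOf_apply, Module.End.one_apply]
  show ((1 : GL ι F) : Matrix ι ι F) *ᵥ x = x
  rw [Units.val_one, Matrix.one_mulVec]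

theorem linOf_pow (k : ↥(Cfsg.isometryGroup F ⇑Q)) (n : ℕ) : linOf Q (k ^ n) = linOf Q k ^ n := by
  induction n with
  | zero => rw [pow_zero, pow_zero, linOf_one]
  | succ n ih => rw [pow_succ, pow_succ, linOf_mul, ih]

theorem polar_self (h2 : (2 : F) ≠ 0) (x : ι → F) : polar Q x x = 2 * Q x := by
  unfold polar
  have : Q (x + x) = 4 * Q x := by
    rw [← two_smul F x, QuadraticMap.map_smul, smul_eq_mul]
    ring
  rw [this]
  ring

theorem isoData_of (hQ : (polarBilin Q).Nondegenerate) (k : ↥(Cfsg.isometryGroup F ⇑Q))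
    {r : ℕ} (hk : k ^ r = 1) (hr : 0 < r) (hrF : (r : F) ≠ 0) :
    IsoData (polarBilin Q) (linOf Q k) r where
  sym x y := by
    rw [polarBilin_apply_apply, polarBilin_apply_apply, polar_comm]
  nd := hQ
  iso x y := by
    rw [polarBilin_apply_apply, polarBilin_apply_apply, linOf_apply, linOf_apply]
    unfold polar
    rw [← Matrix.mulVec_add, Q_iso, Q_iso, Q_iso]
  pow := by rw [← linOf_pow, hk, linOf_one]
  rpos := hr
  rinv := hrF

end bridge

section elements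

variable {ι : Type} [Fintype ι] [DecidableEq ι] {F : Type u} [Field F] [Fintype F]
  (Q : QuadraticForm F (ι → F)) (u₀ : ι → F) (hu₀ : Q u₀ = 1)

/-- a proper similitude with prescribed multiplier commuting with `k` -/
theorem exists_proper_sim (h2 : (2 : F) ≠ 0)
    (hQ : (polarBilin Q).Nondegenerate) {m : ℕ} (hcard : Fintype.card ι = 2 * m)
    (k : ↥(Cfsg.isometryGroup F ⇑Q)) {r : ℕ} (hk : k ^ r = 1) (hodd : Odd r) (hrF : (r : F) ≠ 0)
    {ν : F} (hν : ν ≠ 0) (hbin : ∀ δ : F, δ ≠ 0 → ∃ s t : F, s ^ 2 - δ * t ^ 2 = ν) :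
    ∃ c : ↥(Cfsg.Geo.quadSimilarityGroup (F := F) ⇑Q), IsProper Q u₀ hu₀ m c ∧
      (mult Q u₀ hu₀ c : F) = ν ∧ c * incl ⇑Q k = incl ⇑Q k * c := by
  have hd := isoData_of Q hQ k hk hodd.pos hrF
  have heven : Even (finrank F (ι → F)) := by
    rw [Module.finrank_fintype_fun_eq_card, hcard]
    exact ⟨m, two_mul m⟩
  obtain ⟨g, n, hfin, hdet, hcomm, hsim⟩ := hd.exists_sim hodd h2 hν hbin heven
  have hnm : n = m := by
    rw [Module.finrank_fintype_fun_eq_card, hcard] at hfin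
    omega
  obtain ⟨A, hA⟩ : ∃ A, A = LinearMap.toMatrix' g := ⟨_, rfl⟩
  have hAv : ∀ v, A *ᵥ v = g v := by
    intro v
    rw [hA, ← Matrix.toLin'_apply, Matrix.toLin'_toMatrix']
  have hQA : ∀ v, Q (A *ᵥ v) = ν * Q v := by
    intro v
    have h1 := hsim v v
    rw [polarBilin_apply_apply, polarBilin_apply_apply, polar_self Q h2, polar_self Q h2] at h1
    rw [hAv]
    apply mul_left_cancel₀ h2
    linear_combination h1
  obtain ⟨d, hd'⟩ := exists_gl_of_sim Q hQ A ν hν hQA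
  have hmem : d ∈ Cfsg.Geo.quadSimilarityGroup (F := F) ⇑Q := by
    refine ⟨Units.mk0 ν hν, fun v => ?_⟩
    rw [hd', hQA]
    rfl
  have hmult : (mult Q u₀ hu₀ ⟨d, hmem⟩ : F) = ν := by
    rw [mult_val]
    show Q ((d : Matrix ι ι F) *ᵥ u₀) = ν
    rw [hd', hQA, hu₀, mul_one]
  refine ⟨⟨d, hmem⟩, ?_, hmult, ?_⟩
  · unfold IsProper
    rw [hmult]
    show (d : Matrix ι ι F).det = ν ^ m
    rw [hd', hA, LinearMap.det_toMatrix', hdet, hnm]
  · apply Subtype.ext
    apply Units.ext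
    show ((d * k.1 : GL ι F) : Matrix ι ι F) = ((k.1 * d : GL ι F) : Matrix ι ι F)
    rw [Units.val_mul, Units.val_mul, hd']
    apply matrix_eq_of_mulVec
    intro x
    rw [← Matrix.mulVec_mulVec, ← Matrix.mulVec_mulVec, hAv, hAv, ← linOf_apply, ← linOf_apply]
    exact LinearMap.congr_fun hcomm x

/-- an element of `SO ∖ Ω` commuting with `k`, as a word in reflections -/
theorem exists_spin_elt_grp (h2 : (2 : F) ≠ 0)
    (hQ : (polarBilin Q).Nondegenerate) {m : ℕ} (hcard : Fintype.card ι = 2 * m) (hm : 0 < m)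
    (k : ↥(Cfsg.isometryGroup F ⇑Q)) {r : ℕ} (hk : k ^ r = 1) (hodd : Odd r) (hrF : (r : F) ≠ 0)
    (hbin : ∀ ν δ : F, ν ≠ 0 → δ ≠ 0 → ∃ s t : F, s ^ 2 - δ * t ^ 2 = ν) :
    ∃ vs : List (ι → F), (∀ v ∈ vs, Q v ≠ 0) ∧ Even vs.length ∧ ¬ IsSquare (normProd Q vs) ∧
      wordG Q vs * k = k * wordG Q vs := by
  have hd := isoData_of Q hQ k hk hodd.pos hrF
  have hfin : finrank F (ι → F) = 2 * m := by
    rw [Module.finrank_fintype_fun_eq_card, hcard]
  have heven : Even (finrank F (ι → F)) := by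
    rw [hfin]
    exact ⟨m, two_mul m⟩
  obtain ⟨vs, hvs, hev, hns, hcomm⟩ :=
    IsoData.exists_spin_word Q hd hodd h2 hbin heven (by rw [hfin]; omega)
  refine ⟨vs, hvs, hev, hns, ?_⟩
  apply toOG_injective
  rw [map_mul, map_mul, toOG_wordG]
  apply LinearEquiv.ext
  intro x
  rw [LinearEquiv.mul_apply, LinearEquiv.mul_apply, ← linOf_eq_toOG, ← linOf_eq_toOG]
  exact hcomm x

end elements

end Cfsg.Agent.Lib.Helper18.OrthSs
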