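import Cfsg.Agent.Lib.Helper18.OrthSsL

set_option autoImplicit false

/-!
# Class fusion for elements of odd prime order in `PΩ^±`: the generic argument
-/

namespace Cfsg.Agent.Lib.Helper18.OrthSs

open Module QuadraticMap Matrix Cfsg.Agent.Lib.Helper25 Cfsg.Agent.Lib.Helper25.Spin
  Cfsg.Agent.Lib.Helper25.CD Cfsg.Agent.Lib.Helper25.PSim Cfsg.Agent.Lib.Helper25.PAut

universe u

section abstract

theorem isConjUnder_mono {X : Type*} [Group X] {H K : Subgroup X} (h : H ≤ K) {x y : X} :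
    Cfsg.IsConjUnder H x y → Cfsg.IsConjUnder K x y := by
  rintro ⟨g, hg, rfl⟩
  exact ⟨g, h hg, rfl⟩

theorem mem_of_pow_mem {X : Type*} [Group X] (N : Subgroup X) {x : X} {r n : ℕ}
    (hxr : orderOf x = r) (hcop : Nat.Coprime n r) (hr : 1 < r) (h : x ^ n ∈ N) : x ∈ N := by
  obtain ⟨j, -, hj⟩ := Nat.exists_mul_mod_eq_one_of_coprime hcop hr
  have : x = (x ^ n) ^ j := by
    rw [← pow_mul, ← pow_mod_orderOf, hxr, hj, pow_one]
  rw [this]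
  exact pow_mem h j

theorem hbin_of {F : Type*} [Field F] [Fintype F] (h2 : (2 : F) ≠ 0) (ν δ : F) (hδ : δ ≠ 0) :
    ∃ s t : F, s ^ 2 - δ * t ^ 2 = ν := by
  have hodd : Fintype.card F % 2 = 1 := FiniteField.odd_card_of_char_ne_two (ringChar_ne_two h2)
  have hD : (0 : F) ^ 2 - 4 * (-δ) ≠ 0 := by
    have h4 : (4 : F) ≠ 0 := by
      have : (4 : F) = 2 * 2 := by norm_num
      rw [this]
      exact mul_ne_zero h2 h2
    have : (0 : F) ^ 2 - 4 * (-δ) = 4 * δ := by ring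
    rw [this]
    exact mul_ne_zero h4 hδ
  obtain ⟨x, y, hxy⟩ := binary_universal 0 (-δ) hodd h2 hD ν
  exact ⟨x, y, by linear_combination hxy⟩

end abstract

section images

variable {ι : Type} [Fintype ι] [DecidableEq ι] {F : Type u} [Field F]
  (Q : (ι → F) → F)

theorem conjTHom_mem_poAut (h : ↥(Cfsg.isometryGroup F Q)) : conjTHom Q h ∈ Cfsg.poAut F Q := by
  unfold Cfsg.poAut Cfsg.autSubgroupOf
  apply Subgroup.subset_closure
  exact ⟨h.1, h.2, (PAut.induced_iff Q h.1 h.2 _).2 rfl⟩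

theorem poAut_le_range : Cfsg.poAut F Q ≤ (conjTHom Q).range := by
  unfold Cfsg.poAut Cfsg.autSubgroupOf
  rw [Subgroup.closure_le]
  rintro β ⟨g, hg, hind⟩
  exact ⟨⟨g, hg⟩, ((PAut.induced_iff Q g hg β).1 hind).symm⟩

theorem poAut_le_pgoAut : Cfsg.poAut F Q ≤ Cfsg.pgoAut F Q := by
  unfold Cfsg.poAut Cfsg.pgoAut Cfsg.autSubgroupOf
  apply Subgroup.closure_mono
  rintro β ⟨g, hg, hind⟩
  exact ⟨g, iso_le_sim Q hg, hind⟩

end images

section steps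

variable {ι : Type} [Fintype ι] [DecidableEq ι] {F : Type u} [Field F] [Fintype F]
  (Q : QuadraticForm F (ι → F)) (u₀ : ι → F) (hu₀ : Q u₀ = 1)
  (h2 : (2 : F) ≠ 0) (hQ : (polarBilin Q).Nondegenerate) {m : ℕ}
  (hcard : Fintype.card ι = 2 * m)

include h2 hQ hcard in
theorem stepA (c X g : ↥(Cfsg.Geo.quadSimilarityGroup (F := F) ⇑Q))
    (hcν : ¬ IsSquare (mult Q u₀ hu₀ c : F)) (hcp : IsProper Q u₀ hu₀ m c)
    (hcX : c * X = X * c) :
    ∃ g₁ : ↥(Cfsg.Geo.quadSimilarityGroup (F := F) ⇑Q), IsSquare (mult Q u₀ hu₀ g₁ : F) ∧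
      (IsProper Q u₀ hu₀ m g → IsProper Q u₀ hu₀ m g₁) ∧
      theta ⇑Q g₁ * theta ⇑Q X * (theta ⇑Q g₁)⁻¹ =
        theta ⇑Q g * theta ⇑Q X * (theta ⇑Q g)⁻¹ := by
  by_cases hsq : IsSquare (mult Q u₀ hu₀ g : F)
  · exact ⟨g, hsq, fun h => h, rfl⟩
  · refine ⟨g * c, ?_, ?_, ?_⟩
    · rw [map_mul, Units.val_mul, isSquare_mul_iff (Units.ne_zero _) (Units.ne_zero _)]
      exact ⟨fun h => absurd h hsq, fun h => absurd h hcν⟩
    · intro hg
      rw [isProper_mul Q u₀ hu₀ h2 hQ hcard]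
      exact ⟨fun _ => hcp, fun _ => hg⟩
    · have h1 : theta ⇑Q c * theta ⇑Q X * (theta ⇑Q c)⁻¹ = theta ⇑Q X := by
        rw [← map_mul, hcX, map_mul, mul_inv_cancel_right]
      rw [map_mul, _root_.mul_inv_rev]
      calc theta ⇑Q g * theta ⇑Q c * theta ⇑Q X * ((theta ⇑Q c)⁻¹ * (theta ⇑Q g)⁻¹)
          = theta ⇑Q g * (theta ⇑Q c * theta ⇑Q X * (theta ⇑Q c)⁻¹) * (theta ⇑Q g)⁻¹ := by group
        _ = _ := by rw [h1]

include hcard in
theorem stepB (g₁ : ↥(Cfsg.Geo.quadSimilarityGroup (F := F) ⇑Q))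
    (hsq : IsSquare (mult Q u₀ hu₀ g₁ : F)) :
    ∃ h : ↥(Cfsg.isometryGroup F ⇑Q), theta ⇑Q g₁ = theta ⇑Q (incl ⇑Q h) ∧
      (IsProper Q u₀ hu₀ m g₁ → h ∈ Cfsg.specialIsometryGroup F ⇑Q) := by
  obtain ⟨l, hl⟩ := hsq
  have hl2 : (mult Q u₀ hu₀ g₁ : F) = l ^ 2 := by rw [hl, pow_two]
  have hl0 : l ≠ 0 := by
    rintro rfl
    have := Units.ne_zero (mult Q u₀ hu₀ g₁)
    rw [hl] at this
    simp at this
  obtain ⟨h, hh⟩ := exists_iso_of_sq Q u₀ hu₀ g₁ l hl2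
  refine ⟨h, rel_theta Q g₁ h l hl0 hh, ?_⟩
  intro hp
  rw [mem_special_iff_det]
  have hdet := rel_det Q g₁ h l hh
  unfold IsProper at hp
  rw [hp, hl2, hcard, ← pow_mul] at hdet
  have hne : l ^ (2 * m) ≠ 0 := pow_ne_zero _ hl0
  apply mul_left_cancel₀ hne
  rw [mul_one]
  exact hdet.symm

include h2 hQ in
theorem stepC (h k : ↥(Cfsg.isometryGroup F ⇑Q))
    (hh : h ∈ Cfsg.specialIsometryGroup F ⇑Q)
    (ws : List (ι → F)) (hws : ∀ v ∈ ws, Q v ≠ 0) (hwe : Even ws.length)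
    (hwn : ¬ IsSquare (normProd Q ws)) (hwk : wordG Q ws * k = k * wordG Q ws) :
    ∃ t ∈ Cfsg.Omega F ⇑Q,
      theta ⇑Q (incl ⇑Q t) * theta ⇑Q (incl ⇑Q k) * (theta ⇑Q (incl ⇑Q t))⁻¹ =
        theta ⇑Q (incl ⇑Q h) * theta ⇑Q (incl ⇑Q k) * (theta ⇑Q (incl ⇑Q h))⁻¹ := by
  obtain ⟨vs, hvs, rfl⟩ := exists_word Q h2 hQ h
  have hev := (mem_special_iff Q h2 hvs).1 hh
  by_cases hsq : IsSquare (normProd Q vs)
  · exact ⟨wordG Q vs, (mem_omega_iff Q h2 hQ hvs).2 ⟨hev, hsq⟩, rfl⟩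
  · have hall : ∀ v ∈ vs ++ ws, Q v ≠ 0 := by
      intro v hv
      rcases List.mem_append.1 hv with h | h
      · exact hvs v h
      · exact hws v h
    refine ⟨wordG Q (vs ++ ws), ?_, ?_⟩
    · rw [mem_omega_iff Q h2 hQ hall]
      refine ⟨by rw [List.length_append]; exact hev.add hwe, ?_⟩
      rw [normProd_append, isSquare_mul_iff (normProd_ne_zero Q hvs) (normProd_ne_zero Q hws)]
      exact ⟨fun h => absurd h hsq, fun h => absurd h hwn⟩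
    · have h1 : theta ⇑Q (incl ⇑Q (wordG Q ws)) * theta ⇑Q (incl ⇑Q k) *
          (theta ⇑Q (incl ⇑Q (wordG Q ws)))⁻¹ = theta ⇑Q (incl ⇑Q k) := by
        rw [← map_mul, ← map_mul, hwk, map_mul, map_mul, mul_inv_cancel_right]
      rw [wordG_append, map_mul, map_mul, _root_.mul_inv_rev]
      calc theta ⇑Q (incl ⇑Q (wordG Q vs)) * theta ⇑Q (incl ⇑Q (wordG Q ws)) *
            theta ⇑Q (incl ⇑Q k) * ((theta ⇑Q (incl ⇑Q (wordG Q ws)))⁻¹ *
              (theta ⇑Q (incl ⇑Q (wordG Q vs)))⁻¹)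
          = theta ⇑Q (incl ⇑Q (wordG Q vs)) * (theta ⇑Q (incl ⇑Q (wordG Q ws)) *
            theta ⇑Q (incl ⇑Q k) * (theta ⇑Q (incl ⇑Q (wordG Q ws)))⁻¹) *
              (theta ⇑Q (incl ⇑Q (wordG Q vs)))⁻¹ := by group
        _ = _ := by rw [h1]

end steps

end Cfsg.Agent.Lib.Helper18.OrthSs
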