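import Cfsg.Agent.Lib.Helper18.OrthSsM

set_option autoImplicit false

/-!
# Class fusion for elements of odd prime order in `PΩ^±`: the generic theorem
-/

namespace Cfsg.Agent.Lib.Helper18.OrthSs

open Module QuadraticMap Matrix Cfsg.Agent.Lib.Helper25 Cfsg.Agent.Lib.Helper25.Spin
  Cfsg.Agent.Lib.Helper25.CD Cfsg.Agent.Lib.Helper25.PSim Cfsg.Agent.Lib.Helper25.PAut

universe u

theorem pow_mulVec_of_scalar {ι : Type} [Fintype ι] [DecidableEq ι] {F : Type*} [Field F]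
    {M : Matrix ι ι F} {c : F} (h : ∀ v, M *ᵥ v = c • v) (n : ℕ) (v : ι → F) :
    (M ^ n) *ᵥ v = c ^ n • v := by
  induction n generalizing v with
  | zero => rw [pow_zero, pow_zero, Matrix.one_mulVec, one_smul]
  | succ n ih =>
    rw [pow_succ, ← Matrix.mulVec_mulVec, h, Matrix.mulVec_smul, ih, smul_smul, pow_succ, mul_comm]

section main

variable {ι : Type} [Fintype ι] [DecidableEq ι] {F : Type u} [Field F] [Fintype F]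
  (Q : QuadraticForm F (ι → F)) (u₀ : ι → F) (hu₀ : Q u₀ = 1)
  (h2 : (2 : F) ≠ 0) (hQ : (polarBilin Q).Nondegenerate) {m : ℕ}
  (hcard : Fintype.card ι = 2 * m)

include hu₀ h2 hQ hcard in
/-- an automorphism of odd prime order `r ≠ p` in `PGO` is induced by an element of `Ω` of order
dividing `r` -/
theorem exists_lift (hn : 7 ≤ Fintype.card ι) (x : MulAut (Cfsg.POmega F ⇑Q))
    (hx : x ∈ Cfsg.pgoAut F ⇑Q) {r : ℕ} (hr : r.Prime) (hro : Odd r) (hrF : (r : F) ≠ 0)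
    (hxr : orderOf x = r) :
    ∃ k : ↥(Cfsg.isometryGroup F ⇑Q), k ∈ Cfsg.Omega F ⇑Q ∧ k ^ r = 1 ∧
      theta ⇑Q (incl ⇑Q k) = x := by
  obtain ⟨ν, hν⟩ := FiniteField.exists_nonsquare (F := F) (ringChar_ne_two h2)
  have hν0 : ν ≠ 0 := by
    rintro rfl
    exact hν ⟨0, by simp⟩
  obtain ⟨d₀, -, hd₀m, -⟩ := exists_proper_sim Q u₀ hu₀ h2 hQ hcard 1 (one_pow r) hro hrF hν0
    (fun δ hδ => hbin_of h2 ν δ hδ)
  have hd₀ : ¬ IsSquare (mult Q u₀ hu₀ d₀ : F) := by rw [hd₀m]; exact hν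
  obtain ⟨k1, k2⟩ := relIndex_inn_pgo Q u₀ hu₀ h2 hQ hcard hn d₀ hd₀
  have hpow := Subgroup.pow_relIndex_mem (Cfsg.Inn (Cfsg.POmega F ⇑Q)) hx
  have h8 : x ^ 8 ∈ Cfsg.Inn (Cfsg.POmega F ⇑Q) := by
    by_cases hneg : ∃ g : ↥(Cfsg.isometryGroup F ⇑Q), g ∈ Cfsg.Omega F ⇑Q ∧
        ((g : GL ι F) : Matrix ι ι F) = -1
    · rw [k1 hneg] at hpow
      exact hpow
    · rw [k2 hneg] at hpow
      have : x ^ 8 = (x ^ 4) ^ 2 := by rw [← pow_mul]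
      rw [this]
      exact pow_mem hpow 2
  have hcop : Nat.Coprime 8 r := by
    have : (8 : ℕ) = 2 ^ 3 := by norm_num
    rw [this]
    exact Nat.Coprime.pow_left 3 (Nat.coprime_two_left.2 hro)
  have hxInn := mem_of_pow_mem (Cfsg.Inn (Cfsg.POmega F ⇑Q)) hxr hcop hr.one_lt h8
  rw [inn_eq'] at hxInn
  obtain ⟨X, ⟨w, hw, rfl⟩, hxe⟩ := hxInn
  have h1 : theta ⇑Q (incl ⇑Q (w ^ r)) = 1 := by
    rw [map_pow, map_pow, hxe, ← hxr, pow_orderOf_eq_one]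
  obtain ⟨c, hc⟩ := scalar_of_theta_eq_one Q hQ hn _ h1
  have hc' : ∀ v, (((w ^ r : ↥(Cfsg.isometryGroup F ⇑Q)) : GL ι F) : Matrix ι ι F) *ᵥ v = c • v :=
    hc
  have hcc : c * c = 1 := by
    have h3 := Q_iso Q (w ^ r) u₀
    rw [hc', QuadraticMap.map_smul, hu₀, smul_eq_mul, mul_one] at h3
    exact h3
  obtain ⟨j, hj⟩ := hro
  have hW : (w ^ r) ^ (r + 1) = 1 := by
    apply Subtype.ext
    apply Units.ext
    apply matrix_eq_of_mulVec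
    intro v
    show ((((w ^ r) ^ (r + 1) : ↥(Cfsg.isometryGroup F ⇑Q)) : GL ι F) : Matrix ι ι F) *ᵥ v =
      ((1 : GL ι F) : Matrix ι ι F) *ᵥ v
    rw [Subgroup.coe_pow, Units.val_pow_eq_pow_val, pow_mulVec_of_scalar hc', Units.val_one,
      Matrix.one_mulVec]
    have : r + 1 = 2 * (j + 1) := by omega
    rw [this, pow_mul, pow_two, hcc, one_pow, one_smul]
  refine ⟨w ^ (r + 1), pow_mem hw _, ?_, ?_⟩
  · rw [← pow_mul, mul_comm, pow_mul]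
    exact hW
  · rw [map_pow, map_pow, hxe, pow_succ, ← hxr, pow_orderOf_eq_one, one_mul]

include hu₀ in
/-- the class fusion statement for a quadratic form in even dimension `2m ≥ 7` over a finite field
of odd characteristic, with `Inndiag` replaced by the image of the proper similitudes -/
theorem fusion_generic (hn : 7 ≤ Fintype.card ι) (x : MulAut (Cfsg.POmega F ⇑Q))
    (hx : x ∈ Cfsg.pgoAut F ⇑Q) {r : ℕ} (hr : r.Prime) (hro : Odd r) (hrF : (r : F) ≠ 0)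
    (hxr : orderOf x = r) :
    (∀ y : MulAut (Cfsg.POmega F ⇑Q),
      (Cfsg.IsConjUnder (Cfsg.Inn (Cfsg.POmega F ⇑Q)) x y ↔
        Cfsg.IsConjUnder (properAut Q u₀ hu₀ h2 hQ hcard) x y) ∧
      (Cfsg.IsConjUnder (Cfsg.psoAut F ⇑Q) x y ↔
        Cfsg.IsConjUnder (properAut Q u₀ hu₀ h2 hQ hcard) x y)) ∧
    (∀ y : MulAut (Cfsg.POmega F ⇑Q),
      Cfsg.IsConjUnder (Cfsg.poAut F ⇑Q) x y ↔ Cfsg.IsConjUnder (Cfsg.pgoAut F ⇑Q) x y) := by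
  obtain ⟨k, -, hkr, rfl⟩ := exists_lift Q u₀ hu₀ h2 hQ hcard hn x hx hr hro hrF hxr
  obtain ⟨ν, hν⟩ := FiniteField.exists_nonsquare (F := F) (ringChar_ne_two h2)
  have hν0 : ν ≠ 0 := by
    rintro rfl
    exact hν ⟨0, by simp⟩
  obtain ⟨c, hcp, hcm, hcX⟩ := exists_proper_sim Q u₀ hu₀ h2 hQ hcard k hkr hro hrF hν0
    (fun δ hδ => hbin_of h2 ν δ hδ)
  have hcν : ¬ IsSquare (mult Q u₀ hu₀ c : F) := by rw [hcm]; exact hν
  have hm : 0 < m := by omega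
  obtain ⟨ws, hws, hwe, hwn, hwk⟩ := exists_spin_elt_grp Q h2 hQ hcard hm k hkr hro hrF
    (fun ν δ _ hδ => hbin_of h2 ν δ hδ)
  have key1 : ∀ g : ↥(Cfsg.Geo.quadSimilarityGroup (F := F) ⇑Q), IsProper Q u₀ hu₀ m g →
      ∃ t ∈ Cfsg.Omega F ⇑Q,
        theta ⇑Q (incl ⇑Q t) * theta ⇑Q (incl ⇑Q k) * (theta ⇑Q (incl ⇑Q t))⁻¹ =
          theta ⇑Q g * theta ⇑Q (incl ⇑Q k) * (theta ⇑Q g)⁻¹ := by
    intro g hg
    obtain ⟨g₁, hsq, hp, he⟩ := stepA Q u₀ hu₀ h2 hQ hcard c (incl ⇑Q k) g hcν hcp hcX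
    obtain ⟨h, hθ, hs⟩ := stepB Q u₀ hu₀ hcard g₁ hsq
    obtain ⟨t, ht, hte⟩ := stepC Q h2 hQ h k (hs (hp hg)) ws hws hwe hwn hwk
    exact ⟨t, ht, by rw [hte, ← hθ, he]⟩
  have key3 : ∀ g : ↥(Cfsg.Geo.quadSimilarityGroup (F := F) ⇑Q),
      ∃ h : ↥(Cfsg.isometryGroup F ⇑Q),
        theta ⇑Q (incl ⇑Q h) * theta ⇑Q (incl ⇑Q k) * (theta ⇑Q (incl ⇑Q h))⁻¹ =
          theta ⇑Q g * theta ⇑Q (incl ⇑Q k) * (theta ⇑Q g)⁻¹ := by
    intro g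
    obtain ⟨g₁, hsq, -, he⟩ := stepA Q u₀ hu₀ h2 hQ hcard c (incl ⇑Q k) g hcν hcp hcX
    obtain ⟨h, hθ, -⟩ := stepB Q u₀ hu₀ hcard g₁ hsq
    exact ⟨h, by rw [← hθ, he]⟩
  have hIP := inn_le_properAut Q u₀ hu₀ h2 hQ hcard
  have hIS := inn_le_psoAut Q h2 hQ
  have hSP : Cfsg.psoAut F ⇑Q ≤ properAut Q u₀ hu₀ h2 hQ hcard := by
    rw [psoAut_eq']
    unfold properAut
    apply Subgroup.map_mono
    rintro _ ⟨s, hs, rfl⟩
    exact incl_special_mem_proper Q u₀ hu₀ h2 hQ hcard s hs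
  have hPI : ∀ y, Cfsg.IsConjUnder (properAut Q u₀ hu₀ h2 hQ hcard) (theta ⇑Q (incl ⇑Q k)) y →
      Cfsg.IsConjUnder (Cfsg.Inn (Cfsg.POmega F ⇑Q)) (theta ⇑Q (incl ⇑Q k)) y := by
    rintro y ⟨β, ⟨g, hg, rfl⟩, rfl⟩
    rw [SetLike.mem_coe, mem_properSub_iff] at hg
    obtain ⟨t, ht, hte⟩ := key1 g hg
    refine ⟨theta ⇑Q (incl ⇑Q t), ?_, hte.symm⟩
    rw [inn_eq']
    exact ⟨incl ⇑Q t, ⟨t, ht, rfl⟩, rfl⟩
  refine ⟨fun y => ⟨⟨isConjUnder_mono hIP, hPI y⟩,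
    ⟨isConjUnder_mono hSP, fun h => isConjUnder_mono hIS (hPI y h)⟩⟩,
    fun y => ⟨isConjUnder_mono (poAut_le_pgoAut _), ?_⟩⟩
  rintro ⟨β, hβ, rfl⟩
  rw [pgoAut_eq] at hβ
  obtain ⟨g, rfl⟩ := hβ
  obtain ⟨h, hh⟩ := key3 g
  refine ⟨theta ⇑Q (incl ⇑Q h), ?_, hh.symm⟩
  rw [theta_incl]
  exact conjTHom_mem_poAut _ h

end main

end Cfsg.Agent.Lib.Helper18.OrthSs
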