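import Mathlib
import Cfsg.Agent.Lib.Helper18.PSLnFldF

set_option autoImplicit false

namespace Cfsg.Agent.Lib.Helper18.PSLnFld

open Matrix Cfsg Cfsg.Agent.Lib.Helper18.PSLnAut

theorem involution_unique {G : Type*} [Group G] [Finite G] [IsCyclic G] (a b : G)
    (ha : orderOf a = 2) (hb : orderOf b = 2) : a = b := by
  classical
  have : Fintype G := Fintype.ofFinite G
  have h2 : 2 ∣ Fintype.card G := by
    rw [← ha]
    exact orderOf_dvd_card
  have h1 := IsCyclic.card_orderOf_eq_totient (α := G) h2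
  rw [Nat.totient_two, Finset.card_eq_one] at h1
  obtain ⟨c, hc⟩ := h1
  have ha' : a ∈ ({c} : Finset G) := by
    rw [← hc]
    simp [ha]
  have hb' : b ∈ ({c} : Finset G) := by
    rw [← hc]
    simp [hb]
  rw [Finset.mem_singleton] at ha' hb'
  rw [ha', hb']

variable {F : Type*} [Field F]

/-- the involution of a finite field is the `√q`-th power map -/
theorem involution_apply [Fintype F] {p f : ℕ} [Fact p.Prime] (hF : Fintype.card F = p ^ f)
    (σ : RingAut F) (hσ : orderOf σ = 2) :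
    Even f ∧ ∀ a, σ a = a ^ (p ^ (f / 2)) := by
  have : CharP F p := charP_of_card_eq_prime_pow hF
  have : Finite (RingAut F) := finite_ringAut
  have : IsCyclic (RingAut F) := Cfsg.Agent.Lib.Helper18.PSL2Aut.ringAut_cyclic p
  have hcard : Nat.card (RingAut F) = f := Cfsg.Agent.Lib.Helper18.PSL2Aut.ringAut_card p hF
  have h2f : 2 ∣ f := by
    rw [← hcard, ← hσ]
    exact orderOf_dvd_natCard σ
  obtain ⟨k, rfl⟩ := h2f
  refine ⟨⟨k, by ring⟩, ?_⟩
  have hk : 2 * k / 2 = k := Nat.mul_div_cancel_left k (by norm_num)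
  rw [hk]
  have hp := (Fact.out : p.Prime)
  have : ExpChar F p := ExpChar.prime hp
  let ρ : RingAut F := iterateFrobeniusEquiv F p k
  have hρ : ∀ a, ρ a = a ^ p ^ k := fun a => iterateFrobeniusEquiv_def F p k a
  have hk0 : 0 < k := by
    rcases Nat.eq_zero_or_pos k with h0 | h0
    · subst h0
      rw [mul_zero] at hcard
      have : 0 < Nat.card (RingAut F) := Nat.card_pos
      omega
    · exact h0
  have hq2 : 2 ≤ p ^ k := by
    calc 2 ≤ p := hp.two_le
      _ = p ^ 1 := (pow_one p).symm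
      _ ≤ p ^ k := Nat.pow_le_pow_right hp.pos hk0
  have hρ2 : orderOf ρ = 2 := by
    apply orderOf_eq_prime
    · apply RingEquiv.ext
      intro a
      show (ρ ^ 2) a = a
      rw [pow_two]
      show ρ (ρ a) = a
      rw [hρ, hρ, ← pow_mul, ← pow_add, ← two_mul, ← hF, FiniteField.pow_card]
    · intro h1
      obtain ⟨ζ, hζ⟩ := IsCyclic.exists_generator (α := Fˣ)
      have h3 : (ζ : F) ^ p ^ k = ζ := by
        rw [← hρ, h1]
        rfl
      have h4 : ζ ^ (p ^ k - 1) = 1 := by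
        apply Units.ext
        rw [Units.val_pow_eq_pow_val, Units.val_one]
        have h5 : (ζ : F) ^ (p ^ k - 1) * ζ = 1 * ζ := by
          rw [← pow_succ, Nat.sub_add_cancel (by omega), h3, one_mul]
        exact mul_right_cancel₀ ζ.ne_zero h5
      have h6 : orderOf ζ ∣ p ^ k - 1 := orderOf_dvd_of_pow_eq_one h4
      rw [orderOf_eq_card_of_forall_mem_zpowers hζ, Nat.card_units, Nat.card_eq_fintype_card, hF]
        at h6
      have h7 := Nat.le_of_dvd (by omega) h6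
      have h8 : p ^ (2 * k) = p ^ k * p ^ k := by rw [two_mul, pow_add]
      rw [h8] at h7
      have h9 : p ^ k * 2 ≤ p ^ k * p ^ k := Nat.mul_le_mul_left _ hq2
      omega
  intro a
  rw [involution_unique σ ρ hσ hρ2, hρ]

section unitary

variable {n : ℕ}

theorem scalars_eq_center : Cfsg.Geo.scalars (Fin n) F = Subgroup.center (GL (Fin n) F) :=
  (Matrix.GeneralLinearGroup.center_eq_range_scalar).symm

theorem hermForm_eq (ρ : RingAut F) (q0 : ℕ) (hρ : ∀ a, ρ a = a ^ q0) (u v : Fin n → F) :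
    Cfsg.hermForm n F q0 u v = u ⬝ᵥ (fun i => ρ (v i)) := by
  unfold Cfsg.hermForm dotProduct
  apply Finset.sum_congr rfl
  intro i _
  show u i * v i ^ q0 = u i * ρ (v i)
  rw [hρ]

theorem hermForm_mulVec (ρ : RingAut F) (q0 : ℕ) (hρ : ∀ a, ρ a = a ^ q0)
    (M : Matrix (Fin n) (Fin n) F) (u v : Fin n → F) :
    Cfsg.hermForm n F q0 (M.mulVec u) (M.mulVec v) =
      u ⬝ᵥ ((Mᵀ * M.map ρ).mulVec (fun i => ρ (v i))) := by
  rw [hermForm_eq ρ q0 hρ, map_mulVec, ← Matrix.mulVec_mulVec, dotProduct_comm,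
    Matrix.dotProduct_mulVec, ← Matrix.mulVec_transpose, dotProduct_comm]

theorem mem_GU_iff_gram (ρ : RingAut F) (q0 : ℕ) (hρ : ∀ a, ρ a = a ^ q0) (g : GL (Fin n) F) :
    g ∈ Cfsg.GU n F q0 ↔
      (g : Matrix (Fin n) (Fin n) F)ᵀ * (g : Matrix (Fin n) (Fin n) F).map ρ = 1 := by
  constructor
  · intro hg
    have hg' : ∀ u v : Fin n → F,
        Cfsg.hermForm n F q0 ((g : Matrix (Fin n) (Fin n) F).mulVec u)
          ((g : Matrix (Fin n) (Fin n) F).mulVec v) = Cfsg.hermForm n F q0 u v := hg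
    ext k l
    have h1 := hg' (Pi.single k 1) (Pi.single l 1)
    rw [hermForm_mulVec ρ q0 hρ, hermForm_eq ρ q0 hρ] at h1
    have h3 : (fun i => ρ ((Pi.single l (1 : F) : Fin n → F) i)) = Pi.single l 1 := by
      funext i
      by_cases hi : i = l
      · subst hi
        simp
      · simp [Pi.single_eq_of_ne hi]
    rw [h3, Matrix.mulVec_single_one, single_dotProduct, one_mul, single_dotProduct, one_mul] at h1
    rw [Matrix.one_apply]
    rw [Pi.single_apply] at h1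
    rw [← h1]
    rfl
  · intro h u v
    show Cfsg.hermForm n F q0 ((g : Matrix (Fin n) (Fin n) F).mulVec u)
      ((g : Matrix (Fin n) (Fin n) F).mulVec v) = Cfsg.hermForm n F q0 u v
    rw [hermForm_mulVec ρ q0 hρ, h, Matrix.one_mulVec, hermForm_eq ρ q0 hρ]

theorem map_map_eq (ρ : RingAut F) (hρ2 : ∀ a, ρ (ρ a) = a) (M : Matrix (Fin n) (Fin n) F) :
    (M.map ρ).map ρ = M := by
  ext i j
  exact hρ2 _

theorem map_one_eq (ρ : RingAut F) : (1 : Matrix (Fin n) (Fin n) F).map ρ = 1 := by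
  ext i j
  by_cases hij : i = j
  · subst hij
    simp
  · simp [hij]

theorem gram_eq_one_iff (ρ : RingAut F) (hρ2 : ∀ a, ρ (ρ a) = a) (M : Matrix (Fin n) (Fin n) F) :
    Mᵀ * M.map ρ = 1 ↔ (Mᵀ).map ρ * M = 1 := by
  constructor
  · intro h
    have h1 : (Mᵀ * M.map ρ).map ρ = (1 : Matrix (Fin n) (Fin n) F).map ρ := by rw [h]
    rw [Matrix.map_mul, map_map_eq ρ hρ2, map_one_eq] at h1
    exact h1
  · intro h
    have h1 : ((Mᵀ).map ρ * M).map ρ = (1 : Matrix (Fin n) (Fin n) F).map ρ := by rw [h]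
    rw [Matrix.map_mul, map_map_eq ρ hρ2, map_one_eq] at h1
    exact h1

theorem mem_GU_iff_tw (ρ : RingAut F) (hρ2 : ∀ a, ρ (ρ a) = a) (q0 : ℕ)
    (hρ : ∀ a, ρ a = a ^ q0) (g : GL (Fin n) F) :
    g ∈ Cfsg.GU n F q0 ↔ twHom ρ g = g := by
  rw [mem_GU_iff_gram ρ q0 hρ, gram_eq_one_iff ρ hρ2]
  constructor
  · intro h
    have h1 : (twHom ρ g)⁻¹ * g = 1 := by
      apply Units.ext
      rw [Units.val_mul, twHom_inv_coe]
      exact h
    rw [inv_mul_eq_one] at h1
    exact h1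
  · intro h
    have h1 : (twHom ρ g)⁻¹ * g = 1 := by rw [h, inv_mul_cancel]
    have h2 := congrArg Units.val h1
    rw [Units.val_mul, twHom_inv_coe] at h2
    exact h2

/-- the action of the general unitary group on `PSL_n(F)` -/
noncomputable def PsiU (q0 : ℕ) : ↥(Cfsg.GU n F q0) →*
    MulAut (ProjectiveSpecialLinearGroup (Fin n) F) :=
  conjAHom.comp (Cfsg.GU n F q0).subtype

theorem PsiU_apply (q0 : ℕ) (g : ↥(Cfsg.GU n F q0)) :
    PsiU (n := n) q0 g = conjAHom (g : GL (Fin n) F) := rfl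

theorem ker_PsiU (hn : 2 ≤ n) (q0 : ℕ) :
    (PsiU (n := n) (F := F) q0).ker = (Cfsg.Geo.scalars (Fin n) F).subgroupOf (Cfsg.GU n F q0) := by
  ext g
  rw [MonoidHom.mem_ker, PsiU_apply, ← MonoidHom.mem_ker, ker_conjAHom hn, scalars_eq_center,
    Subgroup.mem_subgroupOf]

/-- **the centralizer of a standard graph-field involution in the inner-diagonal group** -/
theorem range_PsiU [Finite F] (hn : 2 ≤ n) (ρ : RingAut F) (hρo : orderOf ρ = 2) (q0 : ℕ)
    (hρ : ∀ a, ρ a = a ^ q0) :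
    (PsiU (n := n) (F := F) q0).range =
      (conjAHom (n := n) (F := F)).range ⊓ Subgroup.centralizer {psiA (n := n) ρ} := by
  have hρρ : ρ * ρ = 1 := by rw [← pow_two, ← hρo]; exact pow_orderOf_eq_one ρ
  have hρ2 : ∀ a, ρ (ρ a) = a := by
    intro a
    have : (ρ * ρ) a = a := by rw [hρρ]; rfl
    exact this
  apply le_antisymm
  · rintro _ ⟨g, rfl⟩
    refine ⟨⟨_, rfl⟩, ?_⟩
    show _ ∈ Subgroup.centralizer {psiA (n := n) ρ}
    rw [Subgroup.mem_centralizer_iff]
    intro y hy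
    rw [Set.mem_singleton_iff] at hy
    subst hy
    rw [PsiU_apply, psiA_mul_conj, (mem_GU_iff_tw ρ hρ2 q0 hρ _).1 g.2]
  · rintro d ⟨⟨g, rfl⟩, hc⟩
    have hc : conjAHom g ∈ Subgroup.centralizer {psiA (n := n) ρ} := hc
    rw [Subgroup.mem_centralizer_iff] at hc
    have h1 := hc _ rfl
    rw [psiA_mul_conj] at h1
    have h2 : conjAHom (twHom ρ g) = conjAHom g := mul_right_cancel h1
    have h3 : (twHom ρ g)⁻¹ * g ∈ Subgroup.center (GL (Fin n) F) := by
      rw [← ker_conjAHom hn, MonoidHom.mem_ker, map_mul, map_inv, h2, inv_mul_cancel]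
    obtain ⟨c, hc'⟩ := Matrix.GeneralLinearGroup.mem_center_iff_val_mem_range_scalar.1 h3
    rw [Units.val_mul, twHom_inv_coe] at hc'
    -- `ρ(gᵀ) g = c`, so `gᵀ ρ(g) = ρ(c)`, and transposing `ρ(c) = c`
    have hX : ((g : Matrix (Fin n) (Fin n) F)ᵀ).map ρ * (g : Matrix (Fin n) (Fin n) F) =
        c • (1 : Matrix (Fin n) (Fin n) F) := by
      rw [← hc', Matrix.scalar_apply, Matrix.smul_one_eq_diagonal]
    have hY : (g : Matrix (Fin n) (Fin n) F)ᵀ * (g : Matrix (Fin n) (Fin n) F).map ρ =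
        ρ c • (1 : Matrix (Fin n) (Fin n) F) := by
      have h4 : (((g : Matrix (Fin n) (Fin n) F)ᵀ).map ρ * (g : Matrix (Fin n) (Fin n) F)).map ρ =
          (c • (1 : Matrix (Fin n) (Fin n) F)).map ρ := by rw [hX]
      rw [Matrix.map_mul, map_map_eq ρ hρ2] at h4
      rw [h4]
      ext i j
      by_cases hij : i = j
      · subst hij
        simp
      · simp [hij]
    have hYt : ((g : Matrix (Fin n) (Fin n) F)ᵀ * (g : Matrix (Fin n) (Fin n) F).map ρ)ᵀ =
        ((g : Matrix (Fin n) (Fin n) F)ᵀ).map ρ * (g : Matrix (Fin n) (Fin n) F) := by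
      rw [Matrix.transpose_mul, Matrix.transpose_transpose]
      rfl
    have hcfix : ρ c = c := by
      rw [hY, hX] at hYt
      have h5 := congrFun (congrFun hYt ⟨0, by omega⟩) ⟨0, by omega⟩
      simpa using h5
    have hc0 : c ≠ 0 := by
      rintro rfl
      rw [zero_smul] at hX
      have h6 : IsUnit (((g : Matrix (Fin n) (Fin n) F)ᵀ).map ρ * (g : Matrix (Fin n) (Fin n) F)) := by
        have : ((g : Matrix (Fin n) (Fin n) F)ᵀ).map ρ * (g : Matrix (Fin n) (Fin n) F) =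
            (((twHom ρ g)⁻¹ * g : GL (Fin n) F) : Matrix (Fin n) (Fin n) F) := by
          rw [Units.val_mul, twHom_inv_coe]
        rw [this]
        exact ⟨_, rfl⟩
      rw [hX] at h6
      have : Nontrivial (Matrix (Fin n) (Fin n) F) := by
        have : Nonempty (Fin n) := ⟨⟨0, by omega⟩⟩
        infer_instance
      exact not_isUnit_zero h6
    obtain ⟨ν, hν0, hν⟩ := exists_nrm_eq ρ 2 hρo (by norm_num) c hc0 hcfix
    have hν' : ν * ρ ν = c := by
      rw [← hν, nrm_succ, nrm_one]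
    let z : GL (Fin n) F := Matrix.GeneralLinearGroup.scalar (Fin n) (Units.mk0 ν hν0)
    have hz : z ∈ (conjAHom (n := n) (F := F)).ker := by
      rw [ker_conjAHom hn, Matrix.GeneralLinearGroup.center_eq_range_scalar]
      exact ⟨_, rfl⟩
    have hzv : ((z⁻¹ * g : GL (Fin n) F) : Matrix (Fin n) (Fin n) F) =
        ν⁻¹ • (g : Matrix (Fin n) (Fin n) F) := by
      have : z⁻¹ = Matrix.GeneralLinearGroup.scalar (Fin n) (Units.mk0 ν hν0)⁻¹ := by
        rw [map_inv]
      rw [Units.val_mul, this]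
      show Matrix.scalar (Fin n) (ν⁻¹) * _ = _
      rw [Matrix.scalar_apply, ← Matrix.smul_eq_diagonal_mul]
    have hmem : z⁻¹ * g ∈ Cfsg.GU n F q0 := by
      rw [mem_GU_iff_gram ρ q0 hρ, hzv]
      have : (ν⁻¹ • (g : Matrix (Fin n) (Fin n) F)).map ρ =
          (ρ ν)⁻¹ • (g : Matrix (Fin n) (Fin n) F).map ρ := by
        ext i j
        simp
      rw [this, Matrix.transpose_smul, Matrix.smul_mul, Matrix.mul_smul, hY, smul_smul, smul_smul,
        hcfix, ← hν']
      have hρν : ρ ν ≠ 0 := (map_ne_zero_iff _ (RingEquiv.injective _)).2 hν0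
      have : ν⁻¹ * (ρ ν)⁻¹ * (ν * ρ ν) = 1 := by
        field_simp
      rw [this, one_smul]
    refine ⟨⟨z⁻¹ * g, hmem⟩, ?_⟩
    rw [PsiU_apply]
    show conjAHom (z⁻¹ * g) = conjAHom g
    rw [map_mul, map_inv, MonoidHom.mem_ker.1 hz, inv_one, one_mul]

/-- the centralizer is a projective general unitary group -/
theorem nonempty_centralizer_equiv_U [Finite F] (hn : 2 ≤ n) (ρ : RingAut F) (hρo : orderOf ρ = 2)
    (q0 : ℕ) (hρ : ∀ a, ρ a = a ^ q0) :
    Nonempty (↥((conjAHom (n := n) (F := F)).range ⊓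
      Subgroup.centralizer {psiA (n := n) ρ}) ≃* Cfsg.PGU n F q0) := by
  rw [← range_PsiU hn ρ hρo q0 hρ]
  have e1 := QuotientGroup.quotientKerEquivRange (PsiU (n := n) (F := F) q0)
  have e2 : ↥(Cfsg.GU n F q0) ⧸ (PsiU (n := n) (F := F) q0).ker ≃*
      ↥(Cfsg.GU n F q0) ⧸ (Cfsg.Geo.scalars (Fin n) F).subgroupOf (Cfsg.GU n F q0) :=
    QuotientGroup.quotientMulEquivOfEq (ker_PsiU hn q0)
  exact ⟨e1.symm.trans e2⟩

theorem dg_mem_GU (ρ : RingAut F) (q0 : ℕ) (hρ : ∀ a, ρ a = a ^ q0) (i0 : Fin n) (z : Fˣ)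
    (hz : (z : F) * ρ z = 1) : dgHom i0 z ∈ Cfsg.GU n F q0 := by
  rw [mem_GU_iff_gram ρ q0 hρ, dgHom_coe, Matrix.diagonal_transpose]
  have : (Matrix.diagonal (Function.update (fun _ => (1 : F)) i0 (z : F))).map ρ =
      Matrix.diagonal (fun i => ρ (Function.update (fun _ => (1 : F)) i0 (z : F) i)) := by
    ext i j
    by_cases hij : i = j
    · subst hij
      simp
    · simp [hij]
  rw [this, Matrix.diagonal_mul_diagonal, ← Matrix.diagonal_one]
  congr 1
  funext i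
  by_cases hi : i = i0
  · subst hi
    rw [Function.update_self, hz]
  · rw [Function.update_of_ne hi, map_one, mul_one]

theorem det_of_mem_GU (ρ : RingAut F) (q0 : ℕ) (hρ : ∀ a, ρ a = a ^ q0) (g : GL (Fin n) F)
    (hg : g ∈ Cfsg.GU n F q0) :
    (Matrix.GeneralLinearGroup.det g) ^ (q0 + 1) = 1 := by
  rw [mem_GU_iff_gram ρ q0 hρ] at hg
  have h1 := congrArg Matrix.det hg
  rw [Matrix.det_mul, Matrix.det_transpose, Matrix.det_one] at h1
  have h2 : ((g : Matrix (Fin n) (Fin n) F).map ρ).det = ρ (g : Matrix (Fin n) (Fin n) F).det := by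
    have := (RingHom.map_det ((ρ : F ≃+* F) : F →+* F) (g : Matrix (Fin n) (Fin n) F)).symm
    exact this
  rw [h2, hρ] at h1
  apply Units.ext
  rw [Units.val_pow_eq_pow_val, Units.val_one, pow_succ']
  exact h1

/-- the stabiliser of the `PSL_n`-class of a standard graph-field involution -/
theorem mem_map_comap_det_iff_U [Finite F] (hn : 2 ≤ n) (ρ : RingAut F) (hρo : orderOf ρ = 2)
    (q0 : ℕ) (hρ : ∀ a, ρ a = a ^ q0)
    (m : MulAut (ProjectiveSpecialLinearGroup (Fin n) F)) :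
    m ∈ (((powMonoidHom n : Fˣ →* Fˣ).range ⊔ (powMonoidHom (q0 + 1) : Fˣ →* Fˣ).ker).comap
      (Matrix.GeneralLinearGroup.det : GL (Fin n) F →* Fˣ)).map conjAHom ↔
    ∃ k ∈ Cfsg.Inn (ProjectiveSpecialLinearGroup (Fin n) F),
      ∃ c ∈ (conjAHom (n := n) (F := F)).range ⊓ Subgroup.centralizer {psiA (n := n) ρ},
        m = k * c := by
  rw [← range_PsiU hn ρ hρo q0 hρ]
  constructor
  · rintro ⟨g, hg, rfl⟩
    rw [SetLike.mem_coe, Subgroup.mem_comap] at hg
    obtain ⟨y, ⟨lam, rfl⟩, z, hz, hyz⟩ := Subgroup.mem_sup.1 hg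
    let i0 : Fin n := ⟨0, by omega⟩
    let zl : GL (Fin n) F := Matrix.GeneralLinearGroup.scalar (Fin n) lam
    have hz1 : (z : F) * ρ z = 1 := by
      rw [MonoidHom.mem_ker, powMonoidHom_apply] at hz
      have := congrArg Units.val hz
      rw [Units.val_pow_eq_pow_val, Units.val_one, pow_succ'] at this
      rw [hρ]
      exact this
    have hmem : dgHom i0 z ∈ Cfsg.GU n F q0 := dg_mem_GU ρ q0 hρ i0 z hz1
    have hdet : Matrix.GeneralLinearGroup.det (g * (zl * dgHom i0 z)⁻¹) = 1 := by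
      rw [map_mul, map_inv, map_mul, Matrix.GeneralLinearGroup.det_scalar, Fintype.card_fin,
        det_dgHom', ← hyz]
      exact mul_inv_cancel _
    obtain ⟨s, hs⟩ := exists_toGL_eq _ hdet
    have hg' : g = Matrix.SpecialLinearGroup.toGL s * (zl * dgHom i0 z) := by
      rw [hs, inv_mul_cancel_right]
    have hzk : zl ∈ (conjAHom (n := n) (F := F)).ker := by
      rw [ker_conjAHom hn, Matrix.GeneralLinearGroup.center_eq_range_scalar]
      exact ⟨_, rfl⟩
    refine ⟨MulAut.conj (pi s), ⟨_, rfl⟩, PsiU q0 ⟨dgHom i0 z, hmem⟩, ⟨_, rfl⟩, ?_⟩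
    rw [hg', map_mul, map_mul, MonoidHom.mem_ker.1 hzk, one_mul, conj_pi_eq_conjA]
    rfl
  · rintro ⟨k, ⟨t, rfl⟩, c, ⟨g₀, rfl⟩, rfl⟩
    obtain ⟨s, rfl⟩ := pi_surjective t
    refine ⟨Matrix.SpecialLinearGroup.toGL s * (g₀ : GL (Fin n) F), ?_, ?_⟩
    · rw [SetLike.mem_coe, Subgroup.mem_comap, map_mul, det_toGL, one_mul]
      apply Subgroup.mem_sup_right
      rw [MonoidHom.mem_ker, powMonoidHom_apply]
      exact det_of_mem_GU ρ q0 hρ _ g₀.2
    · rw [map_mul, conj_pi_eq_conjA]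
      rfl

theorem index_pow_sup_ker [Fintype F] (q0 : ℕ) (hq : Fintype.card F = q0 ^ 2) (hq0 : 2 ≤ q0) :
    ((powMonoidHom n : Fˣ →* Fˣ).range ⊔ (powMonoidHom (q0 + 1) : Fˣ →* Fˣ).ker).index =
      Nat.gcd n (q0 - 1) := by
  have h2 : Nat.card Fˣ = (q0 - 1) * (q0 + 1) := by
    rw [Nat.card_units, Nat.card_eq_fintype_card, hq]
    obtain ⟨k, rfl⟩ : ∃ k, q0 = k + 1 := ⟨q0 - 1, by omega⟩
    have : (k + 1) ^ 2 = (k + 1 - 1) * (k + 1 + 1) + 1 := by
      rw [Nat.add_sub_cancel]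
      ring
    rw [this, Nat.add_sub_cancel]
  have h1 : Nat.card (powMonoidHom (q0 + 1) : Fˣ →* Fˣ).ker = q0 + 1 := by
    rw [IsCyclic.card_powMonoidHom_ker, h2]
    exact Nat.gcd_eq_right (Dvd.intro_left _ rfl)
  have h3 : Nat.card Fˣ = (q0 - 1) * Nat.card (powMonoidHom (q0 + 1) : Fˣ →* Fˣ).ker := by
    rw [h1, h2]
  rw [eq_range_pow_of_card _ _ h3, range_pow_sup]
  apply index_range_pow
  rw [h2]
  exact (Nat.gcd_dvd_right _ _).trans (Dvd.intro _ rfl)

/-- **the class of a standard graph-field involution under the inner-diagonal group splits into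
`gcd(n, q₀ - 1)` classes under `PSL_n`** -/
theorem splitClassCount_gf [Fintype F] (hn : 2 ≤ n) (ρ : RingAut F) (hρo : orderOf ρ = 2)
    (q0 : ℕ) (hρ : ∀ a, ρ a = a ^ q0) (hq : Fintype.card F = q0 ^ 2) (hq0 : 2 ≤ q0) :
    Cfsg.splitClassCount (conjAHom (n := n) (F := F)).range
      (Cfsg.Inn (ProjectiveSpecialLinearGroup (Fin n) F)) (psiA (n := n) ρ) =
      Nat.gcd n (q0 - 1) := by
  rw [splitClassCount_eq _ _ inn_le_range
    (fun h _ k hk => (Cfsg.innNormal _).conj_mem k hk h) _ _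
    (mem_map_comap_det_iff_U hn ρ hρo q0 hρ),
    relIndex_map_comap_det hn _ le_sup_left, index_pow_sup_ker q0 hq hq0]

end unitary

section conj

variable {n : ℕ} [Fintype F] (p : ℕ) [Fact p.Prime] [CharP F p]

include p in
/-- any two graph-field involutions are conjugate under the inner-diagonal group -/
theorem gf_involutions_conj (hn : 3 ≤ n)
    (x y : MulAut (ProjectiveSpecialLinearGroup (Fin n) F))
    (hx : Cfsg.IsGraphFieldAutClassPSL x) (hx2 : orderOf x = 2)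
    (hy : Cfsg.IsGraphFieldAutClassPSL y) (hy2 : orderOf y = 2) :
    Cfsg.IsConjUnder (Cfsg.inndiagPSL n F) x y := by
  have : Finite (RingAut F) := finite_ringAut
  have : IsCyclic (RingAut F) := Cfsg.Agent.Lib.Helper18.PSL2Aut.ringAut_cyclic p
  obtain ⟨-, α, σ, hσ, hα⟩ := gf_class_std p hn x hx Nat.prime_two hx2
  obtain ⟨-, β, τ, hτ, hβ⟩ := gf_class_std p hn y hy Nat.prime_two hy2
  obtain rfl : σ = τ := involution_unique σ τ hσ hτ
  have hnormal : (Cfsg.inndiagPSL n F).Normal := inndiag_normal p (by omega)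
  obtain ⟨d, hd, t, hdt⟩ := exists_conjA_mul_fgHom p (by omega : 2 ≤ n) (α * β⁻¹)
  -- `fgHom t` commutes with the standard involution
  have hcomm : fgHom t * psiA (n := n) σ = psiA σ * fgHom t := by
    rw [psiA_eq_fgHom, ← map_mul, ← map_mul]
    congr 1
    obtain ⟨τ', e⟩ := t
    apply Prod.ext
    · show τ' * σ = σ * τ'
      obtain ⟨g, hg⟩ := IsCyclic.exists_generator (α := RingAut F)
      obtain ⟨i, rfl⟩ := Subgroup.mem_zpowers_iff.1 (hg τ')
      obtain ⟨j, rfl⟩ := Subgroup.mem_zpowers_iff.1 (hg σ)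
      exact zpow_mul_comm g i j
    · exact mul_comm _ _
  refine ⟨α⁻¹ * d * α, ?_, ?_⟩
  · have hd' : d ∈ Cfsg.inndiagPSL n F := by rw [inndiag_eq]; exact hd
    have := hnormal.conj_mem d hd' α⁻¹
    rwa [inv_inv] at this
  · have hx' : x = α⁻¹ * psiA σ * α := by rw [← hα]; group
    have hy' : y = β⁻¹ * psiA σ * β := by rw [← hβ]; group
    have hβ' : β⁻¹ = α⁻¹ * (d * fgHom t) := by rw [← hdt]; group
    have hβ'' : β = (d * fgHom t)⁻¹ * α := by
      rw [← inv_inv β, hβ']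
      group
    rw [hy', hx', hβ', hβ'']
    have h1 : α⁻¹ * (d * fgHom t) * psiA σ * ((d * fgHom t)⁻¹ * α) =
        α⁻¹ * d * (fgHom t * psiA σ) * (fgHom t)⁻¹ * d⁻¹ * α := by group
    rw [h1, hcomm]
    group

end conj

end Cfsg.Agent.Lib.Helper18.PSLnFld
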