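import Mathlib
import Cfsg.Agent.Lib.Helper18.PSLnFldG
import Cfsg.Agent.Lib.Helper18.OrthBalF
import Cfsg.Agent.Lib.Helper18.OrthMinF

/-!
# Local balance in `Aut(PSL_n(F))`: abstract criterion and basic facts (helper18)
-/

set_option autoImplicit false
set_option linter.unusedSectionVars false

namespace Cfsg.Agent.Lib.Helper18.PSLnBal

open Matrix Cfsg Cfsg.Agent.Lib.Helper18.PSLnAut Cfsg.Agent.Lib.Helper18.PSLnFld
  Cfsg.Agent.Lib.Helper18.OrthBal Cfsg.Agent.Lib.Helper25 Cfsg.Agent.Lib.Helper25.SLRoot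

section balance

variable {Y : Type*} [Group Y]

/-- **abstract local balance**, third form: `H` has a normal subgroup `C` containing a normal
subgroup `L` all of whose nontrivial normal subgroups have order divisible by `p`, and no
nontrivial `p'`-element of `H` centralises `L` -/
theorem core_trivial_pp [Finite Y] (p : ℕ) [Fact p.Prime] (H C L : Subgroup Y) (hCH : C ≤ H)
    (hCn : ∀ h ∈ H, ∀ c ∈ C, h * c * h⁻¹ ∈ C) (hLC : L ≤ C)
    (hLn : ∀ c ∈ C, ∀ l ∈ L, c * l * c⁻¹ ∈ L)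
    (hLs : ∀ N : Subgroup Y, N ≤ L → (∀ l ∈ L, ∀ n ∈ N, l * n * l⁻¹ ∈ N) → N ≠ ⊥ →
      p ∣ Nat.card ↥N)
    (hcent : ∀ x ∈ H, (∃ k : ℕ, k.Coprime p ∧ x ^ k = 1) → (∀ l ∈ L, x * l = l * x) → x = 1) :
    Cfsg.pPrimeCore p ↥H = ⊥ := by
  have hchar := Cfsg.Agent.Lib.Helper12.pPrimeCore_characteristic (G := ↥H) p
  have hnorm : (Cfsg.pPrimeCore p ↥H).Normal := inferInstance
  have hcop := Cfsg.Agent.Lib.Helper12.pPrimeCore_coprime (X := ↥H) p
  set X : Subgroup Y := (Cfsg.pPrimeCore p ↥H).map H.subtype with hX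
  have hXcard : Nat.card ↥X = Nat.card ↥(Cfsg.pPrimeCore p ↥H) :=
    Subgroup.card_map_of_injective H.subtype_injective
  have hXH : X ≤ H := by
    rintro _ ⟨x, -, rfl⟩
    exact x.2
  have hXn : ∀ h ∈ H, ∀ x ∈ X, h * x * h⁻¹ ∈ X := by
    rintro h hh _ ⟨x, hx, rfl⟩
    exact ⟨⟨h, hh⟩ * x * ⟨h, hh⟩⁻¹, hnorm.conj_mem x hx ⟨h, hh⟩, rfl⟩
  have hXpp : ∀ x ∈ X, ∃ k : ℕ, k.Coprime p ∧ x ^ k = 1 := by
    intro x hx
    refine ⟨Nat.card ↥X, by rw [hXcard]; exact hcop, ?_⟩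
    have h : (⟨x, hx⟩ : ↥X) ^ Nat.card ↥X = 1 := pow_card_eq_one'
    exact congrArg Subtype.val h
  -- `X ∩ L = 1`
  have hXL : ∀ y, y ∈ X → y ∈ L → y = 1 := by
    have hbot : X ⊓ L = ⊥ := by
      by_contra hne
      have h2 : p ∣ Nat.card ↥(X ⊓ L) := by
        apply hLs (X ⊓ L) inf_le_right _ hne
        intro l hl n hn
        exact ⟨hXn l (hCH (hLC hl)) n hn.1, L.mul_mem (L.mul_mem hl hn.2) (L.inv_mem hl)⟩
      have h1 : Nat.card ↥(X ⊓ L) ∣ Nat.card ↥X := Subgroup.card_dvd_of_le inf_le_left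
      have h4 : p ∣ Nat.card ↥X := dvd_trans h2 h1
      rw [hXcard] at h4
      have h3 := Nat.eq_one_of_dvd_coprimes hcop h4 (dvd_refl p)
      exact (Fact.out : p.Prime).one_lt.ne' h3
    intro y hyX hyL
    have : y ∈ X ⊓ L := ⟨hyX, hyL⟩
    rw [hbot] at this
    exact this
  -- `X ∩ C = 1`
  have hXC : ∀ n, n ∈ X → n ∈ C → n = 1 := by
    intro n hnX hnC
    apply hcent n (hXH hnX) (hXpp n hnX)
    intro l hl
    have h1 : n * l * n⁻¹ * l⁻¹ = 1 := by
      apply hXL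
      · have h2 : l * n⁻¹ * l⁻¹ ∈ X := hXn l (hCH (hLC hl)) n⁻¹ (X.inv_mem hnX)
        have h3 : n * l * n⁻¹ * l⁻¹ = n * (l * n⁻¹ * l⁻¹) := by group
        rw [h3]
        exact X.mul_mem hnX h2
      · exact L.mul_mem (hLn n hnC l hl) (L.inv_mem hl)
    calc n * l = (n * l * n⁻¹ * l⁻¹) * (l * n) := by group
      _ = l * n := by rw [h1, one_mul]
  -- `X` centralises `L`
  have hX1 : ∀ x ∈ X, x = 1 := by
    intro x hx
    apply hcent x (hXH hx) (hXpp x hx)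
    intro l hl
    have h1 : x * l * x⁻¹ * l⁻¹ = 1 := by
      apply hXC
      · have h2 : l * x⁻¹ * l⁻¹ ∈ X := hXn l (hCH (hLC hl)) x⁻¹ (X.inv_mem hx)
        have h3 : x * l * x⁻¹ * l⁻¹ = x * (l * x⁻¹ * l⁻¹) := by group
        rw [h3]
        exact X.mul_mem hx h2
      · exact C.mul_mem (hCn x (hXH hx) l (hLC hl)) (C.inv_mem (hLC hl))
    calc x * l = (x * l * x⁻¹ * l⁻¹) * (l * x) := by group
      _ = l * x := by rw [h1, one_mul]
  rw [eq_bot_iff]
  intro y hy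
  rw [Subgroup.mem_bot]
  have h1 : (y : Y) ∈ X := ⟨y, hy, rfl⟩
  exact Subtype.ext (hX1 _ h1)

/-- an invariant subgroup of `p'`-order of a group with trivial `p'`-core is trivial -/
theorem hLs_of_core [Finite Y] (p : ℕ) [Fact p.Prime] (L : Subgroup Y)
    (hb : Cfsg.pPrimeCore p ↥L = ⊥) (N : Subgroup Y) (hNL : N ≤ L)
    (hn : ∀ l ∈ L, ∀ n ∈ N, l * n * l⁻¹ ∈ N) (hN : N ≠ ⊥) : p ∣ Nat.card ↥N := by
  by_contra hndvd
  have hcop : (Nat.card ↥N).Coprime p :=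
    (Nat.Coprime.symm ((Nat.Prime.coprime_iff_not_dvd (Fact.out : p.Prime)).2 hndvd))
  have hMn : (N.subgroupOf L).Normal := by
    constructor
    intro n hn' g
    rw [Subgroup.mem_subgroupOf] at hn' ⊢
    exact hn g.1 g.2 n.1 hn'
  have hcard : Nat.card ↥(N.subgroupOf L) = Nat.card ↥N :=
    Nat.card_congr (Subgroup.subgroupOfEquivOfLe hNL).toEquiv
  have hle := Cfsg.Agent.Lib.Helper12.le_pPrimeCore p (N.subgroupOf L) hMn
    (by rw [hcard]; exact hcop)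
  rw [hb, le_bot_iff, Subgroup.subgroupOf_eq_bot] at hle
  apply hN
  rw [eq_bot_iff]
  intro c hc
  exact hle.le_bot ⟨hc, hNL hc⟩

end balance

section psl

variable {n : ℕ} {F : Type*} [Field F]

/-- the centre of `PSL_n(F)` is trivial -/
theorem center_PSL (hn : 2 ≤ n) :
    Subgroup.center (ProjectiveSpecialLinearGroup (Fin n) F) = ⊥ := by
  rw [eq_bot_iff]
  intro z hz
  rw [Subgroup.mem_bot]
  obtain ⟨s, rfl⟩ := pi_surjective z
  have h1 : ∀ x : ProjectiveSpecialLinearGroup (Fin n) F,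
      conjA (Matrix.SpecialLinearGroup.toGL s) x = x := by
    intro x
    have h2 : MulAut.conj (pi s) x = x := by
      rw [MulAut.conj_apply, ← (Subgroup.mem_center_iff.1 hz) x, mul_inv_cancel_right]
    rw [conj_pi_eq_conjA] at h2
    exact h2
  have h3 := mem_center_of_conjA_eq hn _ h1
  rw [pi_eq_one_iff, Subgroup.mem_center_iff]
  intro t
  have h4 := (Subgroup.mem_center_iff.1 h3) (Matrix.SpecialLinearGroup.toGL t)
  rw [← map_mul, ← map_mul] at h4
  exact Matrix.SpecialLinearGroup.toGL_injective h4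

theorem commute_conj_pi_iff (hn : 2 ≤ n) (x : MulAut (ProjectiveSpecialLinearGroup (Fin n) F))
    (s : SpecialLinearGroup (Fin n) F) :
    x * MulAut.conj (pi s) = MulAut.conj (pi s) * x ↔ x (pi s) = pi s :=
  commute_conj_iff (center_PSL hn) x (pi s)

/-- the field automorphism of a transvection -/
theorem fieldS_tvSL (τ : F ≃+* F) {v φ : Fin n → F} (h : φ ⬝ᵥ v = 0) (c : F)
    (h' : (fun i => τ (φ i)) ⬝ᵥ (fun i => τ (v i)) = 0) :
    fieldS τ (tvSL v φ h c) = tvSL (fun i => τ (v i)) (fun i => τ (φ i)) h' (τ c) := by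
  apply Subtype.ext
  ext i j
  rw [fieldS_apply, tvSL_coe, tvSL_coe]
  rw [Matrix.add_apply, Matrix.add_apply,
    Matrix.smul_apply, Matrix.smul_apply, vecMulVec_apply, vecMulVec_apply, map_add, smul_eq_mul,
    smul_eq_mul, map_mul, map_mul]
  congr 1
  by_cases hij : i = j
  · subst hij
    simp
  · simp [Matrix.one_apply_ne hij]

theorem map_dot (τ : F ≃+* F) (v φ : Fin n → F) :
    (fun i => τ (φ i)) ⬝ᵥ (fun i => τ (v i)) = τ (φ ⬝ᵥ v) := by
  unfold dotProduct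
  rw [map_sum]
  apply Finset.sum_congr rfl
  intro i _
  rw [map_mul]

end psl

end Cfsg.Agent.Lib.Helper18.PSLnBal
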