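import Mathlib
import Cfsg.Agent.Lib.Helper18.PSLnBalA

/-!
# Semilinear maps fixing transvections of `PSL_n(F)` (helper18)
-/

set_option autoImplicit false
set_option linter.unusedSectionVars false

namespace Cfsg.Agent.Lib.Helper18.PSLnBal

open Matrix Cfsg Cfsg.Agent.Lib.Helper18.PSLnAut Cfsg.Agent.Lib.Helper18.PSLnFld
  Cfsg.Agent.Lib.Helper18.OrthBal Cfsg.Agent.Lib.Helper25 Cfsg.Agent.Lib.Helper25.SLRoot

variable {n : ℕ} {F : Type*} [Field F]

/-- two transvections with the same image in `PSL_n` have proportional directions -/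
theorem par_of_pi_tvSL_eq (hn : 2 ≤ n) {v φ v' φ' : Fin n → F} (h : φ ⬝ᵥ v = 0)
    (h' : φ' ⬝ᵥ v' = 0) (c c' : F) (hv' : v' ≠ 0) (hφ' : φ' ≠ 0) (hc' : c' ≠ 0)
    (heq : pi (tvSL v φ h c) = pi (tvSL v' φ' h' c')) : ∃ a : F, a ≠ 0 ∧ v = a • v' := by
  have h1 := tvSL_eq_of_pi_eq hn h h' c c' heq
  have h2 := congrArg (fun s : SpecialLinearGroup (Fin n) F => (s : Matrix (Fin n) (Fin n) F)) h1
  simp only [tvSL_coe] at h2
  have h3 : c • vecMulVec v φ = c' • vecMulVec v' φ' := add_left_cancel h2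
  obtain ⟨j, hj⟩ : ∃ j, φ' j ≠ 0 := by
    by_contra hcon
    push Not at hcon
    exact hφ' (funext hcon)
  have h4 : ∀ i, c * (v i * φ j) = c' * (v' i * φ' j) := by
    intro i
    have := congrFun (congrFun h3 i) j
    simpa [Matrix.smul_apply, vecMulVec_apply] using this
  have h5 : c * φ j ≠ 0 := by
    intro h0
    apply hv'
    funext i
    have h6 := h4 i
    have h7 : c * (v i * φ j) = v i * (c * φ j) := by ring
    rw [h7, h0, mul_zero] at h6
    have h8 : c' * φ' j ≠ 0 := mul_ne_zero hc' hj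
    have h9 : v' i * (c' * φ' j) = 0 := by rw [h6]; ring
    rcases mul_eq_zero.1 h9 with h10 | h10
    · exact h10
    · exact absurd h10 h8
  refine ⟨c' * φ' j / (c * φ j), div_ne_zero (mul_ne_zero hc' hj) h5, ?_⟩
  funext i
  rw [Pi.smul_apply, smul_eq_mul]
  have h6 := h4 i
  rw [div_mul_eq_mul_div, eq_div_iff h5]
  linear_combination h6

/-- a semilinear automorphism fixing the image of a transvection maps its direction to a
proportional vector -/
theorem par_of_fix_tvSL (hn : 2 ≤ n) (g : GL (Fin n) F) (τ : F ≃+* F) {v φ : Fin n → F}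
    (h : φ ⬝ᵥ v = 0) (hv : v ≠ 0) (hφ : φ ≠ 0)
    (hfix : conjA g (fieldA τ (pi (tvSL v φ h 1))) = pi (tvSL v φ h 1)) :
    ∃ a : F, a ≠ 0 ∧ (g : Matrix (Fin n) (Fin n) F) *ᵥ (fun i => τ (v i)) = a • v := by
  have h' : (fun i => τ (φ i)) ⬝ᵥ (fun i => τ (v i)) = 0 := by rw [map_dot, h, map_zero]
  rw [fieldA_pi, fieldS_tvSL τ h 1 h', conjA_pi, conjMat_tvSL] at hfix
  exact par_of_pi_tvSL_eq hn _ h _ 1 hv hφ one_ne_zero hfix

/-- the inverse transpose of a transvection -/
theorem itS_tvSL {v φ : Fin n → F} (h : φ ⬝ᵥ v = 0) (c : F) (h' : v ⬝ᵥ φ = 0) :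
    itS (tvSL v φ h c) = tvSL φ v h' (-c) := by
  apply Subtype.ext
  rw [itS_coe, tvSL_inv, tvSL_coe, tvSL_coe, Matrix.transpose_add, Matrix.transpose_one,
    Matrix.transpose_smul]
  congr 2
  ext i j
  rw [Matrix.transpose_apply, vecMulVec_apply, vecMulVec_apply, mul_comm]

/-- a semilinear map composed with the inverse transpose, fixing the image of a transvection,
maps its hyperplane to a vector proportional to the direction -/
theorem par_of_fix_tvSL_it (hn : 2 ≤ n) (g : GL (Fin n) F) (τ : F ≃+* F) {v φ : Fin n → F}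
    (h : φ ⬝ᵥ v = 0) (hv : v ≠ 0) (hφ : φ ≠ 0)
    (hfix : conjA g (fieldA τ (itA (pi (tvSL v φ h 1)))) = pi (tvSL v φ h 1)) :
    ∃ a : F, a ≠ 0 ∧ (g : Matrix (Fin n) (Fin n) F) *ᵥ (fun i => τ (φ i)) = a • v := by
  have h0 : v ⬝ᵥ φ = 0 := by rw [dotProduct_comm]; exact h
  have h' : (fun i => τ (v i)) ⬝ᵥ (fun i => τ (φ i)) = 0 := by rw [map_dot, h0, map_zero]
  rw [itA_pi, itS_tvSL h 1 h0, fieldA_pi, fieldS_tvSL τ h0 (-1) h', conjA_pi, conjMat_tvSL]
    at hfix
  exact par_of_pi_tvSL_eq hn _ h _ 1 hv hφ one_ne_zero hfix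

section scalar

variable {F₀ : Type*} [Field F₀]

/-- a semilinear map fixing all the lines spanned by rational vectors is a scalar, and its field
automorphism fixes the subfield -/
theorem scalar_of_par (hn : 2 ≤ n) (ι : F₀ →+* F) (g : GL (Fin n) F) (τ : F ≃+* F)
    (hpar : ∀ v₀ : Fin n → F₀, v₀ ≠ 0 → ∃ a : F, a ≠ 0 ∧
      (g : Matrix (Fin n) (Fin n) F) *ᵥ (fun i => τ (ι (v₀ i))) = a • (fun i => ι (v₀ i))) :
    (∀ b, τ (ι b) = ι b) ∧ conjAHom g = 1 := by
  set G : Matrix (Fin n) (Fin n) F := (g : Matrix (Fin n) (Fin n) F) with hG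
  let i0 : Fin n := ⟨0, by omega⟩
  let i1 : Fin n := ⟨1, by omega⟩
  have h01 : i0 ≠ i1 := by
    intro h
    have := congrArg Fin.val h
    simp [i0, i1] at this
  have hsingle : ∀ i : Fin n, (fun k => τ (ι ((Pi.single i 1 : Fin n → F₀) k))) =
      (Pi.single i 1 : Fin n → F) := by
    intro i
    funext k
    by_cases hk : k = i
    · subst hk
      simp
    · simp [Pi.single_eq_of_ne hk]
  have hsingle' : ∀ i : Fin n, (fun k => ι ((Pi.single i 1 : Fin n → F₀) k)) =
      (Pi.single i 1 : Fin n → F) := by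
    intro i
    funext k
    by_cases hk : k = i
    · subst hk
      simp
    · simp [Pi.single_eq_of_ne hk]
  have hsne : ∀ i : Fin n, (Pi.single i 1 : Fin n → F₀) ≠ 0 := by
    intro i h0
    have := congrFun h0 i
    simp at this
  have hcol : ∀ i : Fin n, ∃ a : F, a ≠ 0 ∧
      G *ᵥ (Pi.single i 1 : Fin n → F) = a • (Pi.single i 1 : Fin n → F) := by
    intro i
    obtain ⟨a, ha0, ha⟩ := hpar _ (hsne i)
    rw [hsingle, hsingle'] at ha
    exact ⟨a, ha0, ha⟩
  have hpair : ∀ (i j : Fin n), i ≠ j → ∀ (b : F₀) (a a' : F),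
      G *ᵥ (Pi.single i 1 : Fin n → F) = a • (Pi.single i 1 : Fin n → F) →
      G *ᵥ (Pi.single j 1 : Fin n → F) = a' • (Pi.single j 1 : Fin n → F) →
      τ (ι b) * a' = a * ι b := by
    intro i j hij b a a' hi hj
    have hne : (Pi.single i 1 + b • Pi.single j 1 : Fin n → F₀) ≠ 0 := by
      intro h0
      have := congrFun h0 i
      simp [Pi.single_eq_of_ne hij] at this
    obtain ⟨d, hd0, hd⟩ := hpar _ hne
    have e1 : (fun k => τ (ι ((Pi.single i 1 + b • Pi.single j 1 : Fin n → F₀) k))) =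
        (Pi.single i 1 : Fin n → F) + τ (ι b) • (Pi.single j 1 : Fin n → F) := by
      funext k
      have h1 := congrFun (hsingle i) k
      have h2 := congrFun (hsingle j) k
      simp only [Pi.add_apply, Pi.smul_apply, smul_eq_mul, map_add, map_mul] at h1 h2 ⊢
      rw [h1, h2]
    have e2 : (fun k => ι ((Pi.single i 1 + b • Pi.single j 1 : Fin n → F₀) k)) =
        (Pi.single i 1 : Fin n → F) + ι b • (Pi.single j 1 : Fin n → F) := by
      funext k
      have h1 := congrFun (hsingle' i) k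
      have h2 := congrFun (hsingle' j) k
      simp only [Pi.add_apply, Pi.smul_apply, smul_eq_mul, map_add, map_mul] at h1 h2 ⊢
      rw [h1, h2]
    rw [e1, e2, Matrix.mulVec_add, Matrix.mulVec_smul, hi, hj] at hd
    have ei := congrFun hd i
    have ej := congrFun hd j
    simp only [Pi.add_apply, Pi.smul_apply, smul_eq_mul, Pi.single_eq_same,
      Pi.single_eq_of_ne hij, Pi.single_eq_of_ne' hij, mul_one, mul_zero, add_zero,
      zero_add] at ei ej
    rw [ej, ei]
  obtain ⟨a, ha0, ha⟩ := hcol i0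
  have hall : ∀ j : Fin n, G *ᵥ (Pi.single j 1 : Fin n → F) =
      a • (Pi.single j 1 : Fin n → F) := by
    intro j
    by_cases hj : j = i0
    · rw [hj]
      exact ha
    · obtain ⟨a', -, ha'⟩ := hcol j
      have := hpair i0 j (Ne.symm hj) 1 a a' ha ha'
      rw [map_one, map_one, one_mul, mul_one] at this
      rw [ha', this]
  constructor
  · intro b
    have := hpair i0 i1 h01 b a a ha (hall i1)
    rw [mul_comm] at this
    exact mul_left_cancel₀ ha0 this
  · have hGs : G = a • (1 : Matrix (Fin n) (Fin n) F) := by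
      ext i j
      have := congrFun (hall j) i
      rw [Matrix.mulVec_single_one] at this
      simp only [Pi.smul_apply, smul_eq_mul] at this
      rw [Matrix.smul_apply, smul_eq_mul, Matrix.one_apply]
      show G i j = _
      have h3 : G i j = (G.col j) i := rfl
      rw [h3, this, Pi.single_apply]
    rw [← MonoidHom.mem_ker, ker_conjAHom hn,
      Matrix.GeneralLinearGroup.mem_center_iff_val_mem_range_scalar]
    refine ⟨a, ?_⟩
    rw [← hG, hGs]
    ext i j
    simp [Matrix.scalar_apply, Matrix.smul_apply, Matrix.one_apply, Matrix.diagonal_apply]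

end scalar

end Cfsg.Agent.Lib.Helper18.PSLnBal
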