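import Mathlib
import Cfsg.Agent.Lib.Helper18.PSLnBalB

/-!
# The subfield subgroup `PSL_n(F₀)` inside `Aut(PSL_n(F))` and its centraliser (helper18)
-/

set_option autoImplicit false
set_option linter.unusedSectionVars false

namespace Cfsg.Agent.Lib.Helper18.PSLnBal

open Matrix Cfsg Cfsg.Agent.Lib.Helper18.PSLnAut Cfsg.Agent.Lib.Helper18.PSLnFld
  Cfsg.Agent.Lib.Helper18.OrthBal Cfsg.Agent.Lib.Helper18.OrthMin
  Cfsg.Agent.Lib.Helper25 Cfsg.Agent.Lib.Helper25.SLRoot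

variable {n : ℕ} {F₀ : Type*} {F : Type*} [Field F₀] [Field F]

/-- an invertible matrix of determinant one comes from `SL_n` -/
theorem exists_toGL_eq (g : GL (Fin n) F) (hg : Matrix.GeneralLinearGroup.det g = 1) :
    ∃ s : SpecialLinearGroup (Fin n) F, Matrix.SpecialLinearGroup.toGL s = g := by
  have h1 : (g : Matrix (Fin n) (Fin n) F).det = 1 := by
    have := congrArg Units.val hg
    exact this
  exact ⟨⟨g.val, h1⟩, Units.ext rfl⟩

/-- the inner automorphisms are induced by the matrices of determinant one -/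
theorem inn_eq_map_toGL :
    Cfsg.Inn (ProjectiveSpecialLinearGroup (Fin n) F) =
      ((Matrix.SpecialLinearGroup.toGL (n := Fin n) (R := F)).range).map conjAHom := by
  apply le_antisymm
  · rintro _ ⟨t, rfl⟩
    obtain ⟨s, rfl⟩ := pi_surjective t
    exact ⟨_, ⟨s, rfl⟩, (conj_pi_eq_conjA s).symm⟩
  · rintro _ ⟨_, ⟨s, rfl⟩, rfl⟩
    exact ⟨pi s, conj_pi_eq_conjA s⟩

/-- the subfield subgroup: the image of `SL_n(F₀)` in `Aut(PSL_n(F))` -/
noncomputable def Lsl (n : ℕ) (ι : F₀ →+* F) :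
    Subgroup (MulAut (ProjectiveSpecialLinearGroup (Fin n) F)) :=
  ((Matrix.SpecialLinearGroup.toGL (n := Fin n) (R := F₀)).range).map (PsiF ι)

theorem PsiF_toGL_mem (ι : F₀ →+* F) (s : SpecialLinearGroup (Fin n) F₀) :
    PsiF ι (Matrix.SpecialLinearGroup.toGL s) ∈ Lsl n ι :=
  ⟨_, ⟨s, rfl⟩, rfl⟩

theorem Lsl_le_range (ι : F₀ →+* F) : Lsl n ι ≤ (PsiF (n := n) ι).range := by
  rintro _ ⟨g, -, rfl⟩
  exact ⟨g, rfl⟩

theorem glMap_toGL (ι : F₀ →+* F) (s : SpecialLinearGroup (Fin n) F₀) :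
    glMap ι (Matrix.SpecialLinearGroup.toGL s) =
      Matrix.SpecialLinearGroup.toGL (Matrix.SpecialLinearGroup.map ι s) := by
  apply Units.ext
  rfl

theorem PsiF_toGL (ι : F₀ →+* F) (s : SpecialLinearGroup (Fin n) F₀) :
    PsiF ι (Matrix.SpecialLinearGroup.toGL s) =
      MulAut.conj (pi (Matrix.SpecialLinearGroup.map ι s)) := by
  rw [PsiF_apply, glMap_toGL, conj_pi_eq_conjA]

theorem Lsl_le_inn (ι : F₀ →+* F) :
    Lsl n ι ≤ Cfsg.Inn (ProjectiveSpecialLinearGroup (Fin n) F) := by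
  rintro _ ⟨_, ⟨s, rfl⟩, rfl⟩
  rw [PsiF_toGL]
  exact ⟨_, rfl⟩

/-- the subfield subgroup is normalised by the image of `GL_n(F₀)` -/
theorem Lsl_normal (ι : F₀ →+* F) (d : MulAut (ProjectiveSpecialLinearGroup (Fin n) F))
    (hd : d ∈ (PsiF (n := n) ι).range) (l : MulAut (ProjectiveSpecialLinearGroup (Fin n) F))
    (hl : l ∈ Lsl n ι) : d * l * d⁻¹ ∈ Lsl n ι := by
  obtain ⟨g, rfl⟩ := hd
  obtain ⟨_, ⟨s, rfl⟩, rfl⟩ := hl
  have h1 : Matrix.GeneralLinearGroup.det (g * Matrix.SpecialLinearGroup.toGL s * g⁻¹) = 1 := by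
    rw [map_mul, map_mul, map_inv, det_toGL, mul_one, mul_inv_cancel]
  obtain ⟨s', hs'⟩ := exists_toGL_eq _ h1
  refine ⟨_, ⟨s', rfl⟩, ?_⟩
  rw [hs', map_mul, map_mul, map_inv]

theorem Lsl_equiv (hn : 2 ≤ n) (ι : F₀ →+* F) :
    Nonempty (↥(Lsl n ι) ≃* ProjectiveSpecialLinearGroup (Fin n) F₀) := by
  have hker : (PsiF (n := n) ι).ker = (conjAHom (n := n) (F := F₀)).ker := by
    rw [ker_PsiF hn, ker_conjAHom hn]
  obtain ⟨e1⟩ := nonempty_equiv_of_ker_eq (PsiF (n := n) ι) (conjAHom (n := n) (F := F₀)) hker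
    (Lsl n ι) (Cfsg.Inn (ProjectiveSpecialLinearGroup (Fin n) F₀)) (Lsl_le_range ι) inn_le_range
    (fun g => by
      unfold Lsl
      rw [inn_eq_map_toGL]
      exact map_mem_map_iff_of_ker_eq _ _ hker _ g)
  have e2 : ProjectiveSpecialLinearGroup (Fin n) F₀ ≃*
      ↥(Cfsg.Inn (ProjectiveSpecialLinearGroup (Fin n) F₀)) :=
    MonoidHom.ofInjective (conj_injective_of_center (center_PSL hn))
  exact ⟨e1.trans e2.symm⟩

theorem Lsl_le_C (ι : F₀ →+* F) (σ : RingAut F) (hι : ∀ b, σ (ι b) = ι b) :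
    Lsl n ι ≤ Cfsg.Inn (ProjectiveSpecialLinearGroup (Fin n) F) ⊓
      Subgroup.centralizer {fieldAHom (n := n) σ} := by
  intro l hl
  refine ⟨Lsl_le_inn ι hl, ?_⟩
  obtain ⟨g, rfl⟩ := Lsl_le_range ι hl
  exact PsiF_mem_centralizer σ ι hι g

/-- base change of a transvection -/
theorem map_tvSL (ι : F₀ →+* F) {v φ : Fin n → F₀} (h : φ ⬝ᵥ v = 0) (c : F₀)
    (h' : (fun i => ι (φ i)) ⬝ᵥ (fun i => ι (v i)) = 0) :
    Matrix.SpecialLinearGroup.map ι (tvSL v φ h c) =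
      tvSL (fun i => ι (v i)) (fun i => ι (φ i)) h' (ι c) := by
  apply Subtype.ext
  ext i j
  rw [Matrix.SpecialLinearGroup.map_apply_coe, RingHom.mapMatrix_apply, Matrix.map_apply,
    tvSL_coe, tvSL_coe]
  rw [Matrix.add_apply, Matrix.add_apply,
    Matrix.smul_apply, Matrix.smul_apply, vecMulVec_apply, vecMulVec_apply, map_add, smul_eq_mul,
    smul_eq_mul, map_mul, map_mul]
  congr 1
  by_cases hij : i = j
  · subst hij
    simp
  · simp [Matrix.one_apply_ne hij]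

theorem map_dot' (ι : F₀ →+* F) (v φ : Fin n → F₀) :
    (fun i => ι (φ i)) ⬝ᵥ (fun i => ι (v i)) = ι (φ ⬝ᵥ v) := by
  unfold dotProduct
  rw [map_sum]
  apply Finset.sum_congr rfl
  intro i _
  rw [map_mul]

theorem map_ne_zero' (ι : F₀ →+* F) {v : Fin n → F₀} (hv : v ≠ 0) :
    (fun i => ι (v i)) ≠ 0 := by
  intro h0
  apply hv
  funext i
  have := congrFun h0 i
  exact (map_eq_zero ι).1 this

/-- the image of a rational transvection lies in the subfield subgroup -/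
theorem conj_pi_tvSL_mem (ι : F₀ →+* F) {v φ : Fin n → F₀} (h : φ ⬝ᵥ v = 0) (c : F₀)
    (h' : (fun i => ι (φ i)) ⬝ᵥ (fun i => ι (v i)) = 0) :
    MulAut.conj (pi (tvSL (fun i => ι (v i)) (fun i => ι (φ i)) h' (ι c))) ∈ Lsl n ι := by
  rw [← map_tvSL ι h c h', ← PsiF_toGL]
  exact PsiF_toGL_mem ι _

/-- a semilinear automorphism commuting with the subfield subgroup: the linear part is scalar
and the field automorphism fixes the subfield -/
theorem semi_of_comm (hn : 2 ≤ n) (ι : F₀ →+* F) (g : GL (Fin n) F) (τ : RingAut F)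
    (h : ∀ l ∈ Lsl n ι, (conjAHom g * fieldAHom τ) * l = l * (conjAHom g * fieldAHom τ)) :
    (∀ b, τ (ι b) = ι b) ∧ conjAHom g = 1 := by
  apply scalar_of_par hn ι g τ
  intro v₀ hv₀
  obtain ⟨φ₀, hφ₀, hφv⟩ := exists_kernel hn v₀
  have h0 : φ₀ ⬝ᵥ v₀ = 0 := by rw [dotProduct_comm]; exact hφv
  have h' : (fun i => ι (φ₀ i)) ⬝ᵥ (fun i => ι (v₀ i)) = 0 := by
    rw [map_dot', h0, map_zero]
  have hl := h _ (conj_pi_tvSL_mem ι h0 1 h')
  rw [commute_conj_pi_iff hn, map_one] at hl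
  exact par_of_fix_tvSL hn g τ h' (map_ne_zero' ι hv₀) (map_ne_zero' ι hφ₀) hl

/-- no automorphism involving the inverse transpose centralises the subfield subgroup -/
theorem graph_not_comm (hn : 3 ≤ n) (ι : F₀ →+* F) (g : GL (Fin n) F) (τ : RingAut F)
    (h : ∀ l ∈ Lsl n ι, (conjAHom g * fieldAHom τ * itA) * l =
      l * (conjAHom g * fieldAHom τ * itA)) : False := by
  let i0 : Fin n := ⟨0, by omega⟩
  let i1 : Fin n := ⟨1, by omega⟩
  let i2 : Fin n := ⟨2, by omega⟩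
  have h01 : i0 ≠ i1 := by
    intro h
    have := congrArg Fin.val h
    simp [i0, i1] at this
  have h02 : i0 ≠ i2 := by
    intro h
    have := congrArg Fin.val h
    simp [i0, i2] at this
  have h12 : i1 ≠ i2 := by
    intro h
    have := congrArg Fin.val h
    simp [i1, i2] at this
  have hsne : ∀ i : Fin n, (Pi.single i 1 : Fin n → F₀) ≠ 0 := by
    intro i h0
    have := congrFun h0 i
    simp at this
  have key : ∀ j : Fin n, j ≠ i0 → ∃ a : F, a ≠ 0 ∧
      (g : Matrix (Fin n) (Fin n) F) *ᵥ (fun i => τ (ι ((Pi.single i0 1 : Fin n → F₀) i))) =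
        a • (fun i => ι ((Pi.single j 1 : Fin n → F₀) i)) := by
    intro j hj
    have h0 : (Pi.single i0 1 : Fin n → F₀) ⬝ᵥ (Pi.single j 1 : Fin n → F₀) = 0 := by
      rw [single_dotProduct, one_mul, Pi.single_eq_of_ne (Ne.symm hj)]
    have h' : (fun i => ι ((Pi.single i0 1 : Fin n → F₀) i)) ⬝ᵥ
        (fun i => ι ((Pi.single j 1 : Fin n → F₀) i)) = 0 := by
      rw [map_dot', h0, map_zero]
    have hl := h _ (conj_pi_tvSL_mem ι h0 1 h')
    rw [commute_conj_pi_iff (by omega), map_one] at hl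
    exact par_of_fix_tvSL_it (by omega) g τ h' (map_ne_zero' ι (hsne j))
      (map_ne_zero' ι (hsne i0)) hl
  obtain ⟨a, ha0, ha⟩ := key i1 (Ne.symm h01)
  obtain ⟨b, hb0, hb⟩ := key i2 (Ne.symm h02)
  rw [ha] at hb
  have h3 := congrFun hb i1
  simp only [Pi.smul_apply, smul_eq_mul, Pi.single_eq_same, Pi.single_eq_of_ne h12, map_one,
    map_zero, mul_one, mul_zero] at h3
  exact ha0 h3

end Cfsg.Agent.Lib.Helper18.PSLnBal
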