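import Mathlib
import Cfsg.Agent.Lib.Helper18.PSpFldA
import Cfsg.Agent.Lib.Helper18.PSpAutC

/-!
The conformal symplectic group acting on `PSp_{2m}(F)`: multiplier, Galois action, kernel,
cocycles; conjugacy in the coset of a field automorphism (helper18).
-/

set_option autoImplicit false
set_option linter.unusedSectionVars false

namespace Cfsg.Agent.Lib.Helper18.PSpAut

open Matrix Cfsg.Agent.Lib.Helper5 Cfsg.Agent.Lib.Helper14.SpPerfect
  Cfsg.Agent.Lib.Helper14.PSpSimple Cfsg.Agent.Lib.Helper18.FTPG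

variable {m : ℕ} {F : Type*} [Field F]

/-! ### the multiplier -/

/-- the multiplier of a conformal symplectic matrix -/
noncomputable def mult (g : Cfsg.GSp m F) : Fˣ := Classical.choose g.2

theorem mult_spec (g : Cfsg.GSp m F) (u v : Fin m ⊕ Fin m → F) :
    Cfsg.sympForm m F (((g : GL (Fin m ⊕ Fin m) F) : Matrix (Fin m ⊕ Fin m) (Fin m ⊕ Fin m) F) *ᵥ u)
      (((g : GL (Fin m ⊕ Fin m) F) : Matrix (Fin m ⊕ Fin m) (Fin m ⊕ Fin m) F) *ᵥ v) =
      (mult g : F) * Cfsg.sympForm m F u v :=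
  Classical.choose_spec g.2 u v

theorem exists_form_eq_one (hm : 1 ≤ m) :
    ∃ u v : Fin m ⊕ Fin m → F, Cfsg.sympForm m F u v = 1 := by
  have he : eL m F ⟨0, hm⟩ ≠ 0 := by
    intro h
    have := congrFun h (Sum.inl ⟨0, hm⟩)
    rw [eL_apply_self] at this
    exact one_ne_zero this
  obtain ⟨a, ha⟩ := sympForm_nondeg _ he
  refine ⟨eL m F ⟨0, hm⟩, (Cfsg.sympForm m F (eL m F ⟨0, hm⟩) a)⁻¹ • a, ?_⟩
  rw [sympForm_smul_right, inv_mul_cancel₀ ha]

theorem mult_unique (hm : 1 ≤ m) (g : Cfsg.GSp m F) (c : F)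
    (h : ∀ u v : Fin m ⊕ Fin m → F,
      Cfsg.sympForm m F (((g : GL (Fin m ⊕ Fin m) F) : Matrix (Fin m ⊕ Fin m) (Fin m ⊕ Fin m) F) *ᵥ u)
      (((g : GL (Fin m ⊕ Fin m) F) : Matrix (Fin m ⊕ Fin m) (Fin m ⊕ Fin m) F) *ᵥ v) =
      c * Cfsg.sympForm m F u v) : (mult g : F) = c := by
  obtain ⟨u, v, huv⟩ := exists_form_eq_one (F := F) hm
  have h1 := mult_spec g u v
  rw [h u v, huv, mul_one, mul_one] at h1
  exact h1.symm

/-- the multiplier as a homomorphism -/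
noncomputable def multHom (hm : 1 ≤ m) : Cfsg.GSp m F →* Fˣ where
  toFun := mult
  map_one' := by
    apply Units.ext
    apply mult_unique hm
    intro u v
    rw [Subgroup.coe_one, Units.val_one, Matrix.one_mulVec, Matrix.one_mulVec, Units.val_one,
      one_mul]
  map_mul' g h := by
    apply Units.ext
    apply mult_unique hm
    intro u v
    rw [Subgroup.coe_mul, Units.val_mul, ← Matrix.mulVec_mulVec, ← Matrix.mulVec_mulVec, mult_spec,
      mult_spec, Units.val_mul, mul_assoc]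

theorem multHom_apply (hm : 1 ≤ m) (g : Cfsg.GSp m F) : multHom hm g = mult g := rfl

/-- Gram matrix form of the multiplier -/
theorem gram_eq (g : Cfsg.GSp m F) :
    ((g : GL (Fin m ⊕ Fin m) F) : Matrix (Fin m ⊕ Fin m) (Fin m ⊕ Fin m) F)ᵀ * J (Fin m) F *
      ((g : GL (Fin m ⊕ Fin m) F) : Matrix (Fin m ⊕ Fin m) (Fin m ⊕ Fin m) F) =
      (mult g : F) • J (Fin m) F := by
  apply matrix_eq_of_dot
  intro u v
  rw [← sympForm_mulVec_mulVec, mult_spec, Matrix.smul_mulVec, dotProduct_smul, smul_eq_mul]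
  rfl

/-- conjugating a transvection by a conformal symplectic matrix -/
theorem conjMat_Tr (g : Cfsg.GSp m F) (v : Fin m ⊕ Fin m → F) (c : F) :
    conjMat g (Tr v c) =
      Tr (((g : GL (Fin m ⊕ Fin m) F) : Matrix (Fin m ⊕ Fin m) (Fin m ⊕ Fin m) F) *ᵥ v)
        (c * (mult g : F)⁻¹) := by
  apply sp_ext
  intro x
  rw [conjMat_coe, ← Matrix.mulVec_mulVec, ← Matrix.mulVec_mulVec, Tr_mulVec, Tr_mulVec,
    Matrix.mulVec_add, Matrix.mulVec_mulVec, gl_mul_inv, Matrix.one_mulVec, Matrix.mulVec_smul]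
  congr 2
  have h1 := mult_spec g (((g : GL (Fin m ⊕ Fin m) F)⁻¹ : GL (Fin m ⊕ Fin m) F) *ᵥ x) v
  rw [Matrix.mulVec_mulVec, gl_mul_inv, Matrix.one_mulVec] at h1
  rw [h1]
  have h0 : (mult g : F) ≠ 0 := (mult g).ne_zero
  field_simp

/-! ### the Galois action -/

theorem map_mem_GSp (σ : RingAut F) {g : GL (Fin m ⊕ Fin m) F} (hg : g ∈ Cfsg.GSp m F) :
    Matrix.GeneralLinearGroup.map ((σ : F ≃+* F) : F →+* F) g ∈ Cfsg.GSp m F := by
  rw [mem_GSp_iff] at hg ⊢
  obtain ⟨c, hc⟩ := hg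
  refine ⟨Units.map ((σ : F ≃+* F) : F →* F) c, ?_⟩
  show ((g : Matrix (Fin m ⊕ Fin m) (Fin m ⊕ Fin m) F).map σ)ᵀ * J (Fin m) F *
    (g : Matrix (Fin m ⊕ Fin m) (Fin m ⊕ Fin m) F).map σ = σ (c : F) • J (Fin m) F
  have hJσ : (J (Fin m) F).map σ = J (Fin m) F := Matrix.map_J (Fin m) σ
  have h1 : ((c : F) • J (Fin m) F).map σ = σ (c : F) • J (Fin m) F := by
    ext a b
    have := congrFun (congrFun hJσ a) b
    rw [Matrix.map_apply] at this
    rw [Matrix.map_apply, Matrix.smul_apply, Matrix.smul_apply, smul_eq_mul, smul_eq_mul, map_mul,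
      this]
  rw [← h1, ← hc, Matrix.map_mul, Matrix.map_mul, hJσ, Matrix.transpose_map]

/-- the Galois action on the conformal symplectic group -/
noncomputable def gspF (σ : RingAut F) : Cfsg.GSp m F →* Cfsg.GSp m F :=
  ((Matrix.GeneralLinearGroup.map ((σ : F ≃+* F) : F →+* F)).comp
    (Cfsg.GSp m F).subtype).codRestrict (Cfsg.GSp m F) (fun g => map_mem_GSp σ g.2)

theorem gspF_coe (σ : RingAut F) (g : Cfsg.GSp m F) :
    (((gspF σ g : Cfsg.GSp m F) : GL (Fin m ⊕ Fin m) F) :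
      Matrix (Fin m ⊕ Fin m) (Fin m ⊕ Fin m) F) =
      ((g : GL (Fin m ⊕ Fin m) F) : Matrix (Fin m ⊕ Fin m) (Fin m ⊕ Fin m) F).map σ := rfl

theorem gspF_inv_coe (σ : RingAut F) (g : Cfsg.GSp m F) :
    ((((gspF σ g : Cfsg.GSp m F) : GL (Fin m ⊕ Fin m) F)⁻¹ : GL (Fin m ⊕ Fin m) F) :
      Matrix (Fin m ⊕ Fin m) (Fin m ⊕ Fin m) F) =
      (((g : GL (Fin m ⊕ Fin m) F)⁻¹ : GL (Fin m ⊕ Fin m) F) :
        Matrix (Fin m ⊕ Fin m) (Fin m ⊕ Fin m) F).map σ := by
  have h : ((gspF σ g : Cfsg.GSp m F) : GL (Fin m ⊕ Fin m) F)⁻¹ =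
      Matrix.GeneralLinearGroup.map ((σ : F ≃+* F) : F →+* F) ((g : GL (Fin m ⊕ Fin m) F)⁻¹) := by
    rw [map_inv]
    rfl
  rw [h]
  rfl

/-- field automorphisms as a homomorphism -/
noncomputable def fieldAHom : RingAut F →* MulAut (Cfsg.PSp m F) where
  toFun := fieldA
  map_one' := by
    ext x
    exact fieldA_refl x
  map_mul' σ τ := by
    ext x
    obtain ⟨s, rfl⟩ := pi_surjective x
    show fieldA (σ * τ) (pi s) = fieldA σ (fieldA τ (pi s))
    rw [fieldA_pi, fieldA_pi, fieldA_pi]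
    congr 1

theorem fieldAHom_apply (σ : RingAut F) : fieldAHom (m := m) σ = fieldA σ := rfl

theorem field_mul_conj (σ : RingAut F) (g : Cfsg.GSp m F) :
    fieldAHom σ * conjAHom g = conjAHom (gspF σ g) * fieldAHom σ := by
  ext x
  obtain ⟨s, rfl⟩ := pi_surjective x
  show fieldA σ (conjA g (pi s)) = conjA (gspF σ g) (fieldA σ (pi s))
  rw [conjA_pi, fieldA_pi, fieldA_pi, conjA_pi]
  congr 1
  apply Subtype.ext
  rw [fieldS_coe, conjMat_coe, conjMat_coe, fieldS_coe, gspF_coe, gspF_inv_coe, Matrix.map_mul,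
    Matrix.map_mul]

/-- the cocycle sequence `g σ(g) ⋯ σ^{i-1}(g)` -/
noncomputable def cocyc (σ : RingAut F) (g : Cfsg.GSp m F) : ℕ → Cfsg.GSp m F
  | 0 => 1
  | i + 1 => g * gspF σ (cocyc σ g i)

theorem cocyc_zero (σ : RingAut F) (g : Cfsg.GSp m F) : cocyc σ g 0 = 1 := rfl

theorem cocyc_succ (σ : RingAut F) (g : Cfsg.GSp m F) (i : ℕ) :
    cocyc σ g (i + 1) = g * gspF σ (cocyc σ g i) := rfl

theorem cocyc_one (σ : RingAut F) (g : Cfsg.GSp m F) : cocyc σ g 1 = g := by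
  rw [cocyc_succ, cocyc_zero, map_one, mul_one]

theorem pow_conj_field (σ : RingAut F) (g : Cfsg.GSp m F) (i : ℕ) :
    (conjAHom g * fieldAHom σ) ^ i = conjAHom (cocyc σ g i) * fieldAHom (σ ^ i) := by
  induction i with
  | zero => simp [cocyc_zero]
  | succ i ih =>
    rw [pow_succ', ih, cocyc_succ, map_mul, pow_succ', map_mul, mul_assoc, mul_assoc,
      ← mul_assoc (fieldAHom σ) (conjAHom _), field_mul_conj, mul_assoc]

theorem conj_conj_field (σ : RingAut F) (h : Cfsg.GSp m F) :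
    conjAHom h * fieldAHom σ * (conjAHom h)⁻¹ = conjAHom (h * (gspF σ h)⁻¹) * fieldAHom σ := by
  rw [mul_inv_eq_iff_eq_mul, map_mul, map_inv, mul_assoc, mul_assoc]
  congr 1
  rw [eq_inv_mul_iff_mul_eq, field_mul_conj]


/-! ### the kernel of the action -/

/-- a matrix for which every nonzero vector is an eigenvector is a scalar matrix -/
theorem eq_smul_one_of_par (Z : Matrix (Fin m ⊕ Fin m) (Fin m ⊕ Fin m) F)
    (h : ∀ v : Fin m ⊕ Fin m → F, v ≠ 0 → Par (Z *ᵥ v) v) :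
    ∃ a : F, Z = a • (1 : Matrix (Fin m ⊕ Fin m) (Fin m ⊕ Fin m) F) := by
  obtain ⟨a, ha⟩ := (Matrix.toLin' Z).exists_eq_smul_id_of_forall_notLinearIndependent
    (fun v => by
      by_cases hv : v = 0
      · subst hv
        intro h
        exact h.ne_zero 0 rfl
      · rw [LinearIndependent.pair_iff' hv]
        push Not
        obtain ⟨c, -, hc⟩ := h v hv
        exact ⟨c, by rw [Matrix.toLin'_apply, hc]⟩)
  refine ⟨a, ?_⟩
  calc Z = LinearMap.toMatrix' (Matrix.toLin' Z) := (LinearMap.toMatrix'_toLin' Z).symm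
    _ = (algebraMap F (Module.End F (Fin m ⊕ Fin m → F)) a).toMatrix' :=
        congrArg LinearMap.toMatrix' ha
    _ = Matrix.scalar _ a := LinearMap.toMatrix'_algebraMap a
    _ = a • 1 := by
        ext i j
        simp [Matrix.scalar_apply, Matrix.diagonal_apply, Matrix.one_apply]

theorem ker_conjAHom (hm : 2 ≤ m) :
    (conjAHom (m := m) (F := F)).ker =
      (Cfsg.Geo.scalars (Fin m ⊕ Fin m) F).subgroupOf (Cfsg.GSp m F) := by
  ext g
  rw [MonoidHom.mem_ker, Subgroup.mem_subgroupOf, Cfsg.Geo.mem_scalars_iff]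
  constructor
  · intro h
    have hpar : ∀ v : Fin m ⊕ Fin m → F, v ≠ 0 →
        Par (((g : GL (Fin m ⊕ Fin m) F) : Matrix (Fin m ⊕ Fin m) (Fin m ⊕ Fin m) F) *ᵥ v) v := by
      intro v hv
      have h1 : conjA g (pi (Tr v 1)) = pi (Tr v 1) := by
        rw [← conjAHom_apply, h]
        rfl
      rw [conjA_pi, conjMat_Tr, one_mul] at h1
      have hgv : ((g : GL (Fin m ⊕ Fin m) F) : Matrix (Fin m ⊕ Fin m) (Fin m ⊕ Fin m) F) *ᵥ v ≠ 0 := by
        intro h0
        apply hv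
        have := congrArg (fun w => (((g : GL (Fin m ⊕ Fin m) F)⁻¹ : GL (Fin m ⊕ Fin m) F) :
          Matrix (Fin m ⊕ Fin m) (Fin m ⊕ Fin m) F) *ᵥ w) h0
        simp only [Matrix.mulVec_mulVec, gl_inv_mul, Matrix.one_mulVec, Matrix.mulVec_zero] at this
        exact this
      exact par_of_pi_Tr_eq hm hgv (inv_ne_zero (mult g).ne_zero) h1
    obtain ⟨a, ha⟩ := eq_smul_one_of_par _ hpar
    have ha0 : a ≠ 0 := by
      rintro rfl
      rw [zero_smul] at ha
      have h3 : IsUnit ((g : GL (Fin m ⊕ Fin m) F) : Matrix (Fin m ⊕ Fin m) (Fin m ⊕ Fin m) F) :=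
        ⟨g, rfl⟩
      rw [ha] at h3
      have : Nontrivial (Matrix (Fin m ⊕ Fin m) (Fin m ⊕ Fin m) F) := by
        have : Nonempty (Fin m ⊕ Fin m) := ⟨Sum.inl ⟨0, by omega⟩⟩
        infer_instance
      exact not_isUnit_zero h3
    exact ⟨Units.mk0 a ha0, ha⟩
  · rintro ⟨c, hc⟩
    ext x
    obtain ⟨s, rfl⟩ := pi_surjective x
    show conjA g (pi s) = pi s
    rw [conjA_pi]
    congr 1
    apply Subtype.ext
    have hcomm : ((g : GL (Fin m ⊕ Fin m) F) : Matrix (Fin m ⊕ Fin m) (Fin m ⊕ Fin m) F) *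
        (s : Matrix (Fin m ⊕ Fin m) (Fin m ⊕ Fin m) F) =
        (s : Matrix (Fin m ⊕ Fin m) (Fin m ⊕ Fin m) F) *
        ((g : GL (Fin m ⊕ Fin m) F) : Matrix (Fin m ⊕ Fin m) (Fin m ⊕ Fin m) F) := by
      rw [hc, Matrix.smul_mul, Matrix.one_mul, Matrix.mul_smul, Matrix.mul_one]
    rw [conjMat_coe, hcomm, Matrix.mul_assoc, gl_mul_inv, Matrix.mul_one]

/-- scalar matrices as conformal symplectic matrices -/
noncomputable def scalarG (a : Fˣ) : Cfsg.GSp m F :=
  ⟨Matrix.GeneralLinearGroup.scalar (Fin m ⊕ Fin m) a, by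
    refine ⟨a * a, fun u v => ?_⟩
    show Cfsg.sympForm m F ((Matrix.scalar (Fin m ⊕ Fin m) (a : F)) *ᵥ u)
      ((Matrix.scalar (Fin m ⊕ Fin m) (a : F)) *ᵥ v) = _
    have h : ∀ w : Fin m ⊕ Fin m → F, (Matrix.scalar (Fin m ⊕ Fin m) (a : F)) *ᵥ w = (a : F) • w := by
      intro w
      funext i
      simp [Matrix.scalar_apply, Matrix.mulVec_diagonal]
    rw [h, h, sympForm_smul_left, sympForm_smul_right, Units.val_mul, mul_assoc]⟩

theorem scalarG_coe (a : Fˣ) :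
    (((scalarG a : Cfsg.GSp m F) : GL (Fin m ⊕ Fin m) F) :
      Matrix (Fin m ⊕ Fin m) (Fin m ⊕ Fin m) F) =
      (a : F) • (1 : Matrix (Fin m ⊕ Fin m) (Fin m ⊕ Fin m) F) := by
  show Matrix.scalar (Fin m ⊕ Fin m) (a : F) = _
  ext i j
  simp [Matrix.scalar_apply, Matrix.diagonal_apply, Matrix.one_apply]

theorem scalarG_mem_ker (hm : 2 ≤ m) (a : Fˣ) :
    (scalarG a : Cfsg.GSp m F) ∈ (conjAHom (m := m) (F := F)).ker := by
  rw [ker_conjAHom hm, Subgroup.mem_subgroupOf, Cfsg.Geo.mem_scalars_iff]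
  exact ⟨a, scalarG_coe a⟩

theorem mult_scalarG (hm : 1 ≤ m) (a : Fˣ) : mult (scalarG a : Cfsg.GSp m F) = a * a := by
  apply Units.ext
  apply mult_unique hm
  intro u v
  rw [scalarG_coe, Matrix.smul_mulVec, Matrix.smul_mulVec, Matrix.one_mulVec, Matrix.one_mulVec,
    sympForm_smul_left, sympForm_smul_right, Units.val_mul, mul_assoc]


/-! ### conjugacy in the coset of a field automorphism -/

/-- **conjugacy in the coset of a field automorphism** -/
theorem field_coset_conj [Finite F] (hm : 2 ≤ m) (σ : RingAut F) (r : ℕ) (hσ : orderOf σ = r)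
    (hr : 0 < r) (g : Cfsg.GSp m F) (hg : (conjAHom g * fieldAHom σ) ^ r = 1) :
    ∃ h : Cfsg.GSp m F,
      conjAHom g * fieldAHom σ = conjAHom h * fieldAHom σ * (conjAHom h)⁻¹ := by
  rw [pow_conj_field, ← hσ, pow_orderOf_eq_one, map_one, mul_one, hσ] at hg
  have hker : cocyc σ g r ∈ (conjAHom (m := m) (F := F)).ker := hg
  rw [ker_conjAHom hm, Subgroup.mem_subgroupOf, Cfsg.Geo.mem_scalars_iff] at hker
  obtain ⟨μ, hμ⟩ := hker
  obtain ⟨h, ν, d, hh, hν0, hd0, hfix, hgram⟩ := gsp_lang (by omega) σ r hσ hr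
    (fun i => (((cocyc σ g i : Cfsg.GSp m F) : GL (Fin m ⊕ Fin m) F) :
      Matrix (Fin m ⊕ Fin m) (Fin m ⊕ Fin m) F))
    (by rw [cocyc_zero]; rfl)
    (by
      intro i
      rw [cocyc_succ, cocyc_one]
      rfl)
    (μ : F) μ.ne_zero hμ (mult g : F) (mult g).ne_zero
    (by
      show (((cocyc σ g 1 : Cfsg.GSp m F) : GL (Fin m ⊕ Fin m) F) :
        Matrix (Fin m ⊕ Fin m) (Fin m ⊕ Fin m) F)ᵀ * _ * _ = _
      rw [cocyc_one]
      exact gram_eq g)
  have hfix' : ((g : GL (Fin m ⊕ Fin m) F) : Matrix (Fin m ⊕ Fin m) (Fin m ⊕ Fin m) F) * h.map σ =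
      ν • h := by
    have : (((cocyc σ g 1 : Cfsg.GSp m F) : GL (Fin m ⊕ Fin m) F) :
        Matrix (Fin m ⊕ Fin m) (Fin m ⊕ Fin m) F) * h.map σ = ν • h := hfix
    rwa [cocyc_one] at this
  obtain ⟨hG, rfl⟩ := hh
  have hmem : hG ∈ Cfsg.GSp m F := (mem_GSp_iff hG).2 ⟨Units.mk0 d hd0, hgram⟩
  refine ⟨⟨hG, hmem⟩, ?_⟩
  rw [conj_conj_field]
  congr 1
  have hgz : g = scalarG (Units.mk0 ν hν0) * (⟨hG, hmem⟩ * (gspF σ ⟨hG, hmem⟩)⁻¹) := by
    rw [← mul_assoc, eq_mul_inv_iff_mul_eq]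
    apply Subtype.ext
    apply Units.ext
    show ((g : GL (Fin m ⊕ Fin m) F) : Matrix (Fin m ⊕ Fin m) (Fin m ⊕ Fin m) F) *
      (hG : Matrix (Fin m ⊕ Fin m) (Fin m ⊕ Fin m) F).map σ =
      (((scalarG (Units.mk0 ν hν0) : Cfsg.GSp m F) : GL (Fin m ⊕ Fin m) F) :
        Matrix (Fin m ⊕ Fin m) (Fin m ⊕ Fin m) F) * (hG : Matrix (Fin m ⊕ Fin m) (Fin m ⊕ Fin m) F)
    rw [scalarG_coe, hfix', Matrix.smul_mul, Matrix.one_mul]
    rfl
  rw [hgz, map_mul, MonoidHom.mem_ker.1 (scalarG_mem_ker hm _), one_mul]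


/-! ### inner automorphisms -/

theorem sp_mul_inv (s : symplecticGroup (Fin m) F) :
    (s : Matrix (Fin m ⊕ Fin m) (Fin m ⊕ Fin m) F) *
      ((s⁻¹ : symplecticGroup (Fin m) F) : Matrix (Fin m ⊕ Fin m) (Fin m ⊕ Fin m) F) = 1 :=
  congrArg Subtype.val (mul_inv_cancel s)

theorem sp_inv_mul (s : symplecticGroup (Fin m) F) :
    ((s⁻¹ : symplecticGroup (Fin m) F) : Matrix (Fin m ⊕ Fin m) (Fin m ⊕ Fin m) F) *
      (s : Matrix (Fin m ⊕ Fin m) (Fin m ⊕ Fin m) F) = 1 :=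
  congrArg Subtype.val (inv_mul_cancel s)

/-- symplectic matrices as conformal symplectic matrices -/
def spG : symplecticGroup (Fin m) F →* Cfsg.GSp m F where
  toFun s := ⟨⟨s.1, (s⁻¹).1, sp_mul_inv s, sp_inv_mul s⟩, ⟨1, fun u v => by
    rw [Units.val_one, one_mul]
    exact sympForm_mulVec_of_mem s.2 u v⟩⟩
  map_one' := by
    apply Subtype.ext
    apply Units.ext
    rfl
  map_mul' s t := by
    apply Subtype.ext
    apply Units.ext
    rfl

theorem spG_coe (s : symplecticGroup (Fin m) F) :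
    (((spG s : Cfsg.GSp m F) : GL (Fin m ⊕ Fin m) F) : Matrix (Fin m ⊕ Fin m) (Fin m ⊕ Fin m) F) =
      (s : Matrix (Fin m ⊕ Fin m) (Fin m ⊕ Fin m) F) := rfl

theorem mult_spG (hm : 1 ≤ m) (s : symplecticGroup (Fin m) F) : mult (spG s) = 1 := by
  apply Units.ext
  apply mult_unique hm
  intro u v
  rw [Units.val_one, one_mul, spG_coe]
  exact sympForm_mulVec_of_mem s.2 u v

/-- inner automorphisms are induced by matrices -/
theorem conj_pi_eq_conjA (s : symplecticGroup (Fin m) F) :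
    MulAut.conj (pi s) = conjAHom (spG s) := by
  ext x
  obtain ⟨t, rfl⟩ := pi_surjective x
  rw [MulAut.conj_apply, conjAHom_apply, conjA_pi, ← map_inv, ← map_mul, ← map_mul]
  congr 1

theorem inn_le_range : Cfsg.Inn (Cfsg.PSp m F) ≤ (conjAHom (m := m) (F := F)).range := by
  rintro _ ⟨t, rfl⟩
  obtain ⟨s, rfl⟩ := pi_surjective t
  exact ⟨_, (conj_pi_eq_conjA s).symm⟩

/-- a conformal symplectic matrix with multiplier one is symplectic -/
theorem exists_spG_eq (g : Cfsg.GSp m F) (h : mult g = 1) : ∃ s, spG s = g := by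
  have h1 := gram_eq g
  rw [h, Units.val_one, one_smul] at h1
  refine ⟨⟨_, SymplecticGroup.mem_iff'.2 h1⟩, ?_⟩
  apply Subtype.ext
  apply Units.ext
  rfl

/-- matrices with square multiplier induce inner automorphisms -/
theorem conjAHom_mem_inn (hm : 2 ≤ m) (g : Cfsg.GSp m F) (a : Fˣ) (ha : mult g = a * a) :
    conjAHom g ∈ Cfsg.Inn (Cfsg.PSp m F) := by
  have h1 : mult ((scalarG a)⁻¹ * g) = 1 := by
    rw [← multHom_apply (by omega : 1 ≤ m), map_mul, map_inv, multHom_apply, multHom_apply, ha,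
      mult_scalarG (by omega)]
    exact inv_mul_cancel _
  obtain ⟨s, hs⟩ := exists_spG_eq _ h1
  have h2 : conjAHom g = conjAHom (spG s) := by
    rw [hs, map_mul, map_inv, MonoidHom.mem_ker.1 (scalarG_mem_ker hm a), inv_one, one_mul]
  rw [h2, ← conj_pi_eq_conjA]
  exact ⟨_, rfl⟩

theorem inndiag_eq : Cfsg.inndiagPSp m F = (conjAHom (m := m) (F := F)).range := by
  unfold Cfsg.inndiagPSp Cfsg.autSubgroupOf
  apply le_antisymm
  · rw [Subgroup.closure_le]
    intro β hβ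
    obtain ⟨g, rfl⟩ := (isInnerDiagonal_iff β).1 hβ
    exact ⟨g, rfl⟩
  · rintro _ ⟨g, rfl⟩
    exact Subgroup.subset_closure ((isInnerDiagonal_iff _).2 ⟨g, rfl⟩)

/-! ### normality of the inner-diagonal group -/

theorem range_eq_inn_of_char_two [Finite F] (hm : 2 ≤ m) (h2 : (2 : F) = 0) :
    (conjAHom (m := m) (F := F)).range = Cfsg.Inn (Cfsg.PSp m F) := by
  apply le_antisymm _ inn_le_range
  rintro _ ⟨g, rfl⟩
  have hch : ringChar F = 2 := CharP.ringChar_of_prime_eq_zero Nat.prime_two (by exact_mod_cast h2)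
  obtain ⟨a, ha⟩ := FiniteField.isSquare_of_char_two hch (mult g : F)
  have ha0 : a ≠ 0 := by
    rintro rfl
    rw [mul_zero] at ha
    exact (mult g).ne_zero ha
  exact conjAHom_mem_inn hm g (Units.mk0 a ha0) (Units.ext ha)

theorem range_normal_of_odd [Fintype F] (p : ℕ) [Fact p.Prime] [CharP F p] (hm : 2 ≤ m)
    (h2 : (2 : F) ≠ 0) : (conjAHom (m := m) (F := F)).range.Normal := by
  constructor
  rintro _ ⟨g', rfl⟩ α
  obtain ⟨g, τ, hα⟩ := exists_semilinear_of_odd p hm h2 α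
  have hα' : α = conjAHom g * fieldAHom τ := by
    ext x
    exact hα x
  have h1 : fieldAHom τ * conjAHom g' * (fieldAHom (m := m) τ)⁻¹ = conjAHom (gspF τ g') := by
    rw [field_mul_conj, mul_inv_cancel_right]
  have h3 : α * conjAHom g' * α⁻¹ = conjAHom g * conjAHom (gspF τ g') * (conjAHom g)⁻¹ := by
    rw [hα', ← h1]
    group
  rw [h3]
  exact ⟨g * gspF τ g' * g⁻¹, by rw [map_mul, map_mul, map_inv]⟩

theorem range_normal [Fintype F] (hm : 2 ≤ m) : (conjAHom (m := m) (F := F)).range.Normal := by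
  by_cases h2 : (2 : F) = 0
  · rw [range_eq_inn_of_char_two hm h2]
    infer_instance
  · obtain ⟨p, hp⟩ := CharP.exists F
    have : Fact p.Prime := ⟨(CharP.char_is_prime_or_zero F p).resolve_right
      (CharP.char_ne_zero_of_finite F p)⟩
    exact range_normal_of_odd p hm h2

theorem inndiag_normal [Fintype F] (hm : 2 ≤ m) : (Cfsg.inndiagPSp m F).Normal := by
  rw [inndiag_eq]
  exact range_normal hm

/-! ### orders of field automorphisms -/

theorem fieldAHom_injective (hm : 1 ≤ m) : Function.Injective (fieldAHom (m := m) (F := F)) := by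
  rw [injective_iff_map_eq_one]
  intro σ hσ
  apply RingEquiv.ext
  intro c
  show σ c = c
  let i0 : Fin m := ⟨0, hm⟩
  have h1 : fieldA σ (pi (Tr (eL m F i0) c)) = pi (Tr (eL m F i0) c) := by
    rw [← fieldAHom_apply, hσ]
    rfl
  rw [fieldA_pi, pi_eq_iff hm, fieldS_coe, Tr_eL_coe] at h1
  rcases h1 with h1 | h1
  · have := congrFun (congrFun h1 (Sum.inl i0)) (Sum.inr i0)
    rw [Matrix.map_apply, fromBlocks_apply₁₂, Matrix.single_apply_same] at this
    exact this.symm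
  · have h3 := congrFun (congrFun h1 (Sum.inl i0)) (Sum.inr i0)
    have h4 := congrFun (congrFun h1 (Sum.inl i0)) (Sum.inl i0)
    rw [Matrix.neg_apply, Matrix.map_apply, fromBlocks_apply₁₂, Matrix.single_apply_same] at h3
    rw [Matrix.neg_apply, Matrix.map_apply, fromBlocks_apply₁₁, Matrix.one_apply_eq, map_one] at h4
    have h5 : σ c = -σ c := by
      have : -σ c = (-1) * σ c := by ring
      rw [this, ← h4, one_mul]
    rw [h5]
    exact h3.symm

theorem orderOf_fieldAHom (hm : 1 ≤ m) (σ : RingAut F) :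
    orderOf (fieldAHom (m := m) σ) = orderOf σ :=
  orderOf_injective _ (fieldAHom_injective hm) σ

theorem isStdField_iff' (σ : F ≃+* F) (β : MulAut (Cfsg.PSp m F)) :
    Cfsg.IsStdFieldAutPSp σ β ↔ β = fieldAHom σ :=
  isStdField_iff σ β

end Cfsg.Agent.Lib.Helper18.PSpAut
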