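import Mathlib
import Cfsg.Agent.Lib.Helper18.PSpFldB
import Cfsg.Agent.Lib.Helper18.PSLnFldF

/-!
Field automorphisms of `PSp_{2m}(F)` of prime order: conjugacy in the coset, centralizer,
splitting of the class (helper18).
-/

set_option autoImplicit false
set_option linter.unusedSectionVars false

namespace Cfsg.Agent.Lib.Helper18.PSpAut

open Matrix Cfsg.Agent.Lib.Helper5 Cfsg.Agent.Lib.Helper14.SpPerfect
  Cfsg.Agent.Lib.Helper14.PSpSimple

open Cfsg.Agent.Lib.Helper18.PSLnFld (conjUnder_of_std nrm nrm_zero nrm_succ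
  exists_fixed_of_nrm_eq_one splitClassCount_eq index_pow_sup_units)

variable {m : ℕ} {F : Type*} [Field F]

/-- **S2713** -/
theorem field_class_conj [Fintype F] (hm : 2 ≤ m)
    (x δ : MulAut (Cfsg.PSp m F)) (hx : Cfsg.IsFieldAutClassPSp x)
    (hx0 : 0 < orderOf x)
    (hδ : δ ∈ Cfsg.inndiagPSp m F) (hord : orderOf (δ * x) = orderOf x) :
    Cfsg.IsConjUnder (Cfsg.inndiagPSp m F) x (δ * x) := by
  obtain ⟨α, σ, -, hstd⟩ := hx
  rw [isStdField_iff'] at hstd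
  have : (Cfsg.inndiagPSp m F).Normal := inndiag_normal hm
  have hoσ : orderOf (σ : RingAut F) = orderOf x := by
    rw [← orderOf_fieldAHom (by omega : 1 ≤ m) σ, ← hstd]
    have e2 : α * x * α⁻¹ = MulAut.conj α x := rfl
    rw [e2, MulEquiv.orderOf_eq]
  apply conjUnder_of_std _ α x δ (fieldAHom σ) hstd hδ _ hord
  intro d hd hdo
  rw [inndiag_eq] at hd
  obtain ⟨g, rfl⟩ := hd
  rw [orderOf_fieldAHom (by omega : 1 ≤ m) σ] at hdo
  have hpow : (conjAHom g * fieldAHom σ) ^ orderOf x = 1 := by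
    rw [← hoσ, ← hdo]
    exact pow_orderOf_eq_one _
  obtain ⟨h, hh⟩ := field_coset_conj hm σ (orderOf x) hoσ hx0 g hpow
  refine ⟨conjAHom h, ?_, hh⟩
  rw [inndiag_eq]
  exact ⟨h, rfl⟩


/-! ### the centralizer of a standard field automorphism -/

section cent

variable {F₀ : Type*} [Field F₀]

theorem map_J' (ι : F₀ →+* F) : (J (Fin m) F₀).map ι = J (Fin m) F := Matrix.map_J (Fin m) ι

theorem map_smul_J (ι : F₀ →+* F) (c : F₀) :
    (c • J (Fin m) F₀).map ι = ι c • J (Fin m) F := by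
  ext a b
  have := congrFun (congrFun (map_J' (m := m) ι) a) b
  rw [Matrix.map_apply] at this
  rw [Matrix.map_apply, Matrix.smul_apply, Matrix.smul_apply, smul_eq_mul, smul_eq_mul, map_mul,
    this]

theorem map_mem_GSp' (ι : F₀ →+* F) {g : GL (Fin m ⊕ Fin m) F₀} (hg : g ∈ Cfsg.GSp m F₀) :
    Matrix.GeneralLinearGroup.map ι g ∈ Cfsg.GSp m F := by
  rw [mem_GSp_iff] at hg ⊢
  obtain ⟨c, hc⟩ := hg
  refine ⟨Units.map (ι : F₀ →* F) c, ?_⟩
  show ((g : Matrix (Fin m ⊕ Fin m) (Fin m ⊕ Fin m) F₀).map ι)ᵀ * J (Fin m) F *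
    (g : Matrix (Fin m ⊕ Fin m) (Fin m ⊕ Fin m) F₀).map ι = ι (c : F₀) • J (Fin m) F
  rw [← map_smul_J, ← hc, Matrix.map_mul, Matrix.map_mul, map_J', Matrix.transpose_map]

/-- base change of conformal symplectic matrices -/
noncomputable def gspMap (ι : F₀ →+* F) : Cfsg.GSp m F₀ →* Cfsg.GSp m F :=
  ((Matrix.GeneralLinearGroup.map ι).comp (Cfsg.GSp m F₀).subtype).codRestrict (Cfsg.GSp m F)
    (fun g => map_mem_GSp' ι g.2)

theorem gspMap_coe (ι : F₀ →+* F) (g : Cfsg.GSp m F₀) :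
    (((gspMap ι g : Cfsg.GSp m F) : GL (Fin m ⊕ Fin m) F) :
      Matrix (Fin m ⊕ Fin m) (Fin m ⊕ Fin m) F) =
      ((g : GL (Fin m ⊕ Fin m) F₀) : Matrix (Fin m ⊕ Fin m) (Fin m ⊕ Fin m) F₀).map ι := rfl

theorem mult_gspMap (hm : 1 ≤ m) (ι : F₀ →+* F) (g : Cfsg.GSp m F₀) :
    mult (gspMap ι g) = Units.map (ι : F₀ →* F) (mult g) := by
  apply Units.ext
  have h1 := gram_eq (gspMap ι g)
  have h2 := gram_eq g
  have h3 : (((gspMap ι g : Cfsg.GSp m F) : GL (Fin m ⊕ Fin m) F) :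
      Matrix (Fin m ⊕ Fin m) (Fin m ⊕ Fin m) F)ᵀ * J (Fin m) F *
      (((gspMap ι g : Cfsg.GSp m F) : GL (Fin m ⊕ Fin m) F) :
      Matrix (Fin m ⊕ Fin m) (Fin m ⊕ Fin m) F) = ι (mult g : F₀) • J (Fin m) F := by
    rw [gspMap_coe, ← map_smul_J, ← h2, Matrix.map_mul, Matrix.map_mul, map_J',
      Matrix.transpose_map]
  rw [h1] at h3
  have h4 := congrFun (congrFun h3 (Sum.inr ⟨0, hm⟩)) (Sum.inl ⟨0, hm⟩)
  simp only [Matrix.smul_apply, smul_eq_mul, J, Matrix.fromBlocks_apply₂₁, Matrix.one_apply_eq,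
    mul_one] at h4
  exact h4

/-- the action of `GSp` of a subfield on `PSp_{2m}(F)` -/
noncomputable def PsiF (ι : F₀ →+* F) : Cfsg.GSp m F₀ →* MulAut (Cfsg.PSp m F) :=
  conjAHom.comp (gspMap ι)

theorem PsiF_apply (ι : F₀ →+* F) (g : Cfsg.GSp m F₀) :
    PsiF (m := m) ι g = conjAHom (gspMap ι g) := rfl

theorem ker_PsiF (hm : 2 ≤ m) (ι : F₀ →+* F) :
    (PsiF (m := m) ι).ker = (Cfsg.Geo.scalars (Fin m ⊕ Fin m) F₀).subgroupOf (Cfsg.GSp m F₀) := by
  ext g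
  rw [MonoidHom.mem_ker, PsiF_apply, ← MonoidHom.mem_ker, ker_conjAHom hm,
    Subgroup.mem_subgroupOf, Subgroup.mem_subgroupOf, Cfsg.Geo.mem_scalars_iff,
    Cfsg.Geo.mem_scalars_iff]
  constructor
  · rintro ⟨a, ha⟩
    rw [gspMap_coe] at ha
    let i0 : Fin m ⊕ Fin m := Sum.inl ⟨0, by omega⟩
    have hc0 : ((g : GL (Fin m ⊕ Fin m) F₀) : Matrix (Fin m ⊕ Fin m) (Fin m ⊕ Fin m) F₀) i0 i0 ≠ 0 := by
      intro h0
      have h2 := congrFun (congrFun ha i0) i0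
      rw [Matrix.map_apply, h0, map_zero, Matrix.smul_apply, Matrix.one_apply_eq, smul_eq_mul,
        mul_one] at h2
      exact a.ne_zero h2.symm
    refine ⟨Units.mk0 _ hc0, ?_⟩
    ext i j
    apply ι.injective
    have h1 := congrFun (congrFun ha i) j
    have h2 := congrFun (congrFun ha i0) i0
    rw [Matrix.map_apply] at h1 h2
    rw [h1]
    rw [Matrix.smul_apply, Matrix.one_apply_eq, smul_eq_mul, mul_one] at h2
    rw [Matrix.smul_apply, Matrix.smul_apply, smul_eq_mul, smul_eq_mul, map_mul, Units.val_mk0, h2]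
    by_cases hij : i = j
    · rw [hij, Matrix.one_apply_eq, Matrix.one_apply_eq, map_one]
    · rw [Matrix.one_apply_ne hij, Matrix.one_apply_ne hij, map_zero]
  · rintro ⟨a, ha⟩
    refine ⟨Units.map (ι : F₀ →* F) a, ?_⟩
    rw [gspMap_coe, ha]
    ext i j
    rw [Matrix.map_apply, Matrix.smul_apply, Matrix.smul_apply, smul_eq_mul, smul_eq_mul, map_mul]
    by_cases hij : i = j
    · rw [hij, Matrix.one_apply_eq, Matrix.one_apply_eq, map_one]
      rfl
    · rw [Matrix.one_apply_ne hij, Matrix.one_apply_ne hij, map_zero]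
      rfl

theorem gspF_gspMap (σ : RingAut F) (ι : F₀ →+* F) (hι : ∀ b, σ (ι b) = ι b)
    (g : Cfsg.GSp m F₀) : gspF σ (gspMap ι g) = gspMap ι g := by
  apply Subtype.ext
  apply Units.ext
  ext i j
  exact hι _

theorem PsiF_mem_centralizer (σ : RingAut F) (ι : F₀ →+* F) (hι : ∀ b, σ (ι b) = ι b)
    (g : Cfsg.GSp m F₀) :
    PsiF (m := m) ι g ∈ Subgroup.centralizer {fieldAHom (m := m) σ} := by
  rw [Subgroup.mem_centralizer_iff]
  intro y hy
  rw [Set.mem_singleton_iff] at hy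
  subst hy
  rw [PsiF_apply, field_mul_conj, gspF_gspMap σ ι hι]

/-- **the centralizer of a standard field automorphism in the inner-diagonal group** -/
theorem range_PsiF (hm : 2 ≤ m) (σ : RingAut F) (r : ℕ) (hσ : orderOf σ = r) (hr : 0 < r)
    (ι : F₀ →+* F) (hι : ∀ a : F, σ a = a ↔ a ∈ Set.range ι) :
    (PsiF (m := m) ι).range =
      (conjAHom (m := m) (F := F)).range ⊓ Subgroup.centralizer {fieldAHom (m := m) σ} := by
  have hι' : ∀ b, σ (ι b) = ι b := fun b => (hι _).2 ⟨b, rfl⟩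
  apply le_antisymm
  · rintro _ ⟨g, rfl⟩
    exact ⟨⟨_, rfl⟩, PsiF_mem_centralizer σ ι hι' g⟩
  · rintro d ⟨⟨g, rfl⟩, hc⟩
    have hc : conjAHom g ∈ Subgroup.centralizer {fieldAHom (m := m) σ} := hc
    rw [Subgroup.mem_centralizer_iff] at hc
    have h1 := hc _ rfl
    rw [field_mul_conj] at h1
    have h2 : conjAHom (gspF σ g) = conjAHom g := mul_right_cancel h1
    have h3 : g⁻¹ * gspF σ g ∈ (conjAHom (m := m) (F := F)).ker := by
      rw [MonoidHom.mem_ker, map_mul, map_inv, h2, inv_mul_cancel]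
    rw [ker_conjAHom hm, Subgroup.mem_subgroupOf, Cfsg.Geo.mem_scalars_iff] at h3
    obtain ⟨lam, hlam⟩ := h3
    set G : Matrix (Fin m ⊕ Fin m) (Fin m ⊕ Fin m) F :=
      ((g : GL (Fin m ⊕ Fin m) F) : Matrix (Fin m ⊕ Fin m) (Fin m ⊕ Fin m) F) with hG
    have hGσ : G.map σ = (lam : F) • G := by
      have h4 : (((gspF σ g : Cfsg.GSp m F) : GL (Fin m ⊕ Fin m) F) :
          Matrix (Fin m ⊕ Fin m) (Fin m ⊕ Fin m) F) =
          G * (((g⁻¹ * gspF σ g : Cfsg.GSp m F) : GL (Fin m ⊕ Fin m) F) :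
            Matrix (Fin m ⊕ Fin m) (Fin m ⊕ Fin m) F) := by
        rw [hG, ← Units.val_mul, ← Subgroup.coe_mul, mul_inv_cancel_left]
      rw [hlam, gspF_coe, Matrix.mul_smul, Matrix.mul_one] at h4
      exact h4
    have hGu : IsUnit G := ⟨(g : GL (Fin m ⊕ Fin m) F), rfl⟩
    obtain ⟨a, b, hab⟩ : ∃ a b, G a b ≠ 0 := by
      by_contra hcon
      push Not at hcon
      have h0 : G = 0 := by
        ext a b
        exact hcon a b
      rw [h0] at hGu
      have : Nontrivial (Matrix (Fin m ⊕ Fin m) (Fin m ⊕ Fin m) F) := by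
        have : Nonempty (Fin m ⊕ Fin m) := ⟨Sum.inl ⟨0, by omega⟩⟩
        infer_instance
      exact not_isUnit_zero hGu
    have hnrm : nrm σ (lam : F) r = 1 := by
      have h6 := iterate_entryK σ G _ hGσ r a b
      rw [← hσ, pow_orderOf_eq_one, hσ] at h6
      have h7 : G a b * 1 = G a b * nrm σ (lam : F) r := by
        rw [mul_one]
        exact h6
      exact (mul_left_cancel₀ hab h7).symm
    obtain ⟨ν, hν0, hν⟩ := exists_fixed_of_nrm_eq_one σ r hσ hr (lam : F) hnrm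
    have hfix : ∀ a b, σ (ν * G a b) = ν * G a b := by
      intro a b
      have h5 := congrFun (congrFun hGσ a) b
      rw [Matrix.map_apply, Matrix.smul_apply, smul_eq_mul] at h5
      rw [map_mul, h5]
      calc σ ν * ((lam : F) * G a b) = ((lam : F) * σ ν) * G a b := by ring
        _ = _ := by rw [hν]
    choose g₀ hg₀ using fun a b => (hι _).1 (hfix a b)
    have hmap : (Matrix.of g₀ : Matrix (Fin m ⊕ Fin m) (Fin m ⊕ Fin m) F₀).map ι = ν • G := by
      ext a b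
      rw [Matrix.map_apply, Matrix.of_apply, hg₀, Matrix.smul_apply, smul_eq_mul]
    have hdet : (Matrix.of g₀ : Matrix (Fin m ⊕ Fin m) (Fin m ⊕ Fin m) F₀).det ≠ 0 := by
      intro h0
      have h8 : ((Matrix.of g₀ : Matrix (Fin m ⊕ Fin m) (Fin m ⊕ Fin m) F₀).map ι).det = 0 := by
        have := (RingHom.map_det ι (Matrix.of g₀ : Matrix (Fin m ⊕ Fin m) (Fin m ⊕ Fin m) F₀)).symm
        rw [RingHom.mapMatrix_apply] at this
        rw [this, h0, map_zero]
      rw [hmap, Matrix.det_smul] at h8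
      have h9 : G.det ≠ 0 := ((Matrix.isUnit_iff_isUnit_det _).1 hGu).ne_zero
      exact (mul_ne_zero (pow_ne_zero _ hν0) h9) h8
    -- the Gram matrix
    have hgram : ((Matrix.of g₀ : Matrix (Fin m ⊕ Fin m) (Fin m ⊕ Fin m) F₀)ᵀ * J (Fin m) F₀ *
        Matrix.of g₀).map ι = (ν ^ 2 * (mult g : F)) • J (Fin m) F := by
      rw [Matrix.map_mul, Matrix.map_mul, map_J', Matrix.transpose_map, hmap,
        Matrix.transpose_smul, Matrix.smul_mul, Matrix.smul_mul, Matrix.mul_smul, smul_smul,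
        hG, gram_eq g, smul_smul]
      congr 1
      ring
    set c₀ : F₀ := ((Matrix.of g₀ : Matrix (Fin m ⊕ Fin m) (Fin m ⊕ Fin m) F₀)ᵀ * J (Fin m) F₀ *
        Matrix.of g₀) (Sum.inr ⟨0, by omega⟩) (Sum.inl ⟨0, by omega⟩) with hc₀
    have hιc₀ : ι c₀ = ν ^ 2 * (mult g : F) := by
      have := congrFun (congrFun hgram (Sum.inr ⟨0, by omega⟩)) (Sum.inl ⟨0, by omega⟩)
      rw [Matrix.map_apply, ← hc₀] at this
      rw [this]
      simp [J]
    have hc₀0 : c₀ ≠ 0 := by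
      intro h0
      rw [h0, map_zero] at hιc₀
      exact (mul_ne_zero (pow_ne_zero _ hν0) (mult g).ne_zero) hιc₀.symm
    have hgram₀ : (Matrix.of g₀ : Matrix (Fin m ⊕ Fin m) (Fin m ⊕ Fin m) F₀)ᵀ * J (Fin m) F₀ *
        Matrix.of g₀ = c₀ • J (Fin m) F₀ := by
      apply Matrix.map_injective ι.injective
      show ((Matrix.of g₀ : Matrix (Fin m ⊕ Fin m) (Fin m ⊕ Fin m) F₀)ᵀ * J (Fin m) F₀ *
        Matrix.of g₀).map ι = (c₀ • J (Fin m) F₀).map ι
      rw [hgram, map_smul_J, hιc₀]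
    let G₀ : GL (Fin m ⊕ Fin m) F₀ := Matrix.GeneralLinearGroup.mkOfDetNeZero (Matrix.of g₀) hdet
    have hG₀ : G₀ ∈ Cfsg.GSp m F₀ := (mem_GSp_iff G₀).2 ⟨Units.mk0 c₀ hc₀0, hgram₀⟩
    refine ⟨⟨G₀, hG₀⟩, ?_⟩
    rw [PsiF_apply]
    have hgz : gspMap ι ⟨G₀, hG₀⟩ = scalarG (Units.mk0 ν hν0) * g := by
      apply Subtype.ext
      apply Units.ext
      rw [gspMap_coe]
      show (Matrix.of g₀ : Matrix (Fin m ⊕ Fin m) (Fin m ⊕ Fin m) F₀).map ι =
        (((scalarG (Units.mk0 ν hν0) : Cfsg.GSp m F) : GL (Fin m ⊕ Fin m) F) :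
          Matrix (Fin m ⊕ Fin m) (Fin m ⊕ Fin m) F) * G
      rw [hmap, scalarG_coe, Matrix.smul_mul, Matrix.one_mul]
      rfl
    rw [hgz, map_mul, MonoidHom.mem_ker.1 (scalarG_mem_ker hm _), one_mul]

/-- the centralizer is a projective conformal symplectic group over the fixed field -/
theorem nonempty_centralizer_equiv (hm : 2 ≤ m) (σ : RingAut F) (r : ℕ) (hσ : orderOf σ = r)
    (hr : 0 < r) (ι : F₀ →+* F) (hι : ∀ a : F, σ a = a ↔ a ∈ Set.range ι) :
    Nonempty (↥((conjAHom (m := m) (F := F)).range ⊓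
      Subgroup.centralizer {fieldAHom (m := m) σ}) ≃* Cfsg.PGSp m F₀) := by
  rw [← range_PsiF hm σ r hσ hr ι hι]
  have e1 := QuotientGroup.quotientKerEquivRange (PsiF (m := m) ι)
  have e2 : Cfsg.GSp m F₀ ⧸ (PsiF (m := m) ι).ker ≃* Cfsg.PGSp m F₀ :=
    QuotientGroup.quotientMulEquivOfEq (ker_PsiF hm ι)
  exact ⟨e1.symm.trans e2⟩

end cent


/-! ### splitting of the class -/

section count

variable {F₀ : Type*} [Field F₀]

theorem mult_eq_of_gram (hm : 1 ≤ m) (g : Cfsg.GSp m F) (c : F)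
    (h : ((g : GL (Fin m ⊕ Fin m) F) : Matrix (Fin m ⊕ Fin m) (Fin m ⊕ Fin m) F)ᵀ * J (Fin m) F *
      ((g : GL (Fin m ⊕ Fin m) F) : Matrix (Fin m ⊕ Fin m) (Fin m ⊕ Fin m) F) = c • J (Fin m) F) :
    (mult g : F) = c := by
  apply mult_unique hm
  intro u v
  rw [sympForm_mulVec_mulVec, h, Matrix.smul_mulVec, dotProduct_smul, smul_eq_mul]
  rfl

/-- a diagonal similitude with prescribed multiplier -/
noncomputable def dsimGL (c : Fˣ) : GL (Fin m ⊕ Fin m) F :=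
  ⟨fromBlocks ((c : F) • 1) 0 0 1, fromBlocks ((c : F)⁻¹ • 1) 0 0 1, by
    rw [fromBlocks_multiply]
    simp [smul_smul], by
    rw [fromBlocks_multiply]
    simp [smul_smul]⟩

theorem dsimGL_gram (c : Fˣ) :
    ((dsimGL c : GL (Fin m ⊕ Fin m) F) : Matrix (Fin m ⊕ Fin m) (Fin m ⊕ Fin m) F)ᵀ * J (Fin m) F *
      ((dsimGL c : GL (Fin m ⊕ Fin m) F) : Matrix (Fin m ⊕ Fin m) (Fin m ⊕ Fin m) F) =
      (c : F) • J (Fin m) F := by
  show (fromBlocks ((c : F) • (1 : Matrix (Fin m) (Fin m) F)) 0 0 1)ᵀ * J (Fin m) F *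
    fromBlocks ((c : F) • (1 : Matrix (Fin m) (Fin m) F)) 0 0 1 = _
  unfold J
  rw [fromBlocks_transpose, fromBlocks_multiply, fromBlocks_multiply, fromBlocks_smul]
  simp

noncomputable def dsimG (c : Fˣ) : Cfsg.GSp m F :=
  ⟨dsimGL c, (mem_GSp_iff _).2 ⟨c, dsimGL_gram c⟩⟩

theorem mult_dsimG (hm : 1 ≤ m) (c : Fˣ) : mult (dsimG c : Cfsg.GSp m F) = c :=
  Units.ext (mult_eq_of_gram hm _ _ (dsimGL_gram c))

theorem multHom_surjective (hm : 1 ≤ m) :
    Function.Surjective (multHom (m := m) (F := F) hm) :=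
  fun c => ⟨dsimG c, mult_dsimG hm c⟩

theorem ker_le_comap_mult (hm : 2 ≤ m) (S : Subgroup Fˣ)
    (hS : (powMonoidHom 2 : Fˣ →* Fˣ).range ≤ S) :
    (conjAHom (m := m) (F := F)).ker ≤ S.comap (multHom (by omega : 1 ≤ m)) := by
  intro g hg
  rw [ker_conjAHom hm, Subgroup.mem_subgroupOf, Cfsg.Geo.mem_scalars_iff] at hg
  obtain ⟨a, ha⟩ := hg
  have hga : g = scalarG a := by
    apply Subtype.ext
    apply Units.ext
    rw [ha, scalarG_coe]
  rw [Subgroup.mem_comap, multHom_apply, hga, mult_scalarG (by omega)]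
  apply hS
  exact ⟨a, by show a ^ 2 = a * a; rw [pow_two]⟩

/-- the index of the subgroup of `Aut(PSp)` induced by the matrices with multiplier in a
subgroup containing the squares -/
theorem relIndex_map_comap_mult (hm : 2 ≤ m) (S : Subgroup Fˣ)
    (hS : (powMonoidHom 2 : Fˣ →* Fˣ).range ≤ S) :
    ((S.comap (multHom (m := m) (F := F) (by omega : 1 ≤ m))).map conjAHom).relIndex
      (conjAHom (m := m) (F := F)).range = S.index := by
  rw [← Subgroup.index_comap, Subgroup.comap_map_eq, sup_eq_left.2 (ker_le_comap_mult hm S hS)]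
  exact Subgroup.index_comap_of_surjective _ (multHom_surjective _)

theorem mem_map_comap_mult_iff (hm : 2 ≤ m) (σ : RingAut F) (r : ℕ) (hσ : orderOf σ = r)
    (hr : 0 < r) (ι : F₀ →+* F) (hι : ∀ a : F, σ a = a ↔ a ∈ Set.range ι)
    (x : MulAut (Cfsg.PSp m F)) :
    x ∈ (((powMonoidHom 2 : Fˣ →* Fˣ).range ⊔ (Units.map (ι : F₀ →* F)).range).comap
      (multHom (m := m) (F := F) (by omega : 1 ≤ m))).map conjAHom ↔
    ∃ k ∈ Cfsg.Inn (Cfsg.PSp m F),
      ∃ c ∈ (conjAHom (m := m) (F := F)).range ⊓ Subgroup.centralizer {fieldAHom (m := m) σ},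
        x = k * c := by
  have hm1 : 1 ≤ m := by omega
  rw [← range_PsiF hm σ r hσ hr ι hι]
  constructor
  · rintro ⟨g, hg, rfl⟩
    rw [SetLike.mem_coe, Subgroup.mem_comap] at hg
    obtain ⟨y, ⟨lam, rfl⟩, z, ⟨μ₀, rfl⟩, hyz⟩ := Subgroup.mem_sup.1 hg
    let g₁ : Cfsg.GSp m F := gspMap ι (dsimG μ₀)
    have hmult : mult (g * (scalarG lam * g₁)⁻¹) = 1 := by
      rw [← multHom_apply hm1, map_mul, map_inv, map_mul, multHom_apply, multHom_apply,
        multHom_apply, mult_scalarG hm1, mult_gspMap hm1, mult_dsimG hm1]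
      have h1 : multHom hm1 g = mult g := rfl
      rw [h1] at hyz
      rw [← hyz]
      show _ * (lam * lam * _)⁻¹ = 1
      have : (powMonoidHom 2 : Fˣ →* Fˣ) lam = lam * lam := by
        show lam ^ 2 = _
        rw [pow_two]
      rw [this]
      exact mul_inv_cancel _
    obtain ⟨s, hs⟩ := exists_spG_eq _ hmult
    have hg' : g = spG s * (scalarG lam * g₁) := by
      rw [hs, inv_mul_cancel_right]
    refine ⟨MulAut.conj (pi s), ⟨_, rfl⟩, PsiF ι (dsimG μ₀), ⟨_, rfl⟩, ?_⟩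
    rw [hg', map_mul, map_mul, MonoidHom.mem_ker.1 (scalarG_mem_ker hm lam), one_mul,
      conj_pi_eq_conjA]
    rfl
  · rintro ⟨k, ⟨t, rfl⟩, c, ⟨g₀, rfl⟩, rfl⟩
    obtain ⟨s, rfl⟩ := pi_surjective t
    refine ⟨spG s * gspMap ι g₀, ?_, ?_⟩
    · rw [SetLike.mem_coe, Subgroup.mem_comap, map_mul, multHom_apply, multHom_apply,
        mult_spG hm1, one_mul, mult_gspMap hm1]
      apply Subgroup.mem_sup_right
      exact ⟨mult g₀, rfl⟩
    · rw [map_mul, conj_pi_eq_conjA]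
      rfl

variable [Fintype F] [Fintype F₀]

/-- **the class of a standard field automorphism under the inner-diagonal group splits into
`gcd(2, (q - 1)/(q₀ - 1))` classes under `PSp`** -/
theorem splitClassCount_field (hm : 2 ≤ m) (σ : RingAut F) (r : ℕ) (hσ : orderOf σ = r)
    (hr : 0 < r) (ι : F₀ →+* F) (hι : ∀ a : F, σ a = a ↔ a ∈ Set.range ι) :
    Cfsg.splitClassCount (conjAHom (m := m) (F := F)).range
      (Cfsg.Inn (Cfsg.PSp m F)) (fieldAHom (m := m) σ) =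
      Nat.gcd 2 ((Fintype.card F - 1) / (Fintype.card F₀ - 1)) := by
  rw [splitClassCount_eq _ _ inn_le_range
    (fun h _ k hk => (Cfsg.innNormal _).conj_mem k hk h) _ _
    (mem_map_comap_mult_iff hm σ r hσ hr ι hι),
    relIndex_map_comap_mult hm _ le_sup_left, index_pow_sup_units]

end count


/-! ### arithmetic -/

theorem gcd_two_congr {a b : ℕ} (h : a % 2 = b % 2) : Nat.gcd 2 a = Nat.gcd 2 b := by
  rw [Nat.gcd_rec 2 a, Nat.gcd_rec 2 b, h]

theorem pow_mod_two_of_odd {q : ℕ} (hq : q % 2 = 1) (k : ℕ) : q ^ k % 2 = 1 := by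
  simp [Nat.pow_mod, hq]

theorem pow_mod_two_of_even {q : ℕ} (hq : q % 2 = 0) {k : ℕ} (hk : 1 ≤ k) : q ^ k % 2 = 0 := by
  have hk0 : k ≠ 0 := by omega
  simp [Nat.pow_mod, hq, hk0]

theorem geom_mod_two_of_odd {q : ℕ} (hq : q % 2 = 1) (r : ℕ) :
    (∑ k ∈ Finset.range r, q ^ k) % 2 = r % 2 := by
  rw [Finset.sum_nat_mod]
  rw [Finset.sum_congr rfl (fun k _ => pow_mod_two_of_odd hq k)]
  simp

theorem geom_mod_two_of_even {q : ℕ} (hq : q % 2 = 0) {r : ℕ} (hr : 1 ≤ r) :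
    (∑ k ∈ Finset.range r, q ^ k) % 2 = 1 := by
  obtain ⟨r, rfl⟩ : ∃ s, r = s + 1 := ⟨r - 1, by omega⟩
  rw [Finset.sum_range_succ', pow_zero, Nat.add_mod, Finset.sum_nat_mod]
  rw [Finset.sum_congr rfl (fun k _ => pow_mod_two_of_even hq (by omega : 1 ≤ k + 1))]
  simp

theorem gcd_arith {p f r : ℕ} (hp : p.Prime) (hr : r.Prime) (hf : 1 ≤ f) (hdvd : r ∣ f) :
    Nat.gcd 2 ((p ^ f - 1) / (p ^ (f / r) - 1)) = Nat.gcd (Nat.gcd 2 (p ^ f - 1)) r := by
  obtain ⟨d, rfl⟩ := hdvd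
  have hr0 : 0 < r := hr.pos
  have hd : 1 ≤ d := by
    rcases Nat.eq_zero_or_pos d with h | h
    · rw [h, mul_zero] at hf
      omega
    · exact h
  rw [Nat.mul_div_cancel_left _ hr0, mul_comm r d, pow_mul]
  have hq2 : 2 ≤ p ^ d := le_trans hp.two_le (Nat.le_self_pow (by omega) p)
  rw [← Nat.geomSum_eq hq2 r]
  rcases Nat.mod_two_eq_zero_or_one p with hp2 | hp2
  · -- p even
    have hq : p ^ d % 2 = 0 := pow_mod_two_of_even hp2 hd
    have h1 := geom_mod_two_of_even hq (by omega : 1 ≤ r)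
    have h2 : ((p ^ d) ^ r - 1) % 2 = 1 := by
      have h3 : (p ^ d) ^ r % 2 = 0 := pow_mod_two_of_even hq (by omega)
      have h4 : 1 ≤ (p ^ d) ^ r := Nat.one_le_pow _ _ (by omega)
      omega
    rw [gcd_two_congr (b := 1) (by rw [h1]), gcd_two_congr (a := (p ^ d) ^ r - 1) (b := 1) (by rw [h2])]
    simp
  · have hq : p ^ d % 2 = 1 := pow_mod_two_of_odd hp2 d
    have h1 := geom_mod_two_of_odd hq r
    have h2 : ((p ^ d) ^ r - 1) % 2 = 0 := by
      have h3 : (p ^ d) ^ r % 2 = 1 := pow_mod_two_of_odd hq r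
      omega
    rw [gcd_two_congr h1, gcd_two_congr (a := (p ^ d) ^ r - 1) (b := 0) (by rw [h2])]
    simp

end Cfsg.Agent.Lib.Helper18.PSpAut
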