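import Mathlib
import Cfsg.Agent.Lib.Helper18.PSpFldC
import Cfsg.Agent.Lib.Helper18.PSpAutE
import Cfsg.Agent.Lib.Helper18.PSL2AutOut

/-!
# The order of `PΓSp_{2m}(F)` inside `Aut(PSp_{2m}(F))` (helper18)

`pGammaSp m F` is the subgroup of `Aut(PSp_{2m}(F))` of automorphisms induced by semilinear
similitudes.  We show that the inner-diagonal and the field automorphisms meet trivially and
compute `|PΓSp| = gcd(2, q - 1) · f · |PSp|`.
-/

set_option autoImplicit false
set_option linter.unusedSectionVars false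

namespace Cfsg.Agent.Lib.Helper18.PSpAut

open Matrix Cfsg.Agent.Lib.Helper5 Cfsg.Agent.Lib.Helper14.SpPerfect
  Cfsg.Agent.Lib.Helper14.PSpSimple Cfsg.Agent.Lib.Helper18.FTPG

variable {m : ℕ} {F : Type*} [Field F]

/-- field automorphisms map transvections to transvections -/
theorem fieldS_Tr (σ : F ≃+* F) (v : Fin m ⊕ Fin m → F) (c : F) :
    fieldS σ (Tr v c) = Tr (fun i => σ (v i)) (σ c) := by
  apply Subtype.ext
  rw [fieldS_coe]
  show (Cfsg.sympTransvection m v c).map σ = Cfsg.sympTransvection m (fun i => σ (v i)) (σ c)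
  unfold Cfsg.sympTransvection
  ext i j
  rw [Matrix.map_apply, Matrix.add_apply, Matrix.add_apply, Matrix.smul_apply, Matrix.smul_apply,
    vecMulVec_apply, vecMulVec_apply, map_add, smul_eq_mul, smul_eq_mul, map_mul, map_mul]
  congr 1
  · by_cases h : i = j
    · subst h
      rw [Matrix.one_apply_eq, map_one]
    · rw [Matrix.one_apply_ne h, map_zero]
  · congr 2
    have := congrFun (map_mulVec' σ (J (Fin m) F) v) j
    rw [this]
    congr 2
    exact Matrix.map_J (Fin m) (σ : F →+* F)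

/-- an inner-diagonal automorphism that is a field automorphism is trivial -/
theorem eq_one_of_conjA_eq_fieldA (hm : 2 ≤ m) (g : Cfsg.GSp m F) (σ : RingAut F)
    (h : conjA g = fieldA (m := m) σ) : σ = 1 := by
  have hpar : ∀ v : Fin m ⊕ Fin m → F, v ≠ 0 →
      Par (((g : GL (Fin m ⊕ Fin m) F) : Matrix (Fin m ⊕ Fin m) (Fin m ⊕ Fin m) F) *ᵥ v)
        (fun i => σ (v i)) := by
    intro v hv
    have h1 : conjA g (pi (Tr v 1)) = fieldA σ (pi (Tr v 1)) := by rw [h]
    rw [conjA_pi, conjMat_Tr, fieldA_pi, fieldS_Tr, one_mul] at h1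
    have hgv : ((g : GL (Fin m ⊕ Fin m) F) : Matrix (Fin m ⊕ Fin m) (Fin m ⊕ Fin m) F) *ᵥ v ≠ 0 := by
      intro h0
      apply hv
      have := congrArg (fun w => (((g : GL (Fin m ⊕ Fin m) F)⁻¹ : GL (Fin m ⊕ Fin m) F) :
        Matrix (Fin m ⊕ Fin m) (Fin m ⊕ Fin m) F) *ᵥ w) h0
      simp only [Matrix.mulVec_mulVec, gl_inv_mul, Matrix.one_mulVec, Matrix.mulVec_zero] at this
      exact this
    exact par_of_pi_Tr_eq hm hgv (inv_ne_zero (mult g).ne_zero) h1
  let i0 : Fin m ⊕ Fin m := Sum.inl ⟨0, by omega⟩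
  let i1 : Fin m ⊕ Fin m := Sum.inl ⟨1, by omega⟩
  have h01 : i0 ≠ i1 := by
    intro h
    have := Sum.inl.inj h
    simp [Fin.ext_iff] at this
  set G : Matrix (Fin m ⊕ Fin m) (Fin m ⊕ Fin m) F :=
    ((g : GL (Fin m ⊕ Fin m) F) : Matrix (Fin m ⊕ Fin m) (Fin m ⊕ Fin m) F) with hG
  -- the vectors `e₀ + t e₁`
  let w : F → Fin m ⊕ Fin m → F := fun t => Pi.single i0 1 + t • Pi.single i1 1
  have hw0 : ∀ t, w t i0 = 1 := by
    intro t
    simp [w, Pi.single_eq_of_ne h01]
  have hw1 : ∀ t, w t i1 = t := by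
    intro t
    simp [w, Pi.single_eq_of_ne' h01]
  have hwne : ∀ t, w t ≠ 0 := by
    intro t h0
    have := congrFun h0 i0
    rw [hw0] at this
    exact one_ne_zero this
  have hσw : ∀ t, (fun i => σ (w t i)) = w (σ t) := by
    intro t
    funext i
    simp only [w, Pi.add_apply, Pi.smul_apply, smul_eq_mul, map_add, map_mul]
    by_cases hi0 : i = i0
    · subst hi0
      simp [Pi.single_eq_of_ne h01]
    · by_cases hi1 : i = i1
      · subst hi1
        simp [Pi.single_eq_of_ne' h01]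
      · simp [Pi.single_eq_of_ne hi0, Pi.single_eq_of_ne hi1]
  have he1 : (fun i => σ ((Pi.single i1 1 : Fin m ⊕ Fin m → F) i)) = Pi.single i1 1 := by
    funext i
    by_cases hi1 : i = i1
    · subst hi1
      simp
    · simp [Pi.single_eq_of_ne hi1]
  have he1ne : (Pi.single i1 1 : Fin m ⊕ Fin m → F) ≠ 0 := by
    intro h0
    have := congrFun h0 i1
    simp at this
  have hlin : ∀ t, G *ᵥ w t = G *ᵥ w 0 + t • (G *ᵥ Pi.single i1 1) := by
    intro t
    rw [← Matrix.mulVec_smul, ← Matrix.mulVec_add]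
    congr 1
    funext i
    simp only [w, Pi.add_apply, Pi.smul_apply, smul_eq_mul]
    ring
  -- G (w t) = c_t • w (σ t)
  have hc : ∀ t, ∃ c : F, c ≠ 0 ∧ G *ᵥ w t = c • w (σ t) := by
    intro t
    obtain ⟨c, hc0, hc⟩ := hpar (w t) (hwne t)
    exact ⟨c, hc0, by rw [hc, hσw]⟩
  obtain ⟨a, ha0, ha⟩ := hc 0
  obtain ⟨b, hb0, hb⟩ := hpar _ he1ne
  rw [map_zero] at ha
  rw [he1] at hb
  have key : ∀ t, t * b = a * σ t := by
    intro t
    obtain ⟨d, hd0, hd⟩ := hc t
    rw [hlin t, ha, hb] at hd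
    have e0 := congrFun hd i0
    have e1 := congrFun hd i1
    simp only [Pi.add_apply, Pi.smul_apply, smul_eq_mul, hw0, hw1, Pi.single_eq_same,
      Pi.single_eq_of_ne h01, mul_one, mul_zero, add_zero, zero_add] at e0 e1
    rw [e1, ← e0]
  have hab : b = a := by
    have := key 1
    rw [map_one, one_mul, mul_one] at this
    exact this
  apply RingEquiv.ext
  intro t
  show σ t = t
  have := key t
  rw [hab, mul_comm] at this
  exact (mul_left_cancel₀ ha0 this).symm

/-- the inner-diagonal automorphisms and the field automorphisms meet trivially -/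
theorem range_inf_range (hm : 2 ≤ m) :
    (conjAHom (m := m) (F := F)).range ⊓ (fieldAHom (m := m) (F := F)).range = ⊥ := by
  rw [eq_bot_iff]
  rintro x ⟨⟨g, hg⟩, ⟨σ, hσ⟩⟩
  rw [Subgroup.mem_bot]
  have h : conjA g = fieldA (m := m) σ := by
    rw [← conjAHom_apply, hg, ← hσ, fieldAHom_apply]
  have h1 := eq_one_of_conjA_eq_fieldA hm g σ h
  rw [← hσ, h1, map_one]

/-- `PSp_{2m}(F)` has trivial centre, `m ≥ 2` -/
theorem center_PSp (hm : 2 ≤ m) : Subgroup.center (Cfsg.PSp m F) = ⊥ := by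
  rw [eq_bot_iff]
  intro x hx
  rw [Subgroup.mem_bot]
  obtain ⟨s, rfl⟩ := pi_surjective x
  have h1 : MulAut.conj (pi s) = 1 := by
    ext y
    rw [MulAut.conj_apply, MulAut.one_apply]
    rw [Subgroup.mem_center_iff] at hx
    rw [← hx y, mul_inv_cancel_right]
  rw [conj_pi_eq_conjA, ← MonoidHom.mem_ker, ker_conjAHom hm, Subgroup.mem_subgroupOf,
    Cfsg.Geo.mem_scalars_iff] at h1
  obtain ⟨a, ha⟩ := h1
  rw [spG_coe] at ha
  rw [pi_eq_one_iff, Subgroup.mem_center_iff]
  intro t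
  apply Subtype.ext
  show (t : Matrix (Fin m ⊕ Fin m) (Fin m ⊕ Fin m) F) * (s : Matrix (Fin m ⊕ Fin m) (Fin m ⊕ Fin m) F) =
    (s : Matrix (Fin m ⊕ Fin m) (Fin m ⊕ Fin m) F) * (t : Matrix (Fin m ⊕ Fin m) (Fin m ⊕ Fin m) F)
  rw [ha, Matrix.smul_mul, Matrix.one_mul, Matrix.mul_smul, Matrix.mul_one]

theorem card_inn (hm : 2 ≤ m) :
    Nat.card (Cfsg.Inn (Cfsg.PSp m F)) = Nat.card (Cfsg.PSp m F) := by
  have hinj : Function.Injective (MulAut.conj : Cfsg.PSp m F →* MulAut (Cfsg.PSp m F)) := by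
    rw [injective_iff_map_eq_one]
    intro x hx
    have hc : x ∈ Subgroup.center (Cfsg.PSp m F) := by
      rw [Subgroup.mem_center_iff]
      intro y
      have := congrArg (fun φ : MulAut (Cfsg.PSp m F) => φ y) hx
      simp only [MulAut.conj_apply, MulAut.one_apply] at this
      calc y * x = (x * y * x⁻¹) * x := by rw [this]
        _ = x * y := by rw [inv_mul_cancel_right]
    rw [center_PSp hm] at hc
    exact hc
  exact (Nat.card_congr (MonoidHom.ofInjective hinj).toEquiv).symm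

/-- the inner automorphisms are induced by the similitudes with square multiplier -/
theorem inn_eq_map (hm : 2 ≤ m) :
    Cfsg.Inn (Cfsg.PSp m F) =
      (((powMonoidHom 2 : Fˣ →* Fˣ).range).comap
        (multHom (m := m) (F := F) (by omega : 1 ≤ m))).map conjAHom := by
  apply le_antisymm
  · rintro _ ⟨t, rfl⟩
    obtain ⟨s, rfl⟩ := pi_surjective t
    refine ⟨spG s, ?_, (conj_pi_eq_conjA s).symm⟩
    rw [SetLike.mem_coe, Subgroup.mem_comap, multHom_apply, mult_spG (by omega)]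
    exact one_mem _
  · rintro _ ⟨g, hg, rfl⟩
    rw [SetLike.mem_coe, Subgroup.mem_comap, multHom_apply] at hg
    obtain ⟨a, ha⟩ := hg
    apply conjAHom_mem_inn hm g a
    rw [← ha]
    show a ^ 2 = a * a
    rw [pow_two]

section finite

variable [Fintype F]

/-- the index of the inner automorphisms in the inner-diagonal ones -/
theorem relIndex_inn_range (hm : 2 ≤ m) :
    (Cfsg.Inn (Cfsg.PSp m F)).relIndex (conjAHom (m := m) (F := F)).range =
      Nat.gcd 2 (Fintype.card F - 1) := by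
  rw [inn_eq_map hm, relIndex_map_comap_mult hm _ le_rfl, IsCyclic.index_powMonoidHom_range,
    Nat.card_units, Nat.card_eq_fintype_card, Nat.gcd_comm]

theorem card_eq_card_mul_relIndex {G : Type*} [Group G] {K L : Subgroup G} (h : K ≤ L) :
    Nat.card L = Nat.card K * K.relIndex L := by
  rw [← Subgroup.relIndex_bot_left, ← Subgroup.relIndex_bot_left,
    Subgroup.relIndex_mul_relIndex _ _ _ bot_le h]

/-- the order of the group of inner-diagonal automorphisms -/
theorem card_range_conjAHom (hm : 2 ≤ m) :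
    Nat.card (conjAHom (m := m) (F := F)).range =
      Nat.gcd 2 (Fintype.card F - 1) * Nat.card (Cfsg.PSp m F) := by
  rw [card_eq_card_mul_relIndex (inn_le_range (m := m) (F := F)), relIndex_inn_range hm,
    card_inn hm, mul_comm]

/-- the group `PΓSp_{2m}(F)` of automorphisms induced by semilinear similitudes -/
noncomputable def pGammaSp (m : ℕ) (F : Type*) [Field F] : Subgroup (MulAut (Cfsg.PSp m F)) :=
  (fieldAHom (m := m) (F := F)).range ⊔ (conjAHom (m := m) (F := F)).range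

theorem conjA_mul_fieldA_mem (g : Cfsg.GSp m F) (σ : RingAut F) :
    conjAHom g * fieldAHom σ ∈ pGammaSp m F :=
  Subgroup.mul_mem _ (Subgroup.mem_sup_right ⟨g, rfl⟩) (Subgroup.mem_sup_left ⟨σ, rfl⟩)

theorem mem_pGammaSp_iff (hm : 2 ≤ m) (α : MulAut (Cfsg.PSp m F)) :
    α ∈ pGammaSp m F ↔ ∃ (g : Cfsg.GSp m F) (σ : RingAut F), α = conjAHom g * fieldAHom σ := by
  constructor
  · intro h
    have hn : (conjAHom (m := m) (F := F)).range.Normal := range_normal hm
    unfold pGammaSp at h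
    rw [sup_comm, ← SetLike.mem_coe, Subgroup.normal_mul] at h
    obtain ⟨_, ⟨g, rfl⟩, _, ⟨σ, rfl⟩, rfl⟩ := h
    exact ⟨g, σ, rfl⟩
  · rintro ⟨g, σ, rfl⟩
    exact conjA_mul_fieldA_mem g σ

theorem mem_pGammaSp_iff' (hm : 2 ≤ m) (α : MulAut (Cfsg.PSp m F)) :
    α ∈ pGammaSp m F ↔
      ∃ (g : Cfsg.GSp m F) (σ : F ≃+* F), ∀ x, α x = conjA g (fieldA σ x) := by
  rw [mem_pGammaSp_iff hm]
  constructor
  · rintro ⟨g, σ, rfl⟩
    exact ⟨g, σ, fun x => rfl⟩
  · rintro ⟨g, σ, h⟩
    refine ⟨g, σ, ?_⟩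
    ext x
    exact h x

/-- **the order of `PΓSp_{2m}(F)`** -/
theorem card_pGammaSp (p : ℕ) [Fact p.Prime] {f : ℕ} (hF : Fintype.card F = p ^ f)
    (hm : 2 ≤ m) :
    Nat.card (pGammaSp m F) = Nat.gcd 2 (p ^ f - 1) * f * Nat.card (Cfsg.PSp m F) := by
  have : CharP F p := charP_of_card_eq_prime_pow hF
  have hn : (conjAHom (m := m) (F := F)).range.Normal := range_normal hm
  have h1 : (conjAHom (m := m) (F := F)).range.relIndex (pGammaSp m F) = f := by
    unfold pGammaSp
    rw [Subgroup.relIndex_sup_right, ← Subgroup.inf_relIndex_right, range_inf_range hm,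
      Subgroup.relIndex_bot_left,
      ← Nat.card_congr (MonoidHom.ofInjective (fieldAHom_injective (m := m) (F := F)
        (by omega))).toEquiv]
    exact Cfsg.Agent.Lib.Helper18.PSL2Aut.ringAut_card p hF
  rw [card_eq_card_mul_relIndex (K := (conjAHom (m := m) (F := F)).range)
    (L := pGammaSp m F) le_sup_right, h1, card_range_conjAHom hm, hF]
  ring

/-- if every automorphism is induced by a semilinear similitude -/
theorem card_aut_of_top (p : ℕ) [Fact p.Prime] {f : ℕ} (hF : Fintype.card F = p ^ f)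
    (hm : 2 ≤ m) (h : pGammaSp m F = ⊤) :
    Nat.card (MulAut (Cfsg.PSp m F)) =
      Nat.gcd 2 (p ^ f - 1) * f * Nat.card (Cfsg.PSp m F) := by
  rw [← card_pGammaSp p hF hm, h, Subgroup.card_top]

/-- if `PΓSp` has index two -/
theorem card_aut_of_index_two (p : ℕ) [Fact p.Prime] {f : ℕ} (hF : Fintype.card F = p ^ f)
    (hm : 2 ≤ m) (h : (pGammaSp m F).index = 2) :
    Nat.card (MulAut (Cfsg.PSp m F)) =
      2 * Nat.gcd 2 (p ^ f - 1) * f * Nat.card (Cfsg.PSp m F) := by
  rw [← Subgroup.card_mul_index (pGammaSp m F), h, card_pGammaSp p hF hm]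
  ring

end finite

/-- a subgroup missing `γ` such that every element or its left translate by `γ` lies in it has
index two -/
theorem index_eq_two_of_left {G : Type*} [Group G] (P : Subgroup G) (γ : G) (hγ : γ ∉ P)
    (hall : ∀ α, α ∈ P ∨ γ * α ∈ P) : P.index = 2 := by
  rw [Subgroup.index_eq_two_iff]
  refine ⟨γ⁻¹, fun b => ?_⟩
  by_cases hb : b ∈ P
  · refine Or.inr ⟨hb, fun h => hγ ?_⟩
    have := P.mul_mem (P.inv_mem h) hb
    rwa [_root_.mul_inv_rev, inv_inv, inv_mul_cancel_right] at this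
  · refine Or.inl ⟨?_, hb⟩
    rcases hall b⁻¹ with h | h
    · exact absurd (by simpa using P.inv_mem h) hb
    · have := P.inv_mem h
      rwa [_root_.mul_inv_rev, inv_inv] at this

/-- the same with right translates -/
theorem index_eq_two_of_right {G : Type*} [Group G] (P : Subgroup G) (γ : G) (hγ : γ ∉ P)
    (hall : ∀ α, α ∈ P ∨ α * γ ∈ P) : P.index = 2 := by
  rw [Subgroup.index_eq_two_iff]
  refine ⟨γ, fun b => ?_⟩
  by_cases hb : b ∈ P
  · refine Or.inr ⟨hb, fun h => hγ ?_⟩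
    have := P.mul_mem (P.inv_mem hb) h
    rwa [inv_mul_cancel_left] at this
  · exact Or.inl ⟨(hall b).resolve_left hb, hb⟩

end Cfsg.Agent.Lib.Helper18.PSpAut
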