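import Mathlib
import Cfsg.Agent.Lib.Helper18.PSpCntA
import Cfsg.Agent.Lib.Helper18.OrthBalC
import Cfsg.Agent.Lib.Helper18.OrthMinF

/-!
# The subfield subgroup `PSp_{2m}(F₀)` inside `Aut(PSp_{2m}(F))` and its centraliser (helper18)
-/

set_option autoImplicit false
set_option linter.unusedSectionVars false

namespace Cfsg.Agent.Lib.Helper18.PSpAut

open Matrix Cfsg.Agent.Lib.Helper5 Cfsg.Agent.Lib.Helper14.SpPerfect
  Cfsg.Agent.Lib.Helper14.PSpSimple Cfsg.Agent.Lib.Helper18.FTPG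
  Cfsg.Agent.Lib.Helper18.OrthBal Cfsg.Agent.Lib.Helper18.OrthMin

variable {m : ℕ} {F₀ : Type*} {F : Type*} [Field F₀] [Field F]

/-- base change of a transvection -/
theorem map_sympTransvection (ι : F₀ →+* F) (v : Fin m ⊕ Fin m → F₀) (c : F₀) :
    (Cfsg.sympTransvection m v c).map ι =
      Cfsg.sympTransvection m (fun i => ι (v i)) (ι c) := by
  unfold Cfsg.sympTransvection
  ext i j
  rw [Matrix.map_apply, Matrix.add_apply, Matrix.add_apply, Matrix.smul_apply, Matrix.smul_apply,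
    vecMulVec_apply, vecMulVec_apply, map_add, smul_eq_mul, smul_eq_mul, map_mul, map_mul]
  congr 1
  · by_cases h : i = j
    · subst h
      rw [Matrix.one_apply_eq, Matrix.one_apply_eq, map_one]
    · rw [Matrix.one_apply_ne h, Matrix.one_apply_ne h, map_zero]
  · congr 2
    rw [RingHom.map_mulVec, Matrix.map_J]
    rfl

theorem gspMap_spG_Tr (ι : F₀ →+* F) (v : Fin m ⊕ Fin m → F₀) (c : F₀) :
    gspMap ι (spG (Tr v c)) = spG (Tr (fun i => ι (v i)) (ι c)) := by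
  apply Subtype.ext
  apply Units.ext
  rw [gspMap_coe, spG_coe, spG_coe]
  exact map_sympTransvection ι v c

/-- the inner automorphisms of `PSp_{2m}(F₀)` are induced by the symplectic matrices -/
theorem inn_eq_map_spG :
    Cfsg.Inn (Cfsg.PSp m F₀) = ((spG (m := m) (F := F₀)).range).map conjAHom := by
  apply le_antisymm
  · rintro _ ⟨t, rfl⟩
    obtain ⟨s, rfl⟩ := pi_surjective t
    exact ⟨spG s, ⟨s, rfl⟩, (conj_pi_eq_conjA s).symm⟩
  · rintro _ ⟨_, ⟨s, rfl⟩, rfl⟩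
    exact ⟨pi s, conj_pi_eq_conjA s⟩

/-- the subfield subgroup: the image of `Sp_{2m}(F₀)` in `Aut(PSp_{2m}(F))` -/
noncomputable def Lsp (m : ℕ) (ι : F₀ →+* F) : Subgroup (MulAut (Cfsg.PSp m F)) :=
  ((spG (m := m) (F := F₀)).range).map (PsiF ι)

theorem PsiF_spG_mem (ι : F₀ →+* F) (s : symplecticGroup (Fin m) F₀) :
    PsiF ι (spG s) ∈ Lsp m ι :=
  ⟨spG s, ⟨s, rfl⟩, rfl⟩

theorem Lsp_le_range (ι : F₀ →+* F) : Lsp m ι ≤ (PsiF (m := m) ι).range := by
  rintro _ ⟨g, -, rfl⟩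
  exact ⟨g, rfl⟩

theorem Lsp_le_inn (hm : 2 ≤ m) (ι : F₀ →+* F) : Lsp m ι ≤ Cfsg.Inn (Cfsg.PSp m F) := by
  rintro _ ⟨_, ⟨s, rfl⟩, rfl⟩
  rw [PsiF_apply]
  apply conjAHom_mem_inn hm _ 1
  rw [mult_gspMap (by omega), mult_spG (by omega), map_one, mul_one]

/-- the subfield subgroup is normalised by the image of `GSp_{2m}(F₀)` -/
theorem Lsp_normal (hm : 2 ≤ m) (ι : F₀ →+* F) (d : MulAut (Cfsg.PSp m F))
    (hd : d ∈ (PsiF (m := m) ι).range) (l : MulAut (Cfsg.PSp m F)) (hl : l ∈ Lsp m ι) :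
    d * l * d⁻¹ ∈ Lsp m ι := by
  obtain ⟨g, rfl⟩ := hd
  obtain ⟨_, ⟨s, rfl⟩, rfl⟩ := hl
  have h1 : mult (g * spG s * g⁻¹) = 1 := by
    rw [← multHom_apply (by omega : 1 ≤ m), map_mul, map_mul, map_inv, multHom_apply, multHom_apply,
      mult_spG (by omega), mul_one, mul_inv_cancel]
  obtain ⟨s', hs'⟩ := exists_spG_eq _ h1
  refine ⟨spG s', ⟨s', rfl⟩, ?_⟩
  rw [hs', map_mul, map_mul, map_inv]

theorem Lsp_equiv (hm : 2 ≤ m) (ι : F₀ →+* F) : Nonempty (↥(Lsp m ι) ≃* Cfsg.PSp m F₀) := by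
  have hker : (PsiF (m := m) ι).ker = (conjAHom (m := m) (F := F₀)).ker := by
    rw [ker_PsiF hm, ker_conjAHom hm]
  obtain ⟨e1⟩ := nonempty_equiv_of_ker_eq (PsiF (m := m) ι) (conjAHom (m := m) (F := F₀)) hker
    (Lsp m ι) (Cfsg.Inn (Cfsg.PSp m F₀)) (Lsp_le_range ι) inn_le_range
    (fun g => by
      unfold Lsp
      rw [inn_eq_map_spG]
      exact map_mem_map_iff_of_ker_eq _ _ hker _ g)
  have e2 : Cfsg.PSp m F₀ ≃* ↥(Cfsg.Inn (Cfsg.PSp m F₀)) :=
    MonoidHom.ofInjective (conj_injective_of_center (center_PSp hm))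
  exact ⟨e1.trans e2.symm⟩

theorem card_Lsp (hm : 2 ≤ m) (ι : F₀ →+* F) :
    Nat.card ↥(Lsp m ι) = Nat.card (Cfsg.PSp m F₀) := by
  obtain ⟨e1⟩ := Lsp_equiv hm ι
  exact Nat.card_congr e1.toEquiv

/-- a semilinear automorphism commuting with the subfield subgroup: the linear part is scalar
and the field automorphism fixes the subfield -/
theorem semi_of_comm (hm : 2 ≤ m) (ι : F₀ →+* F) (g : Cfsg.GSp m F) (τ : RingAut F)
    (h : ∀ l ∈ Lsp m ι, (conjAHom g * fieldAHom τ) * l = l * (conjAHom g * fieldAHom τ)) :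
    (∀ b, τ (ι b) = ι b) ∧ conjAHom g = 1 := by
  set G : Matrix (Fin m ⊕ Fin m) (Fin m ⊕ Fin m) F :=
    ((g : GL (Fin m ⊕ Fin m) F) : Matrix (Fin m ⊕ Fin m) (Fin m ⊕ Fin m) F) with hG
  -- `G (τ v) ∥ v` for the rational vectors
  have hpar : ∀ v₀ : Fin m ⊕ Fin m → F₀, v₀ ≠ 0 →
      Par (G *ᵥ (fun i => τ (ι (v₀ i)))) (fun i => ι (v₀ i)) := by
    intro v₀ hv₀
    have hl := h _ (PsiF_spG_mem ι (Tr v₀ 1))
    rw [PsiF_apply, gspMap_spG_Tr, ← conj_pi_eq_conjA,
      commute_conj_iff (center_PSp hm)] at hl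
    have hl' : conjA g (fieldA τ (pi (Tr (fun i => ι (v₀ i)) (ι 1)))) =
        pi (Tr (fun i => ι (v₀ i)) (ι 1)) := hl
    rw [fieldA_pi, fieldS_Tr, conjA_pi, conjMat_Tr, map_one, map_one, one_mul] at hl'
    have hv : (fun i => τ (ι (v₀ i))) ≠ 0 := by
      intro h0
      apply hv₀
      funext i
      have := congrFun h0 i
      simp only [Pi.zero_apply, EmbeddingLike.map_eq_zero_iff] at this
      exact (map_eq_zero ι).1 this
    have hgv : G *ᵥ (fun i => τ (ι (v₀ i))) ≠ 0 := by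
      intro h0
      apply hv
      have := congrArg (fun w => (((g : GL (Fin m ⊕ Fin m) F)⁻¹ : GL (Fin m ⊕ Fin m) F) :
        Matrix (Fin m ⊕ Fin m) (Fin m ⊕ Fin m) F) *ᵥ w) h0
      simp only [hG, Matrix.mulVec_mulVec, gl_inv_mul, Matrix.one_mulVec,
        Matrix.mulVec_zero] at this
      exact this
    exact par_of_pi_Tr_eq hm hgv (inv_ne_zero (mult g).ne_zero) hl'
  let i0 : Fin m ⊕ Fin m := Sum.inl ⟨0, by omega⟩
  let i1 : Fin m ⊕ Fin m := Sum.inl ⟨1, by omega⟩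
  have h01 : i0 ≠ i1 := by
    intro h
    have := Sum.inl.inj h
    simp [Fin.ext_iff] at this
  -- the columns of `G`
  have hsingle : ∀ i : Fin m ⊕ Fin m, (fun k => τ (ι ((Pi.single i 1 : Fin m ⊕ Fin m → F₀) k))) =
      (Pi.single i 1 : Fin m ⊕ Fin m → F) := by
    intro i
    funext k
    by_cases hk : k = i
    · subst hk
      simp
    · simp [Pi.single_eq_of_ne hk]
  have hsingle' : ∀ i : Fin m ⊕ Fin m, (fun k => ι ((Pi.single i 1 : Fin m ⊕ Fin m → F₀) k)) =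
      (Pi.single i 1 : Fin m ⊕ Fin m → F) := by
    intro i
    funext k
    by_cases hk : k = i
    · subst hk
      simp
    · simp [Pi.single_eq_of_ne hk]
  have hsne : ∀ i : Fin m ⊕ Fin m, (Pi.single i 1 : Fin m ⊕ Fin m → F₀) ≠ 0 := by
    intro i h0
    have := congrFun h0 i
    simp at this
  have hcol : ∀ i : Fin m ⊕ Fin m, ∃ a : F, a ≠ 0 ∧
      G *ᵥ (Pi.single i 1 : Fin m ⊕ Fin m → F) = a • (Pi.single i 1 : Fin m ⊕ Fin m → F) := by
    intro i
    obtain ⟨a, ha0, ha⟩ := hpar _ (hsne i)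
    rw [hsingle, hsingle'] at ha
    exact ⟨a, ha0, ha⟩
  -- the vectors `e_i + b e_j`
  have hpair : ∀ (i j : Fin m ⊕ Fin m), i ≠ j → ∀ (b : F₀) (a a' : F),
      G *ᵥ (Pi.single i 1 : Fin m ⊕ Fin m → F) = a • (Pi.single i 1 : Fin m ⊕ Fin m → F) →
      G *ᵥ (Pi.single j 1 : Fin m ⊕ Fin m → F) = a' • (Pi.single j 1 : Fin m ⊕ Fin m → F) →
      τ (ι b) * a' = a * ι b := by
    intro i j hij b a a' hi hj
    have hne : (Pi.single i 1 + b • Pi.single j 1 : Fin m ⊕ Fin m → F₀) ≠ 0 := by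
      intro h0
      have := congrFun h0 i
      simp [Pi.single_eq_of_ne hij] at this
    obtain ⟨d, hd0, hd⟩ := hpar _ hne
    have e1 : (fun k => τ (ι ((Pi.single i 1 + b • Pi.single j 1 : Fin m ⊕ Fin m → F₀) k))) =
        (Pi.single i 1 : Fin m ⊕ Fin m → F) + τ (ι b) • (Pi.single j 1 : Fin m ⊕ Fin m → F) := by
      funext k
      have h1 := congrFun (hsingle i) k
      have h2 := congrFun (hsingle j) k
      simp only [Pi.add_apply, Pi.smul_apply, smul_eq_mul, map_add, map_mul] at h1 h2 ⊢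
      rw [h1, h2]
    have e2 : (fun k => ι ((Pi.single i 1 + b • Pi.single j 1 : Fin m ⊕ Fin m → F₀) k)) =
        (Pi.single i 1 : Fin m ⊕ Fin m → F) + ι b • (Pi.single j 1 : Fin m ⊕ Fin m → F) := by
      funext k
      have h1 := congrFun (hsingle' i) k
      have h2 := congrFun (hsingle' j) k
      simp only [Pi.add_apply, Pi.smul_apply, smul_eq_mul, map_add, map_mul] at h1 h2 ⊢
      rw [h1, h2]
    rw [e1, e2, Matrix.mulVec_add, Matrix.mulVec_smul, hi, hj] at hd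
    have ei := congrFun hd i
    have ej := congrFun hd j
    simp only [Pi.add_apply, Pi.smul_apply, smul_eq_mul, Pi.single_eq_same,
      Pi.single_eq_of_ne hij, Pi.single_eq_of_ne' hij, mul_one, mul_zero, add_zero,
      zero_add] at ei ej
    rw [ej, ei]
  obtain ⟨a, ha0, ha⟩ := hcol i0
  have hall : ∀ j : Fin m ⊕ Fin m, G *ᵥ (Pi.single j 1 : Fin m ⊕ Fin m → F) =
      a • (Pi.single j 1 : Fin m ⊕ Fin m → F) := by
    intro j
    by_cases hj : j = i0
    · rw [hj]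
      exact ha
    · obtain ⟨a', -, ha'⟩ := hcol j
      have := hpair i0 j (Ne.symm hj) 1 a a' ha ha'
      rw [map_one, map_one, one_mul, mul_one] at this
      rw [ha', this]
  constructor
  · intro b
    have := hpair i0 i1 h01 b a a ha (hall i1)
    rw [mul_comm] at this
    exact mul_left_cancel₀ ha0 this
  · have hGs : G = a • (1 : Matrix (Fin m ⊕ Fin m) (Fin m ⊕ Fin m) F) := by
      ext i j
      have := congrFun (hall j) i
      rw [Matrix.mulVec_single_one] at this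
      simp only [Pi.smul_apply, smul_eq_mul] at this
      rw [Matrix.smul_apply, smul_eq_mul, Matrix.one_apply]
      show G i j = _
      have h3 : G i j = (G.col j) i := rfl
      rw [h3, this, Pi.single_apply]
    rw [← MonoidHom.mem_ker, ker_conjAHom hm, Subgroup.mem_subgroupOf, Cfsg.Geo.mem_scalars_iff]
    exact ⟨Units.mk0 a ha0, hGs⟩

end Cfsg.Agent.Lib.Helper18.PSpAut
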