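import Mathlib
import Cfsg.Agent.Lib.Helper18.PSpBalA

/-!
# Local balance for a standard field automorphism of `PSp_{2m}(F)` (helper18)
-/

set_option autoImplicit false
set_option linter.unusedSectionVars false

namespace Cfsg.Agent.Lib.Helper18.PSpAut

open Matrix Cfsg.Agent.Lib.Helper5 Cfsg.Agent.Lib.Helper14.SpPerfect
  Cfsg.Agent.Lib.Helper14.PSpSimple Cfsg.Agent.Lib.Helper18.FTPG
  Cfsg.Agent.Lib.Helper18.OrthBal Cfsg.Agent.Lib.Helper18.OrthMin

section balance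

variable {Y : Type*} [Group Y]

/-- **abstract local balance**, variant: `L` need not be simple, but all its nontrivial normal
subgroups have order divisible by `p` -/
theorem core_trivial' [Finite Y] (p : ℕ) [Fact p.Prime] (H C L P : Subgroup Y) (hCH : C ≤ H)
    (hCn : ∀ h ∈ H, ∀ c ∈ C, h * c * h⁻¹ ∈ C) (hLC : L ≤ C)
    (hLn : ∀ c ∈ C, ∀ l ∈ L, c * l * c⁻¹ ∈ L)
    (hLs : ∀ N : Subgroup Y, N ≤ L → (∀ l ∈ L, ∀ n ∈ N, l * n * l⁻¹ ∈ N) → N ≠ ⊥ →
      p ∣ Nat.card ↥N)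
    (hCL : ∀ c ∈ C, (∀ l ∈ L, c * l = l * c) → c = 1)
    (hcent : ∀ x ∈ H, (∀ l ∈ L, x * l = l * x) → x ∈ P) (hP : IsPGroup p ↥P) :
    Cfsg.pPrimeCore p ↥H = ⊥ := by
  have hchar := Cfsg.Agent.Lib.Helper12.pPrimeCore_characteristic (G := ↥H) p
  have hnorm : (Cfsg.pPrimeCore p ↥H).Normal := inferInstance
  have hcop := Cfsg.Agent.Lib.Helper12.pPrimeCore_coprime (X := ↥H) p
  set X : Subgroup Y := (Cfsg.pPrimeCore p ↥H).map H.subtype with hX
  have hXcard : Nat.card ↥X = Nat.card ↥(Cfsg.pPrimeCore p ↥H) :=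
    Subgroup.card_map_of_injective H.subtype_injective
  have hXH : X ≤ H := by
    rintro _ ⟨x, -, rfl⟩
    exact x.2
  have hXn : ∀ h ∈ H, ∀ x ∈ X, h * x * h⁻¹ ∈ X := by
    rintro h hh _ ⟨x, hx, rfl⟩
    exact ⟨⟨h, hh⟩ * x * ⟨h, hh⟩⁻¹, hnorm.conj_mem x hx ⟨h, hh⟩, rfl⟩
  -- `X ∩ L = 1`
  have hXL : ∀ y, y ∈ X → y ∈ L → y = 1 := by
    have hbot : X ⊓ L = ⊥ := by
      by_contra hne
      have h2 : p ∣ Nat.card ↥(X ⊓ L) := by
        apply hLs (X ⊓ L) inf_le_right _ hne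
        intro l hl n hn
        exact ⟨hXn l (hCH (hLC hl)) n hn.1, L.mul_mem (L.mul_mem hl hn.2) (L.inv_mem hl)⟩
      have h1 : Nat.card ↥(X ⊓ L) ∣ Nat.card ↥X := Subgroup.card_dvd_of_le inf_le_left
      have h4 : p ∣ Nat.card ↥X := dvd_trans h2 h1
      rw [hXcard] at h4
      have h3 := Nat.eq_one_of_dvd_coprimes hcop h4 (dvd_refl p)
      exact (Fact.out : p.Prime).one_lt.ne' h3
    intro y hyX hyL
    have : y ∈ X ⊓ L := ⟨hyX, hyL⟩
    rw [hbot] at this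
    exact this
  -- `X ∩ C = 1`
  have hXC : ∀ n, n ∈ X → n ∈ C → n = 1 := by
    intro n hnX hnC
    apply hCL n hnC
    intro l hl
    have h1 : n * l * n⁻¹ * l⁻¹ = 1 := by
      apply hXL
      · have h2 : l * n⁻¹ * l⁻¹ ∈ X := hXn l (hCH (hLC hl)) n⁻¹ (X.inv_mem hnX)
        have h3 : n * l * n⁻¹ * l⁻¹ = n * (l * n⁻¹ * l⁻¹) := by group
        rw [h3]
        exact X.mul_mem hnX h2
      · exact L.mul_mem (hLn n hnC l hl) (L.inv_mem hl)
    calc n * l = (n * l * n⁻¹ * l⁻¹) * (l * n) := by group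
      _ = l * n := by rw [h1, one_mul]
  -- `X` centralises `L`
  have hXP : X ≤ P := by
    intro x hx
    apply hcent x (hXH hx)
    intro l hl
    have h1 : x * l * x⁻¹ * l⁻¹ = 1 := by
      apply hXC
      · have h2 : l * x⁻¹ * l⁻¹ ∈ X := hXn l (hCH (hLC hl)) x⁻¹ (X.inv_mem hx)
        have h3 : x * l * x⁻¹ * l⁻¹ = x * (l * x⁻¹ * l⁻¹) := by group
        rw [h3]
        exact X.mul_mem hx h2
      · exact C.mul_mem (hCn x (hXH hx) l (hLC hl)) (C.inv_mem (hLC hl))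
    calc x * l = (x * l * x⁻¹ * l⁻¹) * (l * x) := by group
      _ = l * x := by rw [h1, one_mul]
  -- conclusion
  have hXp : IsPGroup p ↥X := hP.to_le hXP
  obtain ⟨n, hn⟩ := IsPGroup.iff_card.1 hXp
  have hn0 : n = 0 := by
    by_contra h0
    have h2 : p ∣ Nat.card ↥X := by
      rw [hn]
      exact dvd_pow_self p h0
    rw [hXcard] at h2
    have h3 := Nat.eq_one_of_dvd_coprimes hcop h2 (dvd_refl p)
    exact (Fact.out : p.Prime).one_lt.ne' h3
  rw [hn0, pow_zero, hXcard] at hn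
  exact Subgroup.card_eq_one.1 hn

end balance

section involution

variable {m : ℕ} {F : Type*} [Field F]

/-- the image of `J` in `PSp` -/
def piJ (m : ℕ) (F : Type*) [Field F] : Cfsg.PSp m F :=
  pi ⟨J (Fin m) F, SymplecticGroup.J_mem _ _⟩

theorem piJ_mul_self : piJ m F * piJ m F = 1 := by
  unfold piJ
  rw [← map_mul, pi_eq_one_iff]
  have : (⟨J (Fin m) F, SymplecticGroup.J_mem _ _⟩ : symplecticGroup (Fin m) F) *
      ⟨J (Fin m) F, SymplecticGroup.J_mem _ _⟩ = negOne := by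
    apply Subtype.ext
    show J (Fin m) F * J (Fin m) F = -1
    exact Matrix.J_squared (Fin m) F
  rw [this]
  exact negOne_mem_center

theorem piJ_ne_one (hm : 1 ≤ m) : piJ m F ≠ 1 := by
  intro h
  unfold piJ at h
  rw [← map_one pi, pi_eq_iff hm] at h
  have h0 : ((1 : symplecticGroup (Fin m) F) : Matrix (Fin m ⊕ Fin m) (Fin m ⊕ Fin m) F)
      (Sum.inl ⟨0, hm⟩) (Sum.inl ⟨0, hm⟩) = 1 := by
    show (1 : Matrix (Fin m ⊕ Fin m) (Fin m ⊕ Fin m) F) _ _ = 1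
    rw [Matrix.one_apply_eq]
  have hJ : (J (Fin m) F) (Sum.inl ⟨0, hm⟩) (Sum.inl ⟨0, hm⟩) = 0 := by
    unfold J
    rw [Matrix.fromBlocks_apply₁₁, Matrix.zero_apply]
  rcases h with h | h
  · have := congrFun (congrFun h (Sum.inl ⟨0, hm⟩)) (Sum.inl ⟨0, hm⟩)
    rw [h0] at this
    change (1 : F) = (J (Fin m) F) _ _ at this
    rw [hJ] at this
    exact one_ne_zero this
  · have := congrFun (congrFun h (Sum.inl ⟨0, hm⟩)) (Sum.inl ⟨0, hm⟩)
    rw [h0] at this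
    change (1 : F) = (-(J (Fin m) F)) _ _ at this
    rw [Matrix.neg_apply, hJ, neg_zero] at this
    exact one_ne_zero this

theorem two_dvd_card_PSp [Finite F] (hm : 1 ≤ m) : 2 ∣ Nat.card (Cfsg.PSp m F) := by
  have h1 : orderOf (piJ m F) = 2 := by
    apply orderOf_eq_prime
    · rw [pow_two]
      exact piJ_mul_self
    · exact piJ_ne_one hm
  rw [← h1]
  exact orderOf_dvd_natCard _

end involution

section std

variable {m : ℕ} {F₀ : Type*} {F : Type*} [Field F₀] [Field F]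

theorem C_normal' {K : Type*} [Group K] (φ : MulAut K) (A : Subgroup (MulAut K)) (h : MulAut K)
    (hh : h ∈ A ⊓ Subgroup.centralizer {φ}) (c : MulAut K)
    (hcC : c ∈ Cfsg.Inn K ⊓ Subgroup.centralizer {φ}) :
    h * c * h⁻¹ ∈ Cfsg.Inn K ⊓ Subgroup.centralizer {φ} :=
  ⟨(Cfsg.innNormal _).conj_mem c hcC.1 h,
    Subgroup.mul_mem _ (Subgroup.mul_mem _ hh.2 hcC.2) (Subgroup.inv_mem _ hh.2)⟩

theorem Lsp_ne_bot (hm : 2 ≤ m) (ι : F₀ →+* F) : Lsp m ι ≠ ⊥ := by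
  intro hbot
  obtain ⟨e1⟩ := Lsp_equiv hm ι
  have h1 : (e1.symm (piJ m F₀) : MulAut (Cfsg.PSp m F)) ∈ Lsp m ι := (e1.symm (piJ m F₀)).2
  have h1' : (e1.symm (piJ m F₀) : MulAut (Cfsg.PSp m F)) ∈ (⊥ : Subgroup _) := hbot ▸ h1
  rw [Subgroup.mem_bot] at h1'
  have h2 : e1.symm (piJ m F₀) = 1 := Subtype.ext h1'
  rw [MulEquiv.map_eq_one_iff] at h2
  exact piJ_ne_one (by omega) h2

variable (ι : F₀ →+* F) (σ : RingAut F)

theorem Lsp_le_C (hm : 2 ≤ m) (hι : ∀ b, σ (ι b) = ι b) :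
    Lsp m ι ≤ Cfsg.Inn (Cfsg.PSp m F) ⊓ Subgroup.centralizer {fieldAHom (m := m) σ} := by
  intro l hl
  refine ⟨Lsp_le_inn hm ι hl, ?_⟩
  obtain ⟨g, rfl⟩ := Lsp_le_range ι hl
  exact PsiF_mem_centralizer σ ι hι g

/-- if `p` does not divide the number of fixed points, the `p'`-core of the centraliser is
nontrivial -/
theorem core_std_ne_bot' (hm : 2 ≤ m) (hι : ∀ b, σ (ι b) = ι b) (p : ℕ)
    (A : Subgroup (MulAut (Cfsg.PSp m F))) (hinn : Cfsg.Inn (Cfsg.PSp m F) ≤ A)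
    (hcop : (Nat.card ↥(Cfsg.Inn (Cfsg.PSp m F) ⊓
      Subgroup.centralizer {fieldAHom (m := m) σ})).Coprime p) :
    Cfsg.pPrimeCore p ↥(A ⊓ Subgroup.centralizer {fieldAHom (m := m) σ}) ≠ ⊥ := by
  apply core_ne_bot p (A ⊓ Subgroup.centralizer {fieldAHom (m := m) σ})
    (Cfsg.Inn (Cfsg.PSp m F) ⊓ Subgroup.centralizer {fieldAHom (m := m) σ})
    (inf_le_inf_right _ hinn)
    (fun h hh c hcC => C_normal' _ A h hh c hcC) hcop
  intro hbot
  apply Lsp_ne_bot hm ι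
  rw [eq_bot_iff, ← hbot]
  exact Lsp_le_C ι σ hm hι

/-- a semilinear automorphism centralising the subfield subgroup is a power of the field
automorphism -/
theorem cent_semilinear [Finite F] (hm : 2 ≤ m) (hι : ∀ a : F, σ a = a ↔ a ∈ Set.range ι)
    (g : Cfsg.GSp m F) (τ : RingAut F)
    (h : ∀ l ∈ Lsp m ι, (conjAHom g * fieldAHom τ) * l = l * (conjAHom g * fieldAHom τ)) :
    conjAHom g * fieldAHom τ ∈ Subgroup.zpowers (fieldAHom (m := m) σ) := by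
  obtain ⟨h1, h2⟩ := semi_of_comm hm ι g τ h
  rw [h2, one_mul]
  have h3 : τ ∈ Subgroup.zpowers σ := by
    apply mem_zpowers_of_fix
    intro x hx
    obtain ⟨b, rfl⟩ := (hι x).1 hx
    exact h1 b
  obtain ⟨k, rfl⟩ := Subgroup.mem_zpowers_iff.1 h3
  rw [map_zpow]
  exact Subgroup.zpow_mem _ (Subgroup.mem_zpowers _) k

/-- if `p` divides the number of fixed points, the `p'`-core of the centraliser is trivial -/
theorem core_std_eq_bot' [Fintype F] (hm : 2 ≤ m) (hι : ∀ a : F, σ a = a ↔ a ∈ Set.range ι)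
    (p : ℕ) [Fact p.Prime] (hσ : orderOf σ = p)
    (hcent : ∀ x : MulAut (Cfsg.PSp m F), (∀ l ∈ Lsp m ι, x * l = l * x) →
      x ∈ Subgroup.zpowers (fieldAHom (m := m) σ))
    (hLs : ∀ N : Subgroup (MulAut (Cfsg.PSp m F)), N ≤ Lsp m ι →
      (∀ l ∈ Lsp m ι, ∀ n ∈ N, l * n * l⁻¹ ∈ N) → N ≠ ⊥ → p ∣ Nat.card ↥N)
    (A : Subgroup (MulAut (Cfsg.PSp m F))) (hinn : Cfsg.Inn (Cfsg.PSp m F) ≤ A) :
    Cfsg.pPrimeCore p ↥(A ⊓ Subgroup.centralizer {fieldAHom (m := m) σ}) = ⊥ := by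
  have hp : p.Prime := Fact.out
  have hι' : ∀ b, σ (ι b) = ι b := fun b => (hι _).2 ⟨b, rfl⟩
  have hCD : Cfsg.Inn (Cfsg.PSp m F) ⊓ Subgroup.centralizer {fieldAHom (m := m) σ} ≤
      (PsiF (m := m) ι).range := by
    rw [range_PsiF hm σ p hσ hp.pos ι hι]
    exact inf_le_inf_right _ inn_le_range
  have hP : IsPGroup p ↥(Subgroup.zpowers (fieldAHom (m := m) σ)) := by
    apply IsPGroup.of_card (n := 1)
    rw [Nat.card_zpowers, orderOf_fieldAHom (by omega), hσ, pow_one]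
  have : Finite (MulAut (Cfsg.PSp m F)) := by
    have : Finite (Cfsg.PSp m F) := inferInstance
    exact Finite.of_injective (fun e : MulAut (Cfsg.PSp m F) => (e : Cfsg.PSp m F → Cfsg.PSp m F))
      (fun a b h => MulEquiv.ext (congrFun h))
  exact core_trivial' p (A ⊓ Subgroup.centralizer {fieldAHom (m := m) σ})
    (Cfsg.Inn (Cfsg.PSp m F) ⊓ Subgroup.centralizer {fieldAHom (m := m) σ}) (Lsp m ι)
    (Subgroup.zpowers (fieldAHom (m := m) σ)) (inf_le_inf_right _ hinn)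
    (fun h hh c hcC => C_normal' _ A h hh c hcC) (Lsp_le_C ι σ hm hι')
    (fun c hcC l hl => Lsp_normal hm ι c (hCD hcC) l hl) hLs
    (fun c hcC hx => by
      obtain ⟨g, rfl⟩ := inn_le_range hcC.1
      have h1 : ∀ l ∈ Lsp m ι, (conjAHom g * fieldAHom (1 : RingAut F)) * l =
          l * (conjAHom g * fieldAHom (1 : RingAut F)) := by
        intro l hl
        rw [map_one, mul_one]
        exact hx l hl
      exact (semi_of_comm hm ι g 1 h1).2)
    (fun x _ hx => hcent x hx) hP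

end std

end Cfsg.Agent.Lib.Helper18.PSpAut
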