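import Mathlib
import Cfsg.Agent.Lib.Helper18.PSpBalB
import Cfsg.Agent.Lib.Helper18.OrthBalF
import Cfsg.Agent.S0270
import Cfsg.Agent.S0247

/-!
# Local balance for automorphisms of prime order of `PSp_{2m}(F)` outside `Inndiag` (helper18)
-/

set_option autoImplicit false
set_option linter.unusedSectionVars false

namespace Cfsg.Agent.Lib.Helper18.PSpAut

open Matrix Cfsg.Agent.Lib.Helper5 Cfsg.Agent.Lib.Helper14.SpPerfect
  Cfsg.Agent.Lib.Helper14.PSpSimple Cfsg.Agent.Lib.Helper18.FTPG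
  Cfsg.Agent.Lib.Helper18.OrthBal Cfsg.Agent.Lib.Helper18.OrthMin
  Cfsg.Agent.Lib.Helper18.OrthFld

section normalsub

variable {Y : Type*} [Group Y]

/-- nontrivial normal subgroups of a simple group of order divisible by `p` -/
theorem hLs_of_simple (L : Subgroup Y) (hs : IsSimpleGroup ↥L) (p : ℕ) (hp : p ∣ Nat.card ↥L)
    (N : Subgroup Y) (hNL : N ≤ L) (hn : ∀ l ∈ L, ∀ n ∈ N, l * n * l⁻¹ ∈ N) (hN : N ≠ ⊥) :
    p ∣ Nat.card ↥N := by
  have hMn : (N.subgroupOf L).Normal := by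
    constructor
    intro n hn' g
    rw [Subgroup.mem_subgroupOf] at hn' ⊢
    exact hn g.1 g.2 n.1 hn'
  rcases hMn.eq_bot_or_eq_top with h | h
  · exfalso
    apply hN
    rw [Subgroup.subgroupOf_eq_bot] at h
    rw [eq_bot_iff]
    intro y hy
    exact h.le_bot ⟨hy, hNL hy⟩
  · rw [Subgroup.subgroupOf_eq_top] at h
    rw [le_antisymm hNL h]
    exact hp

/-- nontrivial normal subgroups of a group isomorphic to `S₆` have order divisible by `360` -/
theorem hLs_of_perm (L : Subgroup Y) (e : ↥L ≃* Equiv.Perm (Fin 6))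
    (N : Subgroup Y) (hNL : N ≤ L) (hn : ∀ l ∈ L, ∀ n ∈ N, l * n * l⁻¹ ∈ N) (hN : N ≠ ⊥) :
    360 ∣ Nat.card ↥N := by
  have hMn : (N.subgroupOf L).Normal := by
    constructor
    intro n hn' g
    rw [Subgroup.mem_subgroupOf] at hn' ⊢
    exact hn g.1 g.2 n.1 hn'
  set M : Subgroup (Equiv.Perm (Fin 6)) := (N.subgroupOf L).map e.toMonoidHom with hM
  have hMnorm : M.Normal := Subgroup.Normal.map hMn e.toMonoidHom e.surjective
  have hcardM : Nat.card ↥M = Nat.card ↥N := by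
    rw [hM, Subgroup.card_map_of_injective e.injective]
    exact Nat.card_congr (Subgroup.subgroupOfEquivOfLe hNL).toEquiv
  have hMnt : Nontrivial ↥M := by
    rw [Subgroup.nontrivial_iff_ne_bot]
    intro hbot
    apply hN
    have h1 : Nat.card ↥M = 1 := by rw [hbot]; exact Subgroup.card_bot
    rw [hcardM] at h1
    exact Subgroup.card_eq_one.1 h1
  have hle := Equiv.Perm.alternatingGroup_le_of_normal (α := Fin 6) (by simp) hMnt
  have h1 := Subgroup.card_dvd_of_le hle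
  rw [nat_card_alternatingGroup, hcardM] at h1
  have h2 : (Nat.card (Fin 6)).factorial / 2 = 360 := by
    rw [Nat.card_fin]
    decide
  rwa [h2] at h1

end normalsub

section main

variable {m : ℕ} {F : Type*} [Field F] [Fintype F]

/-- `Sp₄(2) ≅ S₆` for the projective group -/
theorem psp_two_equiv_perm {F₀ : Type*} [Field F₀] [Fintype F₀] (h : Fintype.card F₀ = 2) :
    Nonempty (Cfsg.PSp 2 F₀ ≃* Equiv.Perm (Fin 6)) := by
  obtain ⟨e⟩ := Cfsg.Agent.S0247.result h
  have : Fact (Nat.Prime 2) := ⟨Nat.prime_two⟩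
  have hch : CharP F₀ 2 := charP_of_card_eq_prime h
  have h2 : (2 : F₀) = 0 := by
    have : ((2 : ℕ) : F₀) = 0 := CharP.cast_eq_zero F₀ 2
    exact_mod_cast this
  have e0 : symplecticGroup (Fin 2) F₀ ≃* Cfsg.PSp 2 F₀ :=
    MulEquiv.ofBijective (pi (m := 2) (F := F₀))
      ⟨pi_injective_of_two (by norm_num) h2, pi_surjective⟩
  exact ⟨e0.symm.trans e⟩

/-- the hypothesis on normal subgroups of the subfield subgroup -/
theorem hLs_Lsp {F₀ : Type*} [Field F₀] [Fintype F₀] (hm : 2 ≤ m) (ι : F₀ →+* F) (p : ℕ)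
    (hp : p.Prime) (hpd : p ∣ Nat.gcd 2 (Fintype.card F₀ - 1) * Nat.card (Cfsg.PSp m F₀))
    (N : Subgroup (MulAut (Cfsg.PSp m F))) (hNL : N ≤ Lsp m ι)
    (hn : ∀ l ∈ Lsp m ι, ∀ n ∈ N, l * n * l⁻¹ ∈ N) (hN : N ≠ ⊥) :
    p ∣ Nat.card ↥N := by
  have hpd' : p ∣ Nat.card (Cfsg.PSp m F₀) := by
    rcases hp.dvd_mul.1 hpd with h | h
    · have h2 : p ∣ 2 := dvd_trans h (Nat.gcd_dvd_left _ _)
      rw [(Nat.prime_dvd_prime_iff_eq hp Nat.prime_two).1 h2]
      exact two_dvd_card_PSp (by omega)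
    · exact h
  obtain ⟨e1⟩ := Lsp_equiv hm ι
  by_cases hcase : m = 2 ∧ Fintype.card F₀ = 2
  · obtain ⟨rfl, hc⟩ := hcase
    obtain ⟨e2⟩ := psp_two_equiv_perm hc
    have h360 := hLs_of_perm (Lsp 2 ι) (e1.trans e2) N hNL hn hN
    have h720 : Nat.card (Cfsg.PSp 2 F₀) = 720 := by
      rw [Nat.card_congr e2.toEquiv, Nat.card_perm, Nat.card_fin]
      decide
    rw [h720] at hpd'
    have hp6 : p ∣ 360 := by
      have h1 : (720 : ℕ) = 2 * 360 := by norm_num
      rw [h1] at hpd'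
      rcases hp.dvd_mul.1 hpd' with h | h
      · rw [(Nat.prime_dvd_prime_iff_eq hp Nat.prime_two).1 h]
        norm_num
      · exact h
    exact dvd_trans hp6 h360
  · have hs : IsSimpleGroup (Cfsg.PSp m F₀) := by
      apply Cfsg.Agent.S0270.result m hm
      intro h2
      have h3 : Fintype.card F₀ ≠ 2 := fun h => hcase ⟨h2, h⟩
      have h4 : 1 < Fintype.card F₀ := Fintype.one_lt_card
      omega
    have hsL : IsSimpleGroup ↥(Lsp m ι) := e1.isSimpleGroup
    apply hLs_of_simple (Lsp m ι) hsL p _ N hNL hn hN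
    rw [Nat.card_congr e1.toEquiv]
    exact hpd'

/-- the order of the centraliser of the standard field automorphism in the inner automorphisms
divides the order of `PGSp(F₀)` -/
theorem card_C_dvd {F₀ : Type*} [Field F₀] [Fintype F₀] (hm : 2 ≤ m) (ι : F₀ →+* F)
    (σ : RingAut F) (r : ℕ) (hσ : orderOf σ = r) (hr : 0 < r)
    (hι : ∀ a : F, σ a = a ↔ a ∈ Set.range ι) :
    Nat.card ↥(Cfsg.Inn (Cfsg.PSp m F) ⊓ Subgroup.centralizer {fieldAHom (m := m) σ}) ∣
      Nat.gcd 2 (Fintype.card F₀ - 1) * Nat.card (Cfsg.PSp m F₀) := by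
  have hCD : Cfsg.Inn (Cfsg.PSp m F) ⊓ Subgroup.centralizer {fieldAHom (m := m) σ} ≤
      (PsiF (m := m) ι).range := by
    rw [range_PsiF hm σ r hσ hr ι hι]
    exact inf_le_inf_right _ inn_le_range
  have hker : (PsiF (m := m) ι).ker = (conjAHom (m := m) (F := F₀)).ker := by
    rw [ker_PsiF hm, ker_conjAHom hm]
  obtain ⟨e1⟩ := nonempty_equiv_of_ker_eq (PsiF (m := m) ι) (conjAHom (m := m) (F := F₀)) hker
    (PsiF (m := m) ι).range (conjAHom (m := m) (F := F₀)).range le_rfl le_rfl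
    (fun g => ⟨fun _ => ⟨g, rfl⟩, fun _ => ⟨g, rfl⟩⟩)
  rw [← card_range_conjAHom hm, ← Nat.card_congr e1.toEquiv]
  exact Subgroup.card_dvd_of_le hCD

/-- **local balance for `PSp_{2m}(F)`**, for a semilinear automorphism `x` of prime order `p`
that is not inner-diagonal, provided every automorphism centralising a subfield subgroup is
semilinear -/
theorem psp_balance_main (hm : 2 ≤ m)
    (A : Subgroup (MulAut (Cfsg.PSp m F))) (hinn : ∀ k : Cfsg.PSp m F, MulAut.conj k ∈ A)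
    {p : ℕ} [Fact p.Prime] (x : MulAut (Cfsg.PSp m F)) (hord : orderOf x = p)
    (hnot : ¬ Cfsg.IsInnerDiagonalAutPSp x) (hx : x ∈ pGammaSp m F)
    (hcentP : ∀ (K₀ : Subfield F) (y : MulAut (Cfsg.PSp m F)),
      (∀ l ∈ Lsp m K₀.subtype, y * l = l * y) → y ∈ pGammaSp m F) :
    Cfsg.pPrimeCore p ↥(A ⊓ Subgroup.centralizer {x}) ≠ ⊥ ↔
      (Cfsg.IsFieldAutClassPSp x ∧
        Nat.Coprime p (Nat.card ↥(MonoidHom.eqLocus x.toMonoidHom
          (MonoidHom.id (Cfsg.PSp m F))))) := by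
  have hp : p.Prime := Fact.out
  obtain ⟨g, τ, rfl⟩ := (mem_pGammaSp_iff hm x).1 hx
  have hτ1 : τ ≠ 1 := by
    intro h1
    apply hnot
    rw [h1, map_one, mul_one]
    exact isInnerDiagonal_conjA g
  have hτp : orderOf τ = p := by
    have h1 : τ ^ p = 1 := by
      have h2 := pow_orderOf_eq_one (conjAHom g * fieldAHom (m := m) τ)
      rw [hord, pow_conj_field] at h2
      have h3 : fieldAHom (m := m) (τ ^ p) ∈ (conjAHom (m := m) (F := F)).range ⊓
          (fieldAHom (m := m) (F := F)).range := by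
        refine ⟨⟨(cocyc τ g p)⁻¹, ?_⟩, ⟨_, rfl⟩⟩
        rw [map_inv, inv_eq_iff_eq_inv, ← mul_eq_one_iff_eq_inv]
        exact h2
      rw [range_inf_range hm, Subgroup.mem_bot] at h3
      exact fieldAHom_injective (m := m) (by omega) (by rw [h3, map_one])
    rcases (Nat.dvd_prime hp).1 (orderOf_dvd_of_pow_eq_one h1) with h3 | h3
    · exact absurd (orderOf_eq_one_iff.1 h3) hτ1
    · exact h3
  have hτrefl : (τ : F ≃+* F) ≠ RingEquiv.refl F := hτ1
  -- conjugate to the standard field automorphism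
  have hpow : (conjAHom g * fieldAHom (m := m) τ) ^ p = 1 := by
    rw [← hord]
    exact pow_orderOf_eq_one _
  obtain ⟨h, hh⟩ := field_coset_conj hm τ p hτp hp.pos g hpow
  set d : MulAut (Cfsg.PSp m F) := conjAHom h with hd
  set φ : MulAut (Cfsg.PSp m F) := fieldAHom (m := m) τ with hφ
  rw [hh]
  have hclass : Cfsg.IsFieldAutClassPSp (d * φ * d⁻¹) := by
    refine ⟨d⁻¹, τ, hτrefl, ?_⟩
    rw [isStdField_iff']
    rw [inv_inv, mul_assoc, mul_assoc, inv_mul_cancel, mul_one, inv_mul_cancel_left]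
  -- the subfield
  have : Finite (RingAut F) := Cfsg.Agent.Lib.Helper18.PSLnFld.finite_ringAut
  let _ : Fintype ↥(Kf τ) := Fintype.ofFinite _
  have he : ∀ a : F, τ a = a ↔ a ∈ Set.range (Kf τ).subtype := by
    intro a
    rw [← Cfsg.Agent.Lib.Helper18.PSLnFld.mem_fixed_iff]
    constructor
    · intro h
      exact ⟨⟨a, h⟩, rfl⟩
    · rintro ⟨b, rfl⟩
      exact b.2
  have he' : ∀ b, τ ((Kf τ).subtype b) = (Kf τ).subtype b := fun b => (he _).2 ⟨b, rfl⟩
  -- transport along conjugation by `d`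
  have hinn'' : Cfsg.Inn (Cfsg.PSp m F) ≤ A.comap (MulAut.conj d).toMonoidHom := by
    rintro _ ⟨k, rfl⟩
    show d * MulAut.conj k * d⁻¹ ∈ A
    rw [conj_conj]
    exact hinn _
  have hcardfix : Nat.card ↥(MonoidHom.eqLocus (d * φ * d⁻¹).toMonoidHom
      (MonoidHom.id (Cfsg.PSp m F))) =
      Nat.card ↥(Cfsg.Inn (Cfsg.PSp m F) ⊓ Subgroup.centralizer {φ}) := by
    rw [card_eqLocus_conj, card_inn_inf_centralizer (center_PSp hm)]
  have hiff := pPrimeCore_eq_bot_iff_of_equiv p (centralizerConjEquiv A d φ)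
  refine ⟨fun hne => ⟨hclass, ?_⟩, fun hcop => ?_⟩
  · by_contra hncop
    have hdvd : p ∣ Nat.card ↥(Cfsg.Inn (Cfsg.PSp m F) ⊓ Subgroup.centralizer {φ}) := by
      rw [← hcardfix]
      exact (Nat.Prime.dvd_iff_not_coprime hp).2 hncop
    apply hne
    rw [← hiff]
    apply core_std_eq_bot' (Kf τ).subtype τ hm he p hτp _ _ _ hinn''
    · intro y hy
      obtain ⟨g', τ', rfl⟩ := (mem_pGammaSp_iff hm y).1 (hcentP (Kf τ) y hy)
      exact cent_semilinear (Kf τ).subtype τ hm he g' τ' hy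
    · exact hLs_Lsp hm (Kf τ).subtype p hp
        (dvd_trans hdvd (card_C_dvd hm (Kf τ).subtype τ p hτp hp.pos he))
  · intro hbot
    rw [← hiff] at hbot
    refine core_std_ne_bot' (Kf τ).subtype τ hm he' p _ hinn'' ?_ hbot
    rw [← hcardfix]
    exact hcop.2.symm

end main

end Cfsg.Agent.Lib.Helper18.PSpAut
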