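import Mathlib
import Cfsg.Agent.Lib.Helper18.PSLnBalC
import Cfsg.Agent.Lib.Helper18.PSpBalC
import Cfsg.Agent.S0249
import Cfsg.Agent.S0250
import Cfsg.Agent.S0251

/-!
# The subfield subgroup of `Aut(PSL_n(F))`: centraliser, order, normal subgroups (helper18)
-/

set_option autoImplicit false
set_option linter.unusedSectionVars false

namespace Cfsg.Agent.Lib.Helper18.PSLnBal

open Matrix Cfsg Cfsg.Agent.Lib.Helper18.PSLnAut Cfsg.Agent.Lib.Helper18.PSLnFld
  Cfsg.Agent.Lib.Helper18.OrthBal Cfsg.Agent.Lib.Helper18.OrthMin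
  Cfsg.Agent.Lib.Helper25 Cfsg.Agent.Lib.Helper25.SLRoot

section cent

variable {n : ℕ} {F₀ : Type*} {F : Type*} [Field F₀] [Field F]

/-- the centraliser of the subfield subgroup in the automorphism group consists of field
automorphisms -/
theorem cent_Lsl [Fintype F] (r : ℕ) [Fact r.Prime] [CharP F r] (hn : 2 ≤ n) (ι : F₀ →+* F)
    (σ : RingAut F) (hι : ∀ a : F, σ a = a ↔ a ∈ Set.range ι)
    (x : MulAut (ProjectiveSpecialLinearGroup (Fin n) F))
    (hx : ∀ l ∈ Lsl n ι, x * l = l * x) : x ∈ Subgroup.zpowers (fieldAHom (n := n) σ) := by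
  have hsemi : ∀ (g : GL (Fin n) F) (τ : F ≃+* F), (∀ y, x y = conjA g (fieldA τ y)) →
      x ∈ Subgroup.zpowers (fieldAHom (n := n) σ) := by
    intro g τ hg
    have hx' : x = conjAHom g * fieldAHom (τ : RingAut F) := by
      ext y
      exact hg y
    rw [hx'] at hx
    obtain ⟨h1, h2⟩ := semi_of_comm hn ι g τ hx
    rw [hx', h2, one_mul]
    have h3 : (τ : RingAut F) ∈ Subgroup.zpowers σ := by
      apply mem_zpowers_of_fix
      intro a ha
      obtain ⟨b, rfl⟩ := (hι a).1 ha
      exact h1 b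
    obtain ⟨k, hk⟩ := Subgroup.mem_zpowers_iff.1 h3
    rw [← hk, map_zpow]
    exact Subgroup.zpow_mem _ (Subgroup.mem_zpowers _) k
  rcases Nat.lt_or_ge n 3 with h3 | h3
  · obtain rfl : n = 2 := by omega
    obtain ⟨g, τ, hg⟩ := aut_decomp_two r x
    exact hsemi g τ hg
  · obtain ⟨g, τ, γ, hγ, hg⟩ := aut_decomp_three r h3 x
    rcases hγ with rfl | rfl
    · exact hsemi g τ hg
    · exfalso
      have hx' : x = conjAHom g * fieldAHom (τ : RingAut F) * itA := by
        ext y
        exact hg y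
      rw [hx'] at hx
      exact graph_not_comm h3 ι g τ hx

theorem Lsl_ne_bot (hn : 2 ≤ n) (ι : F₀ →+* F) : Lsl n ι ≠ ⊥ := by
  intro hbot
  let i0 : Fin n := ⟨0, by omega⟩
  let i1 : Fin n := ⟨1, by omega⟩
  have h01 : i0 ≠ i1 := by
    intro h
    have := congrArg Fin.val h
    simp [i0, i1] at this
  have hsne : ∀ i : Fin n, (Pi.single i 1 : Fin n → F₀) ≠ 0 := by
    intro i h0
    have := congrFun h0 i
    simp at this
  have h0 : (Pi.single i0 1 : Fin n → F₀) ⬝ᵥ (Pi.single i1 1 : Fin n → F₀) = 0 := by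
    rw [single_dotProduct, one_mul, Pi.single_eq_of_ne h01]
  have h' : (fun i => ι ((Pi.single i0 1 : Fin n → F₀) i)) ⬝ᵥ
      (fun i => ι ((Pi.single i1 1 : Fin n → F₀) i)) = 0 := by
    rw [map_dot', h0, map_zero]
  have hl := conj_pi_tvSL_mem ι h0 1 h'
  rw [hbot, Subgroup.mem_bot, map_one] at hl
  have h2 := conj_injective_of_center (center_PSL (F := F) hn) (hl.trans (map_one _).symm)
  rw [pi_eq_one_iff] at h2
  have h3 : pi (tvSL _ _ h' (1 : F)) = pi (tvSL _ _ h' (0 : F)) := by
    rw [(pi_eq_one_iff _).2 h2, tvSL_zero, map_one]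
  have h4 := tvSL_eq_of_pi_eq hn h' h' 1 0 h3
  rw [tvSL_zero, tvSL_eq_one_iff h' (map_ne_zero' ι (hsne i1)) (map_ne_zero' ι (hsne i0))] at h4
  exact one_ne_zero h4

end cent

section order

variable {n : ℕ} {F₀ : Type*} {F : Type*} [Field F₀] [Field F]

theorem orderOf_dvd_card_of_mem {Y : Type*} [Group Y] (L : Subgroup Y) {x : Y} (hx : x ∈ L) :
    orderOf x ∣ Nat.card ↥L := by
  have h1 : orderOf (⟨x, hx⟩ : ↥L) = orderOf x := Subgroup.orderOf_mk x hx
  rw [← h1]
  exact orderOf_dvd_natCard _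

theorem dgHom_commute (i j : Fin n) (a b : F₀ˣ) : Commute (dgHom i a) (dgHom j b) := by
  apply Units.ext
  rw [Units.val_mul, Units.val_mul, dgHom_coe, dgHom_coe, Matrix.diagonal_mul_diagonal,
    Matrix.diagonal_mul_diagonal]
  congr 1
  funext k
  exact mul_comm _ _

/-- an element of prime order `p` in the image of `GL_n(F₀)` forces `p` to divide the order of
the subfield subgroup -/
theorem p_dvd_card_Lsl [Fintype F₀] (hn : 2 ≤ n) (ι : F₀ →+* F) (p : ℕ) (hp : p.Prime)
    (c : MulAut (ProjectiveSpecialLinearGroup (Fin n) F)) (hc : c ∈ (PsiF (n := n) ι).range)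
    (hcp : orderOf c = p) : p ∣ Nat.card ↥(Lsl n ι) := by
  classical
  haveI : Fact p.Prime := ⟨hp⟩
  by_cases hpq : p ∣ Fintype.card F₀ - 1
  · -- an element of order `p` in the multiplicative group
    have hcard : Nat.card F₀ˣ = Fintype.card F₀ - 1 := by
      rw [Nat.card_units, Nat.card_eq_fintype_card]
    obtain ⟨a, ha⟩ := exists_prime_orderOf_dvd_card' p (by rw [hcard]; exact hpq)
    have ha1 : a ≠ 1 := by
      intro h1
      rw [h1, orderOf_one] at ha
      exact hp.one_lt.ne ha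
    have hap : a ^ p = 1 := by rw [← ha]; exact pow_orderOf_eq_one a
    by_cases hcase : n = 2 ∧ p = 2
    · obtain ⟨rfl, rfl⟩ := hcase
      -- the element `w`
      have hdet : (!![0, 1; -1, 0] : Matrix (Fin 2) (Fin 2) F₀).det = 1 := by
        rw [Matrix.det_fin_two_of]
        ring
      set w : SpecialLinearGroup (Fin 2) F₀ := ⟨!![0, 1; -1, 0], hdet⟩ with hw
      have hmem := PsiF_toGL_mem ι w
      have hne : PsiF ι (Matrix.SpecialLinearGroup.toGL w) ≠ 1 := by
        intro h1
        have h2 : Matrix.SpecialLinearGroup.toGL w ∈ (PsiF (n := 2) ι).ker := h1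
        rw [ker_PsiF le_rfl, Matrix.GeneralLinearGroup.mem_center_iff_val_mem_range_scalar] at h2
        obtain ⟨μ, hμ⟩ := h2
        have h3 := congrFun (congrFun hμ 0) 1
        have h4 : ((Matrix.SpecialLinearGroup.toGL w : GL (Fin 2) F₀) :
            Matrix (Fin 2) (Fin 2) F₀) = !![0, 1; -1, 0] := rfl
        rw [h4] at h3
        simp [Matrix.scalar_apply] at h3
      have hsq : PsiF ι (Matrix.SpecialLinearGroup.toGL w) ^ 2 = 1 := by
        rw [← map_pow]
        have h2 : (Matrix.SpecialLinearGroup.toGL w) ^ 2 ∈ (PsiF (n := 2) ι).ker := by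
          rw [ker_PsiF le_rfl, Matrix.GeneralLinearGroup.mem_center_iff_val_mem_range_scalar]
          refine ⟨-1, ?_⟩
          rw [Units.val_pow_eq_pow_val]
          show _ = (!![0, 1; -1, 0] : Matrix (Fin 2) (Fin 2) F₀) ^ 2
          rw [pow_two]
          ext i j
          fin_cases i <;> fin_cases j <;> simp [Matrix.scalar_apply, Matrix.mul_apply]
        exact h2
      have hord : orderOf (PsiF ι (Matrix.SpecialLinearGroup.toGL w)) = 2 :=
        orderOf_eq_prime hsq hne
      have h5 := orderOf_dvd_card_of_mem _ hmem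
      rwa [hord] at h5
    · -- the element `diag(a, a⁻¹, 1, …, 1)`
      let i0 : Fin n := ⟨0, by omega⟩
      let i1 : Fin n := ⟨1, by omega⟩
      have h01 : i0 ≠ i1 := by
        intro h
        have := congrArg Fin.val h
        simp [i0, i1] at this
      set d : GL (Fin n) F₀ := dgHom i0 a * dgHom i1 a⁻¹ with hd
      have hdet : Matrix.GeneralLinearGroup.det d = 1 := by
        rw [hd, map_mul, det_dgHom', det_dgHom', mul_inv_cancel]
      obtain ⟨s, hs⟩ := exists_toGL_eq d hdet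
      have hmem : PsiF ι d ∈ Lsl n ι := by
        rw [← hs]
        exact PsiF_toGL_mem ι s
      have hpow : PsiF ι d ^ p = 1 := by
        rw [← map_pow, hd, (dgHom_commute i0 i1 a a⁻¹).mul_pow, ← map_pow, ← map_pow, inv_pow, hap,
          inv_one, map_one, map_one, one_mul, map_one]
      have hne : PsiF ι d ≠ 1 := by
        intro h1
        have h2 : d ∈ (PsiF (n := n) ι).ker := h1
        rw [ker_PsiF hn, Matrix.GeneralLinearGroup.mem_center_iff_val_mem_range_scalar] at h2
        obtain ⟨μ, hμ⟩ := h2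
        have hdv : (d : Matrix (Fin n) (Fin n) F₀) =
            Matrix.diagonal (fun k => Function.update (fun _ => (1 : F₀)) i0 (a : F₀) k *
              Function.update (fun _ => (1 : F₀)) i1 ((a⁻¹ : F₀ˣ) : F₀) k) := by
          rw [hd, Units.val_mul, dgHom_coe, dgHom_coe, Matrix.diagonal_mul_diagonal]
        rw [hdv] at hμ
        have e0 := congrFun (congrFun hμ i0) i0
        have e1 := congrFun (congrFun hμ i1) i1
        simp only [Matrix.scalar_apply, Matrix.diagonal_apply_eq, Function.update_self,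
          Function.update_of_ne h01, Function.update_of_ne (Ne.symm h01), one_mul, mul_one]
          at e0 e1
        by_cases hn3 : 3 ≤ n
        · let i2 : Fin n := ⟨2, by omega⟩
          have h02 : i2 ≠ i0 := by
            intro h
            have := congrArg Fin.val h
            simp [i0, i2] at this
          have h12 : i2 ≠ i1 := by
            intro h
            have := congrArg Fin.val h
            simp [i1, i2] at this
          have e2 := congrFun (congrFun hμ i2) i2
          simp only [Matrix.scalar_apply, Matrix.diagonal_apply_eq,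
            Function.update_of_ne h02, Function.update_of_ne h12, one_mul] at e2
          apply ha1
          apply Units.ext
          rw [← e0, e2, Units.val_one]
        · have hn2 : n = 2 := by omega
          have hp2 : p ≠ 2 := fun h => hcase ⟨hn2, h⟩
          have h3 : (a : F₀) = ((a⁻¹ : F₀ˣ) : F₀) := by rw [← e0, ← e1]
          have h4 : a = a⁻¹ := Units.ext h3
          have h5 : a ^ 2 = 1 := by
            rw [pow_two]
            nth_rewrite 2 [h4]
            exact mul_inv_cancel a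
          have h6 : orderOf a ∣ 2 := orderOf_dvd_of_pow_eq_one h5
          rw [ha] at h6
          exact hp2 ((Nat.prime_dvd_prime_iff_eq hp Nat.prime_two).1 h6)
      have hord : orderOf (PsiF ι d) = p := orderOf_eq_prime hpow hne
      have h5 := orderOf_dvd_card_of_mem _ hmem
      rwa [hord] at h5
  · -- `c ^ (q₀ - 1)` lies in the subfield subgroup
    obtain ⟨g₀, rfl⟩ := hc
    have hdet : Matrix.GeneralLinearGroup.det (g₀ ^ (Fintype.card F₀ - 1)) = 1 := by
      rw [map_pow]
      apply Units.ext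
      rw [Units.val_pow_eq_pow_val, Units.val_one]
      exact FiniteField.pow_card_sub_one_eq_one _ (Units.ne_zero _)
    obtain ⟨s, hs⟩ := exists_toGL_eq _ hdet
    have hmem : PsiF ι g₀ ^ (Fintype.card F₀ - 1) ∈ Lsl n ι := by
      rw [← map_pow, ← hs]
      exact PsiF_toGL_mem ι s
    have hcop : (orderOf (PsiF (n := n) ι g₀)).Coprime (Fintype.card F₀ - 1) := by
      rw [hcp]
      exact (Nat.Prime.coprime_iff_not_dvd hp).2 hpq
    have hord := Nat.Coprime.orderOf_pow hcop
    rw [hcp] at hord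
    have h5 := orderOf_dvd_card_of_mem _ hmem
    rwa [hord] at h5

end order

section small

variable {Y : Type*} [Group Y]

set_option maxRecDepth 100000 in
theorem s3_dec : ∀ x : Equiv.Perm (Fin 3), x ≠ 1 →
    ∃ g : Equiv.Perm (Fin 3), x * (g * x * g⁻¹) ≠ 1 ∧ (x * (g * x * g⁻¹)) ^ 3 = 1 := by
  decide

set_option maxRecDepth 100000 in
theorem a4_dec : ∀ x : Equiv.Perm (Fin 4), Equiv.Perm.sign x = 1 → x ≠ 1 →
    ∃ g : Equiv.Perm (Fin 4), Equiv.Perm.sign g = 1 ∧
      ((x * (g * x⁻¹ * g⁻¹) ≠ 1 ∧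
        (x * (g * x⁻¹ * g⁻¹)) * (x * (g * x⁻¹ * g⁻¹)) = 1) ∨ x * x = 1) := by
  decide

/-- transport of a normal subgroup of `L` along an isomorphism -/
theorem exists_normal_image {Z : Type*} [Group Z] (L : Subgroup Y) (e : ↥L ≃* Z)
    (N : Subgroup Y) (hNL : N ≤ L) (hn : ∀ l ∈ L, ∀ n ∈ N, l * n * l⁻¹ ∈ N) (hN : N ≠ ⊥) :
    ∃ M : Subgroup Z, M.Normal ∧ Nat.card ↥M = Nat.card ↥N ∧ ∃ x ∈ M, x ≠ 1 := by
  have hMn : (N.subgroupOf L).Normal := by
    constructor
    intro n hn' g
    rw [Subgroup.mem_subgroupOf] at hn' ⊢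
    exact hn g.1 g.2 n.1 hn'
  refine ⟨(N.subgroupOf L).map e.toMonoidHom, Subgroup.Normal.map hMn e.toMonoidHom e.surjective,
    ?_, ?_⟩
  · rw [Subgroup.card_map_of_injective e.injective]
    exact Nat.card_congr (Subgroup.subgroupOfEquivOfLe hNL).toEquiv
  · obtain ⟨y, hy, hy1⟩ : ∃ y ∈ N, y ≠ 1 := by
      by_contra hcon
      push Not at hcon
      apply hN
      rw [eq_bot_iff]
      intro y hy
      exact hcon y hy
    refine ⟨e ⟨y, hNL hy⟩, ⟨⟨y, hNL hy⟩, ?_, rfl⟩, ?_⟩
    · show (⟨y, hNL hy⟩ : ↥L) ∈ N.subgroupOf L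
      rw [Subgroup.mem_subgroupOf]
      exact hy
    · intro h1
      rw [MulEquiv.map_eq_one_iff] at h1
      exact hy1 (congrArg Subtype.val h1)

/-- nontrivial normal subgroups of a group isomorphic to `S₃` have order divisible by `3` -/
theorem hLs_of_S3 (L : Subgroup Y) (e : ↥L ≃* Equiv.Perm (Fin 3))
    (N : Subgroup Y) (hNL : N ≤ L) (hn : ∀ l ∈ L, ∀ n ∈ N, l * n * l⁻¹ ∈ N) (hN : N ≠ ⊥) :
    3 ∣ Nat.card ↥N := by
  obtain ⟨M, hMn, hcard, x, hxM, hx1⟩ := exists_normal_image L e N hNL hn hN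
  obtain ⟨g, hy1, hy3⟩ := s3_dec x hx1
  have hyM : x * (g * x * g⁻¹) ∈ M := M.mul_mem hxM (hMn.conj_mem x hxM g)
  haveI : Fact (Nat.Prime 3) := ⟨Nat.prime_three⟩
  have hord : orderOf (x * (g * x * g⁻¹)) = 3 := orderOf_eq_prime hy3 hy1
  have h5 := orderOf_dvd_card_of_mem M hyM
  rwa [hord, hcard] at h5

/-- nontrivial normal subgroups of a group isomorphic to `A₄` have even order -/
theorem hLs_of_A4 (L : Subgroup Y) (e : ↥L ≃* alternatingGroup (Fin 4))
    (N : Subgroup Y) (hNL : N ≤ L) (hn : ∀ l ∈ L, ∀ n ∈ N, l * n * l⁻¹ ∈ N) (hN : N ≠ ⊥) :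
    2 ∣ Nat.card ↥N := by
  obtain ⟨M, hMn, hcard, x, hxM, hx1⟩ := exists_normal_image L e N hNL hn hN
  have hx1' : (x : Equiv.Perm (Fin 4)) ≠ 1 := fun h => hx1 (Subtype.ext h)
  obtain ⟨g, hg, hy⟩ := a4_dec x.1 (Equiv.Perm.mem_alternatingGroup.1 x.2) hx1'
  haveI : Fact (Nat.Prime 2) := ⟨Nat.prime_two⟩
  set g' : alternatingGroup (Fin 4) := ⟨g, Equiv.Perm.mem_alternatingGroup.2 hg⟩ with hg'
  rcases hy with ⟨hy1, hy2⟩ | hxx
  · have hyM : x * (g' * x⁻¹ * g'⁻¹) ∈ M :=
      M.mul_mem hxM (hMn.conj_mem x⁻¹ (M.inv_mem hxM) g')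
    have hne : x * (g' * x⁻¹ * g'⁻¹) ≠ 1 := by
      intro h
      apply hy1
      have := congrArg Subtype.val h
      exact this
    have hsq : (x * (g' * x⁻¹ * g'⁻¹)) ^ 2 = 1 := by
      rw [pow_two]
      apply Subtype.ext
      exact hy2
    have hord : orderOf (x * (g' * x⁻¹ * g'⁻¹)) = 2 := orderOf_eq_prime hsq hne
    have h5 := orderOf_dvd_card_of_mem M hyM
    rwa [hord, hcard] at h5
  · have hsq : x ^ 2 = 1 := by
      rw [pow_two]
      apply Subtype.ext
      exact hxx
    have hord : orderOf x = 2 := orderOf_eq_prime hsq hx1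
    have h5 := orderOf_dvd_card_of_mem M hxM
    rwa [hord, hcard] at h5

end small

end Cfsg.Agent.Lib.Helper18.PSLnBal
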