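import Mathlib
import Cfsg.Agent.Lib.Helper18.PSLnBalD

/-!
# Local balance for field-type automorphisms of prime order of `PSL_n(F)` (helper18)
-/

set_option autoImplicit false
set_option linter.unusedSectionVars false

namespace Cfsg.Agent.Lib.Helper18.PSLnBal

open Matrix Cfsg Cfsg.Agent.Lib.Helper18.PSLnAut Cfsg.Agent.Lib.Helper18.PSLnFld
  Cfsg.Agent.Lib.Helper18.OrthBal Cfsg.Agent.Lib.Helper18.OrthMin
  Cfsg.Agent.Lib.Helper18.OrthFld
  Cfsg.Agent.Lib.Helper25 Cfsg.Agent.Lib.Helper25.SLRoot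

section normal

variable {n : ℕ} {F₀ : Type*} {F : Type*} [Field F₀] [Field F]

/-- over the field with two elements the centre of `SL_2` is trivial -/
theorem center_SL_of_card_two [Fintype F₀] (h : Fintype.card F₀ = 2) :
    Subgroup.center (SpecialLinearGroup (Fin 2) F₀) = ⊥ := by
  rw [eq_bot_iff]
  intro A hA
  rw [Subgroup.mem_bot]
  rw [Matrix.SpecialLinearGroup.mem_center_iff] at hA
  obtain ⟨c, hc, hcA⟩ := hA
  have hc0 : c ≠ 0 := by
    rintro rfl
    rw [zero_pow (by simp)] at hc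
    exact zero_ne_one hc
  have hc1 : c = 1 := by
    have h1 : c ^ (Fintype.card F₀ - 1) = 1 := FiniteField.pow_card_sub_one_eq_one c hc0
    rw [h] at h1
    simpa using h1
  apply Subtype.ext
  rw [← hcA, hc1, map_one]
  rfl

/-- the hypothesis on normal subgroups of the subfield subgroup -/
theorem hLs_Lsl [Fintype F₀] (hn : 2 ≤ n) (ι : F₀ →+* F) (p r : ℕ) (hp : p.Prime)
    [hch0 : CharP F₀ r] (hpr : p ≠ r) (hpd : p ∣ Nat.card ↥(Lsl n ι))
    (N : Subgroup (MulAut (ProjectiveSpecialLinearGroup (Fin n) F))) (hNL : N ≤ Lsl n ι)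
    (hn' : ∀ l ∈ Lsl n ι, ∀ m ∈ N, l * m * l⁻¹ ∈ N) (hN : N ≠ ⊥) : p ∣ Nat.card ↥N := by
  classical
  obtain ⟨e1⟩ := Lsl_equiv hn ι
  have hcardL : Nat.card ↥(Lsl n ι) = Nat.card (ProjectiveSpecialLinearGroup (Fin n) F₀) :=
    Nat.card_congr e1.toEquiv
  have hsimple : IsSimpleGroup (ProjectiveSpecialLinearGroup (Fin n) F₀) → p ∣ Nat.card ↥N := by
    intro hs
    haveI := hs
    have hsL : IsSimpleGroup ↥(Lsl n ι) := e1.isSimpleGroup
    exact Cfsg.Agent.Lib.Helper18.PSpAut.hLs_of_simple (Lsl n ι) hsL p hpd N hNL hn' hN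
  rcases Nat.lt_or_ge n 3 with h3 | h3
  · obtain rfl : n = 2 := by omega
    have h1 : 1 < Fintype.card F₀ := Fintype.one_lt_card
    rcases Nat.lt_or_ge (Fintype.card F₀) 4 with h4 | h4
    · have hcases : Fintype.card F₀ = 2 ∨ Fintype.card F₀ = 3 := by omega
      rcases hcases with h2 | h2
      · -- `PSL_2(2) ≅ S₃`
        obtain ⟨e2⟩ := Cfsg.Agent.S0250.result h2
        have hbot := center_SL_of_card_two h2
        have e0 : ProjectiveSpecialLinearGroup (Fin 2) F₀ ≃* SpecialLinearGroup (Fin 2) F₀ :=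
          (QuotientGroup.quotientMulEquivOfEq hbot).trans QuotientGroup.quotientBot
        have hr2 : r = 2 := by
          haveI : Fact (Nat.Prime 2) := ⟨Nat.prime_two⟩
          have hch : CharP F₀ 2 := charP_of_card_eq_prime h2
          exact CharP.eq F₀ hch0 hch
        have hcard : Nat.card ↥(Lsl 2 ι) = 6 := by
          rw [hcardL, Nat.card_congr (e0.trans e2).toEquiv, Nat.card_perm, Nat.card_fin]
          rfl
        rw [hcard] at hpd
        have hp3 : p = 3 := by
          have h6 : (6 : ℕ) = 2 * 3 := by norm_num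
          rw [h6] at hpd
          rcases hp.dvd_mul.1 hpd with h | h
          · exact absurd ((Nat.prime_dvd_prime_iff_eq hp Nat.prime_two).1 h) (hr2 ▸ hpr)
          · exact (Nat.prime_dvd_prime_iff_eq hp Nat.prime_three).1 h
        rw [hp3]
        exact hLs_of_S3 (Lsl 2 ι) (e1.trans (e0.trans e2)) N hNL hn' hN
      · -- `PSL_2(3) ≅ A₄`
        obtain ⟨e2⟩ := Cfsg.Agent.S0251.result h2
        have hr3 : r = 3 := by
          haveI : Fact (Nat.Prime 3) := ⟨Nat.prime_three⟩
          have hch : CharP F₀ 3 := charP_of_card_eq_prime h2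
          exact CharP.eq F₀ hch0 hch
        have hcard : Nat.card ↥(Lsl 2 ι) = 12 := by
          rw [hcardL, Nat.card_congr e2.toEquiv, nat_card_alternatingGroup, Nat.card_fin]
          rfl
        rw [hcard] at hpd
        have hp2 : p = 2 := by
          have h12 : (12 : ℕ) = 2 * (2 * 3) := by norm_num
          rw [h12] at hpd
          rcases hp.dvd_mul.1 hpd with h | h
          · exact (Nat.prime_dvd_prime_iff_eq hp Nat.prime_two).1 h
          · rcases hp.dvd_mul.1 h with h | h
            · exact (Nat.prime_dvd_prime_iff_eq hp Nat.prime_two).1 h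
            · exact absurd ((Nat.prime_dvd_prime_iff_eq hp Nat.prime_three).1 h) (hr3 ▸ hpr)
        rw [hp2]
        exact hLs_of_A4 (Lsl 2 ι) (e1.trans e2) N hNL hn' hN
    · apply hsimple
      apply Matrix.ProjectiveSpecialLinearGroup.rank_two_simple
      rw [Nat.card_eq_fintype_card]
      exact h4
  · exact hsimple (Cfsg.Agent.S0249.result n h3)

end normal

section main

variable {n : ℕ} {F : Type*} [Field F] [Fintype F]

/-- **local balance for `PSL_n(F)`**, for an automorphism of prime order `p` in `PΓL_n(F)`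
outside the inner-diagonal group -/
theorem psl_balance_field (r : ℕ) [Fact r.Prime] [CharP F r] (hn : 2 ≤ n)
    (A : Subgroup (MulAut (ProjectiveSpecialLinearGroup (Fin n) F)))
    (hinn : ∀ k : ProjectiveSpecialLinearGroup (Fin n) F, MulAut.conj k ∈ A)
    {p : ℕ} [Fact p.Prime] (hpr : p ≠ r) (g : GL (Fin n) F) (τ : RingAut F) (hτ1 : τ ≠ 1)
    (hord : orderOf (conjAHom g * fieldAHom (n := n) τ) = p) :
    Cfsg.pPrimeCore p ↥(A ⊓ Subgroup.centralizer {conjAHom g * fieldAHom (n := n) τ}) ≠ ⊥ ↔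
      Nat.Coprime p (Nat.card ↥(MonoidHom.eqLocus
        (conjAHom g * fieldAHom (n := n) τ).toMonoidHom
        (MonoidHom.id (ProjectiveSpecialLinearGroup (Fin n) F)))) := by
  classical
  have hp : p.Prime := Fact.out
  obtain ⟨Θ, hΘ1, hΘ2, -⟩ := exists_thetaHom (n := n) (F := F) r hn
  have hpow : (conjAHom g * fieldAHom (n := n) τ) ^ p = 1 := by
    rw [← hord]
    exact pow_orderOf_eq_one _
  have hτp : orderOf τ = p := by
    have h1 : τ ^ p = 1 := by
      have h2 := congrArg Θ hpow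
      rw [map_pow, map_mul, hΘ1, hΘ2, one_mul, map_one] at h2
      exact h2
    rcases (Nat.dvd_prime hp).1 (orderOf_dvd_of_pow_eq_one h1) with h3 | h3
    · exact absurd (orderOf_eq_one_iff.1 h3) hτ1
    · exact h3
  -- conjugate to the standard field automorphism
  obtain ⟨h, hh⟩ := field_coset_conj hn τ p hτp hp.pos g hpow
  set d : MulAut (ProjectiveSpecialLinearGroup (Fin n) F) := conjAHom h with hd
  set φ : MulAut (ProjectiveSpecialLinearGroup (Fin n) F) := fieldAHom (n := n) τ with hφ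
  rw [hh]
  -- the subfield
  have : Finite (RingAut F) := finite_ringAut
  let _ : Fintype ↥(Kf τ) := Fintype.ofFinite _
  have he : ∀ a : F, τ a = a ↔ a ∈ Set.range (Kf τ).subtype := by
    intro a
    rw [← mem_fixed_iff]
    constructor
    · intro h
      exact ⟨⟨a, h⟩, rfl⟩
    · rintro ⟨b, rfl⟩
      exact b.2
  have he' : ∀ b, τ ((Kf τ).subtype b) = (Kf τ).subtype b := fun b => (he _).2 ⟨b, rfl⟩
  haveI : CharP ↥(Kf τ) r := RingHom.charP (Kf τ).subtype (Kf τ).subtype.injective r
  -- transport along conjugation by `d`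
  have hinn'' : Cfsg.Inn (ProjectiveSpecialLinearGroup (Fin n) F) ≤
      A.comap (MulAut.conj d).toMonoidHom := by
    rintro _ ⟨k, rfl⟩
    show d * MulAut.conj k * d⁻¹ ∈ A
    rw [conj_conj]
    exact hinn _
  have hcardfix : Nat.card ↥(MonoidHom.eqLocus (d * φ * d⁻¹).toMonoidHom
      (MonoidHom.id (ProjectiveSpecialLinearGroup (Fin n) F))) =
      Nat.card ↥(Cfsg.Inn (ProjectiveSpecialLinearGroup (Fin n) F) ⊓
        Subgroup.centralizer {φ}) := by
    rw [card_eqLocus_conj, card_inn_inf_centralizer (center_PSL hn)]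
  have hiff := pPrimeCore_eq_bot_iff_of_equiv p (centralizerConjEquiv A d φ)
  have hCD : Cfsg.Inn (ProjectiveSpecialLinearGroup (Fin n) F) ⊓ Subgroup.centralizer {φ} ≤
      (PsiF (n := n) (Kf τ).subtype).range := by
    rw [range_PsiF hn τ p hτp hp.pos (Kf τ).subtype he]
    exact inf_le_inf_right _ inn_le_range
  have : Finite (MulAut (ProjectiveSpecialLinearGroup (Fin n) F)) := by
    have : Finite (ProjectiveSpecialLinearGroup (Fin n) F) := inferInstance
    exact Finite.of_injective (fun e : MulAut (ProjectiveSpecialLinearGroup (Fin n) F) =>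
      (e : ProjectiveSpecialLinearGroup (Fin n) F → ProjectiveSpecialLinearGroup (Fin n) F))
      (fun a b h => MulEquiv.ext (congrFun h))
  have hφord : orderOf φ = p := by
    rw [hφ, orderOf_fieldAHom r hn, hτp]
  refine ⟨fun hne => ?_, fun hcop => ?_⟩
  · by_contra hncop
    have hdvd : p ∣ Nat.card ↥(Cfsg.Inn (ProjectiveSpecialLinearGroup (Fin n) F) ⊓
        Subgroup.centralizer {φ}) := by
      rw [← hcardfix]
      exact (Nat.Prime.dvd_iff_not_coprime hp).2 hncop
    apply hne
    rw [← hiff]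
    obtain ⟨c, hc⟩ := exists_prime_orderOf_dvd_card' p hdvd
    have hc' : orderOf (c : MulAut (ProjectiveSpecialLinearGroup (Fin n) F)) = p := by
      rw [← hc]
      exact (Subgroup.orderOf_coe c)
    have hpd := p_dvd_card_Lsl hn (Kf τ).subtype p hp c.1 (hCD c.2) hc'
    apply core_trivial_pp p (A.comap (MulAut.conj d).toMonoidHom ⊓ Subgroup.centralizer {φ})
      (Cfsg.Inn (ProjectiveSpecialLinearGroup (Fin n) F) ⊓ Subgroup.centralizer {φ})
      (Lsl n (Kf τ).subtype) (inf_le_inf_right _ hinn'')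
      (fun h hh c hcC => Cfsg.Agent.Lib.Helper18.PSpAut.C_normal' _ _ h hh c hcC)
      (Lsl_le_C (Kf τ).subtype τ he')
      (fun c hcC l hl => Lsl_normal (Kf τ).subtype c (hCD hcC) l hl)
      (hLs_Lsl hn (Kf τ).subtype p r hp hpr hpd)
    intro x _ hxk hx
    obtain ⟨k, hk, hxk⟩ := hxk
    have h1 := cent_Lsl r hn (Kf τ).subtype τ he x hx
    obtain ⟨j, rfl⟩ := Subgroup.mem_zpowers_iff.1 h1
    have h2 : (φ ^ j) ^ p = 1 := by
      rw [← zpow_natCast, ← _root_.zpow_mul, mul_comm, _root_.zpow_mul, zpow_natCast, ← hφord,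
        pow_orderOf_eq_one, _root_.one_zpow]
    have h3 : orderOf (φ ^ j) ∣ Nat.gcd k p :=
      Nat.dvd_gcd (orderOf_dvd_of_pow_eq_one hxk) (orderOf_dvd_of_pow_eq_one h2)
    rw [Nat.Coprime.gcd_eq_one hk, Nat.dvd_one, orderOf_eq_one_iff] at h3
    exact h3
  · intro hbot
    rw [← hiff] at hbot
    refine core_ne_bot p _ (Cfsg.Inn (ProjectiveSpecialLinearGroup (Fin n) F) ⊓
      Subgroup.centralizer {φ}) (inf_le_inf_right _ hinn'')
      (fun h hh c hcC => Cfsg.Agent.Lib.Helper18.PSpAut.C_normal' _ _ h hh c hcC) ?_ ?_ hbot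
    · rw [← hcardfix]
      exact hcop.symm
    · intro hb
      apply Lsl_ne_bot hn (Kf τ).subtype
      rw [eq_bot_iff, ← hb]
      exact Lsl_le_C (Kf τ).subtype τ he'

end main

end Cfsg.Agent.Lib.Helper18.PSLnBal
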