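import Mathlib
import Cfsg.Agent.Lib.Helper18.PSLnBalE

/-!
# Local balance for graph-type involutions of `PSL_n(F)`: the abstract reduction (helper18)
-/

set_option autoImplicit false
set_option linter.unusedSectionVars false

namespace Cfsg.Agent.Lib.Helper18.PSLnBal

open Matrix Cfsg Cfsg.Agent.Lib.Helper18.PSLnAut Cfsg.Agent.Lib.Helper18.PSLnFld
  Cfsg.Agent.Lib.Helper18.OrthBal Cfsg.Agent.Lib.Helper18.OrthMin
  Cfsg.Agent.Lib.Helper25 Cfsg.Agent.Lib.Helper25.SLRoot

section quasisimple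

variable {G Y : Type*} [Group G] [Group Y]

/-- normal subgroups of the image of a group all of whose normal subgroups are central or
everything, under a homomorphism killing the centre -/
theorem hLs_of_quasisimple (p : ℕ) (f : G →* Y)
    (hG : ∀ N : Subgroup G, N.Normal → N ≤ Subgroup.center G ∨ N = ⊤)
    (hZ : Subgroup.center G ≤ f.ker) (x : G) (hx : orderOf (f x) = p)
    (N : Subgroup Y) (hNL : N ≤ f.range) (hn : ∀ l ∈ f.range, ∀ n ∈ N, l * n * l⁻¹ ∈ N)
    (hN : N ≠ ⊥) : p ∣ Nat.card ↥N := by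
  have hnorm : (N.comap f).Normal := by
    constructor
    intro a ha g
    rw [Subgroup.mem_comap] at ha ⊢
    rw [map_mul, map_mul, map_inv]
    exact hn (f g) ⟨g, rfl⟩ (f a) ha
  rcases hG _ hnorm with h | h
  · exfalso
    apply hN
    rw [eq_bot_iff]
    intro y hy
    obtain ⟨a, rfl⟩ := hNL hy
    have h1 : a ∈ N.comap f := hy
    exact hZ (h h1)
  · have h1 : f x ∈ N := by
      have h2 : x ∈ N.comap f := by rw [h]; trivial
      exact h2
    rw [← hx]
    exact orderOf_dvd_card_of_mem N h1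

end quasisimple

section gammaL

variable {n : ℕ} {F : Type*} [Field F] [Fintype F]

/-- automorphisms of odd order of `PSL_n(F)`, `n ≥ 3`, are induced by semilinear maps -/
theorem odd_mem_gammaL (r : ℕ) [Fact r.Prime] [CharP F r] (hn : 3 ≤ n)
    (x : MulAut (ProjectiveSpecialLinearGroup (Fin n) F)) {k : ℕ} (hk : Odd k)
    (hxk : x ^ k = 1) :
    ∃ (h : GL (Fin n) F) (τ : RingAut F), x = conjAHom h * fieldAHom τ ∧ τ ^ k = 1 := by
  obtain ⟨Φ, hΦ1, hΦ2⟩ := exists_autHom (n := n) (F := F) r hn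
  obtain ⟨d, hd, t, rfl⟩ := exists_conjA_mul_fgHom r (by omega : 2 ≤ n) x
  have hd1 : Φ d = 1 := by
    rw [← MonoidHom.mem_ker, hΦ2]
    exact hd
  have h1 : t ^ k = 1 := by
    have h2 := congrArg Φ hxk
    rw [map_pow, map_mul, hd1, one_mul, hΦ1, map_one] at h2
    exact h2
  obtain ⟨τ, e⟩ := t
  have h3 : τ ^ k = 1 := congrArg Prod.fst h1
  have h4 : e ^ k = 1 := congrArg Prod.snd h1
  have h5 : e = 1 := by
    have h6 : ∀ y : Multiplicative (ZMod 2), y * y = 1 := by decide
    obtain ⟨j, rfl⟩ := hk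
    rw [pow_succ, pow_mul, pow_two, h6, one_pow, one_mul] at h4
    exact h4
  obtain ⟨g, rfl⟩ := hd
  refine ⟨g, τ, ?_, h3⟩
  rw [h5, fgHom_apply, map_one, mul_one]

end gammaL

section graph

variable {n : ℕ} {F : Type*} [Field F]

/-- the image in the automorphism group of a subgroup of `SL_n(F)` -/
noncomputable def conjPi : SpecialLinearGroup (Fin n) F →*
    MulAut (ProjectiveSpecialLinearGroup (Fin n) F) :=
  (MulAut.conj).comp pi

theorem conjPi_apply (s : SpecialLinearGroup (Fin n) F) : conjPi s = MulAut.conj (pi s) := rfl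

/-- **local balance for graph-type involutions, abstract form**: if the fixed points of `β`
contain the image of a subgroup `S` of `SL_n(F)` normalised by all fixed points, whose image has
only normal subgroups of even order, and which is centralised by no semilinear automorphism of odd
order, then the `2'`-core of the centraliser of `β` is trivial -/
theorem graph_core_abstract [Fintype F] (r : ℕ) [Fact r.Prime] [CharP F r] (hn : 3 ≤ n)
    (β : MulAut (ProjectiveSpecialLinearGroup (Fin n) F))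
    (S : Subgroup (SpecialLinearGroup (Fin n) F))
    (hS1 : ∀ s ∈ S, β (pi s) = pi s)
    (hS2 : ∀ t : SpecialLinearGroup (Fin n) F, β (pi t) = pi t → ∀ s ∈ S, t * s * t⁻¹ ∈ S)
    (hS3 : ∀ N : Subgroup (MulAut (ProjectiveSpecialLinearGroup (Fin n) F)),
      N ≤ S.map conjPi → (∀ l ∈ S.map conjPi, ∀ m ∈ N, l * m * l⁻¹ ∈ N) → N ≠ ⊥ →
      2 ∣ Nat.card ↥N)
    (hS4 : ∀ (h : GL (Fin n) F) (τ : RingAut F) (k : ℕ), Odd k → τ ^ k = 1 →
      (∀ s ∈ S, conjA h (fieldA τ (pi s)) = pi s) → conjAHom h * fieldAHom (n := n) τ = 1)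
    (A : Subgroup (MulAut (ProjectiveSpecialLinearGroup (Fin n) F)))
    (hinn : Cfsg.Inn (ProjectiveSpecialLinearGroup (Fin n) F) ≤ A) :
    Cfsg.pPrimeCore 2 ↥(A ⊓ Subgroup.centralizer {β}) = ⊥ := by
  have hn2 : 2 ≤ n := by omega
  haveI : Fact (Nat.Prime 2) := ⟨Nat.prime_two⟩
  have : Finite (MulAut (ProjectiveSpecialLinearGroup (Fin n) F)) := by
    have : Finite (ProjectiveSpecialLinearGroup (Fin n) F) := inferInstance
    exact Finite.of_injective (fun e : MulAut (ProjectiveSpecialLinearGroup (Fin n) F) =>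
      (e : ProjectiveSpecialLinearGroup (Fin n) F → ProjectiveSpecialLinearGroup (Fin n) F))
      (fun a b h => MulEquiv.ext (congrFun h))
  have hcomm : ∀ s : SpecialLinearGroup (Fin n) F,
      conjPi s ∈ Subgroup.centralizer {β} ↔ β (pi s) = pi s := by
    intro s
    rw [Subgroup.mem_centralizer_iff]
    constructor
    · intro h
      exact (commute_conj_pi_iff hn2 β s).1 (h β rfl)
    · intro h y hy
      rw [Set.mem_singleton_iff] at hy
      rw [hy]
      exact (commute_conj_pi_iff hn2 β s).2 h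
  apply core_trivial_pp 2 (A ⊓ Subgroup.centralizer {β})
    (Cfsg.Inn (ProjectiveSpecialLinearGroup (Fin n) F) ⊓ Subgroup.centralizer {β})
    (S.map conjPi) (inf_le_inf_right _ hinn)
    (fun h hh c hcC => Cfsg.Agent.Lib.Helper18.PSpAut.C_normal' _ _ h hh c hcC)
  · rintro _ ⟨s, hs, rfl⟩
    exact ⟨⟨pi s, rfl⟩, (hcomm s).2 (hS1 s hs)⟩
  · rintro c ⟨⟨k, rfl⟩, hc⟩ _ ⟨s, hs, rfl⟩
    obtain ⟨t, rfl⟩ := pi_surjective k
    have ht : β (pi t) = pi t := (hcomm t).1 hc
    refine ⟨t * s * t⁻¹, hS2 t ht s hs, ?_⟩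
    rw [map_mul, map_mul, map_inv]
    rfl
  · exact hS3
  · intro x _ hxk hx
    obtain ⟨k, hk, hxk⟩ := hxk
    have hodd : Odd k := Nat.Coprime.odd_of_right hk
    obtain ⟨h, τ, rfl, hτ⟩ := odd_mem_gammaL r hn x hodd hxk
    apply hS4 h τ k hodd hτ
    intro s hs
    have h1 := hx (conjPi s) ⟨s, hs, rfl⟩
    rw [conjPi_apply, commute_conj_pi_iff hn2] at h1
    exact h1

end graph

end Cfsg.Agent.Lib.Helper18.PSLnBal
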