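import Mathlib
import Cfsg.Agent.Lib.Helper18.PSLnBalF

/-!
# Twisted graph automorphisms of `PSL_n(F)` and the isometry groups of sesquilinear forms
(helper18)
-/

set_option autoImplicit false
set_option linter.unusedSectionVars false

namespace Cfsg.Agent.Lib.Helper18.PSLnBal

open Matrix Cfsg Cfsg.Agent.Lib.Helper18.PSLnAut Cfsg.Agent.Lib.Helper18.PSLnFld
  Cfsg.Agent.Lib.Helper18.OrthBal Cfsg.Agent.Lib.Helper18.OrthMin
  Cfsg.Agent.Lib.Helper25 Cfsg.Agent.Lib.Helper25.SLRoot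

variable {n : ℕ} {F : Type*} [Field F]

/-- the `σ`-adjoint (conjugate transpose) of a matrix -/
def adj (σ : RingAut F) (A : Matrix (Fin n) (Fin n) F) : Matrix (Fin n) (Fin n) F :=
  (Aᵀ).map σ

theorem adj_apply (σ : RingAut F) (A : Matrix (Fin n) (Fin n) F) (i j : Fin n) :
    adj σ A i j = σ (A j i) := rfl

theorem adj_mul (σ : RingAut F) (A B : Matrix (Fin n) (Fin n) F) :
    adj σ (A * B) = adj σ B * adj σ A := by
  unfold adj
  rw [Matrix.transpose_mul]
  exact Matrix.map_mul (f := ((σ : F ≃+* F) : F →+* F))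

theorem adj_one (σ : RingAut F) : adj σ (1 : Matrix (Fin n) (Fin n) F) = 1 := by
  unfold adj
  rw [Matrix.transpose_one]
  exact map_one_eq σ

theorem adj_smul (σ : RingAut F) (c : F) (A : Matrix (Fin n) (Fin n) F) :
    adj σ (c • A) = σ c • adj σ A := by
  ext i j
  rw [adj_apply, Matrix.smul_apply, Matrix.smul_apply, adj_apply, smul_eq_mul, smul_eq_mul,
    map_mul]

theorem adj_refl (A : Matrix (Fin n) (Fin n) F) : adj (1 : RingAut F) A = Aᵀ := by
  ext i j
  rfl

/-- the twisted graph automorphism `x ↦ M⁻¹ σ(x)^{-T} M` -/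
noncomputable def thetaG (M : GL (Fin n) F) (σ : RingAut F) :
    MulAut (ProjectiveSpecialLinearGroup (Fin n) F) :=
  conjAHom M⁻¹ * psiA σ

theorem sl_mul_inv (t : SpecialLinearGroup (Fin n) F) :
    (t : Matrix (Fin n) (Fin n) F) * ((t⁻¹ : SpecialLinearGroup (Fin n) F) :
      Matrix (Fin n) (Fin n) F) = 1 := by
  rw [← Matrix.SpecialLinearGroup.coe_mul, mul_inv_cancel, Matrix.SpecialLinearGroup.coe_one]

theorem sl_inv_mul (t : SpecialLinearGroup (Fin n) F) :
    ((t⁻¹ : SpecialLinearGroup (Fin n) F) : Matrix (Fin n) (Fin n) F) *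
      (t : Matrix (Fin n) (Fin n) F) = 1 := by
  rw [← Matrix.SpecialLinearGroup.coe_mul, inv_mul_cancel, Matrix.SpecialLinearGroup.coe_one]

theorem thetaG_pi (M : GL (Fin n) F) (σ : RingAut F) (t : SpecialLinearGroup (Fin n) F) :
    thetaG M σ (pi t) = pi (conjMat M⁻¹ (fieldS σ (itS t))) := rfl

theorem thetaG_coe (M : GL (Fin n) F) (σ : RingAut F) (t : SpecialLinearGroup (Fin n) F) :
    ((conjMat M⁻¹ (fieldS σ (itS t)) : SpecialLinearGroup (Fin n) F) :
      Matrix (Fin n) (Fin n) F) =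
      ((M⁻¹ : GL (Fin n) F) : Matrix (Fin n) (Fin n) F) *
        adj σ ((t⁻¹ : SpecialLinearGroup (Fin n) F) : Matrix (Fin n) (Fin n) F) *
        (M : Matrix (Fin n) (Fin n) F) := by
  rw [conjMat_coe, inv_inv, fieldS_coe, itS_coe]
  rfl

/-- the fixed points of a twisted graph automorphism are the similitudes of the form -/
theorem thetaG_fix_iff (M : GL (Fin n) F) (σ : RingAut F) (t : SpecialLinearGroup (Fin n) F) :
    thetaG M σ (pi t) = pi t ↔ ∃ c : F, c ^ n = 1 ∧
      adj σ (t : Matrix (Fin n) (Fin n) F) * (M : Matrix (Fin n) (Fin n) F) *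
        (t : Matrix (Fin n) (Fin n) F) = c • (M : Matrix (Fin n) (Fin n) F) := by
  rw [thetaG_pi, pi_eq_iff, thetaG_coe]
  have hadj1 : adj σ (t : Matrix (Fin n) (Fin n) F) *
      adj σ ((t⁻¹ : SpecialLinearGroup (Fin n) F) : Matrix (Fin n) (Fin n) F) = 1 := by
    rw [← adj_mul, sl_inv_mul, adj_one]
  have hadj2 : adj σ ((t⁻¹ : SpecialLinearGroup (Fin n) F) : Matrix (Fin n) (Fin n) F) *
      adj σ (t : Matrix (Fin n) (Fin n) F) = 1 := by
    rw [← adj_mul, sl_mul_inv, adj_one]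
  constructor
  · rintro ⟨c, hc, h⟩
    refine ⟨c, hc, ?_⟩
    have h1 : (M : Matrix (Fin n) (Fin n) F) * (t : Matrix (Fin n) (Fin n) F) =
        c • (adj σ ((t⁻¹ : SpecialLinearGroup (Fin n) F) : Matrix (Fin n) (Fin n) F) *
          (M : Matrix (Fin n) (Fin n) F)) := by
      rw [h, Matrix.mul_smul, ← Matrix.mul_assoc, ← Matrix.mul_assoc, gl_mul_inv, Matrix.one_mul]
    rw [Matrix.mul_assoc, h1, Matrix.mul_smul, ← Matrix.mul_assoc, hadj1, Matrix.one_mul]
  · rintro ⟨c, hc, h⟩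
    refine ⟨c, hc, ?_⟩
    have h1 : (M : Matrix (Fin n) (Fin n) F) * (t : Matrix (Fin n) (Fin n) F) =
        c • (adj σ ((t⁻¹ : SpecialLinearGroup (Fin n) F) : Matrix (Fin n) (Fin n) F) *
          (M : Matrix (Fin n) (Fin n) F)) := by
      have h2 : adj σ ((t⁻¹ : SpecialLinearGroup (Fin n) F) : Matrix (Fin n) (Fin n) F) *
          (adj σ (t : Matrix (Fin n) (Fin n) F) * (M : Matrix (Fin n) (Fin n) F) *
            (t : Matrix (Fin n) (Fin n) F)) =
          adj σ ((t⁻¹ : SpecialLinearGroup (Fin n) F) : Matrix (Fin n) (Fin n) F) *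
            (c • (M : Matrix (Fin n) (Fin n) F)) := by rw [h]
      rw [← Matrix.mul_assoc, ← Matrix.mul_assoc, hadj2, Matrix.one_mul, Matrix.mul_smul] at h2
      exact h2
    have h3 : ((M⁻¹ : GL (Fin n) F) : Matrix (Fin n) (Fin n) F) *
        ((M : Matrix (Fin n) (Fin n) F) * (t : Matrix (Fin n) (Fin n) F)) =
        ((M⁻¹ : GL (Fin n) F) : Matrix (Fin n) (Fin n) F) *
        (c • (adj σ ((t⁻¹ : SpecialLinearGroup (Fin n) F) : Matrix (Fin n) (Fin n) F) *
          (M : Matrix (Fin n) (Fin n) F))) := by rw [h1]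
    rw [← Matrix.mul_assoc, gl_inv_mul, Matrix.one_mul, Matrix.mul_smul, ← Matrix.mul_assoc] at h3
    exact h3

/-- the special isometry group of the `σ`-sesquilinear form with matrix `M` -/
def Sform (M : Matrix (Fin n) (Fin n) F) (σ : RingAut F) :
    Subgroup (SpecialLinearGroup (Fin n) F) where
  carrier := {s | adj σ (s : Matrix (Fin n) (Fin n) F) * M * (s : Matrix (Fin n) (Fin n) F) = M}
  one_mem' := by
    show adj σ ((1 : SpecialLinearGroup (Fin n) F) : Matrix (Fin n) (Fin n) F) * M *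
      ((1 : SpecialLinearGroup (Fin n) F) : Matrix (Fin n) (Fin n) F) = M
    rw [Matrix.SpecialLinearGroup.coe_one, adj_one, Matrix.one_mul, Matrix.mul_one]
  mul_mem' := by
    intro a b ha hb
    show adj σ ((a * b : SpecialLinearGroup (Fin n) F) : Matrix (Fin n) (Fin n) F) * M *
      ((a * b : SpecialLinearGroup (Fin n) F) : Matrix (Fin n) (Fin n) F) = M
    have ha' : adj σ (a : Matrix (Fin n) (Fin n) F) * M * (a : Matrix (Fin n) (Fin n) F) = M := ha
    have hb' : adj σ (b : Matrix (Fin n) (Fin n) F) * M * (b : Matrix (Fin n) (Fin n) F) = M := hb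
    rw [Matrix.SpecialLinearGroup.coe_mul, adj_mul]
    calc adj σ (b : Matrix (Fin n) (Fin n) F) * adj σ (a : Matrix (Fin n) (Fin n) F) * M *
          ((a : Matrix (Fin n) (Fin n) F) * (b : Matrix (Fin n) (Fin n) F))
        = adj σ (b : Matrix (Fin n) (Fin n) F) * (adj σ (a : Matrix (Fin n) (Fin n) F) * M *
          (a : Matrix (Fin n) (Fin n) F)) * (b : Matrix (Fin n) (Fin n) F) := by
          simp only [Matrix.mul_assoc]
      _ = M := by rw [ha', hb']
  inv_mem' := by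
    intro a ha
    show adj σ ((a⁻¹ : SpecialLinearGroup (Fin n) F) : Matrix (Fin n) (Fin n) F) * M *
      ((a⁻¹ : SpecialLinearGroup (Fin n) F) : Matrix (Fin n) (Fin n) F) = M
    have ha' : adj σ (a : Matrix (Fin n) (Fin n) F) * M * (a : Matrix (Fin n) (Fin n) F) = M := ha
    have hadj2 : adj σ ((a⁻¹ : SpecialLinearGroup (Fin n) F) : Matrix (Fin n) (Fin n) F) *
        adj σ (a : Matrix (Fin n) (Fin n) F) = 1 := by
      rw [← adj_mul, sl_mul_inv, adj_one]
    calc adj σ ((a⁻¹ : SpecialLinearGroup (Fin n) F) : Matrix (Fin n) (Fin n) F) * M *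
          ((a⁻¹ : SpecialLinearGroup (Fin n) F) : Matrix (Fin n) (Fin n) F)
        = adj σ ((a⁻¹ : SpecialLinearGroup (Fin n) F) : Matrix (Fin n) (Fin n) F) *
          (adj σ (a : Matrix (Fin n) (Fin n) F) * M * (a : Matrix (Fin n) (Fin n) F)) *
          ((a⁻¹ : SpecialLinearGroup (Fin n) F) : Matrix (Fin n) (Fin n) F) := by rw [ha']
      _ = (adj σ ((a⁻¹ : SpecialLinearGroup (Fin n) F) : Matrix (Fin n) (Fin n) F) *
          adj σ (a : Matrix (Fin n) (Fin n) F)) * M * ((a : Matrix (Fin n) (Fin n) F) *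
          ((a⁻¹ : SpecialLinearGroup (Fin n) F) : Matrix (Fin n) (Fin n) F)) := by
          simp only [Matrix.mul_assoc]
      _ = M := by rw [hadj2, sl_mul_inv, Matrix.one_mul, Matrix.mul_one]

theorem mem_Sform (M : Matrix (Fin n) (Fin n) F) (σ : RingAut F)
    (s : SpecialLinearGroup (Fin n) F) :
    s ∈ Sform M σ ↔
      adj σ (s : Matrix (Fin n) (Fin n) F) * M * (s : Matrix (Fin n) (Fin n) F) = M := Iff.rfl

/-- the isometries are fixed points -/
theorem thetaG_fix_of_mem (M : GL (Fin n) F) (σ : RingAut F) (s : SpecialLinearGroup (Fin n) F)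
    (hs : s ∈ Sform (M : Matrix (Fin n) (Fin n) F) σ) : thetaG M σ (pi s) = pi s := by
  rw [thetaG_fix_iff]
  refine ⟨1, one_pow n, ?_⟩
  rw [one_smul]
  exact hs

/-- the fixed points normalise the isometry group -/
theorem Sform_normal (hn : 0 < n) (M : GL (Fin n) F) (σ : RingAut F)
    (t : SpecialLinearGroup (Fin n) F) (ht : thetaG M σ (pi t) = pi t) (s : SpecialLinearGroup (Fin n) F)
    (hs : s ∈ Sform (M : Matrix (Fin n) (Fin n) F) σ) :
    t * s * t⁻¹ ∈ Sform (M : Matrix (Fin n) (Fin n) F) σ := by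
  obtain ⟨c, hc, h⟩ := (thetaG_fix_iff M σ t).1 ht
  rw [mem_Sform] at hs ⊢
  set T : Matrix (Fin n) (Fin n) F := (t : Matrix (Fin n) (Fin n) F) with hT
  set Ti : Matrix (Fin n) (Fin n) F :=
    ((t⁻¹ : SpecialLinearGroup (Fin n) F) : Matrix (Fin n) (Fin n) F) with hTi
  set Sm : Matrix (Fin n) (Fin n) F := (s : Matrix (Fin n) (Fin n) F) with hSm
  set Mm : Matrix (Fin n) (Fin n) F := (M : Matrix (Fin n) (Fin n) F) with hMm
  have h1 : T * Ti = 1 := sl_mul_inv t
  have hadj2 : adj σ Ti * adj σ T = 1 := by rw [← adj_mul, h1, adj_one]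
  -- `M = c • adj(t⁻¹) M t⁻¹`
  have h2 : Mm = c • (adj σ Ti * Mm * Ti) := by
    have h3 : adj σ Ti * (adj σ T * Mm * T) * Ti = adj σ Ti * (c • Mm) * Ti := by rw [h]
    rw [Matrix.mul_smul, Matrix.smul_mul] at h3
    rw [← h3]
    calc Mm = (adj σ Ti * adj σ T) * Mm * (T * Ti) := by
          rw [hadj2, h1, Matrix.one_mul, Matrix.mul_one]
      _ = adj σ Ti * (adj σ T * Mm * T) * Ti := by simp only [Matrix.mul_assoc]
  rw [Matrix.SpecialLinearGroup.coe_mul, Matrix.SpecialLinearGroup.coe_mul, ← hT, ← hTi, ← hSm,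
    adj_mul, adj_mul]
  calc adj σ Ti * (adj σ Sm * adj σ T) * Mm * (T * Sm * Ti)
      = adj σ Ti * (adj σ Sm * (adj σ T * Mm * T) * Sm) * Ti := by simp only [Matrix.mul_assoc]
    _ = adj σ Ti * (adj σ Sm * (c • Mm) * Sm) * Ti := by rw [h]
    _ = c • (adj σ Ti * (adj σ Sm * Mm * Sm) * Ti) := by
        simp only [Matrix.mul_smul, Matrix.smul_mul]
    _ = c • (adj σ Ti * Mm * Ti) := by rw [hs]
    _ = Mm := h2.symm

theorem thetaG_one (M : GL (Fin n) F) : thetaG M (1 : RingAut F) = conjAHom M⁻¹ * itA := by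
  unfold thetaG psiA
  rw [map_one, one_mul]

end Cfsg.Agent.Lib.Helper18.PSLnBal
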