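import Mathlib
import Cfsg.Agent.Lib.Helper18.PSLnBalG
import Cfsg.Agent.Lib.Helper25.GraphInv4
import Cfsg.Agent.S0269

/-!
# Local balance for graph involutions of symplectic type of `PSL_n(F)` (helper18)
-/

set_option autoImplicit false
set_option linter.unusedSectionVars false

namespace Cfsg.Agent.Lib.Helper18.PSLnBal

open Matrix Cfsg Cfsg.Agent.Lib.Helper18.PSLnAut Cfsg.Agent.Lib.Helper18.PSLnFld
  Cfsg.Agent.Lib.Helper18.OrthBal Cfsg.Agent.Lib.Helper18.OrthMin
  Cfsg.Agent.Lib.Helper25 Cfsg.Agent.Lib.Helper25.SLRoot Cfsg.Agent.Lib.Helper25.GraphInv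

section skew

variable {n : ℕ} {F : Type*} [Field F]

theorem skew_dot (M : Matrix (Fin n) (Fin n) F) (hM : Mᵀ = -M) (u w : Fin n → F) :
    u ⬝ᵥ M *ᵥ w = -(w ⬝ᵥ M *ᵥ u) := by
  rw [Matrix.dotProduct_mulVec, ← Matrix.transpose_transpose M, Matrix.vecMul_transpose,
    Matrix.transpose_transpose, hM, Matrix.neg_mulVec, neg_dotProduct, dotProduct_comm]

theorem alt_dot (h2 : (2 : F) ≠ 0) (M : Matrix (Fin n) (Fin n) F) (hM : Mᵀ = -M)
    (v : Fin n → F) : v ⬝ᵥ M *ᵥ v = 0 := by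
  have h1 := skew_dot M hM v v
  have h3 : (2 : F) * (v ⬝ᵥ M *ᵥ v) = 0 := by linear_combination h1
  rcases mul_eq_zero.1 h3 with h | h
  · exact absurd h h2
  · exact h

/-- the symplectic transvections lie in the isometry group -/
theorem tvSL_mem_Sform_skew (h2 : (2 : F) ≠ 0) (M : Matrix (Fin n) (Fin n) F) (hM : Mᵀ = -M)
    (v : Fin n → F) (h0 : (M *ᵥ v) ⬝ᵥ v = 0) (c : F) :
    tvSL v (M *ᵥ v) h0 c ∈ Sform M (1 : RingAut F) := by
  rw [mem_Sform, adj_refl]
  apply bil_ext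
  intro u w
  rw [← dot_congr, tvSL_mulVec, tvSL_mulVec]
  have e1 : (M *ᵥ v) ⬝ᵥ u = u ⬝ᵥ M *ᵥ v := dotProduct_comm _ _
  have e2 : (M *ᵥ v) ⬝ᵥ w = w ⬝ᵥ M *ᵥ v := dotProduct_comm _ _
  rw [e1, e2]
  simp only [Matrix.mulVec_add, Matrix.mulVec_smul, add_dotProduct, dotProduct_add,
    smul_dotProduct, dotProduct_smul, smul_eq_mul]
  rw [alt_dot h2 M hM v, skew_dot M hM v w]
  ring

/-- no semilinear automorphism centralises the image of the symplectic group -/
theorem hS4_skew (hn : 2 ≤ n) (h2 : (2 : F) ≠ 0) (M : GL (Fin n) F) (hM : (M.1)ᵀ = -M.1)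
    (h : GL (Fin n) F) (τ : RingAut F)
    (hfix : ∀ s ∈ Sform M.1 (1 : RingAut F), conjA h (fieldA τ (pi s)) = pi s) :
    conjAHom h * fieldAHom (n := n) τ = 1 := by
  have hpar : ∀ v₀ : Fin n → F, v₀ ≠ 0 → ∃ a : F, a ≠ 0 ∧
      (h : Matrix (Fin n) (Fin n) F) *ᵥ (fun i => τ ((RingHom.id F) (v₀ i))) =
        a • (fun i => (RingHom.id F) (v₀ i)) := by
    intro v hv
    have h0 : (M.1 *ᵥ v) ⬝ᵥ v = 0 := by
      rw [dotProduct_comm]
      exact alt_dot h2 M.1 hM v
    have hφ : M.1 *ᵥ v ≠ 0 := by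
      intro h1
      apply hv
      have h3 := congrArg (fun w => ((M⁻¹ : GL (Fin n) F) : Matrix (Fin n) (Fin n) F) *ᵥ w) h1
      simp only [Matrix.mulVec_mulVec, gl_inv_mul, Matrix.one_mulVec, Matrix.mulVec_zero] at h3
      exact h3
    exact par_of_fix_tvSL hn h τ h0 hv hφ (hfix _ (tvSL_mem_Sform_skew h2 M.1 hM v h0 1))
  obtain ⟨h1, h3⟩ := scalar_of_par hn (RingHom.id F) h τ hpar
  have hτ : τ = 1 := by
    ext b
    exact h1 b
  rw [h3, hτ, map_one, one_mul]

end skew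

section reindex

variable {n m : ℕ} {F : Type*} [Field F]

/-- the standard alternating matrix in coordinates indexed by `Fin n` -/
def MJ (e : Fin n ≃ Fin m ⊕ Fin m) (F : Type*) [Field F] : Matrix (Fin n) (Fin n) F :=
  (J (Fin m) F).submatrix e e

theorem MJ_transpose (e : Fin n ≃ Fin m ⊕ Fin m) : (MJ e F)ᵀ = -MJ e F := by
  unfold MJ
  rw [Matrix.transpose_submatrix, J_transpose]
  rfl

/-- the standard alternating matrix as an invertible matrix -/
def MJgl (e : Fin n ≃ Fin m ⊕ Fin m) (F : Type*) [Field F] : GL (Fin n) F where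
  val := MJ e F
  inv := (-J (Fin m) F).submatrix e e
  val_inv := by
    unfold MJ
    rw [Matrix.submatrix_mul_equiv, Matrix.mul_neg, J_squared, neg_neg, Matrix.submatrix_one_equiv]
  inv_val := by
    unfold MJ
    rw [Matrix.submatrix_mul_equiv, Matrix.neg_mul, J_squared, neg_neg, Matrix.submatrix_one_equiv]

theorem MJgl_coe (e : Fin n ≃ Fin m ⊕ Fin m) :
    ((MJgl e F : GL (Fin n) F) : Matrix (Fin n) (Fin n) F) = MJ e F := rfl

/-- the symplectic group in coordinates indexed by `Fin n` -/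
noncomputable def spSL (e : Fin n ≃ Fin m ⊕ Fin m) :
    symplecticGroup (Fin m) F →* SpecialLinearGroup (Fin n) F where
  toFun s := ⟨(s : Matrix (Fin m ⊕ Fin m) (Fin m ⊕ Fin m) F).submatrix e e, by
    rw [Matrix.det_submatrix_equiv_self]
    exact SymplecticGroup.det_eq_one s.2⟩
  map_one' := by
    apply Subtype.ext
    exact Matrix.submatrix_one_equiv e
  map_mul' a b := by
    apply Subtype.ext
    show ((a : Matrix (Fin m ⊕ Fin m) (Fin m ⊕ Fin m) F) *
      (b : Matrix (Fin m ⊕ Fin m) (Fin m ⊕ Fin m) F)).submatrix e e =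
      (a : Matrix (Fin m ⊕ Fin m) (Fin m ⊕ Fin m) F).submatrix e e *
      (b : Matrix (Fin m ⊕ Fin m) (Fin m ⊕ Fin m) F).submatrix e e
    rw [Matrix.submatrix_mul_equiv]

theorem spSL_coe (e : Fin n ≃ Fin m ⊕ Fin m) (s : symplecticGroup (Fin m) F) :
    ((spSL e s : SpecialLinearGroup (Fin n) F) : Matrix (Fin n) (Fin n) F) =
      (s : Matrix (Fin m ⊕ Fin m) (Fin m ⊕ Fin m) F).submatrix e e := rfl

theorem range_spSL (e : Fin n ≃ Fin m ⊕ Fin m) :
    (spSL (F := F) e).range = Sform (MJ e F) (1 : RingAut F) := by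
  ext s'
  rw [mem_Sform, adj_refl]
  constructor
  · rintro ⟨s, rfl⟩
    rw [spSL_coe]
    unfold MJ
    rw [Matrix.transpose_submatrix, Matrix.submatrix_mul_equiv, Matrix.submatrix_mul_equiv,
      SymplecticGroup.mem_iff'.1 s.2]
  · intro h
    have hs : (s' : Matrix (Fin n) (Fin n) F).submatrix e.symm e.symm ∈
        symplecticGroup (Fin m) F := by
      rw [SymplecticGroup.mem_iff']
      have h1 : ((s' : Matrix (Fin n) (Fin n) F)ᵀ * MJ e F *
          (s' : Matrix (Fin n) (Fin n) F)).submatrix e.symm e.symm =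
          (MJ e F).submatrix e.symm e.symm := by rw [h]
      unfold MJ at h1
      rw [← Matrix.submatrix_mul_equiv _ _ e.symm e.symm e.symm,
        ← Matrix.submatrix_mul_equiv _ _ e.symm e.symm e.symm, Matrix.submatrix_submatrix,
        Equiv.self_comp_symm, Matrix.submatrix_id_id, ← Matrix.transpose_submatrix] at h1
      exact h1
    refine ⟨⟨_, hs⟩, ?_⟩
    apply Subtype.ext
    rw [spSL_coe]
    show ((s' : Matrix (Fin n) (Fin n) F).submatrix e.symm e.symm).submatrix e e = _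
    rw [Matrix.submatrix_submatrix, Equiv.symm_comp_self, Matrix.submatrix_id_id]

end reindex

end Cfsg.Agent.Lib.Helper18.PSLnBal
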