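import Mathlib
import Cfsg.Agent.Lib.Helper18.PSLnBalH
import Cfsg.Agent.Lib.Helper25.GraphInv5
import Cfsg.Agent.Lib.Helper14.PSpSimple
import Cfsg.Agent.Lib.Helper18.PSpAutA

/-!
# Local balance for graph involutions of symplectic type of `PSL_n(F)`: conclusion (helper18)
-/

set_option autoImplicit false
set_option linter.unusedSectionVars false

namespace Cfsg.Agent.Lib.Helper18.PSLnBal

open Matrix Cfsg Cfsg.Agent.Lib.Helper18.PSLnAut Cfsg.Agent.Lib.Helper18.PSLnFld
  Cfsg.Agent.Lib.Helper18.OrthBal Cfsg.Agent.Lib.Helper18.OrthMin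
  Cfsg.Agent.Lib.Helper25 Cfsg.Agent.Lib.Helper25.SLRoot Cfsg.Agent.Lib.Helper25.GraphInv

section symp

variable {n m : ℕ} {F : Type*} [Field F]

theorem conjPi_eq_one_iff (hn : 2 ≤ n) (s : SpecialLinearGroup (Fin n) F) :
    conjPi s = 1 ↔ ∃ c : F, c ^ n = 1 ∧
      (s : Matrix (Fin n) (Fin n) F) = c • (1 : Matrix (Fin n) (Fin n) F) := by
  rw [conjPi_apply]
  constructor
  · intro h
    have h1 := conj_injective_of_center (center_PSL (F := F) hn) (h.trans (map_one _).symm)
    rw [← map_one pi, eq_comm, pi_eq_iff] at h1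
    obtain ⟨c, hc, h2⟩ := h1
    exact ⟨c, hc, by rw [h2, Matrix.SpecialLinearGroup.coe_one]⟩
  · rintro ⟨c, hc, h2⟩
    have h1 : pi (1 : SpecialLinearGroup (Fin n) F) = pi s := by
      rw [pi_eq_iff]
      exact ⟨c, hc, by rw [h2, Matrix.SpecialLinearGroup.coe_one]⟩
    rw [← h1, map_one, map_one]

theorem card_of_equiv (e : Fin n ≃ Fin m ⊕ Fin m) : n = m + m := by
  have := Fintype.card_congr e
  rw [Fintype.card_fin, Fintype.card_sum, Fintype.card_fin] at this
  exact this

/-- the normal subgroups of the image of the symplectic group have even order -/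
theorem hS3_symp [Fintype F] (hm : 2 ≤ m) (h3 : 3 ≤ Fintype.card F)
    (e : Fin n ≃ Fin m ⊕ Fin m)
    (N : Subgroup (MulAut (ProjectiveSpecialLinearGroup (Fin n) F)))
    (hNL : N ≤ (Sform (MJ e F) (1 : RingAut F)).map conjPi)
    (hinv : ∀ l ∈ (Sform (MJ e F) (1 : RingAut F)).map conjPi, ∀ x ∈ N, l * x * l⁻¹ ∈ N)
    (hN : N ≠ ⊥) : 2 ∣ Nat.card ↥N := by
  have hnm : n = m + m := card_of_equiv e
  have hn : 2 ≤ n := by omega
  have hrange : (conjPi.comp (spSL (F := F) e)).range =
      (Sform (MJ e F) (1 : RingAut F)).map conjPi := by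
    rw [← range_spSL, MonoidHom.map_range]
  have hperf : commutator (symplecticGroup (Fin m) F) = ⊤ := by
    apply Cfsg.Agent.Lib.Helper14.SpPerfect.commutator_symplecticGroup_eq_top
    rcases Nat.lt_or_ge m 3 with h | h
    · right; left
      exact ⟨by omega, h3⟩
    · left; exact h
  -- the centre is killed
  have hZ : Subgroup.center (symplecticGroup (Fin m) F) ≤
      (conjPi.comp (spSL (F := F) e)).ker := by
    intro z hz
    rw [MonoidHom.mem_ker, MonoidHom.comp_apply, conjPi_eq_one_iff hn]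
    have h1 : Cfsg.Agent.Lib.Helper18.PSpAut.pi (1 : symplecticGroup (Fin m) F) =
        Cfsg.Agent.Lib.Helper18.PSpAut.pi z := by
      rw [map_one, eq_comm, Cfsg.Agent.Lib.Helper18.PSpAut.pi_eq_one_iff]
      exact hz
    rw [Cfsg.Agent.Lib.Helper18.PSpAut.pi_eq_iff (by omega)] at h1
    rcases h1 with h1 | h1
    · refine ⟨1, one_pow n, ?_⟩
      rw [spSL_coe, h1, one_smul]
      exact Matrix.submatrix_one_equiv e
    · refine ⟨-1, ?_, ?_⟩
      · rw [hnm, ← two_mul, pow_mul]
        simp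
      · rw [spSL_coe, h1, neg_smul, one_smul]
        show (-(1 : Matrix (Fin m ⊕ Fin m) (Fin m ⊕ Fin m) F)).submatrix e e = -1
        rw [Matrix.submatrix_neg, Pi.neg_apply, Pi.neg_apply, Matrix.submatrix_one_equiv]
  -- an element whose image has order two
  have hJJ : SymplecticGroup.symJ (Fin m) F * SymplecticGroup.symJ (Fin m) F =
      Cfsg.Agent.Lib.Helper18.PSpAut.negOne := by
    apply Subtype.ext
    exact J_squared (Fin m) F
  have hx : orderOf (conjPi.comp (spSL (F := F) e) (SymplecticGroup.symJ (Fin m) F)) = 2 := by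
    haveI : Fact (Nat.Prime 2) := ⟨Nat.prime_two⟩
    apply orderOf_eq_prime
    · rw [pow_two, ← map_mul, hJJ]
      exact hZ Cfsg.Agent.Lib.Helper18.PSpAut.negOne_mem_center
    · intro h1
      rw [MonoidHom.comp_apply, conjPi_eq_one_iff hn] at h1
      obtain ⟨c, -, hc⟩ := h1
      let i0 : Fin m := ⟨0, by omega⟩
      have h4 := congrFun (congrFun hc (e.symm (Sum.inl i0))) (e.symm (Sum.inr i0))
      rw [spSL_coe, Matrix.submatrix_apply, Equiv.apply_symm_apply, Equiv.apply_symm_apply,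
        Matrix.smul_apply, Matrix.one_apply_ne (by
          intro h5
          have := e.symm.injective h5
          exact Sum.inl_ne_inr this), smul_zero] at h4
      have h6 : (SymplecticGroup.symJ (Fin m) F : Matrix (Fin m ⊕ Fin m) (Fin m ⊕ Fin m) F)
          (Sum.inl i0) (Sum.inr i0) = -1 := by
        show J (Fin m) F (Sum.inl i0) (Sum.inr i0) = -1
        unfold J
        rw [Matrix.fromBlocks_apply₁₂, Matrix.neg_apply, Matrix.one_apply_eq]
      rw [h6] at h4
      exact one_ne_zero (neg_eq_zero.1 h4)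
  exact hLs_of_quasisimple 2 (conjPi.comp (spSL (F := F) e))
    (fun N hN => by
      haveI := hN
      exact Cfsg.Agent.Lib.Helper14.PSpSimple.normal_le_center_or_eq_top (by omega) hperf N)
    hZ _ hx N (by rw [hrange]; exact hNL) (by rw [hrange]; exact hinv) hN

/-- **local balance for the standard graph involution of symplectic type** -/
theorem symp_core_trivial_std [Fintype F] (r : ℕ) [Fact r.Prime] [CharP F r] (hn : 3 ≤ n)
    (h2 : (2 : F) ≠ 0) (h3 : 3 ≤ Fintype.card F) (e : Fin n ≃ Fin m ⊕ Fin m)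
    (A : Subgroup (MulAut (ProjectiveSpecialLinearGroup (Fin n) F)))
    (hinn : Cfsg.Inn (ProjectiveSpecialLinearGroup (Fin n) F) ≤ A) :
    Cfsg.pPrimeCore 2 ↥(A ⊓ Subgroup.centralizer {thetaG (MJgl e F) (1 : RingAut F)}) = ⊥ := by
  have hnm : n = m + m := card_of_equiv e
  exact graph_core_abstract r hn _ (Sform (MJ e F) (1 : RingAut F))
    (fun s hs => thetaG_fix_of_mem (MJgl e F) _ s hs)
    (fun t ht s hs => Sform_normal (by omega) (MJgl e F) _ t ht s hs)
    (hS3_symp (by omega) h3 e)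
    (fun h τ k _ _ hfix => hS4_skew (by omega) h2 (MJgl e F) (MJ_transpose e) h τ hfix) A hinn

/-- **local balance for graph involutions of symplectic type** -/
theorem symp_core_trivial [Fintype F] (r : ℕ) [Fact r.Prime] [CharP F r] (hn : 3 ≤ n)
    (h2 : (2 : F) ≠ 0) (h3 : 3 ≤ Fintype.card F) (M : GL (Fin n) F) (hM : (M.1)ᵀ = -M.1)
    (A : Subgroup (MulAut (ProjectiveSpecialLinearGroup (Fin n) F)))
    (hinn : ∀ k : ProjectiveSpecialLinearGroup (Fin n) F, MulAut.conj k ∈ A) :
    Cfsg.pPrimeCore 2 ↥(A ⊓ Subgroup.centralizer {tauG M}) = ⊥ := by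
  have heven : Even n := by
    by_contra hodd
    exact not_skew_of_odd h2 (Nat.not_even_iff_odd.1 hodd) M hM
  obtain ⟨m, hm⟩ := heven
  let e : Fin n ≃ Fin m ⊕ Fin m := (finCongr hm).trans finSumFinEquiv.symm
  obtain ⟨k, hk⟩ := exists_congr_of_skew h2 M.1 (MJ e F) hM (MJ_transpose e)
    (Matrix.GeneralLinearGroup.det_ne_zero M) (Matrix.GeneralLinearGroup.det_ne_zero (MJgl e F))
  set d : MulAut (ProjectiveSpecialLinearGroup (Fin n) F) := conjAHom k⁻¹ with hd
  have hconj : tauG M = d * thetaG (MJgl e F) (1 : RingAut F) * d⁻¹ := by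
    have hMeq : gti k⁻¹ * MJgl e F * (k⁻¹)⁻¹ = M := by
      apply Units.ext
      rw [Units.val_mul, Units.val_mul, gti_coe, inv_inv]
      exact hk
    rw [thetaG_one, hd]
    have h1 := conj_tauG k⁻¹ (MJgl e F)
    rw [hMeq] at h1
    unfold tauG at h1 ⊢
    exact h1.symm
  rw [hconj]
  have hinn'' : Cfsg.Inn (ProjectiveSpecialLinearGroup (Fin n) F) ≤
      A.comap (MulAut.conj d).toMonoidHom := by
    rintro _ ⟨x, rfl⟩
    show d * MulAut.conj x * d⁻¹ ∈ A
    rw [conj_conj]
    exact hinn _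
  rw [← pPrimeCore_eq_bot_iff_of_equiv 2 (centralizerConjEquiv A d _)]
  exact symp_core_trivial_std r hn h2 h3 e _ hinn''

end symp

end Cfsg.Agent.Lib.Helper18.PSLnBal
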