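import Mathlib
import Cfsg.Agent.Lib.Helper18.PSLnBalI
import Cfsg.Agent.Lib.Helper25.GraphInv17
import Cfsg.Agent.Lib.Helper18.OrthGrB
import Cfsg.Agent.Lib.Helper18.OrthGrF

/-!
# Local balance for graph involutions of orthogonal type of `PSL_n(F)`: the isometry group
(helper18)
-/

set_option autoImplicit false
set_option linter.unusedSectionVars false

namespace Cfsg.Agent.Lib.Helper18.PSLnBal

open Matrix Module QuadraticMap Cfsg Cfsg.Agent.Lib.Helper18.PSLnAut
  Cfsg.Agent.Lib.Helper18.PSLnFld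
  Cfsg.Agent.Lib.Helper18.OrthBal Cfsg.Agent.Lib.Helper18.OrthMin
  Cfsg.Agent.Lib.Helper25 Cfsg.Agent.Lib.Helper25.SLRoot Cfsg.Agent.Lib.Helper25.GraphInv
  Cfsg.Agent.Lib.Helper25.CD Cfsg.Agent.Lib.Helper25.Spin Cfsg.Agent.Lib.Helper18.OrthGr

section orth

variable {n : ℕ} {F : Type*} [Field F]

/-- the quadratic form of an invertible symmetric matrix -/
noncomputable def qM (h2 : (2 : F) ≠ 0) (M : GL (Fin n) F) (hM : (M.1)ᵀ = M.1) :
    QuadraticForm F (Fin n → F) :=
  qfOf (isQF_symQ h2 M hM)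

theorem qM_apply (h2 : (2 : F) ≠ 0) (M : GL (Fin n) F) (hM : (M.1)ᵀ = M.1) (v : Fin n → F) :
    qM h2 M hM v = v ⬝ᵥ M.1 *ᵥ v := rfl

theorem qM_nondeg (h2 : (2 : F) ≠ 0) (M : GL (Fin n) F) (hM : (M.1)ᵀ = M.1) :
    (polarBilin (qM h2 M hM)).Nondegenerate :=
  qfOf_nondeg _

/-- the linear automorphism of a matrix of determinant one -/
noncomputable def slLE : SpecialLinearGroup (Fin n) F →* ((Fin n → F) ≃ₗ[F] (Fin n → F)) :=
  (toLE (ι := Fin n) (F := F)).toMonoidHom.comp Matrix.SpecialLinearGroup.toGL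

theorem slLE_apply (s : SpecialLinearGroup (Fin n) F) (v : Fin n → F) :
    slLE s v = (s : Matrix (Fin n) (Fin n) F) *ᵥ v := rfl

theorem slLE_injective : Function.Injective (slLE (n := n) (F := F)) := by
  intro a b hab
  apply Matrix.SpecialLinearGroup.toGL_injective
  exact toLE.injective hab

/-- two symmetric matrices with the same quadratic function are equal -/
theorem sym_eq_of_quad_eq (h2 : (2 : F) ≠ 0) (A B : Matrix (Fin n) (Fin n) F) (hA : Aᵀ = A)
    (hB : Bᵀ = B) (h : ∀ v : Fin n → F, v ⬝ᵥ A *ᵥ v = v ⬝ᵥ B *ᵥ v) : A = B := by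
  have hv : ∀ v : Fin n → F, v ⬝ᵥ (A - B) *ᵥ v = 0 := by
    intro v
    rw [Matrix.sub_mulVec, dotProduct_sub, h v, sub_self]
  obtain ⟨-, hs⟩ := (Cfsg.Agent.Lib.Helper15.quad_vanish_iff _).1 hv
  rw [← sub_eq_zero]
  ext i j
  have hsym : (A - B) j i = (A - B) i j := by
    have e : (A - B)ᵀ = A - B := by rw [Matrix.transpose_sub, hA, hB]
    have := congrFun (congrFun e i) j
    rwa [Matrix.transpose_apply] at this
  have h3 := hs i j
  rw [hsym] at h3
  have h4 : (2 : F) * (A - B) i j = 0 := by linear_combination h3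
  exact (mul_eq_zero.1 h4).resolve_left h2

/-- the special isometry group of a symmetric matrix in terms of the quadratic form -/
theorem mem_Sform_iff_OG (h2 : (2 : F) ≠ 0) (M : GL (Fin n) F) (hM : (M.1)ᵀ = M.1)
    (s : SpecialLinearGroup (Fin n) F) :
    s ∈ Sform M.1 (1 : RingAut F) ↔ slLE s ∈ OG (qM h2 M hM) := by
  rw [mem_Sform, adj_refl, mem_OG]
  constructor
  · intro h v
    rw [slLE_apply, qM_apply, qM_apply, dot_congr, h]
  · intro h
    apply sym_eq_of_quad_eq h2 _ _ _ hM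
    · intro v
      have h1 := h v
      rw [slLE_apply, qM_apply, qM_apply, dot_congr] at h1
      exact h1
    · rw [Matrix.transpose_mul, Matrix.transpose_mul, Matrix.transpose_transpose, hM,
        Matrix.mul_assoc]

/-- conjugation of a matrix of determinant one by an invertible matrix, as linear maps -/
theorem slLE_conjMat (g : GL (Fin n) F) (s : SpecialLinearGroup (Fin n) F) :
    slLE (conjMat g s) = toLE g * slLE s * (toLE g)⁻¹ := by
  have h1 : Matrix.SpecialLinearGroup.toGL (conjMat g s) =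
      g * Matrix.SpecialLinearGroup.toGL s * g⁻¹ := by
    apply Units.ext
    rfl
  show toLE (Matrix.SpecialLinearGroup.toGL (conjMat g s)) = _
  rw [h1, map_mul, map_mul, map_inv]
  rfl

theorem conjPi_conjMat (g : GL (Fin n) F) (s : SpecialLinearGroup (Fin n) F) :
    conjPi (conjMat g s) = conjAHom g * conjPi s * (conjAHom g)⁻¹ := by
  rw [conjPi_apply, conjPi_apply, conj_pi_eq_conjA, conj_pi_eq_conjA]
  have h1 : Matrix.SpecialLinearGroup.toGL (conjMat g s) =
      g * Matrix.SpecialLinearGroup.toGL s * g⁻¹ := by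
    apply Units.ext
    rfl
  rw [h1, map_mul, map_mul, map_inv]

/-- isometries normalise the special isometry group -/
theorem conjMat_mem_Sform (h2 : (2 : F) ≠ 0) (M : GL (Fin n) F) (hM : (M.1)ᵀ = M.1)
    (g : GL (Fin n) F) (hg : toLE g ∈ OG (qM h2 M hM)) (s : SpecialLinearGroup (Fin n) F)
    (hs : s ∈ Sform M.1 (1 : RingAut F)) : conjMat g s ∈ Sform M.1 (1 : RingAut F) := by
  rw [mem_Sform_iff_OG h2 M hM] at hs ⊢
  rw [slLE_conjMat]
  exact Subgroup.mul_mem _ (Subgroup.mul_mem _ hg hs) (Subgroup.inv_mem _ hg)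

/-- a scalar isometry has square one -/
theorem scalar_sq_of_mem_Sform (hn : 2 ≤ n) (M : GL (Fin n) F) (z : SpecialLinearGroup (Fin n) F)
    (hz : conjPi z = 1) (hzS : z ∈ Sform M.1 (1 : RingAut F)) : z * z = 1 := by
  obtain ⟨c, -, hc⟩ := (conjPi_eq_one_iff hn z).1 hz
  rw [mem_Sform, adj_refl, hc, Matrix.transpose_smul, Matrix.transpose_one, Matrix.smul_mul,
    Matrix.one_mul, Matrix.mul_smul, Matrix.mul_one, smul_smul] at hzS
  have hcc : c * c = 1 := by
    obtain ⟨i, j, hij⟩ : ∃ i j, M.1 i j ≠ 0 := exists_entry_ne_zero hn M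
    have h1 := congrFun (congrFun hzS i) j
    rw [Matrix.smul_apply, smul_eq_mul] at h1
    have h3 : (c * c - 1) * M.1 i j = 0 := by linear_combination h1
    rcases mul_eq_zero.1 h3 with h4 | h4
    · linear_combination h4
    · exact absurd h4 hij
  apply Subtype.ext
  rw [Matrix.SpecialLinearGroup.coe_mul, hc, Matrix.smul_mul, Matrix.one_mul, smul_smul, hcc,
    one_smul, Matrix.SpecialLinearGroup.coe_one]

end orth

end Cfsg.Agent.Lib.Helper18.PSLnBal
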