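import Mathlib
import Cfsg.Agent.Lib.Helper18.PSLnBalJ

/-!
# Local balance for graph involutions of orthogonal type of `PSL_n(F)`: the `2'`-core of the
isometry group (helper18)
-/

set_option autoImplicit false
set_option linter.unusedSectionVars false

namespace Cfsg.Agent.Lib.Helper18.PSLnBal

open Matrix Module QuadraticMap Cfsg Cfsg.Agent.Lib.Helper18.PSLnAut
  Cfsg.Agent.Lib.Helper18.PSLnFld
  Cfsg.Agent.Lib.Helper18.OrthBal Cfsg.Agent.Lib.Helper18.OrthMin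
  Cfsg.Agent.Lib.Helper25 Cfsg.Agent.Lib.Helper25.SLRoot Cfsg.Agent.Lib.Helper25.GraphInv
  Cfsg.Agent.Lib.Helper25.CD Cfsg.Agent.Lib.Helper25.Spin Cfsg.Agent.Lib.Helper18.OrthGr

section orth

variable {n : ℕ} {F : Type*} [Field F]

/-- the Gram matrix identity of an isometry -/
theorem gram_of_mem_OG (h2 : (2 : F) ≠ 0) (M : GL (Fin n) F) (hM : (M.1)ᵀ = M.1)
    (D : GL (Fin n) F) (hD : toLE D ∈ OG (qM h2 M hM)) : (D.1)ᵀ * M.1 * D.1 = M.1 := by
  apply sym_eq_of_quad_eq h2 _ _ _ hM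
  · intro v
    have h1 := mem_OG.1 hD v
    rw [toLE_apply, qM_apply, qM_apply, dot_congr] at h1
    exact h1
  · rw [Matrix.transpose_mul, Matrix.transpose_mul, Matrix.transpose_transpose, hM,
      Matrix.mul_assoc]

theorem det_mul_self_of_mem_OG (h2 : (2 : F) ≠ 0) (M : GL (Fin n) F) (hM : (M.1)ᵀ = M.1)
    (D : GL (Fin n) F) (hD : toLE D ∈ OG (qM h2 M hM)) : D.1.det * D.1.det = 1 := by
  have h1 := congrArg Matrix.det (gram_of_mem_OG h2 M hM D hD)
  rw [Matrix.det_mul, Matrix.det_mul, Matrix.det_transpose] at h1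
  have hMd : M.1.det ≠ 0 := Matrix.GeneralLinearGroup.det_ne_zero M
  apply mul_right_cancel₀ hMd
  linear_combination h1

/-- the square of an isometry, as a matrix of determinant one -/
theorem exists_sl_sq (h2 : (2 : F) ≠ 0) (M : GL (Fin n) F) (hM : (M.1)ᵀ = M.1)
    (d : (Fin n → F) ≃ₗ[F] (Fin n → F)) (hd : d ∈ OG (qM h2 M hM)) :
    ∃ s : SpecialLinearGroup (Fin n) F, s ∈ Sform M.1 (1 : RingAut F) ∧ slLE s = d * d := by
  obtain ⟨D, hD⟩ : ∃ D : GL (Fin n) F, toLE D = d := ⟨toLE.symm d, MulEquiv.apply_symm_apply _ _⟩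
  have hD' : toLE D ∈ OG (qM h2 M hM) := by rw [hD]; exact hd
  have hdet : ((D * D : GL (Fin n) F) : Matrix (Fin n) (Fin n) F).det = 1 := by
    rw [Units.val_mul, Matrix.det_mul]
    exact det_mul_self_of_mem_OG h2 M hM D hD'
  obtain ⟨s, hs⟩ : ∃ s : SpecialLinearGroup (Fin n) F,
      (s : Matrix (Fin n) (Fin n) F) = ((D * D : GL (Fin n) F) : Matrix (Fin n) (Fin n) F) :=
    ⟨⟨_, hdet⟩, rfl⟩
  have hsl : slLE s = d * d := by
    apply LinearEquiv.ext
    intro v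
    rw [slLE_apply, hs, ← hD, ← map_mul, toLE_apply]
  refine ⟨s, ?_, hsl⟩
  rw [mem_Sform_iff_OG h2 M hM, hsl]
  exact Subgroup.mul_mem _ hd hd

/-- elements with trivial image commute with everything -/
theorem comm_of_conjPi_eq_one (hn : 2 ≤ n) (z : SpecialLinearGroup (Fin n) F)
    (hz : conjPi z = 1) (x : SpecialLinearGroup (Fin n) F) : x * z = z * x := by
  obtain ⟨c, -, hc⟩ := (conjPi_eq_one_iff hn z).1 hz
  apply Subtype.ext
  rw [Matrix.SpecialLinearGroup.coe_mul, Matrix.SpecialLinearGroup.coe_mul, hc, Matrix.mul_smul,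
    Matrix.smul_mul, Matrix.mul_one, Matrix.one_mul]

set_option maxHeartbeats 800000 in
/-- **`O_{2'}` of the image of the special isometry group is trivial** -/
theorem core_Lorth [Fintype F] (hn : 3 ≤ n) (h2 : (2 : F) ≠ 0) (M : GL (Fin n) F)
    (hM : (M.1)ᵀ = M.1) :
    Cfsg.pPrimeCore 2 ↥((Sform M.1 (1 : RingAut F)).map (conjPi (n := n) (F := F))) = ⊥ := by
  have hn2 : 2 ≤ n := by omega
  have hfinK : Finite (MulAut (ProjectiveSpecialLinearGroup (Fin n) F)) := by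
    have : Finite (ProjectiveSpecialLinearGroup (Fin n) F) := inferInstance
    exact Finite.of_injective (fun e : MulAut (ProjectiveSpecialLinearGroup (Fin n) F) =>
      (e : ProjectiveSpecialLinearGroup (Fin n) F → ProjectiveSpecialLinearGroup (Fin n) F))
      (fun a b h => MulEquiv.ext (congrFun h))
  obtain ⟨S, hS⟩ : ∃ S : Subgroup (SpecialLinearGroup (Fin n) F),
      S = Sform M.1 (1 : RingAut F) := ⟨_, rfl⟩
  rw [← hS]
  obtain ⟨L, hL⟩ : ∃ L : Subgroup (MulAut (ProjectiveSpecialLinearGroup (Fin n) F)),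
      L = S.map conjPi := ⟨_, rfl⟩
  rw [← hL]
  obtain ⟨Q, hQdef⟩ : ∃ Q : QuadraticForm F (Fin n → F), Q = qM h2 M hM := ⟨_, rfl⟩
  have hQ : (polarBilin Q).Nondegenerate := by rw [hQdef]; exact qM_nondeg h2 M hM
  have hSQ : ∀ s : SpecialLinearGroup (Fin n) F, s ∈ S ↔ slLE s ∈ OG Q := by
    intro s
    rw [hS, hQdef]
    exact mem_Sform_iff_OG h2 M hM s
  obtain ⟨P₁, hP₁⟩ : ∃ P₁ : Subgroup (MulAut (ProjectiveSpecialLinearGroup (Fin n) F)),
      P₁ = (Cfsg.pPrimeCore 2 ↥L).map L.subtype := ⟨_, rfl⟩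
  suffices hsuff : P₁ = ⊥ by
    rw [hP₁] at hsuff
    exact (Subgroup.map_eq_bot_iff_of_injective _ L.subtype_injective).1 hsuff
  have hP₁L : P₁ ≤ L := by
    rw [hP₁]
    rintro _ ⟨x, -, rfl⟩
    exact x.2
  have hP₁odd : Odd (Nat.card ↥P₁) := by
    rw [hP₁, Subgroup.card_map_of_injective L.subtype_injective]
    exact Nat.coprime_two_right.1
      (Cfsg.Agent.Lib.Helper12.pPrimeCore_coprime (X := ↥L) 2)
  have hLconj : ∀ g : GL (Fin n) F, toLE g ∈ OG Q → ∀ l ∈ L,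
      conjAHom g * l * (conjAHom g)⁻¹ ∈ L := by
    intro g hg l hl
    rw [hL] at hl ⊢
    obtain ⟨s, hs, rfl⟩ := hl
    refine ⟨conjMat g s, ?_, conjPi_conjMat g s⟩
    rw [hS] at hs ⊢
    rw [hQdef] at hg
    exact conjMat_mem_Sform h2 M hM g hg s hs
  have hP₁conj : ∀ g : GL (Fin n) F, toLE g ∈ OG Q → ∀ y ∈ P₁,
      conjAHom g * y * (conjAHom g)⁻¹ ∈ P₁ := by
    intro g hg y hy
    rw [hP₁] at hy ⊢
    apply core_conj_invariant 2 L (fun l hl => hLconj g hg l hl) _ hy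
    intro l hl
    have hg' : toLE g⁻¹ ∈ OG Q := by
      rw [map_inv]
      exact Subgroup.inv_mem _ hg
    have := hLconj g⁻¹ hg' l hl
    rwa [map_inv, inv_inv] at this
  -- the preimage
  obtain ⟨Pt, hPt⟩ : ∃ Pt : Subgroup (SpecialLinearGroup (Fin n) F),
      Pt = S ⊓ P₁.comap conjPi := ⟨_, rfl⟩
  have hPtS : ∀ x ∈ Pt, x ∈ S := fun x hx => by rw [hPt] at hx; exact hx.1
  have hPtP : ∀ x ∈ Pt, conjPi x ∈ P₁ := fun x hx => by rw [hPt] at hx; exact hx.2
  obtain ⟨H₁, hH₁P, hH₁odd, hH₁all, hH₁cover⟩ := odd_part' Pt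
    ((conjPi (n := n) (F := F)).ker ⊓ Pt) inf_le_right
    (by
      rintro z ⟨hz1, -⟩ x -
      exact comm_of_conjPi_eq_one hn2 z (MonoidHom.mem_ker.1 hz1) x)
    (by
      rintro z ⟨hz1, hz2⟩
      have hzS := hPtS z hz2
      rw [hS] at hzS
      exact scalar_sq_of_mem_Sform hn2 M z (MonoidHom.mem_ker.1 hz1) hzS)
    (by
      intro x hx
      refine ⟨Nat.card ↥P₁, hP₁odd, ?_, Pt.pow_mem hx _⟩
      show x ^ Nat.card ↥P₁ ∈ (conjPi (n := n) (F := F)).ker
      rw [MonoidHom.mem_ker, map_pow]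
      exact Cfsg.Agent.Lib.Helper18.OrthGr.pow_card_eq_one P₁ (hPtP x hx))
  -- the odd part is trivial
  have hfr : finrank F (Fin n → F) = n := by
    rw [Module.finrank_fintype_fun_eq_card, Fintype.card_fin]
  have hN : H₁.map (slLE (n := n) (F := F)) = ⊥ := by
    apply odd_normal_trivial h2 n (Fin n → F) Q hfr (by omega) hQ
    · rintro _ ⟨h, hh, rfl⟩
      exact (hSQ h).1 (hPtS h (hH₁P hh))
    · rintro _ ⟨h, hh, rfl⟩
      obtain ⟨k, hk, hhk⟩ := hH₁odd h hh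
      exact ⟨k, hk, by rw [← map_pow, hhk, map_one]⟩
    · rintro u hu _ ⟨h, hh, rfl⟩
      obtain ⟨g, hg⟩ : ∃ g : GL (Fin n) F, toLE g = reflE Q u :=
        ⟨toLE.symm (reflE Q u), MulEquiv.apply_symm_apply _ _⟩
      have hgO : toLE g ∈ OG Q := by
        rw [hg]
        exact reflE_mem_OG Q u
      refine ⟨conjMat g h, ?_, by rw [slLE_conjMat, hg]⟩
      apply hH₁all
      · rw [hPt]
        refine ⟨?_, ?_⟩
        · have hhS := hPtS h (hH₁P hh)
          rw [hS] at hhS ⊢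
          rw [hQdef] at hgO
          exact conjMat_mem_Sform h2 M hM g hgO h hhS
        · show conjPi (conjMat g h) ∈ P₁
          rw [conjPi_conjMat]
          exact hP₁conj g hgO _ (hPtP h (hH₁P hh))
      · obtain ⟨k, hk, hhk⟩ := hH₁odd h hh
        refine ⟨k, hk, ?_⟩
        have h5 := map_pow (conjS g) h k
        rw [hhk, map_one] at h5
        exact h5.symm
  have hH₁ : H₁ = ⊥ := by
    rw [eq_bot_iff]
    intro h hh
    have h1 : slLE h ∈ H₁.map (slLE (n := n) (F := F)) := ⟨h, hh, rfl⟩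
    rw [hN, Subgroup.mem_bot] at h1
    rw [Subgroup.mem_bot]
    exact slLE_injective (h1.trans (map_one _).symm)
  rw [eq_bot_iff]
  intro p hp
  rw [Subgroup.mem_bot]
  have hpL := hP₁L hp
  rw [hL] at hpL
  obtain ⟨s, hsS, rfl⟩ := hpL
  have hsPt : s ∈ Pt := by
    rw [hPt]
    exact ⟨hsS, hp⟩
  obtain ⟨z, hz, hsz⟩ := hH₁cover s hsPt
  rw [hH₁, Subgroup.mem_bot] at hsz
  have h1 : s = z⁻¹ := eq_inv_of_mul_eq_one_left hsz
  rw [h1, map_inv, inv_eq_one]
  exact MonoidHom.mem_ker.1 hz.1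

end orth

end Cfsg.Agent.Lib.Helper18.PSLnBal
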