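import Mathlib
import Cfsg.Agent.Lib.Helper18.PSLnBalK

/-!
# Local balance for graph involutions of orthogonal type of `PSL_n(F)`: conclusion (helper18)
-/

set_option autoImplicit false
set_option linter.unusedSectionVars false

namespace Cfsg.Agent.Lib.Helper18.PSLnBal

open Matrix Module QuadraticMap Cfsg Cfsg.Agent.Lib.Helper18.PSLnAut
  Cfsg.Agent.Lib.Helper18.PSLnFld
  Cfsg.Agent.Lib.Helper18.OrthBal Cfsg.Agent.Lib.Helper18.OrthMin
  Cfsg.Agent.Lib.Helper25 Cfsg.Agent.Lib.Helper25.SLRoot Cfsg.Agent.Lib.Helper25.GraphInv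
  Cfsg.Agent.Lib.Helper25.CD Cfsg.Agent.Lib.Helper25.Spin Cfsg.Agent.Lib.Helper18.OrthGr

section unip

variable {n : ℕ} {F : Type*} [Field F]

/-- a semilinear automorphism fixing the image of an element of order dividing the
characteristic fixes the element itself -/
theorem fix_unipotent (r : ℕ) [Fact r.Prime] [CharP F r] (hn : 1 ≤ n) (h : GL (Fin n) F)
    (τ : RingAut F) (s : SpecialLinearGroup (Fin n) F) (hs : s ^ r = 1)
    (hfix : conjA h (fieldA τ (pi s)) = pi s) : conjMat h (fieldS τ s) = s := by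
  rw [fieldA_pi, conjA_pi, pi_eq_iff] at hfix
  obtain ⟨c, -, h1⟩ := hfix
  have hs' : (conjMat h (fieldS τ s)) ^ r = 1 := by
    have h3 := map_pow ((fieldS τ).trans (conjS h)) s r
    rw [hs, map_one] at h3
    exact h3.symm
  have h4 : ((s ^ r : SpecialLinearGroup (Fin n) F) : Matrix (Fin n) (Fin n) F) =
      c ^ r • (((conjMat h (fieldS τ s)) ^ r : SpecialLinearGroup (Fin n) F) :
        Matrix (Fin n) (Fin n) F) := by
    rw [Matrix.SpecialLinearGroup.coe_pow, Matrix.SpecialLinearGroup.coe_pow, h1, smul_pow]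
  rw [hs, hs', Matrix.SpecialLinearGroup.coe_one] at h4
  have hcr : c ^ r = 1 := by
    have h5 := congrFun (congrFun h4 ⟨0, by omega⟩) ⟨0, by omega⟩
    rw [Matrix.smul_apply, Matrix.one_apply_eq, smul_eq_mul, mul_one] at h5
    exact h5.symm
  have hc1 : c = 1 := by
    have h6 : (c - 1) ^ r = 0 := by rw [sub_pow_char, hcr, one_pow, sub_self]
    exact sub_eq_zero.1 (pow_eq_zero_iff (Fact.out : r.Prime).ne_zero |>.1 h6)
  apply Subtype.ext
  rw [h1, hc1, one_smul]

/-- a semilinear map whose conjugation fixes a matrix commutes with it -/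
theorem semi_comm_of_fix (h : GL (Fin n) F) (τ : RingAut F) (s : SpecialLinearGroup (Fin n) F)
    (hs : conjMat h (fieldS τ s) = s) (v : Fin n → F) :
    (h : Matrix (Fin n) (Fin n) F) *ᵥ (fun i => τ (((s : Matrix (Fin n) (Fin n) F) *ᵥ v) i)) =
      (s : Matrix (Fin n) (Fin n) F) *ᵥ ((h : Matrix (Fin n) (Fin n) F) *ᵥ fun i => τ (v i)) := by
  have h1 := congrArg (fun x : SpecialLinearGroup (Fin n) F => (x : Matrix (Fin n) (Fin n) F)) hs
  simp only [conjMat_coe, fieldS_coe] at h1
  rw [map_mulVec τ (s : Matrix (Fin n) (Fin n) F) v]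
  conv_rhs => rw [← h1]
  rw [Matrix.mulVec_mulVec, Matrix.mulVec_mulVec, Matrix.mul_assoc, Matrix.mul_assoc, gl_inv_mul,
    Matrix.mul_one]

end unip

section orth

variable {n : ℕ} {F : Type*} [Field F]

set_option maxHeartbeats 800000 in
/-- no semilinear automorphism centralises the image of the orthogonal group -/
theorem hS4_orth [Fintype F] (r : ℕ) [Fact r.Prime] [CharP F r] (hn : 3 ≤ n) (h2 : (2 : F) ≠ 0)
    (M : GL (Fin n) F) (hM : (M.1)ᵀ = M.1) (h : GL (Fin n) F) (τ : RingAut F)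
    (hfix : ∀ s ∈ Sform M.1 (1 : RingAut F), conjA h (fieldA τ (pi s)) = pi s) :
    conjAHom h * fieldAHom (n := n) τ = 1 := by
  have hn2 : 2 ≤ n := by omega
  obtain ⟨Q, hQdef⟩ : ∃ Q : QuadraticForm F (Fin n → F), Q = qM h2 M hM := ⟨_, rfl⟩
  have hQ : (polarBilin Q).Nondegenerate := by rw [hQdef]; exact qM_nondeg h2 M hM
  let T : (Fin n → F) →+ (Fin n → F) :=
    AddMonoidHom.mk' (fun v => (h : Matrix (Fin n) (Fin n) F) *ᵥ (fun i => τ (v i))) (by
      intro a b
      have h1 : (fun i => τ ((a + b) i)) = (fun i => τ (a i)) + (fun i => τ (b i)) := by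
        funext i
        simp
      show (h : Matrix (Fin n) (Fin n) F) *ᵥ (fun i => τ ((a + b) i)) = _
      rw [h1, Matrix.mulVec_add])
  have hTdef : ∀ v, T v = (h : Matrix (Fin n) (Fin n) F) *ᵥ (fun i => τ (v i)) := fun v => rfl
  have hT : CommEich Q T := by
    intro e a c he ha hae x
    obtain ⟨d, hd, hdx⟩ := exists_fourth_eq_eich Q h2 ha he hae c
    rw [hQdef] at hd
    obtain ⟨s2, hs2S, hs2⟩ := exists_sl_sq h2 M hM d hd
    have hd4 : d * d * (d * d) = d ^ 4 := by
      simp only [pow_succ, pow_zero, one_mul, mul_assoc]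
    have hs4 : ∀ y, ((s2 * s2 : SpecialLinearGroup (Fin n) F) : Matrix (Fin n) (Fin n) F) *ᵥ y =
        eich Q e a c y := by
      intro y
      rw [← slLE_apply, map_mul, hs2, hd4, hdx]
    have key : ∀ (k : ℕ) (y : Fin n → F),
        ((slLE (s2 * s2 : SpecialLinearGroup (Fin n) F)) ^ k) y = eich Q e a (k • c) y := by
      intro k
      induction k with
      | zero =>
        intro y
        rw [pow_zero, zero_smul, eich_zero]
        rfl
      | succ k ih =>
        intro y
        rw [pow_succ, LinearEquiv.mul_apply, ih, slLE_apply, hs4, eich_comp Q he hae, succ_nsmul]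
    have hsr : (s2 * s2) ^ r = 1 := by
      apply slLE_injective
      rw [map_pow, map_one]
      apply LinearEquiv.ext
      intro y
      rw [key r y]
      have h0 : r • c = 0 := by
        rw [nsmul_eq_mul, CharP.cast_eq_zero F r, zero_mul]
      rw [h0, eich_zero]
      rfl
    have hfix' := fix_unipotent r (by omega) h τ (s2 * s2) hsr
      (hfix _ (Subgroup.mul_mem _ hs2S hs2S))
    have h5 := semi_comm_of_fix h τ (s2 * s2) hfix' x
    rw [hs4] at h5
    rw [hTdef, hTdef, h5, hs4]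
  have hfr : 3 ≤ finrank F (Fin n → F) := by
    rw [Module.finrank_fintype_fun_eq_card, Fintype.card_fin]
    exact hn
  obtain ⟨t, ht⟩ := scalar_of_commEich Q h2 hQ hfr T hT
  have hpar : ∀ v₀ : Fin n → F, v₀ ≠ 0 → ∃ a : F, a ≠ 0 ∧
      (h : Matrix (Fin n) (Fin n) F) *ᵥ (fun i => τ ((RingHom.id F) (v₀ i))) =
        a • (fun i => (RingHom.id F) (v₀ i)) := by
    intro v hv
    have h1 := ht v
    rw [hTdef] at h1
    refine ⟨t, ?_, h1⟩
    intro ht0
    rw [ht0, zero_smul] at h1
    apply hv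
    have h3 := congrArg (fun w => ((h⁻¹ : GL (Fin n) F) : Matrix (Fin n) (Fin n) F) *ᵥ w) h1
    simp only [Matrix.mulVec_mulVec, gl_inv_mul, Matrix.one_mulVec, Matrix.mulVec_zero] at h3
    funext i
    have h4 := congrFun h3 i
    simpa using h4
  obtain ⟨h1, h3⟩ := scalar_of_par hn2 (RingHom.id F) h τ hpar
  have hτ : τ = 1 := by
    ext b
    exact h1 b
  rw [h3, hτ, map_one, one_mul]

/-- **local balance for graph involutions of orthogonal type** -/
theorem orth_core_trivial [Fintype F] (r : ℕ) [Fact r.Prime] [CharP F r] (hn : 3 ≤ n)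
    (h2 : (2 : F) ≠ 0) (M : GL (Fin n) F) (hM : (M.1)ᵀ = M.1)
    (A : Subgroup (MulAut (ProjectiveSpecialLinearGroup (Fin n) F)))
    (hinn : ∀ k : ProjectiveSpecialLinearGroup (Fin n) F, MulAut.conj k ∈ A) :
    Cfsg.pPrimeCore 2 ↥(A ⊓ Subgroup.centralizer {tauG M}) = ⊥ := by
  haveI : Fact (Nat.Prime 2) := ⟨Nat.prime_two⟩
  have hfinK : Finite (MulAut (ProjectiveSpecialLinearGroup (Fin n) F)) := by
    have : Finite (ProjectiveSpecialLinearGroup (Fin n) F) := inferInstance
    exact Finite.of_injective (fun e : MulAut (ProjectiveSpecialLinearGroup (Fin n) F) =>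
      (e : ProjectiveSpecialLinearGroup (Fin n) F → ProjectiveSpecialLinearGroup (Fin n) F))
      (fun a b h => MulEquiv.ext (congrFun h))
  have h1 : tauG M = thetaG M (1 : RingAut F) := by
    rw [thetaG_one]
    rfl
  rw [h1]
  have hinn' : Cfsg.Inn (ProjectiveSpecialLinearGroup (Fin n) F) ≤ A := by
    rintro _ ⟨k, rfl⟩
    exact hinn k
  exact graph_core_abstract r hn _ (Sform M.1 (1 : RingAut F))
    (fun s hs => thetaG_fix_of_mem M _ s hs)
    (fun t ht s hs => Sform_normal (by omega) M _ t ht s hs)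
    (hLs_of_core 2 _ (core_Lorth hn h2 M hM))
    (fun h τ k _ _ hfix => hS4_orth r hn h2 M hM h τ hfix) A hinn'

end orth

end Cfsg.Agent.Lib.Helper18.PSLnBal
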