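import Mathlib
import Cfsg.Agent.Lib.Helper18.PSLnBalL
import Cfsg.Agent.Lib.Helper18.PSLnFldG
import Cfsg.Agent.Lib.Helper18.OrthBalC
import Cfsg.Agent.Lib.Helper5.PSUSimple

/-!
# Local balance for graph-field involutions of `PSL_n(F)`: the unitary group (helper18)
-/

set_option autoImplicit false
set_option linter.unusedSectionVars false

namespace Cfsg.Agent.Lib.Helper18.PSLnBal

open Matrix Cfsg Cfsg.Agent.Lib.Helper18.PSLnAut
  Cfsg.Agent.Lib.Helper18.PSLnFld
  Cfsg.Agent.Lib.Helper18.OrthBal Cfsg.Agent.Lib.Helper18.OrthMin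
  Cfsg.Agent.Lib.Helper25 Cfsg.Agent.Lib.Helper25.SLRoot
  Cfsg.Agent.Lib.Helper5.UForm Cfsg.Agent.Lib.Helper5.HermBridge Cfsg.Agent.Lib.Helper5.SUGen

section tv

variable {n : ℕ} {F : Type*} [Field F]

/-- a semilinear automorphism fixing the image of a transvection maps its direction to a
proportional vector (arbitrary parameter) -/
theorem par_of_fix_tvSL_c (hn : 2 ≤ n) (g : GL (Fin n) F) (τ : F ≃+* F) {v φ : Fin n → F}
    (h : φ ⬝ᵥ v = 0) (hv : v ≠ 0) (hφ : φ ≠ 0) {c : F} (hc : c ≠ 0)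
    (hfix : conjA g (fieldA τ (pi (tvSL v φ h c))) = pi (tvSL v φ h c)) :
    ∃ a : F, a ≠ 0 ∧ (g : Matrix (Fin n) (Fin n) F) *ᵥ (fun i => τ (v i)) = a • v := by
  have h' : (fun i => τ (φ i)) ⬝ᵥ (fun i => τ (v i)) = 0 := by rw [map_dot, h, map_zero]
  rw [fieldA_pi, fieldS_tvSL τ h c h', conjA_pi, conjMat_tvSL] at hfix
  exact par_of_pi_tvSL_eq hn _ h _ c hv hφ hc hfix

end tv

section unit

variable {n : ℕ} {F : Type*} [Field F] [Fintype F] {q : ℕ}

/-- the special unitary group as the isometry group of the standard hermitian matrix -/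
theorem mem_SU_iff_Sform (hF : Fintype.card F = q ^ 2) (s : SpecialLinearGroup (Fin n) F) :
    s ∈ Cfsg.SU n F q ↔ s ∈ Sform (1 : Matrix (Fin n) (Fin n) F) (frobQ hF) := by
  have hρ : ∀ a, frobQ hF a = a ^ q := fun a => rfl
  have hρ2 : ∀ a, frobQ hF (frobQ hF a) = a := fun a => pow_q_pow_q hF a
  have h1 : s ∈ Cfsg.SU n F q ↔ Matrix.SpecialLinearGroup.toGL s ∈ Cfsg.GU n F q := Iff.rfl
  rw [h1, mem_GU_iff_gram (frobQ hF) q hρ, gram_eq_one_iff (frobQ hF) hρ2, mem_Sform,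
    Matrix.mul_one]
  rfl

theorem SU_eq_Sform (hF : Fintype.card F = q ^ 2) :
    Cfsg.SU n F q = Sform (1 : Matrix (Fin n) (Fin n) F) (frobQ hF) := by
  ext s
  exact mem_SU_iff_Sform hF s

/-- a semilinear automorphism fixing the image of the special unitary group fixes the isotropic
points -/
theorem par_of_fix_SU (hF : Fintype.card F = q ^ 2) (hn : 2 ≤ n) (h : GL (Fin n) F)
    (τ : RingAut F)
    (hfix : ∀ s ∈ Cfsg.SU n F q, conjA h (fieldA τ (pi s)) = pi s)
    (v : Fin n → F) (hv : v ≠ 0) (hvv : Cfsg.hermForm n F q v v = 0) :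
    ∃ a : F, a ≠ 0 ∧ (h : Matrix (Fin n) (Fin n) F) *ᵥ (fun i => τ (v i)) = a • v := by
  have hf := herm_unitary (n := n) hF
  obtain ⟨c, hc0, hc⟩ := exists_skew hf.involutive hf.ne_refl
  obtain ⟨A, hA⟩ := exists_tv hF hvv hc
  have h0 : (fun j => v j ^ q) ⬝ᵥ v = 0 := by rw [pow_dot, hvv]
  have hφ : (fun j => v j ^ q) ≠ 0 := by
    intro h1
    apply hv
    funext i
    have h3 := congrFun h1 i
    exact pow_eq_zero_iff (by
      rintro rfl
      rw [zero_pow (by norm_num)] at hF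
      exact Fintype.card_ne_zero hF) |>.1 h3
  have hAeq : (A : SpecialLinearGroup (Fin n) F) = tvSL v (fun j => v j ^ q) h0 c := by
    apply Subtype.ext
    rw [hA, tvSL_coe]
    rfl
  have h1 := hfix _ A.2
  rw [hAeq] at h1
  exact par_of_fix_tvSL_c hn h τ h0 hv hφ hc0 h1

end unit

end Cfsg.Agent.Lib.Helper18.PSLnBal
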