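import Mathlib
import Cfsg.Agent.Lib.Helper18.PSLnBalM

/-!
# Local balance for graph-field involutions of `PSL_n(F)`: semilinear maps fixing the isotropic
points (helper18)
-/

set_option autoImplicit false
set_option linter.unusedSectionVars false

namespace Cfsg.Agent.Lib.Helper18.PSLnBal

open Matrix Cfsg Cfsg.Agent.Lib.Helper18.PSLnAut
  Cfsg.Agent.Lib.Helper18.PSLnFld
  Cfsg.Agent.Lib.Helper18.OrthBal Cfsg.Agent.Lib.Helper18.OrthMin
  Cfsg.Agent.Lib.Helper25 Cfsg.Agent.Lib.Helper25.SLRoot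
  Cfsg.Agent.Lib.Helper5.UForm Cfsg.Agent.Lib.Helper5.HermBridge Cfsg.Agent.Lib.Helper5.SUGen

section unit

variable {n : ℕ} {F : Type*} [Field F] [Fintype F] {q : ℕ}

set_option maxHeartbeats 1600000 in
/-- a semilinear map of odd order fixing all isotropic points is a scalar -/
theorem scalar_of_iso_par (hF : Fintype.card F = q ^ 2) (hn : 3 ≤ n) (h : GL (Fin n) F)
    (τ : RingAut F) (k : ℕ) (hk : Odd k) (hτ : τ ^ k = 1)
    (hpar : ∀ v : Fin n → F, v ≠ 0 → Cfsg.hermForm n F q v v = 0 →
      ∃ a : F, a ≠ 0 ∧ (h : Matrix (Fin n) (Fin n) F) *ᵥ (fun i => τ (v i)) = a • v) :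
    conjAHom h * fieldAHom (n := n) τ = 1 := by
  have hn2 : 2 ≤ n := by omega
  have hf := herm_unitary (n := n) hF
  obtain ⟨f, hfdef⟩ : ∃ f : (Fin n → F) → (Fin n → F) → F, f = Cfsg.hermForm n F q := ⟨_, rfl⟩
  obtain ⟨σ, hσdef⟩ : ∃ σ : F ≃+* F, σ = frobQ hF := ⟨_, rfl⟩
  rw [← hfdef] at hpar
  rw [← hfdef, ← hσdef] at hf
  obtain ⟨T, hTdef⟩ : ∃ T : (Fin n → F) → (Fin n → F),
      T = fun x => (h : Matrix (Fin n) (Fin n) F) *ᵥ (fun i => τ (x i)) := ⟨_, rfl⟩
  have hT : ∀ x, (h : Matrix (Fin n) (Fin n) F) *ᵥ (fun i => τ (x i)) = T x := by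
    intro x
    rw [hTdef]
  have hTadd : ∀ x y, T (x + y) = T x + T y := by
    intro x y
    rw [hTdef]
    show (h : Matrix (Fin n) (Fin n) F) *ᵥ (fun i => τ ((x + y) i)) = _
    have h1 : (fun i => τ ((x + y) i)) = (fun i => τ (x i)) + (fun i => τ (y i)) := by
      funext i
      simp
    rw [h1, Matrix.mulVec_add]
  have hTsmul : ∀ (l : F) x, T (l • x) = τ l • T x := by
    intro l x
    rw [hTdef]
    show (h : Matrix (Fin n) (Fin n) F) *ᵥ (fun i => τ ((l • x) i)) = _
    have h1 : (fun i => τ ((l • x) i)) = τ l • (fun i => τ (x i)) := by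
      funext i
      simp
    rw [h1, Matrix.mulVec_smul]
  simp only [hT] at hpar
  have htop : Module.finrank F (⊤ : Submodule F (Fin n → F)) = n := by
    rw [finrank_top, Module.finrank_fin_fun]
  obtain ⟨e, -, e', -, hee, he'e', h1⟩ := exists_hyp hf (ND_top hf) (by omega)
  have he0 : e ≠ 0 := by
    intro h0
    rw [h0, u_zero_left hf] at h1
    exact zero_ne_one h1
  have he'0 : e' ≠ 0 := by
    intro h0
    rw [h0, u_zero_right hf] at h1
    exact zero_ne_one h1
  have hfe'e : f e' e = 1 := by rw [hf.herm, h1, map_one]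
  obtain ⟨a, ha0, ha⟩ := hpar e he0 hee
  obtain ⟨a', ha'0, ha'⟩ := hpar e' he'0 he'e'
  -- the relation on skew elements
  have key : ∀ l : F, σ l = -l → τ l * a' = a * l := by
    intro l hl
    have hiso : f (e + l • e') (e + l • e') = 0 := by
      rw [u_expand hf, hee, he'e', h1, hfe'e, hl]
      ring
    have hne : e + l • e' ≠ 0 := by
      intro h0
      have h3 : f (e + l • e') e' = 1 := by
        rw [hf.add_left, hf.smul_left, h1, he'e', mul_zero, add_zero]
      rw [h0, u_zero_left hf] at h3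
      exact zero_ne_one h3
    obtain ⟨b, -, hb⟩ := hpar _ hne hiso
    rw [hTadd, hTsmul, ha, ha'] at hb
    have hb1 := congrArg (fun x => f x e') hb
    simp only [hf.add_left, hf.smul_left, h1, he'e'] at hb1
    have hb2 := congrArg (fun x => f x e) hb
    simp only [hf.add_left, hf.smul_left, hee, hfe'e] at hb2
    have hba : b = a := by linear_combination -hb1
    rw [hba] at hb2
    linear_combination hb2
  obtain ⟨c, hc0, hc⟩ := exists_skew hf.involutive hf.ne_refl
  have hfixτ : ∀ μ, σ μ = μ → τ μ = μ := by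
    intro μ hμ
    have h3 := key (μ * c) (by rw [map_mul, hμ, hc]; ring)
    have h4 := key c hc
    rw [map_mul] at h3
    have h5 : (τ μ - μ) * (a * c) = 0 := by linear_combination h3 - (τ μ) * h4
    rcases mul_eq_zero.1 h5 with h6 | h6
    · exact sub_eq_zero.1 h6
    · exact absurd h6 (mul_ne_zero ha0 hc0)
  have hτz : τ ∈ Subgroup.zpowers (σ : RingAut F) := mem_zpowers_of_fix σ τ hfixτ
  have hτ1 : τ = 1 := by
    obtain ⟨j, hj⟩ := Subgroup.mem_zpowers_iff.1 hτz
    have hσ2 : (σ : RingAut F) ^ 2 = 1 := by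
      ext x
      show σ (σ x) = x
      exact hf.involutive x
    have hτ2 : τ ^ 2 = 1 := by
      rw [← hj, ← zpow_natCast, ← _root_.zpow_mul, mul_comm, _root_.zpow_mul, zpow_natCast, hσ2,
        _root_.one_zpow]
    have h7 : orderOf τ ∣ Nat.gcd 2 k :=
      Nat.dvd_gcd (orderOf_dvd_of_pow_eq_one hτ2) (orderOf_dvd_of_pow_eq_one hτ)
    have h8 : Nat.gcd 2 k = 1 := Nat.coprime_two_left.2 hk
    rw [h8] at h7
    exact orderOf_eq_one_iff.1 (Nat.dvd_one.1 h7)
  -- now the map is linear
  have hT1 : ∀ x, T x = (h : Matrix (Fin n) (Fin n) F) *ᵥ x := by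
    intro x
    rw [hTdef, hτ1]
    rfl
  have hTs : ∀ (l : F) x, T (l • x) = l • T x := by
    intro l x
    rw [hTsmul, hτ1]
    rfl
  have hall : ∀ w, f w w = 0 → T w = a • w := by
    intro w hww
    by_cases hw0 : w = 0
    · rw [hw0, hT1, Matrix.mulVec_zero, smul_zero]
    obtain ⟨aw, -, haw⟩ := hpar w hw0 hww
    obtain ⟨l, hl0, hl⟩ := exists_iso_comb hf hee hww
    by_cases hne : e + l • w = 0
    · have hw : w = (-l⁻¹) • e := by
        have h3 : l • w = -e := eq_neg_of_add_eq_zero_right hne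
        calc w = l⁻¹ • (l • w) := by rw [smul_smul, inv_mul_cancel₀ hl0, one_smul]
          _ = _ := by rw [h3, smul_neg, neg_smul]
      rw [hw, hTs, ha, smul_smul, smul_smul, mul_comm]
    · obtain ⟨b, -, hb⟩ := hpar _ hne hl
      rw [hTadd, hTs, ha, haw] at hb
      have h9 : (a - b) • e + (l * (aw - b)) • w = 0 := by
        have h10 : a • e + l • aw • w - b • (e + l • w) = 0 := sub_eq_zero.2 hb
        rw [← h10]
        module
      have h10 := congrArg T h9
      rw [hTadd, hTs, hTs, ha, haw, hT1 0, Matrix.mulVec_zero] at h10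
      have h11 : ((a - b) * (a - aw)) • e = 0 := by
        have h12 : (a - b) • a • e + (l * (aw - b)) • aw • w -
            aw • ((a - b) • e + (l * (aw - b)) • w) = 0 := by
          rw [h10, h9, smul_zero, sub_zero]
        rw [← h12]
        module
      rcases smul_eq_zero.1 h11 with h12 | h12
      · rcases mul_eq_zero.1 h12 with h13 | h13
        · have hab : a = b := sub_eq_zero.1 h13
          rw [hab, sub_self, zero_smul, zero_add] at h9
          rcases smul_eq_zero.1 h9 with h14 | h14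
          · rcases mul_eq_zero.1 h14 with h15 | h15
            · exact absurd h15 hl0
            · have : aw = b := sub_eq_zero.1 h15
              rw [haw, this, hab]
          · exact absurd h14 hw0
        · have : a = aw := sub_eq_zero.1 h13
          rw [haw, this]
      · exact absurd h12 he0
  have hx : ∀ x, T x = a • x := by
    intro x
    obtain ⟨b₁, -, b₂, -, b₃, -, hb₁, hb₂, hb₃, hsum⟩ :=
      exists_iso_decomp hf (ND_top hf) (by omega) (Submodule.mem_top (x := x))
    rw [hsum, hTadd, hTadd, hall b₁ hb₁, hall b₂ hb₂, hall b₃ hb₃, smul_add, smul_add]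
  have hpar' : ∀ v₀ : Fin n → F, v₀ ≠ 0 → ∃ a : F, a ≠ 0 ∧
      (h : Matrix (Fin n) (Fin n) F) *ᵥ (fun i => (1 : RingAut F) ((RingHom.id F) (v₀ i))) =
        a • (fun i => (RingHom.id F) (v₀ i)) := by
    intro v _
    refine ⟨a, ha0, ?_⟩
    have := hx v
    rw [hT1] at this
    exact this
  obtain ⟨-, h3⟩ := scalar_of_par hn2 (RingHom.id F) h (1 : RingAut F) hpar'
  rw [h3, hτ1, map_one, one_mul]

end unit

end Cfsg.Agent.Lib.Helper18.PSLnBal
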