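import Mathlib
import Cfsg.Agent.Lib.Helper18.PSLnBalN

/-!
# Local balance for graph-field involutions of `PSL_n(F)`: conclusion (helper18)
-/

set_option autoImplicit false
set_option linter.unusedSectionVars false

namespace Cfsg.Agent.Lib.Helper18.PSLnBal

open Matrix Cfsg Cfsg.Agent.Lib.Helper18.PSLnAut
  Cfsg.Agent.Lib.Helper18.PSLnFld
  Cfsg.Agent.Lib.Helper18.OrthBal Cfsg.Agent.Lib.Helper18.OrthMin
  Cfsg.Agent.Lib.Helper25 Cfsg.Agent.Lib.Helper25.SLRoot
  Cfsg.Agent.Lib.Helper5.UForm Cfsg.Agent.Lib.Helper5.HermBridge Cfsg.Agent.Lib.Helper5.SUGen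

section invol

variable {n : ℕ} {F : Type*} [Field F]

/-- the diagonal entries of the standard involution `diag(-1,-1,1,…,1)` -/
def dInv (i0 i1 : Fin n) (i : Fin n) : F :=
  (if i = i0 then -1 else 1) * (if i = i1 then -1 else 1)

theorem dInv_mul_self (i0 i1 i : Fin n) : dInv (F := F) i0 i1 i * dInv i0 i1 i = 1 := by
  unfold dInv
  split_ifs <;> ring

theorem dInv_map (σ : RingAut F) (i0 i1 i : Fin n) : σ (dInv (F := F) i0 i1 i) = dInv i0 i1 i := by
  unfold dInv
  split_ifs <;> simp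

theorem dInv_prod (i0 i1 : Fin n) : ∏ i, dInv (F := F) i0 i1 i = 1 := by
  unfold dInv
  rw [Finset.prod_mul_distrib, Finset.prod_ite_eq', Finset.prod_ite_eq']
  simp

/-- the standard involution as a matrix of determinant one -/
def sInv (i0 i1 : Fin n) : SpecialLinearGroup (Fin n) F :=
  ⟨Matrix.diagonal (dInv i0 i1), by rw [Matrix.det_diagonal, dInv_prod]⟩

theorem sInv_coe (i0 i1 : Fin n) :
    ((sInv (F := F) i0 i1 : SpecialLinearGroup (Fin n) F) : Matrix (Fin n) (Fin n) F) =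
      Matrix.diagonal (dInv i0 i1) := rfl

theorem sInv_mul_self (i0 i1 : Fin n) : sInv (F := F) i0 i1 * sInv i0 i1 = 1 := by
  apply Subtype.ext
  rw [Matrix.SpecialLinearGroup.coe_mul, sInv_coe, Matrix.diagonal_mul_diagonal,
    Matrix.SpecialLinearGroup.coe_one, ← Matrix.diagonal_one]
  congr 1
  funext i
  exact dInv_mul_self i0 i1 i

theorem sInv_mem_Sform (σ : RingAut F) (i0 i1 : Fin n) :
    sInv (F := F) i0 i1 ∈ Sform (1 : Matrix (Fin n) (Fin n) F) σ := by
  rw [mem_Sform, Matrix.mul_one]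
  have h1 : adj σ (Matrix.diagonal (dInv (F := F) i0 i1)) = Matrix.diagonal (dInv i0 i1) := by
    ext i j
    by_cases hij : i = j
    · subst hij
      rw [adj_apply, Matrix.diagonal_apply_eq, dInv_map]
    · rw [adj_apply, Matrix.diagonal_apply_ne _ (Ne.symm hij), Matrix.diagonal_apply_ne _ hij,
        map_zero]
  rw [sInv_coe, h1, Matrix.diagonal_mul_diagonal, ← Matrix.diagonal_one]
  congr 1
  funext i
  exact dInv_mul_self i0 i1 i

theorem conjPi_sInv_ne_one (hn : 3 ≤ n) (h2 : (2 : F) ≠ 0) :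
    conjPi (sInv (F := F) (⟨0, by omega⟩ : Fin n) ⟨1, by omega⟩) ≠ 1 := by
  intro h1
  rw [conjPi_eq_one_iff (by omega)] at h1
  obtain ⟨c, -, hc⟩ := h1
  have e0 := congrFun (congrFun hc (⟨0, by omega⟩ : Fin n)) ⟨0, by omega⟩
  have e2 := congrFun (congrFun hc (⟨2, by omega⟩ : Fin n)) ⟨2, by omega⟩
  rw [sInv_coe, Matrix.diagonal_apply_eq, Matrix.smul_apply, Matrix.one_apply_eq, smul_eq_mul,
    mul_one] at e0 e2
  have h3 : dInv (F := F) (⟨0, by omega⟩ : Fin n) ⟨1, by omega⟩ ⟨0, by omega⟩ = -1 := by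
    unfold dInv
    rw [if_pos rfl, if_neg (by
      intro h
      have := congrArg Fin.val h
      simp at this), mul_one]
  have h4 : dInv (F := F) (⟨0, by omega⟩ : Fin n) ⟨1, by omega⟩ ⟨2, by omega⟩ = 1 := by
    unfold dInv
    rw [if_neg (by
      intro h
      have := congrArg Fin.val h
      simp at this), if_neg (by
      intro h
      have := congrArg Fin.val h
      simp at this), mul_one]
  rw [h3] at e0
  rw [h4] at e2
  apply h2
  linear_combination e2 - e0

end invol

section unit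

variable {n : ℕ} {F : Type*} [Field F] [Fintype F] {q : ℕ}

/-- the centre of the special unitary group acts trivially -/
theorem center_SU_le_ker (hF : Fintype.card F = q ^ 2) (hn : 3 ≤ n) :
    Subgroup.center ↥(Cfsg.SU n F q) ≤
      ((conjPi (n := n) (F := F)).comp (Cfsg.SU n F q).subtype).ker := by
  intro z hz
  rw [MonoidHom.mem_ker, MonoidHom.comp_apply, Subgroup.coe_subtype, conjPi_apply,
    conj_pi_eq_conjA]
  have hfix : ∀ s ∈ Cfsg.SU n F q, conjA (Matrix.SpecialLinearGroup.toGL z.1)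
      (fieldA (1 : RingAut F) (pi s)) = pi s := by
    intro s hs
    have h1 : fieldA (1 : RingAut F) (pi s) = pi s := by
      rw [fieldA_pi]
      congr 1
    rw [h1]
    have h3 : conjA (Matrix.SpecialLinearGroup.toGL z.1) (pi s) =
        (conjAHom (Matrix.SpecialLinearGroup.toGL z.1)) (pi s) := rfl
    rw [h3, ← conj_pi_eq_conjA, MulAut.conj_apply, ← map_mul, ← map_inv, ← map_mul]
    congr 1
    have h4 := (Subgroup.mem_center_iff.1 hz) ⟨s, hs⟩
    have h5 : s * z.1 = z.1 * s := congrArg Subtype.val h4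
    rw [← h5, mul_inv_cancel_right]
  have h6 := scalar_of_iso_par hF hn (Matrix.SpecialLinearGroup.toGL z.1) (1 : RingAut F) 1
    odd_one (one_pow 1)
    (fun v hv hvv => par_of_fix_SU hF (by omega) _ _ hfix v hv hvv)
  rw [map_one, mul_one] at h6
  exact h6

/-- the normal subgroups of the image of the special unitary group have even order -/
theorem hS3_unit (hF : Fintype.card F = q ^ 2) (hn : 3 ≤ n) (h2 : (2 : F) ≠ 0)
    (N : Subgroup (MulAut (ProjectiveSpecialLinearGroup (Fin n) F)))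
    (hNL : N ≤ (Cfsg.SU n F q).map conjPi)
    (hinv : ∀ l ∈ (Cfsg.SU n F q).map conjPi, ∀ x ∈ N, l * x * l⁻¹ ∈ N)
    (hN : N ≠ ⊥) : 2 ∣ Nat.card ↥N := by
  have hrange : ((conjPi (n := n) (F := F)).comp (Cfsg.SU n F q).subtype).range =
      (Cfsg.SU n F q).map conjPi := by
    rw [← MonoidHom.map_range, Subgroup.range_subtype]
  have h32 : ¬ (n = 3 ∧ q = 2) := by
    rintro ⟨-, rfl⟩
    haveI : Fact (Nat.Prime 2) := ⟨Nat.prime_two⟩
    have : CharP F 2 := charP_of_card_eq_prime_pow hF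
    apply h2
    have := CharP.cast_eq_zero F 2
    exact_mod_cast this
  let x : ↥(Cfsg.SU n F q) :=
    ⟨sInv (⟨0, by omega⟩ : Fin n) ⟨1, by omega⟩, by
      rw [mem_SU_iff_Sform hF]
      exact sInv_mem_Sform _ _ _⟩
  have hx : orderOf (((conjPi (n := n) (F := F)).comp (Cfsg.SU n F q).subtype) x) = 2 := by
    haveI : Fact (Nat.Prime 2) := ⟨Nat.prime_two⟩
    apply orderOf_eq_prime
    · rw [pow_two, ← map_mul]
      have : x * x = 1 := by
        apply Subtype.ext
        exact sInv_mul_self _ _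
      rw [this, map_one]
    · exact conjPi_sInv_ne_one hn h2
  exact hLs_of_quasisimple 2 ((conjPi (n := n) (F := F)).comp (Cfsg.SU n F q).subtype)
    (fun N hN => by
      haveI := hN
      exact Cfsg.Agent.Lib.Helper5.PSUSimple.normal_le_center_or_eq_top hF hn h32 N)
    (center_SU_le_ker hF hn) x hx N (by rw [hrange]; exact hNL) (by rw [hrange]; exact hinv) hN

/-- **local balance for the standard graph-field involution** -/
theorem unit_core_trivial_std (r : ℕ) [Fact r.Prime] [CharP F r] (hF : Fintype.card F = q ^ 2)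
    (hn : 3 ≤ n) (h2 : (2 : F) ≠ 0)
    (A : Subgroup (MulAut (ProjectiveSpecialLinearGroup (Fin n) F)))
    (hinn : Cfsg.Inn (ProjectiveSpecialLinearGroup (Fin n) F) ≤ A) :
    Cfsg.pPrimeCore 2 ↥(A ⊓ Subgroup.centralizer {psiA (n := n) (frobQ hF)}) = ⊥ := by
  have h1 : psiA (n := n) (frobQ hF) = thetaG (1 : GL (Fin n) F) (frobQ hF) := by
    unfold thetaG
    rw [inv_one, map_one, one_mul]
  rw [h1]
  have hS : Sform (((1 : GL (Fin n) F)) : Matrix (Fin n) (Fin n) F) (frobQ hF) =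
      Cfsg.SU n F q := (SU_eq_Sform hF).symm
  exact graph_core_abstract r hn _
    (Sform (((1 : GL (Fin n) F)) : Matrix (Fin n) (Fin n) F) (frobQ hF))
    (fun s hs => thetaG_fix_of_mem (1 : GL (Fin n) F) _ s hs)
    (fun t ht s hs => Sform_normal (by omega) (1 : GL (Fin n) F) _ t ht s hs)
    (by
      rw [hS]
      exact hS3_unit hF hn h2)
    (fun h τ k hk hτ hfix => scalar_of_iso_par hF hn h τ k hk hτ
      (fun v hv hvv => par_of_fix_SU hF (by omega) h τ (by rw [← hS]; exact hfix) v hv hvv))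
    A hinn

/-- **local balance for graph-field involutions** -/
theorem unit_core_trivial (r : ℕ) [Fact r.Prime] [CharP F r] (hn : 3 ≤ n) (h2 : (2 : F) ≠ 0)
    (σ : RingAut F) (hσ : orderOf σ = 2) (g : GL (Fin n) F)
    (hg : (conjAHom g * psiA σ) ^ 2 = 1)
    (A : Subgroup (MulAut (ProjectiveSpecialLinearGroup (Fin n) F)))
    (hinn : ∀ k : ProjectiveSpecialLinearGroup (Fin n) F, MulAut.conj k ∈ A) :
    Cfsg.pPrimeCore 2 ↥(A ⊓ Subgroup.centralizer {conjAHom g * psiA σ}) = ⊥ := by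
  obtain ⟨f, -, hFc⟩ := FiniteField.card F r
  obtain ⟨hev, hσa⟩ := involution_apply (p := r) (f := (f : ℕ)) hFc σ hσ
  have hFq : Fintype.card F = (r ^ ((f : ℕ) / 2)) ^ 2 := by
    rw [← pow_mul, Nat.div_mul_cancel (even_iff_two_dvd.1 hev)]
    exact hFc
  have hσeq : σ = frobQ hFq := by
    ext a
    exact hσa a
  obtain ⟨h, hh⟩ := gf_coset_conj (by omega) σ hσ g hg
  rw [hh, hσeq]
  set d : MulAut (ProjectiveSpecialLinearGroup (Fin n) F) := conjAHom h with hd
  have hinn'' : Cfsg.Inn (ProjectiveSpecialLinearGroup (Fin n) F) ≤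
      A.comap (MulAut.conj d).toMonoidHom := by
    rintro _ ⟨x, rfl⟩
    show d * MulAut.conj x * d⁻¹ ∈ A
    rw [conj_conj]
    exact hinn _
  rw [← pPrimeCore_eq_bot_iff_of_equiv 2 (centralizerConjEquiv A d _)]
  exact unit_core_trivial_std r hFq hn h2 _ hinn''

end unit

end Cfsg.Agent.Lib.Helper18.PSLnBal
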