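import Mathlib
import Cfsg.Agent.Lib.Helper18.PSLnBalO
import Cfsg.Agent.Lib.Helper18.PSLnMain

/-!
# Local balance for `PSL_n(F)`: the criterion for automorphisms outside the inner-diagonal group
(helper18)
-/

set_option autoImplicit false
set_option linter.unusedSectionVars false

namespace Cfsg.Agent.Lib.Helper18.PSLnBal

open Matrix Cfsg Cfsg.Agent.Lib.Helper18.PSLnAut
  Cfsg.Agent.Lib.Helper18.PSLnFld
  Cfsg.Agent.Lib.Helper18.OrthBal Cfsg.Agent.Lib.Helper18.OrthMin
  Cfsg.Agent.Lib.Helper25 Cfsg.Agent.Lib.Helper25.SLRoot Cfsg.Agent.Lib.Helper25.GraphInv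

section main

variable {n : ℕ} {F : Type*} [Field F] [Fintype F]

/-- the decomposition of an automorphism, keeping track of the rank in the graph case -/
theorem aut_decomp_graph (r : ℕ) [Fact r.Prime] [CharP F r] (hn : 2 ≤ n)
    (β : MulAut (ProjectiveSpecialLinearGroup (Fin n) F)) :
    (∃ (g : GL (Fin n) F) (σ : RingAut F), β = conjAHom g * fieldAHom σ) ∨
      (3 ≤ n ∧ ∃ (g : GL (Fin n) F) (σ : RingAut F), β = conjAHom g * psiA σ) := by
  rcases Nat.lt_or_ge n 3 with h | h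
  · obtain rfl : n = 2 := by omega
    obtain ⟨g, σ, hg⟩ := aut_decomp_two r β
    left
    refine ⟨g, σ, ?_⟩
    ext x
    rw [hg x]
    rfl
  · obtain ⟨g, σ, γ, hγ, hg⟩ := aut_decomp_three r h β
    rcases hγ with rfl | rfl
    · left
      refine ⟨g, σ, ?_⟩
      ext x
      rw [hg x]
      rfl
    · right
      refine ⟨h, g, σ, ?_⟩
      ext x
      rw [hg x]
      rfl

/-- a graph-type automorphism of prime order is an involution, and the field part has square
one -/
theorem graph_order_two (r : ℕ) [Fact r.Prime] [CharP F r] (hn : 3 ≤ n) (g : GL (Fin n) F)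
    (σ : RingAut F) {p : ℕ} (hp : p.Prime) (hord : orderOf (conjAHom g * psiA (n := n) σ) = p) :
    p = 2 ∧ σ * σ = 1 := by
  obtain ⟨Φ, hΦ1, hΦ2⟩ := exists_autHom (n := n) (F := F) r hn
  have hΦg : Φ (conjAHom g) = 1 := by
    rw [← MonoidHom.mem_ker, hΦ2]
    exact ⟨g, rfl⟩
  have hψ : psiA (n := n) σ = fgHom (σ, Multiplicative.ofAdd 1) := by
    rw [fgHom_apply]
    rcases itHom_one_or (n := n) (F := F) (Multiplicative.ofAdd 1) with ⟨h1, -⟩ | ⟨-, h1⟩
    · exact absurd h1 (by decide)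
    · rw [h1]
      rfl
  have hΦβ : Φ (conjAHom g * psiA (n := n) σ) = (σ, Multiplicative.ofAdd 1) := by
    rw [map_mul, hΦg, one_mul, hψ, hΦ1]
  have hpow : (conjAHom g * psiA (n := n) σ) ^ p = 1 := by
    rw [← hord]
    exact pow_orderOf_eq_one _
  have h1 := congrArg Φ hpow
  rw [map_pow, hΦβ, map_one Φ] at h1
  have h3 : σ ^ p = 1 := congrArg Prod.fst h1
  have h4 : (Multiplicative.ofAdd (1 : ZMod 2)) ^ p = 1 := congrArg Prod.snd h1
  have hp2 : p = 2 := by
    rcases hp.eq_two_or_odd' with h5 | h5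
    · exact h5
    · exfalso
      obtain ⟨j, rfl⟩ := h5
      have h6 : ∀ y : Multiplicative (ZMod 2), y * y = 1 := by decide
      rw [pow_succ, pow_mul, pow_two, h6, one_pow, one_mul] at h4
      exact absurd h4 (by decide)
  refine ⟨hp2, ?_⟩
  rw [hp2, pow_two] at h3
  exact h3

/-- a graph-type automorphism is not of field type -/
theorem graph_not_field (r : ℕ) [Fact r.Prime] [CharP F r] (hn : 3 ≤ n) (g : GL (Fin n) F)
    (σ : RingAut F) :
    ¬ ∃ γ φ : MulAut (ProjectiveSpecialLinearGroup (Fin n) F), Cfsg.IsInnerDiagonalAutPSL γ ∧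
      Cfsg.IsFieldAutPSL φ ∧ conjAHom g * psiA (n := n) σ = φ.trans γ := by
  rintro ⟨γ, φ, hγ, ⟨σ', hφ⟩, heq⟩
  obtain ⟨g', rfl⟩ := (isInnerDiagonal_iff γ).1 hγ
  have hφ' : φ = fieldAHom σ' := (isStdField_iff σ' φ).1 hφ
  rw [hφ'] at heq
  obtain ⟨Φ, hΦ1, hΦ2⟩ := exists_autHom (n := n) (F := F) r hn
  have hΦc : ∀ k : GL (Fin n) F, Φ (conjAHom k) = 1 := by
    intro k
    rw [← MonoidHom.mem_ker, hΦ2]
    exact ⟨k, rfl⟩
  have hψ : psiA (n := n) σ = fgHom (σ, Multiplicative.ofAdd 1) := by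
    rw [fgHom_apply]
    rcases itHom_one_or (n := n) (F := F) (Multiplicative.ofAdd 1) with ⟨h1, -⟩ | ⟨-, h1⟩
    · exact absurd h1 (by decide)
    · rw [h1]
      rfl
  have hf : fieldAHom (n := n) σ' = fgHom (σ', 1) := by
    rw [fgHom_apply, map_one, mul_one]
  have h1 : (fieldAHom (n := n) σ').trans (conjAHom g') = conjAHom g' * fieldAHom σ' := rfl
  rw [h1] at heq
  have h3 := congrArg Φ heq
  rw [map_mul, map_mul, hΦc, hΦc, one_mul, one_mul, hψ, hf, hΦ1, hΦ1] at h3
  have h4 : Multiplicative.ofAdd (1 : ZMod 2) = 1 := congrArg Prod.snd h3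
  exact absurd h4 (by decide)

set_option maxHeartbeats 800000 in
/-- **local balance for `PSL_n(F)`**: the criterion for automorphisms of prime order outside the
inner-diagonal group -/
theorem psl_balance (r : ℕ) [Fact r.Prime] [CharP F r] (hn : 2 ≤ n)
    (A : Subgroup (MulAut (ProjectiveSpecialLinearGroup (Fin n) F)))
    (hinn : ∀ k : ProjectiveSpecialLinearGroup (Fin n) F, MulAut.conj k ∈ A)
    (p : ℕ) [Fact p.Prime] (hpr : p ≠ r)
    (β : MulAut (ProjectiveSpecialLinearGroup (Fin n) F)) (hord : orderOf β = p)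
    (hnot : ¬ Cfsg.IsInnerDiagonalAutPSL β) :
    Cfsg.pPrimeCore p ↥(A ⊓ Subgroup.centralizer {β}) ≠ ⊥ ↔
      ((∃ γ φ : MulAut (ProjectiveSpecialLinearGroup (Fin n) F), Cfsg.IsInnerDiagonalAutPSL γ ∧
        Cfsg.IsFieldAutPSL φ ∧ β = φ.trans γ) ∧
        Nat.Coprime p (Nat.card ↥(MonoidHom.eqLocus β.toMonoidHom
          (MonoidHom.id (ProjectiveSpecialLinearGroup (Fin n) F))))) := by
  have hp : p.Prime := Fact.out
  rcases aut_decomp_graph r hn β with ⟨g, σ, rfl⟩ | ⟨hn3, g, σ, rfl⟩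
  · have hσ1 : σ ≠ 1 := by
      rintro rfl
      apply hnot
      rw [isInnerDiagonal_iff]
      exact ⟨g, by rw [map_one, mul_one]⟩
    have h1 : ∃ γ φ : MulAut (ProjectiveSpecialLinearGroup (Fin n) F),
        Cfsg.IsInnerDiagonalAutPSL γ ∧ Cfsg.IsFieldAutPSL φ ∧
          conjAHom g * fieldAHom (n := n) σ = φ.trans γ :=
      ⟨conjAHom g, fieldAHom σ, (isInnerDiagonal_iff _).2 ⟨g, rfl⟩,
        ⟨σ, (isStdField_iff σ _).2 rfl⟩, rfl⟩
    rw [psl_balance_field r hn A hinn hpr g σ hσ1 hord]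
    exact ⟨fun h => ⟨h1, h⟩, fun h => h.2⟩
  · obtain ⟨hp2, hσσ⟩ := graph_order_two r hn3 g σ hp hord
    subst hp2
    have hr2 : r ≠ 2 := fun h => hpr h.symm
    have h2 : (2 : F) ≠ 0 := by
      intro h
      have h3 : ((2 : ℕ) : F) = 0 := by exact_mod_cast h
      have h4 := (CharP.cast_eq_zero_iff F r 2).1 h3
      exact hr2 ((Nat.prime_dvd_prime_iff_eq (Fact.out : r.Prime) Nat.prime_two).1 h4)
    have h3F : 3 ≤ Fintype.card F := by
      obtain ⟨f, hrp, hFc⟩ := FiniteField.card F r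
      rw [hFc]
      have h5 : 3 ≤ r := by
        have := hrp.two_le
        omega
      calc 3 ≤ r := h5
        _ = r ^ 1 := (pow_one r).symm
        _ ≤ r ^ (f : ℕ) := Nat.pow_le_pow_right (by omega) f.pos
    have hpow : (conjAHom g * psiA (n := n) σ) ^ 2 = 1 := by
      rw [← hord]
      exact pow_orderOf_eq_one _
    have hcore : Cfsg.pPrimeCore 2 ↥(A ⊓ Subgroup.centralizer {conjAHom g * psiA (n := n) σ}) =
        ⊥ := by
      by_cases hσ1 : σ = 1
      · subst hσ1
        have hβ : conjAHom g * psiA (n := n) (1 : RingAut F) = tauG g⁻¹ := by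
          unfold tauG psiA
          rw [map_one, one_mul, inv_inv]
        rw [hβ] at hord ⊢
        rcases transpose_eq_of_orderOf hn g⁻¹ hord with hM | hM
        · exact orth_core_trivial r hn3 h2 g⁻¹ hM A hinn
        · exact symp_core_trivial r hn3 h2 h3F g⁻¹ hM A hinn
      · have hσ2 : orderOf σ = 2 := by
          haveI : Fact (Nat.Prime 2) := ⟨Nat.prime_two⟩
          apply orderOf_eq_prime
          · rw [pow_two]
            exact hσσ
          · exact hσ1
        exact unit_core_trivial r hn3 h2 σ hσ2 g hpow A hinn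
    constructor
    · intro h
      exact absurd hcore h
    · rintro ⟨h, -⟩
      exact absurd h (graph_not_field r hn3 g σ)

end main

end Cfsg.Agent.Lib.Helper18.PSLnBal
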