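import Mathlib
import Cfsg.Agent.Lib.Helper18.PSLnFldC

/-!
A Lang-type theorem for unitary similitudes and a field automorphism of odd order (helper18).
-/

set_option autoImplicit false

namespace Cfsg.Agent.Lib.Helper18.PSUFld

open Matrix Cfsg.Agent.Lib.Helper18.PSLnFld

section field

variable {F : Type*} [Field F]

theorem nrm_add_of_order (σ : RingAut F) (r : ℕ) (hσ : orderOf σ = r) (a : F) (j : ℕ) :
    nrm σ a (r + j) = nrm σ a r * nrm σ a j := by
  induction j with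
  | zero => rw [add_zero, nrm_zero, mul_one]
  | succ j ih =>
    rw [← add_assoc, nrm_succ, ih, map_mul, nrm_fixed σ r hσ, nrm_succ]
    ring

theorem nrm_comm_fixed (σ ρ : RingAut F) (hcomm : ∀ a, σ (ρ a) = ρ (σ a)) (e : F)
    (he : ρ e = e) (i : ℕ) : ρ (nrm σ e i) = nrm σ e i := by
  induction i with
  | zero => rw [nrm_zero, map_one]
  | succ i ih => rw [nrm_succ, map_mul, he, ← hcomm, ih]

theorem nrm_mul_eq (σ ρ : RingAut F) (hcomm : ∀ a, σ (ρ a) = ρ (σ a)) (e : F)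
    (he : ρ e = e) (i : ℕ) : nrm (σ * ρ) e i = nrm σ e i := by
  induction i with
  | zero => rw [nrm_zero, nrm_zero]
  | succ i ih =>
    rw [nrm_succ, nrm_succ, ih]
    show e * σ (ρ (nrm σ e i)) = _
    rw [nrm_comm_fixed σ ρ hcomm e he]

theorem iterate_fixed (τ : RingAut F) (e t : F) (h : e * τ t = t) (i : ℕ) :
    nrm τ e i * (τ ^ i) t = t := by
  induction i with
  | zero => rw [nrm_zero, one_mul]; rfl
  | succ i ih =>
    rw [nrm_succ, pow_succ']
    show e * τ (nrm τ e i) * τ ((τ ^ i) t) = t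
    rw [mul_assoc, ← map_mul, ih, h]

/-- Hilbert 90 with an extra involution: a solution fixed by the involution. -/
theorem exists_fixed_both (σ ρ : RingAut F) (r : ℕ) (hσ : orderOf σ = r) (hro : Odd r)
    (hρ : orderOf ρ = 2) (hcomm : ∀ a, σ (ρ a) = ρ (σ a)) (e : F) (he : ρ e = e)
    (hnrm : nrm σ e r = 1) : ∃ t : F, t ≠ 0 ∧ ρ t = t ∧ e * σ t = t := by
  have hc : Commute σ ρ := by
    apply RingEquiv.ext
    intro a
    exact hcomm a
  have hr : 0 < r := hro.pos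
  have hτ : orderOf (σ * ρ) = 2 * r := by
    rw [hc.orderOf_mul_eq_mul_orderOf_of_coprime, hσ, hρ, mul_comm]
    rw [hσ, hρ]
    exact (Nat.coprime_two_right.2 hro)
  have hn2 : nrm (σ * ρ) e (2 * r) = 1 := by
    rw [nrm_mul_eq σ ρ hcomm e he, two_mul, nrm_add_of_order σ r hσ, hnrm, one_mul]
  obtain ⟨t, ht0, ht⟩ := exists_fixed_of_nrm_eq_one (σ * ρ) (2 * r) hτ (by omega) e hn2
  have h1 := iterate_fixed (σ * ρ) e t ht r
  rw [nrm_mul_eq σ ρ hcomm e he, hnrm, one_mul, hc.mul_pow, ← hσ, pow_orderOf_eq_one, one_mul] at h1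
  have hρr : ρ ^ orderOf σ = ρ := by
    rw [hσ]
    obtain ⟨k, hk⟩ := hro
    rw [hk, pow_succ, pow_mul, ← hρ, pow_orderOf_eq_one, one_pow, one_mul]
  rw [hρr] at h1
  refine ⟨t, ht0, h1, ?_⟩
  have h2 : e * σ (ρ t) = t := ht
  rwa [h1] at h2

end field

section matrix

variable {F : Type*} [Field F] {F₀ : Type*} [Field F₀] {n : ℕ}

theorem iterate_entryM (σ : RingAut F) (M : Matrix (Fin n) (Fin n) F) (lam : F)
    (h : M.map σ = lam • M) (i : ℕ) (a b : Fin n) :
    (σ ^ i) (M a b) = M a b * nrm σ lam i := by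
  induction i with
  | zero => rw [nrm_zero, mul_one]; rfl
  | succ i ih =>
    rw [pow_succ']
    show σ ((σ ^ i) (M a b)) = _
    rw [ih, map_mul, nrm_succ]
    have h1 := congrFun (congrFun h a) b
    rw [Matrix.map_apply, Matrix.smul_apply, smul_eq_mul] at h1
    rw [h1]
    ring

theorem map_map_comm (σ ρ : RingAut F) (hcomm : ∀ a, σ (ρ a) = ρ (σ a))
    (M : Matrix (Fin n) (Fin n) F) : (M.map σ).map ρ = (M.map ρ).map σ := by
  ext a b
  simp only [Matrix.map_apply]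
  exact (hcomm _).symm

theorem map_smul' (σ : RingAut F) (c : F) (M : Matrix (Fin n) (Fin n) F) :
    (c • M).map σ = σ c • M.map σ := by
  ext a b
  simp

theorem gram_multiplier_fixed (ρ : RingAut F) (hρ2 : ∀ a, ρ (ρ a) = a) (hn : 0 < n)
    (M : Matrix (Fin n) (Fin n) F) (c : F)
    (hc : Mᵀ * M.map ρ = c • (1 : Matrix (Fin n) (Fin n) F)) : ρ c = c := by
  have h1 : (Mᵀ * M.map ρ).map ρ = (ρ c • (1 : Matrix (Fin n) (Fin n) F)) := by
    rw [hc, map_smul']
    congr 1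
    ext a b
    by_cases hab : a = b
    · subst hab; simp
    · simp [hab]
  have h2 : ((Mᵀ * M.map ρ).map ρ)ᵀ = Mᵀ * M.map ρ := by
    rw [Matrix.map_mul, Matrix.transpose_mul, Matrix.transpose_map, Matrix.transpose_transpose]
    congr 1
    ext a b
    simp only [Matrix.map_apply, Matrix.transpose_apply]
    exact hρ2 _
  rw [h1, hc, Matrix.transpose_smul, Matrix.transpose_one] at h2
  have h3 := congrFun (congrFun h2 ⟨0, hn⟩) ⟨0, hn⟩
  simpa using h3

/-- **Lang's theorem for unitary similitudes** and a field automorphism of odd order, up to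
scalars. -/
theorem gus_lang [Finite F] [Finite F₀] (hn : 0 < n) (σ ρ : RingAut F) (r : ℕ)
    (hσ : orderOf σ = r) (hro : Odd r) (hρo : orderOf ρ = 2)
    (hcomm : ∀ a, σ (ρ a) = ρ (σ a))
    (ι : F₀ →+* F) (hι : ∀ a : F, σ a = a ↔ a ∈ Set.range ι)
    (ρ₀ : RingAut F₀) (hρ₀ : orderOf ρ₀ = 2) (hρι : ∀ b, ρ (ι b) = ι (ρ₀ b))
    (A : ℕ → Matrix (Fin n) (Fin n) F) (hA0 : A 0 = 1)
    (hA : ∀ i, A (i + 1) = A 1 * (A i).map σ) (μ : F) (hμ : μ ≠ 0)
    (hAr : A r = μ • (1 : Matrix (Fin n) (Fin n) F)) (c : F) (hc0 : c ≠ 0)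
    (hc : (A 1)ᵀ * (A 1).map ρ = c • (1 : Matrix (Fin n) (Fin n) F)) :
    ∃ (h : Matrix (Fin n) (Fin n) F) (ν d : F), IsUnit h ∧ ν ≠ 0 ∧ d ≠ 0 ∧
      A 1 * h.map σ = ν • h ∧ hᵀ * h.map ρ = d • (1 : Matrix (Fin n) (Fin n) F) := by
  have hr : 0 < r := hro.pos
  have hρ2 : ∀ a, ρ (ρ a) = a := by
    intro a
    have h1 : ρ ^ 2 = 1 := by rw [← hρo]; exact pow_orderOf_eq_one ρ
    have h2 : (ρ ^ 2) a = a := by rw [h1]; rfl
    rwa [pow_two] at h2
  obtain ⟨h₁, ν, hh₁, hν0, hfix⟩ := exists_matrix_fixed_scalar hn σ r hσ hr A hA0 hA μ hμ hAr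
  set M : Matrix (Fin n) (Fin n) F := h₁ᵀ * h₁.map ρ with hMdef
  have hcfix : ρ c = c := gram_multiplier_fixed ρ hρ2 hn (A 1) c hc
  have hMσ : M.map σ = (ν * ρ ν * c⁻¹) • M := by
    have h1 : (A 1 * h₁.map σ)ᵀ * (A 1 * h₁.map σ).map ρ = c • M.map σ := by
      rw [Matrix.transpose_mul, Matrix.map_mul]
      calc (h₁.map σ)ᵀ * (A 1)ᵀ * ((A 1).map ρ * (h₁.map σ).map ρ)
          = (h₁.map σ)ᵀ * ((A 1)ᵀ * (A 1).map ρ) * (h₁.map σ).map ρ := by
            simp only [Matrix.mul_assoc]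
        _ = c • ((h₁.map σ)ᵀ * (h₁.map σ).map ρ) := by
            rw [hc, Matrix.mul_smul, Matrix.smul_mul, Matrix.mul_one]
        _ = c • M.map σ := by
            rw [hMdef, Matrix.map_mul, map_map_comm σ ρ hcomm, Matrix.transpose_map]
    rw [hfix, Matrix.transpose_smul, map_smul', Matrix.smul_mul, Matrix.mul_smul,
      smul_smul] at h1
    have h2 : c⁻¹ • (c • M.map σ) = M.map σ := by
      rw [smul_smul, inv_mul_cancel₀ hc0, one_smul]
    rw [← h2, ← h1, smul_smul]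
    congr 1
    ring
  have hMu : IsUnit M := by
    have hTu : IsUnit h₁ᵀ := by
      rw [Matrix.isUnit_iff_isUnit_det, Matrix.det_transpose, ← Matrix.isUnit_iff_isUnit_det]
      exact hh₁
    have hRu : IsUnit (h₁.map ρ) := by
      have := hh₁.map ((ρ : F ≃+* F) : F →+* F).mapMatrix
      exact this
    exact hTu.mul hRu
  obtain ⟨a, b, hab⟩ : ∃ a b, M a b ≠ 0 := by
    by_contra hcon
    push Not at hcon
    have h0 : M = 0 := by
      ext a b
      exact hcon a b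
    rw [h0] at hMu
    have : Nonempty (Fin n) := ⟨⟨0, hn⟩⟩
    exact not_isUnit_zero hMu
  set e : F := ν * ρ ν * c⁻¹ with hedef
  have hefix : ρ e = e := by
    rw [hedef, map_mul, map_mul, hρ2, map_inv₀, hcfix]
    ring
  have hnrm : nrm σ e r = 1 := by
    have h6 := iterate_entryM σ M _ hMσ r a b
    rw [← hσ, pow_orderOf_eq_one, hσ] at h6
    have h7 : M a b * 1 = M a b * nrm σ e r := by
      rw [mul_one]
      exact h6
    exact (mul_left_cancel₀ hab h7).symm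
  obtain ⟨t, ht0, htρ, htσ⟩ := exists_fixed_both σ ρ r hσ hro hρo hcomm e hefix hnrm
  have hM'σ : (t • M).map σ = t • M := by
    rw [map_smul', hMσ, smul_smul, mul_comm, htσ]
  have hM'ρ : ∀ i j, ρ ((t • M) i j) = (t • M) j i := by
    intro i j
    rw [Matrix.smul_apply, Matrix.smul_apply, smul_eq_mul, smul_eq_mul, map_mul, htρ, hMdef,
      Matrix.mul_apply, Matrix.mul_apply, map_sum]
    congr 1
    apply Finset.sum_congr rfl
    intro k _
    rw [map_mul, Matrix.map_apply, Matrix.map_apply, hρ2, Matrix.transpose_apply,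
      Matrix.transpose_apply, mul_comm]
  -- descent to the fixed field
  have hex : ∀ i j, ∃ x : F₀, ι x = (t • M) i j := by
    intro i j
    have h1 := congrFun (congrFun hM'σ i) j
    rw [Matrix.map_apply] at h1
    exact (hι _).1 h1
  choose M₀f hM₀f using hex
  set M₀ : Matrix (Fin n) (Fin n) F₀ := Matrix.of M₀f with hM₀def
  have hM₀ : M₀.map ι = t • M := by
    ext i j
    rw [Matrix.map_apply]
    exact hM₀f i j
  have hM₀herm : ∀ i j, ρ₀ (M₀ i j) = M₀ j i := by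
    intro i j
    apply ι.injective
    rw [← hρι]
    show ρ (ι (M₀f i j)) = ι (M₀f j i)
    rw [hM₀f, hM₀f, hM'ρ]
  have hM₀u : IsUnit M₀ := by
    rw [Matrix.isUnit_iff_isUnit_det, isUnit_iff_ne_zero]
    intro h0
    have h1 := RingHom.map_det ι M₀
    rw [h0, map_zero, RingHom.mapMatrix_apply, hM₀, Matrix.det_smul] at h1
    have h2 : M.det ≠ 0 := ((Matrix.isUnit_iff_isUnit_det _).1 hMu).ne_zero
    exact (mul_ne_zero (pow_ne_zero _ ht0) h2) h1.symm
  obtain ⟨P, hPu, hP⟩ := exists_herm_factor ρ₀ hρ₀ M₀ hM₀u hM₀herm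
  have hPσ : (P.map ι).map σ = P.map ι := by
    ext a b
    exact (hι _).2 ⟨P a b, rfl⟩
  have hPρ : (P.map ι).map ρ = (P.map ρ₀).map ι := by
    ext a b
    exact hρι _
  have hP' : P.map ι * (t • M) * ((P.map ι).map ρ)ᵀ = 1 := by
    rw [hPρ, ← hM₀, ← Matrix.transpose_map, ← Matrix.map_mul, ← Matrix.map_mul, hP]
    ext a b
    by_cases hab : a = b
    · subst hab; simp
    · simp [hab]
  have hPu' : IsUnit (P.map ι) := by
    have := hPu.map (ι.mapMatrix (m := Fin n))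
    rwa [RingHom.mapMatrix_apply] at this
  have hXu : IsUnit (P.map ι)ᵀ := by
    rw [Matrix.isUnit_iff_isUnit_det, Matrix.det_transpose, ← Matrix.isUnit_iff_isUnit_det]
    exact hPu'
  refine ⟨h₁ * (P.map ι)ᵀ, ν, t⁻¹, hh₁.mul hXu, hν0, inv_ne_zero ht0, ?_, ?_⟩
  · rw [Matrix.map_mul, Matrix.transpose_map, hPσ, ← Matrix.mul_assoc, hfix, Matrix.smul_mul]
  · rw [Matrix.transpose_mul, Matrix.transpose_transpose, Matrix.map_mul]
    calc P.map ι * h₁ᵀ * (h₁.map ρ * ((P.map ι)ᵀ).map ρ)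
        = P.map ι * M * ((P.map ι).map ρ)ᵀ := by
          rw [hMdef, Matrix.transpose_map]
          simp only [Matrix.mul_assoc]
      _ = t⁻¹ • (P.map ι * (t • M) * ((P.map ι).map ρ)ᵀ) := by
          rw [Matrix.mul_smul, Matrix.smul_mul, smul_smul, inv_mul_cancel₀ ht0, one_smul]
      _ = t⁻¹ • 1 := by rw [hP']

end matrix

end Cfsg.Agent.Lib.Helper18.PSUFld
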