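/-
helper18: the automorphism group of `PSU_n(q)`: the field automorphisms form a complement to the
inner-diagonal automorphisms.
-/
import Mathlib
import Cfsg.Agent.Lib.Helper18.PSUModZ
import Cfsg.Agent.Lib.Helper18.PSLnOutB
import Cfsg.Agent.Lib.Helper25.PSUGraph3

set_option autoImplicit false
set_option linter.unusedSectionVars false
set_option linter.unusedSimpArgs false
set_option linter.unusedVariables false

namespace Cfsg.Agent.Lib.Helper18.PSUOut

open Cfsg.Agent.Lib.Helper25.PSUG Cfsg.Agent.Lib.Helper18.PSUMod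
  Cfsg.Agent.Lib.Helper5.HermBridge Cfsg.Agent.Lib.Helper18.PSLnAut

noncomputable section

section general

/-- two homomorphisms from a perfect group which agree modulo the centre are equal -/
theorem hom_eq_of_mod_center {G H : Type*} [Group G] [Group H] (hG : commutator G = ⊤)
    (φ₁ φ₂ : G →* H) (h : ∀ s, (φ₂ s)⁻¹ * φ₁ s ∈ Subgroup.center H) (s : G) : φ₁ s = φ₂ s := by
  let ζ : G →* ↥(Subgroup.center H) :=
    MonoidHom.mk' (fun s => ⟨(φ₂ s)⁻¹ * φ₁ s, h s⟩) (fun s t => Subtype.ext (by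
      show (φ₂ (s * t))⁻¹ * φ₁ (s * t) = ((φ₂ s)⁻¹ * φ₁ s) * ((φ₂ t)⁻¹ * φ₁ t)
      have h1 := (Subgroup.mem_center_iff.1 (h s)) (φ₂ t)⁻¹
      rw [map_mul, map_mul, _root_.mul_inv_rev]
      calc (φ₂ t)⁻¹ * (φ₂ s)⁻¹ * (φ₁ s * φ₁ t)
          = (φ₂ t)⁻¹ * ((φ₂ s)⁻¹ * φ₁ s) * φ₁ t := by group
        _ = ((φ₂ s)⁻¹ * φ₁ s) * (φ₂ t)⁻¹ * φ₁ t := by rw [h1]
        _ = _ := by group))
  have h1 := hom_eq_one_of_perfect' hG ζ
    (fun a b => Subtype.ext ((Subgroup.mem_center_iff.1 b.2) a.1)) s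
  have h2 : (φ₂ s)⁻¹ * φ₁ s = 1 := congrArg Subtype.val h1
  rw [inv_mul_eq_one] at h2
  exact h2.symm

end general

variable {F : Type*} [Field F] [Fintype F] {q n : ℕ}

/-- a field automorphism which is inner-diagonal is trivial -/
theorem eq_one_of_fieldU_mem (hF : Fintype.card F = q ^ 2) (hn : 3 ≤ n)
    (h32 : ¬ (n = 3 ∧ q = 2)) (σ : RingAut F)
    (h : (fieldUHom σ : MulAut (Cfsg.PSU n F q)) ∈ (conjUHom (n := n) (F := F) (q := q)).range) :
    σ = 1 := by
  classical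
  obtain ⟨g, hg⟩ := h
  -- equality on the special unitary group
  have hA : ∀ s : ↥(Cfsg.SU n F q), conjSU g s = fieldSU σ s := by
    intro s
    apply hom_eq_of_mod_center (Cfsg.Agent.Lib.Helper5.PSUSimple.commutator_SU_eq_top hF hn h32)
      (conjSU g).toMonoidHom (fieldSU σ).toMonoidHom
    intro t
    show (fieldSU σ t)⁻¹ * conjSU g t ∈ _
    rw [← piU_eq_one_iff, map_mul, map_inv, inv_mul_eq_one]
    have h1 := congrArg (fun α : MulAut (Cfsg.PSU n F q) => α (piU t)) hg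
    exact h1.symm
  have hmat : ∀ s : ↥(Cfsg.SU n F q),
      ((g.1⁻¹ : GL (Fin n) F) : Matrix (Fin n) (Fin n) F) *
        (s.1 : Matrix (Fin n) (Fin n) F).map σ =
      (s.1 : Matrix (Fin n) (Fin n) F) * ((g.1⁻¹ : GL (Fin n) F) : Matrix (Fin n) (Fin n) F) := by
    intro s
    have h1 := congrArg (fun t : ↥(Cfsg.SU n F q) => (t.1 : Matrix (Fin n) (Fin n) F)) (hA s)
    have h2 : (g.1 : Matrix (Fin n) (Fin n) F) * (s.1 : Matrix (Fin n) (Fin n) F) *
        ((g.1⁻¹ : GL (Fin n) F) : Matrix (Fin n) (Fin n) F) =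
          (s.1 : Matrix (Fin n) (Fin n) F).map σ := h1
    rw [← h2, ← Matrix.mul_assoc, ← Matrix.mul_assoc, gl_inv_mul, Matrix.one_mul]
  obtain ⟨m, rfl⟩ : ∃ m, n = m + 2 := ⟨n - 2, by omega⟩
  have hm : 1 ≤ m := by omega
  obtain ⟨ζ, τ, hζ, hτ, hN⟩ := exists_consts hF
  have hB := barOK_frob hF
  let J₀ : (Fin (m + 2) → F) → (Fin (m + 2) → F) := fun x =>
    ((g.1⁻¹ : GL (Fin (m + 2)) F) : Matrix (Fin (m + 2)) (Fin (m + 2)) F).mulVec (fun i => σ (x i))
  let J : V F m → V F m := fun X => Phi hζ hτ (J₀ ((Phi hζ hτ).symm X))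
  have hJ₀add : ∀ x y, J₀ (x + y) = J₀ x + J₀ y := by
    intro x y
    show Matrix.mulVec _ _ = _
    have : (fun i => σ ((x + y) i)) = (fun i => σ (x i)) + fun i => σ (y i) := by
      funext i
      simp
    rw [this, Matrix.mulVec_add]
  have hJ₀smul : ∀ (a : F) x, J₀ (a • x) = σ a • J₀ x := by
    intro a x
    show Matrix.mulVec _ _ = _
    have : (fun i => σ ((a • x) i)) = σ a • fun i => σ (x i) := by
      funext i
      simp
    rw [this, Matrix.mulVec_smul]
  have hJ₀inj : Function.Injective J₀ := by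
    intro x y hxy
    have h1 := congrArg (fun v => (g.1 : Matrix (Fin (m + 2)) (Fin (m + 2)) F).mulVec v) hxy
    simp only [J₀, Matrix.mulVec_mulVec, gl_mul_inv, Matrix.one_mulVec] at h1
    funext i
    exact σ.injective (congrFun h1 i)
  have hsig : σ = RingEquiv.refl F := by
    apply semilin_comm_trivial hB hm (J := J)
    · intro X Y
      show Phi hζ hτ (J₀ ((Phi hζ hτ).symm (X + Y))) = _
      rw [map_add, hJ₀add, map_add]
    · intro a X
      show Phi hζ hτ (J₀ ((Phi hζ hτ).symm (a • X))) = _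
      rw [map_smul, hJ₀smul, map_smul]
    · intro X Y hXY
      exact (Phi hζ hτ).symm.injective (hJ₀inj ((Phi hζ hτ).injective hXY))
    · intro sm X
      obtain ⟨x, rfl⟩ := (Phi hζ hτ).surjective X
      obtain ⟨s, rfl⟩ := (PsiF hF hζ hτ hN).surjective sm
      show Phi hζ hτ (J₀ ((Phi hζ hτ).symm (av _ _))) =
        av _ (Phi hζ hτ (J₀ ((Phi hζ hτ).symm (Phi hζ hτ x))))
      rw [PsiF_av, LinearEquiv.symm_apply_apply, LinearEquiv.symm_apply_apply, PsiF_av]
      congr 1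
      show Matrix.mulVec _ _ = Matrix.mulVec _ (Matrix.mulVec _ _)
      rw [Cfsg.Agent.Lib.Helper18.PSLnFld.map_mulVec σ, Matrix.mulVec_mulVec,
        Matrix.mulVec_mulVec, hmat s]
  exact hsig

section hom

variable [Finite F]

/-- field automorphisms normalise the inner-diagonal automorphisms -/
theorem fieldU_normalises (t : RingAut F) (d : MulAut (Cfsg.PSU n F q))
    (hd : d ∈ (conjUHom (n := n) (F := F) (q := q)).range) :
    fieldUHom t * d * (fieldUHom t)⁻¹ ∈ (conjUHom (n := n) (F := F) (q := q)).range := by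
  obtain ⟨g, rfl⟩ := hd
  refine ⟨glFU t g, ?_⟩
  rw [field_mul_conjU, mul_inv_cancel_right]

end hom

/-- every automorphism is inner-diagonal times field -/
theorem exists_conjU_mul_fieldU (hF : Fintype.card F = q ^ 2) (hn : 3 ≤ n)
    (h32 : ¬ (n = 3 ∧ q = 2)) (α : MulAut (Cfsg.PSU n F q)) :
    ∃ d ∈ (conjUHom (n := n) (F := F) (q := q)).range, ∃ t : RingAut F, α = d * fieldUHom t := by
  obtain ⟨g, σ, hg, hI⟩ := PSU_aut_induced hF hn h32 α
  refine ⟨conjUHom ⟨g, GU_le_GUs hg⟩, ⟨_, rfl⟩, σ, ?_⟩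
  ext x
  obtain ⟨s, rfl⟩ := piU_surjective x
  show α (QuotientGroup.mk s) = conjU ⟨g, GU_le_GUs hg⟩ (fieldU σ (piU s))
  rw [fieldU_piU, conjU_piU]
  apply hI
  rw [conjMatU_coe, fieldSU_coe]

/-- the homomorphism from the automorphism group onto the field automorphisms -/
theorem exists_autHomU (hF : Fintype.card F = q ^ 2) (hn : 3 ≤ n) (h32 : ¬ (n = 3 ∧ q = 2)) :
    ∃ Φ : MulAut (Cfsg.PSU n F q) →* RingAut F,
      (∀ t, Φ (fieldUHom t) = t) ∧ Φ.ker = (conjUHom (n := n) (F := F) (q := q)).range :=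
  exists_hom_of_semidirect _ fieldUHom fieldU_normalises (eq_one_of_fieldU_mem hF hn h32)
    (exists_conjU_mul_fieldU hF hn h32)

end

end Cfsg.Agent.Lib.Helper18.PSUOut
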