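/-
helper18: the diagonal automorphisms of `PSU_n(q)` in the outer automorphism group.
-/
import Mathlib
import Cfsg.Agent.Lib.Helper18.PSUOutA
import Cfsg.Agent.Lib.Helper18.PSLnOutC
import Cfsg.Agent.Lib.Helper25.PSUGraph6

set_option autoImplicit false
set_option linter.unusedSectionVars false
set_option linter.unusedSimpArgs false
set_option linter.unusedVariables false

namespace Cfsg.Agent.Lib.Helper18.PSUOut

open Cfsg.Agent.Lib.Helper25.PSUG Cfsg.Agent.Lib.Helper18.PSUMod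
  Cfsg.Agent.Lib.Helper5.HermBridge Cfsg.Agent.Lib.Helper18.PSLnAut Cfsg.Agent.Lib.Helper14

noncomputable section

variable {F : Type*} [Field F] [Fintype F] {q n : ℕ}

theorem mem_GU_iff' (g : GL (Fin n) F) :
    g ∈ Cfsg.GU n F q ↔ ∀ u v : Fin n → F,
      Cfsg.hermForm n F q ((g : Matrix (Fin n) (Fin n) F).mulVec u)
        ((g : Matrix (Fin n) (Fin n) F).mulVec v) = Cfsg.hermForm n F q u v := Iff.rfl

/-- `diag(a, 1, …, 1)` is unitary for `a` of norm one -/
theorem dgHom_mem_GU (i0 : Fin n) {a : Fˣ} (ha : a ∈ normOne F q) :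
    dgHom i0 a ∈ Cfsg.GU n F q := by
  rw [mem_GU_iff']
  intro u v
  rw [dgHom_coe]
  unfold Cfsg.hermForm
  apply Finset.sum_congr rfl
  intro i _
  rw [Matrix.mulVec_diagonal, Matrix.mulVec_diagonal]
  by_cases hi : i = i0
  · subst hi
    rw [Function.update_self, mul_pow]
    have h1 : (a : F) * (a : F) ^ q = 1 := by
      have := (mem_normOne a).1 ha
      have h2 := congrArg Units.val this
      rw [Units.val_pow_eq_pow_val, Units.val_one, pow_succ'] at h2
      exact h2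
    linear_combination (u i * v i ^ q) * h1
  · rw [Function.update_of_ne hi, one_mul, one_mul]

/-- the diagonal matrices `diag(a, 1, …, 1)` as similitudes -/
def dU (i0 : Fin n) : ↥(normOne F q) →* ↥(GUs n F q) where
  toFun a := ⟨dgHom i0 a.1, GU_le_GUs (dgHom_mem_GU i0 a.2)⟩
  map_one' := Subtype.ext (map_one (dgHom i0))
  map_mul' a b := Subtype.ext (map_mul (dgHom i0) a.1 b.1)

theorem dU_coe (i0 : Fin n) (a : ↥(normOne F q)) : ((dU i0 a : ↥(GUs n F q)) : GL (Fin n) F) =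
    dgHom i0 a.1 := rfl

/-- the elements of the special unitary group as similitudes -/
def suU (s : ↥(Cfsg.SU n F q)) : ↥(GUs n F q) :=
  ⟨Matrix.SpecialLinearGroup.toGL s.1, GU_le_GUs (show _ ∈ Cfsg.GU n F q from s.2)⟩

theorem conj_piU_eq (s : ↥(Cfsg.SU n F q)) :
    MulAut.conj (piU s) = (conjUHom (suU s) : MulAut (Cfsg.PSU n F q)) := by
  ext x
  obtain ⟨t, rfl⟩ := piU_surjective x
  rw [MulAut.conj_apply, conjUHom_apply, conjU_piU, ← map_inv, ← map_mul, ← map_mul]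
  congr 1

/-- the diagonal automorphisms in the outer automorphism group -/
def dOutU (i0 : Fin n) : ↥(normOne F q) →* Cfsg.Out (Cfsg.PSU n F q) :=
  (QuotientGroup.mk' (Cfsg.Inn (Cfsg.PSU n F q))).comp (conjUHom.comp (dU i0))

theorem dOutU_apply (i0 : Fin n) (a : ↥(normOne F q)) :
    dOutU i0 a = (QuotientGroup.mk (conjUHom (dU i0 a)) : Cfsg.Out (Cfsg.PSU n F q)) := rfl

theorem mk_conjUHom_suU (s : ↥(Cfsg.SU n F q)) :
    (QuotientGroup.mk (conjUHom (suU s)) : Cfsg.Out (Cfsg.PSU n F q)) = 1 := by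
  rw [QuotientGroup.eq_one_iff, ← conj_piU_eq]
  exact ⟨piU s, rfl⟩

theorem range_dOutU (hF : Fintype.card F = q ^ 2) (hn : 0 < n) (i0 : Fin n) :
    (dOutU (F := F) (q := q) i0).range = (conjUHom (n := n) (F := F) (q := q)).range.map
      (QuotientGroup.mk' (Cfsg.Inn (Cfsg.PSU n F q))) := by
  classical
  ext x
  constructor
  · rintro ⟨a, rfl⟩
    exact ⟨conjUHom (dU i0 a), ⟨_, rfl⟩, rfl⟩
  · rintro ⟨_, ⟨g, rfl⟩, rfl⟩
    obtain ⟨g', d, hd0, hg', hgd⟩ := exists_GU_smul (frobQ hF : RingAut F) (frobQ_apply hF)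
      (orderOf_frob hF _ (frobQ_apply hF)) hn g
    rw [← conjUHom_eq_of_smul g g' d hd0 hgd]
    obtain ⟨s, hs⟩ := exists_eq_dgHom_mul i0 g'.1
    have hdet : Matrix.GeneralLinearGroup.det g'.1 ∈ normOne F q :=
      detGU_range_le hF ⟨⟨g'.1, hg'⟩, rfl⟩
    have hsU : s ∈ Cfsg.SU n F q := by
      have h1 : Matrix.SpecialLinearGroup.toGL s =
          (dgHom i0 (Matrix.GeneralLinearGroup.det g'.1))⁻¹ * g'.1 := by
        rw [eq_inv_mul_iff_mul_eq]; exact hs.symm
      have h2 : Matrix.SpecialLinearGroup.toGL s ∈ Cfsg.GU n F q := by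
        rw [h1]
        exact (Cfsg.GU n F q).mul_mem ((Cfsg.GU n F q).inv_mem (dgHom_mem_GU i0 hdet)) hg'
      exact h2
    refine ⟨⟨Matrix.GeneralLinearGroup.det g'.1, hdet⟩, ?_⟩
    rw [dOutU_apply]
    have h3 : g' = dU i0 ⟨Matrix.GeneralLinearGroup.det g'.1, hdet⟩ * suU ⟨s, hsU⟩ :=
      Subtype.ext hs
    conv_rhs => rw [h3, map_mul]
    show _ = (QuotientGroup.mk (_ * _) : Cfsg.Out (Cfsg.PSU n F q))
    rw [QuotientGroup.mk_mul, mk_conjUHom_suU, mul_one]

end

end Cfsg.Agent.Lib.Helper18.PSUOut
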