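/-
helper18: the outer automorphism group of `PSU_n(q)` and the order of the automorphism group.
-/
import Mathlib
import Cfsg.Agent.Lib.Helper18.PSUOutB
import Cfsg.Agent.Lib.Helper18.PSL2AutOut

set_option autoImplicit false
set_option linter.unusedSectionVars false
set_option linter.unusedSimpArgs false
set_option linter.unusedVariables false

namespace Cfsg.Agent.Lib.Helper18.PSUOut

open Cfsg.Agent.Lib.Helper25.PSUG Cfsg.Agent.Lib.Helper18.PSUMod
  Cfsg.Agent.Lib.Helper5.HermBridge Cfsg.Agent.Lib.Helper18.PSLnAut Cfsg.Agent.Lib.Helper14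

noncomputable section

variable {F : Type*} [Field F] [Fintype F] {q n : ℕ}

/-- a scalar matrix in the unitary group has norm one -/
theorem normOne_of_scalar_mem (hn : 0 < n) {c : Fˣ} {g : GL (Fin n) F} (hg : g ∈ Cfsg.GU n F q)
    (hc : (g : Matrix (Fin n) (Fin n) F) = (c : F) • (1 : Matrix (Fin n) (Fin n) F)) :
    c ∈ normOne F q := by
  rw [mem_normOne]
  apply Units.ext
  rw [Units.val_pow_eq_pow_val, Units.val_one, pow_succ']
  have h := (mem_GU_iff' g).1 hg (Pi.single ⟨0, hn⟩ 1) (Pi.single ⟨0, hn⟩ 1)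
  rw [hc, Matrix.smul_mulVec, Matrix.one_mulVec] at h
  unfold Cfsg.hermForm at h
  rw [Finset.sum_eq_single ⟨0, hn⟩, Finset.sum_eq_single ⟨0, hn⟩] at h
  · simpa using h
  · intro j _ hj
    simp [Pi.single_eq_of_ne hj]
  · intro h'; exact absurd (Finset.mem_univ _) h'
  · intro j _ hj
    simp [Pi.single_eq_of_ne hj]
  · intro h'; exact absurd (Finset.mem_univ _) h'

/-- scalar matrices of norm one are unitary -/
theorem scalar_mem_GU (z : Fˣ) (hz : z ∈ normOne F q) :
    Matrix.GeneralLinearGroup.scalar (Fin n) z ∈ Cfsg.GU n F q := by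
  rw [mem_GU_iff']
  intro u v
  have h0 : ((Matrix.GeneralLinearGroup.scalar (Fin n) z : GL (Fin n) F) :
      Matrix (Fin n) (Fin n) F) = (z : F) • (1 : Matrix (Fin n) (Fin n) F) := by
    rw [Matrix.GeneralLinearGroup.coe_scalar, Matrix.smul_one_eq_diagonal]
    rfl
  rw [h0, Matrix.smul_mulVec, Matrix.one_mulVec, Matrix.smul_mulVec, Matrix.one_mulVec,
    herm_smul_smul]
  have h1 : (z : F) * (z : F) ^ q = 1 := by
    have := (mem_normOne z).1 hz
    have h2 := congrArg Units.val this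
    rw [Units.val_pow_eq_pow_val, Units.val_one, pow_succ'] at h2
    exact h2
  rw [h1, one_mul]

theorem ker_dOutU (hF : Fintype.card F = q ^ 2) (hn : 3 ≤ n) (h32 : ¬ (n = 3 ∧ q = 2))
    (i0 : Fin n) :
    (dOutU (F := F) (q := q) i0).ker = (powMonoidHom n : ↥(normOne F q) →* ↥(normOne F q)).range := by
  classical
  ext a
  rw [MonoidHom.mem_ker, dOutU_apply, QuotientGroup.eq_one_iff]
  constructor
  · rintro ⟨y, hy⟩
    obtain ⟨s, rfl⟩ := piU_surjective y
    rw [conj_piU_eq] at hy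
    have h1 : (suU s)⁻¹ * dU i0 a ∈ (conjUHom (n := n) (F := F) (q := q)).ker := by
      rw [MonoidHom.mem_ker, map_mul, map_inv, hy, inv_mul_cancel]
    rw [ker_conjUHom hF hn h32, Subgroup.mem_subgroupOf, Cfsg.Geo.mem_scalars_iff] at h1
    obtain ⟨c, hc⟩ := h1
    have hmem : (((suU s)⁻¹ * dU i0 a : ↥(GUs n F q)) : GL (Fin n) F) ∈ Cfsg.GU n F q := by
      show (Matrix.SpecialLinearGroup.toGL s.1)⁻¹ * dgHom i0 a.1 ∈ Cfsg.GU n F q
      exact (Cfsg.GU n F q).mul_mem ((Cfsg.GU n F q).inv_mem (show _ ∈ Cfsg.GU n F q from s.2))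
        (dgHom_mem_GU i0 a.2)
    have hcN := normOne_of_scalar_mem (by omega) hmem hc
    have hg : (((suU s)⁻¹ * dU i0 a : ↥(GUs n F q)) : GL (Fin n) F) =
        Matrix.GeneralLinearGroup.scalar (Fin n) c := by
      apply Units.ext
      rw [hc, Matrix.GeneralLinearGroup.coe_scalar, Matrix.smul_one_eq_diagonal]
      rfl
    have h2 := congrArg Matrix.GeneralLinearGroup.det hg
    have h3 : (((suU s)⁻¹ * dU i0 a : ↥(GUs n F q)) : GL (Fin n) F) =
        (Matrix.SpecialLinearGroup.toGL s.1)⁻¹ * dgHom i0 a.1 := rfl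
    rw [h3, Matrix.GeneralLinearGroup.det_scalar, map_mul, map_inv, det_toGL, inv_one, one_mul,
      det_dgHom', Fintype.card_fin] at h2
    refine ⟨⟨c, hcN⟩, ?_⟩
    apply Subtype.ext
    rw [powMonoidHom_apply]
    exact h2.symm
  · rintro ⟨z, rfl⟩
    rw [powMonoidHom_apply]
    have hdet : Matrix.GeneralLinearGroup.det
        ((Matrix.GeneralLinearGroup.scalar (Fin n) z.1)⁻¹ * dgHom i0 ((z ^ n : ↥(normOne F q)) : Fˣ)) =
          1 := by
      rw [map_mul, map_inv, Matrix.GeneralLinearGroup.det_scalar, det_dgHom', Fintype.card_fin,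
        Subgroup.coe_pow, inv_mul_cancel]
    obtain ⟨s, hs⟩ := exists_toGL_eq _ hdet
    have hsU : s ∈ Cfsg.SU n F q := by
      have h2 : Matrix.SpecialLinearGroup.toGL s ∈ Cfsg.GU n F q := by
        rw [hs]
        exact (Cfsg.GU n F q).mul_mem ((Cfsg.GU n F q).inv_mem (scalar_mem_GU z.1 z.2))
          (dgHom_mem_GU i0 (z ^ n).2)
      exact h2
    let zU : ↥(GUs n F q) := ⟨Matrix.GeneralLinearGroup.scalar (Fin n) z.1,
      GU_le_GUs (scalar_mem_GU z.1 z.2)⟩
    have hsc : (conjUHom zU : MulAut (Cfsg.PSU n F q)) = 1 := by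
      rw [← MonoidHom.mem_ker, ker_conjUHom hF hn h32, Subgroup.mem_subgroupOf,
        Cfsg.Geo.mem_scalars_iff]
      refine ⟨z.1, ?_⟩
      show ((Matrix.GeneralLinearGroup.scalar (Fin n) z.1 : GL (Fin n) F) :
        Matrix (Fin n) (Fin n) F) = _
      rw [Matrix.GeneralLinearGroup.coe_scalar, Matrix.smul_one_eq_diagonal]
      rfl
    have h4 : suU ⟨s, hsU⟩ = zU⁻¹ * dU i0 (z ^ n) := Subtype.ext hs
    refine ⟨piU ⟨s, hsU⟩, ?_⟩
    rw [conj_piU_eq, h4, map_mul, map_inv, hsc, inv_one, one_mul]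

end

end Cfsg.Agent.Lib.Helper18.PSUOut
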