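/-
helper18: the outer automorphism group of `PSU_n(q)` and the order of the automorphism group.
-/
import Mathlib
import Cfsg.Agent.Lib.Helper18.PSUOutC

set_option autoImplicit false
set_option linter.unusedSectionVars false
set_option linter.unusedSimpArgs false
set_option linter.unusedVariables false

namespace Cfsg.Agent.Lib.Helper18.PSUOut

open Cfsg.Agent.Lib.Helper25.PSUG Cfsg.Agent.Lib.Helper18.PSUMod
  Cfsg.Agent.Lib.Helper5.HermBridge Cfsg.Agent.Lib.Helper18.PSLnAut Cfsg.Agent.Lib.Helper14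

noncomputable section

variable {F : Type*} [Field F] [Fintype F] {q n : ℕ}

/-- **the outer automorphism group of `PSU_n(q)`** -/
theorem out_structure_U {p f : ℕ} [Fact p.Prime] (hq : q = p ^ f) (hF : Fintype.card F = q ^ 2)
    (hn : 3 ≤ n) (h32 : ¬ (n = 3 ∧ q = 2)) :
    ∃ φ : Cfsg.Out (Cfsg.PSU n F q) →* Multiplicative (ZMod (2 * f)),
      Function.Surjective φ ∧ IsCyclic φ.ker ∧ Nat.card φ.ker = Nat.gcd n (q + 1) := by
  classical
  have hF' : Fintype.card F = p ^ (2 * f) := by rw [hF, hq, ← pow_mul, mul_comm]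
  have : CharP F p := charP_of_card_eq_prime_pow hF'
  have hcyc : IsCyclic (RingAut F) := Cfsg.Agent.Lib.Helper18.PSL2Aut.ringAut_cyclic p
  have hcard : Nat.card (RingAut F) = 2 * f := Cfsg.Agent.Lib.Helper18.PSL2Aut.ringAut_card p hF'
  obtain ⟨Φ, hΦ1, hΦ2⟩ := exists_autHomU (n := n) hF hn h32
  have hInn : Cfsg.Inn (Cfsg.PSU n F q) ≤ Φ.ker := by
    rintro _ ⟨y, rfl⟩
    obtain ⟨s, rfl⟩ := piU_surjective y
    rw [hΦ2, conj_piU_eq]
    exact ⟨_, rfl⟩
  let Φb : Cfsg.Out (Cfsg.PSU n F q) →* RingAut F :=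
    QuotientGroup.lift (Cfsg.Inn (Cfsg.PSU n F q)) Φ hInn
  have hΦb : ∀ α, Φb (QuotientGroup.mk α) = Φ α := fun α => rfl
  let e₁ : RingAut F ≃* Multiplicative (ZMod (Nat.card (RingAut F))) :=
    (zmodCyclicMulEquiv hcyc).symm
  let e₂ : Multiplicative (ZMod (Nat.card (RingAut F))) ≃* Multiplicative (ZMod (2 * f)) :=
    AddEquiv.toMultiplicative (ZMod.ringEquivCongr hcard).toAddEquiv
  let e : RingAut F ≃* Multiplicative (ZMod (2 * f)) := e₁.trans e₂
  let i0 : Fin n := ⟨0, by omega⟩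
  refine ⟨e.toMonoidHom.comp Φb, ?_, ?_⟩
  · apply e.surjective.comp
    intro t
    exact ⟨QuotientGroup.mk (fieldUHom t), (hΦb (fieldUHom t)).trans (hΦ1 t)⟩
  · have hker : (e.toMonoidHom.comp Φb).ker = (dOutU (F := F) (q := q) i0).range := by
      rw [range_dOutU hF (by omega)]
      ext x
      rw [MonoidHom.mem_ker, MonoidHom.comp_apply]
      show e (Φb x) = 1 ↔ _
      rw [EmbeddingLike.map_eq_one_iff (f := e)]
      obtain ⟨α, rfl⟩ := QuotientGroup.mk_surjective x
      rw [hΦb, ← MonoidHom.mem_ker, hΦ2]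
      constructor
      · intro h
        exact ⟨α, h, rfl⟩
      · rintro ⟨d, hd, hdα⟩
        have h1 : Φ d = Φ α := by
          rw [← hΦb, ← hΦb]
          exact congrArg Φb hdα
        rw [← hΦ2] at hd ⊢
        have hd' : Φ d = 1 := MonoidHom.mem_ker.1 hd
        exact MonoidHom.mem_ker.2 (by rw [← h1, hd'])
    rw [hker]
    have hcycU : IsCyclic ↥(normOne F q) := inferInstance
    constructor
    · exact isCyclic_of_surjective (dOutU (F := F) (q := q) i0).rangeRestrict
        (dOutU (F := F) (q := q) i0).rangeRestrict_surjective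
    · rw [← Subgroup.index_ker, ker_dOutU hF hn h32, IsCyclic.index_powMonoidHom_range,
        card_normOne hF, Nat.gcd_comm]

end

end Cfsg.Agent.Lib.Helper18.PSUOut
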