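/-
helper18: the order of the automorphism group of `PSU_n(q)`.
-/
import Mathlib
import Cfsg.Agent.Lib.Helper18.PSUOutD

set_option autoImplicit false
set_option linter.unusedSectionVars false
set_option linter.unusedSimpArgs false
set_option linter.unusedVariables false

namespace Cfsg.Agent.Lib.Helper18.PSUOut

open Cfsg.Agent.Lib.Helper25.PSUG Cfsg.Agent.Lib.Helper18.PSUMod
  Cfsg.Agent.Lib.Helper5.HermBridge Cfsg.Agent.Lib.Helper18.PSLnAut Cfsg.Agent.Lib.Helper14

noncomputable section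

variable {F : Type*} [Field F] [Fintype F] {q n : ℕ}

/-- the centre of `PSU_n(q)` is trivial -/
theorem center_PSU_eq_bot (hF : Fintype.card F = q ^ 2) (hn : 3 ≤ n) (h32 : ¬ (n = 3 ∧ q = 2)) :
    Subgroup.center (Cfsg.PSU n F q) = ⊥ := by
  rw [eq_bot_iff]
  intro z hz
  obtain ⟨s, rfl⟩ := piU_surjective z
  rw [Subgroup.mem_center_iff] at hz
  rw [Subgroup.mem_bot, piU_eq_one_iff, Subgroup.mem_center_iff]
  intro t
  have h := hom_eq_of_mod_center (Cfsg.Agent.Lib.Helper5.PSUSimple.commutator_SU_eq_top hF hn h32)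
    (MulAut.conj s).toMonoidHom (MonoidHom.id _) (fun t => by
      show t⁻¹ * (s * t * s⁻¹) ∈ _
      rw [← piU_eq_one_iff, map_mul, map_inv, map_mul, map_mul, map_inv, ← hz (piU t)]
      group) t
  have h' : s * t * s⁻¹ = t := h
  calc t * s = s * t * s⁻¹ * s := by rw [h']
    _ = s * t := by group

theorem card_Inn_PSU (hF : Fintype.card F = q ^ 2) (hn : 3 ≤ n) (h32 : ¬ (n = 3 ∧ q = 2)) :
    Nat.card (Cfsg.Inn (Cfsg.PSU n F q)) = Nat.card (Cfsg.PSU n F q) := by
  have hinj : Function.Injective (MulAut.conj : Cfsg.PSU n F q →* MulAut (Cfsg.PSU n F q)) := by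
    intro a b hab
    have h1 : b⁻¹ * a ∈ Subgroup.center (Cfsg.PSU n F q) := by
      rw [Subgroup.mem_center_iff]
      intro x
      have h2 := congrArg (fun α : MulAut (Cfsg.PSU n F q) => α x) hab
      simp only [MulAut.conj_apply] at h2
      calc x * (b⁻¹ * a) = b⁻¹ * (b * x * b⁻¹) * a := by group
        _ = b⁻¹ * (a * x * a⁻¹) * a := by rw [h2]
        _ = b⁻¹ * a * x := by group
    rw [center_PSU_eq_bot hF hn h32, Subgroup.mem_bot, inv_mul_eq_one] at h1
    exact h1.symm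
  exact (Nat.card_congr (MonoidHom.ofInjective hinj).toEquiv).symm

/-- **the order of the automorphism group of `PSU_n(q)`** -/
theorem card_aut_psu {p f : ℕ} [Fact p.Prime] (hf : 1 ≤ f) (hq : q = p ^ f)
    (hF : Fintype.card F = q ^ 2) (hn : 3 ≤ n) (h32 : ¬ (n = 3 ∧ q = 2)) :
    Nat.card (MulAut (Cfsg.PSU n F q)) = Nat.gcd n (q + 1) * (2 * f) * Nat.card (Cfsg.PSU n F q) := by
  obtain ⟨φ, hφ, -, hker⟩ := out_structure_U (n := n) hq hF hn h32
  have h1 : Nat.card (Cfsg.Out (Cfsg.PSU n F q)) = Nat.gcd n (q + 1) * (2 * f) := by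
    rw [← Subgroup.card_mul_index φ.ker, hker, Subgroup.index_ker,
      MonoidHom.range_eq_top.2 hφ, Subgroup.card_top, Nat.card_congr Multiplicative.toAdd]
    have : NeZero (2 * f) := ⟨by omega⟩
    rw [Nat.card_eq_fintype_card, ZMod.card]
  rw [Subgroup.card_eq_card_quotient_mul_card_subgroup (Cfsg.Inn (Cfsg.PSU n F q)),
    card_Inn_PSU hF hn h32]
  show Nat.card (Cfsg.Out (Cfsg.PSU n F q)) * _ = _
  rw [h1]

end

end Cfsg.Agent.Lib.Helper18.PSUOut
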