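import Mathlib
import Cfsg.Agent.Lib.Helper18.PSUFldA
import Cfsg.Agent.Lib.Helper18.PSUOutE
import Cfsg.Agent.Lib.Helper18.PSL2AutOut

/-!
Field automorphisms of `PSU_n(q)` of odd order: elements of the coset of the same order are
conjugate under the inner-diagonal group (helper18).
-/

set_option autoImplicit false

namespace Cfsg.Agent.Lib.Helper18.PSUFld

open Matrix Cfsg Cfsg.Agent.Lib.Helper18.PSLnAut Cfsg.Agent.Lib.Helper18.PSLnFld
  Cfsg.Agent.Lib.Helper25.PSUG Cfsg.Agent.Lib.Helper18.PSUOut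

section arith

theorem pow_pow_odd {F₀ : Type*} [Field F₀] [Fintype F₀] {q₀ : ℕ}
    (hF₀ : Fintype.card F₀ = q₀ ^ 2) (b : F₀) (r : ℕ) (hro : Odd r) :
    b ^ (q₀ ^ r) = b ^ q₀ := by
  obtain ⟨k, rfl⟩ := hro
  rw [pow_succ, pow_mul, pow_mul, ← hF₀, FiniteField.pow_card_pow]

/-- the fixed field of an automorphism of odd order of the field with `q ^ 2` elements -/
theorem exists_subfield_data {F : Type*} [Field F] [Fintype F] {p f q : ℕ} [Fact p.Prime]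
    (hq : q = p ^ f) (hF : Fintype.card F = q ^ 2)
    (σ : RingAut F) (r : ℕ) (hσ : orderOf σ = r) (hro : Odd r)
    (F₀ : Type*) [Field F₀] [Fintype F₀] (hF₀ : Fintype.card F₀ = p ^ (2 * (f / r))) :
    r ∣ f ∧ ∃ ι : F₀ →+* F, (∀ a : F, σ a = a ↔ a ∈ Set.range ι) ∧
      ∀ b : F₀, (ι b) ^ q = ι (b ^ (p ^ (f / r))) := by
  have hF' : Fintype.card F = p ^ (2 * f) := by
    rw [hF, hq, ← pow_mul, mul_comm]
  have : CharP F p := charP_of_card_eq_prime_pow hF'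
  have h1 : r ∣ 2 * f := by
    rw [← hσ, ← Cfsg.Agent.Lib.Helper18.PSL2Aut.ringAut_card p hF']
    exact orderOf_dvd_natCard σ
  have hdvd : r ∣ f := (Nat.Coprime.dvd_of_dvd_mul_left (Nat.coprime_two_right.2 hro) h1)
  refine ⟨hdvd, ?_⟩
  have h2 : 2 * f / r = 2 * (f / r) := Nat.mul_div_assoc 2 hdvd
  obtain ⟨-, ι, hι⟩ := exists_fixed_embedding hF' σ r hσ hro.pos F₀ (by rw [h2]; exact hF₀)
  refine ⟨ι, hι, ?_⟩
  intro b
  have hF₀' : Fintype.card F₀ = (p ^ (f / r)) ^ 2 := by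
    rw [hF₀, ← pow_mul, mul_comm]
  have hqq : q = (p ^ (f / r)) ^ r := by
    rw [hq, ← pow_mul, Nat.div_mul_cancel hdvd]
  rw [← map_pow, hqq, pow_pow_odd hF₀' b r hro]

end arith

section coset

variable {n : ℕ} {F : Type*} [Field F] {q : ℕ}

/-- the cocycle sequence `g σ(g) ⋯ σ^{i-1}(g)` -/
noncomputable def cocycU (σ : RingAut F) (g : ↥(GUs n F q)) : ℕ → ↥(GUs n F q)
  | 0 => 1
  | i + 1 => g * glFU σ (cocycU σ g i)

theorem cocycU_zero (σ : RingAut F) (g : ↥(GUs n F q)) : cocycU σ g 0 = 1 := rfl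

theorem cocycU_succ (σ : RingAut F) (g : ↥(GUs n F q)) (i : ℕ) :
    cocycU σ g (i + 1) = g * glFU σ (cocycU σ g i) := rfl

theorem cocycU_one (σ : RingAut F) (g : ↥(GUs n F q)) : cocycU σ g 1 = g := by
  rw [cocycU_succ, cocycU_zero, map_one, mul_one]

theorem pow_conj_fieldU (σ : RingAut F) (g : ↥(GUs n F q)) (i : ℕ) :
    ((conjUHom g : MulAut (Cfsg.PSU n F q)) * fieldUHom σ) ^ i =
      conjUHom (cocycU σ g i) * fieldUHom (σ ^ i) := by
  induction i with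
  | zero => simp [cocycU_zero]
  | succ i ih =>
    rw [pow_succ', ih, cocycU_succ, map_mul, pow_succ', map_mul, mul_assoc, mul_assoc,
      ← mul_assoc (fieldUHom σ) (conjUHom _), field_mul_conjU, mul_assoc]

variable [Fintype F]

theorem field_coset_conjU (hF : Fintype.card F = q ^ 2) (hn : 3 ≤ n) (h32 : ¬ (n = 3 ∧ q = 2))
    (σ : RingAut F) (r : ℕ) (hσ : orderOf σ = r) (hro : Odd r)
    {F₀ : Type*} [Field F₀] [Finite F₀] (ι : F₀ →+* F) (hι : ∀ a : F, σ a = a ↔ a ∈ Set.range ι)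
    (ρ₀ : RingAut F₀) (hρ₀ : orderOf ρ₀ = 2) (hρι : ∀ b, (ι b) ^ q = ι (ρ₀ b))
    (g : ↥(GUs n F q))
    (hg : ((conjUHom g : MulAut (Cfsg.PSU n F q)) * fieldUHom σ) ^ r = 1) :
    ∃ h : ↥(GUs n F q),
      (conjUHom g : MulAut (Cfsg.PSU n F q)) * fieldUHom σ =
        conjUHom h * fieldUHom σ * (conjUHom h)⁻¹ := by
  classical
  obtain ⟨ρ, hρ⟩ : ∃ ρ : RingAut F, ∀ a, ρ a = a ^ q :=
    ⟨Cfsg.Agent.Lib.Helper5.HermBridge.frobQ hF,
      fun a => Cfsg.Agent.Lib.Helper5.HermBridge.frobQ_apply hF a⟩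
  have hρo := orderOf_frob hF ρ hρ
  have hcomm : ∀ a, σ (ρ a) = ρ (σ a) := by
    intro a
    rw [hρ, hρ, map_pow]
  rw [pow_conj_fieldU, ← hσ, pow_orderOf_eq_one, map_one, mul_one, hσ] at hg
  have hker : cocycU σ g r ∈ (conjUHom (n := n) (F := F) (q := q)).ker := hg
  rw [ker_conjUHom hF hn h32, Subgroup.mem_subgroupOf, Cfsg.Geo.mem_scalars_iff] at hker
  obtain ⟨μ, hμ⟩ := hker
  obtain ⟨c, hc⟩ := (mem_GUs_iff_gram ρ hρ g.1).1 g.2
  obtain ⟨h, ν, d, hh, hν0, hd0, hfix, hgram⟩ := gus_lang (by omega) σ ρ r hσ hro hρo hcomm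
    ι hι ρ₀ hρ₀ (fun b => by rw [hρ]; exact hρι b)
    (fun i => (((cocycU σ g i : ↥(GUs n F q)) : GL (Fin n) F) : Matrix (Fin n) (Fin n) F))
    (by rw [cocycU_zero]; rfl)
    (by
      intro i
      rw [cocycU_succ, cocycU_one]
      rfl)
    (μ : F) μ.ne_zero hμ (c : F) c.ne_zero
    (by
      show (((cocycU σ g 1 : ↥(GUs n F q)) : GL (Fin n) F) : Matrix (Fin n) (Fin n) F)ᵀ * _ = _
      rw [cocycU_one]
      exact hc)
  have hfix' : ((g : GL (Fin n) F) : Matrix (Fin n) (Fin n) F) * h.map σ = ν • h := by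
    have : (((cocycU σ g 1 : ↥(GUs n F q)) : GL (Fin n) F) : Matrix (Fin n) (Fin n) F) *
        h.map σ = ν • h := hfix
    rwa [cocycU_one] at this
  obtain ⟨hG, rfl⟩ := hh
  have hmem : hG ∈ GUs n F q := (mem_GUs_iff_gram ρ hρ hG).2 ⟨Units.mk0 d hd0, hgram⟩
  refine ⟨⟨hG, hmem⟩, ?_⟩
  have h1 := conj_conj_fieldU σ (1 : ↥(GUs n F q)) ⟨hG, hmem⟩
  rw [map_one, one_mul, mul_one] at h1
  rw [h1]
  congr 1
  apply conjUHom_eq_of_smul _ _ ν hν0
  show ((g : GL (Fin n) F) : Matrix (Fin n) (Fin n) F) = ν • ((hG * (glF σ hG)⁻¹ : GL (Fin n) F) :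
    Matrix (Fin n) (Fin n) F)
  have h2 : (g : GL (Fin n) F) * glF σ hG = (g : GL (Fin n) F) * glF σ hG := rfl
  have h3 : ((g : GL (Fin n) F) : Matrix (Fin n) (Fin n) F) *
      ((glF σ hG : GL (Fin n) F) : Matrix (Fin n) (Fin n) F) =
      ν • (hG : Matrix (Fin n) (Fin n) F) := by
    rw [glF_coe]
    exact hfix'
  have h4 : ((g : GL (Fin n) F) : Matrix (Fin n) (Fin n) F) =
      ν • (hG : Matrix (Fin n) (Fin n) F) *
        (((glF σ hG)⁻¹ : GL (Fin n) F) : Matrix (Fin n) (Fin n) F) := by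
    rw [← h3, Matrix.mul_assoc, ← Units.val_mul, mul_inv_cancel, Units.val_one, Matrix.mul_one]
  rw [h4, Units.val_mul, Matrix.smul_mul]

theorem fieldUHom_injective (hF : Fintype.card F = q ^ 2) (hn : 3 ≤ n)
    (h32 : ¬ (n = 3 ∧ q = 2)) :
    Function.Injective (fieldUHom (n := n) (F := F) (q := q)) := by
  obtain ⟨Φ, hΦ, -⟩ := exists_autHomU (n := n) hF hn h32
  intro a b hab
  rw [← hΦ a, ← hΦ b, hab]

theorem orderOf_fieldUHom (hF : Fintype.card F = q ^ 2) (hn : 3 ≤ n)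
    (h32 : ¬ (n = 3 ∧ q = 2)) (σ : RingAut F) :
    orderOf (fieldUHom (n := n) (q := q) σ) = orderOf σ :=
  orderOf_injective _ (fieldUHom_injective hF hn h32) σ

theorem inndiagU_eq_range (hF : Fintype.card F = q ^ 2) (hn : 0 < n) :
    Cfsg.inndiagPSU n F q = (conjUHom (n := n) (F := F) (q := q)).range := by
  obtain ⟨ρ, hρ⟩ : ∃ ρ : RingAut F, ∀ a, ρ a = a ^ q :=
    ⟨Cfsg.Agent.Lib.Helper5.HermBridge.frobQ hF,
      fun a => Cfsg.Agent.Lib.Helper5.HermBridge.frobQ_apply hF a⟩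
  exact (range_conjUHom ρ hρ (orderOf_frob hF ρ hρ) hn).symm

theorem inndiagU_normal (hF : Fintype.card F = q ^ 2) (hn : 3 ≤ n)
    (h32 : ¬ (n = 3 ∧ q = 2)) : (Cfsg.inndiagPSU n F q).Normal := by
  obtain ⟨Φ, -, hker⟩ := exists_autHomU (n := n) hF hn h32
  rw [inndiagU_eq_range hF (by omega), ← hker]
  exact MonoidHom.normal_ker Φ

/-- the standard form of a field automorphism of `PSU_n(q)` -/
theorem field_class_std (hF : Fintype.card F = q ^ 2) (hn : 3 ≤ n)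
    (h32 : ¬ (n = 3 ∧ q = 2)) (x : MulAut (Cfsg.PSU n F q)) (hx : Cfsg.IsFieldAutClassPSU x) :
    ∃ (α : MulAut (Cfsg.PSU n F q)) (σ : RingAut F), orderOf σ = orderOf x ∧ Odd (orderOf x) ∧
      σ ≠ 1 ∧ α * x * α⁻¹ = fieldUHom σ := by
  obtain ⟨α, φ, σ, hσ1, hσo, hφ, hαx⟩ := hx
  rw [isFieldAut_iff] at hφ
  have hoσ : orderOf (σ : RingAut F) = orderOf x := by
    rw [← orderOf_fieldUHom (n := n) hF hn h32 σ, ← hφ, ← hαx]
    have e2 : α * x * α⁻¹ = MulAut.conj α x := rfl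
    rw [e2, MulEquiv.orderOf_eq]
  refine ⟨α, σ, hoσ, ?_, hσ1, ?_⟩
  · rw [← hoσ]; exact hσo
  · rw [hαx, hφ]

theorem field_class_conjU {p f : ℕ} [Fact p.Prime] (hq : q = p ^ f)
    (hF : Fintype.card F = q ^ 2) (hn : 3 ≤ n) (h32 : ¬ (n = 3 ∧ q = 2))
    (x δ : MulAut (Cfsg.PSU n F q)) (hx : Cfsg.IsFieldAutClassPSU x)
    (hδ : δ ∈ Cfsg.inndiagPSU n F q) (hord : orderOf (δ * x) = orderOf x) :
    Cfsg.IsConjUnder (Cfsg.inndiagPSU n F q) x (δ * x) := by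
  classical
  obtain ⟨α, σ, hoσ, hodd, -, hstd⟩ := field_class_std hF hn h32 x hx
  have : (Cfsg.inndiagPSU n F q).Normal := inndiagU_normal hF hn h32
  apply conjUnder_of_std _ α x δ (fieldUHom σ) hstd hδ _ hord
  intro d hd hdo
  rw [inndiagU_eq_range hF (by omega)] at hd
  obtain ⟨g, rfl⟩ := hd
  rw [orderOf_fieldUHom hF hn h32 σ] at hdo
  have hpow : ((conjUHom g : MulAut (Cfsg.PSU n F q)) * fieldUHom σ) ^ orderOf x = 1 := by
    rw [← hoσ, ← hdo]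
    exact pow_orderOf_eq_one _
  -- the fixed field
  have hk : 2 * (f / orderOf x) ≠ 0 := by
    have hdvd : orderOf x ∣ f := by
      have hF' : Fintype.card F = p ^ (2 * f) := by
        rw [hF, hq, ← pow_mul, mul_comm]
      have : CharP F p := charP_of_card_eq_prime_pow hF'
      have h1 : orderOf x ∣ 2 * f := by
        rw [← hoσ, ← Cfsg.Agent.Lib.Helper18.PSL2Aut.ringAut_card p hF']
        exact orderOf_dvd_natCard σ
      exact (Nat.Coprime.dvd_of_dvd_mul_left (Nat.coprime_two_right.2 hodd) h1)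
    have hf0 : 0 < f := by
      rcases Nat.eq_zero_or_pos f with h0 | h0
      · subst h0
        rw [pow_zero] at hq
        subst hq
        have h2 : 1 < Fintype.card F := Fintype.one_lt_card
        rw [hF] at h2
        norm_num at h2
      · exact h0
    have := Nat.div_pos (Nat.le_of_dvd hf0 hdvd) hodd.pos
    omega
  let F₀ := GaloisField p (2 * (f / orderOf x))
  have : Fintype F₀ := Fintype.ofFinite _
  have hF₀ : Fintype.card F₀ = p ^ (2 * (f / orderOf x)) := by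
    rw [← Nat.card_eq_fintype_card]
    exact GaloisField.card p _ hk
  obtain ⟨-, ι, hι, hιq⟩ := exists_subfield_data hq hF σ (orderOf x) hoσ hodd F₀ hF₀
  have hF₀' : Fintype.card F₀ = (p ^ (f / orderOf x)) ^ 2 := by
    rw [hF₀, ← pow_mul, mul_comm]
  obtain ⟨h, hh⟩ := field_coset_conjU hF hn h32 σ (orderOf x) hoσ hodd ι hι
    (Cfsg.Agent.Lib.Helper5.HermBridge.frobQ hF₀')
    (orderOf_frob hF₀' _ (fun a => Cfsg.Agent.Lib.Helper5.HermBridge.frobQ_apply hF₀' a))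
    (fun b => by rw [hιq]; rfl) g hpow
  refine ⟨conjUHom h, ?_, hh⟩
  rw [inndiagU_eq_range hF (by omega)]
  exact ⟨h, rfl⟩

end coset

end Cfsg.Agent.Lib.Helper18.PSUFld
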