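import Mathlib
import Cfsg.Agent.Lib.Helper18.PSUFldB
import Cfsg.Agent.Lib.Helper25.PSUSplit1

/-!
The centralizer of a field automorphism of odd order of `PSU_n(q)` in the inner-diagonal group,
and the splitting of its class (helper18).
-/

set_option autoImplicit false

namespace Cfsg.Agent.Lib.Helper18.PSUFld

open Matrix Cfsg Cfsg.Agent.Lib.Helper18.PSLnAut Cfsg.Agent.Lib.Helper18.PSLnFld
  Cfsg.Agent.Lib.Helper25.PSUG Cfsg.Agent.Lib.Helper18.PSUOut Cfsg.Agent.Lib.Helper14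
  Cfsg.Agent.Lib.Helper25.InvTrans

section basechange

variable {n : ℕ} {F : Type*} [Field F] {F₀ : Type*} [Field F₀] {q q₀ : ℕ}

theorem map_one_hom (ι : F₀ →+* F) : (1 : Matrix (Fin n) (Fin n) F₀).map ι = 1 := by
  ext a b
  by_cases hab : a = b
  · subst hab; simp
  · simp [hab]

theorem glMap_mem_GU (ρ : RingAut F) (hρ : ∀ a, ρ a = a ^ q) (ρ₀ : RingAut F₀)
    (hρ₀ : ∀ b, ρ₀ b = b ^ q₀) (ι : F₀ →+* F) (hιρ : ∀ b, ρ (ι b) = ι (ρ₀ b))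
    {g₀ : GL (Fin n) F₀} (hg₀ : g₀ ∈ Cfsg.GU n F₀ q₀) : glMap ι g₀ ∈ Cfsg.GU n F q := by
  rw [mem_GU_iff_gram ρ q hρ, glMap_coe]
  rw [mem_GU_iff_gram ρ₀ q₀ hρ₀] at hg₀
  have h1 : ((g₀ : Matrix (Fin n) (Fin n) F₀).map ι).map ρ =
      ((g₀ : Matrix (Fin n) (Fin n) F₀).map ρ₀).map ι := by
    ext a b
    exact hιρ _
  rw [h1, ← Matrix.transpose_map, ← Matrix.map_mul, hg₀, map_one_hom]

/-- base change of unitary matrices -/
noncomputable def guMap (ι : F₀ →+* F)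
    (hmem : ∀ g₀ ∈ Cfsg.GU n F₀ q₀, glMap ι g₀ ∈ Cfsg.GU n F q) :
    ↥(Cfsg.GU n F₀ q₀) →* ↥(Cfsg.GU n F q) :=
  ((glMap ι).comp (Cfsg.GU n F₀ q₀).subtype).codRestrict (Cfsg.GU n F q)
    (fun g => hmem g.1 g.2)

theorem guMap_coe (ι : F₀ →+* F)
    (hmem : ∀ g₀ ∈ Cfsg.GU n F₀ q₀, glMap ι g₀ ∈ Cfsg.GU n F q) (g₀ : ↥(Cfsg.GU n F₀ q₀)) :
    (guMap ι hmem g₀).1 = glMap ι g₀.1 := rfl

theorem glMap_mem_scalars_iff (hn : 0 < n) (ι : F₀ →+* F) (g₀ : GL (Fin n) F₀) :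
    glMap ι g₀ ∈ Cfsg.Geo.scalars (Fin n) F ↔ g₀ ∈ Cfsg.Geo.scalars (Fin n) F₀ := by
  rw [Cfsg.Geo.mem_scalars_iff, Cfsg.Geo.mem_scalars_iff]
  constructor
  · rintro ⟨c, hc⟩
    rw [glMap_coe] at hc
    have i0 : Fin n := ⟨0, hn⟩
    have h2 := congrFun (congrFun hc i0) i0
    rw [Matrix.map_apply, Matrix.smul_apply, Matrix.one_apply_eq, smul_eq_mul, mul_one] at h2
    have hne : (g₀ : Matrix (Fin n) (Fin n) F₀) i0 i0 ≠ 0 := by
      intro h0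
      rw [h0, map_zero] at h2
      exact c.ne_zero h2.symm
    refine ⟨Units.mk0 _ hne, ?_⟩
    ext i j
    apply ι.injective
    have h1 := congrFun (congrFun hc i) j
    rw [Matrix.map_apply] at h1
    rw [h1, Matrix.smul_apply, Matrix.smul_apply, smul_eq_mul, smul_eq_mul, map_mul,
      Units.val_mk0, h2]
    by_cases hij : i = j
    · subst hij
      rw [Matrix.one_apply_eq, Matrix.one_apply_eq, map_one]
    · rw [Matrix.one_apply_ne hij, Matrix.one_apply_ne hij, map_zero]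
  · rintro ⟨c, hc⟩
    refine ⟨Units.map (ι : F₀ →* F) c, ?_⟩
    rw [glMap_coe, hc]
    ext i j
    rw [Matrix.map_apply, Matrix.smul_apply, Matrix.smul_apply, smul_eq_mul, smul_eq_mul, map_mul]
    by_cases hij : i = j
    · subst hij
      rw [Matrix.one_apply_eq, Matrix.one_apply_eq, map_one]
      rfl
    · rw [Matrix.one_apply_ne hij, Matrix.one_apply_ne hij, map_zero]
      rfl

/-- the action of the unitary group of the fixed field on `PSU_n(F)` -/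
noncomputable def PsiGU (ι : F₀ →+* F)
    (hmem : ∀ g₀ ∈ Cfsg.GU n F₀ q₀, glMap ι g₀ ∈ Cfsg.GU n F q) :
    ↥(Cfsg.GU n F₀ q₀) →* MulAut (Cfsg.PSU n F q) :=
  chiU.comp (guMap ι hmem)

theorem PsiGU_apply (ι : F₀ →+* F)
    (hmem : ∀ g₀ ∈ Cfsg.GU n F₀ q₀, glMap ι g₀ ∈ Cfsg.GU n F q) (g₀ : ↥(Cfsg.GU n F₀ q₀)) :
    PsiGU ι hmem g₀ = chiU (guMap ι hmem g₀) := rfl

theorem chiU_guMap_mem_centralizer (σ : RingAut F) (ι : F₀ →+* F) (hι' : ∀ b, σ (ι b) = ι b)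
    (hmem : ∀ g₀ ∈ Cfsg.GU n F₀ q₀, glMap ι g₀ ∈ Cfsg.GU n F q) (g₀ : ↥(Cfsg.GU n F₀ q₀)) :
    chiU (guMap ι hmem g₀) ∈
      Subgroup.centralizer {(fieldUHom σ : MulAut (Cfsg.PSU n F q))} := by
  rw [Subgroup.mem_centralizer_iff]
  intro h hh
  rw [Set.mem_singleton_iff] at hh
  subst hh
  rw [chiU_apply, field_mul_conjU]
  congr 2
  apply Subtype.ext
  show glF σ (glMap ι g₀.1) = glMap ι g₀.1
  exact glF_glMap σ ι hι' g₀.1

end basechange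

section cent

variable {n : ℕ} {F : Type*} [Field F] [Fintype F] {F₀ : Type*} [Field F₀] [Finite F₀]
  {q q₀ : ℕ}

/-- the unitary matrices inducing an automorphism commuting with a field automorphism -/
theorem cent_descr (hF : Fintype.card F = q ^ 2) (hn : 3 ≤ n) (h32 : ¬ (n = 3 ∧ q = 2))
    (σ : RingAut F) (r : ℕ) (hσ : orderOf σ = r) (hr : 0 < r)
    (ρ : RingAut F) (hρ : ∀ a, ρ a = a ^ q) (ρ₀ : RingAut F₀) (hρ₀ : ∀ b, ρ₀ b = b ^ q₀)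
    (hρ₀o : orderOf ρ₀ = 2)
    (ι : F₀ →+* F) (hι : ∀ a : F, σ a = a ↔ a ∈ Set.range ι) (hιρ : ∀ b, ρ (ι b) = ι (ρ₀ b))
    (hmem : ∀ g₀ ∈ Cfsg.GU n F₀ q₀, glMap ι g₀ ∈ Cfsg.GU n F q)
    (g : ↥(Cfsg.GU n F q))
    (hg : chiU g ∈ Subgroup.centralizer {(fieldUHom σ : MulAut (Cfsg.PSU n F q))}) :
    ∃ (w : ↥(normOne F q)) (g₀ : ↥(Cfsg.GU n F₀ q₀)), g = scalarGU w * guMap ι hmem g₀ := by
  classical
  have hρ2 : ∀ a, ρ₀ (ρ₀ a) = a := by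
    intro a
    have h1 : ρ₀ ^ 2 = 1 := by rw [← hρ₀o]; exact pow_orderOf_eq_one ρ₀
    have h2 : (ρ₀ ^ 2) a = a := by rw [h1]; rfl
    rwa [pow_two] at h2
  rw [Subgroup.mem_centralizer_iff] at hg
  have h1 := hg _ rfl
  rw [chiU_apply, field_mul_conjU] at h1
  set g' : ↥(GUs n F q) := ⟨g.1, GU_le_GUs g.2⟩ with hg'
  have h2 : (conjUHom (glFU σ g') : MulAut (Cfsg.PSU n F q)) = conjUHom g' := mul_right_cancel h1
  have h3 : g'⁻¹ * glFU σ g' ∈ (conjUHom (n := n) (F := F) (q := q)).ker := by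
    rw [MonoidHom.mem_ker, map_mul, map_inv, h2, inv_mul_cancel]
  rw [ker_conjUHom hF hn h32, Subgroup.mem_subgroupOf, Cfsg.Geo.mem_scalars_iff] at h3
  obtain ⟨lam, hlam⟩ := h3
  set G : Matrix (Fin n) (Fin n) F := ((g.1 : GL (Fin n) F) : Matrix (Fin n) (Fin n) F) with hG
  have hGσ : G.map σ = (lam : F) • G := by
    have h4 : glFU σ g' = g' * (g'⁻¹ * glFU σ g') := by rw [mul_inv_cancel_left]
    have h5 : (((glFU σ g' : ↥(GUs n F q)) : GL (Fin n) F) : Matrix (Fin n) (Fin n) F) =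
        G * (((g'⁻¹ * glFU σ g' : ↥(GUs n F q)) : GL (Fin n) F) :
          Matrix (Fin n) (Fin n) F) := by
      conv_lhs => rw [h4]
      rw [Subgroup.coe_mul, Units.val_mul]
    rw [hlam, glFU_coe, Matrix.mul_smul, Matrix.mul_one] at h5
    exact h5
  have hGu : IsUnit G := ⟨(g.1 : GL (Fin n) F), rfl⟩
  have : Nonempty (Fin n) := ⟨⟨0, by omega⟩⟩
  obtain ⟨a, b, hab⟩ : ∃ a b, G a b ≠ 0 := by
    by_contra hcon
    push Not at hcon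
    have h0 : G = 0 := by
      ext a b
      exact hcon a b
    rw [h0] at hGu
    exact not_isUnit_zero hGu
  have hnrm : nrm σ (lam : F) r = 1 := by
    have h6 := iterate_entryM σ G _ hGσ r a b
    rw [← hσ, pow_orderOf_eq_one, hσ] at h6
    have h7 : G a b * 1 = G a b * nrm σ (lam : F) r := by
      rw [mul_one]
      exact h6
    exact (mul_left_cancel₀ hab h7).symm
  obtain ⟨ν, hν0, hν⟩ := exists_fixed_of_nrm_eq_one σ r hσ hr (lam : F) hnrm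
  have hfix : ∀ a b, σ (ν * G a b) = ν * G a b := by
    intro a b
    have h5 := congrFun (congrFun hGσ a) b
    rw [Matrix.map_apply, Matrix.smul_apply, smul_eq_mul] at h5
    rw [map_mul, h5]
    calc σ ν * ((lam : F) * G a b) = ((lam : F) * σ ν) * G a b := by ring
      _ = _ := by rw [hν]
  choose g₀ hg₀ using fun a b => (hι _).1 (hfix a b)
  have hmap : (Matrix.of g₀ : Matrix (Fin n) (Fin n) F₀).map ι = ν • G := by
    ext a b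
    rw [Matrix.map_apply, Matrix.of_apply, hg₀, Matrix.smul_apply, smul_eq_mul]
  have hgramG : Gᵀ * G.map ρ = 1 := (mem_GU_iff_gram ρ q hρ g.1).1 g.2
  have hmapρ : ((Matrix.of g₀ : Matrix (Fin n) (Fin n) F₀).map ρ₀).map ι =
      ((Matrix.of g₀ : Matrix (Fin n) (Fin n) F₀).map ι).map ρ := by
    ext a b
    exact (hιρ _).symm
  have hgram : ((Matrix.of g₀ : Matrix (Fin n) (Fin n) F₀)ᵀ *
      (Matrix.of g₀ : Matrix (Fin n) (Fin n) F₀).map ρ₀).map ι =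
      (ν * ρ ν) • (1 : Matrix (Fin n) (Fin n) F) := by
    rw [Matrix.map_mul, hmapρ, Matrix.transpose_map, hmap, Matrix.transpose_smul, map_smul',
      Matrix.smul_mul, Matrix.mul_smul, smul_smul, hgramG]
  set c₀ : F₀ := ((Matrix.of g₀ : Matrix (Fin n) (Fin n) F₀)ᵀ *
      (Matrix.of g₀ : Matrix (Fin n) (Fin n) F₀).map ρ₀) ⟨0, by omega⟩ ⟨0, by omega⟩ with hc₀
  have hιc₀ : ι c₀ = ν * ρ ν := by
    have := congrFun (congrFun hgram ⟨0, by omega⟩) ⟨0, by omega⟩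
    rw [Matrix.map_apply, ← hc₀] at this
    rw [this, Matrix.smul_apply, Matrix.one_apply_eq, smul_eq_mul, mul_one]
  have hρν0 : ρ ν ≠ 0 := (map_ne_zero_iff _ (RingEquiv.injective _)).2 hν0
  have hc₀0 : c₀ ≠ 0 := by
    intro h0
    rw [h0, map_zero] at hιc₀
    exact (mul_ne_zero hν0 hρν0) hιc₀.symm
  have hgram₀ : (Matrix.of g₀ : Matrix (Fin n) (Fin n) F₀)ᵀ *
      (Matrix.of g₀ : Matrix (Fin n) (Fin n) F₀).map ρ₀ =
      c₀ • (1 : Matrix (Fin n) (Fin n) F₀) := by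
    apply Matrix.map_injective ι.injective
    show ((Matrix.of g₀ : Matrix (Fin n) (Fin n) F₀)ᵀ *
      (Matrix.of g₀ : Matrix (Fin n) (Fin n) F₀).map ρ₀).map ι =
      (c₀ • (1 : Matrix (Fin n) (Fin n) F₀)).map ι
    rw [hgram, map_smul_one, hιc₀]
  have hc₀fix : ρ₀ c₀ = c₀ := gram_multiplier_fixed ρ₀ hρ2 (by omega) _ c₀ hgram₀
  obtain ⟨b, hb0, hb⟩ := exists_nrm_eq ρ₀ 2 hρ₀o (by norm_num) c₀ hc₀0 hc₀fix
  have hb' : b * ρ₀ b = c₀ := by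
    rw [← hb, show (2 : ℕ) = 1 + 1 from rfl, nrm_succ, nrm_one]
  have hρb0 : ρ₀ b ≠ 0 := (map_ne_zero_iff _ (RingEquiv.injective _)).2 hb0
  set G₁ : Matrix (Fin n) (Fin n) F₀ := b⁻¹ • (Matrix.of g₀ : Matrix (Fin n) (Fin n) F₀)
    with hG₁
  have hG₁gram : G₁ᵀ * G₁.map ρ₀ = 1 := by
    rw [hG₁, Matrix.transpose_smul, map_smul', Matrix.smul_mul, Matrix.mul_smul, smul_smul,
      hgram₀, smul_smul, ← hb', map_inv₀]
    have : b⁻¹ * (ρ₀ b)⁻¹ * (b * ρ₀ b) = 1 := by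
      field_simp
    rw [this, one_smul]
  have hdet : G₁.det ≠ 0 := by
    intro h0
    have h8 := congrArg Matrix.det hG₁gram
    rw [Matrix.det_mul, Matrix.det_transpose, h0, zero_mul, Matrix.det_one] at h8
    exact zero_ne_one h8
  let G₁' : GL (Fin n) F₀ := Matrix.GeneralLinearGroup.mkOfDetNeZero G₁ hdet
  have hG₁' : G₁' ∈ Cfsg.GU n F₀ q₀ := (mem_GU_iff_gram ρ₀ q₀ hρ₀ G₁').2 hG₁gram
  set wF : F := ν⁻¹ * ι b with hwF
  have hιb0 : ι b ≠ 0 := (map_ne_zero_iff _ ι.injective).2 hb0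
  have hwF0 : wF ≠ 0 := mul_ne_zero (inv_ne_zero hν0) hιb0
  have hgG : G = wF • (G₁.map ι) := by
    have h9 : G₁.map ι = (ι b)⁻¹ • (ν • G) := by
      rw [← hmap, hG₁]
      ext a b
      simp
    rw [h9, smul_smul, smul_smul, hwF]
    have : ν⁻¹ * ι b * (ι b)⁻¹ * ν = 1 := by
      field_simp
    rw [this, one_smul]
  have hgGL : (g.1 : GL (Fin n) F) = scalarGL (Units.mk0 wF hwF0) * glMap ι G₁' := by
    apply Units.ext
    rw [Units.val_mul, scalarGL_coe, Matrix.smul_mul, Matrix.one_mul]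
    exact hgG
  have hw : Units.mk0 wF hwF0 ∈ normOne F q := by
    apply normOne_of_scalar_mem (n := n) (by omega)
      (g := (scalarGL (Units.mk0 wF hwF0) : GL (Fin n) F)) _ (scalarGL_coe _)
    have h10 : (scalarGL (Units.mk0 wF hwF0) : GL (Fin n) F) =
        (g.1 : GL (Fin n) F) * (glMap ι G₁')⁻¹ := by
      rw [hgGL, mul_inv_cancel_right]
    rw [h10]
    exact (Cfsg.GU n F q).mul_mem g.2 ((Cfsg.GU n F q).inv_mem (hmem _ hG₁'))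
  refine ⟨⟨Units.mk0 wF hwF0, hw⟩, ⟨G₁', hG₁'⟩, ?_⟩
  apply Subtype.ext
  exact hgGL

theorem range_PsiGU (hF : Fintype.card F = q ^ 2) (hn : 3 ≤ n) (h32 : ¬ (n = 3 ∧ q = 2))
    (σ : RingAut F) (r : ℕ) (hσ : orderOf σ = r) (hr : 0 < r)
    (ρ : RingAut F) (hρ : ∀ a, ρ a = a ^ q) (ρ₀ : RingAut F₀) (hρ₀ : ∀ b, ρ₀ b = b ^ q₀)
    (hρ₀o : orderOf ρ₀ = 2)
    (ι : F₀ →+* F) (hι : ∀ a : F, σ a = a ↔ a ∈ Set.range ι) (hιρ : ∀ b, ρ (ι b) = ι (ρ₀ b))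
    (hmem : ∀ g₀ ∈ Cfsg.GU n F₀ q₀, glMap ι g₀ ∈ Cfsg.GU n F q) :
    (PsiGU (n := n) ι hmem).range = Cfsg.inndiagPSU n F q ⊓
      Subgroup.centralizer {(fieldUHom σ : MulAut (Cfsg.PSU n F q))} := by
  have hι' : ∀ b, σ (ι b) = ι b := fun b => (hι _).2 ⟨b, rfl⟩
  rw [← range_chiU]
  apply le_antisymm
  · rintro _ ⟨g₀, rfl⟩
    exact ⟨⟨_, rfl⟩, chiU_guMap_mem_centralizer σ ι hι' hmem g₀⟩
  · rintro d ⟨⟨g, rfl⟩, hc⟩
    obtain ⟨w, g₀, rfl⟩ := cent_descr hF hn h32 σ r hσ hr ρ hρ ρ₀ hρ₀ hρ₀o ι hι hιρ hmem g hc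
    refine ⟨g₀, ?_⟩
    rw [PsiGU_apply, map_mul, chiU_scalarGU, one_mul]

omit [Finite F₀] in
theorem ker_PsiGU (hF : Fintype.card F = q ^ 2) (hn : 3 ≤ n) (h32 : ¬ (n = 3 ∧ q = 2))
    (ι : F₀ →+* F) (hmem : ∀ g₀ ∈ Cfsg.GU n F₀ q₀, glMap ι g₀ ∈ Cfsg.GU n F q) :
    (PsiGU (n := n) ι hmem).ker =
      (Cfsg.Geo.scalars (Fin n) F₀).subgroupOf (Cfsg.GU n F₀ q₀) := by
  ext g₀
  rw [MonoidHom.mem_ker, PsiGU_apply, chiU_apply, ← MonoidHom.mem_ker, ker_conjUHom hF hn h32,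
    Subgroup.mem_subgroupOf, Subgroup.mem_subgroupOf]
  exact glMap_mem_scalars_iff (by omega) ι g₀.1

/-- the centralizer of a field automorphism of odd order in the inner-diagonal group is the
projective unitary group over the fixed field -/
theorem nonempty_centralizer_equiv_GU (hF : Fintype.card F = q ^ 2) (hn : 3 ≤ n)
    (h32 : ¬ (n = 3 ∧ q = 2))
    (σ : RingAut F) (r : ℕ) (hσ : orderOf σ = r) (hr : 0 < r)
    (ρ : RingAut F) (hρ : ∀ a, ρ a = a ^ q) (ρ₀ : RingAut F₀) (hρ₀ : ∀ b, ρ₀ b = b ^ q₀)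
    (hρ₀o : orderOf ρ₀ = 2)
    (ι : F₀ →+* F) (hι : ∀ a : F, σ a = a ↔ a ∈ Set.range ι) (hιρ : ∀ b, ρ (ι b) = ι (ρ₀ b)) :
    Nonempty (↥(Cfsg.inndiagPSU n F q ⊓
      Subgroup.centralizer {(fieldUHom σ : MulAut (Cfsg.PSU n F q))}) ≃* Cfsg.PGU n F₀ q₀) := by
  have hmem : ∀ g₀ ∈ Cfsg.GU n F₀ q₀, glMap ι g₀ ∈ Cfsg.GU n F q :=
    fun g₀ hg₀ => glMap_mem_GU ρ hρ ρ₀ hρ₀ ι hιρ hg₀
  rw [← range_PsiGU hF hn h32 σ r hσ hr ρ hρ ρ₀ hρ₀ hρ₀o ι hι hιρ hmem]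
  have e1 := QuotientGroup.quotientKerEquivRange (PsiGU (n := n) ι hmem)
  have e2 : ↥(Cfsg.GU n F₀ q₀) ⧸ (PsiGU (n := n) ι hmem).ker ≃* Cfsg.PGU n F₀ q₀ :=
    QuotientGroup.quotientMulEquivOfEq (ker_PsiGU hF hn h32 ι hmem)
  exact ⟨e1.symm.trans e2⟩

end cent

section split

variable {n : ℕ} {F : Type*} [Field F] [Fintype F] {F₀ : Type*} [Field F₀] [Fintype F₀]
  {q q₀ : ℕ}

/-- norm-one elements of the fixed field as norm-one elements of the big field -/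
noncomputable def normOneMap (ι : F₀ →+* F) (hιq : ∀ b, (ι b) ^ q = ι (b ^ q₀)) :
    ↥(normOne F₀ q₀) →* ↥(normOne F q) :=
  ((Units.map (ι : F₀ →* F)).comp (normOne F₀ q₀).subtype).codRestrict (normOne F q)
    (fun w => by
      rw [mem_normOne]
      apply Units.ext
      rw [Units.val_pow_eq_pow_val, Units.val_one, pow_succ]
      show (ι (w.1 : F₀)) ^ q * ι (w.1 : F₀) = 1
      rw [hιq, ← map_mul, ← pow_succ]
      have h1 := (mem_normOne w.1).1 w.2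
      have h2 := congrArg Units.val h1
      rw [Units.val_pow_eq_pow_val, Units.val_one] at h2
      rw [h2, map_one])

omit [Fintype F] [Fintype F₀] in
theorem normOneMap_coe (ι : F₀ →+* F) (hιq : ∀ b, (ι b) ^ q = ι (b ^ q₀))
    (w : ↥(normOne F₀ q₀)) : (((normOneMap ι hιq w).1 : Fˣ) : F) = ι ((w.1 : F₀ˣ) : F₀) := rfl

omit [Fintype F] [Fintype F₀] in
theorem normOneMap_injective (ι : F₀ →+* F) (hιq : ∀ b, (ι b) ^ q = ι (b ^ q₀)) :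
    Function.Injective (normOneMap (q := q) (q₀ := q₀) ι hιq) := by
  intro w w' h
  apply Subtype.ext
  apply Units.ext
  apply ι.injective
  rw [← normOneMap_coe ι hιq, ← normOneMap_coe ι hιq, h]

theorem card_range_normOneMap (hF₀ : Fintype.card F₀ = q₀ ^ 2) (ι : F₀ →+* F)
    (hιq : ∀ b, (ι b) ^ q = ι (b ^ q₀)) :
    Nat.card (normOneMap (q := q) (q₀ := q₀) ι hιq).range = q₀ + 1 := by
  classical
  rw [← card_normOne hF₀]
  exact (Nat.card_congr (Equiv.ofInjective _ (normOneMap_injective ι hιq))).symm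

theorem detN_guMap (hF : Fintype.card F = q ^ 2) (hF₀ : Fintype.card F₀ = q₀ ^ 2)
    (ι : F₀ →+* F) (hιq : ∀ b, (ι b) ^ q = ι (b ^ q₀))
    (hmem : ∀ g₀ ∈ Cfsg.GU n F₀ q₀, glMap ι g₀ ∈ Cfsg.GU n F q) (g₀ : ↥(Cfsg.GU n F₀ q₀)) :
    detN hF (guMap ι hmem g₀) = normOneMap ι hιq (detN hF₀ g₀) := by
  apply Subtype.ext
  apply Units.ext
  rw [normOneMap_coe, detN_coe, detN_coe, guMap_coe]
  show ((glMap ι g₀.1 : GL (Fin n) F) : Matrix (Fin n) (Fin n) F).det = _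
  rw [glMap_coe]
  exact (RingHom.map_det ι _).symm

theorem detSubU_field (hF : Fintype.card F = q ^ 2) (hF₀ : Fintype.card F₀ = q₀ ^ 2)
    (hn : 3 ≤ n) (h32 : ¬ (n = 3 ∧ q = 2))
    (σ : RingAut F) (r : ℕ) (hσ : orderOf σ = r) (hr : 0 < r)
    (ρ : RingAut F) (hρ : ∀ a, ρ a = a ^ q) (ρ₀ : RingAut F₀) (hρ₀ : ∀ b, ρ₀ b = b ^ q₀)
    (hρ₀o : orderOf ρ₀ = 2)
    (ι : F₀ →+* F) (hι : ∀ a : F, σ a = a ↔ a ∈ Set.range ι) (hιρ : ∀ b, ρ (ι b) = ι (ρ₀ b))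
    (hιq : ∀ b, (ι b) ^ q = ι (b ^ q₀)) :
    detSubU hF (fieldUHom σ : MulAut (Cfsg.PSU n F q)) =
      (powMonoidHom n : ↥(normOne F q) →* ↥(normOne F q)).range ⊔
        (normOneMap (q := q) (q₀ := q₀) ι hιq).range := by
  have hmem : ∀ g₀ ∈ Cfsg.GU n F₀ q₀, glMap ι g₀ ∈ Cfsg.GU n F q :=
    fun g₀ hg₀ => glMap_mem_GU ρ hρ ρ₀ hρ₀ ι hιρ hg₀
  have hι' : ∀ b, σ (ι b) = ι b := fun b => (hι _).2 ⟨b, rfl⟩
  unfold detSubU
  apply le_antisymm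
  · apply sup_le le_sup_left
    rintro _ ⟨g, hg, rfl⟩
    rw [SetLike.mem_coe, Subgroup.mem_comap] at hg
    obtain ⟨w, g₀, rfl⟩ := cent_descr hF hn h32 σ r hσ hr ρ hρ ρ₀ hρ₀ hρ₀o ι hι hιρ hmem g hg
    rw [map_mul, detN_scalarGU, detN_guMap hF hF₀ ι hιq hmem]
    exact Subgroup.mul_mem _ (Subgroup.mem_sup_left ⟨w, rfl⟩)
      (Subgroup.mem_sup_right ⟨_, rfl⟩)
  · apply sup_le le_sup_left
    rintro _ ⟨w₀, rfl⟩
    obtain ⟨g₀, rfl⟩ := detN_surjective (n := n) hF₀ (by omega) w₀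
    apply Subgroup.mem_sup_right
    refine ⟨guMap ι hmem g₀, ?_, (detN_guMap hF hF₀ ι hιq hmem g₀)⟩
    rw [SetLike.mem_coe, Subgroup.mem_comap]
    exact chiU_guMap_mem_centralizer σ ι hι' hmem g₀

/-- the class of a field automorphism of odd order splits into `gcd(n, (q+1)/(q₀+1))` classes -/
theorem splitClassCount_fieldU (hF : Fintype.card F = q ^ 2) (hF₀ : Fintype.card F₀ = q₀ ^ 2)
    (hn : 3 ≤ n) (h32 : ¬ (n = 3 ∧ q = 2))
    (σ : RingAut F) (r : ℕ) (hσ : orderOf σ = r) (hr : 0 < r)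
    (ρ : RingAut F) (hρ : ∀ a, ρ a = a ^ q) (ρ₀ : RingAut F₀) (hρ₀ : ∀ b, ρ₀ b = b ^ q₀)
    (hρ₀o : orderOf ρ₀ = 2)
    (ι : F₀ →+* F) (hι : ∀ a : F, σ a = a ↔ a ∈ Set.range ι) (hιρ : ∀ b, ρ (ι b) = ι (ρ₀ b))
    (hιq : ∀ b, (ι b) ^ q = ι (b ^ q₀)) (hdvd : q₀ + 1 ∣ q + 1) :
    Cfsg.splitClassCount (Cfsg.inndiagPSU n F q) (Cfsg.Inn (Cfsg.PSU n F q))
      (fieldUHom σ : MulAut (Cfsg.PSU n F q)) = Nat.gcd n ((q + 1) / (q₀ + 1)) := by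
  classical
  rw [splitClassCount_U hF hn h32, detSubU_field hF hF₀ hn h32 σ r hσ hr ρ hρ ρ₀ hρ₀ hρ₀o ι hι
    hιρ hιq]
  have hcardN : Nat.card ↥(normOne F q) = q + 1 := card_normOne hF
  have h1 : (normOneMap (q := q) (q₀ := q₀) ι hιq).range =
      (powMonoidHom ((q + 1) / (q₀ + 1)) : ↥(normOne F q) →* ↥(normOne F q)).range := by
    apply eq_range_pow_of_card
    rw [hcardN, card_range_normOneMap hF₀, Nat.div_mul_cancel hdvd]
  rw [h1, range_pow_sup]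
  apply index_range_pow
  rw [hcardN]
  exact dvd_trans (Nat.gcd_dvd_right _ _) (Nat.div_dvd_of_dvd hdvd)

end split

end Cfsg.Agent.Lib.Helper18.PSUFld
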