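import Mathlib
import Cfsg.Agent.Lib.Helper18.PSLnBalP
import Cfsg.Agent.Lib.Helper18.PSUFldC

/-!
# Local balance for `PSU_n(q)`: the map to `PSL_n(q²)` and the subfield subgroup (helper18)
-/

set_option autoImplicit false
set_option linter.unusedSectionVars false

namespace Cfsg.Agent.Lib.Helper18.PSUBal

open Matrix Cfsg Cfsg.Agent.Lib.Helper18.PSLnAut Cfsg.Agent.Lib.Helper18.PSLnFld
  Cfsg.Agent.Lib.Helper25.PSUG Cfsg.Agent.Lib.Helper18.PSUOut Cfsg.Agent.Lib.Helper18.PSUFld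
  Cfsg.Agent.Lib.Helper14 Cfsg.Agent.Lib.Helper18.PSLnBal
  Cfsg.Agent.Lib.Helper25 Cfsg.Agent.Lib.Helper25.SLRoot

section center

variable {n : ℕ} {F : Type*} [Field F] [Fintype F] {q : ℕ}

/-- central elements of the special unitary group are scalar matrices -/
theorem center_SU_scalar (hF : Fintype.card F = q ^ 2) (hn : 2 ≤ n) (z : ↥(Cfsg.SU n F q))
    (hz : z ∈ Subgroup.center ↥(Cfsg.SU n F q)) :
    ∃ c : F, (z.1 : Matrix (Fin n) (Fin n) F) = c • (1 : Matrix (Fin n) (Fin n) F) := by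
  classical
  obtain ⟨m, rfl⟩ : ∃ m, n = m + 2 := ⟨n - 2, by omega⟩
  have hcomm : ∀ M : Matrix (Fin (m + 2)) (Fin (m + 2)) F, M.det = 1 → IsUni F q (m + 2) M →
      M * (z.1 : Matrix (Fin (m + 2)) (Fin (m + 2)) F) =
        (z.1 : Matrix (Fin (m + 2)) (Fin (m + 2)) F) * M := by
    intro M hdet hU
    have h1 := (Subgroup.mem_center_iff.1 hz) ⟨⟨M, hdet⟩, hU⟩
    have h2 := congrArg (fun s : ↥(Cfsg.SU (m + 2) F q) =>
      (s.1 : Matrix (Fin (m + 2)) (Fin (m + 2)) F)) h1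
    exact h2
  have hsc := Cfsg.Agent.Lib.Helper5.GUCenter.comm_scalar hF
    (z.1 : Matrix (Fin (m + 2)) (Fin (m + 2)) F) hcomm
  refine ⟨(z.1 : Matrix (Fin (m + 2)) (Fin (m + 2)) F) 0 0, ?_⟩
  rw [Matrix.smul_one_eq_diagonal]
  exact hsc

theorem center_SU_le (hF : Fintype.card F = q ^ 2) (hn : 2 ≤ n) :
    Subgroup.center ↥(Cfsg.SU n F q) ≤
      (Subgroup.center (SpecialLinearGroup (Fin n) F)).comap (Cfsg.SU n F q).subtype := by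
  intro z hz
  obtain ⟨c, hc⟩ := center_SU_scalar hF hn z hz
  rw [Subgroup.mem_comap, Subgroup.mem_center_iff]
  intro g
  apply Subtype.ext
  show (g : Matrix (Fin n) (Fin n) F) * (z.1 : Matrix (Fin n) (Fin n) F) =
    (z.1 : Matrix (Fin n) (Fin n) F) * (g : Matrix (Fin n) (Fin n) F)
  rw [hc, Matrix.mul_smul, Matrix.smul_mul, Matrix.mul_one, Matrix.one_mul]

/-- the natural map `PSU_n(q) → PSL_n(q²)` -/
noncomputable def psuToPsl (hF : Fintype.card F = q ^ 2) (hn : 2 ≤ n) :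
    Cfsg.PSU n F q →* ProjectiveSpecialLinearGroup (Fin n) F :=
  QuotientGroup.map _ _ (Cfsg.SU n F q).subtype (center_SU_le hF hn)

theorem psuToPsl_piU (hF : Fintype.card F = q ^ 2) (hn : 2 ≤ n) (s : ↥(Cfsg.SU n F q)) :
    psuToPsl hF hn (piU s) = pi s.1 := rfl

/-- a semilinear automorphism of `PSU_n` fixing the class of a matrix induces a semilinear
automorphism of `PSL_n` fixing its class -/
theorem psl_fix_of_psu_fix (hF : Fintype.card F = q ^ 2) (hn : 2 ≤ n) (h : ↥(GUs n F q))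
    (τ : RingAut F) (s : ↥(Cfsg.SU n F q))
    (hfix : conjU h (fieldU τ (piU s)) = piU s) :
    conjA h.1 (fieldA τ (pi s.1)) = pi s.1 := by
  have h1 := congrArg (psuToPsl hF hn) hfix
  rw [fieldU_piU, conjU_piU, psuToPsl_piU, psuToPsl_piU] at h1
  exact h1

end center

section sub

variable {n : ℕ} {F : Type*} [Field F] {F₀ : Type*} [Field F₀] {q q₀ : ℕ}

/-- base change of special unitary matrices -/
noncomputable def suMap (ι : F₀ →+* F)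
    (hmem : ∀ g₀ ∈ Cfsg.GU n F₀ q₀, glMap ι g₀ ∈ Cfsg.GU n F q) :
    ↥(Cfsg.SU n F₀ q₀) →* ↥(Cfsg.SU n F q) where
  toFun s := ⟨Matrix.SpecialLinearGroup.map ι s.1, by
    show Matrix.SpecialLinearGroup.toGL (Matrix.SpecialLinearGroup.map ι s.1) ∈ Cfsg.GU n F q
    rw [← glMap_toGL]
    exact hmem _ s.2⟩
  map_one' := Subtype.ext (map_one _)
  map_mul' s t := Subtype.ext (map_mul _ s.1 t.1)

theorem suMap_coe (ι : F₀ →+* F)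
    (hmem : ∀ g₀ ∈ Cfsg.GU n F₀ q₀, glMap ι g₀ ∈ Cfsg.GU n F q) (s : ↥(Cfsg.SU n F₀ q₀)) :
    (suMap ι hmem s).1 = Matrix.SpecialLinearGroup.map ι s.1 := rfl

theorem guMap_toGLU (ι : F₀ →+* F)
    (hmem : ∀ g₀ ∈ Cfsg.GU n F₀ q₀, glMap ι g₀ ∈ Cfsg.GU n F q) (s : ↥(Cfsg.SU n F₀ q₀)) :
    guMap ι hmem (toGLU s) = toGLU (suMap ι hmem s) := by
  apply Subtype.ext
  rw [guMap_coe, toGLU_coe, toGLU_coe, suMap_coe, glMap_toGL]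

/-- the subfield subgroup: the image of `SU_n(F₀)` in `Aut(PSU_n(F))` -/
noncomputable def Lsu (ι : F₀ →+* F)
    (hmem : ∀ g₀ ∈ Cfsg.GU n F₀ q₀, glMap ι g₀ ∈ Cfsg.GU n F q) :
    Subgroup (MulAut (Cfsg.PSU n F q)) :=
  ((toGLU (n := n) (F := F₀) (q := q₀)).range).map (PsiGU ι hmem)

theorem PsiGU_toGLU (ι : F₀ →+* F)
    (hmem : ∀ g₀ ∈ Cfsg.GU n F₀ q₀, glMap ι g₀ ∈ Cfsg.GU n F q) (s : ↥(Cfsg.SU n F₀ q₀)) :
    PsiGU ι hmem (toGLU s) = MulAut.conj (piU (suMap ι hmem s)) := by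
  rw [PsiGU_apply, guMap_toGLU, chiU_toGLU]

theorem PsiGU_toGLU_mem (ι : F₀ →+* F)
    (hmem : ∀ g₀ ∈ Cfsg.GU n F₀ q₀, glMap ι g₀ ∈ Cfsg.GU n F q) (s : ↥(Cfsg.SU n F₀ q₀)) :
    PsiGU ι hmem (toGLU s) ∈ Lsu ι hmem :=
  ⟨_, ⟨s, rfl⟩, rfl⟩

theorem conj_piU_suMap_mem (ι : F₀ →+* F)
    (hmem : ∀ g₀ ∈ Cfsg.GU n F₀ q₀, glMap ι g₀ ∈ Cfsg.GU n F q) (s : ↥(Cfsg.SU n F₀ q₀)) :
    MulAut.conj (piU (suMap ι hmem s)) ∈ Lsu ι hmem := by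
  rw [← PsiGU_toGLU]
  exact PsiGU_toGLU_mem ι hmem s

theorem Lsu_le_range (ι : F₀ →+* F)
    (hmem : ∀ g₀ ∈ Cfsg.GU n F₀ q₀, glMap ι g₀ ∈ Cfsg.GU n F q) :
    Lsu ι hmem ≤ (PsiGU (n := n) ι hmem).range := by
  rintro _ ⟨g, -, rfl⟩
  exact ⟨g, rfl⟩

theorem Lsu_le_inn (ι : F₀ →+* F)
    (hmem : ∀ g₀ ∈ Cfsg.GU n F₀ q₀, glMap ι g₀ ∈ Cfsg.GU n F q) :
    Lsu ι hmem ≤ Cfsg.Inn (Cfsg.PSU n F q) := by
  rintro _ ⟨_, ⟨s, rfl⟩, rfl⟩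
  rw [PsiGU_toGLU]
  exact ⟨_, rfl⟩

theorem Lsu_le_C (ι : F₀ →+* F)
    (hmem : ∀ g₀ ∈ Cfsg.GU n F₀ q₀, glMap ι g₀ ∈ Cfsg.GU n F q) (σ : RingAut F)
    (hι : ∀ b, σ (ι b) = ι b) :
    Lsu ι hmem ≤ Cfsg.Inn (Cfsg.PSU n F q) ⊓
      Subgroup.centralizer {(fieldUHom σ : MulAut (Cfsg.PSU n F q))} := by
  intro l hl
  refine ⟨Lsu_le_inn ι hmem hl, ?_⟩
  obtain ⟨g, rfl⟩ := Lsu_le_range ι hmem hl
  exact chiU_guMap_mem_centralizer σ ι hι hmem g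

/-- the subfield subgroup is normalised by the image of `GU_n(F₀)` -/
theorem Lsu_normal (ι : F₀ →+* F)
    (hmem : ∀ g₀ ∈ Cfsg.GU n F₀ q₀, glMap ι g₀ ∈ Cfsg.GU n F q)
    (d : MulAut (Cfsg.PSU n F q)) (hd : d ∈ (PsiGU (n := n) ι hmem).range)
    (l : MulAut (Cfsg.PSU n F q)) (hl : l ∈ Lsu ι hmem) : d * l * d⁻¹ ∈ Lsu ι hmem := by
  obtain ⟨g, rfl⟩ := hd
  obtain ⟨_, ⟨s, rfl⟩, rfl⟩ := hl
  have h1 : Matrix.GeneralLinearGroup.det (g * toGLU s * g⁻¹ : ↥(Cfsg.GU n F₀ q₀)).1 = 1 := by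
    show Matrix.GeneralLinearGroup.det (g.1 * (toGLU s).1 * g.1⁻¹) = 1
    rw [map_mul, map_mul, map_inv, toGLU_coe, det_toGL, mul_one, mul_inv_cancel]
  obtain ⟨s', hs'⟩ := exists_toGLU_eq _ h1
  refine ⟨_, ⟨s', rfl⟩, ?_⟩
  rw [hs', map_mul, map_mul, map_inv]

end sub

end Cfsg.Agent.Lib.Helper18.PSUBal
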