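import Mathlib
import Cfsg.Agent.Lib.Helper18.PSUBalA
import Cfsg.Agent.Lib.Helper5.UEichler

/-!
# Local balance for `PSU_n(q)`: semilinear maps fixing the rational isotropic points (helper18)
-/

set_option autoImplicit false
set_option linter.unusedSectionVars false

namespace Cfsg.Agent.Lib.Helper18.PSUBal

open Matrix Cfsg Cfsg.Agent.Lib.Helper18.PSLnAut Cfsg.Agent.Lib.Helper18.PSLnFld
  Cfsg.Agent.Lib.Helper18.PSLnBal
  Cfsg.Agent.Lib.Helper25 Cfsg.Agent.Lib.Helper25.SLRoot
  Cfsg.Agent.Lib.Helper5.UForm Cfsg.Agent.Lib.Helper5.HermBridge Cfsg.Agent.Lib.Helper5.SUGen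
  Cfsg.Agent.Lib.Helper5.UEichler

section rel

variable {n : ℕ} {F : Type*} [Field F] {F₀ : Type*} [Field F₀] [Fintype F₀] {q₀ : ℕ}

/-- an element of a field with an involution, mapped by a ring homomorphism whose composite
with another automorphism fixes the fixed field, goes to itself or to its conjugate -/
theorem dichotomy_of_fix (σ : F₀ ≃+* F₀) (hσ : ∀ a, σ (σ a) = a) (ι : F₀ →+* F) (τ : F ≃+* F)
    (hfix : ∀ μ, σ μ = μ → τ (ι μ) = ι μ) (b : F₀) :
    τ (ι b) = ι b ∨ τ (ι b) = ι (σ b) := by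
  have hs : τ (ι (b + σ b)) = ι (b + σ b) := hfix _ (by rw [map_add, hσ, add_comm])
  have hp : τ (ι (b * σ b)) = ι (b * σ b) := hfix _ (by rw [map_mul, hσ, mul_comm])
  have h1 : (τ (ι b) - ι b) * (τ (ι b) - ι (σ b)) = 0 := by
    have h2 : τ (ι b) * τ (ι b) - τ (ι (b + σ b)) * τ (ι b) + τ (ι (b * σ b)) = 0 := by
      have h3 : b * b - (b + σ b) * b + b * σ b = 0 := by ring
      have h4 := congrArg (fun x => τ (ι x)) h3
      simp only [map_add, map_sub, map_mul, map_zero] at h4
      simp only [map_add, map_mul]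
      exact h4
    rw [hs, hp, map_add, map_mul] at h2
    linear_combination h2
  rcases mul_eq_zero.1 h1 with h | h
  · left; exact sub_eq_zero.1 h
  · right; exact sub_eq_zero.1 h

/-- the global dichotomy -/
theorem global_dichotomy (σ : F₀ ≃+* F₀) (hσ : ∀ a, σ (σ a) = a) (ι : F₀ →+* F) (τ : F ≃+* F)
    (hfix : ∀ μ, σ μ = μ → τ (ι μ) = ι μ) :
    (∀ b, τ (ι b) = ι b) ∨ (∀ b, τ (ι b) = ι (σ b)) := by
  obtain ⟨ζ, hζ⟩ := IsCyclic.exists_generator (α := F₀ˣ)
  have hpow : ∀ b : F₀, b ≠ 0 → ∃ k : ℤ, (ζ : F₀) ^ k = b := by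
    intro b hb
    obtain ⟨k, hk⟩ := Subgroup.mem_zpowers_iff.1 (hζ (Units.mk0 b hb))
    refine ⟨k, ?_⟩
    have := congrArg Units.val hk
    rw [Units.val_zpow_eq_zpow_val, Units.val_mk0] at this
    exact this
  rcases dichotomy_of_fix σ hσ ι τ hfix (ζ : F₀) with h | h
  · left
    intro b
    by_cases hb : b = 0
    · rw [hb, map_zero, map_zero]
    · obtain ⟨k, rfl⟩ := hpow b hb
      rw [map_zpow₀, map_zpow₀, h]
  · right
    intro b
    by_cases hb : b = 0
    · rw [hb, map_zero, map_zero, map_zero, map_zero]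
    · obtain ⟨k, rfl⟩ := hpow b hb
      rw [map_zpow₀, map_zpow₀, h, map_zpow₀, map_zpow₀]

set_option maxHeartbeats 1600000 in
/-- a semilinear map fixing all rational isotropic points is a scalar, and its field
automorphism fixes the subfield -/
theorem scalar_of_iso_par_rel (hF₀ : Fintype.card F₀ = q₀ ^ 2) (hn : 3 ≤ n) (ι : F₀ →+* F)
    (h : GL (Fin n) F) (τ : RingAut F)
    (hpar : ∀ v₀ : Fin n → F₀, v₀ ≠ 0 → Cfsg.hermForm n F₀ q₀ v₀ v₀ = 0 →
      ∃ a : F, a ≠ 0 ∧ (h : Matrix (Fin n) (Fin n) F) *ᵥ (fun i => τ (ι (v₀ i))) =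
        a • (fun i => ι (v₀ i))) :
    (∀ b, τ (ι b) = ι b) ∧ conjAHom h = 1 := by
  have hn2 : 2 ≤ n := by omega
  have hf := herm_unitary (n := n) hF₀
  obtain ⟨f, hfdef⟩ : ∃ f : (Fin n → F₀) → (Fin n → F₀) → F₀, f = Cfsg.hermForm n F₀ q₀ :=
    ⟨_, rfl⟩
  obtain ⟨σ, hσdef⟩ : ∃ σ : F₀ ≃+* F₀, σ = frobQ hF₀ := ⟨_, rfl⟩
  rw [← hfdef] at hpar
  rw [← hfdef, ← hσdef] at hf
  -- the embedding of vectors
  obtain ⟨I, hIdef⟩ : ∃ I : (Fin n → F₀) → (Fin n → F), I = fun v i => ι (v i) := ⟨_, rfl⟩
  have hI : ∀ v, (fun i => ι (v i)) = I v := by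
    intro v
    rw [hIdef]
  have hIadd : ∀ x y, I (x + y) = I x + I y := by
    intro x y
    rw [hIdef]
    funext i
    simp
  have hIsmul : ∀ (l : F₀) x, I (l • x) = ι l • I x := by
    intro l x
    rw [hIdef]
    funext i
    simp
  have hI0 : I 0 = 0 := by
    rw [hIdef]
    funext i
    simp
  -- rational functionals
  obtain ⟨φ, hφdef⟩ : ∃ φ : (Fin n → F₀) → (Fin n → F) → F,
      φ = fun v y => (fun j => ι (v j ^ q₀)) ⬝ᵥ y := ⟨_, rfl⟩
  have hφadd : ∀ v y z, φ v (y + z) = φ v y + φ v z := by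
    intro v y z
    rw [hφdef]
    exact dotProduct_add _ _ _
  have hφsmul : ∀ v (c : F) y, φ v (c • y) = c * φ v y := by
    intro v c y
    rw [hφdef]
    show (fun j => ι (v j ^ q₀)) ⬝ᵥ (c • y) = c * ((fun j => ι (v j ^ q₀)) ⬝ᵥ y)
    rw [dotProduct_smul, smul_eq_mul]
  have hφI : ∀ v x, φ v (I x) = ι (f x v) := by
    intro v x
    rw [hφdef, hIdef, hfdef]
    show (fun j => ι (v j ^ q₀)) ⬝ᵥ (fun i => ι (x i)) = _
    rw [map_dot' ι x (fun j => v j ^ q₀), pow_dot]
  -- the semilinear map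
  obtain ⟨T, hTdef⟩ : ∃ T : (Fin n → F) → (Fin n → F),
      T = fun x => (h : Matrix (Fin n) (Fin n) F) *ᵥ (fun i => τ (x i)) := ⟨_, rfl⟩
  have hT : ∀ v : Fin n → F₀,
      (h : Matrix (Fin n) (Fin n) F) *ᵥ (fun i => τ (ι (v i))) = T (I v) := by
    intro x
    rw [hTdef, hIdef]
  have hTadd : ∀ x y, T (x + y) = T x + T y := by
    intro x y
    rw [hTdef]
    show (h : Matrix (Fin n) (Fin n) F) *ᵥ (fun i => τ ((x + y) i)) = _
    have h1 : (fun i => τ ((x + y) i)) = (fun i => τ (x i)) + (fun i => τ (y i)) := by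
      funext i
      simp
    rw [h1, Matrix.mulVec_add]
  have hTsmul : ∀ (l : F) x, T (l • x) = τ l • T x := by
    intro l x
    rw [hTdef]
    show (h : Matrix (Fin n) (Fin n) F) *ᵥ (fun i => τ ((l • x) i)) = _
    have h1 : (fun i => τ ((l • x) i)) = τ l • (fun i => τ (x i)) := by
      funext i
      simp
    rw [h1, Matrix.mulVec_smul]
  simp only [hT, hI] at hpar
  have hιne : ∀ b : F₀, b ≠ 0 → ι b ≠ 0 := fun b hb => (map_ne_zero ι).2 hb
  -- the relation for a pair of non-orthogonal isotropic vectors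
  have pair_rel : ∀ (x u : Fin n → F₀) (a b : F), f x x = 0 → f u u = 0 → f x u ≠ 0 →
      T (I x) = a • I x → T (I u) = b • I u → ∀ l : F₀, f (x + l • u) (x + l • u) = 0 →
      τ (ι l) * b = a * ι l := by
    intro x u a b hxx huu hxu hx hu l hiso
    have hux : f u x ≠ 0 := u_symm_ne hf hxu
    have hne : x + l • u ≠ 0 := by
      intro h0
      have h3 : f (x + l • u) u = f x u := by
        rw [hf.add_left, hf.smul_left, huu, mul_zero, add_zero]
      rw [h0, u_zero_left hf] at h3
      exact hxu h3.symm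
    obtain ⟨d, -, hd⟩ := hpar _ hne hiso
    rw [hIadd, hIsmul, hTadd, hTsmul, hx, hu] at hd
    have hd1 := congrArg (φ u) hd
    simp only [hφadd, hφsmul, hφI, hxx, huu, map_zero, mul_zero, add_zero] at hd1
    have hd2 := congrArg (φ x) hd
    simp only [hφadd, hφsmul, hφI, hxx, huu, map_zero, mul_zero, add_zero, zero_add] at hd2
    have hda : d = a := by
      have h4 : (a - d) * ι (f x u) = 0 := by linear_combination hd1
      rcases mul_eq_zero.1 h4 with h5 | h5
      · exact (sub_eq_zero.1 h5).symm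
      · exact absurd h5 (hιne _ hxu)
    rw [hda] at hd2
    have h6 : (τ (ι l) * b - a * ι l) * ι (f u x) = 0 := by linear_combination hd2
    rcases mul_eq_zero.1 h6 with h7 | h7
    · exact sub_eq_zero.1 h7
    · exact absurd h7 (hιne _ hux)
  -- the isotropy condition
  have iso_of_skew : ∀ (x u : Fin n → F₀), f x x = 0 → f u u = 0 → f x u ≠ 0 → ∀ c : F₀,
      σ c = -c → f (x + (c / f u x) • u) (x + (c / f u x) • u) = 0 := by
    intro x u hxx huu hxu c hc
    have hux : f u x ≠ 0 := u_symm_ne hf hxu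
    rw [u_expand hf, hxx, huu, map_div₀, hc, hf.herm x u]
    have h2 : σ (f u x) ≠ 0 := by rwa [Ne, map_eq_zero]
    field_simp
    ring
  obtain ⟨e, -, e', -, hee, he'e', h1⟩ := exists_hyp hf (ND_top hf) (by
    rw [finrank_top, Module.finrank_fin_fun]; omega)
  have he0 : e ≠ 0 := by
    intro h0
    rw [h0, u_zero_left hf] at h1
    exact zero_ne_one h1
  have he'0 : e' ≠ 0 := by
    intro h0
    rw [h0, u_zero_right hf] at h1
    exact zero_ne_one h1
  have hfe'e : f e' e = 1 := by rw [hf.herm, h1, map_one]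
  obtain ⟨a, ha0, ha⟩ := hpar e he0 hee
  obtain ⟨a', ha'0, ha'⟩ := hpar e' he'0 he'e'
  obtain ⟨c, hc0, hc⟩ := exists_skew hf.involutive hf.ne_refl
  have key : ∀ l : F₀, σ l = -l → τ (ι l) * a' = a * ι l := by
    intro l hl
    have h3 := iso_of_skew e e' hee he'e' (by rw [h1]; exact one_ne_zero) l hl
    rw [hfe'e, div_one] at h3
    exact pair_rel e e' a a' hee he'e' (by rw [h1]; exact one_ne_zero) ha ha' l h3
  have hfixτ : ∀ μ, σ μ = μ → τ (ι μ) = ι μ := by
    intro μ hμ
    have h3 := key (μ * c) (by rw [map_mul, hμ, hc]; ring)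
    have h4 := key c hc
    rw [map_mul, map_mul] at h3
    have h5 : (τ (ι μ) - ι μ) * (a * ι c) = 0 := by linear_combination h3 - (τ (ι μ)) * h4
    rcases mul_eq_zero.1 h5 with h6 | h6
    · exact sub_eq_zero.1 h6
    · exact absurd h6 (mul_ne_zero ha0 (hιne _ hc0))
  rcases global_dichotomy σ hf.involutive ι τ hfixτ with hplus | hminus
  · -- the map is linear over the subfield
    have eq_of_nonorth : ∀ (x u : Fin n → F₀) (ax au : F), f x x = 0 → f u u = 0 → f x u ≠ 0 →
        T (I x) = ax • I x → T (I u) = au • I u → au = ax := by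
      intro x u ax au hxx huu hxu hx hu
      have hux : f u x ≠ 0 := u_symm_ne hf hxu
      have h3 := pair_rel x u ax au hxx huu hxu hx hu _ (iso_of_skew x u hxx huu hxu c hc)
      rw [hplus] at h3
      have h4 : ι (c / f u x) ≠ 0 := hιne _ (div_ne_zero hc0 hux)
      have h5 : (au - ax) * ι (c / f u x) = 0 := by linear_combination h3
      rcases mul_eq_zero.1 h5 with h6 | h6
      · exact sub_eq_zero.1 h6
      · exact absurd h6 h4
    have hall : ∀ w, f w w = 0 → T (I w) = a • I w := by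
      intro w hww
      by_cases hw0 : w = 0
      · rw [hw0, hI0]
        have : T 0 = 0 := by
          have := hTsmul 0 0
          rw [zero_smul, map_zero, zero_smul] at this
          exact this
        rw [this, smul_zero]
      obtain ⟨aw, -, haw⟩ := hpar w hw0 hww
      by_cases hew : f e w = 0
      · obtain ⟨y, -, hyy, hye, hyw⟩ := exists_iso_ne2 hf (ND_top hf) (by
          rw [finrank_top, Module.finrank_fin_fun]; omega) e w
          (by
            obtain ⟨x, hx⟩ := (hf.nondegenerate e he0).1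
            exact ⟨x, Submodule.mem_top, hx⟩)
          (by
            obtain ⟨x, hx⟩ := (hf.nondegenerate w hw0).1
            exact ⟨x, Submodule.mem_top, hx⟩)
        have hy0 : y ≠ 0 := by
          intro h0
          rw [h0, u_zero_left hf] at hye
          exact hye rfl
        obtain ⟨ay, -, hay⟩ := hpar y hy0 hyy
        have h3 := eq_of_nonorth y e ay a hyy hee hye hay ha
        have h4 := eq_of_nonorth y w ay aw hyy hww hyw hay haw
        rw [haw, h4, ← h3]
      · have h3 := eq_of_nonorth e w a aw hee hww hew ha haw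
        rw [haw, h3]
    have hx : ∀ x, T (I x) = a • I x := by
      intro x
      obtain ⟨b₁, -, b₂, -, b₃, -, hb₁, hb₂, hb₃, hsum⟩ :=
        exists_iso_decomp hf (ND_top hf) (by
          rw [finrank_top, Module.finrank_fin_fun]; omega) (Submodule.mem_top (x := x))
      rw [hsum, hIadd, hIadd, hTadd, hTadd, hall b₁ hb₁, hall b₂ hb₂, hall b₃ hb₃, smul_add,
        smul_add]
    apply scalar_of_par hn2 ι h τ
    intro v₀ _
    refine ⟨a, ha0, ?_⟩
    rw [hT, hI]
    exact hx v₀
  · -- the twisted case is impossible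
    exfalso
    have rel_minus : ∀ (x u : Fin n → F₀) (ax au : F), f x x = 0 → f u u = 0 → f x u ≠ 0 →
        T (I x) = ax • I x → T (I u) = au • I u → au * ι (f u x) = -(ax * ι (f x u)) := by
      intro x u ax au hxx huu hxu hx hu
      have hux : f u x ≠ 0 := u_symm_ne hf hxu
      have h3 := pair_rel x u ax au hxx huu hxu hx hu _ (iso_of_skew x u hxx huu hxu c hc)
      rw [hminus, map_div₀, hc, map_div₀, map_div₀, map_neg, ← hf.herm x u] at h3
      have h4 : ι (f u x) ≠ 0 := hιne _ hux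
      have h5 : ι (f x u) ≠ 0 := hιne _ hxu
      have h6 : ι c ≠ 0 := hιne _ hc0
      field_simp at h3
      linear_combination -h3
    have haa' : a' = -a := by
      have h3 := rel_minus e e' a a' hee he'e' (by rw [h1]; exact one_ne_zero) ha ha'
      rw [hfe'e, h1, map_one, mul_one, mul_one] at h3
      exact h3
    -- a non-isotropic vector orthogonal to the pair
    have hND := ND_hyp hf (ND_top hf) (Submodule.mem_top (x := e)) (Submodule.mem_top (x := e'))
      hee he'e' h1
    have hdim : 1 ≤ Module.finrank F₀ ↥((⊤ : Submodule F₀ (Fin n → F₀)) ⊓ pp hf e ⊓ pp hf e') := by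
      have h3 := finrank_inf_pp hf (⊤ : Submodule F₀ (Fin n → F₀)) e
      have h4 := finrank_inf_pp hf ((⊤ : Submodule F₀ (Fin n → F₀)) ⊓ pp hf e) e'
      rw [finrank_top, Module.finrank_fin_fun] at h3
      omega
    obtain ⟨w, hwU, hww⟩ := exists_noniso hf hND (exists_mem_ne_zero hdim)
    obtain ⟨hw1, hwe'⟩ := Submodule.mem_inf.mp hwU
    obtain ⟨-, hwe⟩ := Submodule.mem_inf.mp hw1
    rw [mem_pp] at hwe hwe'
    obtain ⟨l, hl⟩ := tr_surj hf.involutive hf.ne_refl (-(f w w))
      (by rw [map_neg, u_self_fixed hf])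
    have hew : f e w = 0 := u_symm_zero hf hwe
    have he'w : f e' w = 0 := u_symm_zero hf hwe'
    set u : Fin n → F₀ := e + l • e' + w with hu
    have hue' : f u e' = 1 := by
      rw [hu, hf.add_left, hf.add_left, hf.smul_left, h1, he'e', hwe', mul_zero, add_zero,
        add_zero]
    have hue : f u e = l := by
      rw [hu, hf.add_left, hf.add_left, hf.smul_left, hee, hfe'e, hwe, mul_one, zero_add,
        add_zero]
    have huu : f u u = 0 := by
      have h3 : f u u = f u e + σ l * f u e' + f u w := by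
        conv_lhs => rw [hu]
        rw [u_add_right hf, u_add_right hf, u_smul_right hf]
      have h4 : f u w = f w w := by
        rw [hu, hf.add_left, hf.add_left, hf.smul_left, hew, he'w, mul_zero, add_zero, zero_add]
      rw [h3, hue, hue', h4]
      linear_combination hl
    have hl0 : l ≠ 0 := by
      intro h0
      rw [h0, map_zero, add_zero] at hl
      exact hww (neg_eq_zero.1 hl.symm)
    have hu0 : u ≠ 0 := by
      intro h0
      rw [h0, u_zero_left hf] at hue'
      exact zero_ne_one hue'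
    obtain ⟨au, -, hau⟩ := hpar u hu0 huu
    have he'u : f e' u = 1 := by rw [hf.herm, hue', map_one]
    have heu : f e u = σ l := by rw [hf.herm, hue]
    have h3 := rel_minus e' u a' au he'e' huu (by rw [he'u]; exact one_ne_zero) ha' hau
    rw [hue', he'u, map_one, mul_one, mul_one] at h3
    have h4 := rel_minus e u a au hee huu (by rw [heu, Ne, map_eq_zero]; exact hl0) ha hau
    rw [hue, heu, h3, haa', neg_neg] at h4
    have h5 : a * ι (l + σ l) = 0 := by
      rw [map_add]
      linear_combination h4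
    rcases mul_eq_zero.1 h5 with h6 | h6
    · exact ha0 h6
    · rw [hl, map_neg, neg_eq_zero] at h6
      exact hιne _ hww h6

end rel

end Cfsg.Agent.Lib.Helper18.PSUBal
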