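import Mathlib
import Cfsg.Agent.Lib.Helper18.PSUBalB

/-!
# Local balance for `PSU_n(q)`: the centraliser of the subfield subgroup (helper18)
-/

set_option autoImplicit false
set_option linter.unusedSectionVars false

namespace Cfsg.Agent.Lib.Helper18.PSUBal

open Matrix Cfsg Cfsg.Agent.Lib.Helper18.PSLnAut Cfsg.Agent.Lib.Helper18.PSLnFld
  Cfsg.Agent.Lib.Helper25.PSUG Cfsg.Agent.Lib.Helper18.PSUOut Cfsg.Agent.Lib.Helper18.PSUFld
  Cfsg.Agent.Lib.Helper14 Cfsg.Agent.Lib.Helper18.PSLnBal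
  Cfsg.Agent.Lib.Helper18.OrthBal
  Cfsg.Agent.Lib.Helper25 Cfsg.Agent.Lib.Helper25.SLRoot
  Cfsg.Agent.Lib.Helper5.UForm Cfsg.Agent.Lib.Helper5.HermBridge Cfsg.Agent.Lib.Helper5.SUGen

section cent

variable {n : ℕ} {F : Type*} [Field F] [Fintype F] {F₀ : Type*} [Field F₀] [Fintype F₀]
  {q q₀ : ℕ}

theorem commute_conj_piU_iff (hF : Fintype.card F = q ^ 2) (hn : 3 ≤ n)
    (h32 : ¬ (n = 3 ∧ q = 2)) (x : MulAut (Cfsg.PSU n F q)) (s : ↥(Cfsg.SU n F q)) :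
    x * MulAut.conj (piU s) = MulAut.conj (piU s) * x ↔ x (piU s) = piU s :=
  commute_conj_iff (center_PSU_eq_bot hF hn h32) x (piU s)

/-- the rational unitary transvections -/
theorem exists_rat_tv (hF₀ : Fintype.card F₀ = q₀ ^ 2) (ι : F₀ →+* F)
    (hmem : ∀ g₀ ∈ Cfsg.GU n F₀ q₀, glMap ι g₀ ∈ Cfsg.GU n F q) (v₀ : Fin n → F₀)
    (hvv : Cfsg.hermForm n F₀ q₀ v₀ v₀ = 0) :
    ∃ (s₀ : ↥(Cfsg.SU n F₀ q₀)) (c : F) (h' : (fun i => ι (v₀ i ^ q₀)) ⬝ᵥ (fun i => ι (v₀ i)) = 0),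
      c ≠ 0 ∧ (suMap ι hmem s₀).1 = tvSL (fun i => ι (v₀ i)) (fun i => ι (v₀ i ^ q₀)) h' c := by
  have hf := herm_unitary (n := n) hF₀
  obtain ⟨c, hc0, hc⟩ := exists_skew hf.involutive hf.ne_refl
  obtain ⟨A, hA⟩ := exists_tv hF₀ hvv hc
  have h0 : (fun j => v₀ j ^ q₀) ⬝ᵥ v₀ = 0 := by rw [pow_dot, hvv]
  have h' : (fun i => ι (v₀ i ^ q₀)) ⬝ᵥ (fun i => ι (v₀ i)) = 0 := by
    rw [map_dot' ι v₀ (fun j => v₀ j ^ q₀), h0, map_zero]
  have hAeq : (A : SpecialLinearGroup (Fin n) F₀) = tvSL v₀ (fun j => v₀ j ^ q₀) h0 c := by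
    apply Subtype.ext
    rw [hA, tvSL_coe]
    rfl
  refine ⟨A, ι c, h', (map_ne_zero ι).2 hc0, ?_⟩
  rw [suMap_coe, hAeq, map_tvSL ι h0 c h']

/-- the centraliser of the subfield subgroup in the automorphism group consists of field
automorphisms -/
theorem cent_Lsu (hF : Fintype.card F = q ^ 2) (hF₀ : Fintype.card F₀ = q₀ ^ 2) (hn : 3 ≤ n)
    (h32 : ¬ (n = 3 ∧ q = 2)) (ι : F₀ →+* F)
    (hmem : ∀ g₀ ∈ Cfsg.GU n F₀ q₀, glMap ι g₀ ∈ Cfsg.GU n F q)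
    (σ : RingAut F) (hι : ∀ a : F, σ a = a ↔ a ∈ Set.range ι)
    (x : MulAut (Cfsg.PSU n F q))
    (hx : ∀ l ∈ Lsu ι hmem, x * l = l * x) :
    x ∈ Subgroup.zpowers (fieldUHom (n := n) (q := q) σ) := by
  obtain ⟨_, ⟨g, rfl⟩, τ, rfl⟩ := exists_conjU_mul_fieldU hF hn h32 x
  have hpar : ∀ v₀ : Fin n → F₀, v₀ ≠ 0 → Cfsg.hermForm n F₀ q₀ v₀ v₀ = 0 →
      ∃ a : F, a ≠ 0 ∧ (g.1 : Matrix (Fin n) (Fin n) F) *ᵥ (fun i => τ (ι (v₀ i))) =
        a • (fun i => ι (v₀ i)) := by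
    intro v₀ hv₀ hvv
    obtain ⟨s₀, c, h', hc0, hs⟩ := exists_rat_tv hF₀ ι hmem v₀ hvv
    have h1 := hx _ (conj_piU_suMap_mem ι hmem s₀)
    rw [commute_conj_piU_iff hF hn h32] at h1
    have h2 : conjU g (fieldU τ (piU (suMap ι hmem s₀))) = piU (suMap ι hmem s₀) := h1
    have h3 := psl_fix_of_psu_fix hF (by omega) g τ _ h2
    rw [hs] at h3
    have hφ : (fun i => ι (v₀ i ^ q₀)) ≠ 0 := by
      apply map_ne_zero' ι (v := fun i => v₀ i ^ q₀)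
      intro h0
      apply hv₀
      funext i
      have h4 := congrFun h0 i
      exact pow_eq_zero_iff (by
        rintro rfl
        rw [zero_pow (by norm_num)] at hF₀
        exact Fintype.card_ne_zero hF₀) |>.1 h4
    exact par_of_fix_tvSL_c (by omega) g.1 τ h' (map_ne_zero' ι hv₀) hφ hc0 h3
  obtain ⟨h1, h2⟩ := scalar_of_iso_par_rel hF₀ hn ι g.1 τ hpar
  have hg1 : (conjUHom g : MulAut (Cfsg.PSU n F q)) = 1 := by
    rw [← MonoidHom.mem_ker, ker_conjUHom hF hn h32, Subgroup.mem_subgroupOf,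
      Cfsg.Geo.mem_scalars_iff]
    have h3 : g.1 ∈ (conjAHom (n := n) (F := F)).ker := h2
    rw [ker_conjAHom (by omega), Matrix.GeneralLinearGroup.mem_center_iff_val_mem_range_scalar]
      at h3
    obtain ⟨μ, hμ⟩ := h3
    have hμ0 : μ ≠ 0 := by
      intro h0
      have hdet : (g.1 : Matrix (Fin n) (Fin n) F).det ≠ 0 :=
        Matrix.GeneralLinearGroup.det_ne_zero g.1
      apply hdet
      haveI : Nonempty (Fin n) := ⟨⟨0, by omega⟩⟩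
      rw [← hμ, h0, map_zero, Matrix.det_zero]
    refine ⟨Units.mk0 μ hμ0, ?_⟩
    rw [← hμ, Units.val_mk0]
    ext i j
    simp [Matrix.scalar_apply, Matrix.smul_apply, Matrix.one_apply, Matrix.diagonal_apply]
  rw [hg1, one_mul]
  have h3 : (τ : RingAut F) ∈ Subgroup.zpowers σ := by
    apply mem_zpowers_of_fix
    intro a ha
    obtain ⟨b, rfl⟩ := (hι a).1 ha
    exact h1 b
  obtain ⟨k, hk⟩ := Subgroup.mem_zpowers_iff.1 h3
  rw [← hk, map_zpow]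
  exact Subgroup.zpow_mem _ (Subgroup.mem_zpowers _) k

end cent

end Cfsg.Agent.Lib.Helper18.PSUBal
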