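import Mathlib
import Cfsg.Agent.Lib.Helper18.PSUBalC

/-!
# Local balance for `PSU_n(q)`: order of the subfield subgroup (helper18)
-/

set_option autoImplicit false
set_option linter.unusedSectionVars false

namespace Cfsg.Agent.Lib.Helper18.PSUBal

open Matrix Cfsg Cfsg.Agent.Lib.Helper18.PSLnAut Cfsg.Agent.Lib.Helper18.PSLnFld
  Cfsg.Agent.Lib.Helper25.PSUG Cfsg.Agent.Lib.Helper18.PSUOut Cfsg.Agent.Lib.Helper18.PSUFld
  Cfsg.Agent.Lib.Helper14 Cfsg.Agent.Lib.Helper18.PSLnBal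
  Cfsg.Agent.Lib.Helper18.OrthBal
  Cfsg.Agent.Lib.Helper25 Cfsg.Agent.Lib.Helper25.SLRoot
  Cfsg.Agent.Lib.Helper5.UForm Cfsg.Agent.Lib.Helper5.HermBridge Cfsg.Agent.Lib.Helper5.SUGen

section nebot

variable {n : ℕ} {F : Type*} [Field F] [Fintype F] {F₀ : Type*} [Field F₀] [Fintype F₀]
  {q q₀ : ℕ}

/-- the image of a transvection in `PSU_n` is not trivial -/
theorem piU_tv_ne_one (hF : Fintype.card F = q ^ 2) (hn : 2 ≤ n) (s : ↥(Cfsg.SU n F q))
    {v φ : Fin n → F} (h : φ ⬝ᵥ v = 0) (hv : v ≠ 0) (hφ : φ ≠ 0) {c : F} (hc : c ≠ 0)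
    (hs : s.1 = tvSL v φ h c) : piU s ≠ 1 := by
  intro h1
  have h2 := congrArg (psuToPsl hF hn) h1
  rw [psuToPsl_piU, map_one, hs] at h2
  have h3 : pi (tvSL v φ h c) = pi (tvSL v φ h 0) := by
    rw [h2, tvSL_zero, map_one]
  have h4 := tvSL_eq_of_pi_eq hn h h c 0 h3
  rw [tvSL_zero, tvSL_eq_one_iff h hv hφ] at h4
  exact hc h4

theorem Lsu_ne_bot (hF : Fintype.card F = q ^ 2) (hF₀ : Fintype.card F₀ = q₀ ^ 2) (hn : 3 ≤ n)
    (h32 : ¬ (n = 3 ∧ q = 2)) (ι : F₀ →+* F)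
    (hmem : ∀ g₀ ∈ Cfsg.GU n F₀ q₀, glMap ι g₀ ∈ Cfsg.GU n F q) : Lsu ι hmem ≠ ⊥ := by
  intro hbot
  have hf := herm_unitary (n := n) hF₀
  obtain ⟨v₀, -, hv₀, hvv⟩ := exists_iso hf (ND_top hf) (by
    rw [finrank_top, Module.finrank_fin_fun]; omega)
  obtain ⟨s₀, c, h', hc0, hs⟩ := exists_rat_tv hF₀ ι hmem v₀ hvv
  have hl := conj_piU_suMap_mem ι hmem s₀
  rw [hbot, Subgroup.mem_bot] at hl
  have h2 := conj_injective_of_center (center_PSU_eq_bot hF hn h32) (hl.trans (map_one _).symm)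
  have hφ : (fun i => ι (v₀ i ^ q₀)) ≠ 0 := by
    apply map_ne_zero' ι (v := fun i => v₀ i ^ q₀)
    intro h0
    apply hv₀
    funext i
    have h4 := congrFun h0 i
    exact pow_eq_zero_iff (by
      rintro rfl
      rw [zero_pow (by norm_num)] at hF₀
      exact Fintype.card_ne_zero hF₀) |>.1 h4
  exact piU_tv_ne_one hF (by omega) _ h' (map_ne_zero' ι hv₀) hφ hc0 hs h2

end nebot

section order

variable {n : ℕ} {F : Type*} [Field F] [Fintype F] {F₀ : Type*} [Field F₀] [Fintype F₀]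
  {q q₀ : ℕ}

/-- an element of prime order `p` in the image of `GU_n(F₀)` forces `p` to divide the order of
the subfield subgroup -/
theorem p_dvd_card_Lsu (hF : Fintype.card F = q ^ 2) (hF₀ : Fintype.card F₀ = q₀ ^ 2)
    (hn : 3 ≤ n) (h32 : ¬ (n = 3 ∧ q = 2)) (ι : F₀ →+* F)
    (hmem : ∀ g₀ ∈ Cfsg.GU n F₀ q₀, glMap ι g₀ ∈ Cfsg.GU n F q) (p : ℕ) (hp : p.Prime)
    (c : MulAut (Cfsg.PSU n F q)) (hc : c ∈ (PsiGU (n := n) ι hmem).range)
    (hcp : orderOf c = p) : p ∣ Nat.card ↥(Lsu ι hmem) := by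
  classical
  haveI : Fact p.Prime := ⟨hp⟩
  by_cases hpq : p ∣ q₀ + 1
  · -- an element of order `p` of norm one
    have hcard : Nat.card ↥(normOne F₀ q₀) = q₀ + 1 := card_normOne hF₀
    haveI : Finite ↥(normOne F₀ q₀) := Nat.finite_of_card_ne_zero (by rw [hcard]; omega)
    obtain ⟨a, ha⟩ := exists_prime_orderOf_dvd_card' p (by rw [hcard]; exact hpq)
    have ha1 : a ≠ 1 := by
      intro h1
      rw [h1, orderOf_one] at ha
      exact hp.one_lt.ne ha
    have hap : a ^ p = 1 := by rw [← ha]; exact pow_orderOf_eq_one a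
    let i0 : Fin n := ⟨0, by omega⟩
    let i1 : Fin n := ⟨1, by omega⟩
    let i2 : Fin n := ⟨2, by omega⟩
    have h01 : i0 ≠ i1 := by
      intro h
      have := congrArg Fin.val h
      simp [i0, i1] at this
    have h02 : i2 ≠ i0 := by
      intro h
      have := congrArg Fin.val h
      simp [i0, i2] at this
    have h12 : i2 ≠ i1 := by
      intro h
      have := congrArg Fin.val h
      simp [i1, i2] at this
    obtain ⟨d, hd⟩ : ∃ d : ↥(Cfsg.GU n F₀ q₀), d.1 = dgHom i0 a.1 * dgHom i1 a.1⁻¹ :=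
      ⟨⟨dgHom i0 a.1 * dgHom i1 a.1⁻¹, (Cfsg.GU n F₀ q₀).mul_mem (dgHom_mem_GU i0 a.2)
        (dgHom_mem_GU i1 ((normOne F₀ q₀).inv_mem a.2))⟩, rfl⟩
    have hdet : Matrix.GeneralLinearGroup.det d.1 = 1 := by
      rw [hd, map_mul, det_dgHom', det_dgHom', mul_inv_cancel]
    obtain ⟨s, hs⟩ := exists_toGLU_eq d hdet
    have hmemL : PsiGU ι hmem d ∈ Lsu ι hmem := by
      rw [← hs]
      exact PsiGU_toGLU_mem ι hmem s
    have hdp : d ^ p = 1 := by
      apply Subtype.ext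
      rw [Subgroup.coe_pow, hd, (dgHom_commute i0 i1 a.1 a.1⁻¹).mul_pow, ← map_pow, ← map_pow,
        inv_pow]
      have h3 : (a.1 : F₀ˣ) ^ p = 1 := by
        have := congrArg Subtype.val hap
        rw [Subgroup.coe_pow] at this
        exact this
      rw [h3, inv_one, map_one, map_one, one_mul]
      rfl
    have hpow : PsiGU ι hmem d ^ p = 1 := by
      rw [← map_pow, hdp, map_one]
    have hne : PsiGU ι hmem d ≠ 1 := by
      intro h1
      have h2 : d ∈ (PsiGU (n := n) ι hmem).ker := h1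
      rw [ker_PsiGU hF hn h32, Subgroup.mem_subgroupOf, Cfsg.Geo.mem_scalars_iff] at h2
      obtain ⟨μ, hμ⟩ := h2
      have hdv : (d.1 : Matrix (Fin n) (Fin n) F₀) =
          Matrix.diagonal (fun k => Function.update (fun _ => (1 : F₀)) i0 ((a.1 : F₀ˣ) : F₀) k *
            Function.update (fun _ => (1 : F₀)) i1 (((a.1⁻¹ : F₀ˣ)) : F₀) k) := by
        rw [hd, Units.val_mul, dgHom_coe, dgHom_coe, Matrix.diagonal_mul_diagonal]
      rw [hdv] at hμ
      have e0 := congrFun (congrFun hμ i0) i0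
      have e2 := congrFun (congrFun hμ i2) i2
      simp only [Matrix.smul_apply, Matrix.one_apply_eq, smul_eq_mul, mul_one,
        Matrix.diagonal_apply_eq, Function.update_self,
        Function.update_of_ne h01, Function.update_of_ne h02, Function.update_of_ne h12, one_mul]
        at e0 e2
      apply ha1
      apply Subtype.ext
      apply Units.ext
      rw [e0, ← e2]
      rfl
    have hord : orderOf (PsiGU ι hmem d) = p := orderOf_eq_prime hpow hne
    have h5 := orderOf_dvd_card_of_mem _ hmemL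
    rwa [hord] at h5
  · -- `c ^ (q₀ + 1)` lies in the subfield subgroup
    obtain ⟨g₀, rfl⟩ := hc
    have hdet : Matrix.GeneralLinearGroup.det (g₀ ^ (q₀ + 1)).1 = 1 := by
      have h1 : detN hF₀ (g₀ ^ (q₀ + 1)) = 1 := by
        rw [map_pow]
        apply Subtype.ext
        rw [Subgroup.coe_pow]
        exact (mem_normOne _).1 (detN hF₀ g₀).2
      have h2 := congrArg Subtype.val h1
      rw [detN_coe] at h2
      exact h2
    obtain ⟨s, hs⟩ := exists_toGLU_eq _ hdet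
    have hmemL : PsiGU ι hmem g₀ ^ (q₀ + 1) ∈ Lsu ι hmem := by
      rw [← map_pow, ← hs]
      exact PsiGU_toGLU_mem ι hmem s
    have hcop : (orderOf (PsiGU (n := n) ι hmem g₀)).Coprime (q₀ + 1) := by
      rw [hcp]
      exact (Nat.Prime.coprime_iff_not_dvd hp).2 hpq
    have hord := Nat.Coprime.orderOf_pow hcop
    rw [hcp] at hord
    have h5 := orderOf_dvd_card_of_mem _ hmemL
    rwa [hord] at h5

end order

end Cfsg.Agent.Lib.Helper18.PSUBal
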