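import Mathlib
import Cfsg.Agent.Lib.Helper18.PSUBalD
import Cfsg.Agent.Lib.Helper5.PSUSimple

/-!
# Local balance for `PSU_n(q)`: normal subgroups of `SU_3(2)` (helper18)
-/

set_option autoImplicit false
set_option linter.unusedSectionVars false

namespace Cfsg.Agent.Lib.Helper18.PSUBal

open Matrix Cfsg
  Cfsg.Agent.Lib.Helper5.UForm Cfsg.Agent.Lib.Helper5.HermBridge Cfsg.Agent.Lib.Helper5.SUGen
  Cfsg.Agent.Lib.Helper5.PSUSimple

section witt

variable {F : Type*} [Field F] {n : ℕ} {σ : F ≃+* F}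
  {f : (Fin n → F) → (Fin n → F) → F} (hf : Cfsg.Geo.IsUnitaryForm σ f)
include hf

/-- in dimension three, orthogonal isotropic vectors are proportional -/
theorem iso_perp_dep (hn : n = 3) {u v : Fin n → F} (hvv : f v v = 0) (huu : f u u = 0)
    (huv : f u v = 0) (hv0 : v ≠ 0) : ∃ a : F, u = a • v := by
  obtain ⟨v', -, hv'v', h1⟩ := exists_partner hf (ND_top hf) (Submodule.mem_top (x := v)) hv0 hvv
  have h1' : f v' v = 1 := by rw [hf.herm, h1, map_one]
  set U : Submodule F (Fin n → F) := ⊤ with hU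
  have hlt1 : U ⊓ pp hf v < U := by
    refine lt_of_le_of_ne inf_le_left (fun h => ?_)
    have h5 : v' ∈ U ⊓ pp hf v := by rw [h]; exact Submodule.mem_top
    have h6 := (mem_pp hf).mp (Submodule.mem_inf.mp h5).2
    rw [h1'] at h6
    exact one_ne_zero h6
  have hlt2 : U ⊓ pp hf v ⊓ pp hf v' < U ⊓ pp hf v := by
    refine lt_of_le_of_ne inf_le_left (fun h => ?_)
    have h5 : v ∈ U ⊓ pp hf v ⊓ pp hf v' := by
      rw [h]; exact Submodule.mem_inf.mpr ⟨Submodule.mem_top, (mem_pp hf).mpr hvv⟩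
    have h6 := (mem_pp hf).mp (Submodule.mem_inf.mp h5).2
    rw [h1] at h6
    exact one_ne_zero h6
  have h2 := Submodule.finrank_lt_finrank_of_lt hlt1
  have h3 := Submodule.finrank_lt_finrank_of_lt hlt2
  have htop : Module.finrank F ↥U = 3 := by
    rw [hU, finrank_top, Module.finrank_fin_fun, hn]
  have hND := ND_hyp hf (ND_top hf) (Submodule.mem_top (x := v)) (Submodule.mem_top (x := v'))
    hvv hv'v' h1
  refine ⟨f u v', ?_⟩
  by_contra hne
  set w : Fin n → F := u - f u v' • v with hw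
  have hw0 : w ≠ 0 := by
    intro h0
    apply hne
    exact sub_eq_zero.1 h0
  have hwv : f w v = 0 := by
    rw [hw, u_sub_left hf, hf.smul_left, hvv, huv, mul_zero, sub_zero]
  have hwv' : f w v' = 0 := by
    rw [hw, u_sub_left hf, hf.smul_left, h1, mul_one, sub_self]
  have hww : f w w = 0 := by
    have h4 : f w w = f w u - σ (f u v') * f w v := by
      conv_lhs => rw [hw]
      rw [u_sub_right hf, u_smul_right hf]
    have h5 : f w u = 0 := by
      rw [hw, u_sub_left hf, hf.smul_left, huu, u_symm_zero hf huv, mul_zero, sub_zero]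
    rw [h4, h5, hwv, mul_zero, sub_zero]
  have hwW : w ∈ U ⊓ pp hf v ⊓ pp hf v' :=
    Submodule.mem_inf.mpr ⟨Submodule.mem_inf.mpr ⟨Submodule.mem_top, (mem_pp hf).mpr hwv⟩,
      (mem_pp hf).mpr hwv'⟩
  obtain ⟨x, hxW, hxw⟩ := hND w hwW hw0
  have hlt3 : U ⊓ pp hf v ⊓ pp hf v' ⊓ pp hf w < U ⊓ pp hf v ⊓ pp hf v' := by
    refine lt_of_le_of_ne inf_le_left (fun h => ?_)
    have h5 : x ∈ U ⊓ pp hf v ⊓ pp hf v' ⊓ pp hf w := by rw [h]; exact hxW
    have h6 := (mem_pp hf).mp (Submodule.mem_inf.mp h5).2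
    exact hxw h6
  have h4 := Submodule.finrank_lt_finrank_of_lt hlt3
  have h5 : 1 ≤ Module.finrank F ↥(U ⊓ pp hf v ⊓ pp hf v' ⊓ pp hf w) := by
    rw [Nat.one_le_iff_ne_zero]
    intro h0
    have h6 := Submodule.finrank_eq_zero.mp h0
    have h7 : w ∈ U ⊓ pp hf v ⊓ pp hf v' ⊓ pp hf w :=
      Submodule.mem_inf.mpr ⟨hwW, (mem_pp hf).mpr hww⟩
    rw [h6, Submodule.mem_bot] at h7
    exact hw0 h7
  omega

end witt

section su32

variable {F₀ : Type*} [Field F₀] [Fintype F₀]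

set_option maxHeartbeats 1600000 in
/-- a non-central element of `SU_3(2)` has a commutator with a transvection which has order three
and is not a scalar -/
theorem exists_order_three (hF₀ : Fintype.card F₀ = 2 ^ 2) (x : ↥(Cfsg.SU 3 F₀ 2))
    (hx : x ∉ Subgroup.center ↥(Cfsg.SU 3 F₀ 2)) :
    ∃ A : ↥(Cfsg.SU 3 F₀ 2), (x * (A * x⁻¹ * A⁻¹)) ^ 3 = 1 ∧
      ¬ ∃ c : F₀, ((x * (A * x⁻¹ * A⁻¹)).1 : Matrix (Fin 3) (Fin 3) F₀) =
        c • (1 : Matrix (Fin 3) (Fin 3) F₀) := by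
  have hf := herm_unitary (n := 3) hF₀
  obtain ⟨f, hfdef⟩ : ∃ f : (Fin 3 → F₀) → (Fin 3 → F₀) → F₀, f = Cfsg.hermForm 3 F₀ 2 :=
    ⟨_, rfl⟩
  have hch : CharP F₀ 2 := by
    haveI : Fact (Nat.Prime 2) := ⟨Nat.prime_two⟩
    exact charP_of_card_eq_prime_pow hF₀
  have h2 : (2 : F₀) = 0 := by
    have := CharP.cast_eq_zero F₀ 2
    exact_mod_cast this
  obtain ⟨pt, hpt⟩ : ∃ pt : ↥(isoPts hF₀ 3), x • pt ≠ pt := by
    by_contra hcon
    push Not at hcon
    exact hx (mem_center_of_fixes hF₀ le_rfl x hcon)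
  obtain ⟨v, hv0, hvv, rfl⟩ := exists_ipt hF₀ pt
  rw [smul_ipt, Ne, ipt_eq_iff] at hpt
  obtain ⟨u, hudef⟩ : ∃ u : Fin 3 → F₀, u = av x v := ⟨_, rfl⟩
  rw [← hudef] at hpt
  have huu : Cfsg.hermForm 3 F₀ 2 u u = 0 := by rw [hudef, av_iso]; exact hvv
  have huv : Cfsg.hermForm 3 F₀ 2 u v ≠ 0 := by
    intro h0
    obtain ⟨a, ha⟩ := iso_perp_dep hf rfl hvv huu h0 hv0
    exact hpt ⟨a, ha.symm⟩
  have hvu : Cfsg.hermForm 3 F₀ 2 v u ≠ 0 := u_symm_ne hf huv
  have hc1 : frobQ hF₀ (1 : F₀) = -1 := by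
    rw [map_one]
    linear_combination h2
  obtain ⟨A, hA⟩ := exists_tv hF₀ hvv hc1
  rw [← hfdef] at hf hvv huu huv hvu
  have hAx : ∀ z, av A z = z + f z v • v := by
    intro z
    unfold av
    rw [hA, ut_mulVec, one_mul, hfdef]
  have hiso : ∀ (B : ↥(Cfsg.SU 3 F₀ 2)) a b, f (av B a) (av B b) = f a b := by
    intro B a b
    rw [hfdef]
    exact av_iso B a b
  have hAA : A⁻¹ = A := by
    rw [inv_eq_iff_mul_eq_one]
    apply av_ext
    intro z
    rw [av_mul, av_one, hAx, hAx, hf.add_left, hf.smul_left, hvv, mul_zero, add_zero]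
    have h3 : f z v • v + f z v • v = (2 : F₀) • (f z v • v) := by rw [two_smul]
    rw [add_assoc, h3, h2, zero_smul, add_zero]
  obtain ⟨g, hg⟩ : ∃ g : F₀, g = f v u := ⟨_, rfl⟩
  obtain ⟨g', hg'⟩ : ∃ g' : F₀, g' = f u v := ⟨_, rfl⟩
  have hg0 : g ≠ 0 := by rw [hg]; exact hvu
  have hg'0 : g' ≠ 0 := by rw [hg']; exact huv
  have hgg : g * g' = 1 := by
    have h3 : g' = g ^ 2 := by
      rw [hg', hg, hf.herm u v]
      rfl
    rw [h3, ← pow_succ']
    have h4 := FiniteField.pow_card_sub_one_eq_one g hg0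
    rw [hF₀] at h4
    exact h4
  obtain ⟨y, hy⟩ : ∃ y : ↥(Cfsg.SU 3 F₀ 2), y = x * (A * x⁻¹ * A⁻¹) := ⟨_, rfl⟩
  have hY : ∀ z, av y z = z + f z v • v + (f z u + f z v * g) • u := by
    intro z
    rw [hy, hAA, av_mul, av_mul, av_mul, hAx z, hAx (av x⁻¹ (z + f z v • v)), av_add, av_av_inv,
      av_smul, ← hudef]
    have h3 : f (av x⁻¹ (z + f z v • v)) v = f (z + f z v • v) u := by
      rw [← hiso x (av x⁻¹ (z + f z v • v)) v, av_av_inv, ← hudef]
    rw [h3, hf.add_left, hf.smul_left, ← hg]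
  refine ⟨A, ?_, ?_⟩
  · rw [← hy]
    apply av_ext
    intro z
    rw [av_one, pow_succ, pow_succ, pow_one, av_mul, av_mul]
    obtain ⟨α, hα⟩ : ∃ α : F₀, α = f z v := ⟨_, rfl⟩
    obtain ⟨β, hβ⟩ : ∃ β : F₀, β = f z u := ⟨_, rfl⟩
    have e1 : av y z = z + α • v + (β + α * g) • u := by rw [hY, ← hα, ← hβ]
    have hα1 : f (av y z) v = g' * β := by
      rw [e1, hf.add_left, hf.add_left, hf.smul_left, hf.smul_left, hvv, ← hα, ← hg']
      linear_combination (α) * hgg + α * h2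
    have hβ1 : f (av y z) u = β + α * g := by
      rw [e1, hf.add_left, hf.add_left, hf.smul_left, hf.smul_left, huu, ← hβ, ← hg]
      ring
    have e2 : av y (av y z) = z + (α + g' * β) • v + β • u := by
      rw [hY (av y z), hα1, hβ1, e1]
      have h5 : β + α * g + (β + α * g + g' * β * g) = β + (2 : F₀) * (β + α * g)
          + β * (g * g' - 1) := by ring
      have h6 : z + α • v + (β + α * g) • u + (g' * β) • v + (β + α * g + g' * β * g) • u
          = z + (α + g' * β) • v + (β + α * g + (β + α * g + g' * β * g)) • u := by module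
      rw [h6, h5, h2, hgg, sub_self, mul_zero, zero_mul, add_zero, add_zero]
    have hα2 : f (av y (av y z)) v = α + g' * β := by
      rw [e2, hf.add_left, hf.add_left, hf.smul_left, hf.smul_left, hvv, ← hα, ← hg']
      ring
    have hβ2 : f (av y (av y z)) u = α * g := by
      rw [e2, hf.add_left, hf.add_left, hf.smul_left, hf.smul_left, huu, ← hβ, ← hg]
      linear_combination (β) * hgg + β * h2
    rw [hY (av y (av y z)), hα2, hβ2, e2]
    have h7 : z + (α + g' * β) • v + β • u + (α + g' * β) • v + (α * g + (α + g' * β) * g) • u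
        = z + ((2 : F₀) * (α + g' * β)) • v + ((2 : F₀) * (α * g) + β * (g * g' - 1)
          + (2 : F₀) * β) • u := by module
    rw [h7, h2, hgg, sub_self, mul_zero, zero_mul, zero_mul, zero_mul, add_zero, add_zero,
      zero_smul, zero_smul, add_zero, add_zero]
  · rintro ⟨c, hc⟩
    rw [← hy] at hc
    have h3 : av y u = c • u := by
      unfold av
      rw [hc, Matrix.smul_mulVec, Matrix.one_mulVec]
    rw [hY, huu, ← hg', zero_add] at h3
    -- `u + g' • v + (g' * g) • u = c • u`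
    have h4 : g' • v = c • u := by
      have h5 : u + g' • v + (g' * g) • u = g' • v + ((2 : F₀) + (g * g' - 1)) • u := by module
      rw [h5, h2, hgg, sub_self, add_zero, zero_smul, add_zero] at h3
      exact h3
    apply hpt
    have hc0 : c ≠ 0 := by
      intro h0
      rw [h0, zero_smul] at h4
      rcases smul_eq_zero.1 h4 with h5 | h5
      · exact hg'0 h5
      · exact hv0 h5
    refine ⟨c⁻¹ * g', ?_⟩
    rw [mul_smul, h4, smul_smul, inv_mul_cancel₀ hc0, one_smul]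

end su32

end Cfsg.Agent.Lib.Helper18.PSUBal
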