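import Mathlib
import Cfsg.Agent.Lib.Helper18.PSUBalE
import Cfsg.Agent.S0282

/-!
# Local balance for `PSU_n(q)`: normal subgroups of the subfield subgroup (helper18)
-/

set_option autoImplicit false
set_option linter.unusedSectionVars false

namespace Cfsg.Agent.Lib.Helper18.PSUBal

open Matrix Cfsg Cfsg.Agent.Lib.Helper18.PSLnAut Cfsg.Agent.Lib.Helper18.PSLnFld
  Cfsg.Agent.Lib.Helper25.PSUG Cfsg.Agent.Lib.Helper18.PSUOut Cfsg.Agent.Lib.Helper18.PSUFld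
  Cfsg.Agent.Lib.Helper14 Cfsg.Agent.Lib.Helper18.PSLnBal
  Cfsg.Agent.Lib.Helper18.OrthBal
  Cfsg.Agent.Lib.Helper25 Cfsg.Agent.Lib.Helper25.SLRoot
  Cfsg.Agent.Lib.Helper5.UForm Cfsg.Agent.Lib.Helper5.HermBridge Cfsg.Agent.Lib.Helper5.SUGen

section normal

variable {n : ℕ} {F : Type*} [Field F] [Fintype F] {F₀ : Type*} [Field F₀] [Fintype F₀]
  {q q₀ : ℕ}

/-- the homomorphism from `SU_n(F₀)` onto the subfield subgroup -/
noncomputable def fSU (ι : F₀ →+* F)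
    (hmem : ∀ g₀ ∈ Cfsg.GU n F₀ q₀, glMap ι g₀ ∈ Cfsg.GU n F q) :
    ↥(Cfsg.SU n F₀ q₀) →* MulAut (Cfsg.PSU n F q) :=
  (PsiGU ι hmem).comp toGLU

theorem fSU_apply (ι : F₀ →+* F)
    (hmem : ∀ g₀ ∈ Cfsg.GU n F₀ q₀, glMap ι g₀ ∈ Cfsg.GU n F q) (s : ↥(Cfsg.SU n F₀ q₀)) :
    fSU ι hmem s = PsiGU ι hmem (toGLU s) := rfl

theorem range_fSU (ι : F₀ →+* F)
    (hmem : ∀ g₀ ∈ Cfsg.GU n F₀ q₀, glMap ι g₀ ∈ Cfsg.GU n F q) :
    (fSU (n := n) ι hmem).range = Lsu ι hmem := by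
  unfold fSU Lsu
  rw [MonoidHom.map_range]

theorem fSU_eq_one_iff (hF : Fintype.card F = q ^ 2) (hn : 3 ≤ n) (h32 : ¬ (n = 3 ∧ q = 2))
    (ι : F₀ →+* F) (hmem : ∀ g₀ ∈ Cfsg.GU n F₀ q₀, glMap ι g₀ ∈ Cfsg.GU n F q)
    (s : ↥(Cfsg.SU n F₀ q₀)) :
    fSU ι hmem s = 1 ↔ ∃ c : F₀, (s.1 : Matrix (Fin n) (Fin n) F₀) =
      c • (1 : Matrix (Fin n) (Fin n) F₀) := by
  rw [fSU_apply, ← MonoidHom.mem_ker, ker_PsiGU hF hn h32, Subgroup.mem_subgroupOf,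
    Cfsg.Geo.mem_scalars_iff]
  constructor
  · rintro ⟨c, hc⟩
    exact ⟨(c : F₀), hc⟩
  · rintro ⟨c, hc⟩
    have hc0 : c ≠ 0 := by
      intro h0
      have hdet : (s.1 : Matrix (Fin n) (Fin n) F₀).det = 1 := s.1.2
      rw [hc, h0, zero_smul] at hdet
      haveI : Nonempty (Fin n) := ⟨⟨0, by omega⟩⟩
      rw [Matrix.det_zero] at hdet
      exact zero_ne_one hdet
    exact ⟨Units.mk0 c hc0, hc⟩

theorem center_le_ker_fSU (hF : Fintype.card F = q ^ 2) (hF₀ : Fintype.card F₀ = q₀ ^ 2)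
    (hn : 3 ≤ n) (h32 : ¬ (n = 3 ∧ q = 2))
    (ι : F₀ →+* F) (hmem : ∀ g₀ ∈ Cfsg.GU n F₀ q₀, glMap ι g₀ ∈ Cfsg.GU n F q) :
    Subgroup.center ↥(Cfsg.SU n F₀ q₀) ≤ (fSU (n := n) ι hmem).ker := by
  intro z hz
  rw [MonoidHom.mem_ker, fSU_eq_one_iff hF hn h32]
  exact center_SU_scalar hF₀ (by omega) z hz

/-- the hypothesis on normal subgroups of the subfield subgroup -/
theorem hLs_Lsu (hF : Fintype.card F = q ^ 2) (hF₀ : Fintype.card F₀ = q₀ ^ 2)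
    (hn : 3 ≤ n) (h32 : ¬ (n = 3 ∧ q = 2)) (ι : F₀ →+* F)
    (hmem : ∀ g₀ ∈ Cfsg.GU n F₀ q₀, glMap ι g₀ ∈ Cfsg.GU n F q) (p r : ℕ) (hp : p.Prime)
    [hch0 : CharP F₀ r] (hpr : p ≠ r) (hpd : p ∣ Nat.card ↥(Lsu ι hmem))
    (N : Subgroup (MulAut (Cfsg.PSU n F q))) (hNL : N ≤ Lsu ι hmem)
    (hn' : ∀ l ∈ Lsu ι hmem, ∀ m ∈ N, l * m * l⁻¹ ∈ N) (hN : N ≠ ⊥) : p ∣ Nat.card ↥N := by
  classical
  haveI : Fact p.Prime := ⟨hp⟩
  have hfin : Finite (MulAut (Cfsg.PSU n F q)) := by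
    have : Finite (Cfsg.PSU n F q) := by
      unfold Cfsg.PSU
      infer_instance
    exact Finite.of_injective (fun e : MulAut (Cfsg.PSU n F q) =>
      (e : Cfsg.PSU n F q → Cfsg.PSU n F q)) (fun a b h => MulEquiv.ext (congrFun h))
  have hZ := center_le_ker_fSU hF hF₀ hn h32 ι hmem
  rw [← range_fSU] at hNL hn' hpd
  by_cases h32' : n = 3 ∧ q₀ = 2
  · obtain ⟨rfl, rfl⟩ := h32'
    -- `p = 3`
    have hF4 : Fintype.card F₀ = 4 := by rw [hF₀]; norm_num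
    have hr2 : r = 2 := by
      haveI : Fact (Nat.Prime 2) := ⟨Nat.prime_two⟩
      have hch : CharP F₀ 2 := charP_of_card_eq_prime_pow hF₀
      exact CharP.eq F₀ hch0 hch
    have hcardSU : Nat.card ↥(Cfsg.SU 3 F₀ 2) = 72 * 3 := by
      have h3 := Cfsg.Agent.Lib.Helper14.card_center_SU hF₀ 3 (by omega)
      have h4 := Subgroup.card_eq_card_quotient_mul_card_subgroup
        (Subgroup.center ↥(Cfsg.SU 3 F₀ 2))
      have h5 : Nat.card (↥(Cfsg.SU 3 F₀ 2) ⧸ Subgroup.center ↥(Cfsg.SU 3 F₀ 2)) = 72 :=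
        (Cfsg.Agent.S0282.result hF4).1
      rw [h3, h5] at h4
      rw [h4]
      norm_num
    have hp3 : p = 3 := by
      have h3 : p ∣ 72 * 3 := by
        rw [← hcardSU]
        exact dvd_trans hpd (Subgroup.card_range_dvd _)
      have h4 : (72 * 3 : ℕ) = 2 * (2 * (2 * (3 * (3 * 3)))) := by norm_num
      rw [h4] at h3
      have h2' : ¬ p ∣ 2 := by
        intro h
        exact hpr (((Nat.prime_dvd_prime_iff_eq hp Nat.prime_two).1 h).trans hr2.symm)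
      have h3' : p ∣ 3 → p = 3 := fun h => (Nat.prime_dvd_prime_iff_eq hp Nat.prime_three).1 h
      rcases hp.dvd_mul.1 h3 with h | h
      · exact absurd h h2'
      rcases hp.dvd_mul.1 h with h | h
      · exact absurd h h2'
      rcases hp.dvd_mul.1 h with h | h
      · exact absurd h h2'
      rcases hp.dvd_mul.1 h with h | h
      · exact h3' h
      rcases hp.dvd_mul.1 h with h | h
      · exact h3' h
      · exact h3' h
    subst hp3
    -- a non-central element of the preimage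
    obtain ⟨m, hmN, hm1⟩ : ∃ m ∈ N, m ≠ 1 := by
      by_contra hcon
      push Not at hcon
      apply hN
      rw [eq_bot_iff]
      intro y hy
      exact hcon y hy
    obtain ⟨x, rfl⟩ := hNL hmN
    have hxc : x ∉ Subgroup.center ↥(Cfsg.SU 3 F₀ 2) := fun hc => hm1 (hZ hc)
    obtain ⟨A, hy3, hysc⟩ := exists_order_three hF₀ x hxc
    have hyN : fSU ι hmem (x * (A * x⁻¹ * A⁻¹)) ∈ N := by
      rw [map_mul, map_mul, map_mul, map_inv, map_inv]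
      exact N.mul_mem hmN (hn' _ ⟨A, rfl⟩ _ (N.inv_mem hmN))
    have hne : fSU ι hmem (x * (A * x⁻¹ * A⁻¹)) ≠ 1 := by
      rw [Ne, fSU_eq_one_iff hF hn h32]
      exact hysc
    have hpow : fSU ι hmem (x * (A * x⁻¹ * A⁻¹)) ^ 3 = 1 := by
      rw [← map_pow, hy3, map_one]
    have hord : orderOf (fSU ι hmem (x * (A * x⁻¹ * A⁻¹))) = 3 := orderOf_eq_prime hpow hne
    have h5 := orderOf_dvd_card_of_mem N hyN
    rwa [hord] at h5
  · -- an element of order `p`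
    obtain ⟨c, hc⟩ := exists_prime_orderOf_dvd_card' p hpd
    obtain ⟨x, hx⟩ := c.2
    have hxo : orderOf (fSU ι hmem x) = p := by
      rw [hx, ← hc]
      exact (Subgroup.orderOf_coe c)
    exact hLs_of_quasisimple p (fSU ι hmem)
      (fun M hM => by
        haveI := hM
        exact Cfsg.Agent.Lib.Helper5.PSUSimple.normal_le_center_or_eq_top hF₀ hn h32' M)
      hZ x hxo N hNL hn' hN

end normal

end Cfsg.Agent.Lib.Helper18.PSUBal
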