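import Mathlib
import Cfsg.Agent.Lib.Helper18.PSUBalF

/-!
# Local balance for field-type automorphisms of odd prime order of `PSU_n(q)` (helper18)
-/

set_option autoImplicit false
set_option linter.unusedSectionVars false

namespace Cfsg.Agent.Lib.Helper18.PSUBal

open Matrix Cfsg Cfsg.Agent.Lib.Helper18.PSLnAut Cfsg.Agent.Lib.Helper18.PSLnFld
  Cfsg.Agent.Lib.Helper25.PSUG Cfsg.Agent.Lib.Helper18.PSUOut Cfsg.Agent.Lib.Helper18.PSUFld
  Cfsg.Agent.Lib.Helper14 Cfsg.Agent.Lib.Helper18.PSLnBal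
  Cfsg.Agent.Lib.Helper18.OrthBal
  Cfsg.Agent.Lib.Helper25 Cfsg.Agent.Lib.Helper25.SLRoot
  Cfsg.Agent.Lib.Helper5.UForm Cfsg.Agent.Lib.Helper5.HermBridge Cfsg.Agent.Lib.Helper5.SUGen

section main

variable {n : ℕ} {F : Type*} [Field F] [Fintype F] {q : ℕ}

theorem finite_aut_PSU : Finite (MulAut (Cfsg.PSU n F q)) := by
  have : Finite (Cfsg.PSU n F q) := by
    unfold Cfsg.PSU
    infer_instance
  exact Finite.of_injective (fun e : MulAut (Cfsg.PSU n F q) =>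
    (e : Cfsg.PSU n F q → Cfsg.PSU n F q)) (fun a b h => MulEquiv.ext (congrFun h))

/-- the size of the field is a power of the characteristic -/
theorem exists_q_eq_pow (r : ℕ) [Fact r.Prime] [CharP F r] (hF : Fintype.card F = q ^ 2) :
    ∃ f : ℕ, q = r ^ f := by
  obtain ⟨k, hk⟩ := FiniteField.card F r
  have h1 : q ∣ r ^ (k : ℕ) := by
    rw [← hk.2, hF, pow_two]
    exact dvd_mul_right q q
  obtain ⟨m, -, hm⟩ := (Nat.dvd_prime_pow (Fact.out : r.Prime)).1 h1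
  exact ⟨m, hm⟩

set_option maxHeartbeats 1600000 in
/-- **local balance for `PSU_n(q)`**, for an automorphism of odd prime order `p` outside the
inner-diagonal group -/
theorem psu_balance_field (r : ℕ) [Fact r.Prime] [CharP F r] (hF : Fintype.card F = q ^ 2)
    (hn : 3 ≤ n) (h32 : ¬ (n = 3 ∧ q = 2))
    (A : Subgroup (MulAut (Cfsg.PSU n F q)))
    (hinn : ∀ k : Cfsg.PSU n F q, MulAut.conj k ∈ A)
    {p : ℕ} [Fact p.Prime] (hpr : p ≠ r) (hp2 : p ≠ 2) (g : ↥(GUs n F q)) (τ : RingAut F)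
    (hτ1 : τ ≠ 1)
    (hord : orderOf ((conjUHom g : MulAut (Cfsg.PSU n F q)) * fieldUHom τ) = p) :
    Cfsg.pPrimeCore p ↥(A ⊓ Subgroup.centralizer
        {(conjUHom g : MulAut (Cfsg.PSU n F q)) * fieldUHom τ}) ≠ ⊥ ↔
      Nat.Coprime p (Nat.card ↥(MonoidHom.eqLocus
        ((conjUHom g : MulAut (Cfsg.PSU n F q)) * fieldUHom τ).toMonoidHom
        (MonoidHom.id (Cfsg.PSU n F q)))) := by
  classical
  have hp : p.Prime := Fact.out
  have hodd : Odd p := hp.odd_of_ne_two hp2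
  have hfin : Finite (MulAut (Cfsg.PSU n F q)) := finite_aut_PSU
  obtain ⟨Φ, hΦ1, hΦ2⟩ := exists_autHomU (n := n) hF hn h32
  have hpow : ((conjUHom g : MulAut (Cfsg.PSU n F q)) * fieldUHom τ) ^ p = 1 := by
    rw [← hord]
    exact pow_orderOf_eq_one _
  have hτp : orderOf τ = p := by
    have h1 : τ ^ p = 1 := by
      have h2 := congrArg Φ hpow
      have h3 : Φ (conjUHom g) = 1 := by
        rw [← MonoidHom.mem_ker, hΦ2]
        exact ⟨g, rfl⟩
      rw [map_pow, map_mul, h3, hΦ1, one_mul, map_one] at h2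
      exact h2
    rcases (Nat.dvd_prime hp).1 (orderOf_dvd_of_pow_eq_one h1) with h3 | h3
    · exact absurd (orderOf_eq_one_iff.1 h3) hτ1
    · exact h3
  -- the fixed field
  obtain ⟨f, hq⟩ := exists_q_eq_pow r hF
  have hk : 2 * (f / p) ≠ 0 := by
    have hdvd : p ∣ f := by
      have hF' : Fintype.card F = r ^ (2 * f) := by
        rw [hF, hq, ← pow_mul, mul_comm]
      have h1 : p ∣ 2 * f := by
        rw [← hτp, ← Cfsg.Agent.Lib.Helper18.PSL2Aut.ringAut_card r hF']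
        exact orderOf_dvd_natCard τ
      exact (Nat.Coprime.dvd_of_dvd_mul_left (Nat.coprime_two_right.2 hodd) h1)
    have hf0 : 0 < f := by
      rcases Nat.eq_zero_or_pos f with h0 | h0
      · subst h0
        rw [pow_zero] at hq
        subst hq
        have h2 : 1 < Fintype.card F := Fintype.one_lt_card
        rw [hF] at h2
        norm_num at h2
      · exact h0
    have := Nat.div_pos (Nat.le_of_dvd hf0 hdvd) hp.pos
    omega
  let F₀ := GaloisField r (2 * (f / p))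
  have : Fintype F₀ := Fintype.ofFinite _
  have hF₀ : Fintype.card F₀ = r ^ (2 * (f / p)) := by
    rw [← Nat.card_eq_fintype_card]
    exact GaloisField.card r _ hk
  obtain ⟨-, ι, hι, hιq⟩ := exists_subfield_data hq hF τ p hτp hodd F₀ hF₀
  have hF₀' : Fintype.card F₀ = (r ^ (f / p)) ^ 2 := by
    rw [hF₀, ← pow_mul, mul_comm]
  obtain ⟨q₀, hq₀⟩ : ∃ q₀ : ℕ, q₀ = r ^ (f / p) := ⟨_, rfl⟩
  rw [← hq₀] at hF₀' hιq
  haveI : CharP F₀ r := RingHom.charP ι ι.injective r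
  have hρ₀o : orderOf (frobQ hF₀') = 2 :=
    orderOf_frob hF₀' _ (fun a => frobQ_apply hF₀' a)
  -- conjugate to the standard field automorphism
  obtain ⟨h, hh⟩ := field_coset_conjU hF hn h32 τ p hτp hodd ι hι (frobQ hF₀') hρ₀o
    (fun b => by rw [hιq]; rfl) g hpow
  obtain ⟨d, hd⟩ : ∃ d : MulAut (Cfsg.PSU n F q), d = conjUHom h := ⟨_, rfl⟩
  obtain ⟨φ, hφ⟩ : ∃ φ : MulAut (Cfsg.PSU n F q), φ = fieldUHom (n := n) (q := q) τ := ⟨_, rfl⟩
  rw [hh, ← hd, ← hφ]
  have he' : ∀ b, τ (ι b) = ι b := fun b => (hι _).2 ⟨b, rfl⟩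
  have hmem : ∀ g₀ ∈ Cfsg.GU n F₀ q₀, glMap ι g₀ ∈ Cfsg.GU n F q :=
    fun g₀ hg₀ => glMap_mem_GU (frobQ hF) (fun a => frobQ_apply hF a) (frobQ hF₀')
      (fun a => frobQ_apply hF₀' a) ι (fun b => by
        rw [frobQ_apply, frobQ_apply, hιq]) hg₀
  have hrange := range_PsiGU hF hn h32 τ p hτp hp.pos (frobQ hF) (fun a => frobQ_apply hF a)
    (frobQ hF₀') (fun a => frobQ_apply hF₀' a) hρ₀o ι hι (fun b => by
        rw [frobQ_apply, frobQ_apply, hιq]) hmem
  -- transport along conjugation by `d`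
  have hinn'' : Cfsg.Inn (Cfsg.PSU n F q) ≤ A.comap (MulAut.conj d).toMonoidHom := by
    rintro _ ⟨k, rfl⟩
    show d * MulAut.conj k * d⁻¹ ∈ A
    rw [conj_conj]
    exact hinn _
  have hZ := center_PSU_eq_bot (n := n) hF hn h32
  have hcardfix : Nat.card ↥(MonoidHom.eqLocus (d * φ * d⁻¹).toMonoidHom
      (MonoidHom.id (Cfsg.PSU n F q))) =
      Nat.card ↥(Cfsg.Inn (Cfsg.PSU n F q) ⊓ Subgroup.centralizer {φ}) := by
    rw [card_eqLocus_conj, card_inn_inf_centralizer hZ]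
  have hiff := pPrimeCore_eq_bot_iff_of_equiv p (centralizerConjEquiv A d φ)
  have hCD : Cfsg.Inn (Cfsg.PSU n F q) ⊓ Subgroup.centralizer {φ} ≤
      (PsiGU (n := n) ι hmem).range := by
    rw [hrange, hφ, ← range_chiU]
    exact inf_le_inf_right _ inn_le_range_chiU
  have hφord : orderOf φ = p := by
    rw [hφ, orderOf_fieldUHom hF hn h32, hτp]
  refine ⟨fun hne => ?_, fun hcop => ?_⟩
  · by_contra hncop
    have hdvd : p ∣ Nat.card ↥(Cfsg.Inn (Cfsg.PSU n F q) ⊓ Subgroup.centralizer {φ}) := by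
      rw [← hcardfix]
      exact (Nat.Prime.dvd_iff_not_coprime hp).2 hncop
    apply hne
    rw [← hiff]
    obtain ⟨c, hc⟩ := exists_prime_orderOf_dvd_card' p hdvd
    have hc' : orderOf (c : MulAut (Cfsg.PSU n F q)) = p := by
      rw [← hc]
      exact (Subgroup.orderOf_coe c)
    have hpd := p_dvd_card_Lsu hF hF₀' hn h32 ι hmem p hp c.1 (hCD c.2) hc'
    apply core_trivial_pp p (A.comap (MulAut.conj d).toMonoidHom ⊓ Subgroup.centralizer {φ})
      (Cfsg.Inn (Cfsg.PSU n F q) ⊓ Subgroup.centralizer {φ})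
      (Lsu ι hmem) (inf_le_inf_right _ hinn'')
      (fun h hh c hcC => Cfsg.Agent.Lib.Helper18.PSpAut.C_normal' _ _ h hh c hcC)
      (by rw [hφ]; exact Lsu_le_C ι hmem τ he')
      (fun c hcC l hl => Lsu_normal ι hmem c (hCD hcC) l hl)
      (hLs_Lsu hF hF₀' hn h32 ι hmem p r hp hpr hpd)
    intro x _ hxk hx
    obtain ⟨k, hk, hxk⟩ := hxk
    have h1 := cent_Lsu hF hF₀' hn h32 ι hmem τ hι x hx
    rw [← hφ] at h1
    obtain ⟨j, rfl⟩ := Subgroup.mem_zpowers_iff.1 h1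
    have h2 : (φ ^ j) ^ p = 1 := by
      rw [← zpow_natCast, ← _root_.zpow_mul, mul_comm, _root_.zpow_mul, zpow_natCast, ← hφord,
        pow_orderOf_eq_one, _root_.one_zpow]
    have h3 : orderOf (φ ^ j) ∣ Nat.gcd k p :=
      Nat.dvd_gcd (orderOf_dvd_of_pow_eq_one hxk) (orderOf_dvd_of_pow_eq_one h2)
    rw [Nat.Coprime.gcd_eq_one hk, Nat.dvd_one, orderOf_eq_one_iff] at h3
    exact h3
  · intro hbot
    rw [← hiff] at hbot
    refine core_ne_bot p _ (Cfsg.Inn (Cfsg.PSU n F q) ⊓ Subgroup.centralizer {φ})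
      (inf_le_inf_right _ hinn'')
      (fun h hh c hcC => Cfsg.Agent.Lib.Helper18.PSpAut.C_normal' _ _ h hh c hcC) ?_ ?_ hbot
    · rw [← hcardfix]
      exact hcop.symm
    · intro hb
      apply Lsu_ne_bot hF hF₀' hn h32 ι hmem
      rw [eq_bot_iff, ← hb, hφ]
      exact Lsu_le_C ι hmem τ he'

end main

end Cfsg.Agent.Lib.Helper18.PSUBal
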