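import Mathlib
import Cfsg.Agent.Lib.Helper18.PSUBalG
import Cfsg.Agent.Lib.Helper25.PSUGraph9

/-!
# Local balance for `PSU_n(q)`: graph involutions, the embedding of the isometry group of the
descended form (helper18)
-/

set_option autoImplicit false
set_option linter.unusedSectionVars false

namespace Cfsg.Agent.Lib.Helper18.PSUBal

open Matrix Cfsg Cfsg.Agent.Lib.Helper18.PSLnAut Cfsg.Agent.Lib.Helper18.PSLnFld
  Cfsg.Agent.Lib.Helper25.PSUG Cfsg.Agent.Lib.Helper18.PSUOut Cfsg.Agent.Lib.Helper18.PSUFld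
  Cfsg.Agent.Lib.Helper14 Cfsg.Agent.Lib.Helper18.PSLnBal
  Cfsg.Agent.Lib.Helper18.OrthBal
  Cfsg.Agent.Lib.Helper25 Cfsg.Agent.Lib.Helper25.SLRoot Cfsg.Agent.Lib.Helper25.InvTrans

section emb

variable {n : ℕ} {F : Type*} [Field F] {F₀ : Type*} [Field F₀] {q : ℕ}

/-- membership of a conjugate in the unitary group, in terms of the Gram matrix of the
conjugating matrix -/
theorem conj_mem_GU_iff (ρ : RingAut F) (hρ : ∀ a, ρ a = a ^ q) (k y : GL (Fin n) F) :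
    k * y * k⁻¹ ∈ Cfsg.GU n F q ↔
      (y.1)ᵀ * ((k.1)ᵀ * (k.1).map ρ) * (y.1).map ρ = (k.1)ᵀ * (k.1).map ρ := by
  rw [mem_GU_iff_gram ρ q hρ]
  have h1 : ((k * y * k⁻¹ : GL (Fin n) F).1)ᵀ * ((k * y * k⁻¹ : GL (Fin n) F).1).map ρ =
      ((k⁻¹ : GL (Fin n) F).1)ᵀ * ((y.1)ᵀ * ((k.1)ᵀ * (k.1).map ρ) * (y.1).map ρ) *
        ((k⁻¹ : GL (Fin n) F).1).map ρ := by
    rw [Units.val_mul, Units.val_mul, Matrix.transpose_mul, Matrix.transpose_mul, Matrix.map_mul,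
      Matrix.map_mul]
    simp only [Matrix.mul_assoc]
  rw [h1]
  constructor
  · intro hc
    calc (y.1)ᵀ * ((k.1)ᵀ * (k.1).map ρ) * (y.1).map ρ
        = ((k.1)ᵀ * ((k⁻¹ : GL (Fin n) F).1)ᵀ) *
            ((y.1)ᵀ * ((k.1)ᵀ * (k.1).map ρ) * (y.1).map ρ) *
            (((k⁻¹ : GL (Fin n) F).1).map ρ * (k.1).map ρ) := by
          rw [tr_mul_tr_inv, map_inv_mul_map, Matrix.one_mul, Matrix.mul_one]
      _ = (k.1)ᵀ * (((k⁻¹ : GL (Fin n) F).1)ᵀ *
            ((y.1)ᵀ * ((k.1)ᵀ * (k.1).map ρ) * (y.1).map ρ) *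
            ((k⁻¹ : GL (Fin n) F).1).map ρ) * (k.1).map ρ := by
          simp only [Matrix.mul_assoc]
      _ = (k.1)ᵀ * (k.1).map ρ := by
          rw [hc, Matrix.mul_one]
  · intro hc
    rw [hc]
    calc ((k⁻¹ : GL (Fin n) F).1)ᵀ * ((k.1)ᵀ * (k.1).map ρ) * ((k⁻¹ : GL (Fin n) F).1).map ρ
        = (((k⁻¹ : GL (Fin n) F).1)ᵀ * (k.1)ᵀ) *
            ((k.1).map ρ * ((k⁻¹ : GL (Fin n) F).1).map ρ) := by
          simp only [Matrix.mul_assoc]
      _ = 1 := by rw [tr_inv_mul_tr, map_mul_map_inv, Matrix.one_mul]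

/-- isometries of a form over the fixed field, after extension of scalars -/
theorem glMap_iso_iff (ρ : RingAut F) (ι : F₀ →+* F) (hι' : ∀ b, ρ (ι b) = ι b)
    (t : F) (ht : t ≠ 0) (A₀ : Matrix (Fin n) (Fin n) F₀) (x₀ : GL (Fin n) F₀) :
    ((glMap ι x₀).1)ᵀ * (t • A₀.map ι) * ((glMap ι x₀).1).map ρ = t • A₀.map ι ↔
      (x₀.1)ᵀ * A₀ * x₀.1 = A₀ := by
  have hfix : ((glMap ι x₀).1 : Matrix (Fin n) (Fin n) F).map ρ = (glMap ι x₀).1 := by
    ext a b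
    rw [Matrix.map_apply, glMap_coe, Matrix.map_apply]
    exact hι' _
  have hprod : ((glMap ι x₀).1)ᵀ * (t • A₀.map ι) * (glMap ι x₀).1 =
      t • ((x₀.1)ᵀ * A₀ * x₀.1).map ι := by
    rw [glMap_coe, Matrix.mul_smul, Matrix.smul_mul, Matrix.map_mul, Matrix.map_mul,
      Matrix.transpose_map]
  rw [hfix, hprod]
  constructor
  · intro hc
    have h1 := congrArg (fun M => t⁻¹ • M) hc
    simp only [smul_smul, inv_mul_cancel₀ ht, one_smul] at h1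
    exact map_injective' ι h1
  · intro hc
    rw [hc]

theorem toGL_conjMat (k : GL (Fin n) F) (s : SpecialLinearGroup (Fin n) F) :
    Matrix.SpecialLinearGroup.toGL (conjMat k s) = k * Matrix.SpecialLinearGroup.toGL s * k⁻¹ := by
  apply Units.ext
  rfl

theorem mem_SU_iff_toGL (s : SpecialLinearGroup (Fin n) F) :
    s ∈ Cfsg.SU n F q ↔ Matrix.SpecialLinearGroup.toGL s ∈ Cfsg.GU n F q := Iff.rfl

/-- the conjugate of a rational matrix is special unitary iff the matrix is an isometry of the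
descended form -/
theorem conjMat_map_mem_SU_iff (ρ : RingAut F) (hρ : ∀ a, ρ a = a ^ q) (ι : F₀ →+* F)
    (hι' : ∀ b, ρ (ι b) = ι b) (k : GL (Fin n) F) (t : F) (ht : t ≠ 0)
    (A₀ : Matrix (Fin n) (Fin n) F₀) (hk : (k.1)ᵀ * (k.1).map ρ = t • A₀.map ι)
    (s₀ : SpecialLinearGroup (Fin n) F₀) :
    conjMat k (Matrix.SpecialLinearGroup.map ι s₀) ∈ Cfsg.SU n F q ↔
      s₀ ∈ Sform A₀ (1 : RingAut F₀) := by
  rw [mem_SU_iff_toGL, toGL_conjMat, ← glMap_toGL, conj_mem_GU_iff ρ hρ, hk,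
    glMap_iso_iff ρ ι hι' t ht, mem_Sform, adj_refl]
  rfl

end emb

end Cfsg.Agent.Lib.Helper18.PSUBal
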