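import Mathlib
import Cfsg.Agent.Lib.Helper18.PSUBalH

/-!
# Local balance for `PSU_n(q)`: graph involutions, semilinear maps centralising the rational
symplectic and orthogonal groups (helper18)
-/

set_option autoImplicit false
set_option linter.unusedSectionVars false

namespace Cfsg.Agent.Lib.Helper18.PSUBal

open Matrix Module QuadraticMap Cfsg Cfsg.Agent.Lib.Helper18.PSLnAut
  Cfsg.Agent.Lib.Helper18.PSLnFld Cfsg.Agent.Lib.Helper18.PSLnBal
  Cfsg.Agent.Lib.Helper18.OrthBal Cfsg.Agent.Lib.Helper18.OrthMin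
  Cfsg.Agent.Lib.Helper25 Cfsg.Agent.Lib.Helper25.SLRoot Cfsg.Agent.Lib.Helper25.GraphInv
  Cfsg.Agent.Lib.Helper25.CD Cfsg.Agent.Lib.Helper25.Spin Cfsg.Agent.Lib.Helper18.OrthGr

section skew

variable {n : ℕ} {F : Type*} [Field F] {F₀ : Type*} [Field F₀]

/-- no semilinear automorphism centralises the image of the rational symplectic group, up to
the Galois group of the extension -/
theorem hS4_skew_rel (hn : 2 ≤ n) (h2 : (2 : F₀) ≠ 0) (ι : F₀ →+* F) (M : GL (Fin n) F₀)
    (hM : (M.1)ᵀ = -M.1) (h : GL (Fin n) F) (τ : RingAut F)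
    (hfix : ∀ s ∈ Sform M.1 (1 : RingAut F₀),
      conjA h (fieldA τ (pi (Matrix.SpecialLinearGroup.map ι s))) =
        pi (Matrix.SpecialLinearGroup.map ι s)) :
    (∀ b, τ (ι b) = ι b) ∧ conjAHom h = 1 := by
  apply scalar_of_par hn ι h τ
  intro v hv
  have h0 : (M.1 *ᵥ v) ⬝ᵥ v = 0 := by
    rw [dotProduct_comm]
    exact alt_dot h2 M.1 hM v
  have hφ : M.1 *ᵥ v ≠ 0 := by
    intro h1
    apply hv
    have h3 := congrArg (fun w => ((M⁻¹ : GL (Fin n) F₀) : Matrix (Fin n) (Fin n) F₀) *ᵥ w) h1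
    simp only [Matrix.mulVec_mulVec, gl_inv_mul, Matrix.one_mulVec, Matrix.mulVec_zero] at h3
    exact h3
  have h' : (fun i => ι ((M.1 *ᵥ v) i)) ⬝ᵥ (fun i => ι (v i)) = 0 := by
    rw [map_dot', h0, map_zero]
  have hl := hfix _ (tvSL_mem_Sform_skew h2 M.1 hM v h0 1)
  rw [map_tvSL ι h0 1 h', map_one] at hl
  exact par_of_fix_tvSL hn h τ h' (map_ne_zero' ι hv) (map_ne_zero' ι hφ) hl

end skew

section orth

variable {n : ℕ} {F : Type*} [Field F] {F₀ : Type*} [Field F₀]

theorem map_mulVec_hom (ι : F₀ →+* F) (M : Matrix (Fin n) (Fin n) F₀) (v : Fin n → F₀) :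
    (fun i => ι ((M *ᵥ v) i)) = (M.map ι) *ᵥ (fun i => ι (v i)) := by
  funext i
  exact RingHom.map_mulVec ι M v i

set_option maxHeartbeats 1600000 in
/-- no semilinear automorphism centralises the image of the rational orthogonal group, up to the
Galois group of the extension -/
theorem hS4_orth_rel [Fintype F] [Fintype F₀] (r : ℕ) [Fact r.Prime] [CharP F r] (hn : 3 ≤ n)
    (h2 : (2 : F₀) ≠ 0) (ι : F₀ →+* F) (M : GL (Fin n) F₀) (hM : (M.1)ᵀ = M.1)
    (h : GL (Fin n) F) (τ : RingAut F)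
    (hfix : ∀ s ∈ Sform M.1 (1 : RingAut F₀),
      conjA h (fieldA τ (pi (Matrix.SpecialLinearGroup.map ι s))) =
        pi (Matrix.SpecialLinearGroup.map ι s)) :
    (∀ b, τ (ι b) = ι b) ∧ conjAHom h = 1 := by
  classical
  have hn2 : 2 ≤ n := by omega
  haveI : CharP F₀ r := (RingHom.charP_iff ι ι.injective r).2 inferInstance
  obtain ⟨Q, hQdef⟩ : ∃ Q : QuadraticForm F₀ (Fin n → F₀), Q = qM h2 M hM := ⟨_, rfl⟩
  have hQ : (polarBilin Q).Nondegenerate := by rw [hQdef]; exact qM_nondeg h2 M hM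
  obtain ⟨T, hTdef⟩ : ∃ T : (Fin n → F) → (Fin n → F),
      T = fun x => (h : Matrix (Fin n) (Fin n) F) *ᵥ (fun i => τ (x i)) := ⟨_, rfl⟩
  have hTadd : ∀ x y, T (x + y) = T x + T y := by
    intro x y
    rw [hTdef]
    show (h : Matrix (Fin n) (Fin n) F) *ᵥ (fun i => τ ((x + y) i)) = _
    have h1 : (fun i => τ ((x + y) i)) = (fun i => τ (x i)) + (fun i => τ (y i)) := by
      funext i
      simp
    rw [h1, Matrix.mulVec_add]
  -- commutation with the unipotent isometries
  have hcomm : ∀ s ∈ Sform M.1 (1 : RingAut F₀), s ^ r = 1 → ∀ x : Fin n → F,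
      T (((s : Matrix (Fin n) (Fin n) F₀).map ι) *ᵥ x) =
        ((s : Matrix (Fin n) (Fin n) F₀).map ι) *ᵥ T x := by
    intro s hs hsr x
    have hsr' : (Matrix.SpecialLinearGroup.map ι s) ^ r = 1 := by
      rw [← map_pow, hsr, map_one]
    have hfix' := fix_unipotent r (by omega) h τ _ hsr' (hfix s hs)
    have h5 := semi_comm_of_fix h τ _ hfix' x
    rw [hTdef]
    exact h5
  -- coordinates over the subfield
  letI : Algebra F₀ F := ι.toAlgebra
  have halg : ∀ (c : F₀) (y : F), c • y = ι c * y := fun c y => Algebra.smul_def c y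
  haveI : Module.Finite F₀ F := Module.Finite.of_finite
  obtain ⟨d, b⟩ : ∃ d : ℕ, Nonempty (Module.Basis (Fin d) F₀ F) :=
    ⟨_, ⟨Module.finBasis F₀ F⟩⟩
  obtain ⟨b⟩ := b
  obtain ⟨I, hIdef⟩ : ∃ I : (Fin n → F₀) → (Fin n → F), I = fun v j => ι (v j) := ⟨_, rfl⟩
  have hIadd : ∀ x y, I (x + y) = I x + I y := by
    intro x y
    rw [hIdef]
    funext j
    simp
  have hcoord : ∀ i : Fin d, ∃ Ti : (Fin n → F₀) →+ (Fin n → F₀),
      ∀ v j, Ti v j = b.repr (T (I v) j) i := by
    intro i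
    refine ⟨AddMonoidHom.mk' (fun v j => b.repr (T (I v) j) i) ?_, fun v j => rfl⟩
    intro x y
    funext j
    rw [hIadd, hTadd]
    simp
  choose Tc hTc using hcoord
  have hTcomm : ∀ i : Fin d, CommEich Q (Tc i) := by
    intro i e a c he ha hae x
    obtain ⟨dd, hd, hdx⟩ := exists_fourth_eq_eich Q h2 ha he hae c
    rw [hQdef] at hd
    obtain ⟨s2, hs2S, hs2⟩ := exists_sl_sq h2 M hM dd hd
    have hd4 : dd * dd * (dd * dd) = dd ^ 4 := by
      simp only [pow_succ, pow_zero, one_mul, mul_assoc]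
    have hs4 : ∀ y, ((s2 * s2 : SpecialLinearGroup (Fin n) F₀) : Matrix (Fin n) (Fin n) F₀) *ᵥ y =
        eich Q e a c y := by
      intro y
      rw [← slLE_apply, map_mul, hs2, hd4, hdx]
    have key : ∀ (k : ℕ) (y : Fin n → F₀),
        ((slLE (s2 * s2 : SpecialLinearGroup (Fin n) F₀)) ^ k) y = eich Q e a (k • c) y := by
      intro k
      induction k with
      | zero =>
        intro y
        rw [pow_zero, zero_smul, eich_zero]
        rfl
      | succ k ih =>
        intro y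
        rw [pow_succ, LinearEquiv.mul_apply, ih, slLE_apply, hs4, eich_comp Q he hae, succ_nsmul]
    have hsr : (s2 * s2) ^ r = 1 := by
      apply slLE_injective
      rw [map_pow, map_one]
      apply LinearEquiv.ext
      intro y
      rw [key r y]
      have h0 : r • c = 0 := by
        rw [nsmul_eq_mul, CharP.cast_eq_zero F₀ r, zero_mul]
      rw [h0, eich_zero]
      rfl
    have h5 := hcomm _ (Subgroup.mul_mem _ hs2S hs2S) hsr (I x)
    have h6 : I (eich Q e a c x) =
        (((s2 * s2 : SpecialLinearGroup (Fin n) F₀) : Matrix (Fin n) (Fin n) F₀).map ι) *ᵥ I x := by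
      rw [← hs4, hIdef]
      exact map_mulVec_hom ι _ x
    funext j
    rw [hTc, h6, h5, ← hs4]
    -- coordinates of a product with a rational matrix
    rw [Matrix.mulVec, dotProduct, map_sum, Finsupp.coe_finset_sum, Finset.sum_apply,
      Matrix.mulVec, dotProduct]
    apply Finset.sum_congr rfl
    intro l _
    rw [Matrix.map_apply, ← halg, map_smul, Finsupp.smul_apply, smul_eq_mul, hTc]
  have hfr : 3 ≤ finrank F₀ (Fin n → F₀) := by
    rw [Module.finrank_fintype_fun_eq_card, Fintype.card_fin]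
    exact hn
  have hsc : ∀ i : Fin d, ∃ t : F₀, ∀ v, Tc i v = t • v := fun i =>
    scalar_of_commEich Q h2 hQ hfr (Tc i) (hTcomm i)
  choose tc htc using hsc
  obtain ⟨a, hadef⟩ : ∃ a : F, a = ∑ i, ι (tc i) * b i := ⟨_, rfl⟩
  have hTI : ∀ v, T (I v) = a • I v := by
    intro v
    funext j
    have h3 := b.sum_repr (T (I v) j)
    rw [← h3, Pi.smul_apply, smul_eq_mul, hadef, Finset.sum_mul]
    apply Finset.sum_congr rfl
    intro i _
    rw [← hTc, htc, halg, Pi.smul_apply, smul_eq_mul, map_mul, hIdef]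
    ring
  apply scalar_of_par hn2 ι h τ
  intro v hv
  have h1 := hTI v
  rw [hTdef, hIdef] at h1
  refine ⟨a, ?_, h1⟩
  intro ha0
  rw [ha0, zero_smul] at h1
  apply hv
  have h3 := congrArg (fun w => ((h⁻¹ : GL (Fin n) F) : Matrix (Fin n) (Fin n) F) *ᵥ w) h1
  simp only [Matrix.mulVec_mulVec, gl_inv_mul, Matrix.one_mulVec, Matrix.mulVec_zero] at h3
  funext i
  have h4 := congrFun h3 i
  have h5 : τ (ι (v i)) = 0 := h4
  rw [map_eq_zero, map_eq_zero] at h5
  exact h5

end orth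

end Cfsg.Agent.Lib.Helper18.PSUBal
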