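import Mathlib
import Cfsg.Agent.Lib.Helper18.PSUBalI

/-!
# Local balance for `PSU_n(q)`: graph involutions, the fixed points as an isometry group
(helper18)
-/

set_option autoImplicit false
set_option linter.unusedSectionVars false

namespace Cfsg.Agent.Lib.Helper18.PSUBal

open Matrix Cfsg Cfsg.Agent.Lib.Helper18.PSLnAut Cfsg.Agent.Lib.Helper18.PSLnFld
  Cfsg.Agent.Lib.Helper25.PSUG Cfsg.Agent.Lib.Helper18.PSUOut Cfsg.Agent.Lib.Helper18.PSUFld
  Cfsg.Agent.Lib.Helper14 Cfsg.Agent.Lib.Helper18.PSLnBal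
  Cfsg.Agent.Lib.Helper18.OrthBal
  Cfsg.Agent.Lib.Helper25 Cfsg.Agent.Lib.Helper25.SLRoot Cfsg.Agent.Lib.Helper25.InvTrans

section emb

variable {n : ℕ} {F : Type*} [Field F] {F₀ : Type*} [Field F₀] {q : ℕ}

/-- the embedding `s₀ ↦ k ι(s₀) k⁻¹` of the isometry group of the descended form -/
noncomputable def Egr (ι : F₀ →+* F) (k : GL (Fin n) F) (A₀ : Matrix (Fin n) (Fin n) F₀)
    (hE : ∀ s₀ ∈ Sform A₀ (1 : RingAut F₀),
      conjMat k (Matrix.SpecialLinearGroup.map ι s₀) ∈ Cfsg.SU n F q) :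
    ↥(Sform A₀ (1 : RingAut F₀)) →* ↥(Cfsg.SU n F q) where
  toFun s := ⟨conjMat k (Matrix.SpecialLinearGroup.map ι s.1), hE s.1 s.2⟩
  map_one' := by
    apply Subtype.ext
    show conjMat k (Matrix.SpecialLinearGroup.map ι (1 : SpecialLinearGroup (Fin n) F₀)) = 1
    rw [map_one]
    exact map_one (conjS k)
  map_mul' a b := by
    apply Subtype.ext
    show conjMat k (Matrix.SpecialLinearGroup.map ι (a.1 * b.1)) =
      conjMat k (Matrix.SpecialLinearGroup.map ι a.1) *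
        conjMat k (Matrix.SpecialLinearGroup.map ι b.1)
    rw [map_mul, conjMat_mul]

theorem Egr_coe (ι : F₀ →+* F) (k : GL (Fin n) F) (A₀ : Matrix (Fin n) (Fin n) F₀)
    (hE : ∀ s₀ ∈ Sform A₀ (1 : RingAut F₀),
      conjMat k (Matrix.SpecialLinearGroup.map ι s₀) ∈ Cfsg.SU n F q)
    (s : ↥(Sform A₀ (1 : RingAut F₀))) :
    (Egr ι k A₀ hE s).1 = conjMat k (Matrix.SpecialLinearGroup.map ι s.1) := rfl

theorem toGL_fieldS (ρ : RingAut F) (s : SpecialLinearGroup (Fin n) F) :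
    Matrix.SpecialLinearGroup.toGL (fieldS ρ s) = glF ρ (Matrix.SpecialLinearGroup.toGL s) := by
  apply Units.ext
  rfl

/-- the image of the embedding consists of exact fixed points of the graph involution -/
theorem Egr_fixed (ρ : RingAut F) (ι : F₀ →+* F) (hι' : ∀ b, ρ (ι b) = ι b) (k : GL (Fin n) F)
    (A₀ : Matrix (Fin n) (Fin n) F₀)
    (hE : ∀ s₀ ∈ Sform A₀ (1 : RingAut F₀),
      conjMat k (Matrix.SpecialLinearGroup.map ι s₀) ∈ Cfsg.SU n F q)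
    (g : ↥(GUs n F q)) (hg : g.1 = k * (glF ρ k)⁻¹) (s : ↥(Sform A₀ (1 : RingAut F₀))) :
    conjMatU g (fieldSU ρ (Egr ι k A₀ hE s)) = Egr ι k A₀ hE s := by
  apply Subtype.ext
  apply Matrix.SpecialLinearGroup.toGL_injective
  show Matrix.SpecialLinearGroup.toGL (conjMat g.1 (fieldS ρ (Egr ι k A₀ hE s).1)) =
    Matrix.SpecialLinearGroup.toGL (Egr ι k A₀ hE s).1
  rw [toGL_conjMat, toGL_fieldS, Egr_coe, toGL_conjMat, ← glMap_toGL, hg, map_mul, map_mul,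
    map_inv, glF_glMap ρ ι hι']
  group

/-- descent of a matrix fixed by the involution -/
theorem exists_map_eq_of_fixed (ρ : RingAut F) (ι : F₀ →+* F)
    (hι : ∀ a : F, ρ a = a ↔ a ∈ Set.range ι) (Y : Matrix (Fin n) (Fin n) F)
    (hY : Y.map ρ = Y) : ∃ Y₀ : Matrix (Fin n) (Fin n) F₀, Y₀.map ι = Y := by
  have h1 : ∀ i j, ∃ b : F₀, ι b = Y i j := by
    intro i j
    have h2 := congrFun (congrFun hY i) j
    rw [Matrix.map_apply] at h2
    exact (hι _).1 h2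
  choose Y₀ hY₀ using h1
  refine ⟨Matrix.of Y₀, ?_⟩
  ext i j
  rw [Matrix.map_apply, Matrix.of_apply, hY₀]

/-- every exact fixed point of the graph involution lies in the image of the embedding -/
theorem exists_Egr_eq (ρ : RingAut F) (hρ : ∀ a, ρ a = a ^ q) (ι : F₀ →+* F)
    (hι : ∀ a : F, ρ a = a ↔ a ∈ Set.range ι) (k : GL (Fin n) F) (t : F) (ht : t ≠ 0)
    (A₀ : Matrix (Fin n) (Fin n) F₀) (hk : (k.1)ᵀ * (k.1).map ρ = t • A₀.map ι)
    (hE : ∀ s₀ ∈ Sform A₀ (1 : RingAut F₀),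
      conjMat k (Matrix.SpecialLinearGroup.map ι s₀) ∈ Cfsg.SU n F q)
    (g : ↥(GUs n F q)) (hg : g.1 = k * (glF ρ k)⁻¹) (s : ↥(Cfsg.SU n F q))
    (hs : conjMatU g (fieldSU ρ s) = s) :
    ∃ s₀ : ↥(Sform A₀ (1 : RingAut F₀)), Egr ι k A₀ hE s₀ = s := by
  have hι' : ∀ b, ρ (ι b) = ι b := fun b => (hι _).2 ⟨b, rfl⟩
  obtain ⟨Y, hYdef⟩ : ∃ Y : GL (Fin n) F, Y = k⁻¹ * Matrix.SpecialLinearGroup.toGL s.1 * k :=
    ⟨_, rfl⟩
  have h1 : g.1 * glF ρ (Matrix.SpecialLinearGroup.toGL s.1) * g.1⁻¹ =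
      Matrix.SpecialLinearGroup.toGL s.1 := by
    have h2 : Matrix.SpecialLinearGroup.toGL (conjMatU g (fieldSU ρ s)).1 =
        Matrix.SpecialLinearGroup.toGL s.1 := by rw [hs]
    have h3 : Matrix.SpecialLinearGroup.toGL (conjMatU g (fieldSU ρ s)).1 =
        Matrix.SpecialLinearGroup.toGL (conjMat g.1 (fieldS ρ s.1)) := rfl
    rw [h3, toGL_conjMat, toGL_fieldS] at h2
    exact h2
  have hYfix : glF ρ Y = Y := by
    have h3 : glF ρ (Matrix.SpecialLinearGroup.toGL s.1) =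
        g.1⁻¹ * Matrix.SpecialLinearGroup.toGL s.1 * g.1 := by
      have h4 : g.1⁻¹ * (g.1 * glF ρ (Matrix.SpecialLinearGroup.toGL s.1) * g.1⁻¹) * g.1 =
          glF ρ (Matrix.SpecialLinearGroup.toGL s.1) := by group
      rw [← h4, h1]
    rw [hYdef, map_mul, map_mul, map_inv, h3, hg]
    group
  have hYfix' : (Y.1 : Matrix (Fin n) (Fin n) F).map ρ = Y.1 := by
    have := congrArg (fun x : GL (Fin n) F => (x.1 : Matrix (Fin n) (Fin n) F)) hYfix
    exact this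
  obtain ⟨Y₀, hY₀⟩ := exists_map_eq_of_fixed ρ ι hι Y.1 hYfix'
  have hdetY : (Y.1 : Matrix (Fin n) (Fin n) F).det = 1 := by
    rw [hYdef, Units.val_mul, Units.val_mul, Matrix.det_mul, Matrix.det_mul]
    have h4 : ((Matrix.SpecialLinearGroup.toGL s.1 : GL (Fin n) F).1 :
        Matrix (Fin n) (Fin n) F).det = 1 := s.1.2
    rw [h4, mul_one, ← Matrix.det_mul, gl_inv_mul, Matrix.det_one]
  have hdet₀ : Y₀.det = 1 := by
    apply ι.injective
    rw [map_one, RingHom.map_det, RingHom.mapMatrix_apply, hY₀, hdetY]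
  obtain ⟨s₀, hs₀⟩ : ∃ s₀ : SpecialLinearGroup (Fin n) F₀,
      (s₀ : Matrix (Fin n) (Fin n) F₀) = Y₀ := ⟨⟨Y₀, hdet₀⟩, rfl⟩
  have hconj : conjMat k (Matrix.SpecialLinearGroup.map ι s₀) = s.1 := by
    apply Matrix.SpecialLinearGroup.toGL_injective
    rw [toGL_conjMat, ← glMap_toGL]
    have h5 : glMap ι (Matrix.SpecialLinearGroup.toGL s₀) = Y := by
      apply Units.ext
      rw [glMap_coe]
      show (s₀ : Matrix (Fin n) (Fin n) F₀).map ι = _
      rw [hs₀, hY₀]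
    rw [h5, hYdef]
    group
  have hmem : s₀ ∈ Sform A₀ (1 : RingAut F₀) := by
    rw [← conjMat_map_mem_SU_iff ρ hρ ι hι' k t ht A₀ hk, hconj]
    exact s.2
  exact ⟨⟨s₀, hmem⟩, Subtype.ext hconj⟩

/-- the image of a rational matrix is a scalar iff the matrix is -/
theorem Egr_scalar_iff (hn : 0 < n) (ι : F₀ →+* F) (k : GL (Fin n) F)
    (A₀ : Matrix (Fin n) (Fin n) F₀)
    (hE : ∀ s₀ ∈ Sform A₀ (1 : RingAut F₀),
      conjMat k (Matrix.SpecialLinearGroup.map ι s₀) ∈ Cfsg.SU n F q)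
    (s : ↥(Sform A₀ (1 : RingAut F₀))) :
    (∃ c : F, ((Egr ι k A₀ hE s).1 : Matrix (Fin n) (Fin n) F) =
      c • (1 : Matrix (Fin n) (Fin n) F)) ↔
    ∃ c₀ : F₀, (s.1 : Matrix (Fin n) (Fin n) F₀) = c₀ • (1 : Matrix (Fin n) (Fin n) F₀) := by
  have key : (∃ c : F, ((Egr ι k A₀ hE s).1 : Matrix (Fin n) (Fin n) F) =
      c • (1 : Matrix (Fin n) (Fin n) F)) ↔
      ∃ c : F, (s.1 : Matrix (Fin n) (Fin n) F₀).map ι = c • (1 : Matrix (Fin n) (Fin n) F) := by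
    have e1 : ((Egr ι k A₀ hE s).1 : Matrix (Fin n) (Fin n) F) =
        (k.1 : Matrix (Fin n) (Fin n) F) * (s.1 : Matrix (Fin n) (Fin n) F₀).map ι *
          ((k⁻¹ : GL (Fin n) F).1 : Matrix (Fin n) (Fin n) F) := rfl
    constructor
    · rintro ⟨c, hc⟩
      refine ⟨c, ?_⟩
      rw [e1] at hc
      calc (s.1 : Matrix (Fin n) (Fin n) F₀).map ι
          = ((k⁻¹ : GL (Fin n) F).1 * k.1) * (s.1 : Matrix (Fin n) (Fin n) F₀).map ι *
            ((k⁻¹ : GL (Fin n) F).1 * k.1) := by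
            rw [gl_inv_mul, Matrix.one_mul, Matrix.mul_one]
        _ = (k⁻¹ : GL (Fin n) F).1 * ((k.1 : Matrix (Fin n) (Fin n) F) *
            (s.1 : Matrix (Fin n) (Fin n) F₀).map ι * (k⁻¹ : GL (Fin n) F).1) * k.1 := by
            simp only [Matrix.mul_assoc]
        _ = _ := by
            rw [hc, Matrix.mul_smul, Matrix.mul_one, Matrix.smul_mul, gl_inv_mul]
    · rintro ⟨c, hc⟩
      refine ⟨c, ?_⟩
      rw [e1, hc, Matrix.mul_smul, Matrix.mul_one, Matrix.smul_mul, gl_mul_inv]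
  rw [key]
  constructor
  · rintro ⟨c, hc⟩
    have i0 : Fin n := ⟨0, hn⟩
    refine ⟨(s.1 : Matrix (Fin n) (Fin n) F₀) i0 i0, ?_⟩
    apply map_injective' ι
    rw [hc]
    have h2 := congrFun (congrFun hc i0) i0
    rw [Matrix.map_apply, Matrix.smul_apply, Matrix.one_apply_eq, smul_eq_mul, mul_one] at h2
    rw [map_smul_one, h2]
  · rintro ⟨c₀, hc₀⟩
    refine ⟨ι c₀, ?_⟩
    rw [hc₀, map_smul_one]

end emb

end Cfsg.Agent.Lib.Helper18.PSUBal
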