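import Mathlib
import Cfsg.Agent.Lib.Helper18.PSUBalJ

/-!
# Local balance for `PSU_n(q)`: graph involutions, the abstract reduction (helper18)
-/

set_option autoImplicit false
set_option linter.unusedSectionVars false

namespace Cfsg.Agent.Lib.Helper18.PSUBal

open Matrix Cfsg Cfsg.Agent.Lib.Helper18.PSLnAut Cfsg.Agent.Lib.Helper18.PSLnFld
  Cfsg.Agent.Lib.Helper25.PSUG Cfsg.Agent.Lib.Helper18.PSUOut Cfsg.Agent.Lib.Helper18.PSUFld
  Cfsg.Agent.Lib.Helper14 Cfsg.Agent.Lib.Helper18.PSLnBal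
  Cfsg.Agent.Lib.Helper18.OrthBal
  Cfsg.Agent.Lib.Helper25 Cfsg.Agent.Lib.Helper25.SLRoot Cfsg.Agent.Lib.Helper25.InvTrans

section aux

variable {G Y Z : Type*} [Group G] [Group Y] [Group Z]

/-- homomorphisms with the same kernel have isomorphic ranges -/
theorem range_equiv_of_ker_eq (f : G →* Y) (g : G →* Z) (h : f.ker = g.ker) :
    Nonempty (↥f.range ≃* ↥g.range) :=
  ⟨(QuotientGroup.quotientKerEquivRange f).symm.trans
    ((QuotientGroup.quotientMulEquivOfEq h).trans (QuotientGroup.quotientKerEquivRange g))⟩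

end aux

section scal

variable {n : ℕ} {F : Type*} [Field F] [Fintype F] {q : ℕ}

/-- a similitude acting trivially on `PSL_n` acts trivially on `PSU_n` -/
theorem conjUHom_eq_one_of_conjAHom (hF : Fintype.card F = q ^ 2) (hn : 3 ≤ n)
    (h32 : ¬ (n = 3 ∧ q = 2)) (g : ↥(GUs n F q)) (h2 : conjAHom g.1 = 1) :
    (conjUHom g : MulAut (Cfsg.PSU n F q)) = 1 := by
  rw [← MonoidHom.mem_ker, ker_conjUHom hF hn h32, Subgroup.mem_subgroupOf,
    Cfsg.Geo.mem_scalars_iff]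
  have h3 : g.1 ∈ (conjAHom (n := n) (F := F)).ker := h2
  rw [ker_conjAHom (by omega), Matrix.GeneralLinearGroup.mem_center_iff_val_mem_range_scalar]
    at h3
  obtain ⟨μ, hμ⟩ := h3
  have hμ0 : μ ≠ 0 := by
    intro h0
    have hdet : (g.1 : Matrix (Fin n) (Fin n) F).det ≠ 0 :=
      Matrix.GeneralLinearGroup.det_ne_zero g.1
    apply hdet
    haveI : Nonempty (Fin n) := ⟨⟨0, by omega⟩⟩
    rw [← hμ, h0, map_zero, Matrix.det_zero]
  refine ⟨Units.mk0 μ hμ0, ?_⟩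
  rw [← hμ, Units.val_mk0]
  ext i j
  simp [Matrix.scalar_apply, Matrix.smul_apply, Matrix.one_apply, Matrix.diagonal_apply]

/-- scalar matrices in the special unitary group are central -/
theorem mem_center_SU_of_scalar (s : ↥(Cfsg.SU n F q)) (c : F)
    (hc : (s.1 : Matrix (Fin n) (Fin n) F) = c • (1 : Matrix (Fin n) (Fin n) F)) :
    s ∈ Subgroup.center ↥(Cfsg.SU n F q) := by
  rw [Subgroup.mem_center_iff]
  intro x
  apply Subtype.ext
  apply Subtype.ext
  show (x.1 : Matrix (Fin n) (Fin n) F) * (s.1 : Matrix (Fin n) (Fin n) F) =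
    (s.1 : Matrix (Fin n) (Fin n) F) * (x.1 : Matrix (Fin n) (Fin n) F)
  rw [hc, Matrix.mul_smul, Matrix.smul_mul, Matrix.mul_one, Matrix.one_mul]

end scal

section graph

variable {n : ℕ} {F : Type*} [Field F] [Fintype F] {F₀ : Type*} [Field F₀] {q : ℕ}

set_option maxHeartbeats 3200000 in
/-- **local balance for graph involutions of `PSU_n(q)`, abstract form** -/
theorem psu_graph_core (hF : Fintype.card F = q ^ 2) (hn : 3 ≤ n) (h32 : ¬ (n = 3 ∧ q = 2))
    (ρ : RingAut F) (hρ : ∀ a, ρ a = a ^ q) (hρo : orderOf ρ = 2)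
    (ι : F₀ →+* F) (hι : ∀ a : F, ρ a = a ↔ a ∈ Set.range ι)
    (k : GL (Fin n) F) (t : F) (ht : t ≠ 0) (A₀ : Matrix (Fin n) (Fin n) F₀)
    (hk : (k.1)ᵀ * (k.1).map ρ = t • A₀.map ι)
    (g : ↥(GUs n F q)) (hg : g.1 = k * (glF ρ k)⁻¹)
    (H1 : Cfsg.pPrimeCore 2
      ↥((Sform A₀ (1 : RingAut F₀)).map (conjPi (n := n) (F := F₀))) = ⊥)
    (H3 : ∀ (h' : GL (Fin n) F) (τ : RingAut F),
      (∀ s₀ ∈ Sform A₀ (1 : RingAut F₀),
        conjA h' (fieldA τ (pi (Matrix.SpecialLinearGroup.map ι s₀))) =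
          pi (Matrix.SpecialLinearGroup.map ι s₀)) →
      (∀ b, τ (ι b) = ι b) ∧ conjAHom h' = 1)
    (A : Subgroup (MulAut (Cfsg.PSU n F q))) (hinn : Cfsg.Inn (Cfsg.PSU n F q) ≤ A) :
    Cfsg.pPrimeCore 2 ↥(A ⊓ Subgroup.centralizer
        {(conjUHom g * fieldUHom ρ : MulAut (Cfsg.PSU n F q))}) = ⊥ ∧
      2 ∣ Nat.card ↥(Cfsg.Inn (Cfsg.PSU n F q) ⊓ Subgroup.centralizer
        {(conjUHom g * fieldUHom ρ : MulAut (Cfsg.PSU n F q))}) := by
  classical
  have hn2 : 2 ≤ n := by omega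
  haveI : Fact (Nat.Prime 2) := ⟨Nat.prime_two⟩
  have hfin : Finite (MulAut (Cfsg.PSU n F q)) := finite_aut_PSU
  have hZ := center_PSU_eq_bot (n := n) hF hn h32
  have hι' : ∀ b, ρ (ι b) = ι b := fun b => (hι _).2 ⟨b, rfl⟩
  have hE : ∀ s₀ ∈ Sform A₀ (1 : RingAut F₀),
      conjMat k (Matrix.SpecialLinearGroup.map ι s₀) ∈ Cfsg.SU n F q :=
    fun s₀ hs₀ => (conjMat_map_mem_SU_iff ρ hρ ι hι' k t ht A₀ hk s₀).2 hs₀
  obtain ⟨β, hβ⟩ : ∃ β : MulAut (Cfsg.PSU n F q), β = conjUHom g * fieldUHom ρ := ⟨_, rfl⟩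
  rw [← hβ]
  obtain ⟨E, hEdef⟩ : ∃ E : ↥(Sform A₀ (1 : RingAut F₀)) →* ↥(Cfsg.SU n F q),
      E = Egr ι k A₀ hE := ⟨_, rfl⟩
  have hEcoe : ∀ s, (E s).1 = conjMat k (Matrix.SpecialLinearGroup.map ι s.1) := by
    intro s
    rw [hEdef]
    rfl
  obtain ⟨f₀, hf₀⟩ : ∃ f₀ : ↥(Sform A₀ (1 : RingAut F₀)) →* MulAut (Cfsg.PSU n F q),
      ∀ s, f₀ s = MulAut.conj (piU (E s)) :=
    ⟨((MulAut.conj).comp piU).comp E, fun s => rfl⟩
  obtain ⟨θ, hθ⟩ : ∃ θ : ↥(Cfsg.SU n F q) ≃* ↥(Cfsg.SU n F q),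
      ∀ s, θ s = conjMatU g (fieldSU ρ s) :=
    ⟨(fieldSU ρ).trans (conjSU g), fun s => rfl⟩
  have hβpi : ∀ s : ↥(Cfsg.SU n F q), β (piU s) = piU (θ s) := by
    intro s
    rw [hβ, hθ]
    rfl
  have hcommβ : ∀ s : ↥(Cfsg.SU n F q),
      MulAut.conj (piU s) ∈ Subgroup.centralizer {β} ↔ β (piU s) = piU s := by
    intro s
    rw [Subgroup.mem_centralizer_iff]
    constructor
    · intro h
      exact (commute_conj_piU_iff hF hn h32 β s).1 (h β rfl)
    · intro h y hy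
      rw [Set.mem_singleton_iff] at hy
      rw [hy]
      exact (commute_conj_piU_iff hF hn h32 β s).2 h
  have hθE : ∀ s, θ (E s) = E s := by
    intro s
    rw [hθ, hEdef]
    exact Egr_fixed ρ ι hι' k A₀ hE g hg s
  have hLC : f₀.range ≤ Cfsg.Inn (Cfsg.PSU n F q) ⊓ Subgroup.centralizer {β} := by
    rintro _ ⟨s, rfl⟩
    rw [hf₀]
    exact ⟨⟨piU (E s), rfl⟩, (hcommβ _).2 (by rw [hβpi, hθE])⟩
  -- the kernel
  have hker : f₀.ker = ((conjPi (n := n) (F := F₀)).comp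
      (Sform A₀ (1 : RingAut F₀)).subtype).ker := by
    ext s
    rw [MonoidHom.mem_ker, MonoidHom.mem_ker, hf₀, MonoidHom.comp_apply, Subgroup.subtype_apply,
      conjPi_eq_one_iff hn2]
    have h1 : MulAut.conj (piU (E s)) = 1 ↔ piU (E s) = 1 := by
      constructor
      · intro h
        exact conj_injective_of_center hZ (h.trans (map_one _).symm)
      · intro h
        rw [h, map_one]
    rw [h1, piU_eq_one_iff]
    have h2 : E s ∈ Subgroup.center ↥(Cfsg.SU n F q) ↔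
        ∃ c : F, ((E s).1 : Matrix (Fin n) (Fin n) F) = c • (1 : Matrix (Fin n) (Fin n) F) :=
      ⟨fun h => center_SU_scalar hF hn2 _ h, fun ⟨c, hc⟩ => mem_center_SU_of_scalar _ c hc⟩
    rw [h2, hEdef, Egr_scalar_iff (by omega)]
    constructor
    · rintro ⟨c, hc⟩
      refine ⟨c, ?_, hc⟩
      have hdet : (s.1 : Matrix (Fin n) (Fin n) F₀).det = 1 := s.1.2
      rw [hc, Matrix.det_smul, Matrix.det_one, mul_one, Fintype.card_fin] at hdet
      exact hdet
    · rintro ⟨c, -, hc⟩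
      exact ⟨c, hc⟩
  have hrange : ((conjPi (n := n) (F := F₀)).comp (Sform A₀ (1 : RingAut F₀)).subtype).range =
      (Sform A₀ (1 : RingAut F₀)).map conjPi := by
    rw [← MonoidHom.map_range, Subgroup.range_subtype]
  have hcoreL : Cfsg.pPrimeCore 2 ↥f₀.range = ⊥ := by
    obtain ⟨e⟩ := range_equiv_of_ker_eq f₀ _ hker
    rw [pPrimeCore_eq_bot_iff_of_equiv 2 e, hrange]
    exact H1
  have hLs := hLs_of_core 2 f₀.range hcoreL
  -- the subgroup is not trivial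
  have hLne : f₀.range ≠ ⊥ := by
    intro hbot
    have hall : ∀ s₀ ∈ Sform A₀ (1 : RingAut F₀),
        pi (Matrix.SpecialLinearGroup.map ι s₀) = 1 := by
      intro s₀ hs₀
      have h1 : f₀ ⟨s₀, hs₀⟩ ∈ f₀.range := ⟨_, rfl⟩
      rw [hbot, Subgroup.mem_bot, hf₀] at h1
      have h2 := conj_injective_of_center hZ (h1.trans (map_one _).symm)
      have h3 := congrArg (psuToPsl hF hn2) h2
      rw [psuToPsl_piU, map_one, hEcoe, ← conjA_pi] at h3
      exact (MulEquiv.map_eq_one_iff (conjA k)).1 h3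
    let i0 : Fin n := ⟨0, by omega⟩
    let i1 : Fin n := ⟨1, by omega⟩
    have h01 : i0 ≠ i1 := by
      intro h
      have := congrArg Fin.val h
      simp [i0, i1] at this
    have hsne : ∀ i : Fin n, (Pi.single i 1 : Fin n → F) ≠ 0 := by
      intro i h0
      have := congrFun h0 i
      simp at this
    have h0 : (Pi.single i0 1 : Fin n → F) ⬝ᵥ (Pi.single i1 1 : Fin n → F) = 0 := by
      rw [single_dotProduct, one_mul, Pi.single_eq_of_ne h01]
    obtain ⟨-, h4⟩ := H3 (Matrix.SpecialLinearGroup.toGL (tvSL _ _ h0 (1 : F))) 1 (by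
      intro s₀ hs₀
      rw [hall s₀ hs₀, map_one, map_one])
    rw [← conj_pi_eq_conjA] at h4
    have h5 := conj_injective_of_center (center_PSL (F := F) hn2) (h4.trans (map_one _).symm)
    have h6 : pi (tvSL _ _ h0 (1 : F)) = pi (tvSL _ _ h0 (0 : F)) := by
      rw [h5, tvSL_zero, map_one]
    have h7 := tvSL_eq_of_pi_eq hn2 h0 h0 1 0 h6
    rw [tvSL_zero, tvSL_eq_one_iff h0 (hsne i1) (hsne i0)] at h7
    exact one_ne_zero h7
  refine ⟨?_, ?_⟩
  · apply core_trivial_pp 2 (A ⊓ Subgroup.centralizer {β})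
      (Cfsg.Inn (Cfsg.PSU n F q) ⊓ Subgroup.centralizer {β}) f₀.range
      (inf_le_inf_right _ hinn)
      (fun h hh c hcC => Cfsg.Agent.Lib.Helper18.PSpAut.C_normal' _ _ h hh c hcC) hLC
    · -- the fixed points normalise the subgroup
      rintro c ⟨⟨kk, rfl⟩, hc⟩ _ ⟨s, rfl⟩
      obtain ⟨t', rfl⟩ := piU_surjective kk
      have ht' : β (piU t') = piU t' := (hcommβ t').1 hc
      rw [hβpi] at ht'
      have hz : t'⁻¹ * θ t' ∈ Subgroup.center ↥(Cfsg.SU n F q) := by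
        rw [← piU_eq_one_iff, map_mul, map_inv, ht', inv_mul_cancel]
      have hu : θ (t' * E s * t'⁻¹) = t' * E s * t'⁻¹ := by
        rw [map_mul, map_mul, map_inv, hθE]
        have h1 : θ t' = t' * (t'⁻¹ * θ t') := by group
        have h2 := (Subgroup.mem_center_iff.1 hz) (E s)
        have h3 : θ t' * E s * (θ t')⁻¹ = t' * ((t'⁻¹ * θ t') * E s * (t'⁻¹ * θ t')⁻¹) * t'⁻¹ := by
          group
        rw [h3, ← h2, mul_inv_cancel_right]
      rw [hθ] at hu
      obtain ⟨s', hs'⟩ := exists_Egr_eq ρ hρ ι hι k t ht A₀ hk hE g hg _ hu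
      refine ⟨s', ?_⟩
      rw [hf₀, hf₀, hEdef, hs', map_mul, map_mul, map_inv, map_mul, map_mul, map_inv, ← hEdef]
    · exact hLs
    · intro x _ hxk hx
      obtain ⟨j, hj, hxj⟩ := hxk
      have hodd : Odd j := Nat.Coprime.odd_of_right hj
      obtain ⟨_, ⟨h, rfl⟩, τ, rfl⟩ := exists_conjU_mul_fieldU hF hn h32 x
      obtain ⟨Φ, hΦ1, hΦ2⟩ := exists_autHomU (n := n) hF hn h32
      have hτj : τ ^ j = 1 := by
        have h2 := congrArg Φ hxj
        have h3 : Φ (conjUHom h) = 1 := by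
          rw [← MonoidHom.mem_ker, hΦ2]
          exact ⟨h, rfl⟩
        rw [map_pow, map_mul, h3, hΦ1, one_mul, map_one] at h2
        exact h2
      have hfixall : ∀ s, conjU h (fieldU τ (piU (E s))) = piU (E s) := by
        intro s
        have h1 := hx (f₀ s) ⟨s, rfl⟩
        rw [hf₀, commute_conj_piU_iff hF hn h32] at h1
        exact h1
      obtain ⟨h', hh'⟩ : ∃ h' : GL (Fin n) F, h' = k⁻¹ * h.1 * glF τ k := ⟨_, rfl⟩
      have hH3 : ∀ s₀ ∈ Sform A₀ (1 : RingAut F₀),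
          conjA h' (fieldA τ (pi (Matrix.SpecialLinearGroup.map ι s₀))) =
            pi (Matrix.SpecialLinearGroup.map ι s₀) := by
        intro s₀ hs₀
        have h1 := psl_fix_of_psu_fix hF hn2 h τ _ (hfixall ⟨s₀, hs₀⟩)
        rw [hEcoe, ← conjA_pi, fieldA_conjA] at h1
        rw [hh', conjA_mul, conjA_mul]
        have h2 : conjA (glF τ k) (fieldA τ (pi (Matrix.SpecialLinearGroup.map ι s₀))) =
            conjA (Matrix.GeneralLinearGroup.map ((τ : F ≃+* F) : F →+* F) k)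
              (fieldA τ (pi (Matrix.SpecialLinearGroup.map ι s₀))) := rfl
        rw [h2, h1, ← conjA_mul, inv_mul_cancel, conjA_one]
      obtain ⟨hτι, hh'1⟩ := H3 h' τ hH3
      have hτz : τ ∈ Subgroup.zpowers ρ := by
        apply mem_zpowers_of_fix
        intro a ha
        obtain ⟨b, rfl⟩ := (hι a).1 ha
        exact hτι b
      have hτ1 : τ = 1 := by
        obtain ⟨i, hi⟩ := Subgroup.mem_zpowers_iff.1 hτz
        have hρ2 : ρ ^ 2 = 1 := by rw [← hρo]; exact pow_orderOf_eq_one ρ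
        have hτ2 : τ ^ 2 = 1 := by
          rw [← hi, ← zpow_natCast, ← _root_.zpow_mul, mul_comm, _root_.zpow_mul, zpow_natCast,
            hρ2, _root_.one_zpow]
        have h7 : orderOf τ ∣ Nat.gcd 2 j :=
          Nat.dvd_gcd (orderOf_dvd_of_pow_eq_one hτ2) (orderOf_dvd_of_pow_eq_one hτj)
        have h8 : Nat.gcd 2 j = 1 := Nat.coprime_two_left.2 hodd
        rw [h8] at h7
        exact orderOf_eq_one_iff.1 (Nat.dvd_one.1 h7)
      rw [hτ1, glF_one] at hh'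
      have h9 : conjAHom h.1 = conjAHom k * conjAHom h' * (conjAHom k)⁻¹ := by
        rw [hh', map_mul, map_mul, map_inv]
        group
      rw [hh'1, mul_one, mul_inv_cancel] at h9
      rw [conjUHom_eq_one_of_conjAHom hF hn h32 h h9, hτ1, map_one, mul_one]
  · have h1 := hLs f₀.range le_rfl
      (fun l hl m hm => f₀.range.mul_mem (f₀.range.mul_mem hl hm) (f₀.range.inv_mem hl)) hLne
    exact dvd_trans h1 (Subgroup.card_dvd_of_le hLC)

end graph

end Cfsg.Agent.Lib.Helper18.PSUBal
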