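import Mathlib
import Cfsg.Agent.Lib.Helper18.PSUBalK

/-!
# Local balance for `PSU_n(q)`: graph involutions of orthogonal and symplectic type (helper18)
-/

set_option autoImplicit false
set_option linter.unusedSectionVars false

namespace Cfsg.Agent.Lib.Helper18.PSUBal

open Matrix Cfsg Cfsg.Agent.Lib.Helper18.PSLnAut Cfsg.Agent.Lib.Helper18.PSLnFld
  Cfsg.Agent.Lib.Helper25.PSUG Cfsg.Agent.Lib.Helper18.PSUOut Cfsg.Agent.Lib.Helper18.PSUFld
  Cfsg.Agent.Lib.Helper14 Cfsg.Agent.Lib.Helper18.PSLnBal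
  Cfsg.Agent.Lib.Helper18.OrthBal
  Cfsg.Agent.Lib.Helper25 Cfsg.Agent.Lib.Helper25.SLRoot Cfsg.Agent.Lib.Helper25.InvTrans
  Cfsg.Agent.Lib.Helper25.GraphInv

section core

variable {Y : Type*} [Group Y]

/-- a group all of whose nontrivial normal subgroups have order divisible by `p` has trivial
`p'`-core -/
theorem core_eq_bot_of_hLs [Finite Y] (p : ℕ) [Fact p.Prime] (L : Subgroup Y)
    (hLs : ∀ N : Subgroup Y, N ≤ L → (∀ l ∈ L, ∀ n ∈ N, l * n * l⁻¹ ∈ N) → N ≠ ⊥ →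
      p ∣ Nat.card ↥N) : Cfsg.pPrimeCore p ↥L = ⊥ := by
  have hnorm : (Cfsg.pPrimeCore p ↥L).Normal := inferInstance
  have hcop := Cfsg.Agent.Lib.Helper12.pPrimeCore_coprime (X := ↥L) p
  set X : Subgroup Y := (Cfsg.pPrimeCore p ↥L).map L.subtype with hX
  have hXcard : Nat.card ↥X = Nat.card ↥(Cfsg.pPrimeCore p ↥L) :=
    Subgroup.card_map_of_injective L.subtype_injective
  have hXL : X ≤ L := by
    rintro _ ⟨x, -, rfl⟩
    exact x.2
  have hXn : ∀ l ∈ L, ∀ x ∈ X, l * x * l⁻¹ ∈ X := by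
    rintro l hl _ ⟨x, hx, rfl⟩
    exact ⟨⟨l, hl⟩ * x * ⟨l, hl⟩⁻¹, hnorm.conj_mem x hx ⟨l, hl⟩, rfl⟩
  by_contra hne
  have hXne : X ≠ ⊥ := by
    intro h0
    apply hne
    exact (Subgroup.map_eq_bot_iff_of_injective _ L.subtype_injective).1 h0
  have h1 := hLs X hXL hXn hXne
  rw [hXcard] at h1
  have h3 := Nat.eq_one_of_dvd_coprimes hcop h1 (dvd_refl p)
  exact (Fact.out : p.Prime).one_lt.ne' h3

end core

section graph

variable {n : ℕ} {F : Type*} [Field F] [Fintype F] {F₀ : Type*} [Field F₀] [Fintype F₀] {q : ℕ}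

/-- graph involutions of orthogonal type -/
theorem psu_graph_sym (r : ℕ) [Fact r.Prime] [CharP F r] (hF : Fintype.card F = q ^ 2)
    (hn : 3 ≤ n) (h32 : ¬ (n = 3 ∧ q = 2))
    (ρ : RingAut F) (hρ : ∀ a, ρ a = a ^ q) (hρo : orderOf ρ = 2)
    (ι : F₀ →+* F) (hι : ∀ a : F, ρ a = a ↔ a ∈ Set.range ι) (h2 : (2 : F₀) ≠ 0)
    (k : GL (Fin n) F) (t : F) (ht : t ≠ 0) (A₀ : GL (Fin n) F₀) (hA : (A₀.1)ᵀ = A₀.1)
    (hk : (k.1)ᵀ * (k.1).map ρ = t • (A₀.1).map ι)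
    (g : ↥(GUs n F q)) (hg : g.1 = k * (glF ρ k)⁻¹)
    (A : Subgroup (MulAut (Cfsg.PSU n F q))) (hinn : Cfsg.Inn (Cfsg.PSU n F q) ≤ A) :
    Cfsg.pPrimeCore 2 ↥(A ⊓ Subgroup.centralizer
        {(conjUHom g * fieldUHom ρ : MulAut (Cfsg.PSU n F q))}) = ⊥ ∧
      2 ∣ Nat.card ↥(Cfsg.Inn (Cfsg.PSU n F q) ⊓ Subgroup.centralizer
        {(conjUHom g * fieldUHom ρ : MulAut (Cfsg.PSU n F q))}) :=
  psu_graph_core hF hn h32 ρ hρ hρo ι hι k t ht A₀.1 hk g hg (core_Lorth hn h2 A₀ hA)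
    (fun h' τ hfix => hS4_orth_rel r hn h2 ι A₀ hA h' τ hfix) A hinn

/-- graph involutions of symplectic type -/
theorem psu_graph_skew (hF : Fintype.card F = q ^ 2)
    (hn : 3 ≤ n) (h32 : ¬ (n = 3 ∧ q = 2))
    (ρ : RingAut F) (hρ : ∀ a, ρ a = a ^ q) (hρo : orderOf ρ = 2)
    (ι : F₀ →+* F) (hι : ∀ a : F, ρ a = a ↔ a ∈ Set.range ι) (h2 : (2 : F₀) ≠ 0)
    (k : GL (Fin n) F) (t : F) (ht : t ≠ 0) (A₀ : GL (Fin n) F₀) (hA : (A₀.1)ᵀ = -A₀.1)
    (hk : (k.1)ᵀ * (k.1).map ρ = t • (A₀.1).map ι)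
    (g : ↥(GUs n F q)) (hg : g.1 = k * (glF ρ k)⁻¹)
    (A : Subgroup (MulAut (Cfsg.PSU n F q))) (hinn : Cfsg.Inn (Cfsg.PSU n F q) ≤ A) :
    Cfsg.pPrimeCore 2 ↥(A ⊓ Subgroup.centralizer
        {(conjUHom g * fieldUHom ρ : MulAut (Cfsg.PSU n F q))}) = ⊥ ∧
      2 ∣ Nat.card ↥(Cfsg.Inn (Cfsg.PSU n F q) ⊓ Subgroup.centralizer
        {(conjUHom g * fieldUHom ρ : MulAut (Cfsg.PSU n F q))}) := by
  classical
  haveI : Fact (Nat.Prime 2) := ⟨Nat.prime_two⟩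
  have hι' : ∀ b, ρ (ι b) = ι b := fun b => (hι _).2 ⟨b, rfl⟩
  have heven : Even n := by
    by_contra hodd
    exact not_skew_of_odd h2 (Nat.not_even_iff_odd.1 hodd) A₀ hA
  obtain ⟨m, hm⟩ := heven
  let e : Fin n ≃ Fin m ⊕ Fin m := (finCongr hm).trans finSumFinEquiv.symm
  obtain ⟨c, hc⟩ := exists_congr_of_skew h2 A₀.1 (MJ e F₀) hA (MJ_transpose e)
    (Matrix.GeneralLinearGroup.det_ne_zero A₀) (Matrix.GeneralLinearGroup.det_ne_zero (MJgl e F₀))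
  -- change of the datum
  obtain ⟨k', hk'⟩ : ∃ k' : GL (Fin n) F, k' = k * (glMap ι c)⁻¹ := ⟨_, rfl⟩
  have hkk' : k = k' * glMap ι c := by rw [hk']; group
  have hfixc : ((glMap ι c).1 : Matrix (Fin n) (Fin n) F).map ρ = (glMap ι c).1 := by
    ext a b
    rw [Matrix.map_apply, glMap_coe, Matrix.map_apply]
    exact hι' _
  have hk'gram : (k'.1)ᵀ * (k'.1).map ρ = t • (MJ e F₀).map ι := by
    have h3 : (k.1)ᵀ * (k.1).map ρ = ((glMap ι c).1)ᵀ * ((k'.1)ᵀ * (k'.1).map ρ) * (glMap ι c).1 := by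
      rw [hkk', Units.val_mul, Matrix.transpose_mul, Matrix.map_mul, hfixc]
      simp only [Matrix.mul_assoc]
    have h4 : t • (A₀.1).map ι = ((glMap ι c).1)ᵀ * (t • (MJ e F₀).map ι) * (glMap ι c).1 := by
      rw [← hc, glMap_coe, Matrix.mul_smul, Matrix.smul_mul, Matrix.map_mul, Matrix.map_mul,
        Matrix.transpose_map]
    rw [hk, h4] at h3
    -- cancel the invertible matrix
    have h5 := congrArg (fun X => (((glMap ι c)⁻¹ : GL (Fin n) F).1)ᵀ * X *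
      ((glMap ι c)⁻¹ : GL (Fin n) F).1) h3
    have e1 : ∀ X : Matrix (Fin n) (Fin n) F,
        (((glMap ι c)⁻¹ : GL (Fin n) F).1)ᵀ * (((glMap ι c).1)ᵀ * X * (glMap ι c).1) *
          ((glMap ι c)⁻¹ : GL (Fin n) F).1 = X := by
      intro X
      calc (((glMap ι c)⁻¹ : GL (Fin n) F).1)ᵀ * (((glMap ι c).1)ᵀ * X * (glMap ι c).1) *
            ((glMap ι c)⁻¹ : GL (Fin n) F).1
          = ((((glMap ι c)⁻¹ : GL (Fin n) F).1)ᵀ * ((glMap ι c).1)ᵀ) * X *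
            ((glMap ι c).1 * ((glMap ι c)⁻¹ : GL (Fin n) F).1) := by
            simp only [Matrix.mul_assoc]
        _ = X := by
            rw [tr_inv_mul_tr, gl_mul_inv, Matrix.one_mul, Matrix.mul_one]
    rw [e1, e1] at h5
    exact h5.symm
  have hg' : g.1 = k' * (glF ρ k')⁻¹ := by
    rw [hg, hkk', map_mul, glF_glMap ρ ι hι']
    group
  have hnm : n = m + m := hm
  have h3 : 3 ≤ Fintype.card F₀ := by
    have h1 : 1 < Fintype.card F₀ := Fintype.one_lt_card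
    by_contra hlt
    have h4 : Fintype.card F₀ = 2 := by omega
    have hch : CharP F₀ 2 := charP_of_card_eq_prime h4
    apply h2
    have := CharP.cast_eq_zero F₀ 2
    exact_mod_cast this
  have hfinK : Finite (MulAut (ProjectiveSpecialLinearGroup (Fin n) F₀)) := by
    have : Finite (ProjectiveSpecialLinearGroup (Fin n) F₀) := inferInstance
    exact Finite.of_injective (fun e : MulAut (ProjectiveSpecialLinearGroup (Fin n) F₀) =>
      (e : ProjectiveSpecialLinearGroup (Fin n) F₀ → ProjectiveSpecialLinearGroup (Fin n) F₀))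
      (fun a b h => MulEquiv.ext (congrFun h))
  exact psu_graph_core hF hn h32 ρ hρ hρo ι hι k' t ht (MJ e F₀) hk'gram g hg'
    (core_eq_bot_of_hLs 2 _ (hS3_symp (by omega) h3 e))
    (fun h' τ hfix => hS4_skew_rel (by omega) h2 ι (MJgl e F₀) (MJ_transpose e) h' τ hfix) A hinn

end graph

end Cfsg.Agent.Lib.Helper18.PSUBal
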