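import Mathlib
import Cfsg.Agent.Lib.Helper18.PSUBalL

/-!
# Local balance for `PSU_n(q)`: the criterion for automorphisms of prime order outside the
inner-diagonal group (helper18)
-/

set_option autoImplicit false
set_option linter.unusedSectionVars false

namespace Cfsg.Agent.Lib.Helper18.PSUBal

open Matrix Cfsg Cfsg.Agent.Lib.Helper18.PSLnAut Cfsg.Agent.Lib.Helper18.PSLnFld
  Cfsg.Agent.Lib.Helper25.PSUG Cfsg.Agent.Lib.Helper18.PSUOut Cfsg.Agent.Lib.Helper18.PSUFld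
  Cfsg.Agent.Lib.Helper14 Cfsg.Agent.Lib.Helper18.PSLnBal
  Cfsg.Agent.Lib.Helper18.OrthBal
  Cfsg.Agent.Lib.Helper25 Cfsg.Agent.Lib.Helper25.SLRoot Cfsg.Agent.Lib.Helper25.InvTrans
  Cfsg.Agent.Lib.Helper25.GraphInv Cfsg.Agent.Lib.Helper5.HermBridge

section main

variable {n : ℕ} {F : Type*} [Field F] [Fintype F] {q : ℕ}

/-- the inner-diagonal automorphisms are those induced by similitudes -/
theorem isInnerDiagonal_iff_mem_range (hF : Fintype.card F = q ^ 2) (hn : 0 < n)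
    (β : MulAut (Cfsg.PSU n F q)) :
    Cfsg.IsInnerDiagonalAutPSU β ↔ β ∈ (conjUHom (n := n) (F := F) (q := q)).range := by
  constructor
  · intro h
    obtain ⟨g, -, rfl⟩ := (PSUG.isInnerDiagonal_iff β).1 h
    exact ⟨g, rfl⟩
  · intro h
    rw [← inndiagU_eq_range hF hn, ← range_chiU] at h
    obtain ⟨g', rfl⟩ := h
    rw [PSUG.isInnerDiagonal_iff]
    exact ⟨⟨g'.1, GU_le_GUs g'.2⟩, g'.2, rfl⟩

set_option maxHeartbeats 1600000 in
/-- **local balance for graph involutions of `PSU_n(q)`**, `q` odd -/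
theorem psu_balance_graph (r : ℕ) [Fact r.Prime] [CharP F r] (hF : Fintype.card F = q ^ 2)
    (hn : 3 ≤ n) (h32 : ¬ (n = 3 ∧ q = 2)) (hr2 : r ≠ 2)
    (A : Subgroup (MulAut (Cfsg.PSU n F q))) (hinn : Cfsg.Inn (Cfsg.PSU n F q) ≤ A)
    (β : MulAut (Cfsg.PSU n F q)) (hord : orderOf β = 2)
    (hnot : ¬ Cfsg.IsInnerDiagonalAutPSU β) :
    Cfsg.pPrimeCore 2 ↥(A ⊓ Subgroup.centralizer {β}) = ⊥ ∧
      2 ∣ Nat.card ↥(Cfsg.Inn (Cfsg.PSU n F q) ⊓ Subgroup.centralizer {β}) := by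
  classical
  obtain ⟨_, ⟨g₁, rfl⟩, τ, rfl⟩ := exists_conjU_mul_fieldU hF hn h32 β
  obtain ⟨Φ, hΦ1, hΦ2⟩ := exists_autHomU (n := n) hF hn h32
  have hτ1 : τ ≠ 1 := by
    intro h1
    apply hnot
    rw [isInnerDiagonal_iff_mem_range hF (by omega), h1, map_one, mul_one]
    exact ⟨g₁, rfl⟩
  have hτ2 : orderOf τ = 2 := by
    have hpow : ((conjUHom g₁ : MulAut (Cfsg.PSU n F q)) * fieldUHom τ) ^ 2 = 1 := by
      rw [← hord]
      exact pow_orderOf_eq_one _
    have h1 : τ ^ 2 = 1 := by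
      have h2 := congrArg Φ hpow
      have h3 : Φ (conjUHom g₁) = 1 := by
        rw [← MonoidHom.mem_ker, hΦ2]
        exact ⟨g₁, rfl⟩
      rw [map_pow, map_mul, h3, hΦ1, one_mul, map_one] at h2
      exact h2
    rcases (Nat.dvd_prime Nat.prime_two).1 (orderOf_dvd_of_pow_eq_one h1) with h3 | h3
    · exact absurd (orderOf_eq_one_iff.1 h3) hτ1
    · exact h3
  have hgraph : Cfsg.IsGraphAutClassPSU
      ((conjUHom g₁ : MulAut (Cfsg.PSU n F q)) * fieldUHom τ) := by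
    refine ⟨hn, conjUHom g₁, fieldUHom τ, τ, ?_, ?_, ?_, rfl⟩
    · rw [hτ2]
      exact even_two
    · rw [isInnerDiagonal_iff_mem_range hF (by omega)]
      exact ⟨g₁, rfl⟩
    · rw [isFieldAut_iff]
  -- the fixed field
  obtain ⟨f, hq⟩ := exists_q_eq_pow r hF
  have hf0 : f ≠ 0 := by
    rintro rfl
    rw [pow_zero] at hq
    subst hq
    have h2 : 1 < Fintype.card F := Fintype.one_lt_card
    rw [hF] at h2
    norm_num at h2
  let F₀ := GaloisField r f
  have : Fintype F₀ := Fintype.ofFinite _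
  have hF₀ : Fintype.card F₀ = q := by
    rw [← Nat.card_eq_fintype_card, hq]
    exact GaloisField.card r _ hf0
  obtain ⟨ρ, hρ, hρo, ι, hι⟩ := exists_frob_data hF F₀ hF₀
  haveI : CharP F₀ r := RingHom.charP ι ι.injective r
  have h2 : (2 : F₀) ≠ 0 := by
    intro h0
    have h1 : ((2 : ℕ) : F₀) = 0 := by exact_mod_cast h0
    rw [CharP.cast_eq_zero_iff F₀ r] at h1
    exact hr2 ((Nat.prime_dvd_prime_iff_eq (Fact.out : r.Prime) Nat.prime_two).1 h1)
  obtain ⟨A₀, hA₀, k, t, g, ht, hk, hg, hβ⟩ :=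
    exists_datum_of_graph hF hn h32 ρ hρ hρo ι hι _ hgraph hord
  rw [hβ]
  rcases hA₀ with hsym | hskew
  · exact psu_graph_sym r hF hn h32 ρ hρ hρo ι hι h2 k t ht A₀ hsym hk g hg A hinn
  · exact psu_graph_skew hF hn h32 ρ hρ hρo ι hι h2 k t ht A₀ hskew hk g hg A hinn

set_option maxHeartbeats 1600000 in
/-- **local balance for `PSU_n(q)`**: an automorphism of prime order `p` different from the
characteristic, outside the inner-diagonal group -/
theorem psu_balance (r : ℕ) [Fact r.Prime] [CharP F r] (hF : Fintype.card F = q ^ 2)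
    (hn : 3 ≤ n) (h32 : ¬ (n = 3 ∧ q = 2))
    (A : Subgroup (MulAut (Cfsg.PSU n F q)))
    (hinn : ∀ k : Cfsg.PSU n F q, MulAut.conj k ∈ A)
    {p : ℕ} [Fact p.Prime] (hpr : p ≠ r) (β : MulAut (Cfsg.PSU n F q)) (hord : orderOf β = p)
    (hnot : ¬ Cfsg.IsInnerDiagonalAutPSU β) :
    Cfsg.pPrimeCore p ↥(A ⊓ Subgroup.centralizer {β}) ≠ ⊥ ↔
      Nat.Coprime p (Nat.card ↥(MonoidHom.eqLocus β.toMonoidHom
        (MonoidHom.id (Cfsg.PSU n F q)))) := by
  by_cases hp2 : p = 2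
  · subst hp2
    have hinn' : Cfsg.Inn (Cfsg.PSU n F q) ≤ A := by
      rintro _ ⟨k, rfl⟩
      exact hinn k
    obtain ⟨h1, h2⟩ := psu_balance_graph r hF hn h32 (Ne.symm hpr) A hinn' β hord hnot
    rw [card_inn_inf_centralizer (center_PSU_eq_bot hF hn h32)] at h2
    constructor
    · intro hne
      exact absurd h1 hne
    · intro hcop
      exfalso
      have h3 := Nat.eq_one_of_dvd_coprimes hcop (dvd_refl 2) h2
      norm_num at h3
  · obtain ⟨_, ⟨g₁, rfl⟩, τ, rfl⟩ := exists_conjU_mul_fieldU hF hn h32 β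
    have hτ1 : τ ≠ 1 := by
      intro h1
      apply hnot
      rw [isInnerDiagonal_iff_mem_range hF (by omega), h1, map_one, mul_one]
      exact ⟨g₁, rfl⟩
    exact psu_balance_field r hF hn h32 A hinn hpr hp2 g₁ τ hτ1 hord

end main

end Cfsg.Agent.Lib.Helper18.PSUBal
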