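import Mathlib
import Cfsg.Agent.Lib.Helper18.PSUBalM

/-!
# Local balance for `PSU_n(q)`: the final form of the criterion (helper18)
-/

set_option autoImplicit false
set_option linter.unusedSectionVars false

namespace Cfsg.Agent.Lib.Helper18.PSUBal

open Matrix Cfsg Cfsg.Agent.Lib.Helper18.PSLnAut Cfsg.Agent.Lib.Helper18.PSLnFld
  Cfsg.Agent.Lib.Helper25.PSUG Cfsg.Agent.Lib.Helper18.PSUOut Cfsg.Agent.Lib.Helper18.PSUFld

section final

variable {n : ℕ} {F : Type*} [Field F] [Fintype F] {q : ℕ}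

/-- a simple `PSU_n(q)` is not `PSU_3(2)` -/
theorem not_three_two_of_simple (hF : Fintype.card F = q ^ 2)
    (hK : IsSimpleGroup (Cfsg.PSU n F q)) : ¬ (n = 3 ∧ q = 2) := by
  rintro ⟨rfl, rfl⟩
  have hF4 : Fintype.card F = 4 := by rw [hF]; norm_num
  obtain ⟨hcard, hsolv⟩ := Cfsg.Agent.S0282.result hF4
  have hfin : Finite (Cfsg.PSU 3 F 2) := Nat.finite_of_card_ne_zero (by rw [hcard]; norm_num)
  have hcomm := (IsSimpleGroup.comm_iff_isSolvable (G := Cfsg.PSU 3 F 2)).2 hsolv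
  let _ : CommGroup (Cfsg.PSU 3 F 2) := { (inferInstance : Group (Cfsg.PSU 3 F 2)) with
    mul_comm := hcomm }
  have hprime := IsSimpleGroup.prime_card (α := Cfsg.PSU 3 F 2)
  rw [hcard] at hprime
  norm_num at hprime

/-- **local balance for `PSU_n(q)`**, in the form of the classification statement -/
theorem psu_balance_main (r : ℕ) [Fact r.Prime] [CharP F r] (hF : Fintype.card F = q ^ 2)
    (hn : 3 ≤ n) (hK : IsSimpleGroup (Cfsg.PSU n F q))
    (A : Subgroup (MulAut (Cfsg.PSU n F q)))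
    (hinn : ∀ k : Cfsg.PSU n F q, MulAut.conj k ∈ A)
    (p : ℕ) [Fact p.Prime] (hpr : p ≠ r) (β : MulAut (Cfsg.PSU n F q)) (hord : orderOf β = p)
    (hnot : ¬ Cfsg.IsInnerDiagonalAutPSU β) :
    Cfsg.pPrimeCore p ↥(A ⊓ Subgroup.centralizer {β}) ≠ ⊥ ↔
      ((∃ γ φ : MulAut (Cfsg.PSU n F q), Cfsg.IsInnerDiagonalAutPSU γ ∧
          (∃ σ : F ≃+* F, Cfsg.IsFieldAutPSUOf σ φ) ∧ β = φ.trans γ) ∧
        Nat.Coprime p (Nat.card ↥(MonoidHom.eqLocus β.toMonoidHom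
          (MonoidHom.id (Cfsg.PSU n F q))))) := by
  have h32 := not_three_two_of_simple hF hK
  have hfirst : ∃ γ φ : MulAut (Cfsg.PSU n F q), Cfsg.IsInnerDiagonalAutPSU γ ∧
      (∃ σ : F ≃+* F, Cfsg.IsFieldAutPSUOf σ φ) ∧ β = φ.trans γ := by
    obtain ⟨_, ⟨g₁, rfl⟩, τ, rfl⟩ := exists_conjU_mul_fieldU hF hn h32 β
    refine ⟨conjUHom g₁, fieldUHom τ, ?_, ⟨τ, ?_⟩, ?_⟩
    · rw [isInnerDiagonal_iff_mem_range hF (by omega)]
      exact ⟨g₁, rfl⟩
    · rw [isFieldAut_iff]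
    · rfl
  rw [psu_balance r hF hn h32 A hinn hpr β hord hnot]
  exact ⟨fun h => ⟨hfirst, h⟩, fun h => h.2⟩

end final

end Cfsg.Agent.Lib.Helper18.PSUBal
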