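import Mathlib
import Cfsg.Agent.Lib.Helper18.PSpCntA

/-!
# `|Aut(PSp_{2m}(F))|` and `Out(PSp₄(2^f))`, modulo the exceptional graph automorphism (helper18)

* `card_aut_generic`: `|Aut(PSp_{2m}(F))| = gcd(2, q - 1) · f · |PSp_{2m}(F)|` unless `m = 2 = p`;
* `HasGraphAut F`: the input expected from the construction of the exceptional automorphism of
  `Sp₄(2^f)`;
* `card_aut_of_graph`, `out_of_graph`: the order of `Aut(PSp₄(2^f))` and the structure of
  `Out(PSp₄(2^f))` given `HasGraphAut F`.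
-/

set_option autoImplicit false
set_option linter.unusedSectionVars false

namespace Cfsg.Agent.Lib.Helper18.PSpAut

open Matrix Cfsg.Agent.Lib.Helper5 Cfsg.Agent.Lib.Helper14.SpPerfect
  Cfsg.Agent.Lib.Helper14.PSpSimple Cfsg.Agent.Lib.Helper18.FTPG

variable {m : ℕ} {F : Type*} [Field F] [Fintype F]

theorem pGammaSp_eq_top_of_odd (p : ℕ) [Fact p.Prime] [CharP F p] (hm : 2 ≤ m)
    (h2 : (2 : F) ≠ 0) : pGammaSp m F = ⊤ := by
  rw [eq_top_iff]
  intro α _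
  rw [mem_pGammaSp_iff' hm]
  exact exists_semilinear_of_odd p hm h2 α

theorem pGammaSp_eq_top_of_two [CharP F 2] (hm : 3 ≤ m) : pGammaSp m F = ⊤ := by
  rw [eq_top_iff]
  intro α _
  rw [mem_pGammaSp_iff' (by omega)]
  exact exists_semilinear_of_two hm α

/-- **the order of `Aut(PSp_{2m}(F))`** outside the case `m = 2`, `p = 2` -/
theorem card_aut_generic (p : ℕ) [Fact p.Prime] {f : ℕ} (hF : Fintype.card F = p ^ f)
    (hm : 2 ≤ m) (h : ¬ (m = 2 ∧ p = 2)) :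
    Nat.card (MulAut (Cfsg.PSp m F)) =
      Nat.gcd 2 (p ^ f - 1) * f * Nat.card (Cfsg.PSp m F) := by
  have hch : CharP F p := charP_of_card_eq_prime_pow hF
  apply card_aut_of_top p hF hm
  by_cases hp : p = 2
  · subst hp
    have hm3 : 3 ≤ m := by
      rcases Nat.lt_or_ge 2 m with h3 | h3
      · exact h3
      · exact absurd ⟨le_antisymm h3 hm, rfl⟩ h
    exact pGammaSp_eq_top_of_two hm3
  · have h2 : (2 : F) ≠ 0 := by
      intro h0
      have h1 : ((2 : ℕ) : F) = 0 := by exact_mod_cast h0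
      rw [CharP.cast_eq_zero_iff F p] at h1
      exact hp ((Nat.prime_dvd_prime_iff_eq (Fact.out : p.Prime) Nat.prime_two).1 h1)
    exact pGammaSp_eq_top_of_odd p hm h2

/-- what the exceptional graph automorphism of `Sp₄(2^f)` has to deliver -/
def HasGraphAut (F : Type*) [Field F] : Prop :=
  ∃ (γ : MulAut (Cfsg.PSp 2 F)) (σ₀ : RingAut F),
    (∀ σ : RingAut F, σ ∈ Subgroup.zpowers σ₀) ∧
    γ * γ = fieldAHom σ₀ ∧
    γ ∉ pGammaSp 2 F ∧
    ∀ α : MulAut (Cfsg.PSp 2 F), α ∈ pGammaSp 2 F ∨ γ * α ∈ pGammaSp 2 F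

theorem index_pGammaSp_of_graph (h : HasGraphAut F) : (pGammaSp 2 F).index = 2 := by
  obtain ⟨γ, σ₀, -, -, hγ, hall⟩ := h
  exact index_eq_two_of_left _ γ hγ hall

theorem gcd_two_pow_sub_one {f : ℕ} (hf : 1 ≤ f) : Nat.gcd 2 (2 ^ f - 1) = 1 := by
  obtain ⟨k, rfl⟩ : ∃ k, f = k + 1 := ⟨f - 1, by omega⟩
  have h1 : 1 ≤ 2 ^ k := Nat.one_le_two_pow
  have h2 : 2 ^ (k + 1) - 1 = 2 * (2 ^ k - 1) + 1 := by
    rw [pow_succ]
    omega
  rw [h2]
  have h3 : Nat.Coprime 2 (2 * (2 ^ k - 1) + 1) := by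
    rw [Nat.coprime_two_left]
    exact ⟨_, rfl⟩
  exact h3

/-- **the order of `Aut(PSp₄(2^f))`** given the exceptional automorphism -/
theorem card_aut_of_graph {f : ℕ} (hF : Fintype.card F = 2 ^ f) (h : HasGraphAut F) :
    Nat.card (MulAut (Cfsg.PSp 2 F)) =
      2 * Nat.gcd 2 (2 ^ f - 1) * f * Nat.card (Cfsg.PSp 2 F) := by
  have : Fact (Nat.Prime 2) := ⟨Nat.prime_two⟩
  exact card_aut_of_index_two 2 hF le_rfl (index_pGammaSp_of_graph h)

/-- **`Out(PSp₄(2^f))` is cyclic of order `2f`** given the exceptional automorphism -/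
theorem out_of_graph {f : ℕ} (hf : 1 ≤ f) (hF : Fintype.card F = 2 ^ f) (h : HasGraphAut F) :
    IsCyclic (Cfsg.Out (Cfsg.PSp 2 F)) ∧ Nat.card (Cfsg.Out (Cfsg.PSp 2 F)) = 2 * f := by
  have : Fact (Nat.Prime 2) := ⟨Nat.prime_two⟩
  have hch : CharP F 2 := charP_of_card_eq_prime_pow hF
  have h2 : (2 : F) = 0 := by
    have : ((2 : ℕ) : F) = 0 := CharP.cast_eq_zero F 2
    exact_mod_cast this
  have hcard := card_aut_of_graph hF h
  obtain ⟨γ, σ₀, hgen, hsq, hγ, hall⟩ := h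
  have hR : (conjAHom (m := 2) (F := F)).range = Cfsg.Inn (Cfsg.PSp 2 F) :=
    range_eq_inn_of_char_two le_rfl h2
  constructor
  · refine ⟨⟨(γ : Cfsg.Out (Cfsg.PSp 2 F)), fun x => ?_⟩⟩
    -- elements of `PΓSp` are powers of the class of `γ`
    have hP : ∀ α : MulAut (Cfsg.PSp 2 F), α ∈ pGammaSp 2 F →
        (α : Cfsg.Out (Cfsg.PSp 2 F)) ∈
          Subgroup.zpowers (γ : Cfsg.Out (Cfsg.PSp 2 F)) := by
      intro α hα
      obtain ⟨g, σ, rfl⟩ := (mem_pGammaSp_iff le_rfl α).1 hα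
      obtain ⟨k, rfl⟩ := Subgroup.mem_zpowers_iff.1 (hgen σ)
      have h1 : ((conjAHom g : MulAut (Cfsg.PSp 2 F)) : Cfsg.Out (Cfsg.PSp 2 F)) = 1 := by
        rw [QuotientGroup.eq_one_iff, ← hR]
        exact ⟨g, rfl⟩
      rw [QuotientGroup.mk_mul, h1, one_mul, map_zpow, ← hsq, QuotientGroup.mk_zpow,
        QuotientGroup.mk_mul]
      exact Subgroup.zpow_mem _ (Subgroup.mul_mem _ (Subgroup.mem_zpowers _)
        (Subgroup.mem_zpowers _)) k
    obtain ⟨α, rfl⟩ := QuotientGroup.mk_surjective x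
    rcases hall α with hα | hα
    · exact hP α hα
    · have h3 := hP _ hα
      rw [QuotientGroup.mk_mul] at h3
      have h4 := Subgroup.mul_mem _ (Subgroup.inv_mem _
        (Subgroup.mem_zpowers (γ : Cfsg.Out (Cfsg.PSp 2 F)))) h3
      rwa [inv_mul_cancel_left] at h4
  · have h5 := Subgroup.card_mul_index (Cfsg.Inn (Cfsg.PSp 2 F))
    rw [card_inn le_rfl, hcard, gcd_two_pow_sub_one hf] at h5
    have hpos : 0 < Nat.card (Cfsg.PSp 2 F) := Nat.card_pos
    show Nat.card (MulAut (Cfsg.PSp 2 F) ⧸ Cfsg.Inn (Cfsg.PSp 2 F)) = 2 * f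
    rw [← Subgroup.index_eq_card]
    have h6 : Nat.card (Cfsg.PSp 2 F) * (Cfsg.Inn (Cfsg.PSp 2 F)).index =
        Nat.card (Cfsg.PSp 2 F) * (2 * f) := by
      rw [h5]
      ring
    exact Nat.eq_of_mul_eq_mul_left hpos h6

/-- **the order of `Aut(PSp_{2m}(F))`** in the shape of the statement, given the exceptional
automorphism when `m = 2 = p` -/
theorem card_aut_psp_of_graph (p f : ℕ) [Fact p.Prime] (hF : Fintype.card F = p ^ f)
    (m : ℕ) (hm : 2 ≤ m) (hG : m = 2 → p = 2 → HasGraphAut F) :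
    Nat.card (MulAut (Cfsg.PSp m F)) =
      (if m = 2 ∧ p = 2 then 2 else 1) * Nat.gcd 2 (p ^ f - 1) * f *
        Nat.card (Cfsg.PSp m F) := by
  by_cases h : m = 2 ∧ p = 2
  · rw [if_pos h]
    obtain ⟨rfl, rfl⟩ := h
    exact card_aut_of_graph hF (hG rfl rfl)
  · rw [if_neg h, one_mul]
    exact card_aut_generic p hF hm h

end Cfsg.Agent.Lib.Helper18.PSpAut
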