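import Mathlib
import Cfsg.Agent.Lib.Helper18.PSpBalC
import Cfsg.Agent.Lib.Helper18.PSpCntB
import Cfsg.Agent.Lib.Lead.Sp4GraphI

/-!
# Local balance for `PSp_{2m}(F)`: the case of `PSp₄(2^f)` and the final statement (helper18)
-/

set_option autoImplicit false
set_option linter.unusedSectionVars false

namespace Cfsg.Agent.Lib.Helper18.PSpAut

open Matrix Cfsg.Agent.Lib.Helper5 Cfsg.Agent.Lib.Helper14.SpPerfect
  Cfsg.Agent.Lib.Helper14.PSpSimple Cfsg.Agent.Lib.Helper18.FTPG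
  Cfsg.Agent.Lib.Helper18.OrthBal Cfsg.Agent.Lib.Lead.Sp4Graph

section sp4

variable {F : Type*} [Field F] [Fintype F] [CharP F 2]

/-- the graph automorphism maps no nontrivial transvection to a transvection -/
theorem gamA_Tr_ne (w : Fin 2 ⊕ Fin 2 → F) (hw : w ≠ 0) (c : F) (hc : c ≠ 0)
    (v : Fin 2 ⊕ Fin 2 → F) (d : F) : gamA (pi (Tr w c)) ≠ pi (Tr v d) := by
  intro h
  have hinj := pi_injective_of_two (m := 2) (F := F) (by norm_num) two_eq_zero'
  obtain ⟨A, -, hA⟩ := transv_trans1 (eL 2 F 0) w eL_zero_ne hw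
  have h1 : Tr w c = A * Tr (eL 2 F 0) c * A⁻¹ := by
    rw [conj_Tr, hA]
  have h2 : gamA (pi (Tr (eL 2 F 0) c)) = pi (zc 0 c) := by
    rw [gamA_pi, gamE_apply, ← zc_zero_right, gamS_zc, zero_pow (by norm_num)]
  rw [h1, map_mul, map_mul, map_mul, map_mul, h2, gamA_pi, map_inv, map_inv, gamA_pi,
    ← map_inv, ← map_mul, ← map_mul] at h
  have h3 := hinj h
  have h4 : zc 0 c = (gamE A)⁻¹ * Tr v d * ((gamE A)⁻¹)⁻¹ := by
    rw [← h3]
    group
  rw [conj_Tr] at h4
  exact zc_ne_Tr c hc _ _ h4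

theorem gamM_not_mem_pGammaSp : (gamM (F := F)) ∉ pGammaSp 2 F := by
  intro h
  obtain ⟨g, σ, hg⟩ := (mem_pGammaSp_iff' le_rfl _).1 h
  apply not_permAt_gamA (F := F)
  have h1 : PermAt ((fieldA (m := 2) σ).trans (conjA g)) :=
    (permAt_fieldA σ).trans (permAt_conjA g)
  exact h1.congr (fun x => (hg x).symm)

theorem mem_or_gamM_mul_mem (α : MulAut (Cfsg.PSp 2 F)) :
    α ∈ pGammaSp 2 F ∨ gamM * α ∈ pGammaSp 2 F := by
  obtain ⟨g, σ, h | h⟩ := aut_decomp α
  · left
    exact (mem_pGammaSp_iff' le_rfl _).2 ⟨g, σ, h⟩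
  · right
    have h1 : gamM * α = fieldAHom (m := 2) (frob2 : RingAut F) * (conjAHom g * fieldAHom σ) := by
      ext x
      rw [MulAut.mul_apply, gamM_apply, h, gamA_gamA]
      rfl
    rw [h1]
    exact Subgroup.mul_mem _ (Subgroup.mem_sup_left ⟨_, rfl⟩) (conjA_mul_fieldA_mem g σ)

theorem index_pGammaSp_two : (pGammaSp 2 F).index = 2 :=
  index_eq_two_of_left _ gamM gamM_not_mem_pGammaSp mem_or_gamM_mul_mem

/-- elements of odd order are semilinear -/
theorem mem_pGammaSp_of_odd_order (x : MulAut (Cfsg.PSp 2 F)) (hx : Odd (orderOf x)) :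
    x ∈ pGammaSp 2 F := by
  obtain ⟨k, hk⟩ := hx
  have h1 : x ^ (2 * k + 1) = 1 := by
    rw [← hk]
    exact pow_orderOf_eq_one x
  have h2 : (x ^ 2) ^ k ∈ pGammaSp 2 F :=
    Subgroup.pow_mem _ (Subgroup.sq_mem_of_index_two index_pGammaSp_two x) k
  rw [pow_succ, pow_mul] at h1
  have h3 : x = ((x ^ 2) ^ k)⁻¹ := eq_inv_of_mul_eq_one_right h1
  rw [h3]
  exact Subgroup.inv_mem _ h2

/-- an automorphism centralising a subfield subgroup is semilinear -/
theorem mem_pGammaSp_of_comm (K₀ : Subfield F) (y : MulAut (Cfsg.PSp 2 F))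
    (hy : ∀ l ∈ Lsp 2 K₀.subtype, y * l = l * y) : y ∈ pGammaSp 2 F := by
  obtain ⟨g, σ, h | h⟩ := aut_decomp y
  · exact (mem_pGammaSp_iff' le_rfl _).2 ⟨g, σ, h⟩
  · exfalso
    -- `y` fixes the transvection `Tr e₀ 1`
    have hl := hy _ (PsiF_spG_mem K₀.subtype (Tr (eL 2 ↥K₀ 0) 1))
    rw [PsiF_apply, gspMap_spG_Tr, ← conj_pi_eq_conjA,
      commute_conj_iff (center_PSp le_rfl)] at hl
    rw [h, fieldA_pi, fieldS_Tr, conjA_pi, conjMat_Tr] at hl
    refine gamA_Tr_ne _ ?_ _ ?_ _ _ hl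
    · apply gl_mulVec_ne
      apply map_sigma_ne
      intro h0
      have := congrFun h0 (Sum.inl 0)
      simp only [eL_apply_self, map_one, Pi.zero_apply] at this
      exact one_ne_zero this
    · rw [map_one, map_one]
      exact mul_ne_zero one_ne_zero (inv_ne_zero (mult g).ne_zero)

end sp4

section final

variable {m : ℕ} {F : Type*} [Field F] [Fintype F]

/-- **local balance for `PSp_{2m}(F)`** -/
theorem psp_balance {r : ℕ} [Fact r.Prime] [CharP F r] (hm : 2 ≤ m)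
    (A : Subgroup (MulAut (Cfsg.PSp m F))) (hinn : ∀ k : Cfsg.PSp m F, MulAut.conj k ∈ A)
    {p : ℕ} [Fact p.Prime] (hpr : p ≠ r) (x : MulAut (Cfsg.PSp m F)) (hord : orderOf x = p)
    (hnot : ¬ Cfsg.IsInnerDiagonalAutPSp x) :
    Cfsg.pPrimeCore p ↥(A ⊓ Subgroup.centralizer {x}) ≠ ⊥ ↔
      (Cfsg.IsFieldAutClassPSp x ∧
        Nat.Coprime p (Nat.card ↥(MonoidHom.eqLocus x.toMonoidHom
          (MonoidHom.id (Cfsg.PSp m F))))) := by
  by_cases hcase : m = 2 ∧ r = 2
  · obtain ⟨rfl, rfl⟩ := hcase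
    have hp : p.Prime := Fact.out
    have hodd : Odd (orderOf x) := by
      rw [hord]
      exact hp.odd_of_ne_two hpr
    exact psp_balance_main le_rfl A hinn x hord hnot (mem_pGammaSp_of_odd_order x hodd)
      mem_pGammaSp_of_comm
  · have htop : pGammaSp m F = ⊤ := by
      by_cases hr : r = 2
      · subst hr
        have hm3 : 3 ≤ m := by
          rcases Nat.lt_or_ge 2 m with h3 | h3
          · exact h3
          · exact absurd ⟨le_antisymm h3 hm, rfl⟩ hcase
        exact pGammaSp_eq_top_of_two hm3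
      · have h2 : (2 : F) ≠ 0 := by
          intro h0
          have h1 : ((2 : ℕ) : F) = 0 := by exact_mod_cast h0
          rw [CharP.cast_eq_zero_iff F r] at h1
          exact hr ((Nat.prime_dvd_prime_iff_eq (Fact.out : r.Prime) Nat.prime_two).1 h1)
        exact pGammaSp_eq_top_of_odd r hm h2
    exact psp_balance_main hm A hinn x hord hnot (by rw [htop]; trivial)
      (fun _ y _ => by rw [htop]; trivial)

end final

end Cfsg.Agent.Lib.Helper18.PSpAut
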