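import Mathlib
import Cfsg.Prelude.Def_Solvable
import Cfsg.Agent.Lib.Helper12.PComplement
import Cfsg.Agent.Lib.Helper24.PSolvable

set_option autoImplicit false

/-!
# S4125 main body, leaf QBN2: in `G / O_{q'}(G)` the image of an abelian Sylow `q`-subgroup `Q`
with `O_{q'}(G) Q` normal is self-centralising
-/

namespace Cfsg.Agent.Lib.Helper18.QBLeaf

open Cfsg.Agent.Lib.Helper12

/-- a normal abelian Sylow `q`-subgroup of a group with `O_{q'} = 1` is self-centralising -/
theorem centralizer_le_of_pPrimeCore_eq_bot {Γ : Type*} [Group Γ] [Finite Γ] (q : ℕ)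
    [Fact q.Prime] (hO : Cfsg.pPrimeCore q Γ = ⊥) (V : Subgroup Γ) [V.Normal]
    (hVq : IsPGroup q V) (hVi : ¬ q ∣ V.index)
    (hab : ∀ u ∈ V, ∀ v ∈ V, u * v = v * u) :
    Subgroup.centralizer (V : Set Γ) ≤ V := by
  set Cg : Subgroup Γ := Subgroup.centralizer (V : Set Γ) with hCg
  have hCgn : Cg.Normal := Subgroup.normal_centralizer
  have hVC : V ≤ Cg := by
    intro v hv
    rw [hCg, Subgroup.mem_centralizer_iff]
    intro u hu
    exact hab u hu v hv
  -- the Sylow subgroup of `Cg`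
  have hPq : IsPGroup q (V.subgroupOf Cg) := hVq.comap_subtype
  have hPi : ¬ q ∣ (V.subgroupOf Cg).index := by
    intro hdvd
    apply hVi
    have : V.relIndex Cg ∣ V.index := Subgroup.relIndex_dvd_index_of_le hVC
    exact dvd_trans hdvd this
  let P : Sylow q Cg := hPq.toSylow hPi
  have hPcoe : (P : Subgroup Cg) = V.subgroupOf Cg := rfl
  have hPc : ∀ x ∈ (P : Subgroup Cg), ∀ c : Cg, c * x = x * c := by
    intro x hx c
    rw [hPcoe, Subgroup.mem_subgroupOf] at hx
    apply Subtype.ext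
    have hc : (c : Γ) ∈ Subgroup.centralizer (V : Set Γ) := c.2
    exact ((Subgroup.mem_centralizer_iff.mp hc) x.1 hx).symm
  have hcard := card_pPrimeCore_mul_of_central_sylow P hPc
  -- the `q'`-core of `Cg` is normal in `Γ`
  have : (Cfsg.pPrimeCore q Cg).Characteristic := pPrimeCore_characteristic q
  have hMn : ((Cfsg.pPrimeCore q Cg).map Cg.subtype).Normal :=
    ConjAct.normal_of_characteristic_of_normal
  have hMc : (Nat.card ((Cfsg.pPrimeCore q Cg).map Cg.subtype)).Coprime q := by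
    rw [Subgroup.card_map_of_injective Cg.subtype_injective]
    exact pPrimeCore_coprime q
  have hM := le_pPrimeCore q _ hMn hMc
  rw [hO, le_bot_iff] at hM
  have hM' : Cfsg.pPrimeCore q Cg = ⊥ := by
    rw [eq_bot_iff]
    intro x hx
    have : Cg.subtype x ∈ (Cfsg.pPrimeCore q Cg).map Cg.subtype := Subgroup.mem_map_of_mem _ hx
    rw [hM, Subgroup.mem_bot] at this
    rw [Subgroup.mem_bot]
    exact Subtype.ext this
  rw [hM', Subgroup.card_bot, one_mul] at hcard
  have hPtop : (P : Subgroup Cg) = ⊤ := Subgroup.eq_top_of_card_eq _ hcard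
  intro c hc
  have : (⟨c, hc⟩ : Cg) ∈ (P : Subgroup Cg) := hPtop ▸ Subgroup.mem_top _
  rw [hPcoe, Subgroup.mem_subgroupOf] at this
  exact this

variable {G : Type*} [Group G] [Finite G]

/-- QBN2: self-centralising image in G / O_{q'}(G). -/
theorem centralizer_map_le (q : ℕ) [Fact q.Prime] (hn : (Cfsg.pPrimeCore q G).Normal)
    (L : Subgroup G) [L.Normal] (Q : Sylow q G) (hQL : (Q : Subgroup G) ≤ L)
    (hLQ : L ≤ Cfsg.pPrimeCore q G ⊔ (Q : Subgroup G))
    (hab : ∀ u ∈ (Q : Subgroup G), ∀ v ∈ (Q : Subgroup G), u * v = v * u) :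
    Subgroup.centralizer
      (((Q : Subgroup G).map (@QuotientGroup.mk' G _ (Cfsg.pPrimeCore q G) hn) :
        Subgroup (G ⧸ Cfsg.pPrimeCore q G)) : Set (G ⧸ Cfsg.pPrimeCore q G)) ≤
      (Q : Subgroup G).map (@QuotientGroup.mk' G _ (Cfsg.pPrimeCore q G) hn) := by
  set K := Cfsg.pPrimeCore q G with hK
  set π := @QuotientGroup.mk' G _ K hn with hπ
  have hsurj : Function.Surjective π := QuotientGroup.mk'_surjective K
  have hO : Cfsg.pPrimeCore q (G ⧸ K) = ⊥ := Cfsg.Agent.Lib.Helper24.pPrimeCore_quotient_eq_bot' q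
  have hVL : (Q : Subgroup G).map π = L.map π := by
    apply le_antisymm (Subgroup.map_mono hQL)
    calc L.map π ≤ (K ⊔ (Q : Subgroup G)).map π := Subgroup.map_mono hLQ
      _ = K.map π ⊔ (Q : Subgroup G).map π := Subgroup.map_sup _ _ _
      _ = (Q : Subgroup G).map π := by
        have : K.map π = ⊥ := by
          rw [Subgroup.map_eq_bot_iff, hπ, QuotientGroup.ker_mk']
        rw [this, bot_sup_eq]
  have hVn : ((Q : Subgroup G).map π).Normal := by
    rw [hVL]
    exact Subgroup.Normal.map inferInstance π hsurj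
  have hVq : IsPGroup q ((Q : Subgroup G).map π) := Q.2.map π
  have hVi : ¬ q ∣ ((Q : Subgroup G).map π).index := by
    intro hdvd
    rw [Subgroup.index_map, MonoidHom.range_eq_top.mpr hsurj, Subgroup.index_top, mul_one] at hdvd
    have h1 : ((Q : Subgroup G) ⊔ π.ker).index ∣ (Q : Subgroup G).index :=
      Subgroup.index_dvd_of_le le_sup_left
    exact Q.not_dvd_index (dvd_trans hdvd h1)
  have habV : ∀ u ∈ (Q : Subgroup G).map π, ∀ v ∈ (Q : Subgroup G).map π, u * v = v * u := by
    rintro _ ⟨u, hu, rfl⟩ _ ⟨v, hv, rfl⟩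
    rw [← map_mul, ← map_mul, hab u hu v hv]
  exact centralizer_le_of_pPrimeCore_eq_bot q hO _ hVq hVi habV

end Cfsg.Agent.Lib.Helper18.QBLeaf
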