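import Mathlib
import Cfsg.Agent.Lib.Helper18.QDTransfer
import Cfsg.Prelude.Def_Transfer

set_option autoImplicit false

/-!
# Quasi-dihedral Sylow 2-subgroups: the two mixed fusion patterns

`z ≁ y`, `v ∼ xy`: normal subgroup of index 2 with generalized quaternion Sylow 2-subgroups.
`z ∼ y`, `v ≁ xy`: normal subgroup of index 2 with dihedral Sylow 2-subgroups.
In both cases the normal subgroup has no subgroup of index 2.
-/

namespace Cfsg.Agent.Lib.Helper18

open Subgroup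

/-- the only involution of the quaternion maximal subgroup is `z` -/
theorem IsQD.invol_mem_Q {S : Type*} [Group S] {m : ℕ} {x y : S} (h : IsQD S m x y) (a : S)
    (ha : a ∈ zpowers (x ^ 2) ⊔ zpowers (x * y)) (ho : orderOf a = 2) :
    a = x ^ (2 ^ (m + 2)) := by
  by_cases hax : a ∈ zpowers x
  · exact h.eq_z_of_orderOf_two a hax ho
  · exfalso
    obtain ⟨i, hi | hi⟩ := h.cover a
    · exact hax (hi ▸ pow_mem (mem_zpowers x) i)
    · rcases Nat.even_or_odd' i with ⟨l, rfl | rfl⟩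
      · apply h.y_not_mem_Q
        have h1 : (x ^ 2) ^ l ∈ zpowers (x ^ 2) ⊔ zpowers (x * y) :=
          mem_sup_left (pow_mem (mem_zpowers _) l)
        have := mul_mem (inv_mem h1) ha
        rwa [hi, ← pow_mul, inv_mul_cancel_left] at this
      · have := h.orderOf_xy_odd l
        rw [← hi, ho] at this
        omega

section sylow

variable {G : Type*} [Group G] [Finite G] {S : Sylow 2 G} {m : ℕ} {x y : ↥(S : Subgroup G)}

theorem IsQD.y_mul_self_val (h : IsQD ↥(S : Subgroup G) m x y) : (y : G) * y = 1 := by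
  simpa using congrArg Subtype.val h.y_mul_self

/-- **Pattern `z ≁ y`, `v ∼ xy`**. -/
theorem IsQD.mixed_quaternion (h : IsQD ↥(S : Subgroup G) m x y)
    (hn1 : ¬ IsConj ((x : G) ^ (2 ^ (m + 2))) (y : G))
    (hc2 : IsConj ((x : G) ^ (2 ^ (m + 1))) ((x : G) * y)) :
    ∃ K : Subgroup G, K.Normal ∧ K.index = 2 ∧
      (∀ P : Sylow 2 ↥K, ∃ m' : ℕ, 1 ≤ m' ∧
        Nonempty ((P : Subgroup ↥K) ≃* QuaternionGroup (2 ^ m'))) ∧
      (∀ H : Subgroup ↥K, H.index ≠ 2) := by
  have : Fact (Nat.Prime 2) := ⟨Nat.prime_two⟩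
  have hYY := h.y_mul_self_val
  have hYpow : ∀ j : ℕ, Odd j → (y : G) ^ j = y := by
    rintro j ⟨l, rfl⟩
    rw [pow_succ, pow_mul, pow_two, hYY, one_pow, one_mul]
  have hYpow' : ∀ j : ℕ, Even j → (y : G) ^ j = 1 := by
    rintro j ⟨l, rfl⟩
    rw [← two_mul, pow_mul, pow_two, hYY, one_pow]
  obtain ⟨K, hKn, hKi, hYK⟩ := exists_normal_index_two_of_transfer S
    (zpowers (x ^ 2) ⊔ zpowers (x * y)) h.index_Q (y : G) y.2
    (by
      intro j g hg hj hmem
      have hval : g⁻¹ * (y : G) ^ j * g = g⁻¹ * y * g := by rw [hYpow j hj]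
      have ho : orderOf (⟨_, hg⟩ : ↥(S : Subgroup G)) = 2 := by
        rw [← Subgroup.orderOf_coe]
        simp only [hval]
        have := (MulAut.conj g⁻¹).orderOf_eq (y : G)
        rw [MulAut.conj_apply, inv_inv] at this
        rw [this, Subgroup.orderOf_coe, h.hy]
      have h1 := congrArg Subtype.val (h.invol_mem_Q _ hmem ho)
      simp only [hval, Subgroup.coe_pow] at h1
      apply hn1
      rw [isConj_iff]
      exact ⟨g, by rw [← h1]; group⟩)
    (by
      intro j g hg hj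
      have : (⟨_, hg⟩ : ↥(S : Subgroup G)) = 1 := Subtype.ext (by simp [hYpow' j hj])
      rw [this]; exact one_mem _)
  have hX2K : (x : G) ^ 2 ∈ K := sq_mem_of_index_two hKi _
  have hVK : (x : G) ^ (2 ^ (m + 1)) ∈ K := by
    have := sq_mem_of_index_two hKi ((x : G) ^ (2 ^ m))
    rwa [← pow_mul, show 2 ^ m * 2 = 2 ^ (m + 1) by ring] at this
  have hXYK : (x : G) * y ∈ K := by
    obtain ⟨c, hc⟩ := isConj_iff.mp hc2
    rw [← hc]; exact hKn.conj_mem _ hVK c
  have hMeq : (zpowers (x ^ 2) ⊔ zpowers (x * y)).map (S : Subgroup G).subtype =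
      zpowers ((x : G) ^ 2) ⊔ zpowers ((x : G) * y) := by
    rw [← sup_zpowers_val]; simp
  have hMK : (zpowers (x ^ 2) ⊔ zpowers (x * y)).map (S : Subgroup G).subtype ≤ K := by
    rw [hMeq]
    exact sup_le (zpowers_le.mpr hX2K) (zpowers_le.mpr hXYK)
  have hinf := inf_sylow_eq_of_index_two (S : Subgroup G) K _ h.index_Q hMK (y : G) y.2 hYK
  obtain ⟨P₂, hP₂⟩ := exists_sylow_eq_inf_subgroupOf S K
  have hmemP₂ : ∀ a : ↥K, a ∈ (P₂ : Subgroup ↥K) ↔ (a : G) ∈ (S : Subgroup G) := by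
    intro a
    rw [hP₂, mem_subgroupOf, mem_inf]
    exact ⟨fun h => h.2, fun h => ⟨a.2, h⟩⟩
  refine ⟨K, hKn, hKi, ?_, ?_⟩
  · intro P
    obtain ⟨e0⟩ := h.quaternion_iso
    refine ⟨m + 1, by omega, ⟨?_⟩⟩
    exact (Sylow.equiv P P₂).trans ((MulEquiv.subgroupCongr hP₂).trans
      ((Subgroup.subgroupOfEquivOfLe inf_le_left).trans ((MulEquiv.subgroupCongr hinf).trans
        (((zpowers (x ^ 2) ⊔ zpowers (x * y)).equivMapOfInjective _
          (S : Subgroup G).subtype_injective).symm.trans e0))))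
  · -- `K`-conjugacy of the elements of order 4
    have hconjK : ∀ (a : G) (haK : a ∈ K), orderOf a = 4 →
        IsConj (⟨(x : G) ^ (2 ^ (m + 1)), hVK⟩ : ↥K) ⟨a, haK⟩ := by
      intro a haK ho
      obtain ⟨g, hg⟩ := isConj_iff.mp (h.four_isConj_v hc2 a ho).symm
      by_cases hgK : g ∈ K
      · exact isConj_iff.mpr ⟨⟨g, hgK⟩, Subtype.ext (by simpa using hg)⟩
      · have hgY : g * y ∈ K := by
          rw [mul_mem_iff_of_index_two hKi]
          exact ⟨fun h => absurd h hgK, fun h => absurd h hYK⟩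
        refine isConj_iff.mpr ⟨⟨g * y * ((x : G) * y), mul_mem hgY hXYK⟩, Subtype.ext ?_⟩
        have e1 : ((x : G) * y) * (x : G) ^ (2 ^ (m + 1)) * ((x : G) * y)⁻¹ =
            ((x : G) ^ (2 ^ (m + 1)))⁻¹ := by
          have := congrArg Subtype.val (h.conj_v_q 1)
          simpa using this
        have e2 : (y : G) * (x : G) ^ (2 ^ (m + 1)) * (y : G)⁻¹ =
            ((x : G) ^ (2 ^ (m + 1)))⁻¹ := by
          have := congrArg Subtype.val h.conj_v
          simpa using this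
        have e3 : (y : G) * ((x : G) ^ (2 ^ (m + 1)))⁻¹ * (y : G)⁻¹ = (x : G) ^ (2 ^ (m + 1)) := by
          have : (y : G) * ((x : G) ^ (2 ^ (m + 1)))⁻¹ * (y : G)⁻¹ =
              ((y : G) * (x : G) ^ (2 ^ (m + 1)) * (y : G)⁻¹)⁻¹ := by group
          rw [this, e2, inv_inv]
        simp only [Subgroup.coe_mul, Subgroup.coe_inv]
        calc g * y * ((x : G) * y) * (x : G) ^ (2 ^ (m + 1)) * (g * y * ((x : G) * y))⁻¹
            = g * (y * (((x : G) * y) * (x : G) ^ (2 ^ (m + 1)) * ((x : G) * y)⁻¹) * (y : G)⁻¹) *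
              g⁻¹ := by group
          _ = g * (x : G) ^ (2 ^ (m + 1)) * g⁻¹ := by rw [e1, e3]
          _ = a := hg
    have hXYo : orderOf ((x : G) * y) = 4 := by
      have := h.orderOf_xy_odd 0
      rw [← Subgroup.orderOf_coe] at this
      simpa using this
    have hVXYK : (x : G) ^ (2 ^ (m + 1)) * ((x : G) * y) ∈ K := mul_mem hVK hXYK
    have hVXYo : orderOf ((x : G) ^ (2 ^ (m + 1)) * ((x : G) * y)) = 4 := by
      have := h.orderOf_xy_odd (2 ^ m)
      rw [← Subgroup.orderOf_coe] at this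
      have e : (x : G) ^ (2 ^ (m + 1)) * ((x : G) * y) = (x : G) ^ (2 * 2 ^ m + 1) * y := by
        rw [← mul_assoc, ← pow_succ]; congr 2; ring
      rw [e]; simpa using this
    have hX3YK : (x : G) ^ 2 * ((x : G) * y) ∈ K := mul_mem hX2K hXYK
    have hX3Yo : orderOf ((x : G) ^ 2 * ((x : G) * y)) = 4 := by
      have := h.orderOf_xy_odd 1
      rw [← Subgroup.orderOf_coe] at this
      have e : (x : G) ^ 2 * ((x : G) * y) = (x : G) ^ (2 * 1 + 1) * y := by
        rw [← mul_assoc, ← pow_succ]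
      rw [e]; simpa using this
    apply no_index_two_of_fused P₂ ⟨(x : G) ^ (2 ^ (m + 1)), hVK⟩ ⟨(x : G) ^ (2 ^ (m + 1)), hVK⟩
      ⟨(x : G) * y, hXYK⟩ (IsConj.refl _) (hconjK _ hXYK hXYo) (hconjK _ hVXYK hVXYo)
    intro H hH
    have h1 : (⟨(x : G) * y, hXYK⟩ : ↥K) ∈ H :=
      hH _ ((hmemP₂ _).mpr (mul_mem x.2 y.2)) (hconjK _ hXYK hXYo)
    have h2 : (⟨(x : G) ^ 2 * ((x : G) * y), hX3YK⟩ : ↥K) ∈ H :=
      hH _ ((hmemP₂ _).mpr (mul_mem (pow_mem x.2 _) (mul_mem x.2 y.2))) (hconjK _ hX3YK hX3Yo)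
    have h3 : (⟨(x : G) ^ 2, hX2K⟩ : ↥K) ∈ H := by
      have := H.mul_mem h2 (H.inv_mem h1)
      have e : (⟨(x : G) ^ 2 * ((x : G) * y), hX3YK⟩ : ↥K) * (⟨(x : G) * y, hXYK⟩ : ↥K)⁻¹ =
          ⟨(x : G) ^ 2, hX2K⟩ := Subtype.ext (by simp only [Subgroup.coe_mul, Subgroup.coe_inv]; group)
      rwa [e] at this
    intro c hc
    have hcS : (c : G) ∈ K ⊓ (S : Subgroup G) := mem_inf.mpr ⟨c.2, (hmemP₂ c).mp hc⟩
    rw [hinf, hMeq] at hcS
    have hc' : c ∈ zpowers (⟨(x : G) ^ 2, hX2K⟩ : ↥K) ⊔ zpowers (⟨(x : G) * y, hXYK⟩ : ↥K) :=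
      (mem_sup_zpowers_val_iff K _ _ c).mp hcS
    exact (sup_le (zpowers_le.mpr h3) (zpowers_le.mpr h1)) hc'

/-- if `z ≁ y` then `Z(S)` is weakly closed in `S` -/
theorem IsQD.center_weaklyClosed (h : IsQD ↥(S : Subgroup G) m x y)
    (hn1 : ¬ IsConj ((x : G) ^ (2 ^ (m + 2))) (y : G)) :
    Cfsg.IsWeaklyClosed ((Subgroup.center ↥(S : Subgroup G)).map (S : Subgroup G).subtype)
      (S : Subgroup G) := by
  have hW : (Subgroup.center ↥(S : Subgroup G)).map (S : Subgroup G).subtype =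
      zpowers ((x : G) ^ (2 ^ (m + 2))) := by
    rw [h.center_eq, ← zpowers_val]; simp
  rw [hW]
  refine ⟨zpowers_le.mpr (pow_mem x.2 _), ?_⟩
  intro g hg
  rw [MonoidHom.map_zpowers] at hg ⊢
  simp only [MulEquiv.coe_toMonoidHom, MulAut.conj_apply] at hg ⊢
  have hgS : g * (x : G) ^ (2 ^ (m + 2)) * g⁻¹ ∈ (S : Subgroup G) := hg (mem_zpowers _)
  have ho : orderOf (g * (x : G) ^ (2 ^ (m + 2)) * g⁻¹) = 2 := by
    have := (MulAut.conj g).orderOf_eq ((x : G) ^ (2 ^ (m + 2)))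
    rw [MulAut.conj_apply] at this
    rw [this, h.z_orderOf_val]
  rcases h.invol_cases_val _ hgS ho with e | ⟨k, e⟩
  · rw [e]
  · exfalso
    apply hn1
    exact (isConj_iff.mpr ⟨g, e⟩).trans (h.isConj_y_val k).symm

end sylow

/-- involutions of `S` lie in the dihedral maximal subgroup -/
theorem IsQD.invol_mem_D {S : Type*} [Group S] {m : ℕ} {x y : S} (h : IsQD S m x y) (a : S)
    (ho : orderOf a = 2) : a ∈ zpowers (x ^ 2) ⊔ zpowers y := by
  by_cases hax : a ∈ zpowers x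
  · rw [h.eq_z_of_orderOf_two a hax ho]
    exact mem_sup_left h.z_mem_sq
  · obtain ⟨i, hi | hi⟩ := h.cover a
    · exact absurd (hi ▸ pow_mem (mem_zpowers x) i) hax
    · rcases Nat.even_or_odd' i with ⟨l, rfl | rfl⟩
      · rw [hi, pow_mul]
        exact mul_mem (mem_sup_left (pow_mem (mem_zpowers _) l)) (mem_sup_right (mem_zpowers y))
      · exfalso
        have := h.orderOf_xy_odd l
        rw [← hi, ho] at this
        omega

section sylow2

variable {G : Type*} [Group G] [Finite G] {S : Sylow 2 G} {m : ℕ} {x y : ↥(S : Subgroup G)}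

/-- **Pattern `z ∼ y`, `v ≁ xy`**. -/
theorem IsQD.mixed_dihedral (h : IsQD ↥(S : Subgroup G) m x y)
    (hc1 : IsConj ((x : G) ^ (2 ^ (m + 2))) (y : G))
    (hn2 : ¬ IsConj ((x : G) ^ (2 ^ (m + 1))) ((x : G) * y)) :
    ∃ K : Subgroup G, K.Normal ∧ K.index = 2 ∧
      (∀ P : Sylow 2 ↥K, ∃ m' : ℕ, Nonempty ((P : Subgroup ↥K) ≃* DihedralGroup m')) ∧
      (∀ H : Subgroup ↥K, H.index ≠ 2) := by
  have : Fact (Nat.Prime 2) := ⟨Nat.prime_two⟩
  have hq2 : ((x : G) * y) * ((x : G) * y) = (x : G) ^ (2 ^ (m + 2)) := by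
    simpa using congrArg Subtype.val h.xy_mul_self
  have hZZ : (x : G) ^ (2 ^ (m + 2)) * (x : G) ^ (2 ^ (m + 2)) = 1 := by
    simpa using congrArg Subtype.val h.z_mul_self
  have hXYo : orderOf ((x : G) * y) = 4 := by
    have := h.orderOf_xy_odd 0
    rw [← Subgroup.orderOf_coe] at this
    simpa using this
  -- powers of `xy`
  have hpow_even : ∀ l : ℕ, ((x : G) * y) ^ (2 * l) = 1 ∨
      ((x : G) * y) ^ (2 * l) = (x : G) ^ (2 ^ (m + 2)) := by
    intro l
    rw [pow_mul, pow_two, hq2]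
    rcases Nat.even_or_odd' l with ⟨i, rfl | rfl⟩
    · left; rw [pow_mul, pow_two, hZZ, one_pow]
    · right; rw [pow_succ, pow_mul, pow_two, hZZ, one_pow, one_mul]
  obtain ⟨K, hKn, hKi, hXYK⟩ := exists_normal_index_two_of_transfer S
    (zpowers (x ^ 2) ⊔ zpowers y) h.index_D ((x : G) * y) (mul_mem x.2 y.2)
    (by
      intro j g hg hj hmem
      have hcop : (orderOf ((x : G) * y)).Coprime j := by
        rw [hXYo, show 4 = 2 ^ 2 by norm_num]
        exact Nat.Coprime.pow_left 2 (Nat.coprime_two_left.mpr hj)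
      have ho : orderOf (g⁻¹ * ((x : G) * y) ^ j * g) = 4 := by
        have := (MulAut.conj g⁻¹).orderOf_eq (((x : G) * y) ^ j)
        rw [MulAut.conj_apply, inv_inv] at this
        rw [this, hcop.orderOf_pow, hXYo]
      -- `xy` is conjugate to a power of the conjugate
      have hback : ∃ i : ℕ, IsConj ((g⁻¹ * ((x : G) * y) ^ j * g) ^ i) ((x : G) * y) := by
        obtain ⟨i, -, hi⟩ := Nat.exists_mul_mod_eq_one_of_coprime hcop.symm (by rw [hXYo]; norm_num)
        refine ⟨i, ?_⟩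
        have e1 : (g⁻¹ * ((x : G) * y) ^ j * g) ^ i = g⁻¹ * (((x : G) * y) ^ j) ^ i * g := by
          have := conj_pow (a := g⁻¹) (b := ((x : G) * y) ^ j) (i := i)
          rwa [inv_inv] at this
        rw [e1, ← pow_mul]
        have : ((x : G) * y) ^ (j * i) = (x : G) * y := by
          rw [← pow_mod_orderOf, hi, pow_one]
        rw [this]
        exact isConj_iff.mpr ⟨g, by group⟩
      obtain ⟨i, hi⟩ := hback
      rcases h.four_cases_val _ hg ho with e | e | ⟨l, e⟩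
      · -- conjugate equals `v`
        apply hn2
        rw [e] at hi
        have hio : orderOf (((x : G) ^ (2 ^ (m + 1))) ^ i) = 4 := by
          rw [← hXYo]
          obtain ⟨c, hc⟩ := isConj_iff.mp hi
          have := (MulAut.conj c).orderOf_eq (((x : G) ^ (2 ^ (m + 1))) ^ i)
          rw [MulAut.conj_apply, hc] at this
          exact this.symm
        rcases IsQD.mem_zpowers_four _ _ h.v_orderOf_val (pow_mem (mem_zpowers _) i) with
          e' | e' | e' | e'
        · rw [e', orderOf_one] at hio; omega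
        · rw [e'] at hi; exact hi
        · exfalso
          rw [e'] at hio
          have h2 : (((x : G) ^ (2 ^ (m + 1))) ^ 2) ^ 2 = 1 := by
            have e4 : (((x : G) ^ (2 ^ (m + 1))) ^ 2) ^ 2 = ((x : G) ^ (2 ^ (m + 1))) ^ 4 := by
              rw [← pow_mul]
            rw [e4, ← h.v_orderOf_val]; exact pow_orderOf_eq_one _
          have := Nat.le_of_dvd (by norm_num) (orderOf_dvd_of_pow_eq_one h2)
          omega
        · rw [e'] at hi; exact h.isConj_v_inv_val.trans hi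
      · apply hn2
        rw [e] at hi
        have hio : orderOf ((((x : G) ^ (2 ^ (m + 1)))⁻¹) ^ i) = 4 := by
          rw [← hXYo]
          obtain ⟨c, hc⟩ := isConj_iff.mp hi
          have := (MulAut.conj c).orderOf_eq ((((x : G) ^ (2 ^ (m + 1)))⁻¹) ^ i)
          rw [MulAut.conj_apply, hc] at this
          exact this.symm
        rcases IsQD.mem_zpowers_four _ _ h.v_orderOf_val
          (pow_mem (inv_mem (mem_zpowers _)) i) with e' | e' | e' | e'
        · rw [e', orderOf_one] at hio; omega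
        · rw [e'] at hi; exact hi
        · exfalso
          rw [e'] at hio
          have h2 : (((x : G) ^ (2 ^ (m + 1))) ^ 2) ^ 2 = 1 := by
            have e4 : (((x : G) ^ (2 ^ (m + 1))) ^ 2) ^ 2 = ((x : G) ^ (2 ^ (m + 1))) ^ 4 := by
              rw [← pow_mul]
            rw [e4, ← h.v_orderOf_val]; exact pow_orderOf_eq_one _
          have := Nat.le_of_dvd (by norm_num) (orderOf_dvd_of_pow_eq_one h2)
          omega
        · rw [e'] at hi; exact h.isConj_v_inv_val.trans hi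
      · -- odd power of `x` times `y` is not in `D`
        have h1 : (⟨_, hg⟩ : ↥(S : Subgroup G)) = x ^ (2 * l + 1) * y :=
          Subtype.ext (by simpa using e)
        rw [h1] at hmem
        have := h.even_of_mem_D _ hmem
        rcases this with ⟨r, hr⟩
        omega)
    (by
      intro j g hg hj
      obtain ⟨l, rfl⟩ := hj
      have e0 : ((x : G) * y) ^ (l + l) = ((x : G) * y) ^ (2 * l) := by rw [two_mul]
      rcases hpow_even l with e | e
      · have : (⟨_, hg⟩ : ↥(S : Subgroup G)) = 1 := Subtype.ext (by simp [e0, e])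
        rw [this]; exact one_mem _
      · apply h.invol_mem_D
        rw [← Subgroup.orderOf_coe]
        simp only [e0, e]
        have := (MulAut.conj g⁻¹).orderOf_eq ((x : G) ^ (2 ^ (m + 2)))
        rw [MulAut.conj_apply, inv_inv] at this
        rw [this, h.z_orderOf_val])
  have hX2K : (x : G) ^ 2 ∈ K := sq_mem_of_index_two hKi _
  have hZK : (x : G) ^ (2 ^ (m + 2)) ∈ K := by
    have := sq_mem_of_index_two hKi ((x : G) ^ (2 ^ (m + 1)))
    rwa [← pow_mul, show 2 ^ (m + 1) * 2 = 2 ^ (m + 2) by ring] at this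
  have hYK : (y : G) ∈ K := by
    obtain ⟨c, hc⟩ := isConj_iff.mp hc1
    rw [← hc]; exact hKn.conj_mem _ hZK c
  have hXK : (x : G) ∉ K := fun hx => hXYK (mul_mem hx hYK)
  have hMeq : (zpowers (x ^ 2) ⊔ zpowers y).map (S : Subgroup G).subtype =
      zpowers ((x : G) ^ 2) ⊔ zpowers (y : G) := by
    rw [← sup_zpowers_val]; simp
  have hMK : (zpowers (x ^ 2) ⊔ zpowers y).map (S : Subgroup G).subtype ≤ K := by
    rw [hMeq]
    exact sup_le (zpowers_le.mpr hX2K) (zpowers_le.mpr hYK)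
  have hinf := inf_sylow_eq_of_index_two (S : Subgroup G) K _ h.index_D hMK ((x : G) * y)
    (mul_mem x.2 y.2) hXYK
  obtain ⟨P₂, hP₂⟩ := exists_sylow_eq_inf_subgroupOf S K
  have hmemP₂ : ∀ a : ↥K, a ∈ (P₂ : Subgroup ↥K) ↔ (a : G) ∈ (S : Subgroup G) := by
    intro a
    rw [hP₂, mem_subgroupOf, mem_inf]
    exact ⟨fun h => h.2, fun h => ⟨a.2, h⟩⟩
  refine ⟨K, hKn, hKi, ?_, ?_⟩
  · intro P
    obtain ⟨e0⟩ := h.dihedral_iso
    refine ⟨2 ^ (m + 2), ⟨?_⟩⟩
    exact (Sylow.equiv P P₂).trans ((MulEquiv.subgroupCongr hP₂).trans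
      ((Subgroup.subgroupOfEquivOfLe inf_le_left).trans ((MulEquiv.subgroupCongr hinf).trans
        (((zpowers (x ^ 2) ⊔ zpowers y).equivMapOfInjective _
          (S : Subgroup G).subtype_injective).symm.trans e0))))
  · have hXZ : (x : G) * (x : G) ^ (2 ^ (m + 2)) * (x : G)⁻¹ = (x : G) ^ (2 ^ (m + 2)) := by group
    have hconjK : ∀ (a : G) (haK : a ∈ K), orderOf a = 2 →
        IsConj (⟨(x : G) ^ (2 ^ (m + 2)), hZK⟩ : ↥K) ⟨a, haK⟩ := by
      intro a haK ho
      obtain ⟨g, hg⟩ := isConj_iff.mp (h.invol_isConj_z hc1 a ho).symm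
      by_cases hgK : g ∈ K
      · exact isConj_iff.mpr ⟨⟨g, hgK⟩, Subtype.ext (by simpa using hg)⟩
      · have hgX : g * x ∈ K := by
          rw [mul_mem_iff_of_index_two hKi]
          exact ⟨fun h => absurd h hgK, fun h => absurd h hXK⟩
        refine isConj_iff.mpr ⟨⟨g * x, hgX⟩, Subtype.ext ?_⟩
        simp only [Subgroup.coe_mul, Subgroup.coe_inv]
        calc g * x * (x : G) ^ (2 ^ (m + 2)) * (g * x)⁻¹
            = g * ((x : G) * (x : G) ^ (2 ^ (m + 2)) * (x : G)⁻¹) * g⁻¹ := by group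
          _ = a := by rw [hXZ, hg]
    have hYo : orderOf (y : G) = 2 := by rw [Subgroup.orderOf_coe]; exact h.hy
    have hZYK : (x : G) ^ (2 ^ (m + 2)) * y ∈ K := mul_mem hZK hYK
    have hZYo : orderOf ((x : G) ^ (2 ^ (m + 2)) * y) = 2 := by
      have := h.orderOf_xy_even (2 ^ (m + 1))
      rw [← Subgroup.orderOf_coe] at this
      have e : (x : G) ^ (2 ^ (m + 2)) * y = (x : G) ^ (2 * 2 ^ (m + 1)) * y := by
        congr 2; ring
      rw [e]; simpa using this
    have hX2YK : (x : G) ^ 2 * y ∈ K := mul_mem hX2K hYK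
    have hX2Yo : orderOf ((x : G) ^ 2 * y) = 2 := by
      have := h.orderOf_xy_even 1
      rw [← Subgroup.orderOf_coe] at this
      simpa using this
    apply no_index_two_of_fused P₂ ⟨(x : G) ^ (2 ^ (m + 2)), hZK⟩ ⟨(x : G) ^ (2 ^ (m + 2)), hZK⟩
      ⟨(y : G), hYK⟩ (IsConj.refl _) (hconjK _ hYK hYo) (hconjK _ hZYK hZYo)
    intro H hH
    have h1 : (⟨(y : G), hYK⟩ : ↥K) ∈ H := hH _ ((hmemP₂ _).mpr y.2) (hconjK _ hYK hYo)
    have h2 : (⟨(x : G) ^ 2 * y, hX2YK⟩ : ↥K) ∈ H :=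
      hH _ ((hmemP₂ _).mpr (mul_mem (pow_mem x.2 _) y.2)) (hconjK _ hX2YK hX2Yo)
    have h3 : (⟨(x : G) ^ 2, hX2K⟩ : ↥K) ∈ H := by
      have := H.mul_mem h2 (H.inv_mem h1)
      have e : (⟨(x : G) ^ 2 * y, hX2YK⟩ : ↥K) * (⟨(y : G), hYK⟩ : ↥K)⁻¹ =
          ⟨(x : G) ^ 2, hX2K⟩ :=
        Subtype.ext (by simp only [Subgroup.coe_mul, Subgroup.coe_inv]; group)
      rwa [e] at this
    intro c hc
    have hcS : (c : G) ∈ K ⊓ (S : Subgroup G) := mem_inf.mpr ⟨c.2, (hmemP₂ c).mp hc⟩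
    rw [hinf, hMeq] at hcS
    have hc' : c ∈ zpowers (⟨(x : G) ^ 2, hX2K⟩ : ↥K) ⊔ zpowers (⟨(y : G), hYK⟩ : ↥K) :=
      (mem_sup_zpowers_val_iff K _ _ c).mp hcS
    exact (sup_le (zpowers_le.mpr h3) (zpowers_le.mpr h1)) hc'

end sylow2

end Cfsg.Agent.Lib.Helper18
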