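import Mathlib
import Cfsg.Prelude
import Cfsg.Agent.Lib.Helper18.QDMixed
import Cfsg.Agent.Lib.Helper18.QDFusion
import Cfsg.Agent.Lib.Helper18.SylowTransport

/-!
# Centralizers of involutions in groups with quasi-dihedral Sylow 2-subgroups and no subgroup of
index 2

In a group without subgroups of index two both fusions `z ∼ y` and `v ∼ xy` hold; inside the
centralizer of the central involution `z` the pattern becomes `z ≁ y`, `v ∼ xy`.
-/

set_option autoImplicit false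

namespace Cfsg.Agent.Lib.Helper18

open Subgroup

section sylow

variable {G : Type*} [Group G] [Finite G] {S : Sylow 2 G} {m : ℕ} {x y : ↥(S : Subgroup G)}

/-- if `z ≁ y` then `G` has a subgroup of index two -/
theorem IsQD.exists_index_two_of_not_isConj (h : IsQD ↥(S : Subgroup G) m x y)
    (hn1 : ¬ IsConj ((x : G) ^ (2 ^ (m + 2))) (y : G)) : ∃ K : Subgroup G, K.index = 2 := by
  have hYY := h.y_mul_self_val
  have hYpow : ∀ j : ℕ, Odd j → (y : G) ^ j = y := by
    rintro j ⟨l, rfl⟩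
    rw [pow_succ, pow_mul, pow_two, hYY, one_pow, one_mul]
  have hYpow' : ∀ j : ℕ, Even j → (y : G) ^ j = 1 := by
    rintro j ⟨l, rfl⟩
    rw [← two_mul, pow_mul, pow_two, hYY, one_pow]
  obtain ⟨K, -, hKi, -⟩ := exists_normal_index_two_of_transfer S
    (zpowers (x ^ 2) ⊔ zpowers (x * y)) h.index_Q (y : G) y.2
    (by
      intro j g hg hj hmem
      have hval : g⁻¹ * (y : G) ^ j * g = g⁻¹ * y * g := by rw [hYpow j hj]
      have ho : orderOf (⟨_, hg⟩ : ↥(S : Subgroup G)) = 2 := by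
        rw [← Subgroup.orderOf_coe]
        simp only [hval]
        have := (MulAut.conj g⁻¹).orderOf_eq (y : G)
        rw [MulAut.conj_apply, inv_inv] at this
        rw [this, Subgroup.orderOf_coe, h.hy]
      have h1 := congrArg Subtype.val (h.invol_mem_Q _ hmem ho)
      simp only [hval, Subgroup.coe_pow] at h1
      apply hn1
      rw [isConj_iff]
      exact ⟨g, by rw [← h1]; group⟩)
    (by
      intro j g hg hj
      have : (⟨_, hg⟩ : ↥(S : Subgroup G)) = 1 := Subtype.ext (by simp [hYpow' j hj])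
      rw [this]; exact one_mem _)
  exact ⟨K, hKi⟩

/-- in a group without subgroups of index two both fusions hold -/
theorem IsQD.fusion_of_no_index_two (h : IsQD ↥(S : Subgroup G) m x y)
    (hG : ∀ H : Subgroup G, H.index ≠ 2) :
    IsConj ((x : G) ^ (2 ^ (m + 2))) (y : G) ∧
      IsConj ((x : G) ^ (2 ^ (m + 1))) ((x : G) * y) := by
  have hc1 : IsConj ((x : G) ^ (2 ^ (m + 2))) (y : G) := by
    by_contra hn1
    obtain ⟨K, hK⟩ := h.exists_index_two_of_not_isConj hn1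
    exact hG K hK
  refine ⟨hc1, ?_⟩
  by_contra hn2
  obtain ⟨K, -, hK, -⟩ := h.mixed_dihedral hc1 hn2
  exact hG K hK

/-- the quaternion pattern, when the central involution of `S` is central in `G` -/
theorem IsQD.quat_case_of_central (h : IsQD ↥(S : Subgroup G) m x y)
    (hcen : ∀ d : G, d * (x : G) ^ (2 ^ (m + 2)) = (x : G) ^ (2 ^ (m + 2)) * d)
    (hc2 : IsConj ((x : G) ^ (2 ^ (m + 1))) ((x : G) * y)) :
    (∃ K : Subgroup G, K.Normal ∧ (∃ a : ℕ, K.index = 2 ^ a) ∧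
      (∀ H : Subgroup ↥K, H.index ≠ 2) ∧
      (∀ P : Sylow 2 ↥K, ∃ m' : ℕ, 1 ≤ m' ∧
        Nonempty ((P : Subgroup ↥K) ≃* QuaternionGroup (2 ^ m')))) ∧
    (∀ Z₀ : Subgroup G, Z₀ ≤ (Subgroup.center ↥(S : Subgroup G)).map (S : Subgroup G).subtype →
      Cfsg.IsWeaklyClosed Z₀ (S : Subgroup G)) := by
  have hn1 : ¬ IsConj ((x : G) ^ (2 ^ (m + 2))) (y : G) := by
    intro hc
    obtain ⟨g, hg⟩ := isConj_iff.mp hc
    rw [hcen g, mul_inv_cancel_right] at hg
    apply h.y_ne_z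
    apply Subtype.ext
    rw [← hg]; simp
  obtain ⟨K, hKn, hKi, hKq, hK2⟩ := h.mixed_quaternion hn1 hc2
  refine ⟨⟨K, hKn, ⟨1, by rw [hKi, pow_one]⟩, hK2, hKq⟩, ?_⟩
  intro Z₀ hZ₀
  have hZS : Z₀ ≤ (S : Subgroup G) := by
    intro a ha
    obtain ⟨a', -, rfl⟩ := hZ₀ ha
    exact a'.2
  refine ⟨hZS, fun g _ => ?_⟩
  have key : ∀ a ∈ Z₀, g * a * g⁻¹ = a := by
    intro a ha
    obtain ⟨a', ha', rfl⟩ := hZ₀ ha
    rw [h.center_eq] at ha'
    obtain ⟨i, rfl⟩ := mem_zpowers_iff.mp ha'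
    have e : (S : Subgroup G).subtype ((x ^ (2 ^ (m + 2))) ^ i) =
        ((x : G) ^ (2 ^ (m + 2))) ^ i := by simp
    rw [e]
    have hc : Commute g ((x : G) ^ (2 ^ (m + 2))) := hcen g
    rw [(hc.zpow_right i).eq, mul_inv_cancel_right]
  ext b
  constructor
  · rintro ⟨a, ha, rfl⟩
    simp only [MulEquiv.coe_toMonoidHom, MulAut.conj_apply]
    rw [key a ha]; exact ha
  · intro hb
    exact ⟨b, hb, by simp [key b hb]⟩

/-- **Centralizer of the central involution** in a group without subgroups of index two. -/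
theorem IsQD.centralizer_case (h : IsQD ↥(S : Subgroup G) m x y)
    (hG : ∀ H : Subgroup G, H.index ≠ 2) (t : G) (ht : t = (x : G) ^ (2 ^ (m + 2))) :
    ∃ R : Sylow 2 ↥(centralizer ({t} : Set G)), Nat.card R = Nat.card S ∧
      (∃ K : Subgroup ↥(centralizer ({t} : Set G)), K.Normal ∧ (∃ a : ℕ, K.index = 2 ^ a) ∧
        (∀ H : Subgroup ↥K, H.index ≠ 2) ∧
        (∀ P : Sylow 2 ↥K, ∃ m' : ℕ, 1 ≤ m' ∧
          Nonempty ((P : Subgroup ↥K) ≃* QuaternionGroup (2 ^ m')))) ∧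
      (∀ Z₀ : Subgroup ↥(centralizer ({t} : Set G)),
        Z₀ ≤ (Subgroup.center (R : Subgroup ↥(centralizer ({t} : Set G)))).map
          (R : Subgroup ↥(centralizer ({t} : Set G))).subtype →
        Cfsg.IsWeaklyClosed Z₀ (R : Subgroup ↥(centralizer ({t} : Set G)))) := by
  have hzc : ∀ s ∈ (S : Subgroup G), s * (x : G) ^ (2 ^ (m + 2)) = (x : G) ^ (2 ^ (m + 2)) * s := by
    intro s hs
    have := congrArg Subtype.val (h.z_central ⟨s, hs⟩)
    simpa using this
  have hle : (S : Subgroup G) ≤ centralizer ({t} : Set G) := by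
    intro s hs
    rw [mem_centralizer_singleton_iff, ht]
    exact hzc s hs
  have ĥ := h.map_equiv (sylowSubtypeEquiv S hle)
  obtain ⟨-, hc2⟩ := h.fusion_of_no_index_two hG
  obtain ⟨g, hg⟩ := isConj_iff.mp hc2
  have hv2 : ((x : G) ^ (2 ^ (m + 1))) ^ 2 = (x : G) ^ (2 ^ (m + 2)) := by
    have := congrArg Subtype.val h.v_sq
    simpa using this
  have hq2 : ((x : G) * y) * ((x : G) * y) = (x : G) ^ (2 ^ (m + 2)) := by
    simpa using congrArg Subtype.val h.xy_mul_self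
  have hgz : g * (x : G) ^ (2 ^ (m + 2)) = (x : G) ^ (2 ^ (m + 2)) * g := by
    have e : g * (x : G) ^ (2 ^ (m + 2)) * g⁻¹ = (x : G) ^ (2 ^ (m + 2)) := by
      calc g * (x : G) ^ (2 ^ (m + 2)) * g⁻¹
          = (g * (x : G) ^ (2 ^ (m + 1)) * g⁻¹) * (g * (x : G) ^ (2 ^ (m + 1)) * g⁻¹) := by
            rw [← hv2]; group
        _ = _ := by rw [hg, hq2]
    calc g * (x : G) ^ (2 ^ (m + 2)) = g * (x : G) ^ (2 ^ (m + 2)) * g⁻¹ * g := by group
      _ = _ := by rw [e]
  refine ⟨S.subtype hle, card_sylow_subtype S hle, ?_⟩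
  apply ĥ.quat_case_of_central
  · intro d
    apply Subtype.ext
    have := mem_centralizer_singleton_iff.mp d.2
    simp only [Subgroup.coe_mul, Subgroup.coe_pow, sylowSubtypeEquiv_coe]
    rw [← ht]; exact this
  · rw [isConj_iff]
    refine ⟨⟨g, mem_centralizer_singleton_iff.mpr (by rw [ht]; exact hgz)⟩, Subtype.ext ?_⟩
    simp only [Subgroup.coe_mul, Subgroup.coe_pow, Subgroup.coe_inv, sylowSubtypeEquiv_coe]
    exact hg

end sylow

end Cfsg.Agent.Lib.Helper18
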