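import Mathlib
import Cfsg.Prelude
import Cfsg.Agent.Lib.Helper18.QDLocal
import Cfsg.Agent.Lib.Helper18.WrIndices

/-!
# Quasi-dihedral Sylow 2-subgroups: the local indices are 2 or 6

`|N_G(T) : C_G(T)| ∈ {2, 6}` for a four-subgroup `T` of `S` (via `Aut(T) ≅ S₃`) and
`|N_G(Q) : Q C_G(Q)| ∈ {2, 6}` for a quaternion subgroup `Q` of order 8 of `S` (via counting).
-/

set_option autoImplicit false

namespace Cfsg.Agent.Lib.Helper18

open Subgroup

/-- the automorphism group of a four-group has order 6 -/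
theorem card_mulAut_kleinFour (T : Type*) [Group T] [IsKleinFour T] : Nat.card (MulAut T) = 6 := by
  obtain ⟨e⟩ := IsKleinFour.nonempty_mulEquiv (G₁ := T) (G₂ := DihedralGroup 2)
  rw [Nat.card_congr (MulAut.congr e).toEquiv, Nat.card_eq_fintype_card]
  decide

/-- `|N_G(T) : C_G(T)|` divides 6 for a four-subgroup `T` -/
theorem relIndex_kleinFour_dvd {G : Type*} [Group G] (T : Subgroup G) (hT : IsKleinFour T) :
    (centralizer (T : Set G)).relIndex (normalizer (T : Set G)) ∣ 6 := by
  have key := Subgroup.card_dvd_of_injective _ (QuotientGroup.kerLift_injective T.normalizerMonoidHom)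
  rw [normalizerMonoidHom_ker, ← index, ← relIndex, card_mulAut_kleinFour] at key
  exact key

theorem two_or_six_of_dvd (n : ℕ) (h2 : 2 ∣ n) (h6 : n ∣ 6) : n = 2 ∨ n = 6 := by
  have hle : n ≤ 6 := Nat.le_of_dvd (by norm_num) h6
  interval_cases n <;> simp_all

section abstractQuat

variable {G : Type*} [Group G]

/-- elements of odd order normalizing `Q = ⟨V, q⟩` and `⟨V⟩` centralize `Q` -/
theorem mem_centralizer_quat_of_odd (V q : G) (hV : orderOf V = 4) (hqn : q ∉ zpowers V)
    (Q : Subgroup G) (hQ : Q = zpowers V ⊔ zpowers q)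
    (hmem : ∀ a, a ∈ Q ↔ a ∈ zpowers V ∨ q⁻¹ * a ∈ zpowers V)
    (d : G) (hdQ : d ∈ normalizer (Q : Set G)) (hdV : d * V * d⁻¹ ∈ zpowers V)
    (hd0 : orderOf d ≠ 0) (hodd : Odd (orderOf d)) : d ∈ centralizer (Q : Set G) := by
  have hV4 : V ^ 4 = 1 := by rw [← hV]; exact pow_orderOf_eq_one V
  have ho : orderOf (d * V * d⁻¹) = 4 := by
    have := (MulAut.conj d).orderOf_eq V
    rw [MulAut.conj_apply] at this
    rw [this, hV]
  have h1 : d * V * d⁻¹ = V ∨ d * V * d⁻¹ = V⁻¹ := by
    rcases IsQD.mem_zpowers_four V _ hV hdV with e | e | e | e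
    · rw [e, orderOf_one] at ho; omega
    · left; exact e
    · exfalso
      rw [e] at ho
      have h22 : (V ^ 2) ^ 2 = 1 := by rw [← pow_mul]; exact hV4
      have := orderOf_dvd_of_pow_eq_one h22
      rw [ho] at this
      omega
    · right; exact e
  have h2 : d ^ 2 ∈ centralizer ({V} : Set G) := by
    rw [mem_centralizer_singleton_iff]
    rcases h1 with e | e
    · have c : Commute d V := by
        show d * V = V * d
        calc d * V = d * V * d⁻¹ * d := by group
          _ = V * d := by rw [e]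
      exact (c.pow_left 2).eq
    · have e2 : d * V⁻¹ * d⁻¹ = V := by
        calc d * V⁻¹ * d⁻¹ = (d * V * d⁻¹)⁻¹ := by group
          _ = V := by rw [e, inv_inv]
      calc d ^ 2 * V = d * d * V := by rw [pow_two]
        _ = d * (d * V * d⁻¹) * d⁻¹ * (d * d) := by group
        _ = d * V⁻¹ * d⁻¹ * (d * d) := by rw [e]
        _ = V * (d * d) := by rw [e2]
        _ = V * d ^ 2 := by rw [pow_two]
  have hcop : (orderOf d).Coprime 2 := Nat.coprime_two_right.mpr hodd
  have h3 : d ∈ centralizer ({V} : Set G) := mem_of_pow_mem_of_coprime _ d 2 hd0 h2 hcop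
  have hdVc : d * V = V * d := mem_centralizer_singleton_iff.mp h3
  have hqQ : q ∈ Q := by rw [hQ]; exact mem_sup_right (mem_zpowers q)
  have h4 : d * q * d⁻¹ ∈ Q := (mem_normalizer_iff.mp hdQ q).mp hqQ
  rcases (hmem _).mp h4 with h5 | h5
  · exfalso; apply hqn
    obtain ⟨i, hi⟩ := mem_zpowers_iff.mp h5
    have c : Commute d (V ^ i) := (show Commute d V from hdVc).zpow_right i
    have : q = V ^ i := by
      calc q = d⁻¹ * (d * q * d⁻¹) * d := by group
        _ = d⁻¹ * V ^ i * d := by rw [← hi]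
        _ = d⁻¹ * (V ^ i * d) := by rw [mul_assoc]
        _ = d⁻¹ * (d * V ^ i) := by rw [c.eq]
        _ = V ^ i := by group
    rw [this]; exact zpow_mem (mem_zpowers V) i
  · obtain ⟨i, hi⟩ := mem_zpowers_iff.mp h5
    have e : d * q * d⁻¹ = q * V ^ i := by rw [hi]; group
    have hpow : ∀ j : ℕ, d ^ j * q * (d ^ j)⁻¹ = q * (V ^ i) ^ j := by
      intro j
      induction j with
      | zero => simp
      | succ j ih =>
        have c : Commute d ((V ^ i) ^ j) :=
          ((show Commute d V from hdVc).zpow_right i).pow_right j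
        calc d ^ (j + 1) * q * (d ^ (j + 1))⁻¹ = d * (d ^ j * q * (d ^ j)⁻¹) * d⁻¹ := by
              rw [pow_succ']; group
          _ = d * (q * (V ^ i) ^ j) * d⁻¹ := by rw [ih]
          _ = (d * q * d⁻¹) * (d * (V ^ i) ^ j * d⁻¹) := by group
          _ = q * V ^ i * (V ^ i) ^ j := by rw [e, c.eq, mul_inv_cancel_right]
          _ = q * (V ^ i) ^ (j + 1) := by rw [pow_succ', mul_assoc]
    have h6 := hpow (orderOf d)
    rw [pow_orderOf_eq_one, inv_one, one_mul, mul_one] at h6
    have h7 : (V ^ i) ^ orderOf d = 1 := mul_eq_left.mp h6.symm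
    have h8 : (V ^ i) ^ 4 = 1 := by
      rw [← zpow_natCast, ← zpow_mul, mul_comm, zpow_mul, zpow_natCast, hV4, one_zpow]
    have h9 : V ^ i = 1 := by
      have d1 := orderOf_dvd_of_pow_eq_one h7
      have d2 := orderOf_dvd_of_pow_eq_one h8
      have hd : orderOf (V ^ i) ∣ Nat.gcd (orderOf d) 4 := Nat.dvd_gcd d1 d2
      have hg : Nat.gcd (orderOf d) 4 = 1 := by
        have := Nat.Coprime.pow_right 2 hcop
        simpa using this
      rw [hg] at hd
      exact orderOf_eq_one_iff.mp (Nat.dvd_one.mp hd)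
    rw [h9, mul_one] at e
    have hdq : d * q = q * d := by
      calc d * q = d * q * d⁻¹ * d := by group
        _ = q * d := by rw [e]
    rw [hQ]
    exact mem_centralizer_sup_zpowers d V q hdVc hdq

/-- `N_S(H)` is a Sylow 2-subgroup of `N_G(H)` when `G`-conjugates of `H` inside `S` are
`S`-conjugate to `H` -/
theorem not_two_dvd_relIndex_normalizer_of_conj [Finite G] (S : Sylow 2 G) (H : Subgroup G)
    (hHS : H ≤ (S : Subgroup G))
    (hconj : ∀ g : G, (∀ a ∈ H, g * a * g⁻¹ ∈ (S : Subgroup G)) →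
      ∃ s ∈ (S : Subgroup G), s⁻¹ * g ∈ normalizer (H : Set G)) :
    ¬ 2 ∣ ((S : Subgroup G) ⊓ normalizer (H : Set G)).relIndex (normalizer (H : Set G)) := by
  have : Fact (Nat.Prime 2) := ⟨Nat.prime_two⟩
  have hp : IsPGroup 2 ↥(((S : Subgroup G) ⊓ normalizer (H : Set G)).subgroupOf
      (normalizer (H : Set G))) := (S.2.to_le inf_le_left).comap_subtype
  obtain ⟨R, hR⟩ := hp.exists_le_sylow
  have hEq : (R : Subgroup ↥(normalizer (H : Set G))) =
      ((S : Subgroup G) ⊓ normalizer (H : Set G)).subgroupOf (normalizer (H : Set G)) := by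
    symm
    apply Subgroup.eq_of_le_of_card_ge hR
    have hRp : IsPGroup 2 ↥((R : Subgroup ↥(normalizer (H : Set G))).map
        (normalizer (H : Set G)).subtype) := R.2.map _
    obtain ⟨g, -, hg⟩ := Cfsg.Agent.Lib.Helper12.exists_conj_mem_sylow S ⊤ _ le_top le_top hRp
    have hVR : ∀ v ∈ H, v ∈ (R : Subgroup ↥(normalizer (H : Set G))).map
        (normalizer (H : Set G)).subtype := by
      intro v hv
      exact ⟨⟨v, le_normalizer hv⟩, hR (by
        rw [mem_subgroupOf]; exact mem_inf.mpr ⟨hHS hv, le_normalizer hv⟩), rfl⟩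
    obtain ⟨s, hsS, hk⟩ := hconj g (fun v hv => hg v (hVR v hv))
    have hle : ((R : Subgroup ↥(normalizer (H : Set G))).map
        (normalizer (H : Set G)).subtype).map
          (MulAut.conj (s⁻¹ * g)).toMonoidHom ≤
        (S : Subgroup G) ⊓ normalizer (H : Set G) := by
      rintro _ ⟨a, ha, rfl⟩
      simp only [MulEquiv.coe_toMonoidHom, MulAut.conj_apply]
      refine mem_inf.mpr ⟨?_, ?_⟩
      · have e : s⁻¹ * g * a * (s⁻¹ * g)⁻¹ = s⁻¹ * (g * a * g⁻¹) * s := by group
        rw [e]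
        exact mul_mem (mul_mem (inv_mem hsS) (hg a ha)) hsS
      · obtain ⟨b, -, rfl⟩ := ha
        exact (normalizer (H : Set G)).mul_mem (mul_mem hk b.2) (inv_mem hk)
    calc Nat.card ↥(R : Subgroup ↥(normalizer (H : Set G)))
        = Nat.card ↥((R : Subgroup ↥(normalizer (H : Set G))).map
            (normalizer (H : Set G)).subtype) :=
          Nat.card_congr ((R : Subgroup ↥(normalizer (H : Set G))).equivMapOfInjective _
            (normalizer (H : Set G)).subtype_injective).toEquiv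
      _ = Nat.card ↥(((R : Subgroup ↥(normalizer (H : Set G))).map
            (normalizer (H : Set G)).subtype).map
              (MulAut.conj (s⁻¹ * g)).toMonoidHom) :=
          Nat.card_congr (((R : Subgroup ↥(normalizer (H : Set G))).map
            (normalizer (H : Set G)).subtype).equivMapOfInjective _
              (MulAut.conj (s⁻¹ * g)).injective).toEquiv
      _ ≤ Nat.card ↥((S : Subgroup G) ⊓ normalizer (H : Set G)) := Subgroup.card_le_of_le hle
      _ = Nat.card ↥(((S : Subgroup G) ⊓ normalizer (H : Set G)).subgroupOf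
            (normalizer (H : Set G))) :=
          (Nat.card_congr (Subgroup.subgroupOfEquivOfLe inf_le_right).toEquiv).symm
  rw [relIndex, ← hEq]
  exact R.not_dvd_index

/-- abstract form of `|N_G(Q) : Q C_G(Q)| ∈ {2, 6}` for a quaternion group `Q = ⟨V, q⟩` -/
theorem quat_relIndex_two_or_six [Finite G] (V q r : G) (hV : orderOf V = 4)
    (hqV : q * V * q⁻¹ = V⁻¹) (hqq : q * q = V ^ 2) (hqn : q ∉ zpowers V)
    (Q : Subgroup G) (hQ : Q = zpowers V ⊔ zpowers q)
    (hmem : ∀ a, a ∈ Q ↔ a ∈ zpowers V ∨ q⁻¹ * a ∈ zpowers V)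
    (hrN : r ∈ normalizer (Q : Set G)) (hrr : r * r = V)
    (hrq : r * q * r⁻¹ = V * q ∨ r * q * r⁻¹ = V⁻¹ * q)
    (T : Subgroup G) (hTN : T ≤ normalizer (Q : Set G))
    (hTi : ¬ 2 ∣ T.relIndex (normalizer (Q : Set G)))
    (hT : ∀ c ∈ T, c ∈ Q ∨ r⁻¹ * c ∈ Q) :
    (Q ⊔ centralizer (Q : Set G)).relIndex (normalizer (Q : Set G)) = 2 ∨
      (Q ⊔ centralizer (Q : Set G)).relIndex (normalizer (Q : Set G)) = 6 := by
  have hV4 : V ^ 4 = 1 := by rw [← hV]; exact pow_orderOf_eq_one V
  have hV2 : V ^ 2 ≠ 1 := by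
    intro e
    have := orderOf_dvd_of_pow_eq_one e
    rw [hV] at this; omega
  have hVQ : V ∈ Q := by rw [hQ]; exact mem_sup_left (mem_zpowers V)
  have hqQ : q ∈ Q := by rw [hQ]; exact mem_sup_right (mem_zpowers q)
  have hVle : zpowers V ≤ Q := zpowers_le.mpr hVQ
  have hrV : r * V = V * r := by rw [← hrr, mul_assoc]
  have hqconj : ∀ i : ℤ, q * V ^ i * q⁻¹ = (V ^ i)⁻¹ := by
    intro i
    rw [← conj_zpow, hqV, inv_zpow]
  have hqNV : q ∈ normalizer ((zpowers V : Subgroup G) : Set G) := by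
    apply Cfsg.Agent.Lib.Helper17.mem_normalizer_of_forall_conj_mem
    intro a ha
    obtain ⟨i, rfl⟩ := mem_zpowers_iff.mp ha
    rw [hqconj]
    exact inv_mem (zpow_mem (mem_zpowers V) i)
  have hnormD : ∀ n ∈ normalizer (Q : Set G), ∀ d ∈ Q ⊔ centralizer (Q : Set G),
      n * d * n⁻¹ ∈ Q ⊔ centralizer (Q : Set G) := by
    intro n hn d hd
    obtain ⟨v, hv, c, hc, rfl⟩ := exists_of_mem_sup_centralizer _ _ hd
    have e : n * (v * c) * n⁻¹ = (n * v * n⁻¹) * (n * c * n⁻¹) := by group
    rw [e]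
    exact mul_mem (mem_sup_left ((mem_normalizer_iff.mp hn _).mp hv))
      (mem_sup_right (conj_mem_centralizer_of_normalizes _ n hn c hc))
  have hq4 : q ^ 4 = 1 := by
    calc q ^ 4 = (q * q) * (q * q) := by
          rw [show (4 : ℕ) = 2 + 2 from rfl, pow_add, pow_two]
      _ = 1 := by rw [hqq, ← pow_add]; exact hV4
  apply relIndex_two_or_six (Q ⊔ centralizer (Q : Set G))
    (normalizer (Q : Set G) ⊓ normalizer ((zpowers V : Subgroup G) : Set G))
    (normalizer (Q : Set G))
  · apply sup_le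
    · refine le_inf le_normalizer ?_
      rw [hQ]
      exact sup_le le_normalizer (zpowers_le.mpr hqNV)
    · apply le_inf (centralizer_le_normalizer _)
      exact (centralizer_le (show ((zpowers V : Subgroup G) : Set G) ⊆ Q from hVle)).trans
        (centralizer_le_normalizer _)
  · exact inf_le_left
  · apply relIndex_le_three _ _ (fun a => (zpowers V).map (MulAut.conj a).toMonoidHom)
      (zpowers V) (zpowers q) (zpowers (q * V))
    · intro a ha
      simp only [MonoidHom.map_zpowers, MulEquiv.coe_toMonoidHom, MulAut.conj_apply]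
      have hw : a * V * a⁻¹ ∈ Q := (mem_normalizer_iff.mp ha V).mp hVQ
      have ho : orderOf (a * V * a⁻¹) = 4 := by
        have := (MulAut.conj a).orderOf_eq V
        rw [MulAut.conj_apply] at this
        rw [this, hV]
      rcases (hmem _).mp hw with h1 | h1
      · left
        rcases IsQD.mem_zpowers_four V _ hV h1 with e | e | e | e
        · rw [e, orderOf_one] at ho; omega
        · rw [e]
        · exfalso
          rw [e] at ho
          have h22 : (V ^ 2) ^ 2 = 1 := by rw [← pow_mul]; exact hV4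
          have := orderOf_dvd_of_pow_eq_one h22
          rw [ho] at this; omega
        · rw [e, zpowers_inv]
      · right
        have hw' : a * V * a⁻¹ = q * (q⁻¹ * (a * V * a⁻¹)) := by group
        rcases IsQD.mem_zpowers_four V _ hV h1 with e | e | e | e
        · left
          rw [hw', e, mul_one]
        · right
          rw [hw', e]
        · left
          rw [hw', e, ← hqq]
          have : q * (q * q) = q⁻¹ := by
            apply eq_inv_of_mul_eq_one_left
            calc q * (q * q) * q = q ^ 4 := by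
                  rw [show (4 : ℕ) = 2 + 2 from rfl, pow_add, pow_two]
                  simp only [mul_assoc]
              _ = 1 := hq4
          rw [this, zpowers_inv]
        · right
          rw [hw', e]
          have : q * V⁻¹ = (q * V)⁻¹ := by
            apply eq_inv_of_mul_eq_one_left
            have e1 : V⁻¹ * q = q * V := by
              have := hqV
              calc V⁻¹ * q = (q * V * q⁻¹) * q := by rw [hqV]
                _ = q * V := by group
            calc q * V⁻¹ * (q * V) = q * (V⁻¹ * q) * V := by group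
              _ = q * (q * V) * V := by rw [e1]
              _ = (q * q) * (V * V) := by group
              _ = 1 := by rw [hqq, ← pow_two, ← pow_add]; exact hV4
          rw [this, zpowers_inv]
    · intro a ha b hb e
      exact mem_inf.mpr ⟨mul_mem (inv_mem ha) hb,
        mem_normalizer_of_map_conj_eq (zpowers V) _ b a rfl e⟩
  · intro d hd r' k hr hr2 hk
    obtain ⟨hdN, hdV⟩ := mem_inf.mp hd
    apply mem_sup_right
    apply mem_centralizer_quat_of_odd V q hV hqn Q hQ hmem d hdN
      ((mem_normalizer_iff.mp hdV V).mp (mem_zpowers V)) (orderOf_pos d).ne'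
    rw [hk]
    exact (hr.odd_of_ne_two hr2).pow
  · apply two_dvd_relIndex _ _ hnormD r hrN
    · intro hrD
      obtain ⟨a, ha, c, hc, e⟩ := exists_of_mem_sup_centralizer Q r hrD
      rw [mem_centralizer_iff] at hc
      have hcV : c * V * c⁻¹ = V := by rw [← hc V hVQ, mul_inv_cancel_right]
      have hcq : c * q * c⁻¹ = q := by rw [← hc q hqQ, mul_inv_cancel_right]
      have haV : a * V * a⁻¹ = V := by
        calc a * V * a⁻¹ = a * (c * V * c⁻¹) * a⁻¹ := by rw [hcV]
          _ = (a * c) * V * (a * c)⁻¹ := by group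
          _ = r * V * r⁻¹ := by rw [← e]
          _ = V := by rw [hrV, mul_inv_cancel_right]
      have haq : r * q * r⁻¹ = a * q * a⁻¹ := by
        calc r * q * r⁻¹ = (a * c) * q * (a * c)⁻¹ := by rw [← e]
          _ = a * (c * q * c⁻¹) * a⁻¹ := by group
          _ = a * q * a⁻¹ := by rw [hcq]
      have haz : a ∈ zpowers V := by
        rcases (hmem a).mp ha with h1 | h1
        · exact h1
        · exfalso
          obtain ⟨i, hi⟩ := mem_zpowers_iff.mp h1
          have ea : a = q * V ^ i := by rw [hi]; group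
          have : a * V * a⁻¹ = V⁻¹ := by
            rw [ea]
            calc q * V ^ i * V * (q * V ^ i)⁻¹ = q * (V ^ i * V * (V ^ i)⁻¹) * q⁻¹ := by group
              _ = q * V * q⁻¹ := by
                  rw [(Commute.zpow_left (Commute.refl V) i).eq, mul_inv_cancel_right]
              _ = V⁻¹ := hqV
          rw [haV] at this
          apply hV2
          calc V ^ 2 = V * V := pow_two V
            _ = V * V⁻¹ := by rw [← this]
            _ = 1 := mul_inv_cancel V
      obtain ⟨i, rfl⟩ := mem_zpowers_iff.mp haz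
      have e3 : V ^ i * q * (V ^ i)⁻¹ = (V ^ i) ^ 2 * q := by
        have h1 : q * (V ^ i)⁻¹ = V ^ i * q := by
          have := hqconj (-i)
          rw [zpow_neg, inv_inv] at this
          calc q * (V ^ i)⁻¹ = (q * (V ^ i)⁻¹ * q⁻¹) * q := by group
            _ = V ^ i * q := by rw [this]
        rw [mul_assoc, h1, pow_two, mul_assoc]
      have h44 : ((V ^ i) ^ 2) ^ 2 = 1 := by
        rw [← pow_mul, ← zpow_natCast, ← zpow_mul, mul_comm, zpow_mul, zpow_natCast]
        norm_num [hV4]
      rw [haq, e3] at hrq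
      rcases hrq with e4 | e4
      · have e5 := mul_right_cancel e4
        rw [e5] at h44
        exact hV2 h44
      · have e5 := mul_right_cancel e4
        rw [e5] at h44
        apply hV2
        rw [inv_pow] at h44
        exact inv_eq_one.mp h44
    · rw [hrr]; exact mem_sup_left hVQ
  · apply not_four_dvd_relIndex _ _ T hTN hTi
    have key : ∀ c ∈ T, c ∉ Q ⊔ centralizer (Q : Set G) → r⁻¹ * c ∈ Q := by
      intro c hc hcD
      rcases hT c hc with h1 | h1
      · exact absurd (mem_sup_left h1) hcD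
      · exact h1
    intro a ha b hb haD hbD
    apply mem_sup_left
    have h1 := key a ha haD
    have h2 := key b hb hbD
    have e : b * a = (r * r) * (r⁻¹ * (r⁻¹ * b) * r⁻¹⁻¹) * (r⁻¹ * a) := by group
    rw [e, hrr]
    refine mul_mem (mul_mem hVQ ?_) h1
    exact (mem_normalizer_iff.mp (inv_mem hrN) _).mp h2

end abstractQuat

/-- `N_S(Q_k) = Q_k ∪ r Q_k` -/
theorem IsQD.mem_or_of_mem_normalizer_Q8 {S : Type*} [Group S] {m : ℕ} {x y : S}
    (h : IsQD S m x y) (k : ℕ) (c : S)
    (hc : c ∈ normalizer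
      ((zpowers (x ^ (2 ^ (m + 1))) ⊔ zpowers (x ^ (2 * k + 1) * y) : Subgroup S) : Set S)) :
    c ∈ zpowers (x ^ (2 ^ (m + 1))) ⊔ zpowers (x ^ (2 * k + 1) * y) ∨
      (x ^ (2 ^ m))⁻¹ * c ∈ zpowers (x ^ (2 ^ (m + 1))) ⊔ zpowers (x ^ (2 * k + 1) * y) := by
  have hrN := h.r_mem_normalizer_Q8 k
  rw [h.normalizer_Q8] at hc
  have := h.normal_r
  have hqq : (x ^ (2 * k + 1) * y) * (x ^ (2 * k + 1) * y) ∈ zpowers (x ^ (2 ^ m)) := by
    rw [h.q_mul_self]; exact h.z_mem_r
  have hvQ : ∀ j : ℤ, (x ^ (2 ^ (m + 1))) ^ j ∈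
      zpowers (x ^ (2 ^ (m + 1))) ⊔ zpowers (x ^ (2 * k + 1) * y) :=
    fun j => mem_sup_left (zpow_mem (mem_zpowers _) j)
  have hqQ : x ^ (2 * k + 1) * y ∈
      zpowers (x ^ (2 ^ (m + 1))) ⊔ zpowers (x ^ (2 * k + 1) * y) :=
    mem_sup_right (mem_zpowers _)
  have hr2 : ∀ j : ℤ, (x ^ (2 ^ m)) ^ (2 * j) = (x ^ (2 ^ (m + 1))) ^ j := by
    intro j
    rw [zpow_mul, zpow_two, ← pow_add]
    congr 2; ring
  rcases (IsQD.mem_sup_zpowers_iff _ _ hqq c).mp hc with h1 | h1
  · obtain ⟨i, rfl⟩ := mem_zpowers_iff.mp h1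
    rcases Int.even_or_odd' i with ⟨j, rfl | rfl⟩
    · left; rw [hr2]; exact hvQ j
    · right
      have e : (x ^ (2 ^ m))⁻¹ * (x ^ (2 ^ m)) ^ (2 * j + 1) = (x ^ (2 ^ m)) ^ (2 * j) := by
        rw [zpow_add_one]; group
      rw [e, hr2]; exact hvQ j
  · obtain ⟨i, hi⟩ := mem_zpowers_iff.mp h1
    have ec : c = (x ^ (2 * k + 1) * y) * (x ^ (2 ^ m)) ^ i := by rw [hi]; group
    rcases Int.even_or_odd' i with ⟨j, rfl | rfl⟩
    · left; rw [ec, hr2]; exact mul_mem hqQ (hvQ j)
    · right
      have e : (x ^ (2 ^ m))⁻¹ * c =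
          ((x ^ (2 ^ m))⁻¹ * (x ^ (2 * k + 1) * y) * (x ^ (2 ^ m))⁻¹⁻¹) *
            (x ^ (2 ^ m)) ^ (2 * j) := by
        rw [ec, zpow_add_one]; group
      rw [e, hr2]
      exact mul_mem ((mem_normalizer_iff.mp (inv_mem hrN) _).mp hqQ) (hvQ j)

section sylow

variable {G : Type*} [Group G] [Finite G] {S : Sylow 2 G} {m : ℕ} {x y : ↥(S : Subgroup G)}

/-- **`|N_G(T) : C_G(T)|` is 2 or 6** -/
theorem IsQD.relIndex_klein (h : IsQD ↥(S : Subgroup G) m x y) (T : Subgroup G)
    (hT : IsKleinFour T) (hTS : T ≤ S) :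
    (centralizer (T : Set G)).relIndex (normalizer (T : Set G)) = 2 ∨
      (centralizer (T : Set G)).relIndex (normalizer (T : Set G)) = 6 := by
  have hdvd := relIndex_kleinFour_dvd T hT
  obtain ⟨k, hk⟩ := h.klein_eq_val T hT hTS
  obtain ⟨s, hsN, hs⟩ := h.exists_swap_K k
  have hsN' : (s : G) ∈ normalizer (T : Set G) := by
    have := mem_normalizer_map_subtype (S : Subgroup G) _ s hsN
    rw [← sup_zpowers_val] at this
    rw [hk]
    simpa using this
  have hs' : (s : G) * ((x : G) ^ (2 * k) * y) * (s : G)⁻¹ =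
      (x : G) ^ (2 * k) * y * (x : G) ^ (2 ^ (m + 2)) := by
    have := congrArg Subtype.val hs
    simpa using this
  have hsz : (s : G) * (x : G) ^ (2 ^ (m + 2)) = (x : G) ^ (2 ^ (m + 2)) * (s : G) := by
    have := congrArg Subtype.val (h.z_central s)
    simpa using this
  have hZZ : (x : G) ^ (2 ^ (m + 2)) * (x : G) ^ (2 ^ (m + 2)) = 1 := by
    have := congrArg Subtype.val h.z_mul_self
    simpa using this
  have hZ1 : (x : G) ^ (2 ^ (m + 2)) ≠ 1 := by
    intro e
    have := h.z_orderOf_val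
    rw [e, orderOf_one] at this; omega
  have h2 : 2 ∣ (centralizer (T : Set G)).relIndex (normalizer (T : Set G)) := by
    apply two_dvd_relIndex _ _ (fun n hn d hd => conj_mem_centralizer_of_normalizes T n hn d hd)
      (s : G) hsN'
    · intro hsC
      rw [mem_centralizer_iff] at hsC
      have htT : (x : G) ^ (2 * k) * y ∈ T := by
        rw [hk]; exact mem_sup_right (mem_zpowers _)
      have e := hsC _ htT
      apply hZ1
      have e2 : (x : G) ^ (2 * k) * y * (x : G) ^ (2 ^ (m + 2)) = (x : G) ^ (2 * k) * y := by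
        rw [← hs', ← e, mul_inv_cancel_right]
      exact mul_eq_left.mp e2
    · rw [hk]
      apply mem_centralizer_sup_zpowers
      · rw [mul_assoc, hsz, ← mul_assoc, hsz, mul_assoc]
      · have e1 : (s : G) * ((x : G) ^ (2 * k) * y) =
            (x : G) ^ (2 * k) * y * (x : G) ^ (2 ^ (m + 2)) * (s : G) := by
          rw [← hs']; group
        calc (s : G) * (s : G) * ((x : G) ^ (2 * k) * y)
            = (s : G) * ((s : G) * ((x : G) ^ (2 * k) * y)) := mul_assoc _ _ _
          _ = (s : G) * ((x : G) ^ (2 * k) * y * (x : G) ^ (2 ^ (m + 2)) * (s : G)) := by rw [e1]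
          _ = ((s : G) * ((x : G) ^ (2 * k) * y)) * ((x : G) ^ (2 ^ (m + 2)) * (s : G)) := by
              group
          _ = ((x : G) ^ (2 * k) * y * (x : G) ^ (2 ^ (m + 2)) * (s : G)) *
                ((x : G) ^ (2 ^ (m + 2)) * (s : G)) := by rw [e1]
          _ = (x : G) ^ (2 * k) * y * (x : G) ^ (2 ^ (m + 2)) *
                ((s : G) * (x : G) ^ (2 ^ (m + 2))) * (s : G) := by group
          _ = (x : G) ^ (2 * k) * y * (x : G) ^ (2 ^ (m + 2)) *
                ((x : G) ^ (2 ^ (m + 2)) * (s : G)) * (s : G) := by rw [hsz]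
          _ = (x : G) ^ (2 * k) * y * ((x : G) ^ (2 ^ (m + 2)) * (x : G) ^ (2 ^ (m + 2))) *
                ((s : G) * (s : G)) := by group
          _ = _ := by rw [hZZ, mul_one]
  exact two_or_six_of_dvd _ h2 hdvd

/-- **`|N_G(Q) : Q C_G(Q)|` is 2 or 6** -/
theorem IsQD.relIndex_quat (h : IsQD ↥(S : Subgroup G) m x y) (Q : Subgroup G)
    (hQS : Q ≤ S) (eQ : Q ≃* QuaternionGroup 2) :
    (Q ⊔ centralizer (Q : Set G)).relIndex (normalizer (Q : Set G)) = 2 ∨
      (Q ⊔ centralizer (Q : Set G)).relIndex (normalizer (Q : Set G)) = 6 := by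
  obtain ⟨k, hk⟩ := h.q8_eq_val Q hQS eQ
  have hQmap : Q = (zpowers (x ^ (2 ^ (m + 1))) ⊔ zpowers (x ^ (2 * k + 1) * y)).map
      (S : Subgroup G).subtype := by
    rw [hk, ← sup_zpowers_val]; simp
  have hqV : ((x : G) ^ (2 * k + 1) * y) * (x : G) ^ (2 ^ (m + 1)) *
      ((x : G) ^ (2 * k + 1) * y)⁻¹ = ((x : G) ^ (2 ^ (m + 1)))⁻¹ := by
    simpa using congrArg Subtype.val (h.conj_v_q (2 * k + 1))
  have hqq : ((x : G) ^ (2 * k + 1) * y) * ((x : G) ^ (2 * k + 1) * y) =
      ((x : G) ^ (2 ^ (m + 1))) ^ 2 := by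
    have e := h.q_mul_self k
    rw [← h.v_sq] at e
    simpa using congrArg Subtype.val e
  have hrN : (x : G) ^ (2 ^ m) ∈ normalizer (Q : Set G) := by
    have := mem_normalizer_map_subtype (S : Subgroup G) _ (x ^ (2 ^ m)) (h.r_mem_normalizer_Q8 k)
    rw [← hQmap] at this
    simpa using this
  have hrr : (x : G) ^ (2 ^ m) * (x : G) ^ (2 ^ m) = (x : G) ^ (2 ^ (m + 1)) := by
    rw [← pow_add]; congr 1; ring
  have hrq : (x : G) ^ (2 ^ m) * ((x : G) ^ (2 * k + 1) * y) * ((x : G) ^ (2 ^ m))⁻¹ =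
        (x : G) ^ (2 ^ (m + 1)) * ((x : G) ^ (2 * k + 1) * y) ∨
      (x : G) ^ (2 ^ m) * ((x : G) ^ (2 * k + 1) * y) * ((x : G) ^ (2 ^ m))⁻¹ =
        ((x : G) ^ (2 ^ (m + 1)))⁻¹ * ((x : G) ^ (2 * k + 1) * y) := by
    have e := h.conj_r_q k
    rcases h.v_mul_z_pow (2 ^ m) with e' | e' <;> rw [e'] at e
    · left
      simpa using congrArg Subtype.val e
    · right
      simpa using congrArg Subtype.val e
  apply quat_relIndex_two_or_six ((x : G) ^ (2 ^ (m + 1))) ((x : G) ^ (2 * k + 1) * y)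
    ((x : G) ^ (2 ^ m)) h.v_orderOf_val hqV hqq (h.q_not_mem_v_val k) Q hk
    (fun a => by rw [hk]; exact h.mem_Q8_iff_val k a) hrN hrr hrq
    ((S : Subgroup G) ⊓ normalizer (Q : Set G)) inf_le_right
  · apply not_two_dvd_relIndex_normalizer_of_conj S Q hQS
    intro g hg
    have hQ'S : Q.map (MulAut.conj g).toMonoidHom ≤ (S : Subgroup G) := by
      rintro _ ⟨a, ha, rfl⟩
      exact hg a ha
    obtain ⟨k', hk'⟩ := h.q8_eq_val (Q.map (MulAut.conj g).toMonoidHom) hQ'S
      ((Q.equivMapOfInjective _ (MulAut.conj g).injective).symm.trans eQ)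
    obtain ⟨s, hsS, hs⟩ := h.conj_Q8_val k k'
    exact ⟨s, hsS, mem_normalizer_of_map_conj_eq Q _ g s rfl (by rw [hk', ← hs, ← hk])⟩
  · intro c hc
    obtain ⟨hcS, hcN⟩ := mem_inf.mp hc
    have hcN' : (⟨c, hcS⟩ : ↥(S : Subgroup G)) ∈ normalizer
        ((zpowers (x ^ (2 ^ (m + 1))) ⊔ zpowers (x ^ (2 * k + 1) * y) :
          Subgroup ↥(S : Subgroup G)) : Set ↥(S : Subgroup G)) := by
      rw [mem_normalizer_iff]
      intro a
      rw [← Subgroup.mem_map_iff_mem (S : Subgroup G).subtype_injective,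
        ← Subgroup.mem_map_iff_mem (S : Subgroup G).subtype_injective (x := _ * a * _), ← hQmap]
      have := mem_normalizer_iff.mp hcN (a : G)
      simpa using this
    rcases h.mem_or_of_mem_normalizer_Q8 k _ hcN' with h1 | h1
    · left
      rw [hQmap]
      exact ⟨_, h1, rfl⟩
    · right
      rw [hQmap]
      exact ⟨_, h1, by simp⟩

end sylow

end Cfsg.Agent.Lib.Helper18
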