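/-
Helper18 library (S1851): ambient subnormal chains, the generators of `Ω₁(Z(A))`, and an
`A × B`-lemma for elementary abelian 2-groups.
-/
import Mathlib
import Cfsg.Prelude.Def_QuasithinSetup
import Cfsg.Agent.Lib.Helper16.Large2
import Cfsg.Agent.Lib.Helper16.StronglyEmbedded

set_option autoImplicit false
open Cfsg

namespace Cfsg.Agent.Lib.Helper18.QT

variable {G : Type*} [Group G]

/-- ambient subnormal chain from `A` up to `H` -/
inductive SubnBelow (H : Subgroup G) : Subgroup G → Prop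
  | top : SubnBelow H H
  | step (A B : Subgroup G) : A ≤ B → B ≤ Subgroup.normalizer (A : Set G) → SubnBelow H B →
      SubnBelow H A

theorem map_le_normalizer_map {H : Subgroup G} {A B : Subgroup ↥H}
    (h : B ≤ Subgroup.normalizer (A : Set ↥H)) :
    B.map H.subtype ≤ Subgroup.normalizer ((A.map H.subtype : Subgroup G) : Set G) := by
  rintro _ ⟨b, hb, rfl⟩
  have hb' := h hb
  rw [Subgroup.mem_normalizer_iff]
  intro g
  constructor
  · rintro ⟨a, ha, rfl⟩
    exact ⟨b * a * b⁻¹, (Subgroup.mem_normalizer_iff.mp hb' a).mp ha, by simp⟩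
  · rintro ⟨a, ha, hae⟩
    have hbi : b⁻¹ ∈ Subgroup.normalizer (A : Set ↥H) := Subgroup.inv_mem _ hb'
    have h1 : b⁻¹ * a * b⁻¹⁻¹ ∈ A := (Subgroup.mem_normalizer_iff.mp hbi a).mp ha
    refine ⟨b⁻¹ * a * b⁻¹⁻¹, h1, ?_⟩
    simp only [Subgroup.subtype_apply, Subgroup.coe_mul, Subgroup.coe_inv, inv_inv] at hae ⊢
    rw [hae]; group

theorem subnBelow_of_isSubnormal (H : Subgroup G) (S : Subgroup ↥H) (hS : S.IsSubnormal) :
    SubnBelow H (S.map H.subtype) := by
  induction hS with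
  | top =>
    have : (⊤ : Subgroup ↥H).map H.subtype = H := by
      rw [← MonoidHom.range_eq_map, Subgroup.range_subtype]
    rw [this]; exact SubnBelow.top
  | step A B hle hB hN ih =>
    refine SubnBelow.step _ _ (Subgroup.map_mono hle) ?_ ih
    exact map_le_normalizer_map ((Subgroup.normal_subgroupOf_iff_le_normalizer hle).mp hN)

theorem subnBelow_of_subgroupOf {H K : Subgroup G} (hKH : K ≤ H)
    (hS : (K.subgroupOf H).IsSubnormal) : SubnBelow H K := by
  have := subnBelow_of_isSubnormal H _ hS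
  rwa [Subgroup.map_subgroupOf_eq_of_le hKH] at this

theorem SubnBelow.le {H K : Subgroup G} (h : SubnBelow H K) : K ≤ H := by
  induction h with
  | top => exact le_rfl
  | step A B hAB _ _ ih => exact hAB.trans ih

/-- the generators of `Ω₁(Z(A))` -/
def zGen (A : Subgroup G) : Set G :=
  {z | z ∈ A ∧ z ∈ Subgroup.centralizer (A : Set G) ∧ z ^ 2 = 1}

/-- `x` centralizes `Ω₁(Z(A))` -/
def CentZ (x : G) (A : Subgroup G) : Prop := ∀ z ∈ zGen A, x * z = z * x

/-- `Ω₁(Z(A))` as an explicit subgroup -/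
def zSub (A : Subgroup G) : Subgroup G where
  carrier := zGen A
  one_mem' := ⟨A.one_mem, Subgroup.one_mem _, one_pow 2⟩
  mul_mem' := by
    rintro a b ⟨ha, hac, ha2⟩ ⟨hb, hbc, hb2⟩
    refine ⟨A.mul_mem ha hb, Subgroup.mul_mem _ hac hbc, ?_⟩
    have hab : a * b = b * a := ((Subgroup.mem_centralizer_iff.mp hbc) a ha)
    rw [pow_two]
    calc a * b * (a * b) = a * (b * a) * b := by group
      _ = a * (a * b) * b := by rw [hab]
      _ = a ^ 2 * b ^ 2 := by rw [pow_two, pow_two]; group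
      _ = 1 := by rw [ha2, hb2, one_mul]
  inv_mem' := by
    rintro a ⟨ha, hac, ha2⟩
    refine ⟨A.inv_mem ha, Subgroup.inv_mem _ hac, ?_⟩
    rw [inv_pow, ha2, inv_one]

theorem mem_zSub {A : Subgroup G} {z : G} : z ∈ zSub A ↔ z ∈ zGen A := Iff.rfl

theorem zSub_comm {A : Subgroup G} {a b : G} (ha : a ∈ zSub A) (hb : b ∈ zSub A) :
    a * b = b * a := ((Subgroup.mem_centralizer_iff.mp hb.2.1) a ha.1)

theorem zSub_sq {A : Subgroup G} {a : G} (ha : a ∈ zSub A) : a ^ 2 = 1 := ha.2.2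

theorem zSub_inv {A : Subgroup G} {a : G} (ha : a ∈ zSub A) : a⁻¹ = a := by
  have := zSub_sq ha
  rw [pow_two] at this
  exact inv_eq_of_mul_eq_one_right this

theorem omegaOne_eq_zSub (A : Subgroup G) :
    omegaOne 2 (A ⊓ Subgroup.centralizer (A : Set G)) = zSub A := by
  unfold omegaOne
  have : {x : G | x ∈ A ⊓ Subgroup.centralizer (A : Set G) ∧ x ^ 2 = 1} = ((zSub A : Subgroup G) : Set G) := by
    ext z
    constructor
    · rintro ⟨⟨h1, h2⟩, h3⟩; exact ⟨h1, h2, h3⟩
    · rintro ⟨h1, h2, h3⟩; exact ⟨⟨h1, h2⟩, h3⟩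
  rw [this, Subgroup.closure_eq]

/-- normalizing `A` normalizes `Ω₁(Z(A))` -/
theorem normalizer_le_normalizer_zSub (A : Subgroup G) :
    Subgroup.normalizer (A : Set G) ≤ Subgroup.normalizer ((zSub A : Subgroup G) : Set G) := by
  intro n hn
  have key : ∀ m : G, m ∈ Subgroup.normalizer (A : Set G) → ∀ z ∈ zSub A, m * z * m⁻¹ ∈ zSub A := by
    rintro m hm z ⟨hz, hzc, hz2⟩
    refine ⟨(Subgroup.mem_normalizer_iff.mp hm z).mp hz, ?_, ?_⟩
    · rw [Subgroup.mem_centralizer_iff]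
      intro a ha
      have hmi : m⁻¹ ∈ Subgroup.normalizer (A : Set G) := Subgroup.inv_mem _ hm
      have ha' : m⁻¹ * a * m⁻¹⁻¹ ∈ A := (Subgroup.mem_normalizer_iff.mp hmi a).mp ha
      have h1 := (Subgroup.mem_centralizer_iff.mp hzc) _ ha'
      rw [inv_inv] at h1
      calc a * (m * z * m⁻¹) = m * ((m⁻¹ * a * m) * z) * m⁻¹ := by group
        _ = m * (z * (m⁻¹ * a * m)) * m⁻¹ := by rw [h1]
        _ = m * z * m⁻¹ * a := by group
    · rw [conj_pow, hz2, mul_one, mul_inv_cancel]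
  rw [Subgroup.mem_normalizer_iff]
  intro z
  constructor
  · exact key n hn z
  · intro h
    have := key n⁻¹ (Subgroup.inv_mem _ hn) _ h
    rw [inv_inv] at this
    have e : n⁻¹ * (n * z * n⁻¹) * n = z := by group
    rwa [e] at this

end Cfsg.Agent.Lib.Helper18.QT
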