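/-
Helper18 library (S1851): the `A × B`-lemma for elementary abelian 2-groups (ambient form) and
the coprime-action lemma in the form used for subnormal chains.
-/
import Mathlib
import Cfsg.Agent.Lib.Helper18.QT1

set_option autoImplicit false
open Cfsg

namespace Cfsg.Agent.Lib.Helper18.QT

variable {G : Type*} [Group G]

/-- `[w, x]` for an involution `w` -/
def phi (x w : G) : G := w * (x * w * x⁻¹)

theorem phi_one (x : G) : phi x 1 = 1 := by simp [phi]

theorem conj_mem_of_mem_normalizer {P : Subgroup G} {x w : G}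
    (hx : x ∈ Subgroup.normalizer (P : Set G)) (hw : w ∈ P) : x * w * x⁻¹ ∈ P :=
  (Subgroup.mem_normalizer_iff.mp hx w).mp hw

theorem phi_mem {P : Subgroup G} {x w : G} (hx : x ∈ Subgroup.normalizer (P : Set G))
    (hw : w ∈ P) : phi x w ∈ P := P.mul_mem hw (conj_mem_of_mem_normalizer hx hw)

theorem phi_iterate_mem {P : Subgroup G} {x w : G} (hx : x ∈ Subgroup.normalizer (P : Set G))
    (hw : w ∈ P) (n : ℕ) : (phi x)^[n] w ∈ P := by
  induction n with
  | zero => exact hw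
  | succ n ih => rw [Function.iterate_succ_apply']; exact phi_mem hx ih

theorem phi_eq_one_iff {x w : G} (hw : w ^ 2 = 1) : phi x w = 1 ↔ x * w = w * x := by
  have hwi : w⁻¹ = w := by
    rw [pow_two] at hw; exact inv_eq_of_mul_eq_one_right hw
  unfold phi
  constructor
  · intro h
    have h1 : x * w * x⁻¹ = w⁻¹ := by
      have := eq_inv_of_mul_eq_one_right h
      exact this
    rw [hwi] at h1
    calc x * w = (x * w * x⁻¹) * x := by group
      _ = w * x := by rw [h1]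
  · intro h
    have : x * w * x⁻¹ = w := by rw [h]; group
    rw [this, ← pow_two, hw]

/-- coprime action: if `x` (odd order) fixes `[z, x]` then `[z, x] = 1`. -/
theorem phi_eq_one_of_commute [Finite G] {P : Subgroup G} {x z : G}
    (hPab : ∀ a ∈ P, ∀ b ∈ P, a * b = b * a) (hP2 : ∀ a ∈ P, a ^ 2 = 1)
    (hx : Odd (orderOf x)) (hxP : x ∈ Subgroup.normalizer (P : Set G)) (hz : z ∈ P)
    (h : x * phi x z = phi x z * x) : phi x z = 1 := by
  set u1 := x * z * x⁻¹ with hu1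
  set u2 := x * u1 * x⁻¹ with hu2
  have hu1P : u1 ∈ P := conj_mem_of_mem_normalizer hxP hz
  have hu2P : u2 ∈ P := conj_mem_of_mem_normalizer hxP hu1P
  -- conjugating phi z by x
  have h1 : x * phi x z * x⁻¹ = u1 * u2 := by
    unfold phi; rw [hu2, hu1]; group
  have h2 : x * phi x z * x⁻¹ = z * u1 := by
    rw [h]; unfold phi; rw [hu1]; group
  have h3 : u1 * u2 = u1 * z := by
    rw [← h1, h2]; exact hPab z hz u1 hu1P
  have h4 : u2 = z := mul_left_cancel h3
  -- `x ^ 2` commutes with `z`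
  have h5 : x ^ 2 * z = z * x ^ 2 := by
    have : x ^ 2 * z * (x ^ 2)⁻¹ = u2 := by rw [hu2, hu1, pow_two]; group
    rw [h4] at this
    calc x ^ 2 * z = (x ^ 2 * z * (x ^ 2)⁻¹) * x ^ 2 := by group
      _ = z * x ^ 2 := by rw [this]
  -- hence `x` commutes with `z`
  obtain ⟨k, hk⟩ := hx
  have h6 : (x ^ 2) ^ (k + 1) = x := by
    rw [← pow_mul]
    have : 2 * (k + 1) = orderOf x + 1 := by omega
    rw [this, pow_succ, pow_orderOf_eq_one, one_mul]
  have h7 : Commute (x ^ 2) z := h5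
  have h8 : Commute x z := by
    have := h7.pow_left (k + 1)
    rwa [h6] at this
  exact (phi_eq_one_iff (hP2 z hz)).mpr h8

/-- if some iterate of `[·, x]` kills `P`, then `x` centralizes `P` (odd order `x`). -/
theorem commute_of_phi_iterate [Finite G] {P : Subgroup G} {x : G}
    (hPab : ∀ a ∈ P, ∀ b ∈ P, a * b = b * a) (hP2 : ∀ a ∈ P, a ^ 2 = 1)
    (hx : Odd (orderOf x)) (hxP : x ∈ Subgroup.normalizer (P : Set G)) (n : ℕ)
    (h : ∀ w ∈ P, (phi x)^[n + 1] w = 1) : ∀ w ∈ P, x * w = w * x := by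
  induction n with
  | zero =>
    intro w hw
    have := h w hw
    rw [Function.iterate_one] at this
    exact (phi_eq_one_iff (hP2 w hw)).mp this
  | succ n ih =>
    apply ih
    intro w hw
    have h1 := h w hw
    rw [Function.iterate_succ_apply', Function.iterate_succ_apply'] at h1
    set c := (phi x)^[n] w with hc
    have hcP : c ∈ P := phi_iterate_mem hxP hw n
    have h2 : x * phi x c = phi x c * x :=
      (phi_eq_one_iff (hP2 _ (phi_mem hxP hcP))).mp h1
    rw [Function.iterate_succ_apply']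
    exact phi_eq_one_of_commute hPab hP2 hx hxP hcP h2

/-- the image of `[·, x]` on an elementary abelian 2-group `P` -/
def phiImage (P : Subgroup G) (x : G) (hPab : ∀ a ∈ P, ∀ b ∈ P, a * b = b * a)
    (hP2 : ∀ a ∈ P, a ^ 2 = 1) (hxP : x ∈ Subgroup.normalizer (P : Set G)) : Subgroup G where
  carrier := {w | ∃ z ∈ P, w = phi x z}
  one_mem' := ⟨1, P.one_mem, (phi_one x).symm⟩
  mul_mem' := by
    rintro _ _ ⟨z1, hz1, rfl⟩ ⟨z2, hz2, rfl⟩
    refine ⟨z1 * z2, P.mul_mem hz1 hz2, ?_⟩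
    unfold phi
    have hu1 : x * z1 * x⁻¹ ∈ P := conj_mem_of_mem_normalizer hxP hz1
    have hc := hPab _ hu1 z2 hz2
    calc z1 * (x * z1 * x⁻¹) * (z2 * (x * z2 * x⁻¹))
        = z1 * ((x * z1 * x⁻¹) * z2) * (x * z2 * x⁻¹) := by group
      _ = z1 * (z2 * (x * z1 * x⁻¹)) * (x * z2 * x⁻¹) := by rw [hc]
      _ = z1 * z2 * (x * (z1 * z2) * x⁻¹) := by group
  inv_mem' := by
    rintro _ ⟨z, hz, rfl⟩
    refine ⟨z, hz, ?_⟩
    have h2 := hP2 _ (phi_mem hxP hz)
    rw [pow_two] at h2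
    exact inv_eq_of_mul_eq_one_right h2

/-- **`A × B`-lemma** for an elementary abelian 2-group `P`, in ambient form. -/
theorem axb [Finite G] {P B : Subgroup G} {x : G}
    (hPab : ∀ a ∈ P, ∀ b ∈ P, a * b = b * a) (hP2 : ∀ a ∈ P, a ^ 2 = 1)
    (hx : Odd (orderOf x)) (hxP : x ∈ Subgroup.normalizer (P : Set G))
    (hB : IsPGroup 2 B) (hBP : B ≤ Subgroup.normalizer (P : Set G))
    (hcomm : ∀ b ∈ B, ∀ z ∈ P, (x * b * x⁻¹ * b⁻¹) * z = z * (x * b * x⁻¹ * b⁻¹))
    (hfix : ∀ z ∈ P, (∀ b ∈ B, b * z = z * b) → x * z = z * x) :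
    ∀ z ∈ P, x * z = z * x := by
  have : Fact (Nat.Prime 2) := ⟨Nat.prime_two⟩
  set I : Subgroup G := phiImage P x hPab hP2 hxP with hI
  have hIP : I ≤ P := by
    rintro _ ⟨z, hz, rfl⟩; exact phi_mem hxP hz
  -- `B` normalizes `I`
  have key : ∀ b ∈ B, ∀ w ∈ I, b * w * b⁻¹ ∈ I := by
    rintro b hb _ ⟨z, hz, rfl⟩
    have hbz : b * z * b⁻¹ ∈ P := conj_mem_of_mem_normalizer (hBP hb) hz
    refine ⟨b * z * b⁻¹, hbz, ?_⟩
    unfold phi
    have hel : b * (x * z * x⁻¹) * b⁻¹ ∈ P :=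
      conj_mem_of_mem_normalizer (hBP hb) (conj_mem_of_mem_normalizer hxP hz)
    have h1 := hcomm b hb _ hel
    have h2 : x * (b * z * b⁻¹) * x⁻¹ =
        (x * b * x⁻¹ * b⁻¹) * (b * (x * z * x⁻¹) * b⁻¹) * (x * b * x⁻¹ * b⁻¹)⁻¹ := by
      group
    rw [h2, h1]
    group
  have hBI : B ≤ Subgroup.normalizer (I : Set G) := by
    intro b hb
    rw [Subgroup.mem_normalizer_iff]
    intro w
    constructor
    · exact key b hb w
    · intro h
      have := key b⁻¹ (B.inv_mem hb) _ h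
      rw [inv_inv] at this
      have e : b⁻¹ * (b * w * b⁻¹) * b = w := by group
      rwa [e] at this
  by_contra hne
  push Not at hne
  obtain ⟨z, hz, hxz⟩ := hne
  have hI1 : I ≠ ⊥ := by
    intro hb
    have h1 : phi x z ∈ I := ⟨z, hz, rfl⟩
    rw [hb, Subgroup.mem_bot] at h1
    exact hxz ((phi_eq_one_iff (hP2 z hz)).mp h1)
  have hIp : IsPGroup 2 I := by
    intro w
    refine ⟨1, ?_⟩
    have := hP2 _ (hIP w.2)
    rw [pow_one]
    exact Subtype.ext (by simpa using this)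
  have hD : IsPGroup 2 ↥(I ⊔ B) := IsPGroup.to_sup_of_normal_left' hIp hB hBI
  obtain ⟨w, hwI, hwo, hwc⟩ := Cfsg.Agent.Lib.Helper16.exists_orderOf_eq_prime_central hD
    (le_sup_left : I ≤ I ⊔ B) (sup_le Subgroup.le_normalizer hBI) hI1
  have hwP : w ∈ P := hIP hwI
  have hxw : x * w = w * x := hfix w hwP (fun b hb => hwc b (Subgroup.mem_sup_right hb))
  obtain ⟨z0, hz0, rfl⟩ := hwI
  have := phi_eq_one_of_commute hPab hP2 hx hxP hz0 hxw
  rw [this, orderOf_one] at hwo
  norm_num at hwo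

end Cfsg.Agent.Lib.Helper18.QT
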