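/-
Helper18 library (S1851): centralizing `Ω₁(Z(O₂(·)))` along subnormal chains.
-/
import Mathlib
import Cfsg.Agent.Lib.Helper18.QT2
import Cfsg.Agent.Lib.Helper9.Components

set_option autoImplicit false
open Cfsg

namespace Cfsg.Agent.Lib.Helper18.QT

open Cfsg.Agent.Lib.Helper16

variable {G : Type*} [Group G]

/-- `O₂(A) ≤ O₂(B)` for `A` normal in `B`. -/
theorem pCoreOf_le_of_normal [Finite G] {A B : Subgroup G} (hle : A ≤ B)
    (hn : B ≤ Subgroup.normalizer (A : Set G)) : pCoreOf 2 A ≤ pCoreOf 2 B := by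
  have : Fact (Nat.Prime 2) := ⟨Nat.prime_two⟩
  exact le_pCoreOf ((pCoreOf_le A).trans hle)
    (hn.trans (normalizer_le_normalizer_pCoreOf A)) (pCoreOf_isPGroup A)

theorem pCoreOf_le_of_subnBelow [Finite G] {H S : Subgroup G} (hS : SubnBelow H S) :
    pCoreOf 2 S ≤ pCoreOf 2 H := by
  induction hS with
  | top => exact le_rfl
  | step A B hAB hn _ ih => exact (pCoreOf_le_of_normal hAB hn).trans ih

/-- one step of the chain: `x ∈ S' ⊴ S` of odd order centralizing `Ω₁(Z(O₂(S)))` centralizes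
`Ω₁(Z(O₂(S')))`. -/
theorem centZ_step [Finite G] {S' S : Subgroup G} (hle : S' ≤ S)
    (hn : S ≤ Subgroup.normalizer (S' : Set G)) {x : G} (hxS' : x ∈ S') (hx : Odd (orderOf x))
    (h : CentZ x (pCoreOf 2 S)) : CentZ x (pCoreOf 2 S') := by
  have : Fact (Nat.Prime 2) := ⟨Nat.prime_two⟩
  set A := pCoreOf 2 S' with hA
  set B := pCoreOf 2 S with hB
  have hAB : A ≤ B := pCoreOf_le_of_normal hle hn
  have hS'A : S' ≤ Subgroup.normalizer (A : Set G) := le_normalizer_pCoreOf S'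
  have hSA : S ≤ Subgroup.normalizer (A : Set G) := hn.trans (normalizer_le_normalizer_pCoreOf S')
  have hSB : S ≤ Subgroup.normalizer (B : Set G) := le_normalizer_pCoreOf S
  have hBS : B ≤ S := pCoreOf_le S
  intro z hz
  refine axb (P := zSub A) (B := B) (fun a ha b hb => zSub_comm ha hb) (fun a ha => zSub_sq ha) hx
    (normalizer_le_normalizer_zSub A (hS'A hxS')) (pCoreOf_isPGroup S)
    ((hBS.trans hSA).trans (normalizer_le_normalizer_zSub A)) ?_ ?_ z hz
  · -- the commutators `[x, b]` lie in `O₂(S')`, which centralizes `Ω₁(Z(O₂(S')))`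
    intro b hb w hw
    have hbS : b ∈ S := hBS hb
    have hc1 : x * b * x⁻¹ * b⁻¹ ∈ S' := by
      have h1 : b * x⁻¹ * b⁻¹ ∈ S' :=
        conj_mem_of_mem_normalizer (hn hbS) (S'.inv_mem hxS')
      have e : x * b * x⁻¹ * b⁻¹ = x * (b * x⁻¹ * b⁻¹) := by group
      rw [e]; exact S'.mul_mem hxS' h1
    have hc2 : x * b * x⁻¹ * b⁻¹ ∈ B := by
      have h1 : x * b * x⁻¹ ∈ B := conj_mem_of_mem_normalizer (hSB (hle hxS')) hb
      exact B.mul_mem h1 (B.inv_mem hb)
    have hc3 : S' ⊓ B ≤ A := by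
      apply le_pCoreOf inf_le_left
      · intro s hs
        exact Cfsg.Agent.Lib.Helper9.mem_normalizer_inf (Subgroup.le_normalizer hs)
          (hSB (hle hs))
      · exact (pCoreOf_isPGroup S).to_le inf_le_right
    have hcA : x * b * x⁻¹ * b⁻¹ ∈ A := hc3 ⟨hc1, hc2⟩
    exact (Subgroup.mem_centralizer_iff.mp hw.2.1) _ hcA
  · -- the fixed points of `B` on `Ω₁(Z(O₂(S')))` lie in `Ω₁(Z(O₂(S)))`
    intro w hw hwB
    apply h
    refine ⟨hAB hw.1, ?_, hw.2.2⟩
    rw [Subgroup.mem_centralizer_iff]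
    exact hwB

/-- along a subnormal chain -/
theorem centZ_of_subnBelow [Finite G] {M S : Subgroup G} (hS : SubnBelow M S) :
    ∀ {x : G}, x ∈ S → Odd (orderOf x) → CentZ x (pCoreOf 2 M) → CentZ x (pCoreOf 2 S) := by
  induction hS with
  | top => intro x _ _ h; exact h
  | step A B hAB hn _ ih =>
    intro x hxA hx h
    exact centZ_step hAB hn hxA hx (ih (hAB hxA) hx h)

/-- iterated commutators with `x ∈ S` push `Ω₁(Z(O₂(H)))` into the subnormal subgroup `S`. -/
theorem exists_iterate_mem [Finite G] {H S : Subgroup G} (hS : SubnBelow H S) :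
    ∃ n : ℕ, ∀ x ∈ S, ∀ w ∈ zSub (pCoreOf 2 H), (phi x)^[n] w ∈ S := by
  induction hS with
  | top =>
    refine ⟨0, fun x _ w hw => ?_⟩
    exact pCoreOf_le H hw.1
  | step A B hAB hn hB ih =>
    obtain ⟨n, hn'⟩ := ih
    refine ⟨n + 1, fun x hxA w hw => ?_⟩
    have hBH : B ≤ H := hB.le
    have hxN : x ∈ Subgroup.normalizer ((zSub (pCoreOf 2 H) : Subgroup G) : Set G) :=
      normalizer_le_normalizer_zSub _ (le_normalizer_pCoreOf H (hBH (hAB hxA)))
    set c := (phi x)^[n] w with hc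
    have hcB : c ∈ B := hn' x (hAB hxA) w hw
    have hcW : c ∈ zSub (pCoreOf 2 H) := phi_iterate_mem hxN hw n
    rw [Function.iterate_succ_apply']
    show phi x c ∈ A
    unfold phi
    have hci : c⁻¹ = c := zSub_inv hcW
    have h1 : c * x * c⁻¹ ∈ A := conj_mem_of_mem_normalizer (hn hcB) hxA
    rw [hci] at h1
    have e : c * (x * c * x⁻¹) = (c * x * c) * x⁻¹ := by group
    rw [e]; exact A.mul_mem h1 (A.inv_mem hxA)

/-- **Step A**: if the odd-order element `x` of the subnormal subgroup `K` of `H` centralizes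
`Ω₁(Z(O₂(K)))`, then it centralizes `Ω₁(Z(O₂(H)))`. -/
theorem centZ_top_of_centZ [Finite G] {H K : Subgroup G} (hK : SubnBelow H K) {x : G}
    (hxK : x ∈ K) (hx : Odd (orderOf x)) (h : CentZ x (pCoreOf 2 K)) :
    CentZ x (pCoreOf 2 H) := by
  have : Fact (Nat.Prime 2) := ⟨Nat.prime_two⟩
  obtain ⟨n, hn⟩ := exists_iterate_mem hK
  have hKH : K ≤ H := hK.le
  set W := zSub (pCoreOf 2 H) with hW
  have hxN : x ∈ Subgroup.normalizer ((W : Subgroup G) : Set G) :=
    normalizer_le_normalizer_zSub _ (le_normalizer_pCoreOf H (hKH hxK))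
  have hKW : K ≤ Subgroup.normalizer ((W : Subgroup G) : Set G) := fun k hk =>
    normalizer_le_normalizer_zSub _ (le_normalizer_pCoreOf H (hKH hk))
  -- `K ∩ W ≤ Ω₁(Z(O₂(K)))`
  have hKWle : ∀ c, c ∈ K → c ∈ W → c ∈ zGen (pCoreOf 2 K) := by
    intro c hcK hcW
    have h1 : K ⊓ W ≤ pCoreOf 2 K := by
      apply le_pCoreOf inf_le_left
      · intro k hk
        exact Cfsg.Agent.Lib.Helper9.mem_normalizer_inf (Subgroup.le_normalizer hk) (hKW hk)
      · have hWQ : W ≤ pCoreOf 2 H := fun w hw => hw.1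
        exact ((pCoreOf_isPGroup H).to_le hWQ).to_le inf_le_right
    refine ⟨h1 ⟨hcK, hcW⟩, ?_, hcW.2.2⟩
    exact Subgroup.centralizer_le (pCoreOf_le_of_subnBelow hK) hcW.2.1
  apply commute_of_phi_iterate (P := W) (fun a ha b hb => zSub_comm ha hb)
    (fun a ha => zSub_sq ha) hx hxN n
  intro w hw
  rw [Function.iterate_succ_apply']
  set c := (phi x)^[n] w with hc
  have hcK : c ∈ K := hn x hxK w hw
  have hcW : c ∈ W := phi_iterate_mem hxN hw n
  exact (phi_eq_one_iff hcW.2.2).mpr (h c (hKWle c hcK hcW))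

end Cfsg.Agent.Lib.Helper18.QT
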