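/-
Helper18 library (S1851): `ℒ_f(G, T)` is upward closed in `ℒ(G, T)` for groups of even
characteristic.
-/
import Mathlib
import Cfsg.Agent.Lib.Helper18.QT3
import Cfsg.Agent.Lib.Helper16.LargeChar
import Cfsg.Agent.Lib.Helper16.PReduced2
import Cfsg.Agent.Lib.Helper16.PCore
import Cfsg.Agent.Lib.Helper16.Subnormal
import Cfsg.Agent.Lib.Helper25.CharP
import Cfsg.Agent.Lib.Helper8.PResidual

set_option autoImplicit false
open Cfsg

namespace Cfsg.Agent.Lib.Helper18.QT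

open Cfsg.Agent.Lib.Helper16

variable {G : Type*} [Group G]

/-- `V(Y) = 1` iff `Y` centralizes `Ω₁(Z(O₂(Y)))`. -/
theorem moduleV_eq_bot_iff (Y : Subgroup G) :
    moduleV Y = ⊥ ↔ ∀ y ∈ Y, CentZ y (pCoreOf 2 Y) := by
  unfold moduleV
  have e : pCoreTwoOf Y = pCoreOf 2 Y := rfl
  rw [e, omegaOne_eq_zSub, Subgroup.commutator_eq_bot_iff_le_centralizer]
  constructor
  · intro h y hy z hz
    have := (Subgroup.mem_centralizer_iff.mp (h hz)) y hy
    exact this
  · intro h z hz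
    rw [Subgroup.mem_centralizer_iff]
    intro y hy
    exact h y hy z hz

/-- even characteristic: overgroups `H` of a Sylow 2-subgroup with `O₂(H) ≠ 1` have
`C_H(O₂(H)) ≤ O₂(H)` (ambient form). -/
theorem inf_centralizer_le_of_evenChar [Finite G] (hE : IsOfEvenCharacteristic G) (T : Sylow 2 G)
    {H : Subgroup G} (hTH : (T : Subgroup G) ≤ H) (hO : pCoreOf 2 H ≠ ⊥) :
    H ⊓ Subgroup.centralizer ((pCoreOf 2 H : Subgroup G) : Set G) ≤ pCoreOf 2 H := by
  have : Fact (Nat.Prime 2) := ⟨Nat.prime_two⟩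
  set Q := pCoreOf 2 H with hQ
  set N := Subgroup.normalizer (Q : Set G) with hN
  have hHN : H ≤ N := le_normalizer_pCoreOf H
  have hTN : (T : Subgroup G) ≤ N := hTH.trans hHN
  have hN2 : IsTwoLocal N := ⟨Q, pCoreOf_isPGroup H, hO, rfl⟩
  have hchar : IsOfCharacteristicTwo ↥N := hE N hN2 ⟨T, hTN⟩
  set R := pCoreOf 2 N with hR
  have hQR : Q ≤ R := le_pCoreOf Subgroup.le_normalizer le_rfl (pCoreOf_isPGroup H)
  have hRQ : R ≤ Q := by
    have hRT : R ≤ (T : Subgroup G) := pCoreOf_le_sylow T hTN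
    exact le_pCoreOf (hRT.trans hTH) (hHN.trans (le_normalizer_pCoreOf N)) (pCoreOf_isPGroup N)
  rintro h ⟨hhH, hhC⟩
  have hhN : h ∈ N := hHN hhH
  have h1 : (⟨h, hhN⟩ : ↥N) ∈ Subgroup.centralizer (pCore 2 ↥N : Set ↥N) := by
    rw [Subgroup.mem_centralizer_iff]
    intro y hy
    have hyR : (y : G) ∈ R := ⟨y, hy, rfl⟩
    have := (Subgroup.mem_centralizer_iff.mp hhC) (y : G) (hRQ hyR)
    exact Subtype.ext this
  have h2 := hchar h1
  have h3 : h ∈ R := ⟨⟨h, hhN⟩, h2, rfl⟩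
  exact hRQ h3

/-- `F*(K) = O₂(K)` for `K` subnormal in `H`, `C_H(O₂(H)) ≤ O₂(H)`. -/
theorem mem_calHe_of_subnormal [Finite G] {H K : Subgroup G} (hKH : K ≤ H)
    (hsn : (K.subgroupOf H).IsSubnormal)
    (hH : H ⊓ Subgroup.centralizer ((pCoreOf 2 H : Subgroup G) : Set G) ≤ pCoreOf 2 H) :
    K ∈ calHe G := by
  have : Fact (Nat.Prime 2) := ⟨Nat.prime_two⟩
  have h1 : Subgroup.centralizer (pCore 2 ↥H : Set ↥H) ≤ pCore 2 ↥H := charP_of_ambient H hH
  have h2 := charP_of_subnormal (p := 2) h1 (K.subgroupOf H) hsn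
  have h3 : Subgroup.centralizer (pCore 2 ↥K : Set ↥K) ≤ pCore 2 ↥K :=
    charP_of_equiv (Subgroup.subgroupOfEquivOfLe hKH) h2
  exact Cfsg.Agent.Lib.Helper25.generalizedFittingSubgroup_eq_pCore_of_normal_pSubgroup
    (pCore 2 ↥K) inferInstance pCore_isPGroup h3

/-- a perfect subgroup is generated by its elements of odd order. -/
theorem oddGenerated_eq_of_perfect [Finite G] {K : Subgroup G} (hK : ⁅K, K⁆ = K) :
    oddGenerated K = K := by
  have : Fact (Nat.Prime 2) := ⟨Nat.prime_two⟩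
  have h1 : commutator ↥K = ⊤ := by
    rw [commutator_def]
    apply Subgroup.map_injective K.subtype_injective
    rw [Subgroup.map_commutator, ← MonoidHom.range_eq_map, Subgroup.range_subtype]
    exact hK
  have h2 : pResidual 2 ↥K = ⊤ := by
    apply Cfsg.Agent.Lib.Helper8.pResidual_eq_top_of_sup_commutator
    rw [h1, sup_top_eq]
  have h3 := pResidual_map_subtype (p := 2) K
  rw [h2, ← MonoidHom.range_eq_map, Subgroup.range_subtype] at h3
  have h4 : {x : G | x ∈ K ∧ Odd (orderOf x)} = {g : G | g ∈ K ∧ (orderOf g).Coprime 2} := by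
    ext x
    constructor
    · rintro ⟨h, h'⟩; exact ⟨h, Nat.coprime_two_right.mpr h'⟩
    · rintro ⟨h, h'⟩; exact ⟨h, Nat.coprime_two_right.mp h'⟩
  unfold oddGenerated
  rw [h4]
  exact h3.symm

end Cfsg.Agent.Lib.Helper18.QT
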