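import Mathlib
import Cfsg.Agent.Lib.Helper18.SLQuadF

/-!
helper18: a ring identity behind "`PSL₂(q)`, `q` odd, has no quadratic modules".
If `X² = Y² = 0`, `x = 1 + X` and `y = 1 + Y` satisfy the braid relation `xyx = yxy` and
`(xyx)² = 1`, and `2` is invertible, then `X = Y`.  Also the corresponding relations in
`PSL₂(F)`.
-/

set_option autoImplicit false
set_option linter.unusedSimpArgs false

namespace Cfsg.Agent.Lib.Helper18.QuadNo

open Matrix Cfsg.Agent.Lib.Helper13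

theorem braid_ring {R : Type*} [Ring R] (h2 : IsUnit (2 : R)) (X Y : R) (hX : X * X = 0)
    (hY : Y * Y = 0)
    (hb : (1 + X) * (1 + Y) * (1 + X) = (1 + Y) * (1 + X) * (1 + Y))
    (hi : ((1 + X) * (1 + Y) * (1 + X)) * ((1 + X) * (1 + Y) * (1 + X)) = 1) : X = Y := by
  have hX' : ∀ b, X * (X * b) = 0 := fun b => by rw [← mul_assoc, hX, zero_mul]
  have hY' : ∀ b, Y * (Y * b) = 0 := fun b => by rw [← mul_assoc, hY, zero_mul]
  -- braid: X + XYX = Y + YXY
  have hB : X + X * (Y * X) = Y + Y * (X * Y) := by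
    have h := sub_eq_zero.mpr hb
    simp only [mul_add, add_mul, mul_one, one_mul, mul_assoc, hX, hY, hX', hY', mul_zero,
      add_zero] at h
    have : X + X * (Y * X) - (Y + Y * (X * Y)) = 0 := by
      rw [← h]
      abel
    exact sub_eq_zero.mp this
  -- XYXY = -XY
  have h1 : X * (Y * (X * Y)) = -(X * Y) := by
    have h := congrArg (fun z => X * z) hB
    simp only [mul_add, mul_assoc, hX, hX', hY, hY', zero_add] at h
    exact eq_neg_of_add_eq_zero_right h.symm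
  have h1' : ∀ b, X * (Y * (X * (Y * b))) = -(X * (Y * b)) := fun b => by
    have := congrArg (fun z => z * b) h1
    simpa only [mul_assoc, neg_mul] using this
  have h2' : Y * (X * (Y * X)) = -(Y * X) := by
    have h := congrArg (fun z => Y * z) hB
    simp only [mul_add, mul_assoc, hX, hX', hY, hY', zero_add] at h
    exact eq_neg_of_add_eq_zero_right h
  have h2'' : ∀ b, Y * (X * (Y * (X * b))) = -(Y * (X * b)) := fun b => by
    have := congrArg (fun z => z * b) h2'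
    simpa only [mul_assoc, neg_mul] using this
  have hXYX : X * (Y * X) = 0 := by
    have h := congrArg (fun z => X * z) hi
    simp only [mul_add, add_mul, mul_one, one_mul, mul_assoc, hX, hY, hX', hY', mul_zero,
      add_zero, zero_add, h1, h1', mul_neg] at h
    have h' : (2 : R) * (X * (Y * X)) = 0 := by
      rw [two_mul]
      have h3 := sub_eq_zero.mpr h
      rw [← h3]
      abel
    exact (h2.mul_right_eq_zero).mp h'
  have hYXY : Y * (X * Y) = 0 := by
    have hi' := hi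
    rw [hb] at hi'
    have h := congrArg (fun z => Y * z) hi'
    simp only [mul_add, add_mul, mul_one, one_mul, mul_assoc, hX, hY, hX', hY', mul_zero,
      add_zero, zero_add, h2', h2'', mul_neg] at h
    have h' : (2 : R) * (Y * (X * Y)) = 0 := by
      rw [two_mul]
      have h3 := sub_eq_zero.mpr h
      rw [← h3]
      abel
    exact (h2.mul_right_eq_zero).mp h'
  rw [hXYX, hYXY, add_zero, add_zero] at hB
  exact hB

section SL

variable {F : Type*} [Field F]

/-- The braid relation between `tSL t` and `lSL (-t⁻¹)`. -/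
theorem tSL_lSL_braid (t : F) (ht : t ≠ 0) :
    tSL t * lSL (-t⁻¹) * tSL t = lSL (-t⁻¹) * tSL t * lSL (-t⁻¹) := by
  apply Subtype.ext
  change (!![1, t; 0, 1] * !![1, 0; -t⁻¹, 1] * !![1, t; 0, 1] : Matrix (Fin 2) (Fin 2) F) =
    !![1, 0; -t⁻¹, 1] * !![1, t; 0, 1] * !![1, 0; -t⁻¹, 1]
  ext i j
  fin_cases i <;> fin_cases j <;>
    simp [Matrix.mul_apply, Fin.sum_univ_two, ht]

/-- `(tSL t * lSL (-t⁻¹) * tSL t)² = -1`. -/
theorem tSL_lSL_sq (t : F) (ht : t ≠ 0) :
    ((tSL t * lSL (-t⁻¹) * tSL t * (tSL t * lSL (-t⁻¹) * tSL t) :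
      SpecialLinearGroup (Fin 2) F) : Matrix (Fin 2) (Fin 2) F) = -1 := by
  change (!![1, t; 0, 1] * !![1, 0; -t⁻¹, 1] * !![1, t; 0, 1] *
    (!![1, t; 0, 1] * !![1, 0; -t⁻¹, 1] * !![1, t; 0, 1]) : Matrix (Fin 2) (Fin 2) F) = -1
  ext i j
  fin_cases i <;> fin_cases j <;>
    simp [Matrix.mul_apply, Fin.sum_univ_two, ht]

theorem tSL_inv_mul_lSL_apply (t s : F) :
    (((tSL t)⁻¹ * lSL s : SpecialLinearGroup (Fin 2) F) : Matrix (Fin 2) (Fin 2) F) 0 1 = -t := by
  rw [Cfsg.Agent.Lib.Helper18.SLQuad.tSL_inv]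
  change (!![1, -t; 0, 1] * !![1, 0; s, 1] : Matrix (Fin 2) (Fin 2) F) 0 1 = -t
  simp [Matrix.mul_apply, Fin.sum_univ_two]

variable [Fintype F]

/-- A non-trivial `p`-element `x` of `PSL₂(F)` (`char F = p`) has a conjugate `y` with
`xyx = yxy`, `(xyx)² = 1` and `y ≠ x`. -/
theorem psl_braid (p : ℕ) [Fact p.Prime] [CharP F p]
    (x : ProjectiveSpecialLinearGroup (Fin 2) F) (hx1 : x ≠ 1)
    (hxp : IsPGroup p (Subgroup.zpowers x)) :
    ∃ w y : ProjectiveSpecialLinearGroup (Fin 2) F, y = w * x * w⁻¹ ∧ x * y * x = y * x * y ∧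
      (x * y * x) * (x * y * x) = 1 ∧ x ≠ y := by
  classical
  have hsurj : Function.Surjective
      (QuotientGroup.mk' (Subgroup.center (SpecialLinearGroup (Fin 2) F))) :=
    QuotientGroup.mk'_surjective _
  set P₀ : Sylow p (ProjectiveSpecialLinearGroup (Fin 2) F) :=
    (sylowUnipSL (F := F) p).mapSurjective hsurj with hP₀
  obtain ⟨Q, hQ⟩ := hxp.exists_le_sylow
  obtain ⟨g, hg⟩ := MulAction.exists_smul_eq (ProjectiveSpecialLinearGroup (Fin 2) F) P₀ Q
  have hxQ : x ∈ (Q : Subgroup (ProjectiveSpecialLinearGroup (Fin 2) F)) :=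
    hQ (Subgroup.mem_zpowers x)
  rw [← hg, Sylow.coe_subgroup_smul, Subgroup.mem_pointwise_smul_iff_inv_smul_mem] at hxQ
  rw [hP₀, Sylow.coe_mapSurjective, coe_sylowUnipSL] at hxQ
  obtain ⟨u, hu, hux⟩ := Subgroup.mem_map.mp hxQ
  obtain ⟨t, rfl⟩ := mem_unipSL.mp hu
  obtain ⟨B, rfl⟩ := hsurj g
  obtain ⟨π, hπ⟩ : ∃ π : SpecialLinearGroup (Fin 2) F →* ProjectiveSpecialLinearGroup (Fin 2) F,
      π = QuotientGroup.mk' (Subgroup.center (SpecialLinearGroup (Fin 2) F)) := ⟨_, rfl⟩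
  rw [← hπ] at hux
  have hker : ∀ z : SpecialLinearGroup (Fin 2) F, π z = 1 ↔
      z ∈ Subgroup.center (SpecialLinearGroup (Fin 2) F) := by
    intro z
    rw [hπ]
    exact QuotientGroup.eq_one_iff z
  have hxeq : x = π (B * tSL t * B⁻¹) := by
    rw [map_mul, map_mul, map_inv, hux]
    simp only [MulAut.smul_def, MulAut.conj_apply, MulAut.conj_inv_apply, map_inv]
    group
  have ht : t ≠ 0 := by
    rintro rfl
    apply hx1
    rw [hxeq, tSL_zero, mul_one, mul_inv_cancel, map_one]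
  obtain ⟨s, hs⟩ : ∃ s : F, s = -t⁻¹ := ⟨_, rfl⟩
  have hbr := tSL_lSL_braid t ht
  have hsq := tSL_lSL_sq t ht
  rw [← hs] at hbr hsq
  obtain ⟨W₀, hW₀⟩ : ∃ W₀ : SpecialLinearGroup (Fin 2) F, W₀ = tSL t * lSL s * tSL t := ⟨_, rfl⟩
  rw [← hW₀] at hsq
  have hWc : W₀ * W₀ ∈ Subgroup.center (SpecialLinearGroup (Fin 2) F) := by
    rw [Matrix.SpecialLinearGroup.mem_center_iff]
    refine ⟨-1, by simp, ?_⟩
    rw [hsq]
    ext i j
    fin_cases i <;> fin_cases j <;> simp
  refine ⟨π (B * W₀ * B⁻¹), π (B * lSL s * B⁻¹), ?_, ?_, ?_, ?_⟩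
  · rw [hxeq, ← map_inv, ← map_mul, ← map_mul]
    congr 1
    have h : lSL s * W₀ = W₀ * tSL t := by
      rw [hW₀]
      calc lSL s * (tSL t * lSL s * tSL t) = (lSL s * tSL t * lSL s) * tSL t := by group
        _ = (tSL t * lSL s * tSL t) * tSL t := by rw [hbr]
    have h' : lSL s = W₀ * tSL t * W₀⁻¹ := by
      rw [← h]
      group
    rw [h']
    group
  · rw [hxeq, ← map_mul, ← map_mul, ← map_mul, ← map_mul]
    congr 1
    calc B * tSL t * B⁻¹ * (B * lSL s * B⁻¹) * (B * tSL t * B⁻¹)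
        = B * (tSL t * lSL s * tSL t) * B⁻¹ := by group
      _ = B * (lSL s * tSL t * lSL s) * B⁻¹ := by rw [hbr]
      _ = _ := by group
  · rw [hxeq, ← map_mul, ← map_mul, ← map_mul]
    have h : B * tSL t * B⁻¹ * (B * lSL s * B⁻¹) * (B * tSL t * B⁻¹) *
        (B * tSL t * B⁻¹ * (B * lSL s * B⁻¹) * (B * tSL t * B⁻¹)) = B * (W₀ * W₀) * B⁻¹ := by
      rw [hW₀]
      group
    rw [h, map_mul, map_mul, (hker _).mpr hWc, mul_one, ← map_mul, mul_inv_cancel, map_one]
  · intro h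
    rw [hxeq] at h
    have h1 : π ((B * tSL t * B⁻¹)⁻¹ * (B * lSL s * B⁻¹)) = 1 := by
      rw [map_mul, map_inv, h, inv_mul_cancel]
    rw [hker] at h1
    have h2 : (tSL t)⁻¹ * lSL s ∈ Subgroup.center (SpecialLinearGroup (Fin 2) F) := by
      have := (Subgroup.center (SpecialLinearGroup (Fin 2) F)).normal_of_characteristic.conj_mem
        _ h1 B⁻¹
      have e : B⁻¹ * ((B * tSL t * B⁻¹)⁻¹ * (B * lSL s * B⁻¹)) * B⁻¹⁻¹ = (tSL t)⁻¹ * lSL s := by
        group
      rw [e] at this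
      exact this
    rw [Matrix.SpecialLinearGroup.mem_center_iff] at h2
    obtain ⟨r, -, hr⟩ := h2
    have h3 := congrFun (congrFun hr 0) 1
    rw [tSL_inv_mul_lSL_apply] at h3
    simp at h3
    exact ht h3

end SL

end Cfsg.Agent.Lib.Helper18.QuadNo
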