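import Mathlib
import Cfsg.Prelude
import Cfsg.Agent.Lib.Helper18.QuadNoA
import Cfsg.Agent.Lib.Helper29.QuadPairPStable
import Cfsg.Agent.Lib.Helper7.ReeSyl3
import Cfsg.Agent.Lib.Helper12.Cores
import Cfsg.Agent.Lib.Helper13.NaturalSL2

/-!
helper18: `PSL₂(q)` (`q` odd) and the Ree groups `²G₂(3^(2m+1))` have no quadratic elements on
faithful modules in their defining characteristic.
-/

set_option autoImplicit false
set_option linter.unusedSectionVars false
set_option linter.style.haveILetI false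

namespace Cfsg.Agent.Lib.Helper18.QuadNo

open Matrix Cfsg.Agent.Lib.Helper13 Cfsg.Agent.Lib.Helper29.QuadPair

section rep

variable {p : ℕ} [hpF : Fact p.Prime] {L : Type*} [Group L] {W : Type*} [AddCommGroup W]
  [Module (ZMod p) W]

/-- A quadratic `x` and a conjugate `y` with `xyx = yxy` and `(xyx)² = 1` act in the same way
(`p` odd). -/
theorem rep_eq_of_braid (hp : p ≠ 2) (ρ : Representation (ZMod p) L W) (x w y : L)
    (hq : IsQuad ρ x) (hy : y = w * x * w⁻¹) (hb : x * y * x = y * x * y)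
    (hi : (x * y * x) * (x * y * x) = 1) : ρ x = ρ y := by
  have hpp : p.Prime := hpF.out
  obtain ⟨X, hX⟩ : ∃ X : Module.End (ZMod p) W, X = ρ x - 1 := ⟨_, rfl⟩
  obtain ⟨Y, hY⟩ : ∃ Y : Module.End (ZMod p) W, Y = ρ y - 1 := ⟨_, rfl⟩
  have hxX : ρ x = 1 + X := by rw [hX]; abel
  have hyY : ρ y = 1 + Y := by rw [hY]; abel
  have hXX : X * X = 0 := by rw [hX]; exact hq.sq_zero
  have hww : ρ w * ρ w⁻¹ = 1 := by rw [← map_mul, mul_inv_cancel, map_one]
  have hww' : ρ w⁻¹ * ρ w = 1 := by rw [← map_mul, inv_mul_cancel, map_one]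
  have hYX : Y = ρ w * X * ρ w⁻¹ := by
    rw [hY, hy, map_mul, map_mul, hX, mul_sub, sub_mul, mul_one, hww]
  have hYY : Y * Y = 0 := by
    rw [hYX]
    calc ρ w * X * ρ w⁻¹ * (ρ w * X * ρ w⁻¹) = ρ w * X * (ρ w⁻¹ * ρ w) * X * ρ w⁻¹ := by
          simp only [mul_assoc]
      _ = 0 := by rw [hww', mul_one, mul_assoc (ρ w), hXX, mul_zero, zero_mul]
  have h2 : IsUnit (2 : Module.End (ZMod p) W) := by
    have h2' : IsUnit (2 : ZMod p) := by
      rw [isUnit_iff_ne_zero]
      intro h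
      have h3 : ((2 : ℕ) : ZMod p) = 0 := by exact_mod_cast h
      rw [ZMod.natCast_eq_zero_iff] at h3
      exact hp ((Nat.prime_dvd_prime_iff_eq hpp Nat.prime_two).mp h3)
    have := h2'.map (algebraMap (ZMod p) (Module.End (ZMod p) W))
    rwa [map_ofNat] at this
  have hb' : (1 + X) * (1 + Y) * (1 + X) = (1 + Y) * (1 + X) * (1 + Y) := by
    rw [← hxX, ← hyY, ← map_mul, ← map_mul, ← map_mul, ← map_mul, hb]
  have hi' : ((1 + X) * (1 + Y) * (1 + X)) * ((1 + X) * (1 + Y) * (1 + X)) = 1 := by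
    rw [← hxX, ← hyY, ← map_mul, ← map_mul, ← map_mul, hi, map_one]
  have := braid_ring h2 X Y hXX hYY hb' hi'
  rw [hxX, hyY, this]

variable [Finite L] [Finite W]

/-- `PSL₂(F)`, `F` of odd characteristic `p`, has no quadratic elements on a faithful
`𝔽_p`-module. -/
theorem no_quad_PSL (hp : p ≠ 2) {F : Type*} [Field F] [Fintype F] [CharP F p]
    (e : L ≃* ProjectiveSpecialLinearGroup (Fin 2) F) (ρ : Representation (ZMod p) L W)
    (hinj : ∀ g, ρ g = 1 → g = 1) (a : L) (ha : IsQuad ρ a) : a = 1 := by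
  by_contra ha1
  have hap : a ^ p = 1 := pow_prime_eq_one_of_isQuad ρ hinj ha
  have hx1 : e a ≠ 1 := by
    intro h
    apply ha1
    apply e.injective
    rw [h, map_one]
  have hxp' : (e a) ^ p = 1 := by rw [← map_pow, hap, map_one]
  have hxp : IsPGroup p (Subgroup.zpowers (e a)) := by
    rintro ⟨g, hg⟩
    obtain ⟨k, rfl⟩ := Subgroup.mem_zpowers_iff.mp hg
    refine ⟨1, ?_⟩
    apply Subtype.ext
    simp only [pow_one, Subgroup.coe_pow, Subgroup.coe_one]
    rw [← zpow_natCast, ← _root_.zpow_mul, mul_comm, _root_.zpow_mul, zpow_natCast, hxp', _root_.one_zpow]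
  obtain ⟨w, y, hy, hb, hi, hne⟩ := psl_braid p (e a) hx1 hxp
  have h1 : e.symm y = e.symm w * a * (e.symm w)⁻¹ := by
    apply e.injective
    rw [map_mul, map_mul, map_inv, e.apply_symm_apply, e.apply_symm_apply, hy]
  have h2 : a * e.symm y * a = e.symm y * a * e.symm y := by
    apply e.injective
    rw [map_mul, map_mul, map_mul, map_mul, e.apply_symm_apply, hb]
  have h3 : (a * e.symm y * a) * (a * e.symm y * a) = 1 := by
    apply e.injective
    rw [map_mul, map_mul, map_mul, e.apply_symm_apply, hi, map_one]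
  have h4 := rep_eq_of_braid hp ρ a (e.symm w) (e.symm y) ha h1 h2 h3
  have h5 : ρ (a⁻¹ * e.symm y) = 1 := by
    rw [map_mul, ← h4, ← map_mul, inv_mul_cancel, map_one]
  have h6 := hinj _ h5
  apply hne
  have h7 : a = e.symm y := by
    calc a = a * (a⁻¹ * e.symm y) := by rw [h6, mul_one]
      _ = e.symm y := by group
  rw [h7, e.apply_symm_apply]

end rep

section ree

variable {L : Type*} [Group L] [Finite L] {W : Type*} [AddCommGroup W] [Module (ZMod 3) W]
  [Finite W]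

/-- The Ree groups `²G₂(3^(2m+1))`, `m ≥ 1`, have no quadratic elements on a faithful
`𝔽₃`-module. -/
theorem no_quad_Ree (hL : Cfsg.Lie.IsoRee L) (ρ : Representation (ZMod 3) L W)
    (hinj : ∀ g, ρ g = 1 → g = 1) (a : L) (ha : IsQuad ρ a) : a = 1 := by
  classical
  haveI : Fact (Nat.Prime 3) := ⟨Nat.prime_three⟩
  haveI : Fact (Nat.Prime 2) := ⟨Nat.prime_two⟩
  obtain ⟨K, _, _, m, hm, hK, ⟨e⟩⟩ := hL
  by_contra ha1
  -- transport to the Ree group itself
  obtain ⟨ρ', hρ'⟩ : ∃ ρ' : Representation (ZMod 3) ↥(Cfsg.Lie.twistedG2 K (3 ^ m)) W,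
      ρ' = ρ.comp e.symm.toMonoidHom := ⟨_, rfl⟩
  have hρ'a : ∀ g, ρ' g = ρ (e.symm g) := by
    intro g
    rw [hρ']
    rfl
  have hinj' : ∀ g, ρ' g = 1 → g = 1 := by
    intro g hg
    rw [hρ'a] at hg
    have := hinj _ hg
    apply e.symm.injective
    rw [this, map_one]
  have ha' : IsQuad ρ' (e a) := by
    intro w
    rw [hρ'a, e.symm_apply_apply]
    exact ha w
  have hea1 : e a ≠ 1 := by
    intro h
    apply ha1
    apply e.injective
    rw [h, map_one]
  obtain ⟨hsimple, hnc⟩ := Cfsg.Agent.Lib.Helper7.ree_simple hK hm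
  -- the `3`-core is trivial
  have hcore : Cfsg.pCore 3 ↥(Cfsg.Lie.twistedG2 K (3 ^ m)) = ⊥ := by
    haveI := (Cfsg.Agent.Lib.Helper12.pCore_characteristic' (G := ↥(Cfsg.Lie.twistedG2 K (3 ^ m))) 3)
    have hN : (Cfsg.pCore 3 ↥(Cfsg.Lie.twistedG2 K (3 ^ m))).Normal :=
      Subgroup.normal_of_characteristic _
    rcases hN.eq_bot_or_eq_top with h | h
    · exact h
    · exfalso
      have hP : IsPGroup 3 ↥(Cfsg.Lie.twistedG2 K (3 ^ m)) := by
        have h1 := Cfsg.Agent.Lib.Helper12.pCore_isPGroup' (X := ↥(Cfsg.Lie.twistedG2 K (3 ^ m))) 3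
        rw [h] at h1
        exact IsPGroup.of_equiv h1 Subgroup.topEquiv
      haveI : Nontrivial ↥(Cfsg.Lie.twistedG2 K (3 ^ m)) := ⟨⟨e a, 1, hea1⟩⟩
      have hZ := hP.center_nontrivial
      have hZn : (Subgroup.center ↥(Cfsg.Lie.twistedG2 K (3 ^ m))).Normal := inferInstance
      rcases hZn.eq_bot_or_eq_top with h' | h'
      · rw [Subgroup.nontrivial_iff_ne_bot] at hZ
        exact hZ h'
      · apply hnc
        refine ⟨⟨fun x y => ?_⟩⟩
        have hx : x ∈ Subgroup.center ↥(Cfsg.Lie.twistedG2 K (3 ^ m)) := by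
          rw [h']
          exact Subgroup.mem_top x
        exact (Subgroup.mem_center_iff.mp hx y).symm
  have hna : e a ∉ Cfsg.pCore 3 ↥(Cfsg.Lie.twistedG2 K (3 ^ m)) := by
    rw [hcore, Subgroup.mem_bot]
    exact hea1
  -- Sylow `2`-subgroups have exponent two, hence are abelian
  obtain ⟨t, htH, ht1, ht2⟩ := Cfsg.Agent.Lib.Helper7.ReeSyl.exists_torus_involution hK
  obtain ⟨-, hsyl⟩ := Cfsg.Agent.Lib.Helper7.ree_involution_centralizer hK t htH ht1 ht2
  obtain ⟨T⟩ : Nonempty (Sylow 2 ↥(Cfsg.Lie.twistedG2 K (3 ^ m))) := inferInstance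
  apply sylow_two_not_comm_of_not_mem_pCore (p := 3) (by norm_num) ρ' hinj' (e a) ha' hna T
  refine ⟨⟨?_⟩⟩
  rintro ⟨x, hx⟩ ⟨y, hy⟩
  apply Subtype.ext
  change x * y = y * x
  have hxx := (hsyl T).2 x hx
  have hyy := (hsyl T).2 y hy
  have hxy := (hsyl T).2 (x * y) (Subgroup.mul_mem _ hx hy)
  calc x * y = (y * y) * (x * y) * (x * x) := by rw [hxx, hyy, one_mul, mul_one]
    _ = y * ((y * x) * (y * x)) * x := by group
    _ = y * (((x * y) * (x * y))⁻¹)⁻¹ * x := by
        congr 2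
        rw [inv_inv, hxy]
        have : (y * x) * (y * x) = y * ((x * y) * (x * y)) * y⁻¹ := by group
        rw [this, hxy, mul_one, mul_inv_cancel]
    _ = y * x := by rw [hxy, inv_one, inv_one, mul_one]

end ree

end Cfsg.Agent.Lib.Helper18.QuadNo
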