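import Mathlib
import Cfsg.Prelude
import Cfsg.Agent.Lib.Helper18.QuadNoB

/-!
helper18: no quadratic action on modules for `PSL₂(q)` (`q` odd) and `²G₂(q)`: subgroup form.
-/

set_option autoImplicit false
set_option linter.unusedSectionVars false
set_option linter.style.haveILetI false

namespace Cfsg.Agent.Lib.Helper18.QuadNo

open Subgroup Cfsg.Agent.Lib.Helper29.QuadPair
open scoped commutatorElement

universe u

theorem no_quadratic {G : Type u} [Group G] [Finite G] {p : ℕ} [hpF : Fact p.Prime]
    (V H : Subgroup G)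
    (hV : Cfsg.IsElementaryAbelian p V) (hHV : H ≤ Subgroup.normalizer (V : Set G))
    [hn : ((Subgroup.centralizer (V : Set G)).subgroupOf H).Normal]
    (hq : (∃ (F : Type) (_ : Field F) (_ : Fintype F) (n : ℕ), Fintype.card F = p ^ n ∧
        Odd (Fintype.card F) ∧
        Nonempty (↥H ⧸ (Subgroup.centralizer (V : Set G)).subgroupOf H ≃*
          Matrix.ProjectiveSpecialLinearGroup (Fin 2) F)) ∨
      (p = 3 ∧ Cfsg.Lie.IsoRee (↥H ⧸ (Subgroup.centralizer (V : Set G)).subgroupOf H)))
    (A : Subgroup G) (hA : A ≤ H) (hquad : ⁅⁅V, A⁆, A⁆ = ⊥) : ⁅V, A⁆ = ⊥ := by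
  classical
  have hpp : p.Prime := hpF.out
  haveI := hV.1
  letI : CommGroup V :=
    { (inferInstance : Group V) with
      mul_comm := fun x y => mul_comm' x y }
  have hVp : ∀ x : V, x ^ p = 1 := fun x => Subtype.ext (by simpa using hV.2 x x.2)
  let act₀ : H →* MulAut V := (V.normalizerMonoidHom).comp (Subgroup.inclusion hHV)
  have hact₀ : ∀ (g : H) (v : V), ((act₀ g v : V) : G) = g * v * (g : G)⁻¹ := fun g v => rfl
  have hker : ∀ g : H, act₀ g = 1 ↔ g ∈ (Subgroup.centralizer (V : Set G)).subgroupOf H := by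
    intro g
    rw [Subgroup.mem_subgroupOf, Subgroup.mem_centralizer_iff]
    constructor
    · intro hg v hv
      have h1 := congrArg (fun f => ((f ⟨v, hv⟩ : V) : G)) hg
      simp only [hact₀, MulAut.one_apply] at h1
      calc v * g = (g * v * (g : G)⁻¹) * g := by rw [h1]
        _ = g * v := by group
    · intro hg
      ext v
      rw [hact₀, MulAut.one_apply, ← hg v v.2]
      group
  let act : (↥H ⧸ (Subgroup.centralizer (V : Set G)).subgroupOf H) →* MulAut V :=
    QuotientGroup.lift _ act₀ (fun g hg => (hker g).mpr hg)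
  have hact : ∀ g : H, act (QuotientGroup.mk g) = act₀ g := fun g => rfl
  have hinj : Function.Injective act := by
    rw [injective_iff_map_eq_one]
    intro x hx
    obtain ⟨g, rfl⟩ := QuotientGroup.mk_surjective x
    rw [hact] at hx
    exact (QuotientGroup.eq_one_iff g).mpr ((hker g).mp hx)
  obtain ⟨iM, ρ₀, hρ₀⟩ := exists_rep (p := p) hVp act
  have hinj' : ∀ g, ρ₀ g = 1 → g = 1 := by
    intro g hg
    apply hinj
    rw [map_one]
    ext x
    have := congrArg (fun f => f (Additive.ofMul x)) hg
    simp only [hρ₀, Module.End.one_apply] at this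
    exact congrArg Subtype.val (Additive.ofMul.injective this)
  have hcore : ∀ x : ↥H ⧸ (Subgroup.centralizer (V : Set G)).subgroupOf H,
      (∀ v : V, act x (act x v / v) = act x v / v) → x = 1 := by
    intro x hx
    have hQ := isQuad_of_act act ρ₀ hρ₀ x hx
    rcases hq with ⟨F, _, _, n, hF, hodd, ⟨e⟩⟩ | ⟨hp3, hRee⟩
    · have hp2 : p ≠ 2 := by
        rintro rfl
        rw [hF] at hodd
        rcases Nat.eq_zero_or_pos n with h0 | h0
        · subst h0
          have h1 : 1 < Fintype.card F := Fintype.one_lt_card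
          rw [hF] at h1
          norm_num at h1
        · have : Even (2 ^ n) := (Nat.even_pow' h0.ne').mpr even_two
          exact (Nat.not_even_iff_odd.mpr hodd) this
      haveI : CharP F p := Cfsg.Agent.Lib.Helper13.NatSL2.charP_of_card n hF
      exact no_quad_PSL hp2 e ρ₀ hinj' x hQ
    · subst hp3
      exact no_quad_Ree hRee ρ₀ hinj' x hQ
  rw [Subgroup.commutator_eq_bot_iff_le_centralizer]
  intro v hv
  rw [Subgroup.mem_centralizer_iff]
  intro a ha
  have haH : a ∈ H := hA ha
  have hza : ⁅⁅V, zpowers a⁆, zpowers a⁆ = ⊥ := by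
    rw [eq_bot_iff, ← hquad]
    have hz : zpowers a ≤ A := (Subgroup.zpowers_le).mpr ha
    exact Subgroup.commutator_mono (Subgroup.commutator_mono le_rfl hz) hz
  have h1 := hcore (QuotientGroup.mk ⟨a, haH⟩) (by
    intro x
    rw [hact]
    apply Subtype.ext
    rw [hact₀]
    have hc : ((act₀ ⟨a, haH⟩ x / x : V) : G) = ⁅a, (x : G)⁆ := by
      rw [Subgroup.coe_div, hact₀, commutatorElement_def, div_eq_mul_inv]
    rw [hc]
    exact conj_commutator_eq_of_quad V a hza x x.2)
  have h2 := (hker ⟨a, haH⟩).mpr ((QuotientGroup.eq_one_iff _).mp h1)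
  have h3 := congrArg (fun f => ((f ⟨v, hv⟩ : V) : G)) h2
  simp only [hact₀, MulAut.one_apply] at h3
  calc a * v = (a * v * a⁻¹) * a := by group
    _ = v * a := by rw [h3]

end Cfsg.Agent.Lib.Helper18.QuadNo
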