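import Mathlib
import Cfsg.Agent.Lib.Helper18.UniqueInvolution

set_option autoImplicit false

/-!
# Generalized quaternion relations from a covering property; index of coatoms in abelian 2-groups
-/

namespace Cfsg.Agent.Lib.Helper18

open Subgroup

/-- In a nonabelian 2-group `R` with a unique involution, if every element has the form
`p^i ε` or `q p^i ε` with `ε² = 1`, then `p, q` satisfy the generalized quaternion relations. -/
theorem quaternion_relations_of_cover {R : Type*} [Group R] [Finite R] (hR : IsPGroup 2 R)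
    (hna : ¬ IsMulCommutative R)
    (huniq : ∀ s t : R, orderOf s = 2 → orderOf t = 2 → s = t)
    (p q : R)
    (hcov : ∀ r : R, ∃ i : ℤ, ∃ ε : R, ε ^ 2 = 1 ∧ (r = p ^ i * ε ∨ r = q * p ^ i * ε)) :
    ∃ m : ℕ, 2 ≤ m ∧ Nat.card R = 2 ^ (m + 1) ∧ orderOf p = 2 ^ m ∧ q ∉ Subgroup.zpowers p ∧
      q * p * q⁻¹ = p⁻¹ ∧ q ^ 2 = p ^ (2 ^ (m - 1)) ∧
      ∀ g : R, g ∈ Subgroup.zpowers p ∨ ∃ h ∈ Subgroup.zpowers p, g = q * h := by
  haveI : Fact (Nat.Prime 2) := ⟨Nat.prime_two⟩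
  -- every ε with ε² = 1 is central
  have hcentral : ∀ ε : R, ε ^ 2 = 1 → ∀ g : R, g * ε = ε * g := by
    intro ε hε g
    by_cases h1 : ε = 1
    · rw [h1, mul_one, one_mul]
    have ho : orderOf ε = 2 := orderOf_eq_prime hε h1
    have ho' : orderOf (g * ε * g⁻¹) = 2 := by
      rw [← MulAut.conj_apply, MulEquiv.orderOf_eq]; exact ho
    have := huniq _ _ ho' ho
    exact mul_inv_eq_iff_eq_mul.mp this
  -- p and q do not commute
  have hnc : q * p ≠ p * q := by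
    intro hc
    apply hna
    refine ⟨⟨?_⟩⟩
    intro r s
    have hcq : Commute q p := hc
    obtain ⟨i, ε, hε, hr⟩ := hcov r
    obtain ⟨j, δ, hδ, hs⟩ := hcov s
    have c1 : ∀ g : R, Commute g ε := fun g => hcentral ε hε g
    have c2 : ∀ g : R, Commute g δ := fun g => hcentral δ hδ g
    have cpp : Commute (p ^ i) (p ^ j) := ((Commute.refl p).zpow_left i).zpow_right j
    have cqpj : Commute q (p ^ j) := hcq.zpow_right j
    have cqpi : Commute q (p ^ i) := hcq.zpow_right i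
    have key : Commute r s := by
      rcases hr with rfl | rfl <;> rcases hs with rfl | rfl
      · exact (cpp.mul_right (c2 _)).mul_left (c1 _).symm
      · exact (((cqpi.symm.mul_right cpp)).mul_right (c2 _)).mul_left (c1 _).symm
      · exact (((cqpj.mul_left cpp)).mul_right (c2 _)).mul_left (c1 _).symm
      · exact ((((Commute.refl q).mul_right cqpj).mul_left (cqpi.symm.mul_right cpp)).mul_right
          (c2 _)).mul_left (c1 _).symm
    exact key
  have hp1 : p ≠ 1 := by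
    rintro rfl
    apply hnc
    rw [mul_one, one_mul]
  -- order of p
  obtain ⟨k, hk⟩ := IsPGroup.iff_orderOf.mp hR p
  have hk1 : 1 ≤ k := by
    by_contra hlt
    have : k = 0 := by omega
    rw [this, pow_zero, orderOf_eq_one_iff] at hk
    exact hp1 hk
  -- the involution of ⟨p⟩
  obtain ⟨z, hzdef⟩ : ∃ z, z = p ^ (2 ^ (k - 1)) := ⟨_, rfl⟩
  have hpow : 2 ^ k = 2 ^ (k - 1) * 2 := by
    rw [← pow_succ]; congr 1; omega
  have hzord : orderOf z = 2 := by
    rw [hzdef, orderOf_pow_of_dvd (by positivity) ⟨2, by rw [hk, hpow]⟩, hk, hpow]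
    exact Nat.mul_div_cancel_left _ (by positivity)
  have hzmem : z ∈ Subgroup.zpowers p := by
    rw [hzdef]; exact Subgroup.npow_mem_zpowers p _
  have hεmem : ∀ ε : R, ε ^ 2 = 1 → ε ∈ Subgroup.zpowers p := by
    intro ε hε
    by_cases h1 : ε = 1
    · rw [h1]; exact Subgroup.one_mem _
    have ho : orderOf ε = 2 := orderOf_eq_prime hε h1
    rw [huniq ε z ho hzord]; exact hzmem
  have hall : ∀ g : R, g ∈ Subgroup.zpowers p ∨ ∃ h ∈ Subgroup.zpowers p, g = q * h := by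
    intro g
    obtain ⟨i, ε, hε, hg⟩ := hcov g
    rcases hg with rfl | rfl
    · left
      exact Subgroup.mul_mem _ (Subgroup.zpow_mem_zpowers p i) (hεmem ε hε)
    · right
      exact ⟨p ^ i * ε, Subgroup.mul_mem _ (Subgroup.zpow_mem_zpowers p i) (hεmem ε hε),
        by rw [mul_assoc]⟩
  have hqnot : q ∉ Subgroup.zpowers p := by
    intro hq
    obtain ⟨j, rfl⟩ := Subgroup.mem_zpowers_iff.mp hq
    apply hnc
    have := zpow_mul_comm p j 1
    rw [zpow_one] at this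
    exact this
  have hqp : q * p * q⁻¹ ∈ Subgroup.zpowers p := by
    rcases hall (q * p * q⁻¹) with h | ⟨h, hh, he⟩
    · exact h
    · exfalso
      apply hqnot
      have : q = h⁻¹ * p := by
        have e1 : p * q⁻¹ = h := by
          have := mul_left_cancel (a := q) (b := p * q⁻¹) (c := h) (by rw [← he]; group)
          exact this
        rw [← e1]; group
      rw [this]
      exact Subgroup.mul_mem _ (Subgroup.inv_mem _ hh) (Subgroup.mem_zpowers p)
  have hq2 : q ^ 2 ∈ Subgroup.zpowers p := by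
    rcases hall (q ^ 2) with h | ⟨h, hh, he⟩
    · exact h
    · exfalso
      apply hqnot
      have : q = h := by
        have := mul_left_cancel (a := q) (b := q) (c := h) (by rw [← he, sq])
        exact this
      rw [this]; exact hh
  obtain ⟨hinv, hq4⟩ := inverts_of_unique_involution huniq p q k hk hqp hq2 hnc
  have hq2z : q ^ 2 = z := by
    apply huniq _ _ _ hzord
    rw [orderOf_pow_of_dvd (by norm_num) ⟨2, by rw [hq4]⟩, hq4]
  have hk2 : 2 ≤ k := by
    by_contra hlt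
    have hk' : k = 1 := by omega
    apply hnc
    -- p = z is central
    have hpz : p = z := by
      rw [hzdef, hk']; simp
    have hp2 : p ^ 2 = 1 := by
      rw [hpz, ← hzord]; exact pow_orderOf_eq_one z
    exact hcentral p hp2 q
  have hiso := nonempty_mulEquiv_quaternionGroup p q (2 ^ (k - 1))
    (by rw [hk, hpow, mul_comm]) (by rw [hq2z, hzdef]) hinv hqnot hall
  obtain ⟨e⟩ := hiso
  have hcard : Nat.card R = 2 ^ (k + 1) := by
    rw [Nat.card_congr e.toEquiv]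
    haveI : NeZero (2 ^ (k - 1)) := ⟨by positivity⟩
    rw [Nat.card_eq_fintype_card, QuaternionGroup.card, pow_succ, hpow]
    ring
  exact ⟨k, hk2, hcard, hk, hqnot, hinv, by rw [hq2z, hzdef], hall⟩


/-- squares lie in every coatom of an abelian 2-group -/
theorem sq_mem_of_isCoatom_of_comm {Z : Type*} [Group Z] [Finite Z] (hZ : IsPGroup 2 Z)
    (hcomm : ∀ a b : Z, a * b = b * a) (C : Subgroup Z) (hC : IsCoatom C) (z : Z) : z ^ 2 ∈ C := by
  by_contra hz2
  haveI hCn : C.Normal := ⟨fun n hn g => by rw [hcomm g n, mul_inv_cancel_right]; exact hn⟩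
  have hlt : C < C ⊔ Subgroup.zpowers (z ^ 2) := by
    refine lt_of_le_of_ne le_sup_left ?_
    intro h
    apply hz2
    rw [h]
    exact (le_sup_right : Subgroup.zpowers (z ^ 2) ≤ _) (Subgroup.mem_zpowers _)
  have htop := hC.2 _ hlt
  have hz : z ∈ C ⊔ Subgroup.zpowers (z ^ 2) := htop ▸ Subgroup.mem_top z
  rw [Subgroup.mem_sup_of_normal_left] at hz
  obtain ⟨c, hc, w, hw, hcw⟩ := hz
  obtain ⟨j, rfl⟩ := Subgroup.mem_zpowers_iff.mp hw
  -- c = z^(1-2j)
  have hc' : c = z ^ (1 - 2 * j) := by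
    have : c = z * ((z ^ 2) ^ j)⁻¹ := eq_mul_inv_of_mul_eq hcw
    rw [this, ← zpow_natCast z 2, ← zpow_mul, ← zpow_neg, ← zpow_one_add]
    congr 1
  obtain ⟨e, he⟩ := IsPGroup.iff_orderOf.mp hZ z
  have hcop : IsCoprime (1 - 2 * j) ((2 : ℤ) ^ e) := by
    apply IsCoprime.pow_right
    exact ⟨1, j, by ring⟩
  obtain ⟨u, v, huv⟩ := hcop
  have hz1 : z = c ^ u := by
    have h2 : z ^ ((2 : ℤ) ^ e) = 1 := by
      have := pow_orderOf_eq_one z
      rw [he] at this
      rw [← this, ← zpow_natCast]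
      push_cast
      rfl
    calc z = z ^ (u * (1 - 2 * j) + v * 2 ^ e) := by rw [huv, zpow_one]
      _ = (z ^ (1 - 2 * j)) ^ u * (z ^ ((2 : ℤ) ^ e)) ^ v := by
          rw [zpow_add, mul_comm u, zpow_mul, mul_comm v, zpow_mul]
      _ = c ^ u := by rw [h2, one_zpow, mul_one, hc']
  apply hz2
  rw [hz1]
  exact C.pow_mem (C.zpow_mem hc u) 2

/-- a coatom of an abelian 2-group has index two -/
theorem card_eq_two_mul_of_isCoatom_of_comm {Z : Type*} [Group Z] [Finite Z] (hZ : IsPGroup 2 Z)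
    (hcomm : ∀ a b : Z, a * b = b * a) (C : Subgroup Z) (hC : IsCoatom C) :
    Nat.card Z = 2 * Nat.card C := by
  haveI hCn : C.Normal := ⟨fun n hn g => by rw [hcomm g n, mul_inv_cancel_right]; exact hn⟩
  have hidx : C.index = 2 := by
    rw [Subgroup.index_eq_two_iff_exists_notMem_and]
    obtain ⟨z, hz⟩ : ∃ z : Z, z ∉ C := by
      by_contra hcon
      push Not at hcon
      exact hC.1 (eq_top_iff.mpr fun g _ => hcon g)
    refine ⟨z, hz, ?_⟩
    intro b
    have hlt : C < C ⊔ Subgroup.zpowers z := by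
      refine lt_of_le_of_ne le_sup_left ?_
      intro h
      apply hz
      rw [h]
      exact (le_sup_right : Subgroup.zpowers z ≤ _) (Subgroup.mem_zpowers _)
    have htop := hC.2 _ hlt
    have hb : b ∈ C ⊔ Subgroup.zpowers z := htop ▸ Subgroup.mem_top b
    rw [Subgroup.mem_sup_of_normal_left] at hb
    obtain ⟨c, hc, w, hw, rfl⟩ := hb
    obtain ⟨i, rfl⟩ := Subgroup.mem_zpowers_iff.mp hw
    have hsq : z ^ 2 ∈ C := sq_mem_of_isCoatom_of_comm hZ hcomm C hC z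
    rcases Int.even_or_odd' i with ⟨t, rfl | rfl⟩
    · right
      refine C.mul_mem hc ?_
      rw [zpow_mul, zpow_ofNat]
      exact C.zpow_mem hsq t
    · left
      rw [mul_assoc]
      refine C.mul_mem hc ?_
      have : z ^ (2 * t + 1) * z = (z ^ 2) ^ (t + 1) := by
        rw [← zpow_add_one, ← zpow_ofNat, ← zpow_mul]
        congr 1; ring
      rw [this]
      exact C.zpow_mem hsq _
  rw [← Subgroup.index_mul_card C, hidx]


/-- relations modulo a normal subgroup with generalized quaternion quotient -/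
theorem quaternion_relations_mod {S : Type*} [Group S] [Finite S] (hS : IsPGroup 2 S)
    (N : Subgroup S) [hN : N.Normal] (hna : ¬ IsMulCommutative (S ⧸ N))
    (huniq : ∀ s t : S ⧸ N, orderOf s = 2 → orderOf t = 2 → s = t) (a x : S)
    (hgen : ∀ g : S, ∃ i : ℤ, ∃ c : S, c ^ 2 ∈ N ∧ (g = a ^ i * c ∨ g = x * a ^ i * c)) :
    ∃ m : ℕ, 2 ≤ m ∧ Nat.card (S ⧸ N) = 2 ^ (m + 1) ∧ a ^ (2 ^ m) ∈ N ∧ x * a * x⁻¹ * a ∈ N ∧
      x ^ 2 * (a ^ (2 ^ (m - 1)))⁻¹ ∈ N := by
  have hR : IsPGroup 2 (S ⧸ N) := hS.to_quotient N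
  have hcov : ∀ r : S ⧸ N, ∃ i : ℤ, ∃ ε : S ⧸ N, ε ^ 2 = 1 ∧
      (r = (QuotientGroup.mk a : S ⧸ N) ^ i * ε ∨ r = QuotientGroup.mk x * (QuotientGroup.mk a : S ⧸ N) ^ i * ε) := by
    intro r
    obtain ⟨g, rfl⟩ := QuotientGroup.mk_surjective r
    obtain ⟨i, c, hc, hg⟩ := hgen g
    refine ⟨i, QuotientGroup.mk c, ?_, ?_⟩
    · rw [← QuotientGroup.mk_pow]; exact (QuotientGroup.eq_one_iff _).mpr hc
    · rcases hg with rfl | rfl
      · left; rfl
      · right; rfl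
  obtain ⟨m, hm, hcard, hord, -, hinv, hsq, -⟩ :=
    quaternion_relations_of_cover hR hna huniq (QuotientGroup.mk a) (QuotientGroup.mk x) hcov
  refine ⟨m, hm, hcard, ?_, ?_, ?_⟩
  · rw [← QuotientGroup.eq_one_iff (N := N), QuotientGroup.mk_pow, ← hord]
    exact pow_orderOf_eq_one _
  · rw [← QuotientGroup.eq_one_iff (N := N)]
    show (QuotientGroup.mk x : S ⧸ N) * QuotientGroup.mk a * (QuotientGroup.mk x)⁻¹ * QuotientGroup.mk a = 1
    rw [hinv, inv_mul_cancel]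
  · rw [← QuotientGroup.eq_one_iff (N := N)]
    show (QuotientGroup.mk x : S ⧸ N) ^ 2 * ((QuotientGroup.mk a : S ⧸ N) ^ (2 ^ (m - 1)))⁻¹ = 1
    rw [hsq, mul_inv_cancel]


open Cfsg.Agent.Lib.Helper3 in
/-- Splitting: a 2-group with a family of central subgroups `N j` of exponent two, of equal order and
with trivial intersection, such that all `S ⧸ N j` are nonabelian with a unique involution, has a
complement `Q` to `N i₀` which is nonabelian with a unique involution. -/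
theorem exists_quaternion_complement {S : Type*} [Group S] [Finite S] (hS : IsPGroup 2 S)
    {ι : Type*} (N : ι → Subgroup S)
    (hcard : ∀ i j, Nat.card (N i) = Nat.card (N j))
    (hexp : ∀ j, ∀ c ∈ N j, c ^ 2 = 1)
    (hint : ∀ g : S, (∀ j, g ∈ N j) → g = 1)
    (hq : ∀ j, ∃ (_ : (N j).Normal), ¬ IsMulCommutative (S ⧸ N j) ∧ ∃! x : S ⧸ N j, orderOf x = 2)
    (i₀ : ι) :
    ∃ Q : Subgroup S, Q ⊓ N i₀ = ⊥ ∧ Q ⊔ N i₀ = ⊤ ∧ ¬ IsMulCommutative Q ∧
      ∃! x : Q, orderOf x = 2 := by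
  classical
  haveI : Fact (Nat.Prime 2) := ⟨Nat.prime_two⟩
  obtain ⟨hNn0, hna0, x₀, hx₀, hx₀u⟩ := hq i₀
  have huniq0 : ∀ s t : S ⧸ N i₀, orderOf s = 2 → orderOf t = 2 → s = t := fun s t hs ht => by
    rw [hx₀u s hs, hx₀u t ht]
  have hQ2 : IsPGroup 2 (S ⧸ N i₀) := hS.to_quotient _
  rcases cyclic_or_quaternion_data hQ2 huniq0 with hcyc | ⟨ab, xb, m0, hm0, hord0, hxnot0, hxinv0, hx20, hall0⟩
  · exfalso
    apply hna0
    haveI := hcyc
    infer_instance
  obtain ⟨a, rfl⟩ := QuotientGroup.mk_surjective ab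
  obtain ⟨x, rfl⟩ := QuotientGroup.mk_surjective xb
  have hgen : ∀ g : S, ∃ i : ℤ, ∃ c : S, c ∈ N i₀ ∧ (g = a ^ i * c ∨ g = x * a ^ i * c) := by
    intro g
    rcases hall0 (QuotientGroup.mk g) with h | ⟨hb, hh, hg⟩
    · obtain ⟨i, hi⟩ := Subgroup.mem_zpowers_iff.mp h
      refine ⟨i, (a ^ i)⁻¹ * g, ?_, Or.inl (by group)⟩
      have h1 : (QuotientGroup.mk (a ^ i) : S ⧸ N i₀) = QuotientGroup.mk g := by rw [← hi]; rfl
      exact QuotientGroup.eq.mp h1
    · obtain ⟨i, hi⟩ := Subgroup.mem_zpowers_iff.mp hh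
      refine ⟨i, (x * a ^ i)⁻¹ * g, ?_, Or.inr (by group)⟩
      have h1 : (QuotientGroup.mk (x * a ^ i) : S ⧸ N i₀) = QuotientGroup.mk g := by
        rw [hg, ← hi]; rfl
      exact QuotientGroup.eq.mp h1
  have hrel : ∀ j, ∃ m : ℕ, 2 ≤ m ∧ Nat.card (S ⧸ N j) = 2 ^ (m + 1) ∧ a ^ (2 ^ m) ∈ N j ∧
      x * a * x⁻¹ * a ∈ N j ∧ x ^ 2 * (a ^ (2 ^ (m - 1)))⁻¹ ∈ N j := by
    intro j
    obtain ⟨hNn, hna, y₀, hy₀, hy₀u⟩ := hq j
    have huniq : ∀ s t : S ⧸ N j, orderOf s = 2 → orderOf t = 2 → s = t := fun s t hs ht => by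
      rw [hy₀u s hs, hy₀u t ht]
    refine quaternion_relations_mod hS (N j) hna huniq a x ?_
    intro g
    obtain ⟨i, c, hc, hg⟩ := hgen g
    refine ⟨i, c, ?_, hg⟩
    rw [hexp i₀ c hc]; exact Subgroup.one_mem _
  obtain ⟨m, hm, hcard0, -, -, -⟩ := hrel i₀
  have hrel' : ∀ j, a ^ (2 ^ m) ∈ N j ∧ x * a * x⁻¹ * a ∈ N j ∧
      x ^ 2 * (a ^ (2 ^ (m - 1)))⁻¹ ∈ N j := by
    intro j
    obtain ⟨mj, hmj, hcardj, h1, h2, h3⟩ := hrel j
    have hmm : mj = m := by
      have e1 := Subgroup.card_eq_card_quotient_mul_card_subgroup (N j)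
      have e0 := Subgroup.card_eq_card_quotient_mul_card_subgroup (N i₀)
      rw [hcardj, hcard j i₀] at e1
      rw [hcard0] at e0
      have hpos : 0 < Nat.card (N i₀) := Nat.card_pos
      have h2 : 2 ^ (mj + 1) = 2 ^ (m + 1) := Nat.eq_of_mul_eq_mul_right hpos (e1.symm.trans e0)
      have := Nat.pow_right_injective (le_refl 2) h2
      omega
    subst hmm
    exact ⟨h1, h2, h3⟩
  have hu : a ^ (2 ^ m) = 1 := hint _ (fun j => (hrel' j).1)
  have hv : x * a * x⁻¹ * a = 1 := hint _ (fun j => (hrel' j).2.1)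
  have hw : x ^ 2 * (a ^ (2 ^ (m - 1)))⁻¹ = 1 := hint _ (fun j => (hrel' j).2.2)
  have hxa : x * a * x⁻¹ = a⁻¹ := eq_inv_of_mul_eq_one_left hv
  have hx2 : x ^ 2 = a ^ (2 ^ (m - 1)) := mul_inv_eq_one.mp hw
  have hpow : 2 ^ m = 2 * 2 ^ (m - 1) := by
    rw [← pow_succ']; congr 1; omega
  have ha : a ^ (2 * 2 ^ (m - 1)) = 1 := by rw [← hpow]; exact hu
  obtain ⟨φ, hφ⟩ : ∃ φ : QuaternionGroup (2 ^ (m - 1)) →* S, φ = quatLift a x ha hx2 hxa := ⟨_, rfl⟩
  obtain ⟨ψ, hψ⟩ : ∃ ψ : QuaternionGroup (2 ^ (m - 1)) →* S ⧸ N i₀,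
      ψ = (QuotientGroup.mk' (N i₀)).comp φ := ⟨_, rfl⟩
  have hψapp : ∀ y, ψ y = QuotientGroup.mk (φ y) := by intro y; rw [hψ]; rfl
  have hψsurj : Function.Surjective ψ := by
    intro r
    rcases hall0 r with h | ⟨hb, hh, hr⟩
    · obtain ⟨i, hi⟩ := Subgroup.mem_zpowers_iff.mp h
      refine ⟨QuaternionGroup.a (i : ZMod (2 * 2 ^ (m - 1))), ?_⟩
      rw [hψapp, hφ, quatLift_a, dihPow_intCast, ← hi]; rfl
    · obtain ⟨i, hi⟩ := Subgroup.mem_zpowers_iff.mp hh
      refine ⟨QuaternionGroup.xa (i : ZMod (2 * 2 ^ (m - 1))), ?_⟩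
      rw [hψapp, hφ, quatLift_xa, dihPow_intCast, hr, ← hi]; rfl
  have hψbij : Function.Bijective ψ := by
    apply hψsurj.bijective_of_nat_card_le
    haveI : NeZero (2 ^ (m - 1)) := ⟨by positivity⟩
    rw [hcard0, Nat.card_eq_fintype_card, QuaternionGroup.card, pow_succ, hpow]
    apply le_of_eq; ring
  have hφinj : Function.Injective φ := by
    have : Function.Injective ((QuotientGroup.mk' (N i₀)) ∘ φ) := by
      have h := hψbij.1
      rw [hψ] at h
      exact h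
    exact Function.Injective.of_comp this
  refine ⟨φ.range, ?_, ?_, ?_, ?_⟩
  · rw [eq_bot_iff]
    rintro g ⟨⟨y, rfl⟩, hg⟩
    have h1 : ψ y = 1 := by rw [hψapp]; exact (QuotientGroup.eq_one_iff _).mpr hg
    have h2 : y = 1 := hψbij.1 (h1.trans (map_one ψ).symm)
    rw [h2, map_one]; exact Subgroup.mem_bot.mpr rfl
  · rw [eq_top_iff]
    intro g _
    obtain ⟨y, hy⟩ := hψsurj (QuotientGroup.mk g)
    rw [hψapp] at hy
    have h1 : (φ y)⁻¹ * g ∈ N i₀ := QuotientGroup.eq.mp hy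
    have h2 : g = φ y * ((φ y)⁻¹ * g) := by group
    rw [h2]
    exact Subgroup.mul_mem_sup (MonoidHom.mem_range.mpr ⟨y, rfl⟩) h1
  · intro hc
    apply hna0
    refine ⟨⟨fun r s => ?_⟩⟩
    obtain ⟨y, rfl⟩ := hψsurj r
    obtain ⟨y', rfl⟩ := hψsurj s
    have h1 := hc.is_comm.comm (⟨φ y, MonoidHom.mem_range.mpr ⟨y, rfl⟩⟩ : φ.range)
      ⟨φ y', MonoidHom.mem_range.mpr ⟨y', rfl⟩⟩
    have h2 : φ y * φ y' = φ y' * φ y := congrArg Subtype.val h1
    rw [← map_mul, ← map_mul]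
    congr 1
    exact hφinj (by rw [map_mul, map_mul, h2])
  · obtain ⟨y₀, hy₀⟩ := hψsurj x₀
    have hord_y : ∀ y, orderOf (ψ y) = orderOf y := fun y => orderOf_injective ψ hψbij.1 y
    have hord_φ : ∀ y, orderOf (φ y) = orderOf y := fun y => orderOf_injective φ hφinj y
    refine ⟨⟨φ y₀, MonoidHom.mem_range.mpr ⟨y₀, rfl⟩⟩, ?_, ?_⟩
    · show orderOf (⟨φ y₀, MonoidHom.mem_range.mpr ⟨y₀, rfl⟩⟩ : φ.range) = 2
      rw [← Subgroup.orderOf_coe]
      show orderOf (φ y₀) = 2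
      rw [hord_φ, ← hord_y, hy₀]; exact hx₀
    · intro g hg
      obtain ⟨y, hy⟩ := MonoidHom.mem_range.mp g.2
      have hg' : orderOf (φ y) = 2 := by
        rw [hy, Subgroup.orderOf_coe]; exact hg
      have h1 : orderOf (ψ y) = 2 := by rw [hord_y, ← hord_φ]; exact hg'
      have h2 : ψ y = ψ y₀ := by rw [hy₀]; exact hx₀u _ h1
      have h3 : y = y₀ := hψbij.1 h2
      apply Subtype.ext
      show (g : S) = φ y₀
      rw [← hy, h3]

end Cfsg.Agent.Lib.Helper18
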