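import Mathlib
import Cfsg.Agent.Lib.Helper18.Sims3Defs

set_option autoImplicit false

/-!
SIMS market (S3385), leaf T2C3: conjugates of a Thompson-Wielandt pair form a pair.
-/

namespace Cfsg.Agent.Lib.Helper18.SIMST2C3

open Cfsg Cfsg.Agent.Lib.Helper29.TWPair Cfsg.Agent.Lib.Helper18.Sims3 MulAction

variable {G : Type*} [Group G]

/-- LEAF T2C3. -/
theorem pair_cj {A B : Subgroup G} (h : Pair A B) (u : G) : Pair (cj u A) (cj u B) := by
  refine ⟨isCoatom_map_conj' h.coatomA u, normalCore_map_conj_eq_bot h.coreA u, ?_, ?_⟩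
  · intro he
    exact h.ne (Subgroup.map_injective (MulAut.conj u).injective he)
  · obtain ⟨g, hg⟩ := h.conj
    refine ⟨u * g * u⁻¹, ?_⟩
    rw [hg]
    show (A.map (MulAut.conj g).toMonoidHom).map (MulAut.conj u).toMonoidHom =
      (A.map (MulAut.conj u).toMonoidHom).map (MulAut.conj (u * g * u⁻¹)).toMonoidHom
    rw [Subgroup.map_map, Subgroup.map_map]
    congr 1
    ext y
    simp [MulAut.conj_apply, mul_assoc]

end Cfsg.Agent.Lib.Helper18.SIMST2C3
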