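/-
Helper18 library: `SL₂(F)` (char ≠ 2) is not a nontrivial central product:
if `A`, `B` are normal subgroups with `AB = SL₂(F)` which commute modulo the centre,
then one of them is central.
-/
import Mathlib
import Cfsg.Agent.Lib.Helper13.PSL2

set_option autoImplicit false

namespace Cfsg.Agent.Lib.Helper18.SL2Central

open Matrix Cfsg.Agent.Lib.Helper13

variable {F : Type*} [Field F]

local notation "SL2" => SpecialLinearGroup (Fin 2) F

/-- An element commuting, modulo the centre, with a nontrivial "upper unitriangular up to sign"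
element is itself of this shape. -/
theorem upper_of_comm_mod_center (g u : SL2) (hu10 : u.1 1 0 = 0) (hu : u.1 0 0 = u.1 1 1)
    (hx : u.1 0 1 ≠ 0) (hc : g * u * g⁻¹ * u⁻¹ ∈ Subgroup.center SL2) :
    g.1 1 0 = 0 ∧ g.1 0 0 = g.1 1 1 := by
  obtain ⟨s, hs⟩ := scalar_of_mem_center _ hc
  have e : g * u = (g * u * g⁻¹ * u⁻¹) * (u * g) := by group
  have e' : g.1 * u.1 = (s • (1 : Matrix (Fin 2) (Fin 2) F)) * (u.1 * g.1) := by
    have := congrArg Subtype.val e
    change g.1 * u.1 = (g * u * g⁻¹ * u⁻¹).1 * (u.1 * g.1) at this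
    rw [hs] at this
    exact this
  have hdetg : g.1 0 0 * g.1 1 1 - g.1 0 1 * g.1 1 0 = 1 := by
    have := g.2
    rwa [Matrix.det_fin_two] at this
  have hdetu : u.1 0 0 * u.1 1 1 - u.1 0 1 * u.1 1 0 = 1 := by
    have := u.2
    rwa [Matrix.det_fin_two] at this
  have h00 := congrFun (congrFun e' 0) 0
  have h01 := congrFun (congrFun e' 0) 1
  have h10 := congrFun (congrFun e' 1) 0
  simp only [Matrix.mul_apply, Fin.sum_univ_two, Matrix.smul_apply, Matrix.one_apply_eq,
    Matrix.one_apply_ne, smul_eq_mul, ne_eq, zero_ne_one, one_ne_zero, not_false_eq_true,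
    mul_one, mul_zero, Fin.isValue] at h00 h01 h10
  rw [hu10] at h00 h01 h10 hdetu
  rw [← hu] at h00 h01 h10 hdetu
  have hα : u.1 0 0 ≠ 0 := by
    intro h0
    rw [h0] at hdetu
    simp at hdetu
  by_cases hs1 : s = 1
  · subst hs1
    have hc0 : g.1 1 0 = 0 := by
      have : u.1 0 1 * g.1 1 0 = 0 := by linear_combination -h00
      rcases mul_eq_zero.mp this with h | h
      · exact absurd h hx
      · exact h
    refine ⟨hc0, ?_⟩
    have : u.1 0 1 * (g.1 0 0 - g.1 1 1) = 0 := by linear_combination h01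
    rcases mul_eq_zero.mp this with h | h
    · exact absurd h hx
    · exact sub_eq_zero.mp h
  · exfalso
    have hc0 : g.1 1 0 = 0 := by
      have : (1 - s) * (u.1 0 0 * g.1 1 0) = 0 := by linear_combination h10
      rcases mul_eq_zero.mp this with h | h
      · exact absurd (sub_eq_zero.mp h).symm hs1
      · rcases mul_eq_zero.mp h with h' | h'
        · exact absurd h' hα
        · exact h'
    rw [hc0] at h00 hdetg
    have ha0 : g.1 0 0 = 0 := by
      have : (1 - s) * (u.1 0 0 * g.1 0 0) = 0 := by linear_combination h00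
      rcases mul_eq_zero.mp this with h | h
      · exact absurd (sub_eq_zero.mp h).symm hs1
      · rcases mul_eq_zero.mp h with h' | h'
        · exact absurd h' hα
        · exact h'
    rw [ha0] at hdetg
    simp at hdetg

/-- the standard transvection -/
def tEl : SL2 := ⟨!![1, 1; 0, 1], by simp [Matrix.det_fin_two]⟩

/-- the Weyl element -/
def wEl : SL2 := ⟨!![0, 1; -1, 0], by simp [Matrix.det_fin_two]⟩

/-- its inverse -/
def wEl' : SL2 := ⟨!![0, -1; 1, 0], by simp [Matrix.det_fin_two]⟩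

theorem wEl_mul_wEl' : (wEl : SL2) * wEl' = 1 := by
  apply Subtype.ext
  change (!![0, 1; -1, 0] * !![0, -1; 1, 0] : Matrix (Fin 2) (Fin 2) F) = 1
  ext i j
  fin_cases i <;> fin_cases j <;> simp [Matrix.mul_apply, Fin.sum_univ_two]

/-- A normal subgroup all of whose elements commute modulo the centre with a fixed nontrivial
unitriangular-up-to-sign element is central. -/
theorem le_center_of_comm_upper (N : Subgroup SL2) [hN : N.Normal] (u : SL2) (hu10 : u.1 1 0 = 0)
    (hu : u.1 0 0 = u.1 1 1) (hx : u.1 0 1 ≠ 0)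
    (h : ∀ g ∈ N, g * u * g⁻¹ * u⁻¹ ∈ Subgroup.center SL2) : N ≤ Subgroup.center SL2 := by
  intro g hg
  obtain ⟨h10, h00⟩ := upper_of_comm_mod_center g u hu10 hu hx (h g hg)
  have hinv : (wEl' : SL2) = wEl⁻¹ := eq_inv_of_mul_eq_one_right wEl_mul_wEl'
  have hg' : (wEl : SL2) * g * wEl' ∈ N := by
    rw [hinv]; exact hN.conj_mem g hg wEl
  obtain ⟨h10', -⟩ := upper_of_comm_mod_center _ u hu10 hu hx (h _ hg')
  have hval : ((wEl : SL2) * g * wEl').1 1 0 = - g.1 0 1 := by
    change (((!![0, 1; -1, 0] : Matrix (Fin 2) (Fin 2) F) * g.1 *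
      (!![0, -1; 1, 0] : Matrix (Fin 2) (Fin 2) F) : Matrix (Fin 2) (Fin 2) F)) 1 0 = _
    simp [Matrix.mul_apply, Fin.sum_univ_two, Matrix.vecMul, dotProduct]
  rw [hval, neg_eq_zero] at h10'
  apply mem_center_of_scalar g (g.1 0 0)
  ext i j
  fin_cases i <;> fin_cases j <;> simp [h10, h10', ← h00]

/-- **`SL₂(F)` is not a nontrivial central product.** -/
theorem central_of_comm_mod_center (A B : Subgroup SL2) [hA : A.Normal] [hB : B.Normal]
    (hAB : ∀ g : SL2, ∃ a ∈ A, ∃ b ∈ B, g = a * b)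
    (hc : ∀ a ∈ A, ∀ b ∈ B, a * b * a⁻¹ * b⁻¹ ∈ Subgroup.center SL2) :
    A ≤ Subgroup.center SL2 ∨ B ≤ Subgroup.center SL2 := by
  obtain ⟨a, ha, b, hb, hab⟩ := hAB tEl
  have hZn : (Subgroup.center SL2).Normal := inferInstance
  have ht10 : (tEl : SL2).1 1 0 = 0 := rfl
  have ht00 : (tEl : SL2).1 0 0 = (tEl : SL2).1 1 1 := rfl
  have ht01 : (tEl : SL2).1 0 1 ≠ 0 := by
    change (1 : F) ≠ 0
    exact one_ne_zero
  have hca : a * tEl * a⁻¹ * tEl⁻¹ ∈ Subgroup.center SL2 := by
    have e : a * tEl * a⁻¹ * tEl⁻¹ = a * (a * b * a⁻¹ * b⁻¹) * a⁻¹ := by rw [hab]; group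
    rw [e]
    exact hZn.conj_mem _ (hc a ha b hb) a
  have hcb : b * tEl * b⁻¹ * tEl⁻¹ ∈ Subgroup.center SL2 := by
    have e : b * tEl * b⁻¹ * tEl⁻¹ = (a * b * a⁻¹ * b⁻¹)⁻¹ := by rw [hab]; group
    rw [e]
    exact Subgroup.inv_mem _ (hc a ha b hb)
  obtain ⟨ha10, ha00⟩ := upper_of_comm_mod_center a tEl ht10 ht00 ht01 hca
  obtain ⟨hb10, hb00⟩ := upper_of_comm_mod_center b tEl ht10 ht00 ht01 hcb
  have hentry : (1 : F) = a.1 0 0 * b.1 0 1 + a.1 0 1 * b.1 1 1 := by
    have := congrArg Subtype.val hab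
    change (!![1, 1; 0, 1] : Matrix (Fin 2) (Fin 2) F) = a.1 * b.1 at this
    have h01 := congrFun (congrFun this 0) 1
    simpa [Matrix.mul_apply, Fin.sum_univ_two] using h01
  by_cases hax : a.1 0 1 = 0
  · have hbx : b.1 0 1 ≠ 0 := by
      intro h0
      rw [hax, h0] at hentry
      simp at hentry
    left
    exact le_center_of_comm_upper A b hb10 hb00 hbx (fun g hg => hc g hg b hb)
  · right
    refine le_center_of_comm_upper B a ha10 ha00 hax (fun g hg => ?_)
    have e : g * a * g⁻¹ * a⁻¹ = (a * g * a⁻¹ * g⁻¹)⁻¹ := by group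
    rw [e]
    exact Subgroup.inv_mem _ (hc a ha g hg)

end Cfsg.Agent.Lib.Helper18.SL2Central
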