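/-
Helper18 library: central products `L₁ ∘ L₂` with `L₁ ≅ SL₂(F)`: if `L₁L₂ = M₁M₂` for commuting
subgroups `M₁`, `M₂` normalized by `L₁`, then `M₁ ≤ L₂` or `M₂ ≤ L₂`.
-/
import Mathlib
import Cfsg.Agent.Lib.Helper13.SL2CentralProd
import Cfsg.Agent.Lib.Helper18.SL2Central

set_option autoImplicit false

namespace Cfsg.Agent.Lib.Helper18.SL2Swap

open Matrix Cfsg.Agent.Lib.Helper13 Cfsg.Agent.Lib.Helper18.SL2Central

variable {G : Type*} [Group G]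

/-- The projection to `L₁` of a subgroup `M` of the central product `L₁L₂`. -/
def proj (L₁ L₂ M : Subgroup G) (hc : ∀ x ∈ L₁, ∀ y ∈ L₂, x * y = y * x) : Subgroup ↥L₁ where
  carrier := {a | ∃ b ∈ L₂, (a : G) * b ∈ M}
  one_mem' := ⟨1, one_mem _, by simp [one_mem]⟩
  mul_mem' := by
    rintro a a' ⟨b, hb, hab⟩ ⟨b', hb', hab'⟩
    refine ⟨b * b', mul_mem hb hb', ?_⟩
    have : ((a * a' : ↥L₁) : G) * (b * b') = ((a : G) * b) * ((a' : G) * b') := by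
      have h := hc a' a'.2 b hb
      calc ((a * a' : ↥L₁) : G) * (b * b') = (a : G) * ((a' : G) * b) * b' := by
            rw [Subgroup.coe_mul]; group
        _ = (a : G) * (b * (a' : G)) * b' := by rw [h]
        _ = ((a : G) * b) * ((a' : G) * b') := by group
    rw [this]; exact mul_mem hab hab'
  inv_mem' := by
    rintro a ⟨b, hb, hab⟩
    refine ⟨b⁻¹, inv_mem hb, ?_⟩
    have : ((a⁻¹ : ↥L₁) : G) * b⁻¹ = ((a : G) * b)⁻¹ := by
      have h := hc a a.2 b hb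
      calc ((a⁻¹ : ↥L₁) : G) * b⁻¹ = (b * (a : G))⁻¹ := by rw [Subgroup.coe_inv]; group
        _ = ((a : G) * b)⁻¹ := by rw [h]
    rw [this]; exact inv_mem hab

theorem mem_proj {L₁ L₂ M : Subgroup G} {hc : ∀ x ∈ L₁, ∀ y ∈ L₂, x * y = y * x} {a : ↥L₁} :
    a ∈ proj L₁ L₂ M hc ↔ ∃ b ∈ L₂, (a : G) * b ∈ M := Iff.rfl

theorem proj_normal (L₁ L₂ M : Subgroup G) (hc : ∀ x ∈ L₁, ∀ y ∈ L₂, x * y = y * x)
    (hn : ∀ x ∈ L₁, ∀ m ∈ M, x * m * x⁻¹ ∈ M) : (proj L₁ L₂ M hc).Normal := by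
  constructor
  rintro a ⟨b, hb, hab⟩ x
  refine ⟨b, hb, ?_⟩
  have : ((x * a * x⁻¹ : ↥L₁) : G) * b = (x : G) * ((a : G) * b) * (x : G)⁻¹ := by
    have h := hc (x : G)⁻¹ (inv_mem x.2) b hb
    calc ((x * a * x⁻¹ : ↥L₁) : G) * b = (x : G) * (a : G) * ((x : G)⁻¹ * b) := by
          rw [Subgroup.coe_mul, Subgroup.coe_mul, Subgroup.coe_inv]; group
      _ = (x : G) * (a : G) * (b * (x : G)⁻¹) := by rw [h]
      _ = (x : G) * ((a : G) * b) * (x : G)⁻¹ := by group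
  rw [this]; exact hn x x.2 _ hab

variable {F : Type*} [Field F]

/-- an isomorphism maps elements centralizing everything into the centre -/
theorem map_mem_center {L : Subgroup G} (e : ↥L ≃* SpecialLinearGroup (Fin 2) F) (d : ↥L)
    (hd : ∀ y : ↥L, y * d = d * y) : e d ∈ Subgroup.center (SpecialLinearGroup (Fin 2) F) := by
  rw [Subgroup.mem_center_iff]
  intro g
  obtain ⟨y, rfl⟩ := e.surjective g
  rw [← map_mul, ← map_mul, hd y]

/-- **Key lemma.** -/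
theorem le_right_or_le_right (h2 : (2 : F) ≠ 0) (L₁ L₂ : Subgroup G)
    (e : ↥L₁ ≃* SpecialLinearGroup (Fin 2) F) (hc : ∀ x ∈ L₁, ∀ y ∈ L₂, x * y = y * x)
    (j : G) (hjj : j * j = 1) (hj1 : j ≠ 1) (hm : L₁ ⊓ L₂ = Subgroup.zpowers j)
    (M₁ M₂ : Subgroup G) (hM₁ : M₁ ≤ L₁ ⊔ L₂) (hM₂ : M₂ ≤ L₁ ⊔ L₂) (hL : L₁ ≤ M₁ ⊔ M₂)
    (hcM : ∀ x ∈ M₁, ∀ y ∈ M₂, x * y = y * x)
    (hn₁ : ∀ x ∈ L₁, ∀ m ∈ M₁, x * m * x⁻¹ ∈ M₁) (hn₂ : ∀ x ∈ L₁, ∀ m ∈ M₂, x * m * x⁻¹ ∈ M₂) :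
    M₁ ≤ L₂ ∨ M₂ ≤ L₂ := by
  classical
  have hjmem : j ∈ L₁ ⊓ L₂ := by rw [hm]; exact Subgroup.mem_zpowers j
  have hjL₁ : j ∈ L₁ := hjmem.1
  have hjL₂ : j ∈ L₂ := hjmem.2
  have hAn := proj_normal L₁ L₂ M₁ hc hn₁
  have hBn := proj_normal L₁ L₂ M₂ hc hn₂
  have hAn' : ((proj L₁ L₂ M₁ hc).map e.toMonoidHom).Normal := hAn.map _ e.surjective
  have hBn' : ((proj L₁ L₂ M₂ hc).map e.toMonoidHom).Normal := hBn.map _ e.surjective
  -- the two projections generate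
  have hAB : ∀ g : SpecialLinearGroup (Fin 2) F, ∃ a ∈ (proj L₁ L₂ M₁ hc).map e.toMonoidHom,
      ∃ b ∈ (proj L₁ L₂ M₂ hc).map e.toMonoidHom, g = a * b := by
    intro g
    obtain ⟨x, rfl⟩ := e.surjective g
    obtain ⟨m₁, hm₁, m₂, hm₂, hx⟩ := exists_mul_of_mem_sup_of_commute M₁ M₂ hcM x (hL x.2)
    obtain ⟨a₁, ha₁, b₁, hb₁, h1⟩ := exists_mul_of_mem_sup_of_commute L₁ L₂ hc m₁ (hM₁ hm₁)
    obtain ⟨a₂, ha₂, b₂, hb₂, h2'⟩ := exists_mul_of_mem_sup_of_commute L₁ L₂ hc m₂ (hM₂ hm₂)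
    have hxe : (x : G) = a₁ * a₂ * (b₁ * b₂) := by
      rw [hx, h1, h2']
      have h := hc a₂ ha₂ b₁ hb₁
      calc a₁ * b₁ * (a₂ * b₂) = a₁ * (b₁ * a₂) * b₂ := by group
        _ = a₁ * (a₂ * b₁) * b₂ := by rw [h]
        _ = a₁ * a₂ * (b₁ * b₂) := by group
    have hcL₁ : b₁ * b₂ ∈ L₁ := by
      have : b₁ * b₂ = (a₁ * a₂)⁻¹ * (x : G) := by rw [hxe]; group
      rw [this]
      exact mul_mem (inv_mem (mul_mem ha₁ ha₂)) x.2
    have hcL₂ : b₁ * b₂ ∈ L₂ := mul_mem hb₁ hb₂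
    refine ⟨e ⟨a₁, ha₁⟩, ⟨⟨a₁, ha₁⟩, ⟨b₁, hb₁, by rw [← h1]; exact hm₁⟩, rfl⟩,
      e ⟨a₂ * (b₁ * b₂), mul_mem ha₂ hcL₁⟩, ⟨⟨a₂ * (b₁ * b₂), mul_mem ha₂ hcL₁⟩,
        ⟨(b₁ * b₂)⁻¹ * b₂, mul_mem (inv_mem hcL₂) hb₂, ?_⟩, rfl⟩, ?_⟩
    · have : a₂ * (b₁ * b₂) * ((b₁ * b₂)⁻¹ * b₂) = m₂ := by rw [h2']; group
      show a₂ * (b₁ * b₂) * ((b₁ * b₂)⁻¹ * b₂) ∈ M₂
      rw [this]; exact hm₂
    · rw [← map_mul]
      congr 1
      apply Subtype.ext
      rw [Subgroup.coe_mul]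
      show (x : G) = a₁ * (a₂ * (b₁ * b₂))
      rw [hxe]; group
  -- they commute modulo the centre
  have hcomm : ∀ a ∈ (proj L₁ L₂ M₁ hc).map e.toMonoidHom,
      ∀ b ∈ (proj L₁ L₂ M₂ hc).map e.toMonoidHom,
      a * b * a⁻¹ * b⁻¹ ∈ Subgroup.center (SpecialLinearGroup (Fin 2) F) := by
    rintro _ ⟨α, ⟨b, hb, hαb⟩, rfl⟩ _ ⟨α', ⟨b', hb', hα'b'⟩, rfl⟩
    have hrel := hcM _ hαb _ hα'b'
    -- δ = (α'α)⁻¹(αα') lies in L₂
    have hδ : ((α' * α)⁻¹ * (α * α') : ↥L₁).1 ∈ L₂ := by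
      have h1 := hc α' α'.2 b hb
      have h2' := hc α α.2 b' hb'
      have e1 : (α : G) * b * ((α' : G) * b') = (α : G) * α' * (b * b') := by
        calc (α : G) * b * ((α' : G) * b') = (α : G) * (b * (α' : G)) * b' := by group
          _ = (α : G) * ((α' : G) * b) * b' := by rw [h1]
          _ = (α : G) * α' * (b * b') := by group
      have e2 : (α' : G) * b' * ((α : G) * b) = (α' : G) * α * (b' * b) := by
        calc (α' : G) * b' * ((α : G) * b) = (α' : G) * (b' * (α : G)) * b := by group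
          _ = (α' : G) * ((α : G) * b') * b := by rw [h2']
          _ = (α' : G) * α * (b' * b) := by group
      rw [e1, e2] at hrel
      have : ((α' * α)⁻¹ * (α * α') : ↥L₁).1 = (b' * b) * (b * b')⁻¹ := by
        rw [Subgroup.coe_mul, Subgroup.coe_inv, Subgroup.coe_mul, Subgroup.coe_mul]
        have h3 : (α : G) * α' = (α' : G) * α * (b' * b) * (b * b')⁻¹ := by
          rw [← hrel]; group
        rw [h3]; group
      rw [this]
      exact mul_mem (mul_mem hb' hb) (inv_mem (mul_mem hb hb'))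
    have hδc : e ((α' * α)⁻¹ * (α * α')) ∈ Subgroup.center (SpecialLinearGroup (Fin 2) F) := by
      apply map_mem_center
      intro y
      apply Subtype.ext
      rw [Subgroup.coe_mul, Subgroup.coe_mul]
      exact hc y y.2 _ hδ
    have hZn : (Subgroup.center (SpecialLinearGroup (Fin 2) F)).Normal := inferInstance
    have hid : e.toMonoidHom α * e.toMonoidHom α' * (e.toMonoidHom α)⁻¹ * (e.toMonoidHom α')⁻¹ =
        e (α' * α) * e ((α' * α)⁻¹ * (α * α')) * (e (α' * α))⁻¹ := by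
      show e α * e α' * (e α)⁻¹ * (e α')⁻¹ = _
      rw [← map_inv, ← map_inv, ← map_inv, ← map_mul, ← map_mul, ← map_mul, ← map_mul, ← map_mul]
      congr 1
      group
    rw [hid]
    exact hZn.conj_mem _ hδc _
  -- conclusion
  have hcentral : ∀ (M : Subgroup G), M ≤ L₁ ⊔ L₂ →
      (proj L₁ L₂ M hc).map e.toMonoidHom ≤ Subgroup.center (SpecialLinearGroup (Fin 2) F) →
      M ≤ L₂ := by
    intro M hM hcen m hmM
    obtain ⟨a, ha, b, hb, hab⟩ := exists_mul_of_mem_sup_of_commute L₁ L₂ hc m (hM hmM)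
    have hmem : e ⟨a, ha⟩ ∈ (proj L₁ L₂ M hc).map e.toMonoidHom :=
      ⟨⟨a, ha⟩, ⟨b, hb, by rw [← hab]; exact hmM⟩, rfl⟩
    have hz := equiv_involution_eq_zSL h2 L₁ e j hjL₁ hjj hj1
    have haL₂ : a ∈ L₂ := by
      rcases center_cases _ (hcen hmem) with h | h
      · have := e.injective (h.trans (map_one e).symm)
        have : a = 1 := congrArg Subtype.val this
        rw [this]; exact one_mem _
      · have := e.injective (h.trans hz.symm)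
        have : a = j := congrArg Subtype.val this
        rw [this]; exact hjL₂
    rw [hab]
    exact mul_mem haL₂ hb
  rcases central_of_comm_mod_center _ _ hAB hcomm with h | h
  · left; exact hcentral M₁ hM₁ h
  · right; exact hcentral M₂ hM₂ h

end Cfsg.Agent.Lib.Helper18.SL2Swap
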