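import Mathlib
import Cfsg.Agent.Lib.Helper13.SL2Gen
import Cfsg.Agent.Lib.Helper18.SLQuadB

/-!
helper18: matrix identities in `SL₂(F)` (Weyl elements, torus, Bruhat decomposition) used for the
recognition of the natural module.
-/

set_option autoImplicit false

namespace Cfsg.Agent.Lib.Helper18.SLNat

open Matrix Cfsg.Agent.Lib.Helper13 Cfsg.Agent.Lib.Helper18.SLQuad

variable {F : Type*} [Field F]

/-- The Weyl element `[[0, x], [-x⁻¹, 0]]`. -/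
def wX (x : F) (hx : x ≠ 0) : SpecialLinearGroup (Fin 2) F :=
  ⟨!![0, x; -x⁻¹, 0], by simp [Matrix.det_fin_two, hx]⟩

theorem wX_eq (x : F) (hx : x ≠ 0) : wX x hx = tSL x * lSL (-x⁻¹) * tSL x := by
  apply Subtype.ext
  change (!![0, x; -x⁻¹, 0] : Matrix (Fin 2) (Fin 2) F) =
    !![1, x; 0, 1] * !![1, 0; -x⁻¹, 1] * !![1, x; 0, 1]
  ext i j
  fin_cases i <;> fin_cases j <;> simp [Matrix.mul_apply, Fin.sum_univ_two, hx]

theorem wX_eq' (y : F) (hy : y ≠ 0) :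
    wX (-y⁻¹) (neg_ne_zero.mpr (inv_ne_zero hy)) = lSL y * tSL (-y⁻¹) * lSL y := by
  apply Subtype.ext
  change (!![0, -y⁻¹; -(-y⁻¹)⁻¹, 0] : Matrix (Fin 2) (Fin 2) F) =
    !![1, 0; y, 1] * !![1, -y⁻¹; 0, 1] * !![1, 0; y, 1]
  ext i j
  fin_cases i <;> fin_cases j <;> simp [Matrix.mul_apply, Fin.sum_univ_two, hy, inv_neg]

theorem lSL_mul_wX (x : F) (hx : x ≠ 0) (s : F) :
    lSL s * wX x hx = wX x hx * tSL (-(x ^ 2 * s)) := by
  apply Subtype.ext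
  change (!![1, 0; s, 1] * !![0, x; -x⁻¹, 0] : Matrix (Fin 2) (Fin 2) F) =
    !![0, x; -x⁻¹, 0] * !![1, -(x ^ 2 * s); 0, 1]
  ext i j
  fin_cases i <;> fin_cases j <;> simp [Matrix.mul_apply, Fin.sum_univ_two]
  field_simp

theorem tSL_mul_wX (x : F) (hx : x ≠ 0) (t : F) :
    tSL t * wX x hx = wX x hx * lSL (-(t / x ^ 2)) := by
  apply Subtype.ext
  change (!![1, t; 0, 1] * !![0, x; -x⁻¹, 0] : Matrix (Fin 2) (Fin 2) F) =
    !![0, x; -x⁻¹, 0] * !![1, 0; -(t / x ^ 2), 1]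
  ext i j
  fin_cases i <;> fin_cases j <;> simp [Matrix.mul_apply, Fin.sum_univ_two]
  field_simp

theorem wX_mul_wX (x : F) (hx : x ≠ 0) :
    wX x hx * wX (-1) (neg_ne_zero.mpr one_ne_zero) = dSL x hx := by
  apply Subtype.ext
  change (!![0, x; -x⁻¹, 0] * !![0, -1; -(-1 : F)⁻¹, 0] : Matrix (Fin 2) (Fin 2) F) =
    !![x, 0; 0, x⁻¹]
  ext i j
  fin_cases i <;> fin_cases j <;> simp [Matrix.mul_apply, Fin.sum_univ_two, inv_neg]

theorem dSL_mul (x y : F) (hx : x ≠ 0) (hy : y ≠ 0) :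
    dSL (x * y) (mul_ne_zero hx hy) = dSL x hx * dSL y hy := by
  apply Subtype.ext
  change (!![x * y, 0; 0, (x * y)⁻¹] : Matrix (Fin 2) (Fin 2) F) =
    !![x, 0; 0, x⁻¹] * !![y, 0; 0, y⁻¹]
  ext i j
  fin_cases i <;> fin_cases j <;> simp [Matrix.mul_apply, Fin.sum_univ_two, mul_inv, mul_comm]

theorem dSL_one : dSL (1 : F) one_ne_zero = 1 := by
  apply Subtype.ext
  change (!![1, 0; 0, (1 : F)⁻¹] : Matrix (Fin 2) (Fin 2) F) = 1
  ext i j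
  fin_cases i <;> fin_cases j <;> simp

theorem dSL_inv (x : F) (hx : x ≠ 0) : (dSL x hx)⁻¹ = dSL x⁻¹ (inv_ne_zero hx) := by
  apply inv_eq_of_mul_eq_one_right
  rw [← dSL_mul]
  have : x * x⁻¹ = 1 := mul_inv_cancel₀ hx
  simp only [this]
  exact dSL_one

/-- The standard Weyl element `[[0, 1], [-1, 0]]`. -/
def wSL : SpecialLinearGroup (Fin 2) F := wX 1 one_ne_zero

theorem wSL_mul_tSL (t : F) : (wSL : SpecialLinearGroup (Fin 2) F) * tSL t = lSL (-t) * wSL := by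
  apply Subtype.ext
  change (!![0, 1; -(1 : F)⁻¹, 0] * !![1, t; 0, 1] : Matrix (Fin 2) (Fin 2) F) =
    !![1, 0; -t, 1] * !![0, 1; -(1 : F)⁻¹, 0]
  ext i j
  fin_cases i <;> fin_cases j <;> simp [Matrix.mul_apply, Fin.sum_univ_two]

theorem dSL_mul_wSL (x : F) (hx : x ≠ 0) :
    dSL x hx * wSL = wSL * dSL x⁻¹ (inv_ne_zero hx) := by
  apply Subtype.ext
  change (!![x, 0; 0, x⁻¹] * !![0, 1; -(1 : F)⁻¹, 0] : Matrix (Fin 2) (Fin 2) F) =
    !![0, 1; -(1 : F)⁻¹, 0] * !![x⁻¹, 0; 0, x⁻¹⁻¹]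
  ext i j
  fin_cases i <;> fin_cases j <;> simp [Matrix.mul_apply, Fin.sum_univ_two]

/-- Bruhat decomposition of `SL₂(F)`. -/
theorem bruhat (g : SpecialLinearGroup (Fin 2) F) :
    ∃ (t x : F) (hx : x ≠ 0), g = tSL t * dSL x hx ∨ ∃ t' : F, g = tSL t * dSL x hx * wSL * tSL t' := by
  set m : Matrix (Fin 2) (Fin 2) F := (g : Matrix (Fin 2) (Fin 2) F) with hm
  have hdet : m 0 0 * m 1 1 - m 0 1 * m 1 0 = 1 := by
    have := g.2
    rwa [Matrix.det_fin_two] at this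
  by_cases hc : m 1 0 = 0
  · have ha : m 0 0 ≠ 0 := by
      intro ha
      rw [ha, hc] at hdet
      simp at hdet
    refine ⟨m 0 1 * m 0 0, m 0 0, ha, Or.inl ?_⟩
    apply Subtype.ext
    change m = !![1, m 0 1 * m 0 0; 0, 1] * !![m 0 0, 0; 0, (m 0 0)⁻¹]
    have hd : m 1 1 = (m 0 0)⁻¹ := by
      rw [hc, mul_zero, sub_zero] at hdet
      exact eq_inv_of_mul_eq_one_right hdet
    ext i j
    fin_cases i <;> fin_cases j <;> simp [Matrix.mul_apply, Fin.sum_univ_two, hc, hd]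
    field_simp
  · have hx : -(m 1 0)⁻¹ ≠ 0 := neg_ne_zero.mpr (inv_ne_zero hc)
    refine ⟨m 0 0 / m 1 0, -(m 1 0)⁻¹, hx, Or.inr ⟨m 1 1 / m 1 0, ?_⟩⟩
    apply Subtype.ext
    change m = !![1, m 0 0 / m 1 0; 0, 1] * !![-(m 1 0)⁻¹, 0; 0, (-(m 1 0)⁻¹)⁻¹] *
      !![0, 1; -(1 : F)⁻¹, 0] * !![1, m 1 1 / m 1 0; 0, 1]
    ext i j
    fin_cases i <;> fin_cases j <;> simp [Matrix.mul_apply, Fin.sum_univ_two, inv_neg]
    · field_simp
    · field_simp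
      linear_combination (-1 : F) * hdet
    · field_simp

theorem wX_eq_lower (x : F) (hx : x ≠ 0) : wX x hx = lSL (-x⁻¹) * tSL x * lSL (-x⁻¹) := by
  apply Subtype.ext
  change (!![0, x; -x⁻¹, 0] : Matrix (Fin 2) (Fin 2) F) =
    !![1, 0; -x⁻¹, 1] * !![1, x; 0, 1] * !![1, 0; -x⁻¹, 1]
  ext i j
  fin_cases i <;> fin_cases j <;> simp [Matrix.mul_apply, Fin.sum_univ_two, hx]

theorem tSL_mulVec (t : F) (v : Fin 2 → F) :
    ((tSL t : SpecialLinearGroup (Fin 2) F) : Matrix (Fin 2) (Fin 2) F).mulVec v =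
      ![v 0 + t * v 1, v 1] := by
  rw [tSL_coe]
  ext i
  fin_cases i <;> simp [Matrix.mulVec, dotProduct, Fin.sum_univ_two]

theorem lSL_mulVec (s : F) (v : Fin 2 → F) :
    ((lSL s : SpecialLinearGroup (Fin 2) F) : Matrix (Fin 2) (Fin 2) F).mulVec v =
      ![v 0, s * v 0 + v 1] := by
  rw [lSL_coe]
  ext i
  fin_cases i <;> simp [Matrix.mulVec, dotProduct, Fin.sum_univ_two]

end Cfsg.Agent.Lib.Helper18.SLNat
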