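import Mathlib

/-!
helper18: a Nakayama-type lemma for commuting nilpotent endomorphisms of an abelian group, and
nilpotency of `u - 1` for an automorphism `u` of order `p` of an elementary abelian `p`-group.
-/

set_option autoImplicit false

namespace Cfsg.Agent.Lib.Helper18.SLNat

variable {M : Type*} [AddCommGroup M]

theorem exists_pow_decomp (A : AddMonoid.End M) (L L' : AddSubgroup M)
    (hL' : ∀ m ∈ L', A m ∈ L')
    (h : ∀ m ∈ L, ∃ l ∈ L, ∃ l' ∈ L', m = A l + l') (k : ℕ) :
    ∀ m ∈ L, ∃ l ∈ L, ∃ l' ∈ L', m = (A ^ k) l + l' := by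
  induction k with
  | zero =>
    intro m hm
    exact ⟨m, hm, 0, L'.zero_mem, by simp⟩
  | succ k ih =>
    intro m hm
    obtain ⟨l₁, hl₁, l₁', hl₁', rfl⟩ := h m hm
    obtain ⟨l₂, hl₂, l₂', hl₂', rfl⟩ := ih l₁ hl₁
    refine ⟨l₂, hl₂, A l₂' + l₁', L'.add_mem (hL' _ hl₂') hl₁', ?_⟩
    rw [map_add, pow_succ', AddMonoid.End.coe_mul, Function.comp_apply, add_assoc]

/-- Nakayama for finitely many commuting nilpotent endomorphisms: if `L ≤ ∑ᵢ Aᵢ L + L'` with `L`, `L'`
invariant, then `L ≤ L'`. -/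
theorem le_of_le_iSup_map {ι : Type*} [DecidableEq ι] (A : ι → AddMonoid.End M)
    (hcomm : ∀ i j, Commute (A i) (A j)) (hnil : ∀ i, IsNilpotent (A i)) (T : Finset ι) :
    ∀ (L L' : AddSubgroup M), (∀ i, ∀ m ∈ L, A i m ∈ L) → (∀ i, ∀ m ∈ L', A i m ∈ L') →
      (L ≤ (⨆ i ∈ T, L.map (A i : M →+ M)) ⊔ L') → L ≤ L' := by
  induction T using Finset.induction_on with
  | empty =>
    intro L L' _ _ h
    simpa using h
  | insert a T haT ih =>
    intro L L' hL hL' h
    rw [Finset.iSup_insert] at h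
    set L'' : AddSubgroup M := L.map (A a : M →+ M) ⊔ L' with hL''
    have hinv : ∀ i, ∀ m ∈ L'', A i m ∈ L'' := by
      intro i m hm
      obtain ⟨x, hx, y, hy, rfl⟩ := AddSubgroup.mem_sup.mp hm
      obtain ⟨l, hl, rfl⟩ := AddSubgroup.mem_map.mp hx
      rw [map_add]
      apply AddSubgroup.add_mem
      · apply AddSubgroup.mem_sup_left
        refine AddSubgroup.mem_map.mpr ⟨A i l, hL i l hl, ?_⟩
        have := congrArg (fun f : AddMonoid.End M => f l) (hcomm a i).eq
        simp only [AddMonoid.End.coe_mul, Function.comp_apply] at this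
        exact this
      · exact AddSubgroup.mem_sup_right (hL' i y hy)
    have h1 : L ≤ L'' := by
      apply ih L L'' hL hinv
      refine h.trans ?_
      rw [hL'']
      refine sup_le (sup_le ?_ ?_) ?_
      · exact le_sup_of_le_right le_sup_left
      · exact le_sup_left
      · exact le_sup_of_le_right le_sup_right
    obtain ⟨N, hN⟩ := hnil a
    have h2 : ∀ m ∈ L, ∃ l ∈ L, ∃ l' ∈ L', m = A a l + l' := by
      intro m hm
      obtain ⟨x, hx, y, hy, rfl⟩ := AddSubgroup.mem_sup.mp (h1 hm)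
      obtain ⟨l, hl, rfl⟩ := AddSubgroup.mem_map.mp hx
      exact ⟨l, hl, y, hy, rfl⟩
    intro m hm
    obtain ⟨l, -, l', hl', rfl⟩ := exists_pow_decomp (A a) L L' (hL' a) h2 N m hm
    rw [hN]
    simpa using hl'

/-- In characteristic `p` (here: on a nontrivial elementary abelian `p`-group) the endomorphism ring has
characteristic `p`. -/
theorem charP_end (p : ℕ) [hp : Fact p.Prime] (hM : ∀ m : M, p • m = 0) [Nontrivial M] :
    CharP (AddMonoid.End M) p := by
  constructor
  intro x
  constructor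
  · intro h
    obtain ⟨m, hm⟩ := exists_ne (0 : M)
    have h1 : x • m = 0 := by
      have := congrArg (fun f : AddMonoid.End M => f m) h
      simpa using this
    have h2 : addOrderOf m ∣ x := addOrderOf_dvd_of_nsmul_eq_zero h1
    have h3 : addOrderOf m ∣ p := addOrderOf_dvd_of_nsmul_eq_zero (hM m)
    rcases (Nat.dvd_prime hp.out).mp h3 with h4 | h4
    · exfalso
      rw [AddMonoid.addOrderOf_eq_one_iff] at h4
      exact hm h4
    · rwa [h4] at h2
  · rintro ⟨k, rfl⟩
    ext m
    rw [AddMonoid.End.natCast_apply, mul_comm, mul_nsmul, hM]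
    rfl

/-- `u ^ p = 1` in `End M`, `p M = 0` ⟹ `u - 1` is nilpotent. -/
theorem isNilpotent_sub_one (p : ℕ) [hp : Fact p.Prime] (hM : ∀ m : M, p • m = 0)
    (u : AddMonoid.End M) (hu : u ^ p = 1) : IsNilpotent (u - 1) := by
  rcases subsingleton_or_nontrivial M with h | h
  · refine ⟨1, ?_⟩
    ext m
    exact Subsingleton.elim _ _
  · have := charP_end p hM
    refine ⟨p, ?_⟩
    rw [sub_pow_char_of_commute p (Commute.one_right u), hu, one_pow, sub_self]

end Cfsg.Agent.Lib.Helper18.SLNat
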