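import Mathlib
import Cfsg.Agent.Lib.Helper18.SLNatA
import Cfsg.Agent.Lib.Helper18.SLNatB

/-!
helper18: abstract `SL₂(F)`-modules (`act : SL₂(F) →* End M`), basic lemmas, and: an irreducible
nontrivial module with `|M| ≤ |C_M(U)|²` has quadratic action of the unipotent group `U`.
-/

set_option autoImplicit false

namespace Cfsg.Agent.Lib.Helper18.SLNat

open Matrix Cfsg.Agent.Lib.Helper13 Cfsg.Agent.Lib.Helper18.SLQuad

variable {F : Type*} [Field F] {M : Type*} [AddCommGroup M]

section basic

variable (act : SpecialLinearGroup (Fin 2) F →* AddMonoid.End M)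

theorem act_mul (g h : SpecialLinearGroup (Fin 2) F) (m : M) : act (g * h) m = act g (act h m) := by
  rw [map_mul, AddMonoid.End.coe_mul, Function.comp_apply]

theorem act_one (m : M) : act 1 m = m := by
  rw [map_one, AddMonoid.End.coe_one, id]

theorem act_inv_act (g : SpecialLinearGroup (Fin 2) F) (m : M) : act g⁻¹ (act g m) = m := by
  rw [← act_mul, inv_mul_cancel, act_one]

theorem act_act_inv (g : SpecialLinearGroup (Fin 2) F) (m : M) : act g (act g⁻¹ m) = m := by
  rw [← act_mul, mul_inv_cancel, act_one]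

/-- Induction over the generators `tSL t`, `lSL s` of `SL₂(F)`. -/
theorem forall_of_gens (P : SpecialLinearGroup (Fin 2) F → Prop) (h1 : P 1)
    (hmul : ∀ g h, P g → P h → P (g * h)) (hinv : ∀ g, P g → P g⁻¹)
    (hU : ∀ t, P (tSL t)) (hL : ∀ s, P (lSL s)) : ∀ g, P g := by
  let H : Subgroup (SpecialLinearGroup (Fin 2) F) :=
    { carrier := {g | P g}
      mul_mem' := fun ha hb => hmul _ _ ha hb
      one_mem' := h1
      inv_mem' := fun ha => hinv _ ha }
  intro g
  exact mem_of_tSL_lSL_mem H hU hL g

/-- The module is irreducible. -/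
def Irr : Prop :=
  ∀ U : AddSubgroup M, (∀ g, ∀ m ∈ U, act g m ∈ U) → U = ⊥ ∨ U = ⊤

/-- The action is nontrivial. -/
def Nontriv : Prop := ∃ g m, act g m ≠ m

/-- The unipotent group acts quadratically. -/
def Quad : Prop := ∀ s t m, act (tSL s) (act (tSL t) m - m) = act (tSL t) m - m

/-- Fixed points of the upper unitriangular group. -/
def fixU : AddSubgroup M where
  carrier := {m | ∀ t, act (tSL t) m = m}
  add_mem' := fun ha hb t => by rw [map_add, ha t, hb t]
  zero_mem' := fun t => map_zero _
  neg_mem' := fun ha t => by rw [map_neg, ha t]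

/-- Fixed points of the lower unitriangular group. -/
def fixL : AddSubgroup M where
  carrier := {m | ∀ s, act (lSL s) m = m}
  add_mem' := fun ha hb t => by rw [map_add, ha t, hb t]
  zero_mem' := fun t => map_zero _
  neg_mem' := fun ha t => by rw [map_neg, ha t]

theorem mem_fixU {m : M} : m ∈ fixU act ↔ ∀ t, act (tSL t) m = m := Iff.rfl

theorem mem_fixL {m : M} : m ∈ fixL act ↔ ∀ s, act (lSL s) m = m := Iff.rfl

/-- The commutator `[M, U]`. -/
def commU : AddSubgroup M := AddSubgroup.closure {x | ∃ t m, x = act (tSL t) m - m}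

theorem sub_mem_commU (t : F) (m : M) : act (tSL t) m - m ∈ commU act :=
  AddSubgroup.subset_closure ⟨t, m, rfl⟩

variable {act}

/-- A vector fixed by both unitriangular groups is fixed by `SL₂(F)`. -/
theorem act_eq_of_mem {m : M} (h1 : m ∈ fixU act) (h2 : m ∈ fixL act) :
    ∀ g, act g m = m := by
  apply forall_of_gens (fun g => act g m = m)
  · exact act_one act m
  · intro g h hg hh
    rw [act_mul, hh, hg]
  · intro g hg
    calc act g⁻¹ m = act g⁻¹ (act g m) := by rw [hg]
      _ = m := act_inv_act act g m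
  · exact h1
  · exact h2

theorem fixU_inf_fixL (hirr : Irr act) (hnt : Nontriv act) : fixU act ⊓ fixL act = ⊥ := by
  let C : AddSubgroup M :=
    { carrier := {m | ∀ g, act g m = m}
      add_mem' := fun ha hb g => by rw [map_add, ha g, hb g]
      zero_mem' := fun g => map_zero _
      neg_mem' := fun ha g => by rw [map_neg, ha g] }
  have hC : ∀ g, ∀ m ∈ C, act g m ∈ C := by
    intro g m hm
    have : act g m = m := hm g
    rw [this]
    exact hm
  rcases hirr C hC with h | h
  · rw [eq_bot_iff]
    intro m hm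
    rw [← h]
    exact act_eq_of_mem hm.1 hm.2
  · exfalso
    obtain ⟨g, m, hgm⟩ := hnt
    apply hgm
    have : m ∈ C := by rw [h]; trivial
    exact this g

/-- A subgroup invariant under the generators is invariant. -/
theorem invariant_of_gens (N : AddSubgroup M) (hU : ∀ t, ∀ m ∈ N, act (tSL t) m ∈ N)
    (hL : ∀ s, ∀ m ∈ N, act (lSL s) m ∈ N) : ∀ g, ∀ m ∈ N, act g m ∈ N := by
  have key : ∀ g, (∀ m ∈ N, act g m ∈ N) ∧ (∀ m ∈ N, act g⁻¹ m ∈ N) := by
    apply forall_of_gens (fun g => (∀ m ∈ N, act g m ∈ N) ∧ (∀ m ∈ N, act g⁻¹ m ∈ N))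
    · refine ⟨fun m hm => ?_, fun m hm => ?_⟩
      · rw [act_one]; exact hm
      · rw [inv_one, act_one]; exact hm
    · intro g h hg hh
      refine ⟨fun m hm => ?_, fun m hm => ?_⟩
      · rw [act_mul]; exact hg.1 _ (hh.1 _ hm)
      · rw [_root_.mul_inv_rev, act_mul]; exact hh.2 _ (hg.2 _ hm)
    · intro g hg
      refine ⟨hg.2, ?_⟩
      rw [inv_inv]
      exact hg.1
    · intro t
      refine ⟨hU t, ?_⟩
      rw [tSL_inv]
      exact hU (-t)
    · intro s
      refine ⟨hL s, ?_⟩
      rw [lSL_inv]
      exact hL (-s)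
  intro g
  exact (key g).1

/-- `lSL s = wSL * tSL (-s) * wSL⁻¹`. -/
theorem lSL_eq_conj (s : F) : lSL s = wSL * tSL (-s) * (wSL : SpecialLinearGroup (Fin 2) F)⁻¹ := by
  rw [wSL_mul_tSL, neg_neg, mul_assoc, mul_inv_cancel, mul_one]

/-- If the upper unitriangular group acts trivially, so does `SL₂(F)`. -/
theorem trivial_of_fixU_eq_top (h : fixU act = ⊤) : ∀ g m, act g m = m := by
  intro g m
  have h1 : ∀ m : M, m ∈ fixU act := fun m => by rw [h]; trivial
  have h2 : m ∈ fixL act := by
    intro s
    rw [lSL_eq_conj, act_mul, act_mul, h1 (act wSL⁻¹ m) (-s), act_act_inv]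
  exact act_eq_of_mem (h1 m) h2 g

theorem fixU_dSL (x : F) (hx : x ≠ 0) {m : M} (hm : m ∈ fixU act) :
    act (dSL x hx) m ∈ fixU act := by
  intro t
  have h1 : tSL t * dSL x hx = dSL x hx * tSL (t / x ^ 2) := by
    rw [dSL_mul_tSL]
    congr 2
    field_simp
  rw [← act_mul, h1, act_mul, hm]

theorem commU_dSL (x : F) (hx : x ≠ 0) {m : M} (hm : m ∈ commU act) :
    act (dSL x hx) m ∈ commU act := by
  induction hm using AddSubgroup.closure_induction with
  | mem y hy =>
    obtain ⟨t, m', rfl⟩ := hy
    rw [map_sub, ← act_mul, dSL_mul_tSL, act_mul]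
    exact sub_mem_commU act _ _
  | zero => rw [map_zero]; exact AddSubgroup.zero_mem _
  | add a b _ _ ha hb => rw [map_add]; exact AddSubgroup.add_mem _ ha hb
  | neg a _ ha => rw [map_neg]; exact AddSubgroup.neg_mem _ ha

theorem act_tSL_mem_of_commU_le {K : AddSubgroup M} (hK : commU act ≤ K) (t : F) {m : M}
    (hm : m ∈ K) : act (tSL t) m ∈ K := by
  have : act (tSL t) m = (act (tSL t) m - m) + m := by abel
  rw [this]
  exact K.add_mem (hK (sub_mem_commU act t m)) hm

end basic

section card

variable [Fintype F] [Finite M] (act : SpecialLinearGroup (Fin 2) F →* AddMonoid.End M)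

/-- `[M, U] + C_M(U) ≠ M` for a nontrivial module. -/
theorem commU_sup_fixU_ne_top (p : ℕ) [Fact p.Prime] [CharP F p] (hpM : ∀ m : M, p • m = 0)
    (hnt : Nontriv act) : commU act ⊔ fixU act ≠ ⊤ := by
  classical
  intro htop
  -- the operators `A t = act (tSL t) - 1`
  let A : F → AddMonoid.End M := fun t => act (tSL t) - 1
  have hA : ∀ t m, A t m = act (tSL t) m - m := fun t m => rfl
  have hcomm : ∀ s t, Commute (A s) (A t) := by
    intro s t
    have h1 : Commute (act (tSL s)) (act (tSL t)) := by
      change act (tSL s) * act (tSL t) = act (tSL t) * act (tSL s)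
      rw [← map_mul, ← map_mul, tSL_mul, tSL_mul, add_comm]
    exact (h1.sub_left (Commute.one_left _)).sub_right (Commute.one_right _)
  have hnil : ∀ t, IsNilpotent (A t) := by
    intro t
    apply isNilpotent_sub_one p hpM
    rw [← map_pow, tSL_pow, CharP.cast_eq_zero, zero_mul, tSL_zero, map_one]
  have hCinv : ∀ t, ∀ m ∈ commU act, A t m ∈ commU act := by
    intro t m _
    rw [hA]
    exact sub_mem_commU act t m
  have hle : commU act ≤ (⨆ t ∈ (Finset.univ : Finset F), (commU act).map (A t : M →+ M)) ⊔ ⊥ := by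
    rw [sup_bot_eq]
    apply (AddSubgroup.closure_le _).mpr
    rintro x ⟨t, m, rfl⟩
    have hm : m ∈ commU act ⊔ fixU act := by rw [htop]; trivial
    obtain ⟨c, hc, v, hv, rfl⟩ := AddSubgroup.mem_sup.mp hm
    have h2 : act (tSL t) (c + v) - (c + v) = A t c := by
      rw [map_add, hv t, hA]
      abel
    rw [SetLike.mem_coe, h2]
    have h3 : (commU act).map (A t : M →+ M) ≤
        ⨆ t ∈ (Finset.univ : Finset F), (commU act).map (A t : M →+ M) :=
      le_iSup₂_of_le t (Finset.mem_univ t) le_rfl
    exact h3 (AddSubgroup.mem_map.mpr ⟨c, hc, rfl⟩)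
  have hbot := le_of_le_iSup_map A hcomm hnil Finset.univ (commU act) ⊥ hCinv
    (fun i m hm => by rw [AddSubgroup.mem_bot.mp hm, map_zero]; exact AddSubgroup.zero_mem _) hle
  -- hence `U` acts trivially
  have hfix : fixU act = ⊤ := by
    rw [eq_top_iff]
    intro m _ t
    have := hbot (sub_mem_commU act t m)
    rw [AddSubgroup.mem_bot, sub_eq_zero] at this
    exact this
  obtain ⟨g, m, hgm⟩ := hnt
  exact hgm (trivial_of_fixU_eq_top hfix g m)

/-- If `|M| ≤ |C_M(U)|²` for an irreducible nontrivial module then `U` acts quadratically. -/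
theorem quad_of_card (p : ℕ) [Fact p.Prime] [CharP F p] (hpM : ∀ m : M, p • m = 0)
    (hirr : Irr act) (hnt : Nontriv act)
    (hcard : Nat.card M ≤ Nat.card (fixU act) ^ 2) : Quad act := by
  classical
  set J : AddSubgroup M := commU act ⊔ fixU act with hJ
  have hJtop : J ≠ ⊤ := commU_sup_fixU_ne_top act p hpM hnt
  have hCJ : commU act ≤ J := le_sup_left
  have hFJ : fixU act ≤ J := le_sup_right
  have hJd : ∀ (x : F) (hx : x ≠ 0), ∀ m ∈ J, act (dSL x hx) m ∈ J := by
    intro x hx m hm
    obtain ⟨c, hc, v, hv, rfl⟩ := AddSubgroup.mem_sup.mp hm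
    rw [map_add]
    exact J.add_mem (hCJ (commU_dSL x hx hc)) (hFJ (fixU_dSL x hx hv))
  -- key: `v ∈ C_M(U)`, `w v ∈ J` forces `v = 0`
  have key : ∀ v ∈ fixU act, act wSL v ∈ J → v = 0 := by
    intro v hv hwv
    let U : AddSubgroup M :=
      { carrier := {m | ∀ g, act g m ∈ J}
        add_mem' := fun ha hb g => by rw [map_add]; exact J.add_mem (ha g) (hb g)
        zero_mem' := fun g => by rw [map_zero]; exact J.zero_mem
        neg_mem' := fun ha g => by rw [map_neg]; exact J.neg_mem (ha g) }
    have hU : ∀ g, ∀ m ∈ U, act g m ∈ U := by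
      intro g m hm h
      rw [← act_mul]
      exact hm (h * g)
    have hUbot : U = ⊥ := by
      rcases hirr U hU with h | h
      · exact h
      · exfalso
        apply hJtop
        rw [eq_top_iff]
        intro m _
        have : m ∈ U := by rw [h]; trivial
        have := this 1
        rwa [act_one] at this
    have hvU : v ∈ U := by
      intro g
      obtain ⟨t, x, hx, h | ⟨t', h⟩⟩ := bruhat g
      · rw [h, act_mul]
        exact act_tSL_mem_of_commU_le hCJ t (hJd x hx v (hFJ hv))
      · rw [h, act_mul, act_mul, act_mul, hv t']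
        exact act_tSL_mem_of_commU_le hCJ t (hJd x hx _ hwv)
    rw [hUbot] at hvU
    exact AddSubgroup.mem_bot.mp hvU
  -- counting
  have hinj : Function.Injective (fun x : J × fixU act => (x.1 : M) + act wSL (x.2 : M)) := by
    rintro ⟨j, v⟩ ⟨j', v'⟩ h
    simp only at h
    have h1 : act wSL ((v : M) - (v' : M)) = (j' : M) - (j : M) := by
      rw [map_sub]
      have : act wSL (v : M) = (j : M) + act wSL (v : M) - (j : M) := by abel
      rw [this, h]
      abel
    have h2 : (v : M) - (v' : M) = 0 := by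
      apply key _ ((fixU act).sub_mem v.2 v'.2)
      rw [h1]
      exact J.sub_mem j'.2 j.2
    have h3 : v = v' := Subtype.ext (sub_eq_zero.mp h2)
    subst h3
    have h4 : (j : M) = (j' : M) := add_right_cancel h
    rw [Prod.mk.injEq]
    exact ⟨Subtype.ext h4, rfl⟩
  have hle := Nat.card_le_card_of_injective _ hinj
  rw [Nat.card_prod] at hle
  have hpos : 0 < Nat.card (fixU act) := Nat.card_pos
  have hJle : Nat.card J ≤ Nat.card (fixU act) := by
    have h1 : Nat.card J * Nat.card (fixU act) ≤ Nat.card (fixU act) * Nat.card (fixU act) := by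
      calc Nat.card J * Nat.card (fixU act) ≤ Nat.card M := hle
        _ ≤ Nat.card (fixU act) ^ 2 := hcard
        _ = _ := pow_two _
    exact Nat.le_of_mul_le_mul_right h1 hpos
  have hJeq : fixU act = J := AddSubgroup.eq_of_le_of_card_ge hFJ hJle
  intro s t m
  have : act (tSL t) m - m ∈ fixU act := by
    rw [hJeq]
    exact hCJ (sub_mem_commU act t m)
  exact this s

end card

end Cfsg.Agent.Lib.Helper18.SLNat
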