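import Mathlib
import Cfsg.Agent.Lib.Helper18.SLNatC

/-!
helper18: an irreducible nontrivial `SL₂(F)`-module on which the unipotent group acts quadratically
is the natural module.
-/

set_option autoImplicit false

namespace Cfsg.Agent.Lib.Helper18.SLNat

open Matrix Cfsg.Agent.Lib.Helper13 Cfsg.Agent.Lib.Helper18.SLQuad

variable {F : Type*} [Field F] {M : Type*} [AddCommGroup M]
variable (act : SpecialLinearGroup (Fin 2) F →* AddMonoid.End M)

/-- `A t = u(t) - 1`. -/
def Aop (t : F) (m : M) : M := act (tSL t) m - m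

/-- `B s = l(s) - 1`. -/
def Bop (s : F) (m : M) : M := act (lSL s) m - m

/-- `K x = A x ∘ B 1`. -/
def Kop (x : F) (m : M) : M := Aop act x (Bop act 1 m)

theorem Aop_add_right (t : F) (m m' : M) : Aop act t (m + m') = Aop act t m + Aop act t m' := by
  unfold Aop; rw [map_add]; abel

theorem Bop_add_right (t : F) (m m' : M) : Bop act t (m + m') = Bop act t m + Bop act t m' := by
  unfold Bop; rw [map_add]; abel

theorem Aop_zero_right (t : F) : Aop act t (0 : M) = 0 := by
  unfold Aop; rw [map_zero, sub_zero]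

theorem Bop_zero_right (t : F) : Bop act t (0 : M) = 0 := by
  unfold Bop; rw [map_zero, sub_zero]

theorem Aop_neg_right (t : F) (m : M) : Aop act t (-m) = -Aop act t m := by
  unfold Aop; rw [map_neg]; abel

theorem Bop_neg_right (t : F) (m : M) : Bop act t (-m) = -Bop act t m := by
  unfold Bop; rw [map_neg]; abel

theorem Aop_sub_right (t : F) (m m' : M) : Aop act t (m - m') = Aop act t m - Aop act t m' := by
  unfold Aop; rw [map_sub]; abel

theorem act_tSL_eq (t : F) (m : M) : act (tSL t) m = m + Aop act t m := by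
  unfold Aop; abel

theorem act_lSL_eq (s : F) (m : M) : act (lSL s) m = m + Bop act s m := by
  unfold Bop; abel

theorem Aop_zero_left (m : M) : Aop act 0 m = 0 := by
  unfold Aop; rw [tSL_zero, act_one, sub_self]

theorem Bop_zero_left (m : M) : Bop act 0 m = 0 := by
  unfold Bop; rw [lSL_zero, act_one, sub_self]

theorem Aop_eq_zero_of_mem {m : M} (hm : m ∈ fixU act) (t : F) : Aop act t m = 0 := by
  unfold Aop; rw [hm t, sub_self]

theorem Bop_eq_zero_of_mem {m : M} (hm : m ∈ fixL act) (s : F) : Bop act s m = 0 := by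
  unfold Bop; rw [hm s, sub_self]

variable {act}

section quad

variable (hq : Quad act)
include hq

theorem Aop_mem (t : F) (m : M) : Aop act t m ∈ fixU act := fun s => hq s t m

/-- The lower unitriangular group acts quadratically as well. -/
theorem quadL (s t : F) (m : M) : act (lSL s) (act (lSL t) m - m) = act (lSL t) m - m := by
  set m' := act (wSL : SpecialLinearGroup (Fin 2) F)⁻¹ m with hm'
  have h1 : act (lSL t) m - m = act wSL (act (tSL (-t)) m' - m') := by
    rw [map_sub, hm', act_act_inv, lSL_eq_conj, act_mul, act_mul]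
  rw [h1, lSL_eq_conj, act_mul, act_mul, act_inv_act, hq]

theorem Bop_mem (s : F) (m : M) : Bop act s m ∈ fixL act := fun t => quadL hq t s m

theorem Aop_Aop (s t : F) (m : M) : Aop act s (Aop act t m) = 0 :=
  Aop_eq_zero_of_mem act (Aop_mem hq t m) s

theorem Bop_Bop (s t : F) (m : M) : Bop act s (Bop act t m) = 0 :=
  Bop_eq_zero_of_mem act (Bop_mem hq t m) s

theorem Aop_add_left (s t : F) (m : M) : Aop act (s + t) m = Aop act s m + Aop act t m := by
  have h1 : act (tSL (s + t)) m = act (tSL s) (act (tSL t) m) := by rw [← act_mul, tSL_mul]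
  have h2 : Aop act (s + t) m = act (tSL (s + t)) m - m := rfl
  rw [h2, h1, act_tSL_eq act t m, map_add, act_tSL_eq act s m,
    act_tSL_eq act s (Aop act t m), Aop_Aop hq]
  abel

theorem Bop_add_left (s t : F) (m : M) : Bop act (s + t) m = Bop act s m + Bop act t m := by
  have h1 : act (lSL (s + t)) m = act (lSL s) (act (lSL t) m) := by rw [← act_mul, lSL_mul]
  have h2 : Bop act (s + t) m = act (lSL (s + t)) m - m := rfl
  rw [h2, h1, act_lSL_eq act t m, map_add, act_lSL_eq act s m,
    act_lSL_eq act s (Bop act t m), Bop_Bop hq]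
  abel

theorem Aop_neg_left (t : F) (m : M) : Aop act (-t) m = -Aop act t m := by
  have := Aop_add_left hq (-t) t m
  rw [neg_add_cancel, Aop_zero_left] at this
  exact eq_neg_of_add_eq_zero_left this.symm

theorem Kop_mem (x : F) (m : M) : Kop act x m ∈ fixU act := Aop_mem hq x _

theorem Kop_add_left (x y : F) (m : M) : Kop act (x + y) m = Kop act x m + Kop act y m :=
  Aop_add_left hq x y _

theorem Kop_zero_left (m : M) : Kop act 0 m = 0 := Aop_zero_left act _

theorem Kop_neg_left (x : F) (m : M) : Kop act (-x) m = -Kop act x m := Aop_neg_left hq x _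

variable (hirr : Irr act) (hnt : Nontriv act)
include hirr hnt

/-- The Weyl element `wX x` on `C_M(U)`. -/
theorem act_wX_of_fixU (x : F) (hx : x ≠ 0) {m : M} (hm : m ∈ fixU act) :
    act (wX x hx) m = Bop act (-x⁻¹) m ∧ Aop act x (Bop act (-x⁻¹) m) = -m := by
  set b := Bop act (-x⁻¹) m with hb
  have hy : act (wX x hx) m ∈ fixL act := by
    intro s
    rw [← act_mul, lSL_mul_wX, act_mul, hm]
  have h1 : act (wX x hx) m = (m + Aop act x b) + b := by
    rw [wX_eq, act_mul, act_mul, hm x, act_lSL_eq act (-x⁻¹) m, ← hb, act_tSL_eq act x (m + b),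
      Aop_add_right, Aop_eq_zero_of_mem act hm]
    abel
  have h2 : m + Aop act x b ∈ fixU act ⊓ fixL act := by
    refine ⟨(fixU act).add_mem hm (Aop_mem hq x b), ?_⟩
    have : m + Aop act x b = act (wX x hx) m - b := by rw [h1]; abel
    rw [this]
    exact (fixL act).sub_mem hy (Bop_mem hq _ _)
  rw [fixU_inf_fixL hirr hnt, AddSubgroup.mem_bot] at h2
  refine ⟨?_, ?_⟩
  · rw [h1, h2, zero_add]
  · exact eq_neg_of_add_eq_zero_right h2

/-- The Weyl element `wX x` on `C_M(L)`. -/
theorem act_wX_of_fixL (x : F) (hx : x ≠ 0) {m : M} (hm : m ∈ fixL act) :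
    act (wX x hx) m = Aop act x m ∧ Bop act (-x⁻¹) (Aop act x m) = -m := by
  set a := Aop act x m with ha
  have hy : act (wX x hx) m ∈ fixU act := by
    intro t
    rw [← act_mul, tSL_mul_wX, act_mul, hm]
  have h1 : act (wX x hx) m = (m + Bop act (-x⁻¹) a) + a := by
    rw [wX_eq_lower, act_mul, act_mul, hm (-x⁻¹), act_tSL_eq act x m, ← ha,
      act_lSL_eq act (-x⁻¹) (m + a), Bop_add_right, Bop_eq_zero_of_mem act hm]
    abel
  have h2 : m + Bop act (-x⁻¹) a ∈ fixU act ⊓ fixL act := by
    refine ⟨?_, (fixL act).add_mem hm (Bop_mem hq _ a)⟩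
    have : m + Bop act (-x⁻¹) a = act (wX x hx) m - a := by rw [h1]; abel
    rw [this]
    exact (fixU act).sub_mem hy (Aop_mem hq _ _)
  rw [fixU_inf_fixL hirr hnt, AddSubgroup.mem_bot] at h2
  refine ⟨?_, ?_⟩
  · rw [h1, h2, zero_add]
  · exact eq_neg_of_add_eq_zero_right h2

/-- The torus acts on `C_M(U)` through `Kop`. -/
theorem act_dSL_of_fixU (x : F) (hx : x ≠ 0) {m : M} (hm : m ∈ fixU act) :
    act (dSL x hx) m = Kop act x m := by
  have h1 := (act_wX_of_fixU hq hirr hnt (-1) (neg_ne_zero.mpr one_ne_zero) hm).1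
  have h2 : -(-1 : F)⁻¹ = 1 := by rw [inv_neg, inv_one, neg_neg]
  rw [h2] at h1
  rw [← wX_mul_wX, act_mul, h1, (act_wX_of_fixL hq hirr hnt x hx (Bop_mem hq 1 m)).1]
  rfl

theorem Kop_mul (x y : F) {m : M} (hm : m ∈ fixU act) :
    Kop act (x * y) m = Kop act x (Kop act y m) := by
  by_cases hx : x = 0
  · rw [hx, zero_mul, Kop_zero_left hq, Kop_zero_left hq]
  by_cases hy : y = 0
  · rw [hy, mul_zero, Kop_zero_left hq]
    unfold Kop
    rw [Bop_zero_right, Aop_zero_right]
  rw [← act_dSL_of_fixU hq hirr hnt (x * y) (mul_ne_zero hx hy) hm, dSL_mul x y hx hy, act_mul,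
    act_dSL_of_fixU hq hirr hnt y hy hm, act_dSL_of_fixU hq hirr hnt x hx (Kop_mem hq y m)]

theorem Kop_one {m : M} (hm : m ∈ fixU act) : Kop act 1 m = m := by
  rw [← act_dSL_of_fixU hq hirr hnt 1 one_ne_zero hm, dSL_one, act_one]

theorem Aop_injOn_fixL (x : F) (hx : x ≠ 0) {m : M} (hm : m ∈ fixL act) (h : Aop act x m = 0) :
    m = 0 := by
  have := (act_wX_of_fixL hq hirr hnt x hx hm).2
  rw [h, Bop_zero_right] at this
  exact neg_eq_zero.mp this.symm

/-- `B s = B 1 ∘ K s` on `C_M(U)`. -/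
theorem Bop_eq (s : F) {m : M} (hm : m ∈ fixU act) : Bop act s m = Bop act 1 (Kop act s m) := by
  by_cases hs : s = 0
  · rw [hs, Bop_zero_left, Kop_zero_left hq, Bop_zero_right]
  have hx : -s⁻¹ ≠ 0 := neg_ne_zero.mpr (inv_ne_zero hs)
  have h1 : Aop act (-s⁻¹) (Bop act s m) = -m := by
    have := (act_wX_of_fixU hq hirr hnt (-s⁻¹) hx hm).2
    have h2 : -(-s⁻¹)⁻¹ = s := by rw [inv_neg, inv_inv, neg_neg]
    rwa [h2] at this
  have h3 : Aop act (-s⁻¹) (Bop act 1 (Kop act s m)) = -m := by
    change Kop act (-s⁻¹) (Kop act s m) = -m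
    rw [← Kop_mul hq hirr hnt _ _ hm]
    have : -s⁻¹ * s = -1 := by field_simp
    rw [this, Kop_neg_left hq, Kop_one hq hirr hnt hm]
  have h4 : Aop act (-s⁻¹) (Bop act 1 (Kop act s m) - Bop act s m) = 0 := by
    rw [Aop_sub_right, h1, h3, sub_self]
  have h5 := Aop_injOn_fixL hq hirr hnt (-s⁻¹) hx
    ((fixL act).sub_mem (Bop_mem hq _ _) (Bop_mem hq _ _)) h4
  exact (sub_eq_zero.mp h5).symm

/-- There is a nonzero vector fixed by the unipotent group. -/
theorem exists_fixU_ne_zero : ∃ m₀ ∈ fixU act, m₀ ≠ 0 := by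
  by_contra h
  push Not at h
  have hfix : fixU act = ⊤ := by
    rw [eq_top_iff]
    intro m _ t
    have := h _ (Aop_mem hq t m)
    exact sub_eq_zero.mp this
  obtain ⟨g, m, hgm⟩ := hnt
  exact hgm (trivial_of_fixU_eq_top hfix g m)

/-- **Recognition of the natural module.** -/
theorem exists_natural :
    ∃ ψ : M ≃+ (Fin 2 → F), ∀ g m,
      ψ (act g m) = (g : Matrix (Fin 2) (Fin 2) F).mulVec (ψ m) := by
  obtain ⟨m₀, hm₀, hne⟩ := exists_fixU_ne_zero hq hirr hnt
  -- the coordinate map
  let ι : (Fin 2 → F) →+ M :=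
    { toFun := fun v => Kop act (v 0) m₀ + Bop act 1 (Kop act (v 1) m₀)
      map_zero' := by
        simp only [Pi.zero_apply]
        rw [Kop_zero_left hq, Bop_zero_right, add_zero]
      map_add' := by
        intro v v'
        simp only [Pi.add_apply]
        rw [Kop_add_left hq, Kop_add_left hq, Bop_add_right]
        abel }
  have hι : ∀ v, ι v = Kop act (v 0) m₀ + Bop act 1 (Kop act (v 1) m₀) := fun v => rfl
  have hU : ∀ t v, act (tSL t) (ι v) = ι ((tSL t : Matrix (Fin 2) (Fin 2) F).mulVec v) := by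
    intro t v
    rw [tSL_mulVec, hι, hι]
    simp only [Matrix.cons_val_zero, Matrix.cons_val_one]
    rw [act_tSL_eq, Aop_add_right, Aop_eq_zero_of_mem act (Kop_mem hq _ _), zero_add,
      Kop_add_left hq, Kop_mul hq hirr hnt t (v 1) hm₀]
    change _ + Kop act t (Kop act (v 1) m₀) = _
    abel
  have hL : ∀ s v, act (lSL s) (ι v) = ι ((lSL s : Matrix (Fin 2) (Fin 2) F).mulVec v) := by
    intro s v
    rw [lSL_mulVec, hι, hι]
    simp only [Matrix.cons_val_zero, Matrix.cons_val_one]
    rw [act_lSL_eq, Bop_add_right, Bop_Bop hq, add_zero, Bop_eq hq hirr hnt s (Kop_mem hq _ _),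
      ← Kop_mul hq hirr hnt s (v 0) hm₀, Kop_add_left hq, Bop_add_right]
    abel
  have hequiv : ∀ g v, act g (ι v) = ι ((g : Matrix (Fin 2) (Fin 2) F).mulVec v) := by
    apply forall_of_gens (fun g => ∀ v, act g (ι v) = ι ((g : Matrix (Fin 2) (Fin 2) F).mulVec v))
    · intro v
      rw [act_one, Matrix.SpecialLinearGroup.coe_one, Matrix.one_mulVec]
    · intro g h hg hh v
      rw [act_mul, hh, hg, Matrix.SpecialLinearGroup.coe_mul, Matrix.mulVec_mulVec]
    · intro g hg v
      have h1 : v = (g : Matrix (Fin 2) (Fin 2) F).mulVec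
          (((g⁻¹ : SpecialLinearGroup (Fin 2) F) : Matrix (Fin 2) (Fin 2) F).mulVec v) := by
        rw [Matrix.mulVec_mulVec, ← Matrix.SpecialLinearGroup.coe_mul, mul_inv_cancel,
          Matrix.SpecialLinearGroup.coe_one, Matrix.one_mulVec]
      conv_lhs => rw [h1]
      rw [← hg, act_inv_act]
    · exact hU
    · exact hL
  -- injectivity
  have hinj : Function.Injective ι := by
    rw [injective_iff_map_eq_zero]
    intro v hv
    rw [hι] at hv
    have h1 : Kop act (v 0) m₀ ∈ fixU act ⊓ fixL act := by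
      refine ⟨Kop_mem hq _ _, ?_⟩
      have : Kop act (v 0) m₀ = -Bop act 1 (Kop act (v 1) m₀) := eq_neg_of_add_eq_zero_left hv
      rw [this]
      exact (fixL act).neg_mem (Bop_mem hq _ _)
    rw [fixU_inf_fixL hirr hnt, AddSubgroup.mem_bot] at h1
    have h2 : Bop act 1 (Kop act (v 1) m₀) = 0 := by rwa [h1, zero_add] at hv
    have key : ∀ a : F, Kop act a m₀ = 0 → a = 0 := by
      intro a ha
      by_contra hane
      apply hne
      have := Kop_mul hq hirr hnt a⁻¹ a hm₀
      rw [inv_mul_cancel₀ hane, Kop_one hq hirr hnt hm₀, ha] at this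
      rw [this]
      unfold Kop
      rw [Bop_zero_right, Aop_zero_right]
    have h3 : Kop act (v 1) m₀ = 0 := by
      have h4 := Kop_one hq hirr hnt (Kop_mem hq (v 1) m₀)
      have h5 : Kop act 1 (Kop act (v 1) m₀) = Aop act 1 (Bop act 1 (Kop act (v 1) m₀)) := rfl
      rw [← h4, h5, h2, Aop_zero_right]
    ext i
    fin_cases i
    · exact key _ h1
    · exact key _ h3
  -- surjectivity
  have hsurj : Function.Surjective ι := by
    have hinv : ∀ g, ∀ m ∈ ι.range, act g m ∈ ι.range := by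
      rintro g m ⟨v, rfl⟩
      exact ⟨_, (hequiv g v).symm⟩
    rcases hirr ι.range hinv with h | h
    · exfalso
      apply hne
      have h1 : ι ![1, 0] ∈ ι.range := ⟨_, rfl⟩
      rw [h, AddSubgroup.mem_bot, hι] at h1
      simp only [Matrix.cons_val_zero, Matrix.cons_val_one] at h1
      rw [Kop_zero_left hq, Bop_zero_right, add_zero, Kop_one hq hirr hnt hm₀] at h1
      exact h1
    · intro m
      have : m ∈ ι.range := by rw [h]; trivial
      exact this
  let e : (Fin 2 → F) ≃+ M := AddEquiv.ofBijective ι ⟨hinj, hsurj⟩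
  refine ⟨e.symm, ?_⟩
  intro g m
  apply e.injective
  rw [AddEquiv.apply_symm_apply]
  change act g m = ι _
  rw [← hequiv]
  congr 1
  exact (e.apply_symm_apply m).symm

end quad

end Cfsg.Agent.Lib.Helper18.SLNat
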