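import Mathlib
import Cfsg.Prelude.Def_BaumannBlocks
import Cfsg.Agent.Lib.Helper13.NaturalSL2
import Cfsg.Agent.Lib.Helper18.SLNatD

/-!
helper18: transfer of the natural-module recognition to the subgroup setting
(`Cfsg.ActsAsSL2OnSection`).
-/

set_option autoImplicit false

namespace Cfsg.Agent.Lib.Helper18.SLNat

open Matrix Cfsg.Agent.Lib.Helper13 Cfsg.Agent.Lib.Helper18.SLQuad
open scoped IsMulCommutative commutatorElement

variable {X : Type*} [Group X]

/-- Conjugation by `g ∈ N(V)` on the abelian subgroup `V`, written additively. -/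
def conjHom (V : Subgroup X) [IsMulCommutative ↥V] (g : ↥(Subgroup.normalizer (V : Set X))) :
    Additive ↥V →+ Additive ↥V where
  toFun := fun v => Additive.ofMul
    (⟨(g : X) * ((Additive.toMul v : ↥V) : X) * (g : X)⁻¹,
      (Subgroup.mem_normalizer_iff.mp g.2 _).mp (Additive.toMul v : ↥V).2⟩ : ↥V)
  map_zero' := by
    apply Additive.toMul.injective
    apply Subtype.ext
    simp
  map_add' := by
    intro v w
    apply Additive.toMul.injective
    apply Subtype.ext
    simp only [toMul_add, Subgroup.coe_mul, toMul_ofMul]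
    group

theorem conjHom_apply (V : Subgroup X) [IsMulCommutative ↥V]
    (g : ↥(Subgroup.normalizer (V : Set X))) (v : Additive ↥V) :
    ((Additive.toMul (conjHom V g v) : ↥V) : X) =
      (g : X) * ((Additive.toMul v : ↥V) : X) * (g : X)⁻¹ := rfl

/-- The conjugation action of `N(V)` on the abelian subgroup `V`, written additively. -/
def conjEnd (V : Subgroup X) [IsMulCommutative ↥V] :
    ↥(Subgroup.normalizer (V : Set X)) →* AddMonoid.End (Additive ↥V) where
  toFun g := conjHom V g
  map_one' := by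
    apply AddMonoidHom.ext
    intro v
    apply Additive.toMul.injective
    apply Subtype.ext
    rw [conjHom_apply]
    change _ = ((Additive.toMul v : ↥V) : X)
    simp
  map_mul' := by
    intro g h
    apply AddMonoidHom.ext
    intro v
    apply Additive.toMul.injective
    apply Subtype.ext
    rw [conjHom_apply]
    change _ = ((Additive.toMul (conjHom V g (conjHom V h v)) : ↥V) : X)
    rw [conjHom_apply, conjHom_apply, Subgroup.coe_mul]
    group

theorem conjEnd_apply (V : Subgroup X) [IsMulCommutative ↥V]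
    (g : ↥(Subgroup.normalizer (V : Set X))) (v : Additive ↥V) :
    ((Additive.toMul (conjEnd V g v) : ↥V) : X) =
      (g : X) * ((Additive.toMul v : ↥V) : X) * (g : X)⁻¹ := rfl

/-- **S3009**: `G ≅ SL₂(F)` acting irreducibly and nontrivially on the elementary abelian `p`-group `V`
with `[V, S, S] = 1` or `|V| ≤ |C_V(S)|²` acts as on the natural module. -/
theorem actsAsSL2_main {X : Type*} [Group X] [Finite X] {p : ℕ} [Fact p.Prime] (G V : Subgroup X)
    (hV : Cfsg.IsElementaryAbelian p V) (hGV : G ≤ Subgroup.normalizer (V : Set X))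
    (F : Type) [Field F] [Fintype F] (n : ℕ) (hF : Fintype.card F = p ^ n)
    (hG : Nonempty (↥G ≃* Matrix.SpecialLinearGroup (Fin 2) F))
    (hirr : ∀ U : Subgroup X, U ≤ V → G ≤ Subgroup.normalizer (U : Set X) → U = ⊥ ∨ U = V)
    (hnt : ⁅V, G⁆ ≠ ⊥) (S : Sylow p ↥G)
    (hyp : ⁅⁅V, (S : Subgroup ↥G).map G.subtype⁆, (S : Subgroup ↥G).map G.subtype⁆ = ⊥ ∨
      Nat.card ↥V ≤ Nat.card ↥(V ⊓ Subgroup.centralizer
        (((S : Subgroup ↥G).map G.subtype : Subgroup X) : Set X)) ^ 2) :
    Cfsg.ActsAsSL2OnSection F ⊤ G V ⊥ := by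
  classical
  obtain ⟨e⟩ := hG
  haveI : IsMulCommutative ↥V := hV.1
  haveI hchar : CharP F p := Cfsg.Agent.Lib.Helper13.NatSL2.charP_of_card n hF
  -- move the Sylow subgroup to the upper unitriangular group
  let S' : Sylow p (SpecialLinearGroup (Fin 2) F) :=
    S.mapSurjective (f := e.toMonoidHom) e.surjective
  have hS'coe : (S' : Subgroup (SpecialLinearGroup (Fin 2) F)) =
      (S : Subgroup ↥G).map e.toMonoidHom := Sylow.coe_mapSurjective _ _
  obtain ⟨h, hh⟩ := MulAction.exists_smul_eq (SpecialLinearGroup (Fin 2) F)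
    (sylowUnipSL (F := F) p) S'
  let e' : ↥G ≃* SpecialLinearGroup (Fin 2) F := e.trans (MulAut.conj h⁻¹)
  have he' : ∀ a : ↥G, e' a = h⁻¹ * e a * h := by
    intro a
    change MulAut.conj h⁻¹ (e a) = _
    rw [MulAut.conj_apply, inv_inv]
  have hS1 : ∀ a : ↥G, e' a ∈ unipSL F → a ∈ S := by
    intro a ha
    have h1 : e a ∈ (S' : Subgroup (SpecialLinearGroup (Fin 2) F)) := by
      rw [← hh, Sylow.coe_subgroup_smul, Subgroup.mem_pointwise_smul_iff_inv_smul_mem,
        coe_sylowUnipSL]
      simp only [MulAut.smul_def, ← map_inv, MulAut.conj_apply, inv_inv]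
      rw [← he']
      exact ha
    rw [hS'coe] at h1
    obtain ⟨b, hb, hba⟩ := Subgroup.mem_map.mp h1
    have : b = a := e.injective hba
    rw [← this]
    exact hb
  have hS2 : ∀ t : F, ((e'.symm (tSL t) : ↥G) : X) ∈ (S : Subgroup ↥G).map G.subtype := by
    intro t
    refine Subgroup.mem_map.mpr ⟨e'.symm (tSL t), hS1 _ ?_, rfl⟩
    rw [MulEquiv.apply_symm_apply]
    exact tSL_mem_unipSL t
  -- the module
  let act : SpecialLinearGroup (Fin 2) F →* AddMonoid.End (Additive ↥V) :=
    (conjEnd V).comp ((Subgroup.inclusion hGV).comp e'.symm.toMonoidHom)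
  have hact : ∀ (g : SpecialLinearGroup (Fin 2) F) (v : Additive ↥V),
      ((Additive.toMul (act g v) : ↥V) : X) =
        ((e'.symm g : ↥G) : X) * ((Additive.toMul v : ↥V) : X) * ((e'.symm g : ↥G) : X)⁻¹ :=
    fun g v => rfl
  have hpM : ∀ m : Additive ↥V, p • m = 0 := by
    intro m
    apply Additive.toMul.injective
    apply Subtype.ext
    rw [toMul_nsmul, Subgroup.coe_pow]
    exact hV.2 _ (Additive.toMul m : ↥V).2
  -- irreducibility
  have hIrr : Irr act := by
    intro U hU
    let U' : Subgroup X :=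
      { carrier := {x | ∃ hx : x ∈ V, Additive.ofMul (⟨x, hx⟩ : ↥V) ∈ U}
        mul_mem' := by
          rintro x y ⟨hx, hxU⟩ ⟨hy, hyU⟩
          refine ⟨V.mul_mem hx hy, ?_⟩
          have : Additive.ofMul (⟨x * y, V.mul_mem hx hy⟩ : ↥V) =
              Additive.ofMul (⟨x, hx⟩ : ↥V) + Additive.ofMul (⟨y, hy⟩ : ↥V) := rfl
          rw [this]
          exact U.add_mem hxU hyU
        one_mem' := ⟨V.one_mem, U.zero_mem⟩
        inv_mem' := by
          rintro x ⟨hx, hxU⟩
          refine ⟨V.inv_mem hx, ?_⟩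
          have : Additive.ofMul (⟨x⁻¹, V.inv_mem hx⟩ : ↥V) = -Additive.ofMul (⟨x, hx⟩ : ↥V) := rfl
          rw [this]
          exact U.neg_mem hxU }
    have hU'V : U' ≤ V := fun x hx => hx.1
    have hconj : ∀ γ ∈ G, ∀ x ∈ U', γ * x * γ⁻¹ ∈ U' := by
      rintro γ hγ x ⟨hx, hxU⟩
      have h1 := hU (e' ⟨γ, hγ⟩) _ hxU
      have h2 := hact (e' ⟨γ, hγ⟩) (Additive.ofMul (⟨x, hx⟩ : ↥V))
      rw [MulEquiv.symm_apply_apply] at h2
      have h3 : γ * x * γ⁻¹ ∈ V := by
        rw [← show ((Additive.toMul (act (e' ⟨γ, hγ⟩) (Additive.ofMul (⟨x, hx⟩ : ↥V))) : ↥V) : X) =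
          γ * x * γ⁻¹ from h2]
        exact Subtype.property _
      refine ⟨h3, ?_⟩
      have h4 : Additive.ofMul (⟨γ * x * γ⁻¹, h3⟩ : ↥V) =
          act (e' ⟨γ, hγ⟩) (Additive.ofMul (⟨x, hx⟩ : ↥V)) := by
        apply Additive.toMul.injective
        apply Subtype.ext
        exact h2.symm
      rw [h4]
      exact h1
    have hnorm : G ≤ Subgroup.normalizer (U' : Set X) := by
      intro γ hγ
      rw [Subgroup.mem_normalizer_iff]
      intro x
      constructor
      · exact hconj γ hγ x
      · intro hx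
        have := hconj γ⁻¹ (G.inv_mem hγ) _ hx
        rw [inv_inv] at this
        have h5 : γ⁻¹ * (γ * x * γ⁻¹) * γ = x := by group
        rwa [h5] at this
    rcases hirr U' hU'V hnorm with h0 | h0
    · left
      rw [eq_bot_iff]
      intro m hm
      have : ((Additive.toMul m : ↥V) : X) ∈ U' := ⟨(Additive.toMul m : ↥V).2, hm⟩
      rw [h0, Subgroup.mem_bot] at this
      rw [AddSubgroup.mem_bot]
      apply Additive.toMul.injective
      apply Subtype.ext
      exact this
    · right
      rw [eq_top_iff]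
      intro m _
      have : ((Additive.toMul m : ↥V) : X) ∈ U' := by
        rw [h0]
        exact (Additive.toMul m : ↥V).2
      obtain ⟨_, hmU⟩ := this
      exact hmU
  -- nontriviality
  have hNt : Nontriv act := by
    have h1 : ¬ V ≤ Subgroup.centralizer (G : Set X) := by
      intro hle
      exact hnt (Subgroup.commutator_eq_bot_iff_le_centralizer.mpr hle)
    rw [SetLike.not_le_iff_exists] at h1
    obtain ⟨v, hvV, hvC⟩ := h1
    rw [Subgroup.mem_centralizer_iff] at hvC
    push Not at hvC
    obtain ⟨γ, hγ, hne⟩ := hvC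
    refine ⟨e' ⟨γ, hγ⟩, Additive.ofMul (⟨v, hvV⟩ : ↥V), ?_⟩
    intro heq
    apply hne
    have h2 := hact (e' ⟨γ, hγ⟩) (Additive.ofMul (⟨v, hvV⟩ : ↥V))
    rw [MulEquiv.symm_apply_apply, heq] at h2
    have h3 : v = γ * v * γ⁻¹ := h2
    calc γ * v = (γ * v * γ⁻¹) * γ := by group
      _ = v * γ := by rw [← h3]
  -- the hypothesis
  have hHyp : Quad act ∨ Nat.card (Additive ↥V) ≤ Nat.card (fixU act) ^ 2 := by
    rcases hyp with hq | hc
    · left
      intro s t m
      apply Additive.toMul.injective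
      apply Subtype.ext
      set a : X := ((e'.symm (tSL t) : ↥G) : X) with ha
      set b : X := ((e'.symm (tSL s) : ↥G) : X) with hb
      set v : X := ((Additive.toMul m : ↥V) : X) with hv
      have hvV : v ∈ V := (Additive.toMul m : ↥V).2
      have h1 : ((Additive.toMul (act (tSL t) m - m) : ↥V) : X) = a * v * a⁻¹ * v⁻¹ := by
        rw [toMul_sub, div_eq_mul_inv, Subgroup.coe_mul, Subgroup.coe_inv, hact]
      rw [hact, h1]
      have h2 : a * v * a⁻¹ * v⁻¹ ∈ ⁅V, (S : Subgroup ↥G).map G.subtype⁆ := by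
        rw [Subgroup.commutator_comm]
        exact Subgroup.commutator_mem_commutator (hS2 t) hvV
      have h3 : ⁅a * v * a⁻¹ * v⁻¹, b⁆ ∈
          ⁅⁅V, (S : Subgroup ↥G).map G.subtype⁆, (S : Subgroup ↥G).map G.subtype⁆ :=
        Subgroup.commutator_mem_commutator h2 (hS2 s)
      rw [hq, Subgroup.mem_bot, commutatorElement_def] at h3
      set c := a * v * a⁻¹ * v⁻¹ with hc
      calc b * c * b⁻¹ = (c * b * c⁻¹ * b⁻¹)⁻¹ * c := by group
        _ = c := by rw [h3, inv_one, one_mul]
    · right
      have h1 : Nat.card (Additive ↥V) = Nat.card ↥V := Nat.card_congr Additive.toMul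
      rw [h1]
      refine hc.trans ?_
      apply Nat.pow_le_pow_left
      let φ : ↥(V ⊓ Subgroup.centralizer
          (((S : Subgroup ↥G).map G.subtype : Subgroup X) : Set X)) → ↥(fixU act) := fun x =>
        ⟨Additive.ofMul (⟨(x : X), x.2.1⟩ : ↥V), by
          intro t
          apply Additive.toMul.injective
          apply Subtype.ext
          rw [hact]
          change _ = (x : X)
          have hx : (x : X) ∈ Subgroup.centralizer
              (((S : Subgroup ↥G).map G.subtype : Subgroup X) : Set X) := x.2.2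
          rw [Subgroup.mem_centralizer_iff] at hx
          have h2 := hx _ (hS2 t)
          change ((e'.symm (tSL t) : ↥G) : X) * (x : X) * ((e'.symm (tSL t) : ↥G) : X)⁻¹ = (x : X)
          rw [h2]
          group⟩
      apply Nat.card_le_card_of_injective φ
      intro x y hxy
      apply Subtype.ext
      have h2 := congrArg (fun z : ↥(fixU act) => ((Additive.toMul (z : Additive ↥V) : ↥V) : X)) hxy
      exact h2
  have hQ : Quad act := hHyp.elim id (quad_of_card act p hpM hIrr hNt)
  obtain ⟨ψ, hψ⟩ := exists_natural hQ hIrr hNt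
  refine ⟨hGV, bot_le, e'.toMonoidHom, ?_⟩
  let ψ' : ↥V →* Multiplicative (Fin 2 → F) :=
    { toFun := fun v => Multiplicative.ofAdd (ψ (Additive.ofMul v))
      map_one' := by
        change Multiplicative.ofAdd (ψ 0) = 1
        rw [map_zero]
        rfl
      map_mul' := by
        intro v w
        change Multiplicative.ofAdd (ψ (Additive.ofMul v + Additive.ofMul w)) = _
        rw [map_add]
        rfl }
  refine ⟨ψ', MonoidHom.range_eq_top.mpr e'.surjective, ?_, ?_, ?_⟩
  · intro y
    obtain ⟨m, hm⟩ := ψ.surjective (Multiplicative.toAdd y)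
    refine ⟨Additive.toMul m, ?_⟩
    change Multiplicative.ofAdd (ψ m) = y
    rw [hm]
    rfl
  · intro u
    rw [Subgroup.mem_bot]
    constructor
    · intro hu
      have h1 : ψ (Additive.ofMul u) = 0 := hu
      have h2 : Additive.ofMul u = 0 := by
        apply ψ.injective
        rw [h1, map_zero]
      have h3 : u = 1 := h2
      rw [h3]
      rfl
    · intro hu
      have h3 : u = 1 := Subtype.ext hu
      rw [h3, map_one]
  · intro ε u
    refine ⟨Additive.toMul (act (e' ε) (Additive.ofMul u)), ?_, ?_⟩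
    · rw [hact, MulEquiv.symm_apply_apply]
      rfl
    · change ψ (act (e' ε) (Additive.ofMul u)) = _
      rw [hψ]
      rfl

end Cfsg.Agent.Lib.Helper18.SLNat
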