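import Mathlib
import Cfsg.Prelude.Def_Solvable
import Cfsg.Agent.Lib.Helper28.SOTP
import Cfsg.Agent.Lib.Helper26.SOT4A1
import Cfsg.Agent.Lib.Helper28.SOT4A3S
import Cfsg.Agent.Lib.Helper19.SOT4A4N

set_option autoImplicit false

namespace Cfsg.Agent.Lib.Helper18.SOT4
open scoped Pointwise

theorem A5_core {G : Type*} [Group G] [Finite G] (r r' : ℕ) (hr : r.Prime) (hr' : r'.Prime) (hne : r ≠ r')
    (hrN : r ∣ Nat.card G) (hr'N : r' ∣ Nat.card G)
    (hord : ∀ g : G, orderOf g = 1 ∨ orderOf g = r ∨ orderOf g = r')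
    (V : Subgroup G) [V.Normal] (hVc : ∀ a ∈ V, ∀ b ∈ V, a * b = b * a) (hV : V ≠ ⊥)
    (v : G) (hv : v ∈ V) (hvo : orderOf v = r) :
    ∃ C : Subgroup G, Cfsg.IsFrobeniusComplement C ∧ (Nat.card ↥C).Prime := by
  have : Fact r'.Prime := ⟨hr'⟩
  -- `V` is an `r`-group
  have hVr : ∀ w ∈ V, w ^ r = 1 := by
    intro w hw
    rcases hord w with h1 | h1 | h1
    · rw [orderOf_eq_one_iff.mp h1, one_pow]
    · rw [← h1]; exact pow_orderOf_eq_one w
    · exfalso
      have hc : Commute v w := hVc v hv w hw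
      have hco : (orderOf v).Coprime (orderOf w) := by
        rw [hvo, h1]; exact (Nat.coprime_primes hr hr').mpr hne
      have h2 := hc.orderOf_mul_eq_mul_orderOf_of_coprime hco
      rw [hvo, h1] at h2
      have hr1 := hr.one_lt
      have hr'1 := hr'.one_lt
      rcases hord (v * w) with h3 | h3 | h3
      · rw [h3] at h2
        nlinarith
      · rw [h3] at h2
        nlinarith
      · rw [h3] at h2
        nlinarith
  obtain ⟨y, hy⟩ := exists_prime_orderOf_dvd_card' (G := G) r' hr'N
  have hCcard : Nat.card (Subgroup.zpowers y) = r' := by rw [Nat.card_zpowers, hy]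
  -- self-normalizing
  have hself : ∀ g ∈ Subgroup.normalizer ((Subgroup.zpowers y : Subgroup G) : Set G), g ∈ Subgroup.zpowers y := by
    have hK : IsPGroup r' (Subgroup.normalizer ((Subgroup.zpowers y : Subgroup G) : Set G)) := by
      intro g
      rcases hord (g : G) with h1 | h1 | h1
      · refine ⟨0, ?_⟩
        have h2 : (g : G) = 1 := orderOf_eq_one_iff.mp h1
        apply Subtype.ext
        simpa using h2
      · exfalso
        have hg := g.2
        rw [Subgroup.mem_normalizer_iff] at hg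
        have h2 : (g : G) * y * (g : G)⁻¹ ∈ Subgroup.zpowers y := (hg y).mp (Subgroup.mem_zpowers y)
        exact Cfsg.Agent.Lib.Helper19.SOT4.A4_no_normalizing r r' hr hr' hne hord V hVc hVr hV y g hy h1 h2
      · refine ⟨1, ?_⟩
        apply Subtype.ext
        rw [pow_one, Subgroup.coe_pow, ← h1, pow_orderOf_eq_one]
        rfl
    obtain ⟨R, hR⟩ := hK.exists_le_sylow
    have hRcard : Nat.card (R : Subgroup G) = r' := Cfsg.Agent.Lib.Helper28.SOT4.A3_sylow_card r r' hr hne hord V hVc hVr hV R hr'N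
    have hCK : Subgroup.zpowers y ≤ Subgroup.normalizer ((Subgroup.zpowers y : Subgroup G) : Set G) :=
      Subgroup.le_normalizer
    have hCR : Subgroup.zpowers y = (R : Subgroup G) := by
      apply Subgroup.eq_of_le_of_card_ge (hCK.trans hR)
      rw [hRcard, hCcard]
    intro g hg
    rw [hCR]
    exact hR hg
  refine ⟨Subgroup.zpowers y, ⟨?_, ?_, ?_⟩, ?_⟩
  · intro hbot
    rw [hbot, Subgroup.card_bot] at hCcard
    exact hr'.one_lt.ne hCcard
  · intro htop
    rw [htop, Subgroup.card_top] at hCcard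
    rw [hCcard] at hrN
    exact hne ((Nat.prime_dvd_prime_iff_eq hr hr').mp hrN)
  · intro g hg
    rw [Subgroup.eq_bot_iff_forall]
    intro d hd
    by_contra hd1
    obtain ⟨hdC, hdg⟩ := Subgroup.mem_inf.mp hd
    have hod : orderOf d = r' := by
      have h1 : orderOf d ∣ r' := by
        rw [← hCcard]
        exact Subgroup.orderOf_dvd_natCard _ hdC
      rcases (Nat.dvd_prime hr').mp h1 with h2 | h2
      · exact absurd (orderOf_eq_one_iff.mp h2) hd1
      · exact h2
    have hzd : Subgroup.zpowers d = Subgroup.zpowers y := by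
      apply Subgroup.eq_of_le_of_card_ge (Subgroup.zpowers_le.mpr hdC)
      rw [hCcard, Nat.card_zpowers, hod]
    have hle : Subgroup.zpowers y ≤ MulAut.conj g • Subgroup.zpowers y := by
      rw [← hzd]
      exact Subgroup.zpowers_le.mpr (hzd ▸ hdg)
    have hEq : MulAut.conj g • Subgroup.zpowers y = Subgroup.zpowers y := by
      symm
      apply Subgroup.eq_of_le_of_card_ge hle
      rw [← Nat.card_congr (Subgroup.equivSMul (MulAut.conj g) (Subgroup.zpowers y)).toEquiv]
    apply hg
    apply hself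
    rw [Subgroup.mem_normalizer_iff]
    intro h
    have h1 : MulAut.conj g • h ∈ MulAut.conj g • Subgroup.zpowers y ↔ h ∈ Subgroup.zpowers y :=
      Subgroup.smul_mem_pointwise_smul_iff
    rw [hEq, MulAut.smul_def, MulAut.conj_apply] at h1
    exact h1.symm
  · rw [hCcard]
    exact hr'

theorem A5_frobenius_complement {G : Type*} [Group G] [Finite G] (p q : ℕ) (hp : p.Prime) (hq : q.Prime) (hpq : p ≠ q)
    (hN : (Nat.card G).primeFactors = {p, q}) (hord : ∀ g : G, orderOf g = 1 ∨ orderOf g = p ∨ orderOf g = q) :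
    ∃ C : Subgroup G, Cfsg.IsFrobeniusComplement C ∧ (Nat.card ↥C).Prime := by
  have hpm : p ∈ (Nat.card G).primeFactors := by rw [hN]; simp
  have hqm : q ∈ (Nat.card G).primeFactors := by rw [hN]; simp
  have hpN := Nat.dvd_of_mem_primeFactors hpm
  have hqN := Nat.dvd_of_mem_primeFactors hqm
  have hnt : Nontrivial G := by
    rw [← Finite.one_lt_card_iff_nontrivial]
    have h1 := Nat.le_of_dvd Nat.card_pos hpN
    have h2 := hp.one_lt
    omega
  have hs : Group.IsSolvable G :=
    Cfsg.Agent.Lib.Helper28.SOT.P_solvable (by rw [hN, Finset.card_pair hpq])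
  obtain ⟨V, hVn, hVne, hVc⟩ := Cfsg.Agent.Lib.Helper26.SOT4.A1_abelian_normal hs
  obtain ⟨v, hvV, hv1⟩ : ∃ v ∈ V, v ≠ 1 := by
    by_contra hcon
    push Not at hcon
    exact hVne ((Subgroup.eq_bot_iff_forall V).mpr hcon)
  rcases hord v with h1 | h1 | h1
  · exact absurd (orderOf_eq_one_iff.mp h1) hv1
  · exact A5_core p q hp hq hpq hpN hqN hord V hVc hVne v hvV h1
  · refine A5_core q p hq hp hpq.symm hqN hpN (fun g => ?_) V hVc hVne v hvV h1
    rcases hord g with h | h | h
    · exact Or.inl h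
    · exact Or.inr (Or.inr h)
    · exact Or.inr (Or.inl h)

end Cfsg.Agent.Lib.Helper18.SOT4
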