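import Mathlib

/-!
# Doubly transitive groups of degree `≡ 2 (mod 4)` (helper18): general tools

* `sylow_ge`, `sylow_conj`: Sylow's theorems for subgroups of an ambient group.
* `exists_odd_index_two`: a group of order `2 * odd` has a normal subgroup of index two
  consisting of the elements of odd order.
* `card_dvd_of_free`: a group acting freely on a finite set has order dividing its cardinality.
-/

set_option autoImplicit false

namespace Cfsg.Agent.Lib.Helper18.TwoMod4

open MulAction
open scoped Pointwise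

section Sylow

variable {G : Type*} [Group G] [Finite G] (p : ℕ) [Fact p.Prime]

/-- every `p`-subgroup of `L` lies in a Sylow `p`-subgroup of `L` (as subgroups of `G`). -/
theorem sylow_ge (L Q : Subgroup G) (hQ : Q ≤ L) (hQp : IsPGroup p Q) :
    ∃ P : Subgroup G, Q ≤ P ∧ P ≤ L ∧ IsPGroup p P ∧
      Nat.card P = p ^ (Nat.card L).factorization p := by
  have hQ' : IsPGroup p (Q.subgroupOf L) :=
    hQp.of_equiv (Subgroup.subgroupOfEquivOfLe hQ).symm
  obtain ⟨P', hP'⟩ := hQ'.exists_le_sylow
  refine ⟨(P' : Subgroup ↥L).map L.subtype, ?_, ?_, ?_, ?_⟩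
  · intro x hx
    exact ⟨⟨x, hQ hx⟩, hP' (Subgroup.mem_subgroupOf.mpr hx), rfl⟩
  · rintro _ ⟨y, _, rfl⟩
    exact y.2
  · exact P'.isPGroup'.map _
  · rw [Subgroup.card_map_of_injective L.subtype_injective, P'.card_eq_multiplicity]

/-- two subgroups of `L` of the order of a Sylow `p`-subgroup of `L` are conjugate in `L`. -/
theorem sylow_conj (L Q R : Subgroup G) (hQ : Q ≤ L) (hR : R ≤ L)
    (hQc : Nat.card Q = p ^ (Nat.card L).factorization p)
    (hRc : Nat.card R = p ^ (Nat.card L).factorization p) :
    ∃ h ∈ L, ∀ x, x ∈ Q ↔ h⁻¹ * x * h ∈ R := by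
  have hQ' : Nat.card (Q.subgroupOf L) = p ^ (Nat.card L).factorization p := by
    rw [← hQc]; exact Nat.card_congr (Subgroup.subgroupOfEquivOfLe hQ).toEquiv
  have hR' : Nat.card (R.subgroupOf L) = p ^ (Nat.card L).factorization p := by
    rw [← hRc]; exact Nat.card_congr (Subgroup.subgroupOfEquivOfLe hR).toEquiv
  obtain ⟨l, hl⟩ := exists_smul_eq ↥L (Sylow.ofCard (R.subgroupOf L) hR')
    (Sylow.ofCard (Q.subgroupOf L) hQ')
  have key : Q.subgroupOf L = MulAut.conj l • R.subgroupOf L := by
    have := congrArg (fun S : Sylow p ↥L => (S : Subgroup ↥L)) hl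
    simp only [Sylow.coe_subgroup_smul, Sylow.coe_ofCard] at this
    exact this.symm
  have hmem : ∀ y : ↥L, y ∈ Q.subgroupOf L ↔ l⁻¹ * y * l ∈ R.subgroupOf L := by
    intro y
    rw [key, Subgroup.mem_pointwise_smul_iff_inv_smul_mem]
    simp [MulAut.smul_def]
  refine ⟨l, l.2, fun x => ?_⟩
  constructor
  · intro hx
    have := (hmem ⟨x, hQ hx⟩).mp (Subgroup.mem_subgroupOf.mpr hx)
    exact Subgroup.mem_subgroupOf.mp this
  · intro hx
    have hxL : x ∈ L := by
      have : x = (l : G) * ((l : G)⁻¹ * x * l) * (l : G)⁻¹ := by group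
      rw [this]
      exact L.mul_mem (L.mul_mem l.2 (hR hx)) (L.inv_mem l.2)
    have := (hmem ⟨x, hxL⟩).mpr (Subgroup.mem_subgroupOf.mpr hx)
    exact Subgroup.mem_subgroupOf.mp this

end Sylow


section OddIndexTwo

/-- a group of order `2 * odd` has a normal subgroup of index two, consisting of the elements
of odd order. -/
theorem exists_odd_index_two {X : Type*} [Group X] [Finite X] {k : ℕ} (hk : Odd k)
    (hX : Nat.card X = 2 * k) :
    ∃ Y : Subgroup X, Y.Normal ∧ Y.index = 2 ∧ Nat.card Y = k ∧
      ∀ x : X, x ∈ Y ↔ Odd (orderOf x) := by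
  have : Fact (Nat.Prime 2) := ⟨Nat.prime_two⟩
  let P : Sylow 2 X := default
  have hfac : (Nat.card X).factorization 2 = 1 := by
    rw [hX, Nat.factorization_mul (by norm_num) (by rintro rfl; exact absurd hk (by decide)),
      Finsupp.add_apply, Nat.Prime.factorization_self Nat.prime_two,
      Nat.factorization_eq_zero_of_not_dvd hk.not_two_dvd_nat]
  have hPcard : Nat.card (P : Subgroup X) = 2 := by
    rw [P.card_eq_multiplicity, hfac, pow_one]
  have hNC : Subgroup.normalizer ((P : Subgroup X) : Set X) ≤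
      Subgroup.centralizer ((P : Subgroup X) : Set X) := by
    intro g hg
    rw [Subgroup.mem_centralizer_iff]
    intro h hh
    by_cases h1 : h = 1
    · rw [h1]; simp
    have hconj : g * h * g⁻¹ ∈ (P : Subgroup X) := (Subgroup.mem_normalizer_iff.mp hg h).mp hh
    -- the subgroup has exactly two elements
    have hcases : ∀ y ∈ (P : Subgroup X), y = 1 ∨ y = h := by
      intro y hy
      by_cases hy1 : y = 1
      · exact Or.inl hy1
      right
      obtain ⟨z, _, hz⟩ := (Nat.card_eq_two_iff' (1 : ↥(P : Subgroup X))).mp hPcard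
      have e1 := hz ⟨y, hy⟩ (fun e => hy1 (congrArg Subtype.val e))
      have e2 := hz ⟨h, hh⟩ (fun e => h1 (congrArg Subtype.val e))
      exact congrArg Subtype.val (e1.trans e2.symm)
    rcases hcases _ hconj with h2 | h2
    · exfalso
      apply h1
      have : h = g⁻¹ * (g * h * g⁻¹) * g := by group
      rw [this, h2]; group
    · calc h * g = (g * h * g⁻¹) * g := by rw [h2]
        _ = g * h := by group
  have hcompl := MonoidHom.ker_transferSylow_isComplement' P hNC
  set Y : Subgroup X := (MonoidHom.transferSylow P hNC).ker with hY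
  have hYn : Y.Normal := MonoidHom.normal_ker _
  have hcardY : Nat.card Y = k := by
    have := hcompl.card_mul_card
    rw [hPcard, hX] at this
    omega
  have hidx : Y.index = 2 := by
    have := Y.index_mul_card
    rw [hcardY, hX] at this
    have hkpos : 0 < k := hk.pos
    nlinarith
  refine ⟨Y, hYn, hidx, hcardY, fun x => ⟨fun hx => ?_, fun hx => ?_⟩⟩
  · have : orderOf x ∣ k := by
      rw [← hcardY]
      have := orderOf_dvd_natCard (⟨x, hx⟩ : ↥Y)
      rwa [Subgroup.orderOf_mk] at this
    exact hk.of_dvd_nat this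
  · have h1 : ((x : X) : X ⧸ Y) ^ 2 = 1 := by
      have : Nat.card (X ⧸ Y) = 2 := hidx
      rw [← this]
      exact pow_card_eq_one'
    have h2 : ((x : X) : X ⧸ Y) ^ orderOf x = 1 := by
      rw [← QuotientGroup.mk_pow, pow_orderOf_eq_one]; rfl
    obtain ⟨j, hj⟩ := hx
    have h3 : ((x : X) : X ⧸ Y) = 1 := by
      have : ((x : X) : X ⧸ Y) = ((x : X) : X ⧸ Y) ^ orderOf x * ((((x : X) : X ⧸ Y) ^ 2) ^ j)⁻¹ := by
        rw [hj, ← pow_mul, pow_succ]; group
      rw [this, h1, h2]; simp
    exact (QuotientGroup.eq_one_iff x).mp h3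

end OddIndexTwo

section Free

variable {S Ω : Type*} [Group S] [Fintype Ω] [MulAction S Ω]

/-- a group acting freely on a finite set has order dividing its cardinality. -/
theorem card_dvd_of_free (h : ∀ (s : S) (a : Ω), s • a = a → s = 1) :
    Nat.card S ∣ Fintype.card Ω := by
  have hst : ∀ b : Ω, MulAction.stabilizer S b = ⊥ := by
    intro b
    rw [Subgroup.eq_bot_iff_forall]
    intro s hs
    exact h s b hs
  have e := MulAction.selfEquivOrbitsQuotientProd hst
  have := Nat.card_congr e
  rw [Nat.card_prod, Nat.card_eq_fintype_card] at this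
  exact ⟨_, by rw [this, mul_comm]⟩

end Free

end Cfsg.Agent.Lib.Helper18.TwoMod4
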