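import Mathlib
import Cfsg.Prelude.Def_Solvable
import Cfsg.Agent.Lib.Helper12.NseA
import Cfsg.Agent.Lib.Helper22.SOT.Asm

set_option autoImplicit false

namespace Cfsg.Agent.Lib.Helper18.SOT4Pre
open Cfsg.Agent.Lib.Helper12.Nse

/-- value extraction from the `ncard = 3` hypothesis (odd order) -/
theorem values_of_ncard {G : Type*} [Group G] [Finite G]
    (h : (((fun m : ℕ => Nat.card {g : G // orderOf g = m}) '' Set.range (orderOf : G → ℕ))).ncard = 3) :
    ∃ m n : ℕ, ∀ d, 3 ≤ d → Nat.card {g : G // orderOf g = d} = 0 ∨ Nat.card {g : G // orderOf g = d} = m ∨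
      Nat.card {g : G // orderOf g = d} = n := by
  classical
  set s : ℕ → ℕ := fun d => Nat.card {g : G // orderOf g = d} with hs
  have hsys : NseSys (Nat.card G) s := nseSys_of_group G
  set T : Set ℕ := s '' Set.range (orderOf : G → ℕ) with hT
  have hmemT : ∀ d, s d ≠ 0 → s d ∈ T := by
    intro d hd
    have : Nonempty {g : G // orderOf g = d} := by
      by_contra hne
      rw [not_nonempty_iff] at hne
      exact hd Nat.card_of_isEmpty
    obtain ⟨⟨g, hg⟩⟩ := this
    exact ⟨d, ⟨g, hg⟩, rfl⟩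
  have h1T : (1 : ℕ) ∈ T := by
    have := hmemT 1 (by rw [hsys.m_one]; exact one_ne_zero)
    rwa [hsys.m_one] at this
  obtain ⟨m, n, hV⟩ : ∃ m n : ℕ, ∀ d, s d ≠ 0 → s d = 1 ∨ s d = m ∨ s d = n := by
    obtain ⟨x, y, z, hxy, hxz, hyz, hTe⟩ := Set.ncard_eq_three.mp h
    have h1 : (1 : ℕ) ∈ ({x, y, z} : Set ℕ) := hTe ▸ h1T
    have hall : ∀ d, s d ≠ 0 → s d = x ∨ s d = y ∨ s d = z := by
      intro d hd
      have := hmemT d hd
      rw [hTe] at this
      simpa using this
    simp only [Set.mem_insert_iff, Set.mem_singleton_iff] at h1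
    rcases h1 with rfl | rfl | rfl
    · exact ⟨y, z, hall⟩
    · refine ⟨x, z, fun d hd => ?_⟩
      rcases hall d hd with h' | h' | h'
      · exact Or.inr (Or.inl h')
      · exact Or.inl h'
      · exact Or.inr (Or.inr h')
    · refine ⟨x, y, fun d hd => ?_⟩
      rcases hall d hd with h' | h' | h'
      · exact Or.inr (Or.inl h')
      · exact Or.inr (Or.inr h')
      · exact Or.inl h'
  refine ⟨m, n, fun d hd => ?_⟩
  by_cases h0 : s d = 0
  · exact Or.inl h0
  · right
    rcases hV d h0 with h' | h' | h'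
    · exfalso
      have := Cfsg.Agent.Lib.Helper22.SOTAsm.even_of_three_le hsys d hd
      rw [h'] at this
      exact absurd this (by decide)
    · exact Or.inl h'
    · exact Or.inr h'

/-- first conjunct -/
theorem conj_one {G : Type*} [Group G] [Finite G] (hodd : Odd (Nat.card G)) (m n : ℕ)
    (hV : ∀ d, 3 ≤ d → Nat.card {g : G // orderOf g = d} = 0 ∨ Nat.card {g : G // orderOf g = d} = m ∨
      Nat.card {g : G // orderOf g = d} = n) : (Nat.card G).primeFactors.card ≤ 2 := by
  apply Cfsg.Agent.Lib.Helper22.SOTAsm.card_primeFactors_le_two_of_three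
  intro p q r hp hq hr hpq hpr hqr hpN hqN hrN
  exact Cfsg.Agent.Lib.Helper22.SOTC.C_odd_of (nseSys_of_group G) hodd m n hV
    (fun p q r hp hq hr hpq hpr hqr hpN hqN hrN =>
      Cfsg.Agent.Lib.Helper24.SOT.C1_uniform (nseSys_of_group G) hodd m n hV p q r hp hq hr hpq hpr hqr hpN hqN hrN)
    (fun p q r hp hq hr hpq hpr hqr hpN hqN hrN v hvp hvq hvr =>
      Cfsg.Agent.Lib.Helper12.SOT.C2_ppart (nseSys_of_group G) hodd m n hV p q r hp hq hr hpq hpr hqr hpN hqN hrN
        v hvp hvq hvr)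
    p q r hp hq hr hpq hpr hqr hpN hqN hrN

/-- Sylow subgroups have prime exponent when all element orders are `1`, `p`, `q` -/
theorem sylow_exponent {G : Type*} [Group G] [Finite G] (p q : ℕ) (hp : p.Prime) (hq : q.Prime)
    (hord : ∀ g : G, orderOf g = 1 ∨ orderOf g = p ∨ orderOf g = q)
    (r : ℕ) [hr : Fact r.Prime] (P : Sylow r G) (hrN : r ∣ Nat.card G) :
    Monoid.exponent ↥(P : Subgroup G) = r := by
  have hcard : Nat.card (P : Subgroup G) = r ^ (Nat.card G).factorization r := P.card_eq_multiplicity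
  have hpos : 0 < (Nat.card G).factorization r :=
    (hr.out.factorization_pos_of_dvd Nat.card_pos.ne' hrN)
  have hnt : Nontrivial ↥(P : Subgroup G) := by
    rw [← Finite.one_lt_card_iff_nontrivial, hcard]
    exact Nat.one_lt_pow hpos.ne' hr.out.one_lt
  rw [Monoid.exponent_eq_prime_iff hr.out]
  intro g hg
  obtain ⟨k, hk⟩ := (IsPGroup.iff_orderOf.mp P.isPGroup') g
  have hg1 : orderOf g ≠ 1 := fun h1 => hg (orderOf_eq_one_iff.mp h1)
  have hk0 : k ≠ 0 := by
    rintro rfl
    rw [pow_zero] at hk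
    exact hg1 hk
  have hdvd : r ∣ orderOf g := by rw [hk]; exact dvd_pow_self r hk0
  have hco : orderOf (g : G) = orderOf g := Subgroup.orderOf_coe g
  rcases hord (g : G) with h1 | h1 | h1
  · rw [hco] at h1; exact absurd h1 hg1
  · rw [hco] at h1
    rw [h1] at hdvd ⊢
    exact ((Nat.prime_dvd_prime_iff_eq hr.out hp).mp hdvd).symm
  · rw [hco] at h1
    rw [h1] at hdvd ⊢
    exact ((Nat.prime_dvd_prime_iff_eq hr.out hq).mp hdvd).symm

end Cfsg.Agent.Lib.Helper18.SOT4Pre
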