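import Mathlib
import Cfsg.Prelude.Def_Solvable
import Cfsg.Agent.Lib.Helper12.NseA
import Cfsg.Agent.Lib.Helper18.SOT4Pre
import Cfsg.Agent.Lib.Helper26.SOT4FP
import Cfsg.Agent.Lib.Helper28.SOT4L1
import Cfsg.Agent.Lib.Helper24.SOT4E1
import Cfsg.Agent.Lib.Helper18.SOT4A5
import Cfsg.Agent.Lib.Helper12.SOT4E0

set_option autoImplicit false

namespace Cfsg.Agent.Lib.Helper18.SOT4Asm
open Cfsg.Agent.Lib.Helper12.Nse

/-- H2 from FP -/
theorem H2_of_FP {G : Type*} [Group G] [Finite G] (r d : ℕ) (hr : r.Prime) (hrN : r ∣ Nat.card G)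
    (hcop : Nat.Coprime r d) (hnd : ¬ r ∣ Nat.card {g : G // orderOf g = d}) :
    Nat.card {g : G // orderOf g = r * d} ≠ 0 := by
  have : Fact r.Prime := ⟨hr⟩
  obtain ⟨x, hx⟩ := exists_prime_orderOf_dvd_card' (G := G) r hrN
  obtain ⟨y, hy, hc⟩ := Cfsg.Agent.Lib.Helper26.SOT4.FP_exists_commute r d hr x hx hnd
  apply card_subtype_ne_zero_of_exists
  refine ⟨x * y, ?_⟩
  rw [hc.orderOf_mul_eq_mul_orderOf_of_coprime (by rw [hx, hy]; exact hcop), hx, hy]

/-- H1 from FP + L1 -/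
theorem H1_of_FP {G : Type*} [Group G] [Finite G] (a b : ℕ) (ha : a.Prime) (hb : b.Prime) (hab : a ≠ b)
    (hb3 : 3 ≤ b) (hnd : ¬ a ∣ Nat.card {g : G // orderOf g = b}) :
    2 * Nat.card {g : G // orderOf g = a} ≤ Nat.card {g : G // orderOf g = a * b} :=
  Cfsg.Agent.Lib.Helper28.SOT4.L1_two_mul_le a b ha hb hab hb3 (fun x hx => Cfsg.Agent.Lib.Helper26.SOT4.FP_exists_commute a b ha x hx hnd)

/-- the second conjunct, given the values -/
theorem conj_two {G : Type*} [Group G] [Finite G] (hodd : Odd (Nat.card G)) (m n : ℕ)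
    (hV : ∀ d, 3 ≤ d → Nat.card {g : G // orderOf g = d} = 0 ∨ Nat.card {g : G // orderOf g = d} = m ∨
      Nat.card {g : G // orderOf g = d} = n) (h2 : (Nat.card G).primeFactors.card = 2) :
    (∀ (p : ℕ) [Fact p.Prime] (P : Sylow p G), p ∣ Nat.card G → Monoid.exponent ↥(P : Subgroup G) = p) ∧
        ∃ C : Subgroup G, Cfsg.IsFrobeniusComplement C ∧ (Nat.card ↥C).Prime := by
  classical
  obtain ⟨p, q, hpq, hN⟩ := Finset.card_eq_two.mp h2
  have hpm : p ∈ (Nat.card G).primeFactors := by rw [hN]; simp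
  have hqm : q ∈ (Nat.card G).primeFactors := by rw [hN]; simp
  have hp := Nat.prime_of_mem_primeFactors hpm
  have hq := Nat.prime_of_mem_primeFactors hqm
  have hpN := Nat.dvd_of_mem_primeFactors hpm
  have hqN := Nat.dvd_of_mem_primeFactors hqm
  have hp3 : 3 ≤ p := by
    have h2 := hp.two_le
    rcases eq_or_lt_of_le h2 with h | h
    · exfalso
      rw [← h] at hpN
      exact (Nat.not_even_iff_odd.mpr hodd) (even_iff_two_dvd.mpr hpN)
    · omega
  have hq3 : 3 ≤ q := by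
    have h2 := hq.two_le
    rcases eq_or_lt_of_le h2 with h | h
    · exfalso
      rw [← h] at hqN
      exact (Nat.not_even_iff_odd.mpr hodd) (even_iff_two_dvd.mpr hqN)
    · omega
  set s : ℕ → ℕ := fun d => Nat.card {g : G // orderOf g = d} with hs
  have hsys : NseSys (Nat.card G) s := nseSys_of_group G
  have hne : s p ≠ s q := Cfsg.Agent.Lib.Helper12.SOT4.E0_ne hsys hodd m n hV p q hp hq hpq hN
  have hsp0 : s p ≠ 0 := hsys.cauchy p hp hpN
  have hsq0 : s q ≠ 0 := hsys.cauchy q hq hqN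
  have hV' : ∀ d, 3 ≤ d → s d = 0 ∨ s d = s p ∨ s d = s q := by
    intro d hd
    have hP := hV p hp3
    have hQ := hV q hq3
    have hD := hV d hd
    change s p = 0 ∨ s p = m ∨ s p = n at hP
    change s q = 0 ∨ s q = m ∨ s q = n at hQ
    change s d = 0 ∨ s d = m ∨ s d = n at hD
    rcases hP with hP | hP | hP
    · exact absurd hP hsp0
    · rcases hQ with hQ | hQ | hQ
      · exact absurd hQ hsq0
      · exact absurd (hP.trans hQ.symm) hne
      · rcases hD with hD | hD | hD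
        · exact Or.inl hD
        · exact Or.inr (Or.inl (hD.trans hP.symm))
        · exact Or.inr (Or.inr (hD.trans hQ.symm))
    · rcases hQ with hQ | hQ | hQ
      · exact absurd hQ hsq0
      · rcases hD with hD | hD | hD
        · exact Or.inl hD
        · exact Or.inr (Or.inr (hD.trans hQ.symm))
        · exact Or.inr (Or.inl (hD.trans hP.symm))
      · exact absurd (hP.trans hQ.symm) hne
  have hE := Cfsg.Agent.Lib.Helper24.SOT4.E1_orders hsys hodd p q hp hq hpq hN hV' hne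
    (fun a b ha hb hab hb3 hnd => H1_of_FP a b ha hb hab hb3 hnd)
    (fun r d hr hrN hcop hnd => H2_of_FP r d hr hrN hcop hnd)
  have hord : ∀ g : G, orderOf g = 1 ∨ orderOf g = p ∨ orderOf g = q := by
    intro g
    apply hE
    exact card_subtype_ne_zero_of_exists ⟨g, rfl⟩
  refine ⟨fun r _ P hrN => Cfsg.Agent.Lib.Helper18.SOT4Pre.sylow_exponent p q hp hq hord r P hrN, ?_⟩
  exact Cfsg.Agent.Lib.Helper18.SOT4.A5_frobenius_complement p q hp hq hpq hN hord

/-- **S4004** -/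
theorem main {G : Type*} [Group G] [Finite G] (hodd : Odd (Nat.card G))
    (h : (((fun m : ℕ => Nat.card {g : G // orderOf g = m}) '' Set.range (orderOf : G → ℕ))).ncard = 3) :
    (Nat.card G).primeFactors.card ≤ 2 ∧
      ((Nat.card G).primeFactors.card = 2 →
        (∀ (p : ℕ) [Fact p.Prime] (P : Sylow p G), p ∣ Nat.card G → Monoid.exponent ↥(P : Subgroup G) = p) ∧
        ∃ C : Subgroup G, Cfsg.IsFrobeniusComplement C ∧ (Nat.card ↥C).Prime) := by
  obtain ⟨m, n, hV⟩ := Cfsg.Agent.Lib.Helper18.SOT4Pre.values_of_ncard h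
  exact ⟨Cfsg.Agent.Lib.Helper18.SOT4Pre.conj_one hodd m n hV, fun h2 => conj_two hodd m n hV h2⟩

end Cfsg.Agent.Lib.Helper18.SOT4Asm
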