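import Cfsg.Agent.Lib.Helper10.SPTPQT
import Cfsg.Agent.Lib.Helper10.SPTPREL
import Cfsg.Agent.Lib.Helper15.SPHEIS
import Cfsg.Agent.Lib.Helper15.SPHEISHOM

/-!
# S3713 (helper18): assembly 1 — the hom on the vector stabiliser (`tp`)
-/

set_option autoImplicit false

namespace Cfsg.Agent.Lib.Helper18.SP

open Matrix Cfsg.Agent.Lib.Helper5 Cfsg.Agent.Lib.Helper14.SpPerfect
open Cfsg.Agent.Lib.Helper10.SPTPQT (tp_qt)
open Cfsg.Agent.Lib.Helper10.SPTPREL (tp_rel)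
open Cfsg.Agent.Lib.Helper15.SPHEIS (heis_ext)
open Cfsg.Agent.Lib.Helper15.SPHEISHOM (heis_hom)

variable {F : Type*} [Field F] {n : ℕ} {H : Type*} [Group H]

/-- **TP**: the hom on `PJ (insert o J) o = Q ⋊ GJ J` from the hom `φL` on the Levi factor and the hom `ψ` on the
rank two vector stabiliser `PJ {o,p} o = ⟨M_{op}, S_p⟩`. -/
theorem tp (hF : ∃ a : F, a ≠ 0 ∧ a ≠ 1) {J : Set (Fin n)} {o p : Fin n} (ho : o ∉ J) (hp : p ∈ J)
    (φL ψ : Sp n F → H) (hL : HomOn (GJ n F J) φL) (hψ : HomOn (PJ n F {o, p} o) ψ)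
    (h2 : ∀ g ∈ SS n F p, ψ g = φL g)
    (hC : ∀ l ∈ PJ n F J p, Commute (φL l) (ψ (E (eV n F o) (eV n F p))))
    (hZ : ∀ l ∈ GJ n F J, ∀ c, Commute (φL l) (ψ (Tr (eV n F o) c))) :
    ∃ φP : Sp n F → H, HomOn (PJ n F (insert o J) o) φP ∧ (∀ l ∈ GJ n F J, φP l = φL l) ∧
      (∀ m ∈ PJ n F {o, p} o, φP m = ψ m) := by
  have hop : o ≠ p := fun h => ho (h ▸ hp)
  have hop' : o ∉ ({p} : Set (Fin n)) := hop
  have hpJ : ({p} : Set (Fin n)) ⊆ J := Set.singleton_subset_iff.mpr hp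
  obtain ⟨qt, hequiv, hloc⟩ := tp_qt ho hp φL ψ hL hψ h2 hC
  obtain ⟨hq0, hzq, hrelN, hrelD⟩ := tp_rel ho hp φL ψ hL hψ hZ qt hequiv hloc
  have hTr : ∀ c : F, Tr (eV n F o) c ∈ PJ n F {o, p} o := fun c => Tr_eV_mem_PJ (Set.mem_insert o {p}) c
  have hz_add : ∀ c d : F, ψ (Tr (eV n F o) (c + d)) = ψ (Tr (eV n F o) c) * ψ (Tr (eV n F o) d) := by
    intro c d
    rw [← Tr_mul, hψ.map_mul (hTr c) (hTr d)]
  have hrel := heis_ext hF J qt (fun c => ψ (Tr (eV n F o) c)) hz_add hzq hq0 hrelN hrelD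
  obtain ⟨φP, hP, hPval⟩ := heis_hom ho φL hL qt (fun c => ψ (Tr (eV n F o) c)) hz_add hZ hzq hequiv hrel
  refine ⟨φP, hP, ?_, ?_⟩
  · intro l hl
    have h := hPval 0 (VJ n F J).zero_mem 0 l hl
    rw [qH_zero, one_mul, hq0, one_mul] at h
    rw [h]
    show ψ (Tr (eV n F o) 0) * φL l = φL l
    rw [Tr_zero, hψ.map_one, one_mul]
  · intro m hm
    obtain ⟨u, hu, c, s, hs, rfl⟩ := PJ_decomp hop' hm
    have hEu : E (eV n F o) u ∈ PJ n F {o, p} o := E_eV_mem_PJ hop' hu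
    have hsP : s ∈ PJ n F {o, p} o := GJ_le_PJ (Set.subset_insert o {p}) hop' hs
    rw [hPval u (VJ_mono hpJ hu) c s (GJ_mono hpJ hs), hloc u hu]
    show ψ (E (eV n F o) u) * ψ (Tr (eV n F o) c) * φL s = ψ (qH o u c * s)
    unfold qH
    rw [hψ.map_mul (mul_mem hEu (hTr c)) hsP, hψ.map_mul hEu (hTr c), h2 s hs]

end Cfsg.Agent.Lib.Helper18.SP
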