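import Cfsg.Agent.Lib.Helper22.SPYLEMMA
import Cfsg.Agent.Lib.Helper25.SPSL2DEC
import Cfsg.Agent.Lib.Helper4.SPGDEC
import Cfsg.Agent.Lib.Helper12.SPSTEPN
import Cfsg.Agent.Lib.Helper12.SPSTEPY

/-!
# S3713 (helper18): assembly 2 — the inductive step from `StepHyp` (`step_fin`)
-/

set_option autoImplicit false

namespace Cfsg.Agent.Lib.Helper18.SP

open Matrix Cfsg.Agent.Lib.Helper5 Cfsg.Agent.Lib.Helper14.SpPerfect
open Cfsg.Agent.Lib.Helper22.SPYLEMMA (ylemma)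
open Cfsg.Agent.Lib.Helper25.SPSL2DEC (SS_decomp)
open Cfsg.Agent.Lib.Helper4.SPGDEC (GJ_decomp yE_mem_GJ yE_not_mem_PhJ yE_eq_conj GJ_le_closure)
open Cfsg.Agent.Lib.Helper12.SPSTEPN (step_n)
open Cfsg.Agent.Lib.Helper12.SPSTEPY (step_y)

variable {F : Type*} [Field F] {n : ℕ} {H : Type*} [Group H]

/-- `S_o` is generated by its Borel subgroup and the Weyl element -/
theorem SS_le_closure {K : Set (Fin n)} {o : Fin n} (ho : o ∈ K) :
    SS n F o ≤ Subgroup.closure ((PhJ n F K o : Set (Sp n F)) ∪ {nW n F o}) := by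
  have hB : PhJ n F {o} o ≤ Subgroup.closure ((PhJ n F K o : Set (Sp n F)) ∪ {nW n F o}) := fun g hg =>
    Subgroup.subset_closure (Or.inl (PhJ_mono (Set.singleton_subset_iff.mpr ho) o hg))
  have hn : nW n F o ∈ Subgroup.closure ((PhJ n F K o : Set (Sp n F)) ∪ {nW n F o}) :=
    Subgroup.subset_closure (Or.inr rfl)
  intro g hg
  rcases SS_decomp hg with h | ⟨b₁, hb₁, b₂, hb₂, rfl⟩
  · exact hB h
  · exact mul_mem (mul_mem (hB hb₁) hn) (hB hb₂)

theorem GJ_le_closure_PhJ {J : Set (Fin n)} {o p : Fin n} (ho : o ∉ J) (hp : p ∈ J) :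
    GJ n F (insert o J) ≤ Subgroup.closure ((PhJ n F (insert o J) o : Set (Sp n F)) ∪ {nW n F o}) := by
  refine (GJ_le_closure ho hp).trans ?_
  rw [Subgroup.closure_le]
  rintro g (hg | hg)
  · exact Subgroup.subset_closure (Or.inl (PJ_le_PhJ _ o hg))
  · exact SS_le_closure (Set.mem_insert o J) hg

/-- **STEPFIN**: the inductive step -/
theorem step_fin {J' : Set (Fin n)} {o r p q : Fin n} {φA φL φPh : Sp n F → H}
    (D : StepHyp J' o r p q φA φL φPh) :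
    ∃ Φ : Sp n F → H, HomOn (GJ n F (insert o (insert r J'))) Φ ∧
      (∀ g ∈ PhJ n F (insert o (insert r J')) o, Φ g = φPh g) ∧ Φ (nW n F o) = φA (nW n F o) := by
  have hop : o ≠ p := fun h => D.ho (h ▸ D.hp)
  have hoJ : o ∉ insert r J' := fun h => (Set.mem_insert_iff.mp h).elim D.hor D.ho
  have hpJ : p ∈ insert r J' := Set.mem_insert_of_mem r D.hp
  have hoK : o ∈ insert o (insert r J') := Set.mem_insert o _
  have hoA : o ∈ insert o J' := Set.mem_insert o _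
  have hnA : nW n F o ∈ GJ n F (insert o J') := SS_le_GJ hoA (nW_mem_SS o)
  have hx : E (eV n F o) (eV n F p) ∈ PJ n F (insert o J') o := E_eV_mem_PJ D.ho (eV_mem_VJ D.hp)
  have hAK : insert o J' ⊆ insert o (insert r J') := Set.insert_subset_insert (Set.subset_insert r J')
  obtain ⟨Φ, hΦ, hΦPh, hΦn, -⟩ := ylemma (GJ n F (insert o (insert r J'))) (PhJ n F (insert o (insert r J')) o)
    (PhJ_le_GJ _ o) φPh D.homPh (nW n F o) (yE n F o p) (φA (nW n F o)) (φA (yE n F o p))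
    (SS_le_GJ hoK (nW_mem_SS o)) (nW_not_mem_PhJ _ o) (yE_not_mem_PhJ _ hop)
    (GJ_le_closure_PhJ hoJ hpJ)
    (by
      have hsq : (nW n F o * nW n F o)⁻¹ ∈ TT n F o := inv_mem (nW_sq_mem_TT o)
      refine ⟨1, one_mem _, (nW n F o * nW n F o)⁻¹, TT_le_PhJ hoK hsq, by group, ?_⟩
      rw [D.homPh.map_one, D.PhA _ (TT_le_PhJ hoA hsq), D.homA.map_inv (mul_mem hnA hnA), D.homA.map_mul hnA hnA]
      group)
    (by
      refine ⟨(E (eV n F o) (eV n F p))⁻¹, PJ_le_PhJ _ o (PJ_mono hAK o (inv_mem hx)), yE_eq_conj hop, ?_⟩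
      rw [D.PhA _ (PJ_le_PhJ _ o (inv_mem hx)), yE_eq_conj hop, D.homA.map_conj hnA (inv_mem hx.1)])
    (step_n D) (step_y D)
  exact ⟨Φ, hΦ, hΦPh, hΦn⟩

end Cfsg.Agent.Lib.Helper18.SP
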