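import Cfsg.Agent.Lib.Helper18.SPAsm1
import Cfsg.Agent.Lib.Helper18.SPAsm2
import Cfsg.Agent.Lib.Helper25.SPGENP

/-!
# S3713 (helper18): assembly 3 — the amalgam, its commutation relations, generation by members
-/

set_option autoImplicit false

namespace Cfsg.Agent.Lib.Helper18.SP

open Matrix Cfsg.Agent.Lib.Helper5 Cfsg.Agent.Lib.Helper14.SpPerfect
open Cfsg.Agent.Lib.Helper10.SPTPQT (tp_qt)
open Cfsg.Agent.Lib.Helper10.SPTPREL (tp_rel)
open Cfsg.Agent.Lib.Helper15.SPHEIS (heis_ext)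
open Cfsg.Agent.Lib.Helper15.SPHEISHOM (heis_hom)
open Cfsg.Agent.Lib.Helper22.SPYLEMMA (ylemma)
open Cfsg.Agent.Lib.Helper25.SPSL2DEC (SS_decomp)
open Cfsg.Agent.Lib.Helper4.SPGDEC (GJ_decomp yE_mem_GJ yE_not_mem_PhJ yE_eq_conj GJ_le_closure)
open Cfsg.Agent.Lib.Helper12.SPSTEPN (step_n)
open Cfsg.Agent.Lib.Helper12.SPSTEPY (step_y)
open Cfsg.Agent.Lib.Helper25.SPGENP (PJ_le_closure MM_commute)

variable {F : Type*} [Field F] {n : ℕ} {H : Type*} [Group H]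

/-- `p` is the successor of `i` -/
def nx {n : ℕ} (i p : Fin n) : Prop := (p : ℕ) = (i : ℕ) + 1

theorem nx_ne {i p : Fin n} (h : nx i p) : i ≠ p := by
  intro hip
  rw [hip] at h
  unfold nx at h
  omega

theorem nx_unique {i p p' : Fin n} (h : nx i p) (h' : nx i p') : p = p' := by
  apply Fin.ext
  unfold nx at h h'
  omega

/-- the amalgam of the `S_j` and the `M_i`, as total functions -/
structure IsAmalgam (σ μ : Fin n → Sp n F → H) : Prop where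
  homS : ∀ j, HomOn (SS n F j) (σ j)
  homM : ∀ i p, nx i p → HomOn (MM n F i p) (μ i)
  cohSS : ∀ j l, j ≠ l → ∃ ψ : Sp n F → H, HomOn (SS n F j ⊔ SS n F l) ψ ∧
    (∀ g ∈ SS n F j, ψ g = σ j g) ∧ (∀ g ∈ SS n F l, ψ g = σ l g)
  cohMM : ∀ i p i' p', nx i p → nx i' p' → i ≠ i' → ∃ ψ : Sp n F → H,
    HomOn (MM n F i p ⊔ MM n F i' p') ψ ∧ (∀ g ∈ MM n F i p, ψ g = μ i g) ∧ (∀ g ∈ MM n F i' p', ψ g = μ i' g)
  cohMS : ∀ i p j, nx i p → ∃ ψ : Sp n F → H, HomOn (MM n F i p ⊔ SS n F j) ψ ∧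
    (∀ g ∈ MM n F i p, ψ g = μ i g) ∧ (∀ g ∈ SS n F j, ψ g = σ j g)

theorem Tr_eV_mem_MM_left (i p : Fin n) (c : F) : Tr (eV n F i) c ∈ MM n F i p := by
  constructor
  · intro k
    rw [act_Tr, ω_eV_eV, mul_zero, zero_smul, add_zero]
  · intro k hki _
    rw [act_Tr, ω_fV_eV, if_neg (Ne.symm hki), mul_zero, zero_smul, add_zero]

theorem Tr_eV_mem_MM_right (i p : Fin n) (c : F) : Tr (eV n F p) c ∈ MM n F i p := by
  rw [MM_comm]
  exact Tr_eV_mem_MM_left p i c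

theorem E_eV_eV_mem_MM (i p : Fin n) : E (eV n F i) (eV n F p) ∈ MM n F i p := by
  have h : ω n F (eV n F i) (eV n F p) = 0 := ω_eV_eV i p
  constructor
  · intro k
    rw [act_E _ _ _ h, ω_eV_eV, ω_eV_eV, zero_smul, zero_smul, add_zero, add_zero]
  · intro k hki hkp
    rw [act_E _ _ _ h, ω_fV_eV, ω_fV_eV, if_neg (Ne.symm hki), if_neg (Ne.symm hkp), zero_smul, zero_smul,
      add_zero, add_zero]

theorem Tr_eV_mem_SS (j : Fin n) (c : F) : Tr (eV n F j) c ∈ SS n F j :=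
  Tr_mem_GJ (J := {j}) (eV_mem_VJ (Set.mem_singleton j)) c

namespace IsAmalgam

variable {σ μ : Fin n → Sp n F → H}

theorem cSS (A : IsAmalgam σ μ) {j l : Fin n} (hjl : j ≠ l) {s s' : Sp n F} (hs : s ∈ SS n F j)
    (hs' : s' ∈ SS n F l) : Commute (σ j s) (σ l s') := by
  obtain ⟨ψ, hψ, h1, h2⟩ := A.cohSS j l hjl
  rw [← h1 s hs, ← h2 s' hs']
  exact hψ.commute_of_sup hs hs' (GJ_commute (Set.disjoint_singleton.mpr hjl) hs hs')

theorem cMM (A : IsAmalgam σ μ) {i p i' p' : Fin n} (h : nx i p) (h' : nx i' p') {m m' : Sp n F}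
    (hm : m ∈ MM n F i p) (hm' : m' ∈ MM n F i' p') : Commute (μ i m) (μ i' m') := by
  by_cases hii : i = i'
  · subst hii
    have hpp : p = p' := nx_unique h h'
    subst hpp
    show μ i m * μ i m' = μ i m' * μ i m
    rw [← (A.homM i p h).map_mul hm hm', ← (A.homM i p h).map_mul hm' hm, (MM_commute hm hm').eq]
  · obtain ⟨ψ, hψ, h1, h2⟩ := A.cohMM i p i' p' h h' hii
    rw [← h1 m hm, ← h2 m' hm']
    exact hψ.commute_of_sup hm hm' (MM_commute hm hm')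

theorem cMS (A : IsAmalgam σ μ) {i p j : Fin n} (h : nx i p) (hji : j ≠ i) (hjp : j ≠ p) {m s : Sp n F}
    (hm : m ∈ MM n F i p) (hs : s ∈ SS n F j) : Commute (μ i m) (σ j s) := by
  obtain ⟨ψ, hψ, h1, h2⟩ := A.cohMS i p j h
  rw [← h1 m hm, ← h2 s hs]
  refine hψ.commute_of_sup hm hs (GJ_commute ?_ (MM_le_GJ (Set.mem_insert i {p}) (Set.mem_insert_of_mem i rfl) hm) hs)
  rw [Set.disjoint_singleton_right]
  intro hj
  rcases hj with hj | hj
  · exact hji hj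
  · exact hjp hj

theorem μ_Tr_left (A : IsAmalgam σ μ) {i p : Fin n} (h : nx i p) (c : F) :
    μ i (Tr (eV n F i) c) = σ i (Tr (eV n F i) c) := by
  obtain ⟨ψ, -, h1, h2⟩ := A.cohMS i p i h
  rw [← h1 _ (Tr_eV_mem_MM_left i p c), ← h2 _ (Tr_eV_mem_SS i c)]

theorem μ_Tr_right (A : IsAmalgam σ μ) {i p : Fin n} (h : nx i p) (c : F) :
    μ i (Tr (eV n F p) c) = σ p (Tr (eV n F p) c) := by
  obtain ⟨ψ, -, h1, h2⟩ := A.cohMS i p p h
  rw [← h1 _ (Tr_eV_mem_MM_right i p c), ← h2 _ (Tr_eV_mem_SS p c)]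

end IsAmalgam

/-! ### members, generation, good functions -/

/-- the members of the amalgam with indices in `J` -/
def MemJ (n : ℕ) (F : Type*) [Field F] (J : Set (Fin n)) : Set (Sp n F) :=
  {g | (∃ j ∈ J, g ∈ SS n F j) ∨ (∃ i p, nx i p ∧ i ∈ J ∧ p ∈ J ∧ g ∈ MM n F i p)}

/-- `GJ J` is generated by the members with indices in `J` -/
def Gen (n : ℕ) (F : Type*) [Field F] (J : Set (Fin n)) : Prop := GJ n F J ≤ Subgroup.closure (MemJ n F J)

theorem MemJ_subset (J : Set (Fin n)) : MemJ n F J ⊆ GJ n F J := by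
  rintro g (⟨j, hj, hg⟩ | ⟨i, p, -, hi, hp, hg⟩)
  · exact SS_le_GJ hj hg
  · exact MM_le_GJ hi hp hg

theorem MemJ_mono {J K : Set (Fin n)} (h : J ⊆ K) : MemJ n F J ⊆ MemJ n F K := by
  rintro g (⟨j, hj, hg⟩ | ⟨i, p, hip, hi, hp, hg⟩)
  · exact Or.inl ⟨j, h hj, hg⟩
  · exact Or.inr ⟨i, p, hip, h hi, h hp, hg⟩

theorem Gen_singleton (j : Fin n) : Gen n F {j} := fun _ hg => Subgroup.subset_closure (Or.inl ⟨j, rfl, hg⟩)

theorem Gen_insert {J : Set (Fin n)} {o p : Fin n} (ho : o ∉ J) (hp : p ∈ J) (hop : nx o p) (hJ : Gen n F J) :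
    Gen n F (insert o J) := by
  have hMJ : Subgroup.closure (MemJ n F J) ≤ Subgroup.closure (MemJ n F (insert o J)) :=
    Subgroup.closure_mono (MemJ_mono (Set.subset_insert o J))
  have hS : SS n F o ≤ Subgroup.closure (MemJ n F (insert o J)) := fun g hg =>
    Subgroup.subset_closure (Or.inl ⟨o, Set.mem_insert o J, hg⟩)
  have hM : MM n F o p ≤ Subgroup.closure (MemJ n F (insert o J)) := fun g hg =>
    Subgroup.subset_closure (Or.inr ⟨o, p, hop, Set.mem_insert o J, Set.mem_insert_of_mem o hp, hg⟩)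
  refine (GJ_le_closure ho hp).trans ?_
  rw [Subgroup.closure_le]
  rintro g (hg | hg)
  · have := PJ_le_closure ho hp hg
    revert this
    apply (Subgroup.closure_le _).mpr
    rintro x (hx | hx)
    · exact hM hx
    · exact hMJ (hJ hx)
  · exact hS hg

/-- `φ` is multiplicative on `GJ J` and extends the members with indices in `J` -/
def Good (σ μ : Fin n → Sp n F → H) (J : Set (Fin n)) (φ : Sp n F → H) : Prop :=
  HomOn (GJ n F J) φ ∧ (∀ j ∈ J, ∀ g ∈ SS n F j, φ g = σ j g) ∧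
    (∀ i p, nx i p → i ∈ J → p ∈ J → ∀ g ∈ MM n F i p, φ g = μ i g)

namespace Good

variable {σ μ : Fin n → Sp n F → H} {J K : Set (Fin n)} {φ φ' : Sp n F → H}

theorem mono (h : Good σ μ K φ) (hJK : J ⊆ K) : Good σ μ J φ :=
  ⟨h.1.mono (GJ_mono hJK), fun j hj => h.2.1 j (hJK hj), fun i p hip hi hp => h.2.2 i p hip (hJK hi) (hJK hp)⟩

theorem eq_of_Gen (h : Good σ μ J φ) (h' : Good σ μ J φ') (hJ : Gen n F J) : ∀ g ∈ GJ n F J, φ g = φ' g := by
  intro g hg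
  refine HomOn.eqOn_closure h.1 h'.1 (MemJ_subset J) ?_ g (hJ hg)
  rintro x (⟨j, hj, hx⟩ | ⟨i, p, hip, hi, hp, hx⟩)
  · rw [h.2.1 j hj x hx, h'.2.1 j hj x hx]
  · rw [h.2.2 i p hip hi hp x hx, h'.2.2 i p hip hi hp x hx]

/-- `σ_j(S_j)` commutes with `φ(GJ J)` for `j ∉ J` -/
theorem comm_S (A : IsAmalgam σ μ) (h : Good σ μ J φ) (hJ : Gen n F J) {j : Fin n} (hj : j ∉ J) {s : Sp n F}
    (hs : s ∈ SS n F j) : ∀ l ∈ GJ n F J, Commute (φ l) (σ j s) := by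
  intro l hl
  refine HomOn.commute_closure h.1 (MemJ_subset J) (σ j s) ?_ l (hJ hl)
  rintro x (⟨j', hj', hx⟩ | ⟨i, p, hip, hi, hp, hx⟩)
  · rw [h.2.1 j' hj' x hx]
    exact A.cSS (fun e : j' = j => hj (e ▸ hj')) hx hs
  · rw [h.2.2 i p hip hi hp x hx]
    exact A.cMS hip (fun e : j = i => hj (e ▸ hi)) (fun e : j = p => hj (e ▸ hp)) hx hs

/-- `μ_i(M_i)` commutes with `φ(GJ J)` for `i, p ∉ J` -/
theorem comm_M (A : IsAmalgam σ μ) (h : Good σ μ J φ) (hJ : Gen n F J) {i p : Fin n} (hip : nx i p) (hi : i ∉ J)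
    (hp : p ∉ J) {m : Sp n F} (hm : m ∈ MM n F i p) : ∀ l ∈ GJ n F J, Commute (φ l) (μ i m) := by
  intro l hl
  refine HomOn.commute_closure h.1 (MemJ_subset J) (μ i m) ?_ l (hJ hl)
  rintro x (⟨j', hj', hx⟩ | ⟨i', p', hip', hi', hp', hx⟩)
  · rw [h.2.1 j' hj' x hx]
    exact (A.cMS hip (fun e : j' = i => hi (e ▸ hj')) (fun e : j' = p => hp (e ▸ hj')) hm hx).symm
  · rw [h.2.2 i' p' hip' hi' hp' x hx]
    exact A.cMM hip' hip hx hm

end Good

end Cfsg.Agent.Lib.Helper18.SP
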