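import Cfsg.Agent.Lib.Helper18.SPAsm3
import Cfsg.Agent.Lib.Helper22.SPPROD

/-!
# S3713 (helper18): assembly 4 — the inductive step
-/

set_option autoImplicit false

namespace Cfsg.Agent.Lib.Helper18.SP

open Matrix Cfsg.Agent.Lib.Helper5 Cfsg.Agent.Lib.Helper14.SpPerfect
open Cfsg.Agent.Lib.Helper10.SPTPQT (tp_qt)
open Cfsg.Agent.Lib.Helper10.SPTPREL (tp_rel)
open Cfsg.Agent.Lib.Helper15.SPHEIS (heis_ext)
open Cfsg.Agent.Lib.Helper15.SPHEISHOM (heis_hom)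
open Cfsg.Agent.Lib.Helper22.SPYLEMMA (ylemma)
open Cfsg.Agent.Lib.Helper25.SPSL2DEC (SS_decomp)
open Cfsg.Agent.Lib.Helper4.SPGDEC (GJ_decomp yE_mem_GJ yE_not_mem_PhJ yE_eq_conj GJ_le_closure)
open Cfsg.Agent.Lib.Helper12.SPSTEPN (step_n)
open Cfsg.Agent.Lib.Helper12.SPSTEPY (step_y)
open Cfsg.Agent.Lib.Helper25.SPGENP (PJ_le_closure MM_commute)
open Cfsg.Agent.Lib.Helper22.SPPROD (homOn_prod)

variable {F : Type*} [Field F] {n : ℕ} {H : Type*} [Group H] {σ μ : Fin n → Sp n F → H}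

theorem PJ_pair_le_sup {o p : Fin n} (hop : o ≠ p) : PJ n F {o, p} o ≤ MM n F o p ⊔ SS n F p := by
  have h := PJ_le_closure (F := F) (J := {p}) (o := o) (p := p) hop rfl
  rw [Subgroup.closure_union, Subgroup.closure_eq, Subgroup.closure_eq] at h
  exact h

theorem PJ_pair_le_sup' {o p : Fin n} (hop : o ≠ p) : PJ n F {o, p} p ≤ MM n F o p ⊔ SS n F o := by
  rw [Set.pair_comm o p, MM_comm o p]
  exact PJ_pair_le_sup hop.symm

/-- the hom on `PJ {o,p} o = ⟨M_o, S_p⟩` -/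
theorem exists_psi1 (A : IsAmalgam σ μ) {o p : Fin n} (hop : nx o p) :
    ∃ ψ : Sp n F → H, HomOn (PJ n F {o, p} o) ψ ∧ (∀ g ∈ MM n F o p, ψ g = μ o g) ∧
      (∀ g ∈ SS n F p, ψ g = σ p g) := by
  obtain ⟨ψ, hψ, h1, h2⟩ := A.cohMS o p p hop
  exact ⟨ψ, hψ.mono (PJ_pair_le_sup (nx_ne hop)), h1, h2⟩

/-- the hom on `PJ {o,p} p = ⟨M_o, S_o⟩` -/
theorem exists_psi2 (A : IsAmalgam σ μ) {o p : Fin n} (hop : nx o p) :
    ∃ ψ : Sp n F → H, HomOn (PJ n F {o, p} p) ψ ∧ (∀ g ∈ MM n F o p, ψ g = μ o g) ∧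
      (∀ g ∈ SS n F o, ψ g = σ o g) := by
  obtain ⟨ψ, hψ, h1, h2⟩ := A.cohMS o p o hop
  exact ⟨ψ, hψ.mono (PJ_pair_le_sup' (nx_ne hop)), h1, h2⟩

/-- `φL (Stab_L(e_p))` commutes with `μ_o(M_o)` -/
theorem comm_PJ_M (A : IsAmalgam σ μ) {J J₂ : Set (Fin n)} {o p q : Fin n}
    (ho : o ∉ J) (hJ : J = insert p J₂) (hp2 : p ∉ J₂) (hq : q ∈ J₂) (hop : nx o p) (hpq : nx p q)
    (hGJ₂ : Gen n F J₂) {φL : Sp n F → H} (hL : Good σ μ J φL) {m : Sp n F} (hm : m ∈ MM n F o p) :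
    ∀ l ∈ PJ n F J p, Commute (φL l) (μ o m) := by
  have hp : p ∈ J := hJ ▸ Set.mem_insert p J₂
  have hqJ : q ∈ J := hJ ▸ Set.mem_insert_of_mem p hq
  have hJ₂J : J₂ ⊆ J := hJ ▸ Set.subset_insert p J₂
  have ho2 : o ∉ J₂ := fun h => ho (hJ₂J h)
  intro l hl
  have hl' : l ∈ Subgroup.closure ((MM n F p q : Set (Sp n F)) ∪ (GJ n F J₂ : Set (Sp n F))) := by
    have hl2 : l ∈ PJ n F (insert p J₂) p := hJ ▸ hl
    exact PJ_le_closure hp2 hq hl2
  refine HomOn.commute_closure hL.1 ?_ _ ?_ l hl'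
  · rintro x (hx | hx)
    · exact MM_le_GJ hp hqJ hx
    · exact GJ_mono hJ₂J hx
  · rintro x (hx | hx)
    · rw [hL.2.2 p q hpq hp hqJ x hx]
      exact A.cMM hpq hop hx hm
    · exact (hL.mono hJ₂J).comm_M A hGJ₂ hop ho2 hp2 hm x hx

/-- the hom on the vector stabiliser `PJ (insert o J) o` -/
theorem exists_phiP (hF : ∃ a : F, a ≠ 0 ∧ a ≠ 1) (A : IsAmalgam σ μ) {J J₂ : Set (Fin n)} {o p q : Fin n}
    (ho : o ∉ J) (hJ : J = insert p J₂) (hp2 : p ∉ J₂) (hq : q ∈ J₂) (hop : nx o p) (hpq : nx p q)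
    (hGJ : Gen n F J) (hGJ₂ : Gen n F J₂) {φL : Sp n F → H} (hL : Good σ μ J φL) :
    ∃ φP : Sp n F → H, HomOn (PJ n F (insert o J) o) φP ∧ (∀ l ∈ GJ n F J, φP l = φL l) ∧
      (∀ m ∈ MM n F o p, φP m = μ o m) := by
  have hp : p ∈ J := hJ ▸ Set.mem_insert p J₂
  have hqJ : q ∈ J := hJ ▸ Set.mem_insert_of_mem p hq
  have hJ₂J : J₂ ⊆ J := hJ ▸ Set.subset_insert p J₂
  have ho2 : o ∉ J₂ := fun h => ho (hJ₂J h)
  obtain ⟨ψ, hψ, h1, h2⟩ := exists_psi1 A hop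
  have hxM : E (eV n F o) (eV n F p) ∈ MM n F o p := E_eV_eV_mem_MM o p
  obtain ⟨φP, hP, hPL, hPψ⟩ := tp hF ho hp φL ψ hL.1 hψ
    (fun g hg => by rw [h2 g hg, hL.2.1 p hp g hg])
    (by
      intro l hl
      rw [h1 _ hxM]
      exact comm_PJ_M A ho hJ hp2 hq hop hpq hGJ₂ hL hxM l hl)
    (by
      intro l hl c
      rw [h1 _ (Tr_eV_mem_MM_left o p c), A.μ_Tr_left hop c]
      exact hL.comm_S A hGJ ho (Tr_eV_mem_SS o c) l hl)
  refine ⟨φP, hP, hPL, fun m hm => ?_⟩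
  rw [hPψ m (MM_le_PJ (Set.mem_insert o {p}) (Set.mem_insert_of_mem o rfl) o hm), h1 m hm]

/-- the hom on the point stabiliser `PhJ (insert o J) o` -/
theorem exists_phiPh (A : IsAmalgam σ μ) {J : Set (Fin n)} {o p : Fin n} (ho : o ∉ J) (hp : p ∈ J) (hop : nx o p)
    (hGJ : Gen n F J) {φL : Sp n F → H} (hL : Good σ μ J φL) {φP : Sp n F → H}
    (hP : HomOn (PJ n F (insert o J) o) φP) (hPL : ∀ l ∈ GJ n F J, φP l = φL l)
    (hPM : ∀ m ∈ MM n F o p, φP m = μ o m) :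
    ∃ φPh : Sp n F → H, HomOn (PhJ n F (insert o J) o) φPh ∧ (∀ g ∈ PJ n F (insert o J) o, φPh g = φP g) ∧
      (∀ b ∈ PhJ n F {o} o, φPh b = σ o b) := by
  have hoK : o ∈ insert o J := Set.mem_insert o J
  have hoK' : ({o} : Set (Fin n)) ⊆ insert o J := Set.singleton_subset_iff.mpr hoK
  obtain ⟨ψ', hψ', h1', h2'⟩ := A.cohMS o p o hop
  obtain ⟨φPh, hPh, hPhB, hPhP⟩ := homOn_prod (PhJ n F {o} o) (PJ n F (insert o J) o) (PhJ n F (insert o J) o)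
    (σ o) φP ((A.homS o).mono (PhJ_le_GJ {o} o)) hP (PhJ_mono hoK' o) (PJ_le_PhJ _ o)
    (by
      intro g hg
      obtain ⟨t, ht, x, hx, rfl⟩ := PhJ_decomp hoK hg
      exact ⟨t, TT_le_PhJ (K := {o}) (Set.mem_singleton o) ht, x, hx, rfl⟩)
    (fun b hb x hx => conj_mem_PJ (PhJ_mono hoK' o hb) hx)
    (by
      intro g hg hgP
      obtain ⟨c, rfl⟩ := eq_Tr_of_mem_SS hg.1 hgP.2
      rw [hPM _ (Tr_eV_mem_MM_left o p c), A.μ_Tr_left hop c])
    (by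
      intro b hb x hx
      have hbS : b ∈ SS n F o := hb.1
      refine HomOn.conj_closure hP ?_ b (fun x hx => conj_mem_PJ (PhJ_mono hoK' o hb) hx) (σ o b) ?_ x
        (PJ_le_closure ho hp hx)
      · rintro x (hx | hx)
        · exact MM_le_PJ hoK (Set.mem_insert_of_mem o hp) o hx
        · exact GJ_le_PJ (Set.subset_insert o J) ho hx
      · rintro x (hx | hx)
        · have hc := conj_mem_MM hb hx
          rw [hPM _ hc, hPM _ hx, ← h1' _ hc, ← h1' _ hx, ← h2' _ hbS]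
          exact hψ'.map_conj (Subgroup.mem_sup_right hbS) (Subgroup.mem_sup_left hx)
        · have hcomm : Commute b x := GJ_commute (Set.disjoint_singleton_left.mpr ho) hbS hx
          have e : b * x * b⁻¹ = x := by rw [hcomm.eq, mul_inv_cancel_right]
          rw [e, hPL x hx]
          have := hL.comm_S A hGJ ho hbS x hx
          rw [← this.eq, mul_inv_cancel_right])
  exact ⟨φPh, hPh, hPhP, hPhB⟩

/-- the consistency of `φPh` with `φA` on the point stabiliser of `A` -/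
theorem phiPh_eq_phiA {J' J : Set (Fin n)} {o p : Fin n} (ho : o ∉ J') (hp : p ∈ J') (hop : nx o p) (hJ'J : J' ⊆ J)
    (hGJ' : Gen n F J') {φA φL φP φPh : Sp n F → H} (hA : Good σ μ (insert o J') φA)
    (hL : Good σ μ J φL) (hP : HomOn (PJ n F (insert o J) o) φP) (hPL : ∀ l ∈ GJ n F J, φP l = φL l)
    (hPM : ∀ m ∈ MM n F o p, φP m = μ o m) (hPh : HomOn (PhJ n F (insert o J) o) φPh)
    (hPhP : ∀ g ∈ PJ n F (insert o J) o, φPh g = φP g) (hPhB : ∀ b ∈ PhJ n F {o} o, φPh b = σ o b) :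
    ∀ g ∈ PhJ n F (insert o J') o, φPh g = φA g := by
  have hoA : o ∈ insert o J' := Set.mem_insert o J'
  have hpA : p ∈ insert o J' := Set.mem_insert_of_mem o hp
  have hAK : insert o J' ⊆ insert o J := Set.insert_subset_insert hJ'J
  intro g hg
  obtain ⟨t, ht, x, hx, rfl⟩ := PhJ_decomp hoA hg
  have htS : t ∈ SS n F o := ht.1
  rw [hPh.map_mul (TT_le_PhJ (Set.mem_insert o J) ht) (PJ_le_PhJ _ o (PJ_mono hAK o hx)),
    hA.1.map_mul (SS_le_GJ hoA htS) hx.1, hPhB t (TT_le_PhJ (K := {o}) (Set.mem_singleton o) ht), hA.2.1 o hoA t htS,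
    hPhP x (PJ_mono hAK o hx)]
  congr 1
  refine HomOn.eqOn_closure (hP.mono (PJ_mono hAK o)) (hA.1.mono (PJ_le_GJ _ o)) ?_ ?_ x (PJ_le_closure ho hp hx)
  · rintro y (hy | hy)
    · exact MM_le_PJ hoA hpA o hy
    · exact GJ_le_PJ (Set.subset_insert o J') ho hy
  · rintro y (hy | hy)
    · rw [hPM y hy, hA.2.2 o p hop hoA hpA y hy]
    · rw [hPL y (GJ_mono hJ'J hy)]
      exact (hL.mono hJ'J).eq_of_Gen (hA.mono (Set.subset_insert o J')) hGJ' y hy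

/-- the hom on the vector stabiliser of `e_q` in `GJ {q, o, p}` -/
theorem exists_phiR (hF : ∃ a : F, a ≠ 0 ∧ a ≠ 1) (A : IsAmalgam σ μ) {o p q : Fin n} (hop : nx o p) (hpq : nx p q)
    (hG2 : Gen n F {o, p}) {φ2 : Sp n F → H} (h2 : Good σ μ {o, p} φ2) :
    ∃ φR : Sp n F → H, HomOn (PJ n F (insert q {o, p}) q) φR ∧ (∀ l ∈ GJ n F {o, p}, φR l = φ2 l) ∧
      (∀ m ∈ MM n F p q, φR m = μ p m) := by
  have hne_op : o ≠ p := nx_ne hop
  have hne_pq : p ≠ q := nx_ne hpq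
  have hne_oq : o ≠ q := by
    intro h
    unfold nx at hop hpq
    rw [h] at hop
    omega
  have hq : q ∉ ({o, p} : Set (Fin n)) := by
    rintro (h | h)
    · exact hne_oq h.symm
    · exact hne_pq h.symm
  have hp : p ∈ ({o, p} : Set (Fin n)) := Set.mem_insert_of_mem o rfl
  have ho : o ∈ ({o, p} : Set (Fin n)) := Set.mem_insert o {p}
  obtain ⟨ψ, hψ, h1, h2'⟩ := exists_psi2 A hpq
  rw [Set.pair_comm p q] at hψ
  have hxM : E (eV n F q) (eV n F p) ∈ MM n F p q := by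
    rw [MM_comm]
    exact E_eV_eV_mem_MM q p
  obtain ⟨φR, hR, hRL, hRψ⟩ := tp hF hq hp φ2 ψ h2.1 hψ
    (fun g hg => by rw [h2' g hg, h2.2.1 p hp g hg])
    (by
      intro l hl
      rw [h1 _ hxM]
      have hl' : l ∈ Subgroup.closure ((MM n F p o : Set (Sp n F)) ∪ (GJ n F {o} : Set (Sp n F))) := by
        have hl2 : l ∈ PJ n F (insert p {o}) p := by
          have : ({o, p} : Set (Fin n)) = insert p {o} := Set.pair_comm o p
          rw [← this]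
          exact hl
        exact PJ_le_closure (J := {o}) hne_op.symm rfl hl2
      refine HomOn.commute_closure h2.1 ?_ _ ?_ l hl'
      · rintro x (hx | hx)
        · exact MM_le_GJ hp ho hx
        · exact GJ_mono (Set.singleton_subset_iff.mpr ho) hx
      · rintro x (hx | hx)
        · rw [MM_comm] at hx
          rw [h2.2.2 o p hop ho hp x hx]
          exact A.cMM hop hpq hx hxM
        · rw [h2.2.1 o ho x hx]
          exact (A.cMS hpq hne_op hne_oq hxM hx).symm)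
    (by
      intro l hl c
      rw [h1 _ (Tr_eV_mem_MM_right p q c), A.μ_Tr_right hpq c]
      exact h2.comm_S A hG2 hq (Tr_eV_mem_SS q c) l hl)
  refine ⟨φR, hR, hRL, fun m hm => ?_⟩
  rw [MM_comm] at hm
  rw [hRψ m (MM_le_PJ (Set.mem_insert q {p}) (Set.mem_insert_of_mem q rfl) q hm)]
  rw [MM_comm] at hm
  exact h1 m hm

end Cfsg.Agent.Lib.Helper18.SP
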