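import Cfsg.Agent.Lib.Helper18.SPAsm4
import Cfsg.Agent.Lib.Helper15.SPIDENT

/-!
# S3713 (helper18): assembly 5 — the rank three relation, the main step, and the induction over intervals
-/

set_option autoImplicit false

namespace Cfsg.Agent.Lib.Helper18.SP

open Matrix Cfsg.Agent.Lib.Helper5 Cfsg.Agent.Lib.Helper14.SpPerfect
open Cfsg.Agent.Lib.Helper10.SPTPQT (tp_qt)
open Cfsg.Agent.Lib.Helper10.SPTPREL (tp_rel)
open Cfsg.Agent.Lib.Helper15.SPHEIS (heis_ext)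
open Cfsg.Agent.Lib.Helper15.SPHEISHOM (heis_hom)
open Cfsg.Agent.Lib.Helper22.SPYLEMMA (ylemma)
open Cfsg.Agent.Lib.Helper25.SPSL2DEC (SS_decomp)
open Cfsg.Agent.Lib.Helper4.SPGDEC (GJ_decomp yE_mem_GJ yE_not_mem_PhJ yE_eq_conj GJ_le_closure)
open Cfsg.Agent.Lib.Helper12.SPSTEPN (step_n)
open Cfsg.Agent.Lib.Helper12.SPSTEPY (step_y)
open Cfsg.Agent.Lib.Helper25.SPGENP (PJ_le_closure MM_commute)
open Cfsg.Agent.Lib.Helper22.SPPROD (homOn_prod)
open Cfsg.Agent.Lib.Helper15.SPIDENT (E_eq_commutator yE_conj_E)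

variable {F : Type*} [Field F] {n : ℕ} {H : Type*} [Group H] {σ μ : Fin n → Sp n F → H}

theorem nx_nx_ne {o p q : Fin n} (hop : nx o p) (hpq : nx p q) : o ≠ q := by
  intro h
  unfold nx at hop hpq
  rw [h] at hop
  omega

/-- the rank three relation `ỹ⁻¹ q̃(e_q) ỹ = q̃(e_q) x̃_{pq}` -/
theorem phi_R3 {o p q : Fin n} (hop : nx o p) (hpq : nx p q) {J : Set (Fin n)} (hoJ : o ∉ J) (hpJ : p ∈ J)
    (hqJ : q ∈ J) {φ2 φL φP φR : Sp n F → H} (h2 : Good σ μ {o, p} φ2) (hL : Good σ μ J φL)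
    (hP : HomOn (PJ n F (insert o J) o) φP) (hPL : ∀ l ∈ GJ n F J, φP l = φL l)
    (hPM : ∀ m ∈ MM n F o p, φP m = μ o m)
    (hR : HomOn (PJ n F (insert q {o, p}) q) φR) (hRL : ∀ l ∈ GJ n F {o, p}, φR l = φ2 l)
    (hRM : ∀ m ∈ MM n F p q, φR m = μ p m) :
    (φ2 (yE n F o p))⁻¹ * φP (E (eV n F o) (eV n F q)) * φ2 (yE n F o p)
      = φP (E (eV n F o) (eV n F q)) * φL (E (eV n F p) (eV n F q)) := by
  have hne_op : o ≠ p := nx_ne hop
  have hne_pq : p ≠ q := nx_ne hpq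
  have hne_oq : o ≠ q := nx_nx_ne hop hpq
  have hq : q ∉ ({o, p} : Set (Fin n)) := by
    rintro (h | h)
    · exact hne_oq h.symm
    · exact hne_pq h.symm
  have hp : p ∈ ({o, p} : Set (Fin n)) := Set.mem_insert_of_mem o rfl
  have ho : o ∈ ({o, p} : Set (Fin n)) := Set.mem_insert o {p}
  -- the three generators
  have hx₁ : E (eV n F o) (eV n F p) ∈ MM n F o p := E_eV_eV_mem_MM o p
  have hw : nW n F p ∈ SS n F p := nW_mem_SS p
  have hx₂ : E (eV n F q) (eV n F p) ∈ MM n F p q := by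
    rw [MM_comm]
    exact E_eV_eV_mem_MM q p
  have hx₃ : E (eV n F p) (eV n F q) ∈ MM n F p q := E_eV_eV_mem_MM p q
  -- memberships in the domain of `φP`
  have hLP : GJ n F J ≤ PJ n F (insert o J) o := GJ_le_PJ (Set.subset_insert o J) hoJ
  have hx₁P : E (eV n F o) (eV n F p) ∈ PJ n F (insert o J) o :=
    MM_le_PJ (Set.mem_insert o J) (Set.mem_insert_of_mem o hpJ) o hx₁
  have hwL : nW n F p ∈ GJ n F J := SS_le_GJ hpJ hw
  have hx₂L : E (eV n F q) (eV n F p) ∈ GJ n F J := MM_le_GJ hpJ hqJ hx₂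
  have hx₃L : E (eV n F p) (eV n F q) ∈ GJ n F J := MM_le_GJ hpJ hqJ hx₃
  -- memberships in the domain of `φR`
  have h2R : GJ n F {o, p} ≤ PJ n F (insert q {o, p}) q := GJ_le_PJ (Set.subset_insert q {o, p}) hq
  have hx₁2 : E (eV n F o) (eV n F p) ∈ GJ n F {o, p} := MM_le_GJ ho hp hx₁
  have hw2 : nW n F p ∈ GJ n F {o, p} := SS_le_GJ hp hw
  have hMR : MM n F p q ≤ PJ n F (insert q {o, p}) q :=
    MM_le_PJ (Set.mem_insert_of_mem q hp) (Set.mem_insert q {o, p}) q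
  have hy2 : yE n F o p ∈ GJ n F {o, p} := yE_mem_GJ o p
  -- the commutator formula
  have hE := E_eq_commutator (F := F) hne_op hne_oq hne_pq
  have hbP : (nW n F p)⁻¹ * E (eV n F q) (eV n F p) * nW n F p ∈ PJ n F (insert o J) o :=
    hLP (mul_mem (mul_mem (inv_mem hwL) hx₂L) hwL)
  have hbR : (nW n F p)⁻¹ * E (eV n F q) (eV n F p) * nW n F p ∈ PJ n F (insert q {o, p}) q :=
    mul_mem (mul_mem (inv_mem (h2R hw2)) (hMR hx₂)) (h2R hw2)
  have hER : E (eV n F o) (eV n F q) ∈ PJ n F (insert q {o, p}) q := by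
    rw [hE]
    exact mul_mem (mul_mem (mul_mem (h2R hx₁2) hbR) (inv_mem (h2R hx₁2))) (inv_mem hbR)
  have hPR : φP (E (eV n F o) (eV n F q)) = φR (E (eV n F o) (eV n F q)) := by
    rw [hE, hP.map_commutator hx₁P hbP, hR.map_commutator (h2R hx₁2) hbR, hP.map_conj' (hLP hwL) (hLP hx₂L),
      hR.map_conj' (h2R hw2) (hMR hx₂), hPM _ hx₁, hPL _ hwL, hPL _ hx₂L, hL.2.1 p hpJ _ hw,
      hL.2.2 p q hpq hpJ hqJ _ hx₂, hRL _ hx₁2, hRL _ hw2, hRM _ hx₂, h2.2.2 o p hop ho hp _ hx₁,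
      h2.2.1 p hp _ hw]
  have hY := yE_conj_E (F := F) hne_op hne_oq hne_pq
  have h3 := congrArg φR hY
  rw [hR.map_conj' (h2R hy2) hER, hR.map_mul hER (hMR hx₃), hRL _ hy2, hRM _ hx₃] at h3
  rw [hPR, h3, hL.2.2 p q hpq hpJ hqJ _ hx₃]

/-- **the main step** (in set form) -/
theorem step_main (hF : ∃ a : F, a ≠ 0 ∧ a ≠ 1) (A : IsAmalgam σ μ) {J' J₂ : Set (Fin n)} {o p q r : Fin n}
    (ho : o ∉ J') (hr : r ∉ J') (hor : o ≠ r) (hp : p ∈ J') (hop : nx o p) (hpq : nx p q)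
    (hJ2 : insert r J' = insert p J₂) (hp2 : p ∉ J₂) (hq2 : q ∈ J₂)
    (hmin : ∀ i ∈ insert r J', ¬ nx i o)
    (hGJ' : Gen n F J') (hGL : Gen n F (insert r J')) (hGJ₂ : Gen n F J₂) (hG2 : Gen n F {o, p})
    {φA φL : Sp n F → H} (hA : Good σ μ (insert o J') φA) (hL : Good σ μ (insert r J') φL) :
    ∃ Φ : Sp n F → H, Good σ μ (insert o (insert r J')) Φ := by
  have hoJ : o ∉ insert r J' := fun h => (Set.mem_insert_iff.mp h).elim hor ho
  have hpJ : p ∈ insert r J' := Set.mem_insert_of_mem r hp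
  have hqJ : q ∈ insert r J' := hJ2 ▸ Set.mem_insert_of_mem p hq2
  have hoA : o ∈ insert o J' := Set.mem_insert o J'
  have hpA : p ∈ insert o J' := Set.mem_insert_of_mem o hp
  have hoK : o ∈ insert o (insert r J') := Set.mem_insert o _
  have hJK : insert r J' ⊆ insert o (insert r J') := Set.subset_insert o _
  obtain ⟨φP, hP, hPL, hPM⟩ := exists_phiP hF A hoJ hJ2 hp2 hq2 hop hpq hGL hGJ₂ hL
  obtain ⟨φPh, hPh, hPhP, hPhB⟩ := exists_phiPh A hoJ hpJ hop hGL hL hP hPL hPM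
  have hPhA := phiPh_eq_phiA ho hp hop (Set.subset_insert r J') hGJ' hA hL hP hPL hPM hPh hPhP hPhB
  have h2sub : ({o, p} : Set (Fin n)) ⊆ insert o J' := by
    rintro x (hx | hx)
    · exact hx ▸ hoA
    · exact hx ▸ hpA
  have h2 : Good σ μ {o, p} φA := hA.mono h2sub
  obtain ⟨φR, hR, hRL, hRM⟩ := exists_phiR hF A hop hpq hG2 h2
  have hR3 := phi_R3 hop hpq hoJ hpJ hqJ h2 hL hP hPL hPM hR hRL hRM
  have hEq : E (eV n F o) (eV n F q) ∈ PJ n F (insert o (insert r J')) o := E_eV_mem_PJ hoJ (eV_mem_VJ hqJ)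
  have hLPJ : GJ n F (insert r J') ≤ PJ n F (insert o (insert r J')) o := GJ_le_PJ hJK hoJ
  have D : StepHyp J' o r p q φA φL φPh :=
    { ho := ho, hr := hr, hor := hor, hp := hp, hq := hqJ, hqp := (nx_ne hpq).symm
      homA := hA.1, homL := hL.1, homPh := hPh
      PhL := fun l hl => by rw [hPhP l (hLPJ hl), hPL l hl]
      PhA := hPhA
      comm := fun s hs l hl => by
        rw [hA.2.1 o hoA s hs]
        exact (hL.comm_S A hGL hoJ hs l hl).symm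
      hC := fun l hl => by
        rw [hA.2.2 o p hop hoA hpA _ (E_eV_eV_mem_MM o p)]
        exact comm_PJ_M A hoJ hJ2 hp2 hq2 hop hpq hGJ₂ hL (E_eV_eV_mem_MM o p) l hl
      hR3 := by rw [hPhP _ hEq]; exact hR3 }
  obtain ⟨Φ, hΦ, hΦPh, hΦn⟩ := step_fin D
  have hΦL : ∀ l ∈ GJ n F (insert r J'), Φ l = φL l := fun l hl => by
    rw [hΦPh l (PJ_le_PhJ _ o (hLPJ hl)), hPhP l (hLPJ hl), hPL l hl]
  refine ⟨Φ, hΦ, ?_, ?_⟩
  · intro j hj g hg
    rcases Set.mem_insert_iff.mp hj with rfl | hjJ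
    · have hSK : SS n F j ≤ GJ n F (insert j (insert r J')) := SS_le_GJ hoK
      refine HomOn.eqOn_closure (hΦ.mono hSK) (A.homS j) ?_ ?_ g (SS_le_closure (K := {j}) rfl hg)
      · rintro x (hx | hx)
        · exact hx.1
        · rw [Set.mem_singleton_iff.mp hx]
          exact nW_mem_SS j
      · rintro x (hx | hx)
        · rw [hΦPh x (PhJ_mono (Set.singleton_subset_iff.mpr hoK) j hx), hPhB x hx]
        · rw [Set.mem_singleton_iff.mp hx, hΦn, hA.2.1 j hoA _ (nW_mem_SS j)]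
    · rw [hΦL g (SS_le_GJ hjJ hg), hL.2.1 j hjJ g hg]
  · intro i p' hip' hi hp' g hg
    rcases Set.mem_insert_iff.mp hi with rfl | hiJ
    · have : p' = p := nx_unique hip' hop
      subst this
      have hgP : g ∈ PJ n F (insert i (insert r J')) i := MM_le_PJ hoK (hJK hpJ) i hg
      rw [hΦPh g (PJ_le_PhJ _ i hgP), hPhP g hgP, hPM g hg]
    · rcases Set.mem_insert_iff.mp hp' with rfl | hp'J
      · exact absurd hip' (hmin i hiJ)
      · rw [hΦL g (MM_le_GJ hiJ hp'J hg), hL.2.2 i p' hip' hiJ hp'J g hg]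

end Cfsg.Agent.Lib.Helper18.SP
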