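import Cfsg.Agent.Lib.Helper20.SPT2Calc
import Cfsg.Agent.Lib.Helper20.SPT2Rel
import Cfsg.Agent.Lib.Helper20.SPT2G
import Cfsg.Agent.Lib.Helper17.SPT2LOCSTEP

/-!
# S3713, super-leaf T2: leaf HARD1 (the hard case of the `y`-step for `δ = 1 + γ ≠ 0`) — helper18 (twin)
-/

set_option autoImplicit false

namespace Cfsg.Agent.Lib.Helper18.SPT2HARD1

open Matrix Cfsg.Agent.Lib.Helper5 Cfsg.Agent.Lib.Helper14.SpPerfect Cfsg.Agent.Lib.Helper18.SP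
open Cfsg.Agent.Lib.Helper20.SPT2

variable {F : Type*} [Field F] {n : ℕ} {H : Type*} [Group H] {o p : Fin n}

/-- **HARD1** (`δ = 1 + γ ≠ 0`): `Xg_mul_Yg`, bracket `n Tr(e_o,c) Yg δ⁻¹ ∈ P2` (`locstep`), then `StepOK.mul_right` by
`hT o δ * hT p δ⁻¹ * Xg (γ δ⁻¹) ∈ Ph1`; `hBR` is the image of `xS_mul_yS` -/
theorem hard1 (A : T2Hyp n F H o p) {φ₁ : Sp n F → H} (P1 : Phi1 A φ₁) (γ c : F) (hδ : 1 + γ ≠ 0)
    (hBR : A.Xt γ * A.Yt 1 = A.Yt (1 + γ)⁻¹ * A.Ht (1 + γ) * A.Xt (γ * (1 + γ)⁻¹)) :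
    SOK A φ₁ (nW n F o * (Xg n F o p γ * Tr (eV n F o) c) * yE n F o p)
      (A.nto * A.ψ₁ (Xg n F o p γ * Tr (eV n F o) c) * A.ψ₂ (yE n F o p)) := by
  have hop := A.hop
  have hoK : o ∈ ({o, p} : Set (Fin n)) := Set.mem_insert o {p}
  have hnS : nW n F o ∈ SS n F o := nW_mem_SS o
  have heo : eV n F o ∈ VJ n F {o} := eV_mem_VJ rfl
  have hTS : Tr (eV n F o) c ∈ SS n F o := Tr_mem_GJ heo c
  have hTM : Tr (eV n F o) c ∈ MM n F o p := Tr_eo_mem_MM o p c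
  have hX : ∀ t : F, Xg n F o p t ∈ PJ n F {o, p} o := fun t => Xg_mem_PJ hop t
  have hY : ∀ t : F, Yg n F o p t ∈ PJ n F {o, p} p := fun t => Yg_mem_PJ hop t
  have hTP : Tr (eV n F o) c ∈ PJ n F {o, p} o := MM_le_P1 o p hTM
  have hnP2 : nW n F o ∈ PJ n F {o, p} p := SS_o_le_P2 hop hnS
  have hTP2 : Tr (eV n F o) c ∈ PJ n F {o, p} p := SS_o_le_P2 hop hTS
  -- `Tr e_o c` commutes with `Xg γ`
  have hcomm : Xg n F o p γ * Tr (eV n F o) c = Tr (eV n F o) c * Xg n F o p γ :=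
    (E_commute_Tr (eV n F o) (γ • fV n F p) c (by rw [ω_smul_right, ω_eo_fp hop, mul_zero])).eq
  -- the bracket and the tail
  have hb : nW n F o * Tr (eV n F o) c * Yg n F o p (1 + γ)⁻¹ ∈ PJ n F {o, p} p :=
    mul_mem (mul_mem hnP2 hTP2) (hY _)
  have hto : hT n F o (1 + γ) ∈ PhJ n F {o, p} o := TT_le_PhJ hoK (hT_mem_TT o hδ)
  have htoB : hT n F o (1 + γ) ∈ PhJ n F {o} o := TT_le_PhJ (K := {o}) (Set.mem_singleton o) (hT_mem_TT o hδ)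
  have htpS : hT n F p (1 + γ)⁻¹ ∈ SS n F p := hT_mem_SS p _
  have htpP : hT n F p (1 + γ)⁻¹ ∈ PJ n F {o, p} o := SS_p_le_P1 hop htpS
  have hq : hT n F o (1 + γ) * hT n F p (1 + γ)⁻¹ * Xg n F o p (γ * (1 + γ)⁻¹) ∈ PhJ n F {o, p} o :=
    mul_mem (mul_mem hto (PJ_le_PhJ _ o htpP)) (PJ_le_PhJ _ o (hX _))
  have hloc : SOK A φ₁ (nW n F o * Tr (eV n F o) c * Yg n F o p (1 + γ)⁻¹)
      (A.ψ₂ (nW n F o * Tr (eV n F o) c * Yg n F o p (1 + γ)⁻¹)) :=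
    Cfsg.Agent.Lib.Helper17.SPT2LOCSTEP.locstep A P1 hb
  unfold SOK at hloc ⊢
  refine (hloc.mul_right P1.hom hq).congr ?_ ?_
  · -- the group side
    have h1 : nW n F o * (Xg n F o p γ * Tr (eV n F o) c) * yE n F o p
        = nW n F o * Tr (eV n F o) c * (Xg n F o p γ * Yg n F o p 1) := by
      rw [hcomm, yE_eq_Yg]; group
    rw [h1, Xg_mul_Yg hop γ hδ]
    group
  · -- the `H` side
    have e1 : A.ψ₁ (Xg n F o p γ * Tr (eV n F o) c) = A.ψ₁ (Tr (eV n F o) c) * A.Xt γ := by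
      rw [hcomm, A.hψ₁.map_mul hTP (hX _)]; rfl
    have e2 : A.ψ₁ (Tr (eV n F o) c) = A.σo (Tr (eV n F o) c) := by
      rw [A.h12 _ hTM, A.h2o _ hTS]
    have e3 : A.ψ₂ (yE n F o p) = A.Yt 1 := by
      rw [yE_eq_Yg]; rfl
    have e4 : A.ψ₂ (nW n F o * Tr (eV n F o) c * Yg n F o p (1 + γ)⁻¹)
        = A.nto * A.σo (Tr (eV n F o) c) * A.Yt (1 + γ)⁻¹ := by
      rw [A.hψ₂.map_mul (mul_mem hnP2 hTP2) (hY _), A.hψ₂.map_mul hnP2 hTP2, A.h2o _ hnS, A.h2o _ hTS]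
      rfl
    have e5 : φ₁ (hT n F o (1 + γ) * hT n F p (1 + γ)⁻¹ * Xg n F o p (γ * (1 + γ)⁻¹))
        = A.Ht (1 + γ) * A.Xt (γ * (1 + γ)⁻¹) := by
      rw [P1.hom.map_mul (mul_mem hto (PJ_le_PhJ _ o htpP)) (PJ_le_PhJ _ o (hX _)),
        P1.hom.map_mul hto (PJ_le_PhJ _ o htpP), P1.onB _ htoB, P1.onP _ htpP, P1.onP _ (hX _), A.h1p _ htpS]
      rfl
    rw [e1, e2, e3, e4, e5]
    have e6 : A.nto * (A.σo (Tr (eV n F o) c) * A.Xt γ) * A.Yt 1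
        = A.nto * A.σo (Tr (eV n F o) c) * (A.Xt γ * A.Yt 1) := by group
    rw [e6, hBR]
    group

end Cfsg.Agent.Lib.Helper18.SPT2HARD1
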