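import Cfsg.Agent.Lib.Helper20.SPT2Rel
import Cfsg.Agent.Lib.Helper18.SPAsm3
import Cfsg.Agent.Lib.Helper22.SPPROD
import Cfsg.Agent.Lib.Helper25.SPGENP

/-!
# S3713, super-leaf T2, leaf PH1 (helper18): the hom `φ₁` on the point stabiliser `PhJ {o,p} o`

`exists_phi1` of `notes/S3713_T2_leaves.lean`: PROD (`Helper22.SPPROD.homOn_prod`) with `B = PhJ {o} o`, `P = PJ {o,p} o`,
`β = σo`, `π = ψ₁`; the compatibility by `HomOn.conj_closure` over `Helper25.SPGENP.PJ_le_closure` (`J = {p}`).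
-/

set_option autoImplicit false

namespace Cfsg.Agent.Lib.Helper18.SPT2PH1

open Matrix Cfsg.Agent.Lib.Helper5 Cfsg.Agent.Lib.Helper14.SpPerfect Cfsg.Agent.Lib.Helper18.SP
open Cfsg.Agent.Lib.Helper20.SPT2
open Cfsg.Agent.Lib.Helper22.SPPROD (homOn_prod)
open Cfsg.Agent.Lib.Helper25.SPGENP (PJ_le_closure)

variable {F : Type*} [Field F] {n : ℕ} {H : Type*} [Group H] {o p : Fin n}

/-- **PH1** -/
theorem exists_phi1 (A : T2Hyp n F H o p) : ∃ φ₁ : Sp n F → H, Phi1 A φ₁ := by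
  have hop : o ≠ p := A.hop
  have ho : o ∉ ({p} : Set (Fin n)) := fun h => hop (Set.mem_singleton_iff.mp h)
  have hp : p ∈ ({p} : Set (Fin n)) := rfl
  have hoK : o ∈ ({o, p} : Set (Fin n)) := Set.mem_insert o {p}
  have hpK : p ∈ ({o, p} : Set (Fin n)) := Set.mem_insert_of_mem o rfl
  have hoK' : ({o} : Set (Fin n)) ⊆ {o, p} := Set.singleton_subset_iff.mpr hoK
  have hMP1 : MM n F o p ≤ PJ n F {o, p} o := MM_le_PJ hoK hpK o
  have hMP2 : MM n F o p ≤ PJ n F {o, p} p := MM_le_PJ hoK hpK p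
  have hSP2 : SS n F o ≤ PJ n F {o, p} p :=
    GJ_le_PJ (n := n) (F := F) (J := {o}) (K := {o, p}) (o := p) hoK'
      (fun h => hop (Set.mem_singleton_iff.mp h).symm)
  obtain ⟨φ₁, hPh, hPhB, hPhP⟩ := homOn_prod (PhJ n F {o} o) (PJ n F {o, p} o) (PhJ n F {o, p} o)
    A.σo A.ψ₁ (A.hσo.mono (PhJ_le_GJ {o} o)) A.hψ₁ (PhJ_mono hoK' o) (PJ_le_PhJ _ o)
    (by
      intro g hg
      obtain ⟨t, ht, x, hx, rfl⟩ := PhJ_decomp hoK hg
      exact ⟨t, TT_le_PhJ (K := {o}) (Set.mem_singleton o) ht, x, hx, rfl⟩)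
    (fun b hb x hx => conj_mem_PJ (PhJ_mono hoK' o hb) hx)
    (by
      intro g hg hgP
      obtain ⟨c, rfl⟩ := eq_Tr_of_mem_SS hg.1 hgP.2
      rw [A.h12 _ (Tr_eV_mem_MM_left o p c), A.h2o _ hg.1])
    (by
      intro b hb x hx
      have hbS : b ∈ SS n F o := hb.1
      refine HomOn.conj_closure A.hψ₁ ?_ b (fun x hx => conj_mem_PJ (PhJ_mono hoK' o hb) hx) (A.σo b) ?_ x
        (PJ_le_closure ho hp hx)
      · rintro x (hx | hx)
        · exact hMP1 hx
        · exact GJ_le_PJ (Set.subset_insert o {p}) ho hx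
      · rintro x (hx | hx)
        · have hc := conj_mem_MM hb hx
          rw [A.h12 _ hc, A.h12 _ hx, ← A.h2o _ hbS]
          exact A.hψ₂.map_conj (hSP2 hbS) (hMP2 hx)
        · have hcomm : Commute b x := GJ_commute (Set.disjoint_singleton_left.mpr ho) hbS hx
          have e : b * x * b⁻¹ = x := by rw [hcomm.eq, mul_inv_cancel_right]
          rw [e, A.h1p x hx]
          have := A.hD b hbS x hx
          rw [this.eq, mul_inv_cancel_right])
  exact ⟨φ₁, hPh, hPhB, hPhP⟩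

end Cfsg.Agent.Lib.Helper18.SPT2PH1
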