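import Cfsg.Agent.Lib.Helper20.SPT2Rel
import Cfsg.Agent.Lib.Helper18.SPAsm3
import Cfsg.Agent.Lib.Helper12.SPT2G

/-!
# S3713, super-leaf T2, leaf WEYL (helper18): how `Nt` conjugates the long root elements and `Zt`

`weylRel` of `notes/S3713_T2_leaves.lean`: `R1, R3, R5` from `NMMprop A A.Nt`; `R2, R4` by conjugating with
`κ̃ = nto * ntp` (`SwapRel`) and `NMMprop` for `Yt (-1) * Xt 1 * Yt (-1) = κ̃⁻¹ Nt κ̃`.
-/

set_option autoImplicit false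

namespace Cfsg.Agent.Lib.Helper18.SPT2WEYL

open Matrix Cfsg.Agent.Lib.Helper5 Cfsg.Agent.Lib.Helper14.SpPerfect Cfsg.Agent.Lib.Helper18.SP
open Cfsg.Agent.Lib.Helper20.SPT2

variable {F : Type*} [Field F] {n : ℕ} {H : Type*} [Group H] {o p : Fin n}

/-- what `NMMprop` gives on the long root elements `Tr e_o t`, `Tr e_p t` and on `Zt` -/
theorem nmm_consequences (A : T2Hyp n F H o p) {N : H} (hN : NMMprop A N) :
    (∀ t : F, N * A.σo (Tr (eV n F o) t) * N⁻¹ = A.σp (Tr (eV n F p) t)) ∧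
    (∀ t : F, N * A.σp (Tr (eV n F p) t) * N⁻¹ = A.σo (Tr (eV n F o) t)) ∧
    (∀ s : F, N * A.Zt s * N⁻¹ = A.Zt (-s)) := by
  have hop : o ≠ p := A.hop
  refine ⟨fun t => ?_, fun t => ?_, fun s => ?_⟩
  · have hm : Tr (eV n F o) t ∈ MM n F o p := Tr_eV_mem_MM_left o p t
    have hm' : Tr (eV n F p) t ∈ MM n F o p := Tr_eV_mem_MM_right o p t
    rw [← A.h2o _ (Tr_eV_mem_SS o t), ← A.h12 _ hm, hN _ hm, conj_Tr', νg_eo hop, A.h1p _ (Tr_eV_mem_SS p t)]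
  · have hm : Tr (eV n F o) t ∈ MM n F o p := Tr_eV_mem_MM_left o p t
    have hm' : Tr (eV n F p) t ∈ MM n F o p := Tr_eV_mem_MM_right o p t
    rw [← A.h1p _ (Tr_eV_mem_SS p t), hN _ hm', conj_Tr', νg_ep hop, Cfsg.Agent.Lib.Helper12.SPT2G.Tr_neg_vec,
      A.h12 _ hm, A.h2o _ (Tr_eV_mem_SS o t)]
  · unfold T2Hyp.Zt
    rw [hN _ (Cfsg.Agent.Lib.Helper12.SPT2G.Zg_mem_MM s), Cfsg.Agent.Lib.Helper12.SPT2G.νg_conj_Zg hop]

/-- **WEYL** -/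
theorem weylRel (A : T2Hyp n F H o p) (hN : NMMprop A A.Nt) (hN' : NMMprop A (A.Yt (-1) * A.Xt 1 * A.Yt (-1)))
    (S : SwapRel A) (L : AddRel A) : WeylRel A := by
  obtain ⟨a1, a3, a5⟩ := nmm_consequences A hN
  obtain ⟨b1, b3, -⟩ := nmm_consequences A hN'
  -- `Nt = κ̃ N' κ̃⁻¹`
  have hK : A.Nt = (A.nto * A.ntp) * (A.Yt (-1) * A.Xt 1 * A.Yt (-1)) * (A.nto * A.ntp)⁻¹ := by
    have hX := S.X 1
    have hY := S.Y (-1)
    rw [neg_neg] at hY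
    have h1 : (A.nto * A.ntp) * A.Yt (-1) * (A.nto * A.ntp)⁻¹ = A.Xt 1 := by
      rw [← hX]
      group
    have h2 : (A.nto * A.ntp) * A.Xt 1 * (A.nto * A.ntp)⁻¹ = A.Yt (-1) := by
      rw [← hY]
      group
    have h3 : (A.nto * A.ntp) * (A.Yt (-1) * A.Xt 1 * A.Yt (-1)) * (A.nto * A.ntp)⁻¹
        = ((A.nto * A.ntp) * A.Yt (-1) * (A.nto * A.ntp)⁻¹) * ((A.nto * A.ntp) * A.Xt 1 * (A.nto * A.ntp)⁻¹)
          * ((A.nto * A.ntp) * A.Yt (-1) * (A.nto * A.ntp)⁻¹) := by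
      group
    rw [h3, h1, h2]
    rfl
  have hfo : ∀ t : F, A.σo (Tr (fV n F o) t)
      = (A.nto * A.ntp) * A.σo (Tr (eV n F o) t) * (A.nto * A.ntp)⁻¹ := by
    intro t
    rw [← S.fo t]
    group
  have hfp : ∀ t : F, A.σp (Tr (fV n F p) t)
      = (A.nto * A.ntp) * A.σp (Tr (eV n F p) t) * (A.nto * A.ntp)⁻¹ := by
    intro t
    rw [← S.fp t]
    group
  refine ⟨a1, fun t => ?_, a3, fun t => ?_, a5⟩
  · rw [hfo t, hfp t, ← b1 t, hK]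
    group
  · rw [hfo t, hfp t, ← b3 t, hK]
    group

end Cfsg.Agent.Lib.Helper18.SPT2WEYL
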