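import Cfsg.Agent.Lib.Helper18.SPAsm5
import Cfsg.Agent.Lib.Helper20.SPT2Main

/-!
# S3713 (helper18): assembly 6 — the induction over intervals and the universal property
-/

set_option autoImplicit false

namespace Cfsg.Agent.Lib.Helper18.SP

open Matrix Cfsg.Agent.Lib.Helper5 Cfsg.Agent.Lib.Helper14.SpPerfect
open Cfsg.Agent.Lib.Helper10.SPTPQT (tp_qt)
open Cfsg.Agent.Lib.Helper10.SPTPREL (tp_rel)
open Cfsg.Agent.Lib.Helper15.SPHEIS (heis_ext)
open Cfsg.Agent.Lib.Helper15.SPHEISHOM (heis_hom)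
open Cfsg.Agent.Lib.Helper22.SPYLEMMA (ylemma)
open Cfsg.Agent.Lib.Helper25.SPSL2DEC (SS_decomp)
open Cfsg.Agent.Lib.Helper4.SPGDEC (GJ_decomp yE_mem_GJ yE_not_mem_PhJ yE_eq_conj GJ_le_closure)
open Cfsg.Agent.Lib.Helper12.SPSTEPN (step_n)
open Cfsg.Agent.Lib.Helper12.SPSTEPY (step_y)
open Cfsg.Agent.Lib.Helper25.SPGENP (PJ_le_closure MM_commute)
open Cfsg.Agent.Lib.Helper22.SPPROD (homOn_prod)
open Cfsg.Agent.Lib.Helper15.SPIDENT (E_eq_commutator yE_conj_E)
open Cfsg.Agent.Lib.Helper20.SPT2 (t2)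

variable {F : Type*} [Field F] {n : ℕ} {H : Type*} [Group H] {σ μ : Fin n → Sp n F → H}

theorem mem_Iv {a b : ℕ} {k : Fin n} : k ∈ Iv n a b ↔ a ≤ (k : ℕ) ∧ (k : ℕ) < b := Iff.rfl

theorem Iv_succ_left {a b : ℕ} (hab : a < b) (hb : b ≤ n) :
    Iv n a b = insert (⟨a, by omega⟩ : Fin n) (Iv n (a + 1) b) := by
  ext k
  rw [Set.mem_insert_iff, mem_Iv, mem_Iv, Fin.ext_iff]
  simp only
  omega

theorem Iv_succ_right {a b : ℕ} (hab : a < b) (hb : b ≤ n) :
    Iv n a b = insert (⟨b - 1, by omega⟩ : Fin n) (Iv n a (b - 1)) := by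
  ext k
  rw [Set.mem_insert_iff, mem_Iv, mem_Iv, Fin.ext_iff]
  simp only
  omega

theorem Iv_single {a : ℕ} (ha : a < n) : Iv n a (a + 1) = {(⟨a, ha⟩ : Fin n)} := by
  ext k
  rw [Set.mem_singleton_iff, mem_Iv, Fin.ext_iff]
  simp only
  omega

theorem Iv_pair {a : ℕ} (ha : a + 1 < n) :
    Iv n a (a + 2) = {(⟨a, by omega⟩ : Fin n), (⟨a + 1, ha⟩ : Fin n)} := by
  ext k
  rw [Set.mem_insert_iff, Set.mem_singleton_iff, mem_Iv, Fin.ext_iff, Fin.ext_iff]
  simp only
  omega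

theorem Iv_univ : Iv n 0 n = Set.univ := by
  ext k
  simp only [mem_Iv, Set.mem_univ, iff_true]
  exact ⟨Nat.zero_le _, k.2⟩

theorem Gen_Iv : ∀ (len a b : ℕ), b = a + len + 1 → b ≤ n → Gen n F (Iv n a b) := by
  intro len
  induction len with
  | zero =>
    intro a b hab hb
    have ha : a < n := by omega
    have : b = a + 1 := by omega
    rw [this, Iv_single ha]
    exact Gen_singleton _
  | succ len ih =>
    intro a b hab hb
    rw [Iv_succ_left (by omega) hb]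
    refine Gen_insert (p := ⟨a + 1, by omega⟩) ?_ ?_ ?_ (ih (a + 1) b (by omega) hb)
    · rw [mem_Iv]
      simp only
      omega
    · rw [mem_Iv]
      simp only
      omega
    · show (a + 1 : ℕ) = a + 1
      rfl

theorem good_single (A : IsAmalgam σ μ) (o : Fin n) : Good σ μ {o} (σ o) := by
  refine ⟨A.homS o, ?_, ?_⟩
  · intro j hj g hg
    rw [Set.mem_singleton_iff.mp hj]
  · intro i p hip hi hp
    rw [Set.mem_singleton_iff.mp hi, Set.mem_singleton_iff.mp hp] at hip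
    exact absurd rfl (nx_ne hip)

theorem good_pair (hF : ∃ a : F, a ≠ 0 ∧ a ≠ 1) (A : IsAmalgam σ μ) {o p : Fin n} (hop : nx o p) :
    ∃ Φ : Sp n F → H, Good σ μ {o, p} Φ := by
  have hne : o ≠ p := nx_ne hop
  obtain ⟨ψ₁, hψ₁, h1M, h1S⟩ := exists_psi1 A hop
  obtain ⟨ψ₂, hψ₂, h2M, h2S⟩ := exists_psi2 A hop
  obtain ⟨Φ, hΦ, hΦo, hΦ1⟩ := t2 hF hne (σ o) (σ p) ψ₁ ψ₂ (A.homS o) (A.homS p) hψ₁ hψ₂ h1S h2S
    (fun g hg => by rw [h1M g hg, h2M g hg]) (fun s hs s' hs' => A.cSS hne hs hs')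
  have hpS : SS n F p ≤ PJ n F {o, p} o := GJ_le_PJ (by
    intro x hx
    exact Set.mem_insert_of_mem o hx) hne
  have hMP : MM n F o p ≤ PJ n F {o, p} o := MM_le_PJ (Set.mem_insert o {p}) (Set.mem_insert_of_mem o rfl) o
  refine ⟨Φ, hΦ, ?_, ?_⟩
  · intro j hj g hg
    rcases hj with rfl | hj
    · exact hΦo g hg
    · rw [Set.mem_singleton_iff.mp hj] at hg ⊢
      rw [hΦ1 g (hpS hg), h1S g hg]
  · intro i p' hip' hi hp' g hg
    rcases hi with rfl | hi
    · have : p' = p := nx_unique hip' hop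
      subst this
      rw [hΦ1 g (hMP hg), h1M g hg]
    · rw [Set.mem_singleton_iff.mp hi] at hip'
      exfalso
      rcases hp' with rfl | hp'
      · unfold nx at hop hip'
        omega
      · rw [Set.mem_singleton_iff.mp hp'] at hip'
        exact nx_ne hip' rfl

/-- **the induction over intervals** -/
theorem main_Iv (hF : ∃ a : F, a ≠ 0 ∧ a ≠ 1) (A : IsAmalgam σ μ) :
    ∀ (len a b : ℕ), b = a + len + 1 → b ≤ n → ∃ φ : Sp n F → H, Good σ μ (Iv n a b) φ := by
  intro len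
  induction len using Nat.strong_induction_on with
  | _ len ih =>
    intro a b hab hb
    rcases Nat.lt_or_ge len 2 with hlen | hlen
    · rcases Nat.lt_or_ge len 1 with hlen0 | hlen1
      · -- length one
        have ha : a < n := by omega
        have : b = a + 1 := by omega
        rw [this, Iv_single ha]
        exact ⟨_, good_single A _⟩
      · -- length two
        have ha : a + 1 < n := by omega
        have : b = a + 2 := by omega
        rw [this, Iv_pair ha]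
        exact good_pair hF A (show (a + 1 : ℕ) = a + 1 from rfl)
    · -- length at least three
      have ha3 : a + 3 ≤ b := by omega
      obtain ⟨φA, hA⟩ := ih (len - 1) (by omega) a (b - 1) (by omega) (by omega)
      obtain ⟨φL, hL⟩ := ih (len - 1) (by omega) (a + 1) b (by omega) hb
      have e1 : Iv n a (b - 1) = insert (⟨a, by omega⟩ : Fin n) (Iv n (a + 1) (b - 1)) :=
        Iv_succ_left (by omega) (by omega)
      have e2 : Iv n (a + 1) b = insert (⟨b - 1, by omega⟩ : Fin n) (Iv n (a + 1) (b - 1)) :=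
        Iv_succ_right (by omega) hb
      have e3 : Iv n (a + 1) b = insert (⟨a + 1, by omega⟩ : Fin n) (Iv n (a + 2) b) :=
        Iv_succ_left (by omega) hb
      have e4 : Iv n a b = insert (⟨a, by omega⟩ : Fin n) (Iv n (a + 1) b) := Iv_succ_left (by omega) hb
      rw [e1] at hA
      rw [e2] at hL
      rw [e4, e2]
      refine step_main hF A (o := ⟨a, by omega⟩) (p := ⟨a + 1, by omega⟩) (q := ⟨a + 2, by omega⟩)
        (r := ⟨b - 1, by omega⟩) (J' := Iv n (a + 1) (b - 1)) (J₂ := Iv n (a + 2) b)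
        ?_ ?_ ?_ ?_ ?_ ?_ ?_ ?_ ?_ ?_ ?_ ?_ ?_ ?_ hA hL
      · rw [mem_Iv]; simp only; omega
      · rw [mem_Iv]; simp only; omega
      · rw [Ne, Fin.ext_iff]; simp only; omega
      · rw [mem_Iv]; simp only; omega
      · show (a + 1 : ℕ) = a + 1
        rfl
      · show (a + 2 : ℕ) = a + 1 + 1
        rfl
      · rw [← e2, e3]
      · rw [mem_Iv]; simp only; omega
      · rw [mem_Iv]; simp only; omega
      · intro i hi hnx
        rw [← e2, mem_Iv] at hi
        unfold nx at hnx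
        simp only at hnx
        omega
      · exact Gen_Iv (len - 2) (a + 1) (b - 1) (by omega) (by omega)
      · rw [← e2]
        exact Gen_Iv (len - 1) (a + 1) b (by omega) hb
      · exact Gen_Iv (len - 2) (a + 2) b (by omega) hb
      · rw [← Iv_pair (by omega)]
        exact Gen_Iv 1 a (a + 2) (by omega) (by omega)

theorem GJ_univ : GJ n F Set.univ = ⊤ := by
  ext g
  simp only [Subgroup.mem_top, iff_true]
  intro k hk
  exact absurd (Set.mem_univ k) hk

/-- **existence** -/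
theorem sp_universal (hF : ∃ a : F, a ≠ 0 ∧ a ≠ 1) (hn : 1 ≤ n) (A : IsAmalgam σ μ) :
    ∃ Φ : Sp n F →* H, (∀ j, ∀ g ∈ SS n F j, Φ g = σ j g) ∧ (∀ i p, nx i p → ∀ g ∈ MM n F i p, Φ g = μ i g) := by
  obtain ⟨φ, hφ, h1, h2⟩ := main_Iv hF A (n - 1) 0 n (by omega) le_rfl
  rw [Iv_univ, GJ_univ] at hφ
  refine ⟨⟨⟨φ, hφ.map_one⟩, fun a b => hφ a (Subgroup.mem_top a) b (Subgroup.mem_top b)⟩, ?_, ?_⟩
  · intro j g hg
    exact h1 j (by rw [Iv_univ]; exact Set.mem_univ j) g hg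
  · intro i p hip g hg
    exact h2 i p hip (by rw [Iv_univ]; exact Set.mem_univ i) (by rw [Iv_univ]; exact Set.mem_univ p) g hg

/-- **uniqueness** -/
theorem sp_unique (hn : 1 ≤ n) (Φ Φ' : Sp n F →* H) (hS : ∀ j, ∀ g ∈ SS n F j, Φ g = Φ' g)
    (hM : ∀ i p, nx i p → ∀ g ∈ MM n F i p, Φ g = Φ' g) : Φ = Φ' := by
  have hG : Gen n F (Iv n 0 n) := Gen_Iv (n - 1) 0 n (by omega) le_rfl
  rw [Iv_univ] at hG
  unfold Gen at hG
  rw [GJ_univ, top_le_iff] at hG
  refine MonoidHom.eq_of_eqOn_dense hG ?_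
  rintro x (⟨j, -, hx⟩ | ⟨i, p, hip, -, -, hx⟩)
  · exact hS j x hx
  · exact hM i p hip x hx

end Cfsg.Agent.Lib.Helper18.SP
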