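import Cfsg.Agent.Lib.Helper18.SPDefs

/-!
# S3713 (helper18): basic calculus of transvections and Eichler elements in `Sp n F`
-/

set_option autoImplicit false

namespace Cfsg.Agent.Lib.Helper18.SP

open Matrix Cfsg.Agent.Lib.Helper5 Cfsg.Agent.Lib.Helper14.SpPerfect

variable {F : Type*} [Field F] {n : ℕ}

/-! ### the form -/

theorem ω_add_left (x y z : V n F) : ω n F (x + y) z = ω n F x z + ω n F y z := sympForm_add_left x y z
theorem ω_add_right (x y z : V n F) : ω n F x (y + z) = ω n F x y + ω n F x z := sympForm_add_right x y z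
theorem ω_smul_left (c : F) (x z : V n F) : ω n F (c • x) z = c * ω n F x z := sympForm_smul_left c x z
theorem ω_smul_right (c : F) (x z : V n F) : ω n F x (c • z) = c * ω n F x z := sympForm_smul_right c x z
theorem ω_neg_left (x z : V n F) : ω n F (-x) z = -ω n F x z := sympForm_neg_left x z
theorem ω_neg_right (x z : V n F) : ω n F x (-z) = -ω n F x z := sympForm_neg_right x z
theorem ω_sub_left (x y z : V n F) : ω n F (x - y) z = ω n F x z - ω n F y z := sympForm_sub_left x y z
theorem ω_sub_right (x y z : V n F) : ω n F x (y - z) = ω n F x y - ω n F x z := sympForm_sub_right x y z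
theorem ω_zero_left (z : V n F) : ω n F 0 z = 0 := sympForm_zero_left z
theorem ω_self (x : V n F) : ω n F x x = 0 := sympForm_self n x
theorem ω_swap (x y : V n F) : ω n F x y = -ω n F y x := sympForm_swap n x y
theorem ω_zero_right (z : V n F) : ω n F z 0 = 0 := by rw [ω_swap, ω_zero_left, neg_zero]

theorem ω_eV_right (x : V n F) (k : Fin n) : ω n F x (eV n F k) = x (Sum.inr k) := sympForm_single_inl x k
theorem ω_fV_right (x : V n F) (k : Fin n) : ω n F x (fV n F k) = -x (Sum.inl k) := sympForm_single_inr x k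
theorem ω_eV_left (x : V n F) (k : Fin n) : ω n F (eV n F k) x = -x (Sum.inr k) := by
  rw [ω_swap, ω_eV_right]
theorem ω_fV_left (x : V n F) (k : Fin n) : ω n F (fV n F k) x = x (Sum.inl k) := by
  rw [ω_swap, ω_fV_right, neg_neg]

theorem eV_inl (k j : Fin n) : eV n F k (Sum.inl j) = if j = k then 1 else 0 := by
  unfold eV
  rw [Pi.single_apply]
  simp only [Sum.inl.injEq]
theorem eV_inr (k j : Fin n) : eV n F k (Sum.inr j) = 0 := by
  unfold eV
  rw [Pi.single_apply]
  simp
theorem fV_inr (k j : Fin n) : fV n F k (Sum.inr j) = if j = k then 1 else 0 := by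
  unfold fV
  rw [Pi.single_apply]
  simp only [Sum.inr.injEq]
theorem fV_inl (k j : Fin n) : fV n F k (Sum.inl j) = 0 := by
  unfold fV
  rw [Pi.single_apply]
  simp

theorem ω_eV_eV (j k : Fin n) : ω n F (eV n F j) (eV n F k) = 0 := by rw [ω_eV_right, eV_inr]
theorem ω_fV_fV (j k : Fin n) : ω n F (fV n F j) (fV n F k) = 0 := by rw [ω_fV_right, fV_inl, neg_zero]
theorem ω_fV_eV (j k : Fin n) : ω n F (fV n F j) (eV n F k) = if k = j then 1 else 0 := by
  rw [ω_eV_right, fV_inr]
theorem ω_eV_fV (j k : Fin n) : ω n F (eV n F j) (fV n F k) = if k = j then -1 else 0 := by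
  rw [ω_fV_right, eV_inl]
  split_ifs <;> simp

theorem eV_ne_zero (k : Fin n) : eV n F k ≠ 0 := by
  intro h
  have := congrFun h (Sum.inl k)
  rw [eV_inl, if_pos rfl] at this
  exact one_ne_zero this
theorem fV_ne_zero (k : Fin n) : fV n F k ≠ 0 := by
  intro h
  have := congrFun h (Sum.inr k)
  rw [fV_inr, if_pos rfl] at this
  exact one_ne_zero this

/-- every vector is the sum of its coordinates -/
theorem vec_eq_sum (x : V n F) :
    x = ∑ k : Fin n, (x (Sum.inl k) • eV n F k + x (Sum.inr k) • fV n F k) := by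
  classical
  funext i
  rw [Finset.sum_apply]
  rcases i with i | i
  · simp only [Pi.add_apply, Pi.smul_apply, smul_eq_mul, eV_inl, fV_inl, mul_zero, add_zero, mul_ite, mul_one]
    rw [Finset.sum_ite_eq]
    simp
  · simp only [Pi.add_apply, Pi.smul_apply, smul_eq_mul, eV_inr, fV_inr, mul_zero, zero_add, mul_ite, mul_one]
    rw [Finset.sum_ite_eq]
    simp

/-! ### the action -/

theorem act_add (g : Sp n F) (x y : V n F) : act g (x + y) = act g x + act g y := Matrix.mulVec_add _ _ _
theorem act_smul (g : Sp n F) (c : F) (x : V n F) : act g (c • x) = c • act g x := Matrix.mulVec_smul _ _ _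
theorem act_zero (g : Sp n F) : act g (0 : V n F) = 0 := Matrix.mulVec_zero _
theorem act_neg (g : Sp n F) (x : V n F) : act g (-x) = -act g x := Matrix.mulVec_neg _ _
theorem act_sub (g : Sp n F) (x y : V n F) : act g (x - y) = act g x - act g y := by
  rw [sub_eq_add_neg, act_add, act_neg, ← sub_eq_add_neg]
theorem act_sum {ι : Type*} (s : Finset ι) (g : Sp n F) (x : ι → V n F) :
    act g (∑ i ∈ s, x i) = ∑ i ∈ s, act g (x i) := by
  classical
  induction s using Finset.induction_on with
  | empty => simp [act_zero]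
  | insert a s ha ih => rw [Finset.sum_insert ha, Finset.sum_insert ha, act_add, ih]

theorem ω_act (g : Sp n F) (x y : V n F) : ω n F (act g x) (act g y) = ω n F x y :=
  sympForm_mulVec_of_mem g.2 x y

theorem ω_act_left (g : Sp n F) (x y : V n F) : ω n F (act g x) y = ω n F x (act g⁻¹ y) := by
  conv_lhs => rw [← act_act_inv g y]
  exact ω_act g x _

theorem sp_ext' {g h : Sp n F} (H : ∀ x, act g x = act h x) : g = h := sp_ext H

theorem act_injective (g : Sp n F) : Function.Injective (act g : V n F → V n F) := by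
  intro x y h
  have := congrArg (act g⁻¹) h
  rwa [act_inv_act, act_inv_act] at this

theorem act_eq_zero_iff (g : Sp n F) (x : V n F) : act g x = 0 ↔ x = 0 := by
  constructor
  · intro h
    apply act_injective g
    rw [h, act_zero]
  · rintro rfl
    exact act_zero g

/-- an element is determined by its action on the basis vectors -/
theorem sp_ext_basis {g h : Sp n F} (He : ∀ k, act g (eV n F k) = act h (eV n F k))
    (Hf : ∀ k, act g (fV n F k) = act h (fV n F k)) : g = h := by
  apply sp_ext'
  intro x
  rw [vec_eq_sum x, act_sum, act_sum]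
  refine Finset.sum_congr rfl fun k _ => ?_
  rw [act_add, act_add, act_smul, act_smul, act_smul, act_smul, He, Hf]

/-! ### transvections -/

theorem act_Tr (w x : V n F) (c : F) : act (Tr w c) x = x + (c * ω n F x w) • w := Tr_mulVec w x c

theorem conj_Tr' (g : Sp n F) (w : V n F) (c : F) : g * Tr w c * g⁻¹ = Tr (act g w) c := conj_Tr g w c

theorem Tr_commute (u v : V n F) (c d : F) (h : ω n F u v = 0) : Commute (Tr u c) (Tr v d) := by
  apply sp_ext'
  intro x
  have h' : ω n F v u = 0 := by rw [ω_swap, h, neg_zero]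
  simp only [act_mul, act_Tr, ω_add_left, ω_smul_left, h, h', mul_zero, add_zero]
  module

/-! ### Eichler elements -/

theorem act_E (u u' x : V n F) (h : ω n F u u' = 0) :
    act (E u u') x = x + ω n F x u • u' + ω n F x u' • u := by
  have h' : ω n F u' u = 0 := by rw [ω_swap, h, neg_zero]
  unfold E
  simp only [act_mul, act_Tr, ω_add_left, ω_add_right, ω_smul_left, h, h', ω_self, mul_zero, add_zero]
  module

theorem conj_E (g : Sp n F) (u u' : V n F) : g * E u u' * g⁻¹ = E (act g u) (act g u') := by
  unfold E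
  rw [← act_add, ← conj_Tr', ← conj_Tr', ← conj_Tr']
  group

theorem E_comm (u u' : V n F) (h : ω n F u u' = 0) : E u u' = E u' u := by
  have h' : ω n F u' u = 0 := by rw [ω_swap, h, neg_zero]
  apply sp_ext'
  intro x
  rw [act_E u u' x h, act_E u' u x h']
  module

theorem E_zero_right (u : V n F) : E u (0 : V n F) = 1 := by
  apply sp_ext'
  intro x
  rw [act_E u 0 x (ω_zero_right u), act_one, ω_zero_right]
  module

theorem E_zero_left (u : V n F) : E (0 : V n F) u = 1 := by
  rw [E_comm 0 u (ω_zero_left u), E_zero_right]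

theorem E_mul_right (u v v' : V n F) (h : ω n F u v = 0) (h' : ω n F u v' = 0) :
    E u v * E u v' = E u (v + v') * Tr u (ω n F v' v) := by
  have h2 : ω n F u (v + v') = 0 := by rw [ω_add_right, h, h', add_zero]
  have k : ω n F v u = 0 := by rw [ω_swap, h, neg_zero]
  have k' : ω n F v' u = 0 := by rw [ω_swap, h', neg_zero]
  apply sp_ext'
  intro x
  simp only [act_mul, act_E u v _ h, act_E u v' _ h', act_E u (v + v') _ h2, act_Tr, ω_add_left, ω_add_right,
    ω_smul_left, h, h', k', ω_self, mul_zero, add_zero]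
  module

theorem E_inv (u v : V n F) (h : ω n F u v = 0) : (E u v)⁻¹ = E u (-v) := by
  symm
  rw [eq_inv_iff_mul_eq_one, E_mul_right u (-v) v (by rw [ω_neg_right, h, neg_zero]) h, neg_add_cancel,
    E_zero_right, ω_neg_right, ω_self, neg_zero, Tr_zero, mul_one]

theorem E_smul_smul (u v : V n F) (c : F) (h : ω n F u v = 0) : E (c • u) v = E u (c • v) := by
  apply sp_ext'
  intro x
  rw [act_E (c • u) v x (by rw [ω_smul_left, h, mul_zero]), act_E u (c • v) x (by rw [ω_smul_right, h, mul_zero]),
    ω_smul_right, ω_smul_right]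
  module

theorem E_self (u : V n F) : E u u = Tr u 2 := by
  apply sp_ext'
  intro x
  rw [act_E u u x (ω_self u), act_Tr]
  module

theorem E_commute_Tr (u v : V n F) (c : F) (h : ω n F u v = 0) : Commute (E u v) (Tr u c) := by
  apply sp_ext'
  intro x
  simp only [act_mul, act_E u v _ h, act_Tr, ω_add_left, ω_smul_left, h, ω_self, mul_zero, add_zero]
  have h' : ω n F v u = 0 := by rw [ω_swap, h, neg_zero]
  rw [h']
  module

/-- `T_{u+v}(c) = T_u(c) T_v(c) E(u, c v)` for orthogonal `u, v` -/
theorem Tr_add (u v : V n F) (c : F) (h : ω n F u v = 0) : Tr (u + v) c = Tr u c * Tr v c * E u (c • v) := by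
  have h' : ω n F v u = 0 := by rw [ω_swap, h, neg_zero]
  apply sp_ext'
  intro x
  simp only [act_mul, act_E u (c • v) _ (by rw [ω_smul_right, h, mul_zero]), act_Tr, ω_add_left, ω_add_right,
    ω_smul_left, ω_smul_right, h, h', ω_self, mul_zero, add_zero]
  module

end Cfsg.Agent.Lib.Helper18.SP
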