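import Mathlib
import Cfsg.Prelude.Def_ClassicalGeometry
import Cfsg.Agent.Lib.Helper14.SpPerfect

/-!
# S3713 (helper18): the symplectic group as the universal completion of the slim amalgam — definitions

`Sp n F = Matrix.symplecticGroup (Fin n) F` acts on column vectors `V n F = Fin n ⊕ Fin n → F` (`act`), preserving
`ω = Cfsg.sympForm n F` (`ω x (eV k) = x (inr k)`, `ω x (fV k) = - x (inl k)`; so `ω (fV k) (eV k) = 1`).
`Tr w c` (helper14) is the transvection `x ↦ x + c ω(x,w) w`; `E u u'` is the Eichler element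
`x ↦ x + ω(x,u) u' + ω(x,u') u` (for `ω u u' = 0`).  For a set `J` of indices, `GJ J` is the pointwise stabiliser of
the basis vectors `e_k, f_k`, `k ∉ J` (`≅ Sp_{2|J|}(F)`), and `VJ J` the span of the `e_k, f_k`, `k ∈ J`.
-/

set_option autoImplicit false

namespace Cfsg.Agent.Lib.Helper18.SP

open Matrix Cfsg.Agent.Lib.Helper5 Cfsg.Agent.Lib.Helper14.SpPerfect

/-- the symplectic group -/
abbrev Sp (n : ℕ) (F : Type*) [Field F] := ↥(Matrix.symplecticGroup (Fin n) F)

/-- the natural module (column vectors) -/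
abbrev V (n : ℕ) (F : Type*) := Fin n ⊕ Fin n → F

section
variable {F : Type*} [Field F] {n : ℕ}

/-- the action on column vectors -/
def act (g : Sp n F) (v : V n F) : V n F :=
  (g : Matrix (Fin n ⊕ Fin n) (Fin n ⊕ Fin n) F) *ᵥ v

theorem act_mul (g h : Sp n F) (v : V n F) : act (g * h) v = act g (act h v) :=
  coe_mul_mulVec g h v

theorem act_one (v : V n F) : act (1 : Sp n F) v = v := coe_one_mulVec v

theorem act_inv_act (g : Sp n F) (v : V n F) : act g⁻¹ (act g v) = v := coe_inv_mulVec_cancel' g v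

theorem act_act_inv (g : Sp n F) (v : V n F) : act g (act g⁻¹ v) = v := coe_inv_mulVec_cancel g v

theorem act_inv_eq_of_act_eq {g : Sp n F} {v : V n F} (h : act g v = v) : act g⁻¹ v = v := by
  conv_lhs => rw [← h]
  exact act_inv_act g v

/-- the Eichler element `x ↦ x + ω(x,u) u' + ω(x,u') u` (when `ω u u' = 0`) -/
def E (u u' : V n F) : Sp n F := Tr (u + u') 1 * Tr u (-1) * Tr u' (-1)

end

/-- the alternating form -/
abbrev ω (n : ℕ) (F : Type*) [Field F] (u v : V n F) : F := Cfsg.sympForm n F u v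

/-- the basis vector `e_k` -/
def eV (n : ℕ) (F : Type*) [Field F] (k : Fin n) : V n F := Pi.single (Sum.inl k) 1

/-- the basis vector `f_k` -/
def fV (n : ℕ) (F : Type*) [Field F] (k : Fin n) : V n F := Pi.single (Sum.inr k) 1

/-- the pointwise stabiliser of the basis vectors with index outside `J` -/
def GJ (n : ℕ) (F : Type*) [Field F] (J : Set (Fin n)) : Subgroup (Sp n F) where
  carrier := {g | ∀ k : Fin n, k ∉ J → act g (eV n F k) = eV n F k ∧ act g (fV n F k) = fV n F k}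
  mul_mem' := by
    intro g h hg hh k hk
    rw [act_mul, act_mul, (hh k hk).1, (hg k hk).1, (hh k hk).2, (hg k hk).2]
    exact ⟨rfl, rfl⟩
  one_mem' := by
    intro k _
    exact ⟨act_one _, act_one _⟩
  inv_mem' := by
    intro g hg k hk
    exact ⟨act_inv_eq_of_act_eq (hg k hk).1, act_inv_eq_of_act_eq (hg k hk).2⟩

/-- the vectors supported on the indices in `J` -/
def VJ (n : ℕ) (F : Type*) [Field F] (J : Set (Fin n)) : Submodule F (V n F) where
  carrier := {x | ∀ k : Fin n, k ∉ J → x (Sum.inl k) = 0 ∧ x (Sum.inr k) = 0}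
  add_mem' := by
    intro x y hx hy k hk
    simp [(hx k hk).1, (hx k hk).2, (hy k hk).1, (hy k hk).2]
  zero_mem' := by
    intro k _
    simp
  smul_mem' := by
    intro c x hx k hk
    simp [(hx k hk).1, (hx k hk).2]

/-- the member `S_j` (`≅ SL₂(F)` on the plane `⟨e_j, f_j⟩`) -/
def SS (n : ℕ) (F : Type*) [Field F] (j : Fin n) : Subgroup (Sp n F) := GJ n F {j}

/-- the member `M_{ip}`: fixes every `e_k`, and `f_k` for `k ∉ {i, p}` (the symmetric `2 × 2` block on `{i,p}`) -/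
def MM (n : ℕ) (F : Type*) [Field F] (i p : Fin n) : Subgroup (Sp n F) where
  carrier := {g | (∀ k : Fin n, act g (eV n F k) = eV n F k) ∧
    ∀ k : Fin n, k ≠ i → k ≠ p → act g (fV n F k) = fV n F k}
  mul_mem' := by
    intro g h hg hh
    refine ⟨fun k => ?_, fun k h1 h2 => ?_⟩
    · rw [act_mul, hh.1 k, hg.1 k]
    · rw [act_mul, hh.2 k h1 h2, hg.2 k h1 h2]
  one_mem' := ⟨fun k => act_one _, fun k _ _ => act_one _⟩
  inv_mem' := by
    intro g hg
    exact ⟨fun k => act_inv_eq_of_act_eq (hg.1 k), fun k h1 h2 => act_inv_eq_of_act_eq (hg.2 k h1 h2)⟩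

/-- the stabiliser of the vector `e_o` in `GJ J` -/
def PJ (n : ℕ) (F : Type*) [Field F] (J : Set (Fin n)) (o : Fin n) : Subgroup (Sp n F) where
  carrier := {g | g ∈ GJ n F J ∧ act g (eV n F o) = eV n F o}
  mul_mem' := by
    intro g h hg hh
    refine ⟨mul_mem hg.1 hh.1, ?_⟩
    rw [act_mul, hh.2, hg.2]
  one_mem' := ⟨one_mem _, act_one _⟩
  inv_mem' := by
    intro g hg
    exact ⟨inv_mem hg.1, act_inv_eq_of_act_eq hg.2⟩

/-- the stabiliser of the point `⟨e_o⟩` in `GJ J` -/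
def PhJ (n : ℕ) (F : Type*) [Field F] (J : Set (Fin n)) (o : Fin n) : Subgroup (Sp n F) where
  carrier := {g | g ∈ GJ n F J ∧ ∃ α : F, α ≠ 0 ∧ act g (eV n F o) = α • eV n F o}
  mul_mem' := by
    rintro g h ⟨hg, α, hα, hgα⟩ ⟨hh, β, hβ, hhβ⟩
    refine ⟨mul_mem hg hh, β * α, mul_ne_zero hβ hα, ?_⟩
    rw [act_mul, hhβ]
    unfold act at *
    rw [Matrix.mulVec_smul, hgα, smul_smul]
  one_mem' := ⟨one_mem _, 1, one_ne_zero, by rw [act_one, one_smul]⟩
  inv_mem' := by
    rintro g ⟨hg, α, hα, hgα⟩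
    refine ⟨inv_mem hg, α⁻¹, inv_ne_zero hα, ?_⟩
    have h : act g⁻¹ (act g (eV n F o)) = eV n F o := act_inv_act g _
    rw [hgα] at h
    unfold act at *
    rw [Matrix.mulVec_smul] at h
    conv_rhs => rw [← h]
    rw [smul_smul, inv_mul_cancel₀ hα, one_smul]

section
variable {F : Type*} [Field F] {n : ℕ}

/-- the Heisenberg element `q_o(u,c) = E(e_o,u) · T_{e_o}(c)` -/
def qH (o : Fin n) (u : V n F) (c : F) : Sp n F := E (eV n F o) u * Tr (eV n F o) c

end

/-- the Weyl element of `S_a`: `e_a ↦ -f_a`, `f_a ↦ e_a` -/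
def nW (n : ℕ) (F : Type*) [Field F] (a : Fin n) : Sp n F :=
  Tr (eV n F a) 1 * Tr (fV n F a) 1 * Tr (eV n F a) 1

/-- the element `y = E(f_o, e_p)`: `e_o ↦ e_o - e_p` -/
def yE (n : ℕ) (F : Type*) [Field F] (o p : Fin n) : Sp n F := E (fV n F o) (eV n F p)

/-- the torus of `S_o`: `e_o ↦ α e_o`, `f_o ↦ α⁻¹ f_o` -/
def TT (n : ℕ) (F : Type*) [Field F] (o : Fin n) : Subgroup (Sp n F) where
  carrier := {g | g ∈ SS n F o ∧ ∃ α : F, α ≠ 0 ∧ act g (eV n F o) = α • eV n F o ∧
    act g (fV n F o) = α⁻¹ • fV n F o}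
  mul_mem' := by
    rintro g h ⟨hg, α, hα, hge, hgf⟩ ⟨hh, β, hβ, hhe, hhf⟩
    refine ⟨mul_mem hg hh, β * α, mul_ne_zero hβ hα, ?_, ?_⟩
    · rw [act_mul, hhe]
      unfold act at *
      rw [Matrix.mulVec_smul, hge, smul_smul]
    · rw [act_mul, hhf]
      unfold act at *
      rw [Matrix.mulVec_smul, hgf, smul_smul, mul_inv]
  one_mem' := ⟨one_mem _, 1, one_ne_zero, by rw [act_one, one_smul], by rw [act_one, inv_one, one_smul]⟩
  inv_mem' := by
    rintro g ⟨hg, α, hα, hge, hgf⟩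
    refine ⟨inv_mem hg, α⁻¹, inv_ne_zero hα, ?_, ?_⟩
    · have h : act g⁻¹ (act g (eV n F o)) = eV n F o := act_inv_act g _
      rw [hge] at h
      unfold act at *
      rw [Matrix.mulVec_smul] at h
      conv_rhs => rw [← h]
      rw [smul_smul, inv_mul_cancel₀ hα, one_smul]
    · have h : act g⁻¹ (act g (fV n F o)) = fV n F o := act_inv_act g _
      rw [hgf] at h
      unfold act at *
      rw [Matrix.mulVec_smul] at h
      conv_rhs => rw [← h]
      rw [smul_smul, inv_inv, mul_inv_cancel₀ hα, one_smul]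

/-- the interval `[a, b)` of indices -/
def Iv (n : ℕ) (a b : ℕ) : Set (Fin n) := {k | a ≤ (k : ℕ) ∧ (k : ℕ) < b}

end Cfsg.Agent.Lib.Helper18.SP
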