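import Cfsg.Agent.Lib.Helper18.SPCalc

/-!
# S3713 (helper18): the subgroups `GJ J` and the subspaces `VJ J` — basic facts
-/

set_option autoImplicit false

namespace Cfsg.Agent.Lib.Helper18.SP

open Matrix Cfsg.Agent.Lib.Helper5 Cfsg.Agent.Lib.Helper14.SpPerfect

variable {F : Type*} [Field F] {n : ℕ}

theorem mem_VJ_iff (J : Set (Fin n)) (x : V n F) :
    x ∈ VJ n F J ↔ ∀ k : Fin n, k ∉ J → x (Sum.inl k) = 0 ∧ x (Sum.inr k) = 0 := Iff.rfl

theorem mem_GJ_iff (J : Set (Fin n)) (g : Sp n F) :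
    g ∈ GJ n F J ↔ ∀ k : Fin n, k ∉ J → act g (eV n F k) = eV n F k ∧ act g (fV n F k) = fV n F k := Iff.rfl

theorem mem_PJ_iff (J : Set (Fin n)) (o : Fin n) (g : Sp n F) :
    g ∈ PJ n F J o ↔ g ∈ GJ n F J ∧ act g (eV n F o) = eV n F o := Iff.rfl

theorem mem_PhJ_iff (J : Set (Fin n)) (o : Fin n) (g : Sp n F) :
    g ∈ PhJ n F J o ↔ g ∈ GJ n F J ∧ ∃ α : F, α ≠ 0 ∧ act g (eV n F o) = α • eV n F o := Iff.rfl

theorem mem_MM_iff (i p : Fin n) (g : Sp n F) :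
    g ∈ MM n F i p ↔ (∀ k : Fin n, act g (eV n F k) = eV n F k) ∧
      ∀ k : Fin n, k ≠ i → k ≠ p → act g (fV n F k) = fV n F k := Iff.rfl

theorem VJ_mono {J K : Set (Fin n)} (h : J ⊆ K) : VJ n F J ≤ VJ n F K :=
  fun _ hx k hk => hx k (fun hkJ => hk (h hkJ))

theorem GJ_mono {J K : Set (Fin n)} (h : J ⊆ K) : GJ n F J ≤ GJ n F K :=
  fun _ hg k hk => hg k (fun hkJ => hk (h hkJ))

theorem PJ_le_GJ (J : Set (Fin n)) (o : Fin n) : PJ n F J o ≤ GJ n F J := fun _ hg => hg.1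

theorem PJ_le_PhJ (J : Set (Fin n)) (o : Fin n) : PJ n F J o ≤ PhJ n F J o :=
  fun _ hg => ⟨hg.1, 1, one_ne_zero, by rw [hg.2, one_smul]⟩

theorem PhJ_le_GJ (J : Set (Fin n)) (o : Fin n) : PhJ n F J o ≤ GJ n F J := fun _ hg => hg.1

theorem PJ_mono {J K : Set (Fin n)} (h : J ⊆ K) (o : Fin n) : PJ n F J o ≤ PJ n F K o :=
  fun _ hg => ⟨GJ_mono h hg.1, hg.2⟩

theorem PhJ_mono {J K : Set (Fin n)} (h : J ⊆ K) (o : Fin n) : PhJ n F J o ≤ PhJ n F K o :=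
  fun _ hg => ⟨GJ_mono h hg.1, hg.2⟩

theorem MM_comm (i p : Fin n) : MM n F i p = MM n F p i := by
  ext g
  rw [mem_MM_iff, mem_MM_iff]
  exact ⟨fun h => ⟨h.1, fun k h1 h2 => h.2 k h2 h1⟩, fun h => ⟨h.1, fun k h1 h2 => h.2 k h2 h1⟩⟩

theorem MM_le_GJ {J : Set (Fin n)} {i p : Fin n} (hi : i ∈ J) (hp : p ∈ J) : MM n F i p ≤ GJ n F J := by
  intro g hg k hk
  exact ⟨hg.1 k, hg.2 k (fun h => hk (h ▸ hi)) (fun h => hk (h ▸ hp))⟩

theorem MM_le_PJ {J : Set (Fin n)} {i p : Fin n} (hi : i ∈ J) (hp : p ∈ J) (o : Fin n) :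
    MM n F i p ≤ PJ n F J o := fun _ hg => ⟨MM_le_GJ hi hp hg, hg.1 o⟩

theorem SS_le_GJ {J : Set (Fin n)} {j : Fin n} (hj : j ∈ J) : SS n F j ≤ GJ n F J :=
  GJ_mono (Set.singleton_subset_iff.mpr hj)

theorem GJ_le_PJ {J K : Set (Fin n)} {o : Fin n} (h : J ⊆ K) (ho : o ∉ J) : GJ n F J ≤ PJ n F K o :=
  fun _ hg => ⟨GJ_mono h hg, (hg o ho).1⟩

theorem eV_mem_VJ {J : Set (Fin n)} {k : Fin n} (hk : k ∈ J) : eV n F k ∈ VJ n F J := by
  intro j hj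
  have hjk : j ≠ k := fun h => hj (h ▸ hk)
  rw [eV_inl, if_neg hjk, eV_inr]
  exact ⟨rfl, rfl⟩

theorem fV_mem_VJ {J : Set (Fin n)} {k : Fin n} (hk : k ∈ J) : fV n F k ∈ VJ n F J := by
  intro j hj
  have hjk : j ≠ k := fun h => hj (h ▸ hk)
  rw [fV_inr, if_neg hjk, fV_inl]
  exact ⟨rfl, rfl⟩

theorem ω_eV_of_mem_VJ {J : Set (Fin n)} {x : V n F} (hx : x ∈ VJ n F J) {k : Fin n} (hk : k ∉ J) :
    ω n F x (eV n F k) = 0 := by rw [ω_eV_right, (hx k hk).2]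

theorem ω_fV_of_mem_VJ {J : Set (Fin n)} {x : V n F} (hx : x ∈ VJ n F J) {k : Fin n} (hk : k ∉ J) :
    ω n F x (fV n F k) = 0 := by rw [ω_fV_right, (hx k hk).1, neg_zero]

theorem ω_eV_left_of_mem_VJ {J : Set (Fin n)} {x : V n F} (hx : x ∈ VJ n F J) {k : Fin n} (hk : k ∉ J) :
    ω n F (eV n F k) x = 0 := by rw [ω_swap, ω_eV_of_mem_VJ hx hk, neg_zero]

theorem ω_fV_left_of_mem_VJ {J : Set (Fin n)} {x : V n F} (hx : x ∈ VJ n F J) {k : Fin n} (hk : k ∉ J) :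
    ω n F (fV n F k) x = 0 := by rw [ω_swap, ω_fV_of_mem_VJ hx hk, neg_zero]

theorem Tr_mem_GJ {J : Set (Fin n)} {u : V n F} (hu : u ∈ VJ n F J) (c : F) : Tr u c ∈ GJ n F J := by
  intro k hk
  rw [act_Tr, act_Tr, ω_eV_left_of_mem_VJ hu hk, ω_fV_left_of_mem_VJ hu hk, mul_zero, zero_smul, add_zero,
    add_zero]
  exact ⟨rfl, rfl⟩

theorem E_mem_GJ {J : Set (Fin n)} {u u' : V n F} (hu : u ∈ VJ n F J) (hu' : u' ∈ VJ n F J) :
    E u u' ∈ GJ n F J :=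
  mul_mem (mul_mem (Tr_mem_GJ ((VJ n F J).add_mem hu hu') 1) (Tr_mem_GJ hu _)) (Tr_mem_GJ hu' _)

theorem act_mem_VJ {J : Set (Fin n)} {g : Sp n F} (hg : g ∈ GJ n F J) {u : V n F} (hu : u ∈ VJ n F J) :
    act g u ∈ VJ n F J := by
  intro k hk
  constructor
  · have h1 : ω n F (act g u) (fV n F k) = 0 := by
      conv_lhs => rw [← (hg k hk).2]
      rw [ω_act, ω_fV_of_mem_VJ hu hk]
    rw [ω_fV_right, neg_eq_zero] at h1
    exact h1
  · have h1 : ω n F (act g u) (eV n F k) = 0 := by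
      conv_lhs => rw [← (hg k hk).1]
      rw [ω_act, ω_eV_of_mem_VJ hu hk]
    rw [ω_eV_right] at h1
    exact h1

/-- `GJ J` fixes the vectors supported outside `J` -/
theorem act_eq_of_mem_VJ_compl {J : Set (Fin n)} {g : Sp n F} (hg : g ∈ GJ n F J) {u : V n F}
    (hu : u ∈ VJ n F Jᶜ) : act g u = u := by
  conv_rhs => rw [vec_eq_sum u]
  conv_lhs => rw [vec_eq_sum u]
  rw [act_sum]
  refine Finset.sum_congr rfl fun k _ => ?_
  by_cases hk : k ∈ J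
  · have := hu k (fun h => h hk)
    rw [this.1, this.2, zero_smul, zero_smul, add_zero, act_zero]
  · rw [act_add, act_smul, act_smul, (hg k hk).1, (hg k hk).2]

theorem GJ_commute {J K : Set (Fin n)} (hJK : Disjoint J K) {g h : Sp n F} (hg : g ∈ GJ n F J)
    (hh : h ∈ GJ n F K) : Commute g h := by
  have hKJ : K ⊆ Jᶜ := fun k hk hkJ => Set.disjoint_left.mp hJK hkJ hk
  have hJK' : J ⊆ Kᶜ := fun k hk hkK => Set.disjoint_left.mp hJK hk hkK
  have key : ∀ v : V n F, (v ∈ VJ n F J ∨ v ∈ VJ n F K) → act (g * h) v = act (h * g) v := by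
    intro v hv
    rw [act_mul, act_mul]
    rcases hv with hv | hv
    · rw [act_eq_of_mem_VJ_compl hh (VJ_mono hJK' hv),
        act_eq_of_mem_VJ_compl hh (VJ_mono hJK' (act_mem_VJ hg hv))]
    · rw [act_eq_of_mem_VJ_compl hg (VJ_mono hKJ hv),
        act_eq_of_mem_VJ_compl hg (VJ_mono hKJ (act_mem_VJ hh hv))]
  apply sp_ext_basis
  · intro k
    by_cases hk : k ∈ J
    · exact key _ (Or.inl (eV_mem_VJ hk))
    · by_cases hk' : k ∈ K
      · exact key _ (Or.inr (eV_mem_VJ hk'))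
      · rw [act_mul, act_mul, (hh k hk').1, (hg k hk).1, (hh k hk').1]
  · intro k
    by_cases hk : k ∈ J
    · exact key _ (Or.inl (fV_mem_VJ hk))
    · by_cases hk' : k ∈ K
      · exact key _ (Or.inr (fV_mem_VJ hk'))
      · rw [act_mul, act_mul, (hh k hk').2, (hg k hk).2, (hh k hk').2]

theorem ω_eq_zero_of_disjoint {J K : Set (Fin n)} (hJK : Disjoint J K) {u v : V n F} (hu : u ∈ VJ n F J)
    (hv : v ∈ VJ n F K) : ω n F u v = 0 := by
  rw [vec_eq_sum v]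
  have : ∀ s : Finset (Fin n), ω n F u (∑ k ∈ s, (v (Sum.inl k) • eV n F k + v (Sum.inr k) • fV n F k)) = 0 := by
    classical
    intro s
    induction s using Finset.induction_on with
    | empty => rw [Finset.sum_empty, ω_zero_right]
    | insert a s ha ih =>
      rw [Finset.sum_insert ha, ω_add_right, ih, add_zero, ω_add_right, ω_smul_right, ω_smul_right]
      by_cases haK : a ∈ K
      · have haJ : a ∉ J := fun h => Set.disjoint_left.mp hJK h haK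
        rw [ω_eV_of_mem_VJ hu haJ, ω_fV_of_mem_VJ hu haJ, mul_zero, mul_zero, add_zero]
      · rw [(hv a haK).1, (hv a haK).2, zero_mul, zero_mul, add_zero]
  exact this _

theorem VJ_nondeg (J : Set (Fin n)) : ∀ x ∈ VJ n F J, x ≠ 0 → ∃ a ∈ VJ n F J, ω n F x a ≠ 0 := by
  intro x hx hx0
  obtain ⟨i, hi⟩ : ∃ i, x i ≠ 0 := by
    by_contra h
    exact hx0 (funext fun i => by_contra fun hi => h ⟨i, hi⟩)
  rcases i with k | k
  · have hk : k ∈ J := by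
      by_contra hk
      exact hi (hx k hk).1
    exact ⟨fV n F k, fV_mem_VJ hk, by rw [ω_fV_right]; exact neg_ne_zero.mpr hi⟩
  · have hk : k ∈ J := by
      by_contra hk
      exact hi (hx k hk).2
    exact ⟨eV n F k, eV_mem_VJ hk, by rw [ω_eV_right]; exact hi⟩

theorem transvGroupIn_le_GJ (J : Set (Fin n)) : transvGroupIn n F (VJ n F J) ≤ GJ n F J := by
  unfold transvGroupIn
  rw [Subgroup.closure_le]
  rintro A ⟨w, c, hw, hA⟩
  have : A = Tr w c := Subtype.ext hA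
  rw [this]
  exact Tr_mem_GJ hw c

/-- `GJ J` is transitive on the nonzero vectors of `VJ J` -/
theorem GJ_trans (J : Set (Fin n)) {x y : V n F} (hx : x ∈ VJ n F J) (hy : y ∈ VJ n F J) (hx0 : x ≠ 0)
    (hy0 : y ≠ 0) : ∃ g ∈ GJ n F J, act g x = y := by
  obtain ⟨A, hA, h⟩ := transvIn_trans1 (VJ n F J) (VJ_nondeg J) x y hx hy hx0 hy0
  exact ⟨A, transvGroupIn_le_GJ J hA, h⟩

/-- `GJ J` is transitive on the hyperbolic pairs of `VJ J` -/
theorem GJ_trans_pair (J : Set (Fin n)) {u v u' v' : V n F} (hu : u ∈ VJ n F J) (hv : v ∈ VJ n F J)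
    (hu' : u' ∈ VJ n F J) (hv' : v' ∈ VJ n F J) (h : ω n F u v = 1) (h' : ω n F u' v' = 1) :
    ∃ g ∈ GJ n F J, act g u = u' ∧ act g v = v' := by
  obtain ⟨A, hA, h1, h2⟩ := transvIn_hyperbolic_pairs (VJ n F J) (VJ_nondeg J) u v u' v' hu hv hu' hv' h h'
  exact ⟨A, transvGroupIn_le_GJ J hA, h1, h2⟩

end Cfsg.Agent.Lib.Helper18.SP
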