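import Cfsg.Agent.Lib.Helper18.SPDec
import Cfsg.Agent.Lib.Helper18.SPHom

/-!
# S3713 (helper18): the hypotheses of the inductive step (`StepHyp`), shared by the leaves STEPN / STEPY and the assembly
-/

set_option autoImplicit false

namespace Cfsg.Agent.Lib.Helper18.SP

open Matrix Cfsg.Agent.Lib.Helper5 Cfsg.Agent.Lib.Helper14.SpPerfect

variable {F : Type*} [Field F] {n : ℕ} {H : Type*} [Group H]

/-- the hypotheses of the inductive step (`K = insert o (insert r J')`, `A = GJ (insert o J')`,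
`L = GJ (insert r J')`; `p ∈ J'` is the neighbour of `o`, `q ∈ insert r J'` is a second index, `q ≠ p`) -/
structure StepHyp (J' : Set (Fin n)) (o r p q : Fin n) (φA φL φPh : Sp n F → H) : Prop where
  ho : o ∉ J'
  hr : r ∉ J'
  hor : o ≠ r
  hp : p ∈ J'
  hq : q ∈ insert r J'
  hqp : q ≠ p
  homA : HomOn (GJ n F (insert o J')) φA
  homL : HomOn (GJ n F (insert r J')) φL
  homPh : HomOn (PhJ n F (insert o (insert r J')) o) φPh
  PhL : ∀ l ∈ GJ n F (insert r J'), φPh l = φL l
  PhA : ∀ g ∈ PhJ n F (insert o J') o, φPh g = φA g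
  comm : ∀ s ∈ SS n F o, ∀ l ∈ GJ n F (insert r J'), Commute (φA s) (φL l)
  hC : ∀ l ∈ PJ n F (insert r J') p, Commute (φL l) (φA (E (eV n F o) (eV n F p)))
  hR3 : (φA (yE n F o p))⁻¹ * φPh (E (eV n F o) (eV n F q)) * φA (yE n F o p)
      = φPh (E (eV n F o) (eV n F q)) * φL (E (eV n F p) (eV n F q))

end Cfsg.Agent.Lib.Helper18.SP
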