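/-
helper18: properties of the model group `TG h` of `SU3Model` (Suzuki 2-group, centre, commutator
subgroup, involutions), and their transport along group isomorphisms.
-/
import Mathlib
import Cfsg.Prelude.Def_LieRecognition
import Cfsg.Agent.Lib.Helper18.SU3Model

set_option autoImplicit false

namespace Cfsg.Agent.Lib.Helper18.SU3Model

section suzuki

variable {F : Type*} [Field F] [Finite F] {σ : F →+* F} (h : Good σ)
include h

theorem b_ne_zero_of_involution (x : TG h) (hx1 : x ≠ 1) (hx : x * x = 1) : x.1.b ≠ 0 := by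
  intro hb
  apply hx1
  have ha := (coe_mul_self_eq_one_iff h x).1 hx
  apply Subtype.ext
  ext
  · exact ha
  · exact hb

theorem isSuzukiTwoGroup (hc : ∃ c : F, σ c = c ∧ c ≠ 0 ∧ c ≠ 1) :
    Cfsg.IsSuzukiTwoGroup (TG h) := by
  refine ⟨inferInstance, isPGroup h, exists_not_comm h, exists_two_involutions h hc,
    (scalHom h).range, ?_, ?_⟩
  · haveI : IsCyclic (fixU σ) := inferInstance
    exact isCyclic_of_surjective (scalHom h).rangeRestrict (scalHom h).rangeRestrict_surjective
  · intro x y hx1 hx hy1 hy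
    have hxa := (coe_mul_self_eq_one_iff h x).1 hx
    have hya := (coe_mul_self_eq_one_iff h y).1 hy
    have hcx := sigma_b_of_a_zero h x hxa
    have hcy := sigma_b_of_a_zero h y hya
    have hx0 := b_ne_zero_of_involution h x hx1 hx
    have hy0 := b_ne_zero_of_involution h y hy1 hy
    obtain ⟨l, hl, hσl⟩ := exists_sqrt h (y.1.b / x.1.b) (by rw [map_div₀, hcx, hcy])
    have hl0 : l ≠ 0 := by
      intro h0
      rw [h0, mul_zero] at hl
      exact (div_ne_zero hy0 hx0) hl.symm
    have key : ∀ v : fixU σ, scalHom h v x = y ↔ ((v : Fˣ) : F) = l := by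
      intro v
      constructor
      · intro hv
        have h1 := congrArg (fun g : TG h => g.1.b) hv
        have h2 : ((v : Fˣ) : F) * ((v : Fˣ) : F) * x.1.b = y.1.b := h1
        apply h.sq_inj
        rw [hl, eq_div_iff hx0, h2]
      · intro hv
        apply Subtype.ext
        ext
        · show ((v : Fˣ) : F) * x.1.a = y.1.a
          rw [hxa, hya, mul_zero]
        · show ((v : Fˣ) : F) * ((v : Fˣ) : F) * x.1.b = y.1.b
          rw [hv, hl, div_mul_cancel₀ _ hx0]
    refine ⟨⟨scalHom h ⟨Units.mk0 l hl0, hσl⟩, _, rfl⟩, (key _).2 rfl, ?_⟩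
    rintro ⟨k, v, rfl⟩ hk
    apply Subtype.ext
    show scalHom h v = scalHom h _
    congr 1
    apply Subtype.ext
    apply Units.ext
    exact (key v).1 hk

end suzuki

theorem isSuzukiTwoGroup_of_mulEquiv {P Q : Type*} [Group P] [Group Q] (e : P ≃* Q)
    (hQ : Cfsg.IsSuzukiTwoGroup Q) : Cfsg.IsSuzukiTwoGroup P := by
  obtain ⟨hfin, hp, ⟨x, y, hxy⟩, ⟨x', y', h1, h2, h3, h4, h5⟩, K, hK, hreg⟩ := hQ
  have hone : ∀ p : P, p ≠ 1 → e p ≠ 1 := fun p hp1 hep => hp1 (by
    rw [← e.symm_apply_apply p, hep, map_one])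
  have hsq : ∀ p : P, p * p = 1 → e p * e p = 1 := fun p hpp => by
    rw [← map_mul, hpp, map_one]
  refine ⟨Finite.of_equiv Q e.symm.toEquiv, hp.of_equiv e.symm, ⟨e.symm x, e.symm y, ?_⟩,
    ⟨e.symm x', e.symm y', ?_, ?_, ?_, ?_, ?_⟩,
    K.map (MulAut.congr e.symm).toMonoidHom, ?_, ?_⟩
  · intro hc
    apply hxy
    rw [← map_mul, ← map_mul] at hc
    exact e.symm.injective hc
  · exact fun hc => h1 (e.symm.injective hc)
  · exact fun hc => h2 (by rw [← e.apply_symm_apply x', hc, map_one])
  · rw [← map_mul, h3, map_one]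
  · exact fun hc => h4 (by rw [← e.apply_symm_apply y', hc, map_one])
  · rw [← map_mul, h5, map_one]
  · haveI := hK
    exact isCyclic_of_surjective ((MulAut.congr e.symm).toMonoidHom.subgroupMap K)
      (MonoidHom.subgroupMap_surjective _ _)
  · intro p p' hp1 hpp hp1' hpp'
    obtain ⟨k, hk, hku⟩ := hreg (e p) (e p') (hone p hp1) (hsq p hpp) (hone p' hp1') (hsq p' hpp')
    refine ⟨⟨(MulAut.congr e.symm) k.1, Subgroup.mem_map_of_mem _ k.2⟩, ?_, ?_⟩
    · show e.symm ((k : MulAut Q) (e p)) = p'
      rw [hk, e.symm_apply_apply]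
    · rintro ⟨k', k₀, hk₀, rfl⟩ hk'
      have h6 : e.symm (k₀ (e p)) = p' := hk'
      have h7 : k₀ (e p) = e p' := by rw [← h6, e.apply_symm_apply]
      have h8 := hku ⟨k₀, hk₀⟩ h7
      apply Subtype.ext
      show (MulAut.congr e.symm) k₀ = (MulAut.congr e.symm) k.1
      rw [← h8]

theorem exists_fixed_ne {F : Type*} [Field F] [Finite F] {σ : F →+* F}
    (hk : 2 < Nat.card {c : F // σ c = c}) : ∃ c : F, σ c = c ∧ c ≠ 0 ∧ c ≠ 1 := by
  classical
  by_contra hne
  push Not at hne
  have hinj : Function.Injective (fun c : {c : F // σ c = c} => decide (c.1 = 0)) := by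
    intro c d hcd
    have hcd' : decide (c.1 = 0) = decide (d.1 = 0) := hcd
    apply Subtype.ext
    by_cases hc : c.1 = 0
    · have hd : d.1 = 0 := by
        by_contra hd
        rw [decide_eq_true hc, decide_eq_false hd] at hcd'
        exact Bool.noConfusion hcd'
      rw [hc, hd]
    · have hd : d.1 ≠ 0 := by
        intro hd
        rw [decide_eq_false hc, decide_eq_true hd] at hcd'
        exact Bool.noConfusion hcd'
      rw [hne c.1 c.2 hc, hne d.1 d.2 hd]
  have := Nat.card_le_card_of_injective _ hinj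
  rw [Nat.card_eq_fintype_card (α := Bool), Fintype.card_bool] at this
  omega

section transport

open scoped commutatorElement

variable {F : Type*} [Field F] {σ : F →+* F} (h : Good σ) {P : Type*} [Group P] (e : P ≃* TG h)
include h e

theorem mem_center_iff_of_equiv (p : P) : p ∈ Subgroup.center P ↔ (e p).1.a = 0 := by
  rw [← mem_center_iff h, Subgroup.mem_center_iff, Subgroup.mem_center_iff]
  constructor
  · intro hp g
    obtain ⟨g', rfl⟩ := e.surjective g
    rw [← map_mul, ← map_mul, hp g']
  · intro hp g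
    apply e.injective
    rw [map_mul, map_mul, hp (e g)]

theorem mul_self_eq_one_iff_of_equiv (p : P) : p * p = 1 ↔ (e p).1.a = 0 := by
  rw [← coe_mul_self_eq_one_iff h, ← map_mul]
  constructor
  · intro hp
    rw [hp, map_one]
  · intro hp
    apply e.injective
    rw [hp, map_one]

theorem mul_self_mem_center_of_equiv (p : P) : p * p ∈ Subgroup.center P := by
  rw [mem_center_iff_of_equiv h e, map_mul, Subgroup.coe_mul, mul_a, h.add_self]

theorem commutator_mem_center_of_equiv (p q : P) : ⁅p, q⁆ ∈ Subgroup.center P := by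
  rw [mem_center_iff_of_equiv h e, map_commutatorElement]
  have h1 : ((⁅e p, e q⁆ : TG h) : Pr σ) = ⁅(e p).1, (e q).1⁆ := by
    rw [commutatorElement_def, commutatorElement_def]
    simp only [Subgroup.coe_mul, Subgroup.coe_inv]
  rw [h1, commutator_eq]

theorem exists_commutator_of_equiv (z : P) (hz : z ∈ Subgroup.center P) :
    ∃ p q : P, ⁅p, q⁆ = z := by
  have hza := (mem_center_iff_of_equiv h e z).1 hz
  have hzb := sigma_b_of_a_zero h (e z) hza
  obtain ⟨a', ha'⟩ := h.tr _ hzb
  obtain ⟨g1, hg1⟩ := exists_mem h 1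
  obtain ⟨g2, hg2⟩ := exists_mem h a'
  refine ⟨e.symm g1, e.symm g2, ?_⟩
  apply e.injective
  rw [map_commutatorElement, e.apply_symm_apply, e.apply_symm_apply]
  apply Subtype.ext
  have h1 : ((⁅g1, g2⁆ : TG h) : Pr σ) = ⁅g1.1, g2.1⁆ := by
    rw [commutatorElement_def, commutatorElement_def]
    simp only [Subgroup.coe_mul, Subgroup.coe_inv]
  rw [h1, commutator_eq, hg1, hg2, map_one, one_mul, mul_one, h.sub_eq, ha']
  ext
  · exact hza.symm
  · rfl

theorem center_eq_commutator_of_equiv : Subgroup.center P = commutator P := by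
  apply le_antisymm
  · intro z hz
    obtain ⟨p, q, rfl⟩ := exists_commutator_of_equiv h e z hz
    rw [commutator_def]
    exact Subgroup.commutator_mem_commutator (Subgroup.mem_top p) (Subgroup.mem_top q)
  · rw [commutator_def, Subgroup.commutator_le]
    intro p _ q _
    exact commutator_mem_center_of_equiv h e p q

theorem center_eq_closure_of_equiv :
    Subgroup.center P = Subgroup.closure {x : P | orderOf x = 2} := by
  haveI : Fact (Nat.Prime 2) := ⟨Nat.prime_two⟩
  have hset : {x : P | orderOf x = 2} = (Subgroup.center P : Set P) \ {1} := by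
    ext x
    rw [Set.mem_ofPred_eq, orderOf_eq_prime_iff, Set.mem_sdiff, Set.mem_singleton_iff,
      SetLike.mem_coe, mem_center_iff_of_equiv h e, ← mul_self_eq_one_iff_of_equiv h e, sq]
  rw [hset, Subgroup.closure_sdiff_one, Subgroup.closure_eq]

theorem quotient_sq_of_equiv (x : P ⧸ Subgroup.center P) : x ^ 2 = 1 := by
  obtain ⟨p, rfl⟩ := QuotientGroup.mk_surjective x
  rw [← QuotientGroup.mk_pow, QuotientGroup.eq_one_iff, sq]
  exact mul_self_mem_center_of_equiv h e p

theorem card_center_of_equiv (q : ℕ) (hk : Nat.card {c : F // σ c = c} = q) :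
    Nat.card (Subgroup.center P) = q := by
  rw [Nat.card_congr (Subgroup.centerCongr e).toEquiv]
  exact card_center h q hk

theorem card_of_equiv [Finite F] (q : ℕ) (hk : Nat.card {c : F // σ c = c} = q)
    (hF : Nat.card F = q ^ 2) : Nat.card P = q ^ 3 := by
  rw [Nat.card_congr e.toEquiv]
  exact card_TG h q hk hF

theorem card_quotient_center_of_equiv [Finite F] (q : ℕ) (hq : 0 < q)
    (hk : Nat.card {c : F // σ c = c} = q) (hF : Nat.card F = q ^ 2) :
    Nat.card (P ⧸ Subgroup.center P) = q ^ 2 := by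
  have h1 := Subgroup.card_eq_card_quotient_mul_card_subgroup (Subgroup.center P)
  rw [card_of_equiv h e q hk hF, card_center_of_equiv h e q hk] at h1
  have h2 : q ^ 2 * q = Nat.card (P ⧸ Subgroup.center P) * q := by rw [← h1]; ring
  exact (Nat.eq_of_mul_eq_mul_right hq h2).symm

theorem isKleinFour_center_of_equiv (hk : Nat.card {c : F // σ c = c} = 4) :
    IsKleinFour (Subgroup.center P) := by
  have hc := card_center_of_equiv h e 4 hk
  refine ⟨hc, ?_⟩
  have h1 : Monoid.exponent (Subgroup.center P) ∣ 2 := by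
    rw [Monoid.exponent_dvd_iff_forall_pow_eq_one]
    intro z
    apply Subtype.ext
    rw [Subgroup.coe_pow, Subgroup.coe_one, sq, mul_self_eq_one_iff_of_equiv h e,
      ← mem_center_iff_of_equiv h e]
    exact z.2
  rcases (Nat.dvd_prime Nat.prime_two).1 h1 with h2 | h2
  · rw [Monoid.exp_eq_one_iff] at h2
    have := Nat.card_eq_one_iff_unique.2 ⟨h2, ⟨1⟩⟩
    omega
  · exact h2

end transport

end Cfsg.Agent.Lib.Helper18.SU3Model
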