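/-
helper18: additive maps of a finite field of characteristic two compatible with the norm of an
involution `σ` are, up to a scalar, field automorphisms (the "fundamental theorem" for the
norm form), and consequences for the automorphisms of the model group `TG h` of `SU3Model`.
-/
import Mathlib
import Cfsg.Agent.Lib.Helper18.SU3Props

set_option autoImplicit false

namespace Cfsg.Agent.Lib.Helper18.SU3Model

section fieldlemmas

variable {F : Type*} [Field F] {σ : F →+* F}

theorem Good.norm_fix (h : Good σ) (a : F) : σ (a * σ a) = a * σ a := by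
  rw [map_mul, h.invol, mul_comm]

theorem Good.trace_fix (h : Good σ) (a : F) : σ (a + σ a) = a + σ a := by
  rw [map_add, h.invol, add_comm]

theorem Good.fix_of_add_eq_zero (h : Good σ) {a : F} (ha : a + σ a = 0) : σ a = a :=
  (h.eq_of_add_eq_zero ha).symm

theorem Good.add_eq_zero_of_fix (h : Good σ) {a : F} (ha : σ a = a) : a + σ a = 0 := by
  rw [ha, h.add_self]

theorem Good.trace_ne_zero (h : Good σ) {t : F} (ht : σ t ≠ t) : t + σ t ≠ 0 :=
  fun h0 => ht (h.fix_of_add_eq_zero h0)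

theorem Good.norm_eq_zero (_h : Good σ) {a : F} (ha : a * σ a = 0) : a = 0 := by
  rcases mul_eq_zero.1 ha with h1 | h1
  · exact h1
  · exact (map_eq_zero σ).1 h1

/-- every element is `κ + μ t` with `κ, μ` fixed, when `t` is not fixed. -/
theorem Good.decomp (h : Good σ) {t : F} (ht : σ t ≠ t) (x : F) :
    ∃ κ μ : F, σ κ = κ ∧ σ μ = μ ∧ x = κ + μ * t := by
  have ht0 := h.trace_ne_zero ht
  refine ⟨x + (x + σ x) / (t + σ t) * t, (x + σ x) / (t + σ t), ?_, ?_, ?_⟩
  · apply h.fix_of_add_eq_zero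
    rw [map_add, map_mul, map_div₀, h.trace_fix, h.trace_fix]
    have : x + (x + σ x) / (t + σ t) * t + (σ x + (x + σ x) / (t + σ t) * σ t) =
        (x + σ x) + (x + σ x) / (t + σ t) * (t + σ t) := by ring
    rw [this, div_mul_cancel₀ _ ht0, h.add_self]
  · rw [map_div₀, h.trace_fix, h.trace_fix]
  · have : x + (x + σ x) / (t + σ t) * t + (x + σ x) / (t + σ t) * t =
        x + ((x + σ x) / (t + σ t) * t + (x + σ x) / (t + σ t) * t) := by ring
    rw [this, h.add_self, add_zero]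

/-- uniqueness of the decomposition. -/
theorem Good.indep (_h : Good σ) {t : F} (ht : σ t ≠ t) {κ μ κ' μ' : F} (hκ : σ κ = κ)
    (hμ : σ μ = μ) (hκ' : σ κ' = κ') (hμ' : σ μ' = μ') (he : κ + μ * t = κ' + μ' * t) :
    κ = κ' ∧ μ = μ' := by
  have hμμ : μ = μ' := by
    by_contra hne
    apply ht
    have hne' : μ - μ' ≠ 0 := sub_ne_zero.2 hne
    have ht' : t = (κ' - κ) / (μ - μ') := by
      rw [eq_div_iff hne']
      linear_combination he
    rw [ht', map_div₀, map_sub, map_sub, hκ, hκ', hμ, hμ']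
  refine ⟨?_, hμμ⟩
  rw [hμμ] at he
  exact add_right_cancel he

end fieldlemmas

section sim

variable {F : Type*} [Field F] {σ : F →+* F}

/-- an additive injective map `τ` compatible with the norm form, via `ρ` on the fixed field. -/
structure Sim (σ : F →+* F) (τ ρ : F → F) : Prop where
  add : ∀ a a', τ (a + a') = τ a + τ a'
  inj : Function.Injective τ
  radd : ∀ c c', σ c = c → σ c' = c' → ρ (c + c') = ρ c + ρ c'
  norm : ∀ a, τ a * σ (τ a) = ρ (a * σ a)

variable {τ ρ : F → F}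

theorem Sim.tau_zero (S : Sim σ τ ρ) : τ 0 = 0 := by
  have := S.add 0 0
  rw [add_zero] at this
  exact left_eq_add.1 this

theorem Sim.rho_zero (S : Sim σ τ ρ) : ρ 0 = 0 := by
  have := S.radd 0 0 (map_zero σ) (map_zero σ)
  rw [add_zero] at this
  exact left_eq_add.1 this

theorem Sim.ne_zero (S : Sim σ τ ρ) {a : F} (ha : a ≠ 0) : τ a ≠ 0 := fun h0 =>
  ha (S.inj (h0.trans S.tau_zero.symm))

/-- polarisation of the norm condition. -/
theorem Sim.bil (S : Sim σ τ ρ) (h : Good σ) (a a' : F) :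
    τ a * σ (τ a') + σ (τ a) * τ a' = ρ (a * σ a' + σ a * a') := by
  have h1 := S.norm (a + a')
  have h2 := S.norm a
  have h3 := S.norm a'
  have hB : σ (a * σ a' + σ a * a') = a * σ a' + σ a * a' := by
    rw [map_add, map_mul, map_mul, h.invol, h.invol]; ring
  have h4 : (a + a') * σ (a + a') = (a * σ a + a' * σ a') + (a * σ a' + σ a * a') := by
    rw [map_add]; ring
  have hN : σ (a * σ a + a' * σ a') = a * σ a + a' * σ a' := by
    rw [map_add, h.norm_fix, h.norm_fix]
  rw [h4, S.radd _ _ hN hB, S.radd _ _ (h.norm_fix a) (h.norm_fix a'), S.add, map_add] at h1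
  linear_combination h1 - h2 - h3

theorem Sim.rinj (S : Sim σ τ ρ) (h : Good σ) [Finite F] {c : F} (hc : σ c = c)
    (h0 : ρ c = 0) : c = 0 := by
  obtain ⟨l, hl, hσl⟩ := exists_sqrt h c hc
  have h1 := S.norm l
  rw [hσl, hl, h0] at h1
  have h2 : τ l = 0 := h.norm_eq_zero h1
  have h3 : l = 0 := by
    by_contra hne
    exact S.ne_zero hne h2
  rw [← hl, h3, mul_zero]

section normalized

variable (S : Sim σ τ ρ) (h : Good σ) (h1 : τ 1 = 1)
include S h h1

theorem Sim.rho_one : ρ 1 = 1 := by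
  have := S.norm 1
  rw [h1, map_one, mul_one] at this
  exact this.symm

theorem Sim.trace (a : F) : τ a + σ (τ a) = ρ (a + σ a) := by
  have := S.bil h a 1
  rw [h1, map_one, mul_one, mul_one, mul_one, mul_one] at this
  exact this

theorem Sim.tau_fix {c : F} (hc : σ c = c) : σ (τ c) = τ c := by
  apply h.fix_of_add_eq_zero
  rw [Sim.trace S h h1, h.add_eq_zero_of_fix hc, S.rho_zero]

theorem Sim.fix_of_map_fix [Finite F] {a : F} (ha : σ (τ a) = τ a) : σ a = a := by
  apply h.fix_of_add_eq_zero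
  apply S.rinj h (h.trace_fix a)
  rw [← Sim.trace S h h1, h.add_eq_zero_of_fix ha]

/-- `τ` maps the line through `a` to the line through `τ a`. -/
theorem Sim.line {κ : F} (hκ : σ κ = κ) (a : F) :
    ∃ c : F, σ c = c ∧ τ (κ * a) = c * τ a := by
  by_cases ha : a = 0
  · refine ⟨0, map_zero σ, ?_⟩
    rw [ha, mul_zero, S.tau_zero, mul_zero]
  · have hτa := S.ne_zero ha
    have hσ0 : σ (τ a) ≠ 0 := fun h0 => hτa ((map_eq_zero σ).1 h0)
    have hb := S.bil h a (κ * a)
    have h0 : a * σ (κ * a) + σ a * (κ * a) = 0 := by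
      rw [map_mul, hκ]
      have : a * (κ * σ a) + σ a * (κ * a) = κ * a * σ a + κ * a * σ a := by ring
      rw [this, h.add_self]
    rw [h0, S.rho_zero] at hb
    have hb' : τ a * σ (τ (κ * a)) = σ (τ a) * τ (κ * a) := h.eq_of_add_eq_zero hb
    refine ⟨τ (κ * a) / τ a, ?_, ?_⟩
    · rw [map_div₀, div_eq_div_iff hσ0 hτa]
      linear_combination hb'
    · rw [div_mul_cancel₀ _ hτa]

/-- semilinearity over the fixed field, first for `a` outside the fixed field. -/
theorem Sim.semilin_aux [Finite F] {a : F} (ha : σ a ≠ a) {κ μ : F} (hκ : σ κ = κ)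
    (hμ : σ μ = μ) : τ (κ * μ) = τ κ * τ μ ∧ τ (κ * a) = τ κ * τ a := by
  have hτa : σ (τ a) ≠ τ a := fun hc => ha (Sim.fix_of_map_fix S h h1 hc)
  -- the coefficient for the line through `a`
  obtain ⟨c₂, hc₂, hc₂e⟩ := Sim.line S h h1 hκ a
  have key : ∀ ν : F, σ ν = ν → τ (κ * ν) = c₂ * τ ν := by
    intro ν hν
    obtain ⟨c₁, hc₁, hc₁e⟩ := Sim.line S h h1 hκ (ν + a)
    have e1 : τ (κ * (ν + a)) = τ (κ * ν) + c₂ * τ a := by
      rw [mul_add, S.add, hc₂e]
    have e2 : τ (κ * (ν + a)) = c₁ * τ ν + c₁ * τ a := by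
      rw [hc₁e, S.add, mul_add]
    have hκν : σ (κ * ν) = κ * ν := by rw [map_mul, hκ, hν]
    have := h.indep hτa (Sim.tau_fix S h h1 hκν) hc₂
      (show σ (c₁ * τ ν) = c₁ * τ ν by rw [map_mul, hc₁, Sim.tau_fix S h h1 hν]) hc₁
      (e1.symm.trans e2)
    rw [this.1, this.2]
  have hk1 := key 1 (map_one σ)
  rw [mul_one, h1, mul_one] at hk1
  refine ⟨?_, ?_⟩
  · rw [key μ hμ, hk1]
  · rw [hc₂e, hk1]

theorem Sim.semilin [Finite F] {κ : F} (hκ : σ κ = κ) (a : F) : τ (κ * a) = τ κ * τ a := by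
  obtain ⟨ω, hω⟩ := h.ne
  by_cases ha : σ a = a
  · exact (Sim.semilin_aux S h h1 hω hκ ha).1
  · exact (Sim.semilin_aux S h h1 ha hκ hκ).2

theorem Sim.rho_eq [Finite F] {c : F} (hc : σ c = c) : ρ c = τ c := by
  obtain ⟨l, hl, hσl⟩ := exists_sqrt h c hc
  have h2 := S.norm l
  rw [Sim.tau_fix S h h1 hσl, hσl, hl] at h2
  rw [← h2, ← hl, Sim.semilin S h h1 hσl l]

theorem Sim.tau_sq [Finite F] (a : F) : τ (a * a) = τ a * τ a := by
  have e1 : a * a = (a + σ a) * a + a * σ a := by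
    have : (a + σ a) * a + a * σ a = a * a + (a * σ a + a * σ a) := by ring
    rw [this, h.add_self, add_zero]
  rw [e1, S.add, Sim.semilin S h h1 (h.trace_fix a) a, ← Sim.rho_eq S h h1 (h.trace_fix a),
    ← Sim.rho_eq S h h1 (h.norm_fix a), ← Sim.trace S h h1, ← S.norm]
  have : (τ a + σ (τ a)) * τ a + τ a * σ (τ a) =
      τ a * τ a + (τ a * σ (τ a) + τ a * σ (τ a)) := by ring
  rw [this, h.add_self, add_zero]

theorem Sim.tau_mul [Finite F] (x y : F) : τ (x * y) = τ x * τ y := by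
  obtain ⟨t, ht⟩ := h.ne
  obtain ⟨κ, μ, hκ, hμ, rfl⟩ := h.decomp ht x
  obtain ⟨κ', μ', hκ', hμ', rfl⟩ := h.decomp ht y
  have hsl := fun {c : F} (hc : σ c = c) (a : F) => Sim.semilin S h h1 hc a
  have e1 : (κ + μ * t) * (κ' + μ' * t) =
      κ * κ' + ((κ * μ' + μ * κ') * t + (μ * μ') * (t * t)) := by ring
  have hf1 : σ (κ * μ' + μ * κ') = κ * μ' + μ * κ' := by
    rw [map_add, map_mul, map_mul, hκ, hμ, hκ', hμ']
  have hf2 : σ (μ * μ') = μ * μ' := by rw [map_mul, hμ, hμ']
  rw [e1, S.add, S.add, hsl hκ, hsl hf1, hsl hf2, Sim.tau_sq S h h1, S.add, hsl hκ, hsl hμ,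
    hsl hμ, S.add, S.add, hsl hμ, hsl hμ']
  ring

end normalized

end sim

section main

variable {F : Type*} [Field F] {σ : F →+* F} {τ ρ : F → F}

theorem Sim.normalize (S : Sim σ τ ρ) :
    Sim σ (fun a => (τ 1)⁻¹ * τ a) (fun c => (τ 1 * σ (τ 1))⁻¹ * ρ c) := by
  have hl : τ 1 ≠ 0 := S.ne_zero one_ne_zero
  refine ⟨?_, ?_, ?_, ?_⟩
  · intro a a'
    show (τ 1)⁻¹ * τ (a + a') = (τ 1)⁻¹ * τ a + (τ 1)⁻¹ * τ a'
    rw [S.add, mul_add]
  · intro a a' haa
    have h1 : (τ 1)⁻¹ * τ a = (τ 1)⁻¹ * τ a' := haa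
    exact S.inj (mul_left_cancel₀ (inv_ne_zero hl) h1)
  · intro c c' hc hc'
    show (τ 1 * σ (τ 1))⁻¹ * ρ (c + c') = (τ 1 * σ (τ 1))⁻¹ * ρ c + (τ 1 * σ (τ 1))⁻¹ * ρ c'
    rw [S.radd c c' hc hc', mul_add]
  · intro a
    show (τ 1)⁻¹ * τ a * σ ((τ 1)⁻¹ * τ a) = (τ 1 * σ (τ 1))⁻¹ * ρ (a * σ a)
    rw [← S.norm a, map_mul, map_inv₀, mul_inv]
    ring

/-- **the fundamental theorem**: `τ` is a scalar times a ring endomorphism. -/
theorem Sim.exists_ringHom (S : Sim σ τ ρ) (h : Good σ) [Finite F] :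
    ∃ ψ : F →+* F, ∀ a, τ a = τ 1 * ψ a := by
  have hl : τ 1 ≠ 0 := S.ne_zero one_ne_zero
  have S' := S.normalize
  have h1 : (fun a => (τ 1)⁻¹ * τ a) 1 = 1 := inv_mul_cancel₀ hl
  refine ⟨{ toFun := fun a => (τ 1)⁻¹ * τ a
            map_one' := h1
            map_mul' := fun x y => Sim.tau_mul S' h h1 x y
            map_zero' := S'.tau_zero
            map_add' := S'.add }, fun a => ?_⟩
  show τ a = τ 1 * ((τ 1)⁻¹ * τ a)
  rw [← mul_assoc, mul_inv_cancel₀ hl, one_mul]

/-- an involutive ring endomorphism of a field with `(2 ^ n) ^ 2` elements fixes the subfield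
with `2 ^ n` elements pointwise. -/
theorem ringHom_fix_of_invol [Finite F] (h2 : (2 : F) = 0) {n : ℕ}
    (hF : Nat.card F = (2 ^ n) ^ 2) (ψ : F →+* F) (hψ : ∀ x, ψ (ψ x) = x) {c : F}
    (hc : c ^ (2 ^ n) = c) : ψ c = c := by
  haveI : CharP F 2 := CharTwo.of_one_ne_zero_of_two_eq_zero one_ne_zero h2
  letI : Algebra (ZMod 2) F := ZMod.algebra F 2
  haveI : Fintype F := Fintype.ofFinite F
  let ψa : F →ₐ[ZMod 2] F :=
    { ψ with
      commutes' := fun r => by
        have : ψ.comp (algebraMap (ZMod 2) F) = algebraMap (ZMod 2) F := Subsingleton.elim _ _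
        exact RingHom.congr_fun this r }
  obtain ⟨⟨j, hj⟩, hje⟩ := (FiniteField.bijective_frobeniusAlgHom_pow (ZMod 2) F).2 ψa
  have hje' : FiniteField.frobeniusAlgHom (ZMod 2) F ^ j = ψa := hje
  have hψj : ∀ x, ψ x = x ^ (2 ^ j) := by
    intro x
    have h3 := DFunLike.congr_fun hje' x
    rw [AlgHom.coe_pow, FiniteField.coe_frobeniusAlgHom, pow_iterate, ZMod.card] at h3
    exact h3.symm
  have hord := FiniteField.orderOf_frobeniusAlgHom (ZMod 2) F
  have hfin : Module.finrank (ZMod 2) F = 2 * n := by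
    have h3 := Module.card_eq_pow_finrank (K := ZMod 2) (V := F)
    rw [← Nat.card_eq_fintype_card, hF, ZMod.card, ← pow_mul] at h3
    have := Nat.pow_right_injective (le_refl 2) h3
    omega
  have hpow : (FiniteField.frobeniusAlgHom (ZMod 2) F) ^ (2 * j) = 1 := by
    rw [two_mul, pow_add, hje']
    ext x
    exact hψ x
  have hdvd : 2 * n ∣ 2 * j := by
    rw [← hfin, ← hord]
    exact orderOf_dvd_of_pow_eq_one hpow
  have hnj : n ∣ j := (Nat.mul_dvd_mul_iff_left two_pos).1 hdvd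
  obtain ⟨t, rfl⟩ := hnj
  rw [hψj, pow_mul]
  clear hje hje' hψj hpow hdvd hj
  induction t with
  | zero => rw [pow_zero, pow_one]
  | succ t ih => rw [pow_succ, pow_mul, ih, hc]

/-- **Theorem C**: an involutive `τ` preserves the norm. -/
theorem Sim.norm_eq_of_invol (S : Sim σ τ ρ) (h : Good σ) [Finite F] {n : ℕ}
    (hσq : ∀ x, σ x = x ^ (2 ^ n)) (hF : Nat.card F = (2 ^ n) ^ 2) (hτ : ∀ a, τ (τ a) = a)
    (a : F) : τ a * σ (τ a) = a * σ a := by
  obtain ⟨ψ, hψ⟩ := S.exists_ringHom h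
  have hl : τ 1 ≠ 0 := S.ne_zero one_ne_zero
  have hττ : ∀ a, τ 1 * ψ (τ 1) * ψ (ψ a) = a := by
    intro a
    have := hτ a
    rw [hψ (τ a), hψ a, map_mul] at this
    rw [mul_assoc]; exact this
  have hlψ : τ 1 * ψ (τ 1) = 1 := by
    have := hττ 1
    rwa [map_one, map_one, mul_one] at this
  have hψψ : ∀ x, ψ (ψ x) = x := by
    intro x
    have := hττ x
    rwa [hlψ, one_mul] at this
  have hfix : ∀ c, σ c = c → ψ c = c := fun c hc =>
    ringHom_fix_of_invol h.two hF ψ hψψ (by rw [← hσq, hc])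
  have hcomm : ∀ x, σ (ψ x) = ψ (σ x) := by
    intro x
    rw [hσq, hσq, map_pow]
  have hN : ∀ x, τ x * σ (τ x) = (τ 1 * σ (τ 1)) * (x * σ x) := by
    intro x
    rw [hψ x, map_mul, hcomm, ← hfix _ (h.norm_fix x), map_mul]
    ring
  have hν : τ 1 * σ (τ 1) = 1 := by
    apply h.sq_inj
    have := hN (τ 1)
    rw [hτ 1, map_one, mul_one] at this
    rw [one_mul, ← this]
  rw [hN a, hν, one_mul]

end main

section grp

open scoped commutatorElement

variable {F : Type*} [Field F] {σ : F →+* F} (h : Good σ)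

/-- a chosen element of the model group with first coordinate `a`. -/
noncomputable def lift (a : F) : TG h := Classical.choose (exists_mem h a)

theorem lift_a (a : F) : (lift h a).1.a = a := Classical.choose_spec (exists_mem h a)

/-- the map induced by an automorphism on the first coordinates. -/
noncomputable def tauOf (φ : MulAut (TG h)) (a : F) : F := (φ (lift h a)).1.a

open Classical in
/-- the map induced by an automorphism on the centre. -/
noncomputable def rhoOf (φ : MulAut (TG h)) (c : F) : F :=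
  if hc : σ c = c then (φ (zc h c hc)).1.b else 0

theorem rhoOf_eq (φ : MulAut (TG h)) {c : F} (hc : σ c = c) :
    rhoOf h φ c = (φ (zc h c hc)).1.b := dif_pos hc

theorem phi_center (φ : MulAut (TG h)) {z : TG h} (hz : z.1.a = 0) : (φ z).1.a = 0 := by
  rw [← mem_center_iff h] at hz ⊢
  rw [Subgroup.mem_center_iff] at hz ⊢
  intro g
  obtain ⟨g', rfl⟩ := φ.surjective g
  rw [← map_mul, ← map_mul, hz g']

theorem phi_a (φ : MulAut (TG h)) (g : TG h) : (φ g).1.a = tauOf h φ g.1.a := by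
  have h1 : (g * lift h g.1.a).1.a = 0 := by
    rw [Subgroup.coe_mul, mul_a, lift_a, h.add_self]
  have h2 := phi_center h φ h1
  rw [map_mul, Subgroup.coe_mul, mul_a] at h2
  exact h.eq_of_add_eq_zero h2

theorem tauOf_add (φ : MulAut (TG h)) (a a' : F) :
    tauOf h φ (a + a') = tauOf h φ a + tauOf h φ a' := by
  have h1 := phi_a h φ (lift h a * lift h a')
  rw [map_mul, Subgroup.coe_mul, mul_a, Subgroup.coe_mul, mul_a, lift_a, lift_a] at h1
  exact h1.symm

theorem tauOf_zero (φ : MulAut (TG h)) : tauOf h φ 0 = 0 := by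
  have := tauOf_add h φ 0 0
  rw [add_zero] at this
  exact left_eq_add.1 this

theorem tauOf_inj (φ : MulAut (TG h)) : Function.Injective (tauOf h φ) := by
  intro a a' haa
  apply h.eq_of_add_eq_zero
  have h1 : tauOf h φ (a + a') = 0 := by rw [tauOf_add, haa, h.add_self]
  have h2 : (φ (lift h (a + a'))).1.a = 0 := h1
  have h3 := phi_center h φ.symm h2
  rw [MulEquiv.symm_apply_apply, lift_a] at h3
  exact h3

theorem zc_mul_zc {c c' : F} (hc : σ c = c) (hc' : σ c' = c') :
    zc h c hc * zc h c' hc' = zc h (c + c') (by rw [map_add, hc, hc']) := by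
  apply Subtype.ext
  ext
  · show (0 : F) + 0 = 0
    rw [add_zero]
  · show c + c' + σ 0 * 0 = c + c'
    rw [mul_zero, add_zero]

theorem lift_mul_self (a : F) : lift h a * lift h a = zc h (a * σ a) (h.norm_fix a) := by
  apply Subtype.ext
  rw [Subgroup.coe_mul, mul_self_eq h, lift_a]
  ext
  · rfl
  · show σ a * a = a * σ a
    rw [mul_comm]

theorem simOf (φ : MulAut (TG h)) : Sim σ (tauOf h φ) (rhoOf h φ) := by
  refine ⟨tauOf_add h φ, tauOf_inj h φ, ?_, ?_⟩
  · intro c c' hc hc'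
    rw [rhoOf_eq h φ hc, rhoOf_eq h φ hc', rhoOf_eq h φ (show σ (c + c') = c + c' by
      rw [map_add, hc, hc']), ← zc_mul_zc h hc hc', map_mul, Subgroup.coe_mul, mul_b,
      phi_center h φ (show (zc h c hc).1.a = 0 from rfl), map_zero, zero_mul, add_zero]
  · intro a
    rw [rhoOf_eq h φ (h.norm_fix a), ← lift_mul_self, map_mul, Subgroup.coe_mul, mul_self_eq h]
    show tauOf h φ a * σ (tauOf h φ a) = σ (tauOf h φ a) * tauOf h φ a
    rw [mul_comm]

/-- **Theorem D**: an automorphism of the model group whose square is trivial modulo the centre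
fixes the centre pointwise. -/
theorem fix_center [Finite F] {n : ℕ} (hσq : ∀ x, σ x = x ^ (2 ^ n))
    (hF : Nat.card F = (2 ^ n) ^ 2) (φ : MulAut (TG h))
    (hφ : ∀ g, (φ (φ g)).1.a = g.1.a) (z : TG h) (hz : z.1.a = 0) : φ z = z := by
  have hτ : ∀ a, tauOf h φ (tauOf h φ a) = a := by
    intro a
    have h1 : tauOf h φ (tauOf h φ a) = (φ (φ (lift h a))).1.a := (phi_a h φ _).symm
    rw [h1, hφ, lift_a]
  have hc := sigma_b_of_a_zero h z hz
  obtain ⟨l, hl, hσl⟩ := exists_sqrt h z.1.b hc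
  have hN := (simOf h φ).norm_eq_of_invol h hσq hF hτ l
  have hz' : z = lift h l * lift h l := by
    rw [lift_mul_self]
    apply Subtype.ext
    ext
    · exact hz
    · show z.1.b = l * σ l
      rw [hσl, hl]
  rw [hz', map_mul]
  apply Subtype.ext
  rw [Subgroup.coe_mul, mul_self_eq h, Subgroup.coe_mul, mul_self_eq h, lift_a]
  ext
  · rfl
  · show σ (tauOf h φ l) * tauOf h φ l = σ l * l
    rw [mul_comm, hN, mul_comm]

/-- **Theorem D'**: the same for any group isomorphic to the model group. -/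
theorem fix_center_of_equiv [Finite F] {n : ℕ} (hσq : ∀ x, σ x = x ^ (2 ^ n))
    (hF : Nat.card F = (2 ^ n) ^ 2) {P : Type*} [Group P] (e : P ≃* TG h) (φ : MulAut P)
    (hφ : ∀ p, φ (φ p) * p⁻¹ ∈ Subgroup.center P) (z : P) (hz : z ∈ Subgroup.center P) :
    φ z = z := by
  have hφ' : ∀ g, (((MulAut.congr e) φ) (((MulAut.congr e) φ) g)).1.a = g.1.a := by
    intro g
    have h1 : ((MulAut.congr e) φ) (((MulAut.congr e) φ) g) = e (φ (φ (e.symm g))) := by
      show e (φ (e.symm (e (φ (e.symm g))))) = _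
      rw [e.symm_apply_apply]
    rw [h1]
    have h2 := (mem_center_iff_of_equiv h e _).1 (hφ (e.symm g))
    rw [map_mul, map_inv, e.apply_symm_apply, Subgroup.coe_mul, mul_a, Subgroup.coe_inv, inv_a,
      h.neg_eq] at h2
    exact h.eq_of_add_eq_zero h2
  have h3 := fix_center h hσq hF ((MulAut.congr e) φ) hφ' (e z)
    ((mem_center_iff_of_equiv h e z).1 hz)
  have h4 : ((MulAut.congr e) φ) (e z) = e (φ z) := by
    show e (φ (e.symm (e z))) = _
    rw [e.symm_apply_apply]
  rw [h4] at h3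
  exact e.injective h3

/-- a subgroup of index two isomorphic to the model group has its centre in the centre. -/
theorem center_le_center_of_index_two [Finite F] {n : ℕ} (hσq : ∀ x, σ x = x ^ (2 ^ n))
    (hF : Nat.card F = (2 ^ n) ^ 2) {R : Type*} [Group R] (S' : Subgroup R)
    (hidx : S'.index = 2) (e : S' ≃* TG h) :
    (Subgroup.center S').map S'.subtype ≤ Subgroup.center R := by
  haveI : S'.Normal := Subgroup.normal_of_index_eq_two hidx
  rintro x ⟨z, hz, rfl⟩
  rw [Subgroup.mem_center_iff]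
  intro r
  have hφ : ∀ p : S', (MulAut.conjNormal r) ((MulAut.conjNormal r) p) * p⁻¹ ∈
      Subgroup.center S' := by
    intro p
    have hs : r * r ∈ S' := Subgroup.mul_self_mem_of_index_two hidx r
    have h1 : (MulAut.conjNormal r) ((MulAut.conjNormal r) p) * p⁻¹ = ⁅(⟨r * r, hs⟩ : S'), p⁆ := by
      apply Subtype.ext
      rw [commutatorElement_def]
      simp only [Subgroup.coe_mul, MulAut.conjNormal_apply, Subgroup.coe_inv]
      group
    rw [h1]
    exact commutator_mem_center_of_equiv h e _ _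
  have h2 := fix_center_of_equiv h hσq hF e (MulAut.conjNormal r) hφ z hz
  have h3 := congrArg Subtype.val h2
  rw [MulAut.conjNormal_apply] at h3
  show r * (z : R) = (z : R) * r
  calc r * (z : R) = (r * (z : R) * r⁻¹) * r := by group
    _ = (z : R) * r := by rw [h3]

end grp

end Cfsg.Agent.Lib.Helper18.SU3Model
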