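/-
helper18: the automorphism group of the model group `TG h` of `SU3Model`: functoriality of the
induced map on first coordinates, the central automorphisms, Frobenius powers.
-/
import Mathlib
import Cfsg.Agent.Lib.Helper18.SU3Aut

set_option autoImplicit false

namespace Cfsg.Agent.Lib.Helper18.SU3Model

section frob

variable {F : Type*} [Field F]

/-- a ring endomorphism of a field with `(2 ^ n) ^ 2` elements is a power of the Frobenius, and
its order is controlled. -/
theorem ringHom_frob [Finite F] (h2 : (2 : F) = 0) {n : ℕ}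
    (hF : Nat.card F = (2 ^ n) ^ 2) (ψ : F →+* F) :
    ∃ j, (∀ x, ψ x = x ^ (2 ^ j)) ∧ ∀ m, (∀ x, ψ^[m] x = x) → 2 * n ∣ j * m := by
  haveI : CharP F 2 := CharTwo.of_one_ne_zero_of_two_eq_zero one_ne_zero h2
  letI : Algebra (ZMod 2) F := ZMod.algebra F 2
  haveI : Fintype F := Fintype.ofFinite F
  let ψa : F →ₐ[ZMod 2] F :=
    { ψ with
      commutes' := fun r => by
        have : ψ.comp (algebraMap (ZMod 2) F) = algebraMap (ZMod 2) F := Subsingleton.elim _ _
        exact RingHom.congr_fun this r }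
  obtain ⟨⟨j, hj⟩, hje⟩ := (FiniteField.bijective_frobeniusAlgHom_pow (ZMod 2) F).2 ψa
  have hje' : FiniteField.frobeniusAlgHom (ZMod 2) F ^ j = ψa := hje
  have hord := FiniteField.orderOf_frobeniusAlgHom (ZMod 2) F
  have hfin : Module.finrank (ZMod 2) F = 2 * n := by
    have h3 := Module.card_eq_pow_finrank (K := ZMod 2) (V := F)
    rw [← Nat.card_eq_fintype_card, hF, ZMod.card, ← pow_mul] at h3
    have := Nat.pow_right_injective (le_refl 2) h3
    omega
  refine ⟨j, ?_, ?_⟩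
  · intro x
    have h3 := DFunLike.congr_fun hje' x
    rw [AlgHom.coe_pow, FiniteField.coe_frobeniusAlgHom, pow_iterate, ZMod.card] at h3
    exact h3.symm
  · intro m hm
    have hpow : (FiniteField.frobeniusAlgHom (ZMod 2) F) ^ (j * m) = 1 := by
      rw [pow_mul, hje']
      ext x
      rw [AlgHom.coe_pow]
      exact hm x
    rw [← hfin, ← hord]
    exact orderOf_dvd_of_pow_eq_one hpow

theorem pow_frob_mul [Finite F] {n : ℕ} (hF : Nat.card F = (2 ^ n) ^ 2) (t : ℕ) (x : F) :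
    x ^ (2 ^ (2 * n * t)) = x := by
  haveI : Fintype F := Fintype.ofFinite F
  have hx : x ^ (2 ^ (2 * n)) = x := by
    have := FiniteField.pow_card x
    rwa [← Nat.card_eq_fintype_card, hF, ← pow_mul, mul_comm] at this
  induction t with
  | zero => rw [mul_zero, pow_zero, pow_one]
  | succ t ih => rw [mul_add, mul_one, pow_add, pow_mul, ih, hx]

end frob

section functor

variable {F : Type*} [Field F] {σ : F →+* F} (h : Good σ)

theorem tauOf_mul (φ φ' : MulAut (TG h)) (a : F) :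
    tauOf h (φ * φ') a = tauOf h φ (tauOf h φ' a) := by
  have h1 : tauOf h (φ * φ') a = (φ (φ' (lift h a))).1.a := rfl
  rw [h1, phi_a h φ]
  rfl

theorem tauOf_one (a : F) : tauOf h (1 : MulAut (TG h)) a = a := lift_a h a

theorem tauOf_inv_apply (φ : MulAut (TG h)) (a : F) : tauOf h φ⁻¹ (tauOf h φ a) = a := by
  rw [← tauOf_mul, inv_mul_cancel, tauOf_one]

theorem tauOf_apply_inv (φ : MulAut (TG h)) (a : F) : tauOf h φ (tauOf h φ⁻¹ a) = a := by
  rw [← tauOf_mul, mul_inv_cancel, tauOf_one]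

/-- automorphisms trivial on the first coordinate fix the centre pointwise. -/
theorem fix_center_of_tauOf_id [Finite F] (φ : MulAut (TG h)) (hφ : ∀ a, tauOf h φ a = a)
    (z : TG h) (hz : z.1.a = 0) : φ z = z := by
  have hc := sigma_b_of_a_zero h z hz
  obtain ⟨l, hl, hσl⟩ := exists_sqrt h z.1.b hc
  have hz' : z = lift h l * lift h l := by
    rw [lift_mul_self]
    apply Subtype.ext
    ext
    · exact hz
    · show z.1.b = l * σ l
      rw [hσl, hl]
  rw [hz', map_mul]
  apply Subtype.ext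
  rw [Subgroup.coe_mul, mul_self_eq h, Subgroup.coe_mul, mul_self_eq h, lift_a]
  ext
  · rfl
  · show σ (tauOf h φ l) * tauOf h φ l = σ l * l
    rw [hφ]

/-- automorphisms trivial on the first coordinate are involutions. -/
theorem mul_self_of_tauOf_id [Finite F] (φ : MulAut (TG h)) (hφ : ∀ a, tauOf h φ a = a) :
    φ * φ = 1 := by
  ext g : 1
  show φ (φ g) = g
  have h1 : (g⁻¹ * φ g).1.a = 0 := by
    rw [Subgroup.coe_mul, mul_a, Subgroup.coe_inv, inv_a, phi_a h φ, hφ, h.neg_eq, h.add_self]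
  have h2 : φ g = g * (g⁻¹ * φ g) := by group
  have h3 := fix_center_of_tauOf_id h φ hφ _ h1
  have h4 : (g⁻¹ * φ g) * (g⁻¹ * φ g) = 1 := (coe_mul_self_eq_one_iff h _).2 h1
  calc φ (φ g) = φ (g * (g⁻¹ * φ g)) := by rw [← h2]
    _ = φ g * (g⁻¹ * φ g) := by rw [map_mul, h3]
    _ = g * ((g⁻¹ * φ g) * (g⁻¹ * φ g)) := by group
    _ = g := by rw [h4, mul_one]

end functor

section s3

variable {F : Type*} [Field F] {σ : F →+* F} {τ ρ : F → F}

/-- the ring endomorphism attached to an involutive `τ` fixes the fixed field. -/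
theorem Sim.exists_psi_of_invol (S : Sim σ τ ρ) (h : Good σ) [Finite F] {n : ℕ}
    (hσq : ∀ x, σ x = x ^ (2 ^ n)) (hF : Nat.card F = (2 ^ n) ^ 2) (hτ : ∀ a, τ (τ a) = a) :
    ∃ ψ : F →+* F, (∀ a, τ a = τ 1 * ψ a) ∧ ∀ c, σ c = c → ψ c = c := by
  obtain ⟨ψ, hψ⟩ := S.exists_ringHom h
  have hττ : ∀ a, τ 1 * ψ (τ 1) * ψ (ψ a) = a := by
    intro a
    have := hτ a
    rw [hψ (τ a), hψ a, map_mul] at this
    rw [mul_assoc]; exact this
  have hlψ : τ 1 * ψ (τ 1) = 1 := by
    have := hττ 1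
    rwa [map_one, map_one, mul_one] at this
  have hψψ : ∀ x, ψ (ψ x) = x := by
    intro x
    have := hττ x
    rwa [hlψ, one_mul] at this
  exact ⟨ψ, hψ, fun c hc => ringHom_fix_of_invol h.two hF ψ hψψ (by rw [← hσq, hc])⟩

/-- no symmetric group of degree three acts faithfully on the model group for `q = 4`. -/
theorem no_S3_aux (h : Good σ) [Finite F] (hσq : ∀ x, σ x = x ^ (2 ^ 2))
    (hF : Nat.card F = (2 ^ 2) ^ 2) (φs φt : MulAut (TG h)) (hs : φs ^ 3 = 1)
    (ht : φt ^ 2 = 1) (hst : φt * φs = φs⁻¹ * φt) : φs = 1 := by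
  obtain ⟨ψ, hψ⟩ := (simOf h φs).exists_ringHom h
  have hl0 : tauOf h φs 1 ≠ 0 := (simOf h φs).ne_zero one_ne_zero
  have hτ3 : ∀ a, tauOf h φs (tauOf h φs (tauOf h φs a)) = a := by
    intro a
    rw [← tauOf_mul, ← tauOf_mul]
    have : φs * φs * φs = 1 := by rw [← hs, pow_succ, pow_succ, pow_one]
    rw [this, tauOf_one]
  have hτ3' : ∀ a, tauOf h φs 1 * ψ (tauOf h φs 1) * ψ (ψ (tauOf h φs 1)) * ψ (ψ (ψ a)) = a := by
    intro a
    have := hτ3 a
    rw [hψ (tauOf h φs (tauOf h φs a)), hψ (tauOf h φs a), hψ a, map_mul, map_mul, map_mul] at this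
    linear_combination this
  have hl3 : tauOf h φs 1 * ψ (tauOf h φs 1) * ψ (ψ (tauOf h φs 1)) = 1 := by
    have := hτ3' 1
    rwa [map_one, map_one, map_one, mul_one] at this
  have hψ3 : ∀ x, ψ (ψ (ψ x)) = x := by
    intro x
    have := hτ3' x
    rwa [hl3, one_mul] at this
  obtain ⟨j, hj, hjm⟩ := ringHom_frob h.two hF ψ
  have h4 : 2 * 2 ∣ j * 3 := hjm 3 (fun x => by
    rw [Function.iterate_succ_apply', Function.iterate_succ_apply', Function.iterate_one]
    exact hψ3 x)
  have h4' : 4 ∣ j := by omega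
  obtain ⟨t, rfl⟩ := h4'
  have hψid : ∀ x, ψ x = x := by
    intro x
    rw [hj, show 4 * t = 2 * 2 * t by ring]
    exact pow_frob_mul hF t x
  have hτs : ∀ a, tauOf h φs a = tauOf h φs 1 * a := fun a => by rw [hψ a, hψid]
  have hlcube : tauOf h φs 1 * tauOf h φs 1 * tauOf h φs 1 = 1 := by
    simp only [hψid] at hl3
    exact hl3
  have hσl : σ (tauOf h φs 1) = tauOf h φs 1 := by
    rw [hσq, show (2 : ℕ) ^ 2 = 3 + 1 by norm_num, pow_succ, pow_succ, pow_succ, pow_one, hlcube,
      one_mul]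
  -- the involution
  have hτt2 : ∀ a, tauOf h φt (tauOf h φt a) = a := by
    intro a
    rw [← tauOf_mul]
    have : φt * φt = 1 := by rw [← ht, pow_succ, pow_one]
    rw [this, tauOf_one]
  obtain ⟨ψt, hψt, hfix⟩ := (simOf h φt).exists_psi_of_invol h hσq hF hτt2
  have hrel : tauOf h φs (tauOf h φt (tauOf h φs 1)) = tauOf h φt 1 := by
    have h5 : tauOf h (φt * φs) 1 = tauOf h (φs⁻¹ * φt) 1 := by rw [hst]
    rw [tauOf_mul, tauOf_mul] at h5
    rw [h5, tauOf_apply_inv]
  have hlt0 : tauOf h φt 1 ≠ 0 := (simOf h φt).ne_zero one_ne_zero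
  rw [hψt (tauOf h φs 1), hfix _ hσl, hτs] at hrel
  have hl2 : tauOf h φs 1 * tauOf h φs 1 = 1 * 1 := by
    have h6 : (tauOf h φs 1 * tauOf h φs 1 - 1) * tauOf h φt 1 = 0 := by
      linear_combination hrel
    rcases mul_eq_zero.1 h6 with h7 | h7
    · rw [one_mul]; exact sub_eq_zero.1 h7
    · exact absurd h7 hlt0
  have hl1 : tauOf h φs 1 = 1 := h.sq_inj hl2
  have hid : ∀ a, tauOf h φs a = a := fun a => by rw [hτs, hl1, one_mul]
  have hsq := mul_self_of_tauOf_id h φs hid
  have : φs ^ 3 = φs := by rw [pow_succ, pow_succ, pow_one, hsq, one_mul]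
  rw [← this, hs]

/-- the same for any group isomorphic to the model group. -/
theorem no_S3_of_equiv (h : Good σ) [Finite F] (hσq : ∀ x, σ x = x ^ (2 ^ 2))
    (hF : Nat.card F = (2 ^ 2) ^ 2) {T : Type*} [Group T] (e : T ≃* TG h)
    (H : Subgroup (MulAut T)) : ¬ Nonempty (↥H ≃* Equiv.Perm (Fin 3)) := by
  rintro ⟨f⟩
  let s : Equiv.Perm (Fin 3) := c[0, 1, 2]
  let t : Equiv.Perm (Fin 3) := Equiv.swap 0 1
  have hs : s ^ 3 = 1 := by decide
  have ht : t ^ 2 = 1 := by decide
  have hst : t * s = s⁻¹ * t := by decide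
  have hs1 : s ≠ 1 := by decide
  let E : ↥H →* MulAut (TG h) := (MulAut.congr e).toMonoidHom.comp H.subtype
  have hE : Function.Injective E := by
    intro x y hxy
    exact Subtype.ext ((MulAut.congr e).injective hxy)
  have h1 := no_S3_aux h hσq hF (E (f.symm s)) (E (f.symm t))
    (by rw [← map_pow, ← map_pow, hs, map_one, map_one])
    (by rw [← map_pow, ← map_pow, ht, map_one, map_one])
    (by rw [← map_mul, ← map_mul, hst, map_mul, map_mul, map_inv, map_inv])
  apply hs1
  have h2 : f.symm s = 1 := hE (by rw [h1, map_one])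
  rw [← f.apply_symm_apply s, h2, map_one]

end s3

end Cfsg.Agent.Lib.Helper18.SU3Model
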