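/-
helper18: the order of the automorphism group of the model group `TG h` of `SU3Model` and its
largest normal 2-subgroup (the central automorphisms).
-/
import Mathlib
import Cfsg.Prelude.Def_Transfer
import Cfsg.Agent.Lib.Helper16.PCore
import Cfsg.Agent.Lib.Helper18.SU3AutGrp

set_option autoImplicit false

namespace Cfsg.Agent.Lib.Helper18.SU3Model

section tauhom

variable {F : Type*} [Field F] {σ : F →+* F} (h : Good σ)

/-- the permutation of the first coordinates induced by an automorphism. -/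
noncomputable def tauPerm (φ : MulAut (TG h)) : Equiv.Perm F where
  toFun := tauOf h φ
  invFun := tauOf h φ⁻¹
  left_inv := tauOf_inv_apply h φ
  right_inv := tauOf_apply_inv h φ

/-- the action on first coordinates as a homomorphism. -/
noncomputable def tauHom : MulAut (TG h) →* Equiv.Perm F where
  toFun := tauPerm h
  map_one' := by
    ext a
    exact tauOf_one h a
  map_mul' φ φ' := by
    ext a
    exact tauOf_mul h φ φ' a

theorem tauHom_apply (φ : MulAut (TG h)) (a : F) : tauHom h φ a = tauOf h φ a := rfl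

theorem mem_ker_tauHom (φ : MulAut (TG h)) : φ ∈ (tauHom h).ker ↔ ∀ a, tauOf h φ a = a := by
  rw [MonoidHom.mem_ker]
  constructor
  · intro hφ a
    rw [← tauHom_apply, hφ]
    rfl
  · intro hφ
    ext a
    exact hφ a

theorem sq_of_mem_ker [Finite F] (φ : MulAut (TG h)) (hφ : φ ∈ (tauHom h).ker) : φ ^ 2 = 1 := by
  rw [sq]
  exact mul_self_of_tauOf_id h φ ((mem_ker_tauHom h φ).1 hφ)

theorem isPGroup_ker [Finite F] : IsPGroup 2 (tauHom h).ker := by
  intro φ
  refine ⟨1, ?_⟩
  apply Subtype.ext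
  rw [pow_one, Subgroup.coe_pow, Subgroup.coe_one]
  exact sq_of_mem_ker h φ.1 φ.2

end tauhom

/-- a subgroup of exponent two is commutative. -/
theorem isMulCommutative_of_sq {G : Type*} [Group G] (H : Subgroup G)
    (hH : ∀ a ∈ H, a ^ 2 = 1) : IsMulCommutative H := by
  refine ⟨⟨fun a b => ?_⟩⟩
  apply Subtype.ext
  rw [Subgroup.coe_mul, Subgroup.coe_mul]
  have hinv : ∀ x ∈ H, x⁻¹ = x := fun x hx => by
    rw [inv_eq_iff_mul_eq_one, ← sq]
    exact hH x hx
  calc (a : G) * b = ((a : G) * b)⁻¹ := (hinv _ (H.mul_mem a.2 b.2)).symm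
    _ = (b : G)⁻¹ * (a : G)⁻¹ := mul_inv_rev _ _
    _ = b * a := by rw [hinv _ a.2, hinv _ b.2]

/-- the number of additive maps between elementary abelian 2-groups. -/
theorem card_addMonoidHom_of_char_two {V W : Type*} [AddCommGroup V] [AddCommGroup W] [Finite V]
    [Finite W] (hV : ∀ x : V, x + x = 0) (hW : ∀ x : W, x + x = 0) {d e : ℕ}
    (cV : Nat.card V = 2 ^ d) (cW : Nat.card W = 2 ^ e) : Nat.card (V →+ W) = 2 ^ (d * e) := by
  letI : Module (ZMod 2) V := AddCommGroup.zmodModule (n := 2) (fun x => by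
    rw [two_nsmul]; exact hV x)
  letI : Module (ZMod 2) W := AddCommGroup.zmodModule (n := 2) (fun x => by
    rw [two_nsmul]; exact hW x)
  haveI : Fintype V := Fintype.ofFinite V
  rw [Nat.card_congr (AddMonoidHom.toZModLinearMapEquiv 2 (M := V) (M₁ := W)).toEquiv]
  have b := Module.finBasis (ZMod 2) V
  rw [← Nat.card_congr (b.constr (ZMod 2) (M' := W)).toEquiv, Nat.card_fun, cW, Nat.card_fin]
  have h3 := Module.card_eq_pow_finrank (K := ZMod 2) (V := V)
  rw [← Nat.card_eq_fintype_card, cV, ZMod.card] at h3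
  have h4 : d = Module.finrank (ZMod 2) V := Nat.pow_right_injective (le_refl 2) h3
  rw [← h4, ← pow_mul, mul_comm]

section central

variable {F : Type*} [Field F] {σ : F →+* F} (h : Good σ)

/-- the fixed field as an additive subgroup. -/
def fixAdd (σ : F →+* F) : AddSubgroup F where
  carrier := {c | σ c = c}
  add_mem' := by
    intro a b ha hb
    show σ (a + b) = a + b
    rw [map_add, show σ a = a from ha, show σ b = b from hb]
  zero_mem' := map_zero σ
  neg_mem' := by
    intro a ha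
    show σ (-a) = -a
    rw [map_neg, show σ a = a from ha]

theorem mem_fixAdd (c : F) : c ∈ fixAdd σ ↔ σ c = c := Iff.rfl

/-- the central factor `g⁻¹ φ(g)` for `g` the chosen lift of `a`. -/
noncomputable def zfun (φ : MulAut (TG h)) (a : F) : TG h := (lift h a)⁻¹ * φ (lift h a)

theorem inv_mul_phi_a (φ : MulAut (TG h)) (hφ : ∀ a, tauOf h φ a = a) (g : TG h) :
    (g⁻¹ * φ g).1.a = 0 := by
  rw [Subgroup.coe_mul, mul_a, Subgroup.coe_inv, inv_a, phi_a h φ, hφ, h.neg_eq, h.add_self]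

theorem inv_mul_phi_eq [Finite F] (φ : MulAut (TG h)) (hφ : ∀ a, tauOf h φ a = a) (g : TG h) :
    g⁻¹ * φ g = zfun h φ g.1.a := by
  have hz : ((lift h g.1.a)⁻¹ * g).1.a = 0 := by
    rw [Subgroup.coe_mul, mul_a, Subgroup.coe_inv, inv_a, lift_a, h.neg_eq, h.add_self]
  have hzc : (lift h g.1.a)⁻¹ * g ∈ Subgroup.center (TG h) := (mem_center_iff h _).2 hz
  have hfix := fix_center_of_tauOf_id h φ hφ _ hz
  have hg : g = lift h g.1.a * ((lift h g.1.a)⁻¹ * g) := by group
  have hcomm := Subgroup.mem_center_iff.1 hzc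
  unfold zfun
  calc g⁻¹ * φ g = g⁻¹ * φ (lift h g.1.a * ((lift h g.1.a)⁻¹ * g)) := by rw [← hg]
    _ = g⁻¹ * (φ (lift h g.1.a) * ((lift h g.1.a)⁻¹ * g)) := by rw [map_mul, hfix]
    _ = (g⁻¹ * φ (lift h g.1.a)) * ((lift h g.1.a)⁻¹ * g) := by rw [mul_assoc]
    _ = ((lift h g.1.a)⁻¹ * g) * (g⁻¹ * φ (lift h g.1.a)) := by rw [hcomm]
    _ = (lift h g.1.a)⁻¹ * φ (lift h g.1.a) := by group

theorem zfun_a (φ : MulAut (TG h)) (hφ : ∀ a, tauOf h φ a = a) (a : F) :
    (zfun h φ a).1.a = 0 := inv_mul_phi_a h φ hφ _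

theorem zfun_add [Finite F] (φ : MulAut (TG h)) (hφ : ∀ a, tauOf h φ a = a) (a a' : F) :
    zfun h φ (a + a') = zfun h φ a * zfun h φ a' := by
  have h1 := inv_mul_phi_eq h φ hφ (lift h a * lift h a')
  rw [Subgroup.coe_mul, mul_a, lift_a, lift_a] at h1
  rw [← h1]
  have hzc : zfun h φ a ∈ Subgroup.center (TG h) := (mem_center_iff h _).2 (zfun_a h φ hφ a)
  have hcomm := Subgroup.mem_center_iff.1 hzc
  unfold zfun at hcomm ⊢
  calc (lift h a * lift h a')⁻¹ * φ (lift h a * lift h a')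
      = (lift h a')⁻¹ * (((lift h a)⁻¹ * φ (lift h a)) * φ (lift h a')) := by
        rw [map_mul]; group
    _ = (lift h a')⁻¹ * (φ (lift h a') * ((lift h a)⁻¹ * φ (lift h a))) := by rw [hcomm]
    _ = ((lift h a')⁻¹ * φ (lift h a')) * ((lift h a)⁻¹ * φ (lift h a)) := by group
    _ = ((lift h a)⁻¹ * φ (lift h a)) * ((lift h a')⁻¹ * φ (lift h a')) := by rw [hcomm]

/-- the additive map attached to a central automorphism. -/
noncomputable def zetaOf [Finite F] (φ : MulAut (TG h)) (hφ : ∀ a, tauOf h φ a = a) :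
    F →+ fixAdd σ where
  toFun a := ⟨(zfun h φ a).1.b, sigma_b_of_a_zero h _ (zfun_a h φ hφ a)⟩
  map_zero' := by
    apply Subtype.ext
    show (zfun h φ 0).1.b = 0
    have h1 := zfun_add h φ hφ 0 0
    rw [add_zero] at h1
    have h2 : zfun h φ 0 = 1 := by
      have := congrArg (fun x => (zfun h φ 0)⁻¹ * x) h1
      simpa using this.symm
    rw [h2]
    rfl
  map_add' a a' := by
    apply Subtype.ext
    show (zfun h φ (a + a')).1.b = (zfun h φ a).1.b + (zfun h φ a').1.b
    rw [zfun_add h φ hφ, Subgroup.coe_mul, mul_b, zfun_a h φ hφ a, map_zero, zero_mul, add_zero]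

/-- the central element attached to an element of the fixed field. -/
def zcK (c : fixAdd σ) : TG h := zc h c.1 ((mem_fixAdd c.1).1 c.2)

theorem zcK_a (c : fixAdd σ) : (zcK h c).1.a = 0 := rfl

theorem zcK_b (c : fixAdd σ) : (zcK h c).1.b = c.1 := rfl

theorem zcK_mul_self (c : fixAdd σ) : zcK h c * zcK h c = 1 := zc_mul_self h _

theorem zcK_add (c c' : fixAdd σ) : zcK h (c + c') = zcK h c * zcK h c' := by
  unfold zcK
  rw [zc_mul_zc]
  rfl

theorem zcK_comm (c : fixAdd σ) (x : TG h) : x * zcK h c = zcK h c * x :=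
  Subgroup.mem_center_iff.1 ((mem_center_iff h _).2 (zcK_a h c)) x

theorem mul_zcK_a (g : TG h) (c : fixAdd σ) : (g * zcK h c).1.a = g.1.a := by
  rw [Subgroup.coe_mul, mul_a, zcK_a, add_zero]

/-- the central automorphism attached to an additive map. -/
noncomputable def centralAut (ζ : F →+ fixAdd σ) : MulAut (TG h) where
  toFun g := g * zcK h (ζ g.1.a)
  invFun g := g * zcK h (ζ g.1.a)
  left_inv g := by
    show g * zcK h (ζ g.1.a) * zcK h (ζ (g * zcK h (ζ g.1.a)).1.a) = g
    rw [mul_zcK_a, mul_assoc, zcK_mul_self, mul_one]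
  right_inv g := by
    show g * zcK h (ζ g.1.a) * zcK h (ζ (g * zcK h (ζ g.1.a)).1.a) = g
    rw [mul_zcK_a, mul_assoc, zcK_mul_self, mul_one]
  map_mul' g g' := by
    show g * g' * zcK h (ζ (g * g').1.a) = g * zcK h (ζ g.1.a) * (g' * zcK h (ζ g'.1.a))
    rw [Subgroup.coe_mul, mul_a, map_add, zcK_add, mul_assoc g, mul_assoc g, ← mul_assoc g',
      zcK_comm h _ g', mul_assoc]

theorem centralAut_apply (ζ : F →+ fixAdd σ) (g : TG h) :
    centralAut h ζ g = g * zcK h (ζ g.1.a) := rfl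

theorem tauOf_centralAut (ζ : F →+ fixAdd σ) (a : F) : tauOf h (centralAut h ζ) a = a := by
  show (centralAut h ζ (lift h a)).1.a = a
  rw [centralAut_apply, mul_zcK_a, lift_a]

/-- the central automorphisms are in bijection with the additive maps to the fixed field. -/
noncomputable def kerEquiv [Finite F] : (tauHom h).ker ≃ (F →+ fixAdd σ) where
  toFun φ := zetaOf h φ.1 ((mem_ker_tauHom h φ.1).1 φ.2)
  invFun ζ := ⟨centralAut h ζ, (mem_ker_tauHom h _).2 (tauOf_centralAut h ζ)⟩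
  left_inv φ := by
    apply Subtype.ext
    ext g : 1
    show centralAut h (zetaOf h φ.1 _) g = φ.1 g
    have hφ := (mem_ker_tauHom h φ.1).1 φ.2
    rw [centralAut_apply]
    have h1 : zcK h ((zetaOf h φ.1 hφ) g.1.a) = g⁻¹ * φ.1 g := by
      rw [inv_mul_phi_eq h φ.1 hφ g]
      apply Subtype.ext
      ext
      · exact (zfun_a h φ.1 hφ _).symm
      · rfl
    rw [h1]
    group
  right_inv ζ := by
    ext a
    show ((lift h a)⁻¹ * centralAut h ζ (lift h a)).1.b = (ζ a).1
    rw [centralAut_apply, ← mul_assoc, inv_mul_cancel, one_mul, lift_a]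
    rfl

theorem card_ker_tauHom [Finite F] {n : ℕ} (hk : Nat.card {c : F // σ c = c} = 2 ^ n)
    (hF : Nat.card F = (2 ^ n) ^ 2) : Nat.card (tauHom h).ker = 2 ^ (2 * n ^ 2) := by
  rw [Nat.card_congr (kerEquiv h)]
  have hW : Nat.card (fixAdd σ) = 2 ^ n := hk
  have hV : Nat.card F = 2 ^ (2 * n) := by rw [hF, ← pow_mul, mul_comm]
  rw [card_addMonoidHom_of_char_two (fun x => h.add_self x)
    (fun x => Subtype.ext (h.add_self x.1)) hV hW]
  congr 1
  ring

end central

section semilinear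

variable {F : Type*} [Field F] {σ : F →+* F} (h : Good σ)

/-- the semilinear endomorphism `(a, b) ↦ (l ψ a, l σ(l) ψ b)`. -/
def semiHom (l : F) (ψ : F →+* F) (hψ : ∀ x, ψ (σ x) = σ (ψ x)) : TG h →* TG h where
  toFun g := ⟨⟨l * ψ g.1.a, l * σ l * ψ g.1.b⟩, by
    have hg := (mem_T h).1 g.2
    rw [mem_T h]
    show l * σ l * ψ g.1.b + σ (l * σ l * ψ g.1.b) = l * ψ g.1.a * σ (l * ψ g.1.a)
    have h1 : ψ g.1.b + ψ (σ g.1.b) = ψ g.1.a * ψ (σ g.1.a) := by
      rw [← map_add, ← map_mul, hg]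
    rw [hψ, hψ] at h1
    rw [map_mul, map_mul, map_mul, h.invol]
    linear_combination (l * σ l) * h1⟩
  map_one' := by
    apply Subtype.ext
    ext
    · show l * ψ 0 = 0
      rw [map_zero, mul_zero]
    · show l * σ l * ψ 0 = 0
      rw [map_zero, mul_zero]
  map_mul' g g' := by
    apply Subtype.ext
    ext
    · show l * ψ (g.1.a + g'.1.a) = l * ψ g.1.a + l * ψ g'.1.a
      rw [map_add, mul_add]
    · show l * σ l * ψ (g.1.b + g'.1.b + σ g.1.a * g'.1.a) =
        l * σ l * ψ g.1.b + l * σ l * ψ g'.1.b + σ (l * ψ g.1.a) * (l * ψ g'.1.a)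
      rw [map_add, map_add, map_mul, map_mul, hψ]
      ring

theorem semiHom_a (l : F) (ψ : F →+* F) (hψ : ∀ x, ψ (σ x) = σ (ψ x)) (g : TG h) :
    (semiHom h l ψ hψ g).1.a = l * ψ g.1.a := rfl

theorem semiHom_b (l : F) (ψ : F →+* F) (hψ : ∀ x, ψ (σ x) = σ (ψ x)) (g : TG h) :
    (semiHom h l ψ hψ g).1.b = l * σ l * ψ g.1.b := rfl

theorem semiHom_bijective [Finite F] (l : F) (hl : l ≠ 0) (ψ : F →+* F)
    (hψ : ∀ x, ψ (σ x) = σ (ψ x)) : Function.Bijective (semiHom h l ψ hψ) := by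
  have hinj : Function.Injective (semiHom h l ψ hψ) := by
    intro g g' hgg
    have ha := congrArg (fun x : TG h => x.1.a) hgg
    have hb := congrArg (fun x : TG h => x.1.b) hgg
    simp only [semiHom_a, semiHom_b] at ha hb
    have hσl : σ l ≠ 0 := fun h0 => hl ((map_eq_zero σ).1 h0)
    apply Subtype.ext
    ext
    · exact ψ.injective (mul_left_cancel₀ hl ha)
    · exact ψ.injective (mul_left_cancel₀ (mul_ne_zero hl hσl) hb)
  exact ⟨hinj, Finite.injective_iff_surjective.1 hinj⟩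

/-- the semilinear automorphisms. -/
noncomputable def semiAut [Finite F] (l : F) (hl : l ≠ 0) (ψ : F →+* F)
    (hψ : ∀ x, ψ (σ x) = σ (ψ x)) : MulAut (TG h) :=
  MulEquiv.ofBijective (semiHom h l ψ hψ) (semiHom_bijective h l hl ψ hψ)

theorem tauOf_semiAut [Finite F] (l : F) (hl : l ≠ 0) (ψ : F →+* F)
    (hψ : ∀ x, ψ (σ x) = σ (ψ x)) (a : F) : tauOf h (semiAut h l hl ψ hψ) a = l * ψ a := by
  show (semiHom h l ψ hψ (lift h a)).1.a = l * ψ a
  rw [semiHom_a, lift_a]

theorem commutes_pow {n : ℕ} (hσq : ∀ x, σ x = x ^ (2 ^ n)) (ψ : F →+* F) (x : F) :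
    ψ (σ x) = σ (ψ x) := by
  rw [hσq, hσq, map_pow]

/-- the image of `tauHom` is parametrised by the pairs `(l, ψ)`. -/
theorem card_range_tauHom [Finite F] {n : ℕ} (hσq : ∀ x, σ x = x ^ (2 ^ n)) :
    Nat.card (tauHom h).range = Nat.card (Fˣ × (F ≃+* F)) := by
  symm
  apply Nat.card_congr
  refine Equiv.ofBijective (fun p => ⟨tauHom h (semiAut h (p.1 : F) p.1.ne_zero
    (p.2 : F →+* F) (commutes_pow hσq _)), MonoidHom.mem_range.2 ⟨_, rfl⟩⟩) ⟨?_, ?_⟩
  · rintro ⟨l, ψ⟩ ⟨l', ψ'⟩ hp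
    have hp' : ∀ a, (l : F) * ψ a = (l' : F) * ψ' a := by
      intro a
      have h1 := congrArg (fun x : (tauHom h).range => (x : Equiv.Perm F) a) hp
      simp only [tauHom_apply, tauOf_semiAut] at h1
      exact h1
    have hl : l = l' := by
      apply Units.ext
      have := hp' 1
      rwa [map_one, map_one, mul_one, mul_one] at this
    subst hl
    have hψ : ψ = ψ' := by
      ext a
      exact mul_left_cancel₀ l.ne_zero (hp' a)
    rw [hψ]
  · rintro ⟨π, φ, rfl⟩
    obtain ⟨ψ₀, hψ₀⟩ := (simOf h φ).exists_ringHom h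
    have hl0 : tauOf h φ 1 ≠ 0 := (simOf h φ).ne_zero one_ne_zero
    have hbij : Function.Bijective ψ₀ :=
      ⟨ψ₀.injective, Finite.injective_iff_surjective.1 ψ₀.injective⟩
    refine ⟨⟨Units.mk0 _ hl0, RingEquiv.ofBijective ψ₀ hbij⟩, ?_⟩
    apply Subtype.ext
    ext a
    show tauHom h (semiAut h _ _ _ _) a = tauHom h φ a
    rw [tauHom_apply, tauHom_apply, tauOf_semiAut, hψ₀ a]
    rfl

end semilinear

section order

variable {F : Type*} [Field F] {σ : F →+* F}

/-- a field with `(2 ^ n) ^ 2` elements has `2 n` automorphisms. -/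
theorem card_ringEquiv [Finite F] (h2 : (2 : F) = 0) {n : ℕ} (hF : Nat.card F = (2 ^ n) ^ 2) :
    Nat.card (F ≃+* F) = 2 * n := by
  haveI : CharP F 2 := CharTwo.of_one_ne_zero_of_two_eq_zero one_ne_zero h2
  letI : Algebra (ZMod 2) F := ZMod.algebra F 2
  haveI : Fintype F := Fintype.ofFinite F
  have hfin : Module.finrank (ZMod 2) F = 2 * n := by
    have h3 := Module.card_eq_pow_finrank (K := ZMod 2) (V := F)
    rw [← Nat.card_eq_fintype_card, hF, ZMod.card, ← pow_mul] at h3
    have := Nat.pow_right_injective (le_refl 2) h3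
    omega
  have e1 : (F ≃+* F) ≃ (F ≃ₐ[ZMod 2] F) :=
    { toFun := fun ψ => AlgEquiv.ofRingEquiv (f := ψ) (fun r => by
        have : (ψ : F →+* F).comp (algebraMap (ZMod 2) F) = algebraMap (ZMod 2) F :=
          Subsingleton.elim _ _
        exact RingHom.congr_fun this r)
      invFun := fun ψ => ψ.toRingEquiv
      left_inv := fun ψ => by ext; rfl
      right_inv := fun ψ => by ext; rfl }
  rw [Nat.card_congr e1, ← Nat.card_congr (Equiv.ofBijective _
    (FiniteField.bijective_frobeniusAlgEquivOfAlgebraic_pow (ZMod 2) F)), Nat.card_fin, hfin]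

theorem card_units_field [Finite F] {q : ℕ} (hF : Nat.card F = q ^ 2) :
    Nat.card Fˣ = q ^ 2 - 1 := by
  classical
  haveI : Fintype F := Fintype.ofFinite F
  rw [Nat.card_eq_fintype_card, Fintype.card_units, ← Nat.card_eq_fintype_card, hF]

variable (h : Good σ)

/-- the order of the automorphism group of the model group. -/
theorem card_mulAut [Finite F] {n : ℕ} (hσq : ∀ x, σ x = x ^ (2 ^ n))
    (hk : Nat.card {c : F // σ c = c} = 2 ^ n) (hF : Nat.card F = (2 ^ n) ^ 2) :
    Nat.card (MulAut (TG h)) = 2 ^ (2 * n ^ 2) * (2 * n * ((2 ^ n) ^ 2 - 1)) := by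
  have h1 := Subgroup.card_eq_card_quotient_mul_card_subgroup (tauHom h).ker
  rw [Nat.card_congr (QuotientGroup.quotientKerEquivRange (tauHom h)).toEquiv,
    card_range_tauHom h hσq, Nat.card_prod, card_units_field hF, card_ringEquiv h.two hF,
    card_ker_tauHom h hk hF] at h1
  rw [h1]
  ring

end order

section core

variable {F : Type*} [Field F] {σ : F →+* F} (h : Good σ)

/-- a multiplication `a ↦ ν a` induced by a 2-element is trivial. -/
theorem scalar_eq_one_of_two_pow [Finite F] {q : ℕ} (hq : Even q) (hF : Nat.card F = q ^ 2)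
    {ν : F} (hν0 : ν ≠ 0) {k : ℕ} (hν : ν ^ (2 ^ k) = 1) : ν = 1 := by
  haveI : Fintype F := Fintype.ofFinite F
  have h1 : ν ^ (q ^ 2 - 1) = 1 := by
    have := FiniteField.pow_card_sub_one_eq_one ν hν0
    rwa [← Nat.card_eq_fintype_card, hF] at this
  have hodd : Nat.Coprime (2 ^ k) (q ^ 2 - 1) := by
    apply Nat.Coprime.pow_left
    rw [Nat.coprime_two_left]
    obtain ⟨r, hr⟩ := hq
    have hq0 : 0 < q := by
      rcases Nat.eq_zero_or_pos q with h0 | h0
      · rw [h0] at hF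
        have := Nat.card_pos (α := F)
        omega
      · exact h0
    have : q ^ 2 = 2 * (r * q) := by rw [sq, hr]; ring
    have hpos : 0 < r * q := by
      have : 0 < r := by omega
      positivity
    rw [this]
    exact ⟨r * q - 1, by omega⟩
  have h2 : orderOf ν ∣ 1 := by
    rw [← Nat.Coprime.gcd_eq_one hodd]
    exact Nat.dvd_gcd (orderOf_dvd_of_pow_eq_one hν) (orderOf_dvd_of_pow_eq_one h1)
  exact orderOf_eq_one_iff.1 (Nat.dvd_one.1 h2)

theorem tauOf_pow (φ : MulAut (TG h)) (k : ℕ) (a : F) :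
    tauOf h (φ ^ k) a = (tauOf h φ)^[k] a := by
  induction k generalizing a with
  | zero => rw [pow_zero, tauOf_one]; rfl
  | succ k ih => rw [pow_succ, tauOf_mul, ih, Function.iterate_succ_apply]

/-- every normal 2-subgroup of the automorphism group acts trivially on the first coordinates. -/
theorem normal_two_le_ker [Finite F] {n : ℕ} (hn : 1 ≤ n) (hσq : ∀ x, σ x = x ^ (2 ^ n))
    (hF : Nat.card F = (2 ^ n) ^ 2) (N : Subgroup (MulAut (TG h))) (hN : N.Normal)
    (hN2 : IsPGroup 2 N) : N ≤ (tauHom h).ker := by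
  have hq : Even (2 ^ n) := (Nat.even_pow.2 ⟨even_two, by omega⟩)
  -- a scalar action by an element of `N` is trivial
  have hscal : ∀ c ∈ N, ∀ ν : F, ν ≠ 0 → (∀ a, tauOf h c a = ν * a) → ν = 1 := by
    intro c hc ν hν0 hcν
    obtain ⟨k, hk⟩ := hN2 ⟨c, hc⟩
    have hk' : c ^ (2 ^ k) = 1 := by
      have := congrArg Subtype.val hk
      rwa [Subgroup.coe_pow, Subgroup.coe_one] at this
    have h1 : ∀ m a, (tauOf h c)^[m] a = ν ^ m * a := by
      intro m
      induction m with
      | zero => intro a; rw [pow_zero, one_mul]; rfl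
      | succ m ih => intro a; rw [Function.iterate_succ_apply', ih, hcν, pow_succ]; ring
    have h2 := tauOf_pow h c (2 ^ k) 1
    rw [hk', tauOf_one, h1, mul_one] at h2
    exact scalar_eq_one_of_two_pow hq hF hν0 h2.symm
  intro φ hφ
  rw [mem_ker_tauHom]
  obtain ⟨ψ, hψ⟩ := (simOf h φ).exists_ringHom h
  have hμ0 : tauOf h φ 1 ≠ 0 := (simOf h φ).ne_zero one_ne_zero
  -- `ψ` is the identity
  have hψid : ∀ l : F, ψ l = l := by
    intro l
    by_cases hl : l = 0
    · rw [hl, map_zero]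
    · let m := semiAut h l hl (RingHom.id F) (fun x => rfl)
      have hm : ∀ a, tauOf h m a = l * a := fun a => tauOf_semiAut h l hl _ _ a
      have hc : φ * m * φ⁻¹ * m⁻¹ ∈ N := by
        have h1 : m * φ⁻¹ * m⁻¹ ∈ N := hN.conj_mem _ (N.inv_mem hφ) m
        have h2 : φ * m * φ⁻¹ * m⁻¹ = φ * (m * φ⁻¹ * m⁻¹) := by group
        rw [h2]
        exact N.mul_mem hφ h1
      have hminv : ∀ a, tauOf h m⁻¹ a = l⁻¹ * a := by
        intro a
        have h3 := tauOf_inv_apply h m (l⁻¹ * a)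
        rw [hm, ← mul_assoc, mul_inv_cancel₀ hl, one_mul] at h3
        exact h3
      have hcν : ∀ a, tauOf h (φ * m * φ⁻¹ * m⁻¹) a = (ψ l * l⁻¹) * a := by
        intro a
        rw [tauOf_mul, tauOf_mul, tauOf_mul, hminv, hm, hψ, map_mul]
        have h4 := tauOf_apply_inv h φ (l⁻¹ * a)
        rw [hψ] at h4
        linear_combination (ψ l) * h4
      have hψl0 : ψ l ≠ 0 := fun h0 => hl ((map_eq_zero ψ).1 h0)
      have := hscal _ hc (ψ l * l⁻¹) (mul_ne_zero hψl0 (inv_ne_zero hl)) hcν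
      rw [mul_inv_eq_one₀ hl] at this
      exact this
  have hμ : tauOf h φ 1 = 1 :=
    hscal φ hφ _ hμ0 (fun a => by rw [hψ a, hψid])
  intro a
  rw [hψ a, hμ, one_mul, hψid]

/-- the largest normal 2-subgroup of the automorphism group. -/
theorem pCore_mulAut [Finite F] {n : ℕ} (hn : 1 ≤ n) (hσq : ∀ x, σ x = x ^ (2 ^ n))
    (hF : Nat.card F = (2 ^ n) ^ 2) : Cfsg.pCore 2 (MulAut (TG h)) = (tauHom h).ker := by
  haveI : Fact (Nat.Prime 2) := ⟨Nat.prime_two⟩
  apply le_antisymm
  · apply normal_two_le_ker h hn hσq hF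
    · haveI := Cfsg.Agent.Lib.Helper16.pCore_characteristic (G := MulAut (TG h)) (p := 2)
      infer_instance
    · exact Cfsg.Agent.Lib.Helper16.pCore_isPGroup
  · exact Cfsg.Agent.Lib.Helper16.le_pCore inferInstance (isPGroup_ker h)

end core

section final

variable {F : Type*} [Field F] {σ : F →+* F} (h : Good σ)

/-- the structure of the automorphism group of any group isomorphic to the model group. -/
theorem aut_structure_of_equiv [Finite F] {n : ℕ} (hn : 1 ≤ n) (hσq : ∀ x, σ x = x ^ (2 ^ n))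
    (hk : Nat.card {c : F // σ c = c} = 2 ^ n) (hF : Nat.card F = (2 ^ n) ^ 2)
    {S : Type*} [Group S] (e : S ≃* TG h) :
    Cfsg.IsElementaryAbelian 2 (Cfsg.pCore 2 (MulAut S)) ∧
      Nat.card ↥(Cfsg.pCore 2 (MulAut S)) = 2 ^ (2 * n ^ 2) ∧
      Nat.card (MulAut S) = 2 ^ (2 * n ^ 2) * (2 * n * ((2 ^ n) ^ 2 - 1)) := by
  haveI : Fact (Nat.Prime 2) := ⟨Nat.prime_two⟩
  have hmap := Cfsg.Agent.Lib.Helper16.pCore_map_equiv (p := 2) (MulAut.congr e)
  rw [pCore_mulAut h hn hσq hF] at hmap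
  have hsq : ∀ a ∈ Cfsg.pCore 2 (MulAut S), a ^ 2 = 1 := by
    intro a ha
    have h1 : (MulAut.congr e) a ∈ (tauHom h).ker := by
      rw [← hmap]
      exact Subgroup.mem_map_of_mem _ ha
    have h2 := sq_of_mem_ker h _ h1
    rw [← map_pow] at h2
    exact (MulAut.congr e).injective (h2.trans (map_one _).symm)
  refine ⟨⟨isMulCommutative_of_sq _ hsq, hsq⟩, ?_, ?_⟩
  · rw [Nat.card_congr ((Cfsg.pCore 2 (MulAut S)).equivMapOfInjective
      (MulAut.congr e).toMonoidHom (MulAut.congr e).injective).toEquiv, hmap]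
    exact card_ker_tauHom h hk hF
  · rw [Nat.card_congr (MulAut.congr e).toEquiv]
    exact card_mulAut h hσq hk hF

end final

end Cfsg.Agent.Lib.Helper18.SU3Model
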