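/-
helper18: S2282 leaf (N3-3): the uniform triple of conjugate regular unipotents of `SU₃(q)` in the
antidiagonal model `UJ σ 3` (helper4's `SU3Mat` matrices).  For `l` with `σ l ≠ l` and a skew `θ ≠ 0`:
`g := θ / (l - 1)`, `a σ a = -(g + σ g)`, `u₁ = uU a g`, `v = vL a g = J₃ u₁ J₃⁻¹`, and
`t := uU a'' g'' * vL (a s) gk ∈ UJ σ 3` satisfy `(t v t⁻¹) e = l • (v e)`, so that
`b := v⁻¹ (t v t⁻¹)` fixes the line `<e>` with eigenvalue `l` (data of helper19's message 5633).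
-/
import Mathlib
import Cfsg.Agent.Lib.Helper4.SU3Mat
import Cfsg.Agent.Lib.Helper8.SUField
import Cfsg.Agent.Lib.Helper5.HermBridge

set_option autoImplicit false

namespace Cfsg.Agent.Lib.Helper18.SU3Triple

open Matrix Cfsg.Agent.Lib.Helper16.FusSU Cfsg.Agent.Lib.Helper4.SU3

variable {K : Type*} [Field K] {σ : K →+* K}

/-- conjugation inside the lower unipotent group -/
theorem vL_conj_vL (b gk a g : K) :
    vL σ b gk * vL σ a g * (vL σ b gk)⁻¹ = vL σ a (g + a * σ b - b * σ a) := by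
  rw [vL_mul, vL_inv, vL_mul]
  congr 1
  · ring
  · simp only [map_neg]; ring

theorem uUm_mulVec_eV (a g : K) : uUm σ a g *ᵥ (eV : Fin 3 → K) = eV := by
  rw [uUm_mulVec]
  ext i
  fin_cases i <;> simp [eV]

theorem vLm_mulVec_eV (a g : K) : vLm σ a g *ᵥ (eV : Fin 3 → K) = ![1, σ a, g] := by
  rw [vLm_mulVec]
  ext i
  fin_cases i <;> simp [eV]

/-- **N3-3, model-free form.** -/
theorem triple_core (hσ : ∀ x, σ (σ x) = x) {l θ a s gk : K} (hl : σ l ≠ l) (hθ0 : θ ≠ 0)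
    (hθ : σ θ = -θ)
    (ha : a * σ a = -(θ / (l - 1) + σ (θ / (l - 1))))
    (hs : σ s - s = θ / (a * σ a))
    (hgk : gk + σ gk + (a * s) * σ (a * s) = 0) :
    ∃ (g : K) (t : SpecialLinearGroup (Fin 3) K), t ∈ UJ σ 3 ∧ a ≠ 0 ∧
      g + σ g + a * σ a = 0 ∧
      ((t * vL σ a g * t⁻¹ : SpecialLinearGroup (Fin 3) K) : Matrix (Fin 3) (Fin 3) K) *ᵥ
        (eV : Fin 3 → K) = l • (vLm σ a g *ᵥ (eV : Fin 3 → K)) := by
  have hl1 : l - 1 ≠ 0 := by
    intro h
    apply hl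
    have : l = 1 := by linear_combination h
    rw [this, map_one]
  have hl0 : l ≠ 0 := by
    intro h
    apply hl
    rw [h, map_zero]
  have hsl1 : σ l - 1 ≠ 0 := by
    intro h
    apply hl1
    have h1 : σ (σ l) = σ 1 := by rw [show σ l = 1 by linear_combination h]
    rw [hσ, map_one] at h1
    rw [h1, sub_self]
  obtain ⟨g, hgdef⟩ : ∃ g, g = θ / (l - 1) := ⟨_, rfl⟩
  have hg0 : g ≠ 0 := by rw [hgdef]; exact div_ne_zero hθ0 hl1
  have hσg : σ g = -θ / (σ l - 1) := by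
    rw [hgdef, map_div₀, map_sub, map_one, hθ]
  have hN : g + σ g + a * σ a = 0 := by rw [ha, ← hgdef]; ring
  have hsum : g + σ g ≠ 0 := by
    rw [hσg, hgdef]
    have : θ / (l - 1) + -θ / (σ l - 1) = θ * (σ l - l) / ((l - 1) * (σ l - 1)) := by
      field_simp
      ring
    rw [this]
    exact div_ne_zero (mul_ne_zero hθ0 (sub_ne_zero.mpr hl)) (mul_ne_zero hl1 hsl1)
  have hNN : a * σ a ≠ 0 := by
    intro h
    apply hsum
    linear_combination hN - h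
  have ha0 : a ≠ 0 := left_ne_zero_of_mul hNN
  -- `G = g + θ = l g`
  have hG : g + θ = l * g := by
    rw [hgdef]
    field_simp
    ring
  have hG0 : g + θ ≠ 0 := by rw [hG]; exact mul_ne_zero hl0 hg0
  have hσg0 : σ g ≠ 0 := (map_ne_zero σ).2 hg0
  have hσG : σ (g + θ) = σ g - θ := by rw [map_add, hθ]; ring
  have hσG0 : σ g - θ ≠ 0 := by rw [← hσG]; exact (map_ne_zero σ).2 hG0
  -- the element `y`
  obtain ⟨a2, ha2⟩ : ∃ a2, a2 = a * θ / (σ g * (σ g - θ)) := ⟨_, rfl⟩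
  obtain ⟨g2, hg2⟩ : ∃ g2, g2 = 1 / g - 1 / (g + θ) - a2 * σ a / (g + θ) := ⟨_, rfl⟩
  have hσa2 : σ a2 = -(σ a * θ) / (g * (g + θ)) := by
    rw [ha2, map_div₀, map_mul, map_mul, map_sub, hσ, hθ]
    congr 1
    · ring
    · ring
  have hσg' : σ g = -g - a * σ a := by linear_combination hN
  have hy : g2 + σ g2 + a2 * σ a2 = 0 := by
    have e1 : σ g2 = 1 / σ g - 1 / (σ g - θ) - σ a2 * a / (σ g - θ) := by
      rw [hg2, map_sub, map_sub, map_div₀, map_div₀, map_div₀, map_mul, hσ, map_one, hσG]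
    rw [e1, hσa2, hg2, ha2]
    rw [hσg'] at hσg0 hσG0 ⊢
    field_simp
    ring
  -- the element `k`
  have hk : vL σ (a * s) gk * vL σ a g * (vL σ (a * s) gk)⁻¹ = vL σ a (g + θ) := by
    rw [vL_conj_vL]
    congr 1
    have : a * σ (a * s) - a * s * σ a = a * σ a * (σ s - s) := by rw [map_mul]; ring
    have hσa0 : σ a ≠ 0 := right_ne_zero_of_mul hNN
    have e3 : a * σ a * (θ / (a * σ a)) = θ := by field_simp
    rw [add_sub_assoc, this, hs, e3]
  refine ⟨g, uU σ a2 g2 * vL σ (a * s) gk, ?_, ha0, hN, ?_⟩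
  · exact Subgroup.mul_mem _ (uU_mem hσ hy) (vL_mem hσ hgk)
  · have e2 : uU σ a2 g2 * vL σ (a * s) gk * vL σ a g * (uU σ a2 g2 * vL σ (a * s) gk)⁻¹
        = uU σ a2 g2 * (vL σ (a * s) gk * vL σ a g * (vL σ (a * s) gk)⁻¹) * (uU σ a2 g2)⁻¹ := by
      group
    rw [e2, hk, uU_inv, Matrix.SpecialLinearGroup.coe_mul, Matrix.SpecialLinearGroup.coe_mul,
      uU_coe, uU_coe, vL_coe, ← Matrix.mulVec_mulVec, ← Matrix.mulVec_mulVec, uUm_mulVec_eV,
      vLm_mulVec_eV, vLm_mulVec_eV, uUm_mulVec]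
    have h0 : 1 + a2 * σ a + g2 * (g + θ) = l * 1 := by
      rw [hg2]
      field_simp
      linear_combination hG
    have h1 : σ a - σ a2 * (g + θ) = l * σ a := by
      rw [hσa2]
      field_simp
      linear_combination (σ a) * hG
    rw [Matrix.smul_vec3]
    simp only [Matrix.cons_val_zero, Matrix.cons_val_one, Matrix.cons_val_two, Matrix.head_cons,
      Matrix.tail_cons, smul_eq_mul]
    rw [h0, h1, hG]


/-- the same statement for `b := v⁻¹ * (t v t⁻¹)`: `b e = l e` -/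
theorem triple_core' (hσ : ∀ x, σ (σ x) = x) {l θ a s gk : K} (hl : σ l ≠ l) (hθ0 : θ ≠ 0)
    (hθ : σ θ = -θ)
    (ha : a * σ a = -(θ / (l - 1) + σ (θ / (l - 1))))
    (hs : σ s - s = θ / (a * σ a))
    (hgk : gk + σ gk + (a * s) * σ (a * s) = 0) :
    ∃ (g : K) (t : SpecialLinearGroup (Fin 3) K), t ∈ UJ σ 3 ∧ a ≠ 0 ∧
      g + σ g + a * σ a = 0 ∧
      (((vL σ a g)⁻¹ * (t * vL σ a g * t⁻¹) : SpecialLinearGroup (Fin 3) K) :
        Matrix (Fin 3) (Fin 3) K) *ᵥ (eV : Fin 3 → K) = l • (eV : Fin 3 → K) := by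
  obtain ⟨g, t, ht, ha0, hN, h⟩ := triple_core hσ hl hθ0 hθ ha hs hgk
  refine ⟨g, t, ht, ha0, hN, ?_⟩
  rw [Matrix.SpecialLinearGroup.coe_mul, ← Matrix.mulVec_mulVec, h, Matrix.mulVec_smul,
    ← vL_coe, Matrix.mulVec_mulVec, ← Matrix.SpecialLinearGroup.coe_mul, inv_mul_cancel,
    Matrix.SpecialLinearGroup.coe_one, Matrix.one_mulVec]

/-- the third generator as a conjugate of `uU a g` -/
theorem conj_J3 (t : SpecialLinearGroup (Fin 3) K) (a g : K) :
    (t * J3) * uU σ a g * (t * J3)⁻¹ = t * vL σ a g * t⁻¹ := by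
  rw [← J3_conj_uU]
  group

section Packaged

open Cfsg.Agent.Lib.Helper5.HermBridge Cfsg.Agent.Lib.Helper8.SUField

variable {F : Type*} [Field F] [Fintype F] {q : ℕ}

theorem frobHom_invol (hF : Fintype.card F = q ^ 2) (x : F) :
    frobHom hF (frobHom hF x) = x :=
  Cfsg.Agent.Lib.Helper5.HermBridge.pow_q_pow_q hF x

/-- **N3-3** for `σ = frobHom hF`: for every `l` outside the fixed field there are `a ≠ 0`, `g` with
`g + g^q + a a^q = 0` and `t ∈ UJ σ 3` such that `b := (vL a g)⁻¹ * (t * vL a g * t⁻¹)` satisfies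
`b e = l e`.  Here `vL a g = J₃ (uU a g) J₃⁻¹` and `t * vL a g * t⁻¹ = (t J₃) (uU a g) (t J₃)⁻¹`. -/
theorem triple (hF : Fintype.card F = q ^ 2) {l : F} (hl : l ^ q ≠ l) :
    ∃ (a g : F) (t : SpecialLinearGroup (Fin 3) F), t ∈ UJ (frobHom hF) 3 ∧ a ≠ 0 ∧
      g + frobHom hF g + a * frobHom hF a = 0 ∧
      (((vL (frobHom hF) a g)⁻¹ * (t * vL (frobHom hF) a g * t⁻¹) :
        SpecialLinearGroup (Fin 3) F) : Matrix (Fin 3) (Fin 3) F) *ᵥ (eV : Fin 3 → F)
          = l • (eV : Fin 3 → F) := by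
  obtain ⟨θ, ζ, hθ0, hθ, -, -, -⟩ := exists_skew_gen hF
  have hfix : (-(θ / (l - 1) + frobHom hF (θ / (l - 1)))) ^ q
      = -(θ / (l - 1) + frobHom hF (θ / (l - 1))) := by
    show frobHom hF (-(θ / (l - 1) + frobHom hF (θ / (l - 1)))) = _
    rw [map_neg, map_add, frobHom_invol]
    ring
  obtain ⟨a, ha⟩ := exists_norm_eq_fixed hF _ hfix
  have hsk : (θ / (a * frobHom hF a)) ^ q = -(θ / (a * frobHom hF a)) := by
    show frobHom hF (θ / (a * frobHom hF a)) = _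
    rw [map_div₀, map_mul, frobHom_invol]
    have : frobHom hF θ = -θ := hθ
    rw [this, mul_comm (frobHom hF a) a, neg_div]
  obtain ⟨s, hs⟩ := exists_frob_sub_eq hF _ hsk
  have hfix2 : (-((a * s) * frobHom hF (a * s))) ^ q = -((a * s) * frobHom hF (a * s)) := by
    show frobHom hF (-((a * s) * frobHom hF (a * s))) = _
    rw [map_neg, map_mul, frobHom_invol]
    ring
  obtain ⟨gk, hgk⟩ := exists_trace_eq hF _ hfix2
  obtain ⟨g, t, ht, ha0, hN, h⟩ := triple_core' (σ := frobHom hF) (frobHom_invol hF)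
    (l := l) (θ := θ) (a := a) (s := s) (gk := gk) hl hθ0 hθ ha hs
    (by
      have : gk + frobHom hF gk = -((a * s) * frobHom hF (a * s)) := hgk
      rw [this]; ring)
  exact ⟨a, g, t, ht, ha0, hN, h⟩

end Packaged

end Cfsg.Agent.Lib.Helper18.SU3Triple
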