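import Mathlib
import Cfsg.Prelude
import Cfsg.Agent.Lib.Helper19.MinNormalPower
import Cfsg.Agent.Lib.Helper12.Cores
import Cfsg.Agent.Lib.Helper18.SylowTransport

/-!
# A simple normal subgroup of odd index

Let `X` be a finite group with `O(X) = 1` and no subgroup of index two, in which all involutions
are conjugate, some two involutions do not commute, and the Sylow 2-subgroup is cyclic modulo any
normal subgroup containing all involutions.  Then a minimal normal subgroup of `X` is a non-abelian
simple group of odd index.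
-/

set_option autoImplicit false

namespace Cfsg.Agent.Lib.Helper18

open Subgroup

/-- centralizers in a direct power -/
theorem card_centralizer_pi {ι : Type*} [Fintype ι] {T : Type*} [Group T] (f : ι → T) :
    Nat.card (centralizer ({f} : Set (ι → T))) =
      ∏ i, Nat.card (centralizer ({f i} : Set T)) := by
  rw [← Nat.card_pi]
  apply Nat.card_congr
  exact
    { toFun := fun g i => ⟨g.1 i, by
        have := mem_centralizer_singleton_iff.mp g.2
        rw [mem_centralizer_singleton_iff]
        exact congrFun this i⟩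
      invFun := fun g => ⟨fun i => (g i).1, by
        rw [mem_centralizer_singleton_iff]
        funext i
        exact mem_centralizer_singleton_iff.mp (g i).2⟩
      left_inv := fun g => rfl
      right_inv := fun g => rfl }

/-- automorphisms preserve the order of centralizers -/
theorem card_centralizer_map_equiv {P : Type*} [Group P] (ψ : P ≃* P) (a : P) :
    Nat.card (centralizer ({ψ a} : Set P)) = Nat.card (centralizer ({a} : Set P)) := by
  symm
  apply Nat.card_congr
  refine Equiv.subtypeEquiv ψ.toEquiv (fun g => ?_)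
  show g ∈ centralizer ({a} : Set P) ↔ ψ g ∈ centralizer ({ψ a} : Set P)
  rw [mem_centralizer_singleton_iff, mem_centralizer_singleton_iff, ← map_mul, ← map_mul,
    ψ.injective.eq_iff]

/-- no automorphism of `T^(k+2)` maps `(t,1,…,1)` to `(t,…,t)` unless `t` is central -/
theorem central_of_aut_single_const {T : Type*} [Group T] [Finite T] (k : ℕ) (t : T)
    (ψ : (Fin (k + 2) → T) ≃* (Fin (k + 2) → T))
    (hψ : ψ (Pi.mulSingle 0 t) = fun _ => t) (s : T) : s * t = t * s := by
  have h1 := card_centralizer_map_equiv ψ (Pi.mulSingle 0 t)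
  rw [hψ, card_centralizer_pi, card_centralizer_pi] at h1
  have h2 : ∀ i : Fin (k + 1), Nat.card (centralizer ({(Pi.mulSingle (0 : Fin (k + 2)) t :
      Fin (k + 2) → T) i.succ} : Set T)) = Nat.card T := by
    intro i
    rw [Pi.mulSingle_eq_of_ne (Fin.succ_ne_zero i)]
    have : centralizer ({(1 : T)} : Set T) = ⊤ := by
      rw [eq_top_iff]
      intro g _
      rw [mem_centralizer_singleton_iff]; simp
    rw [this, Subgroup.card_top]
  have hL : ∏ _i : Fin (k + 2), Nat.card (centralizer ({t} : Set T)) =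
      Nat.card (centralizer ({t} : Set T)) ^ (k + 2) := by
    rw [Finset.prod_const, Finset.card_univ, Fintype.card_fin]
  have hR : ∏ i : Fin (k + 2), Nat.card (centralizer ({(Pi.mulSingle (0 : Fin (k + 2)) t :
      Fin (k + 2) → T) i} : Set T)) = Nat.card (centralizer ({t} : Set T)) * Nat.card T ^ (k + 1) := by
    rw [Fin.prod_univ_succ, Pi.mulSingle_eq_same]
    congr 1
    rw [Finset.prod_congr rfl (fun i _ => h2 i), Finset.prod_const, Finset.card_univ,
      Fintype.card_fin]
  rw [hL, hR] at h1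
  have hc : 0 < Nat.card (centralizer ({t} : Set T)) := Nat.card_pos
  have h3 : Nat.card (centralizer ({t} : Set T)) ^ (k + 1) = Nat.card T ^ (k + 1) := by
    rw [pow_succ _ (k + 1), mul_comm] at h1
    exact Nat.eq_of_mul_eq_mul_left hc h1
  have h4 : Nat.card (centralizer ({t} : Set T)) = Nat.card T :=
    Nat.pow_left_injective (Nat.succ_ne_zero k) h3
  have h5 : centralizer ({t} : Set T) = ⊤ := Subgroup.eq_top_of_card_eq _ h4
  have : s ∈ centralizer ({t} : Set T) := by rw [h5]; trivial
  exact mem_centralizer_singleton_iff.mp this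

/-- **A simple normal subgroup of odd index.** -/
theorem exists_simple_normal_odd_index {X : Type*} [Group X] [Finite X] (S : Sylow 2 X)
    (hcore : Cfsg.oddCore X = ⊥)
    (hX : ∀ H : Subgroup X, H.index ≠ 2)
    (t₀ : X) (ht₀ : orderOf t₀ = 2) (hconj : ∀ t : X, orderOf t = 2 → IsConj t₀ t)
    (a b : X) (ha : orderOf a = 2) (hb : orderOf b = 2) (hab : a * b ≠ b * a)
    (g₀ : X) (hg₀S : g₀ ∈ (S : Subgroup X))
    (hg₀ : ∀ N : Subgroup X, N.Normal → (∀ t : X, orderOf t = 2 → t ∈ N) →
      ∀ s ∈ (S : Subgroup X), ∃ k : ℤ, (g₀ ^ k)⁻¹ * s ∈ N) :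
    ∃ L : Subgroup X, L.Normal ∧ Odd L.index ∧ IsSimpleGroup L ∧ ¬ IsMulCommutative L := by
  have : Fact (Nat.Prime 2) := ⟨Nat.prime_two⟩
  have hnt : Nontrivial X := ⟨⟨t₀, 1, by intro e; rw [e, orderOf_one] at ht₀; omega⟩⟩
  -- a minimal normal subgroup
  obtain ⟨N, -, hNmin⟩ := Finite.exists_le_minimal
    (p := fun M : Subgroup X => M.Normal ∧ M ≠ ⊥) (a := ⊤) ⟨inferInstance, top_ne_bot⟩
  obtain ⟨⟨hNn, hNne⟩, hNle⟩ := hNmin
  have hmin : ∀ M : Subgroup X, M.Normal → M ≤ N → M = ⊥ ∨ M = N := by
    intro M hM hMN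
    by_cases h : M = ⊥
    · exact Or.inl h
    · exact Or.inr (le_antisymm hMN (hNle ⟨hM, h⟩ hMN))
  have hNeven : 2 ∣ Nat.card N := by
    by_contra h2
    apply hNne
    rw [eq_bot_iff, ← hcore]
    exact Cfsg.Agent.Lib.Helper12.le_pPrimeCore 2 N hNn
      ((Nat.Prime.coprime_iff_not_dvd Nat.prime_two).mpr h2).symm
  obtain ⟨n, hn⟩ := exists_prime_orderOf_dvd_card' (G := ↥N) 2 hNeven
  have hn' : orderOf (n : X) = 2 := by rw [Subgroup.orderOf_coe]; exact hn
  have hinvN : ∀ t : X, orderOf t = 2 → t ∈ N := by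
    intro t ht
    obtain ⟨g, hg⟩ := isConj_iff.mp (hconj (n : X) hn')
    obtain ⟨g', hg'⟩ := isConj_iff.mp (hconj t ht)
    have : t = (g' * g⁻¹) * (n : X) * (g' * g⁻¹)⁻¹ := by rw [← hg, ← hg']; group
    rw [this]; exact hNn.conj_mem _ n.2 _
  have haN := hinvN a ha
  have hbN := hinvN b hb
  obtain ⟨T, m, -, -, hTs, hm, ⟨e⟩⟩ :=
    Cfsg.Agent.Lib.Helper19.exists_simple_pi_equiv_of_minNormal N hNne hmin
  have hTnc : ¬ ∀ s t : ↥T, s * t = t * s := by
    intro hc
    apply hab
    have h1 : e ⟨a, haN⟩ * e ⟨b, hbN⟩ = e ⟨b, hbN⟩ * e ⟨a, haN⟩ := by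
      funext i; exact hc _ _
    rw [← map_mul, ← map_mul] at h1
    have := congrArg Subtype.val (e.injective h1)
    simpa using this
  have hm1 : m = 1 := by
    by_contra hne
    obtain ⟨k, rfl⟩ : ∃ k, m = k + 2 := ⟨m - 2, by omega⟩
    have hf1 : e n ≠ 1 := by
      intro h
      have := e.injective (h.trans (map_one e).symm)
      rw [this, orderOf_one] at hn; omega
    have hn2 : n * n = 1 := by
      have : n ^ 2 = 1 := by rw [← hn]; exact pow_orderOf_eq_one n
      rwa [pow_two] at this
    have hff : e n * e n = 1 := by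
      rw [← map_mul, hn2, map_one]
    obtain ⟨i, hi⟩ : ∃ i, e n i ≠ 1 := by
      by_contra hcon
      push Not at hcon
      exact hf1 (funext hcon)
    have htt : e n i * e n i = 1 := congrFun hff i
    obtain ⟨t, ht⟩ : ∃ t : ↥T, t = e n i := ⟨_, rfl⟩
    rw [← ht] at hi htt
    have ho : ∀ f : Fin (k + 2) → ↥T, f ≠ 1 → f * f = 1 →
        orderOf ((e.symm f : ↥N) : X) = 2 := by
      intro f hf1 hff
      rw [Subgroup.orderOf_coe]
      apply orderOf_eq_prime
      · rw [pow_two, ← map_mul, hff, map_one]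
      · intro h
        apply hf1
        have := congrArg e h
        simpa using this
    have hA := ho (Pi.mulSingle 0 t)
      (by intro h; apply hi; have := congrFun h 0; simpa using this)
      (by rw [← Pi.mulSingle_mul, htt, Pi.mulSingle_one])
    have hB := ho (fun _ => t) (by intro h; apply hi; exact congrFun h 0)
      (by funext j; exact htt)
    obtain ⟨g, hg⟩ := isConj_iff.mp (hconj _ hA)
    obtain ⟨g', hg'⟩ := isConj_iff.mp (hconj _ hB)
    have hAB : (g' * g⁻¹) * ((e.symm (Pi.mulSingle 0 t) : ↥N) : X) * (g' * g⁻¹)⁻¹ =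
        ((e.symm (fun _ => t) : ↥N) : X) := by
      rw [← hg, ← hg']; group
    have hψ : ((e.symm.trans (MulAut.conjNormal (g' * g⁻¹) : MulAut ↥N)).trans e)
        (Pi.mulSingle 0 t) = fun _ => t := by
      show e ((MulAut.conjNormal (g' * g⁻¹) : MulAut ↥N) (e.symm (Pi.mulSingle 0 t))) = _
      have : (MulAut.conjNormal (g' * g⁻¹) : MulAut ↥N) (e.symm (Pi.mulSingle 0 t)) =
          e.symm (fun _ => t) := by
        apply Subtype.ext
        rw [MulAut.conjNormal_apply]; exact hAB
      rw [this, MulEquiv.apply_symm_apply]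
    have hcen := central_of_aut_single_const k t _ hψ
    have := hTs
    have hcT : t ∈ center ↥T := by rw [mem_center_iff]; intro s; exact hcen s
    have hctop : center ↥T = ⊤ :=
      (IsSimpleGroup.eq_bot_or_eq_top_of_normal (center ↥T) inferInstance).resolve_left
        (by intro h; rw [h, mem_bot] at hcT; exact hi hcT)
    apply hTnc
    intro s t'
    have hs : s ∈ center ↥T := by rw [hctop]; trivial
    exact (mem_center_iff.mp hs t').symm
  subst hm1
  refine ⟨N, hNn, ?_, ?_, ?_⟩
  · by_contra hodd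
    rw [Nat.not_odd_iff_even] at hodd
    have hYeven : 2 ∣ Nat.card (X ⧸ N) := even_iff_two_dvd.mp hodd
    have hPcyc : IsCyclic ↥((S.mapSurjective (QuotientGroup.mk'_surjective N) :
        Sylow 2 (X ⧸ N)) : Subgroup (X ⧸ N)) := by
      have hmem : QuotientGroup.mk' N g₀ ∈ ((S.mapSurjective (QuotientGroup.mk'_surjective N) :
          Sylow 2 (X ⧸ N)) : Subgroup (X ⧸ N)) := by
        rw [Sylow.coe_mapSurjective]; exact ⟨g₀, hg₀S, rfl⟩
      refine ⟨⟨⟨QuotientGroup.mk' N g₀, hmem⟩, ?_⟩⟩
      rintro ⟨y, hy⟩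
      rw [Sylow.coe_mapSurjective] at hy
      obtain ⟨s, hs, rfl⟩ := hy
      obtain ⟨k, hk⟩ := hg₀ N hNn hinvN s hs
      refine ⟨k, ?_⟩
      apply Subtype.ext
      simp only [Subgroup.coe_zpow]
      rw [← map_zpow]
      exact (QuotientGroup.eq.mpr hk)
    have h2 : (Nat.card (X ⧸ N)).minFac = 2 := (Nat.minFac_eq_two_iff _).mpr hYeven
    have hcompl := IsCyclic.isComplement' h2 hPcyc
    obtain ⟨j, hj⟩ := (S.mapSurjective (QuotientGroup.mk'_surjective N) :
        Sylow 2 (X ⧸ N)).2.exists_card_eq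
    have hj1 : j ≠ 0 := by
      intro h0
      rw [h0, pow_zero] at hj
      have := (S.mapSurjective (QuotientGroup.mk'_surjective N) :
        Sylow 2 (X ⧸ N)).dvd_card_of_dvd_card hYeven
      rw [hj] at this; omega
    obtain ⟨j', rfl⟩ : ∃ j', j = j' + 1 := ⟨j - 1, by omega⟩
    obtain ⟨H, hH⟩ := exists_index_two_of_normal_index_pow _ j'
      (hcompl.symm.index_eq_card.trans hj)
    apply hX (H.comap (QuotientGroup.mk' N))
    rw [Subgroup.index_comap_of_surjective _ (QuotientGroup.mk'_surjective N)]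
    exact hH
  · have := hTs
    exact (e.trans (MulEquiv.funUnique (Fin 1) ↥T)).isSimpleGroup
  · intro hc
    apply hab
    have := (isMulCommutative_iff.mp hc) ⟨a, haN⟩ ⟨b, hbN⟩
    simpa using congrArg Subtype.val this

end Cfsg.Agent.Lib.Helper18
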