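import Mathlib
import Cfsg.Agent.Lib.Helper18.SimsQ
import Cfsg.Agent.Lib.Helper18.Sims4Asm
import Cfsg.Agent.Lib.Helper15.SIMS3Q2
import Cfsg.Agent.Lib.Helper14.SIMS3SETUP1
import Cfsg.Agent.Lib.Helper15.SIMS3SETUP2
import Cfsg.Agent.Lib.Helper15.SIMS3CENT
import Cfsg.Agent.Lib.Helper12.SIMS3KT
import Cfsg.Agent.Lib.Helper10.SIMS3QIDA
import Cfsg.Agent.Lib.Helper29.SIMS3QIDB

set_option autoImplicit false

/-!
Helper18 library: ASSEMBLY of S2772 ("Sims' theorem in local form") from the 7 leaves of the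
"SIMS3" market over `SimsQ` (Tutte-Sims generator data for an odd prime index `q`) and the
identification lemmas of `Sims4Asm` (S3685).  See `notes/S2772_leaves.lean` for the mathematics.
-/

namespace Cfsg.Agent.Lib.Helper18.Sims5

open Cfsg Cfsg.Agent.Lib.Helper29.TWPair MulAction Cfsg.Agent.Lib.Helper18.Sims3
  Cfsg.Agent.Lib.Helper18.SimsQ
open Cfsg.Agent.Lib.Helper15.SIMS3Q2 (card_of_dihedral_quotient)
open Cfsg.Agent.Lib.Helper14.SIMS3SETUP1 (exists_pair)
open Cfsg.Agent.Lib.Helper15.SIMS3SETUP2 (coreIn_sylow_eq)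
open Cfsg.Agent.Lib.Helper15.SIMS3CENT (centralizer_pCore_ambient)
open Cfsg.Agent.Lib.Helper12.SIMS3KT (transport_centralizer)
open Cfsg.Agent.Lib.Helper10.SIMS3QIDA (three_le_of_centralizer)
open Cfsg.Agent.Lib.Helper29.SIMS3QIDB (q_eq_three)

variable {G : Type*} [Group G]

/-- FINAL: S2772 (ambient group `G`, maximal subgroup `A`). -/
theorem sims_local {G : Type*} [Group G] [Finite G] [IsSimpleGroup G] (hna : ¬ IsMulCommutative G)
    (A : Subgroup G) (hA : IsCoatom A)
    (hchar : Subgroup.centralizer (Cfsg.pCore 2 ↥A : Set ↥A) ≤ Cfsg.pCore 2 ↥A) (S : Sylow 2 ↥A)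
    (hN : ¬ Subgroup.normalizer (((S : Subgroup ↥A).map A.subtype : Subgroup G) : Set G) ≤ A)
    (q : ℕ) (hq : q.Prime) (hD : Nonempty (↥A ⧸ Cfsg.pCore 2 ↥A ≃* DihedralGroup q)) :
    Nonempty (↥A ≃* Equiv.Perm (Fin 4)) ∨
      Nonempty (↥A ≃* Equiv.Perm (Fin 4) × Multiplicative (ZMod 2)) := by
  obtain ⟨hq2, hcard⟩ := card_of_dihedral_quotient q hq hD
  obtain ⟨u, hu, hP, hinf, hidx⟩ := exists_pair hna A hA S hN q hq hq2 hcard
  have hcoreS := coreIn_sylow_eq A S
  set S' : Subgroup G := (S : Subgroup ↥A).map A.subtype with hS'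
  set O : Subgroup G := (Cfsg.pCore 2 ↥A).map A.subtype with hO
  have hS'A : S' ≤ A := by
    rw [← hinf]; exact inf_le_left
  have hcardO : Nat.card ↥O = Nat.card ↥(Cfsg.pCore 2 ↥A) :=
    Nat.card_congr ((Cfsg.pCore 2 ↥A).equivMapOfInjective _ A.subtype_injective).symm.toEquiv
  -- `|S'| = 2 |O|`
  have hcS : Nat.card ↥S' * q = Nat.card ↥A := by
    have := Helper4.card_mul_relIndex hS'A
    rwa [hidx] at this
  have hcS2 : Nat.card ↥S' = 2 * Nat.card ↥O := by
    rw [hcard, ← hcardO] at hcS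
    have : Nat.card ↥S' * q = 2 * Nat.card ↥O * q := by rw [hcS]; ring
    exact Nat.eq_of_mul_eq_mul_right hq.pos this
  have hOS : O ≤ S' := by
    rw [← hcoreS]; exact coreIn_le_right _ _
  have hidxO : O.relIndex S' = 2 := by
    have := Helper4.card_mul_relIndex hOS
    rw [hcS2] at this
    have hpos : 0 < Nat.card ↥O := Nat.card_pos
    have h2 : Nat.card ↥O * O.relIndex S' = Nat.card ↥O * 2 := by rw [this]; ring
    exact Nat.eq_of_mul_eq_mul_left hpos h2
  -- the Tutte-Sims setting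
  have hTS : TSq q A (cj u A) := by
    refine ⟨hP, ?_, ?_, ?_, ?_, ?_⟩
    · rw [hinf]
      exact (S.isPGroup').map _
    · rw [hinf]; exact hidx
    · rw [hinf]
      have := Subgroup.relIndex_map_map_of_injective S' A (f := (MulAut.conj u).toMonoidHom)
        (MulAut.conj u).injective
      have hu' : S'.map (MulAut.conj u).toMonoidHom = S' := hu
      rw [hu', hidx] at this
      exact this
    · rw [hinf, hcoreS]; exact hidxO
    · rw [hinf]
      have h1 : coreIn (cj u A) S' = cj u (coreIn A S') := by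
        have := coreIn_map_conj A S' u
        have hu' : S'.map (MulAut.conj u).toMonoidHom = S' := hu
        rw [hu'] at this
        exact this.symm
      rw [h1, hcoreS]
      have := Subgroup.relIndex_map_map_of_injective O S' (f := (MulAut.conj u).toMonoidHom)
        (MulAut.conj u).injective
      have hu' : S'.map (MulAut.conj u).toMonoidHom = S' := hu
      rw [hu', hidxO] at this
      exact this
  obtain ⟨n, h1, h4, hn, hcA, g, x, hd, hH0, hH1⟩ := hTS.data hq hq2
  -- the centralizer condition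
  have hCA : ∀ y ∈ A, (∀ k ∈ coreIn A (A ⊓ cj u A), y * k = k * y) →
      y ∈ coreIn A (A ⊓ cj u A) := by
    rw [hinf, hcoreS]
    exact centralizer_pCore_ambient A hchar
  have hC := transport_centralizer hd h1 (g ^ (n + 1)) hH0 hH1 inf_le_left hTS.coreA hn hCA
  have h3 := three_le_of_centralizer hd h1 h4 hC
  have e : ↥A ≃* ↥(Hx x 0 n) := by
    rw [hH0]
    exact A.equivMapOfInjective _ (MulAut.conj (g ^ (n + 1))).injective
  have hcH : Nat.card ↥(Hx x 0 n) = 2 ^ n * q := by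
    rw [← hcA]
    exact (Nat.card_congr e.toEquiv).symm
  have hq3 := q_eq_three hd h3 h4 q hq hq2 hcH hC
  subst hq3
  obtain ⟨l, hl, hnc, -, -, e3, e4⟩ :=
    Cfsg.Agent.Lib.Helper23.SIMS2LAM.lam_eq hd h1 h4
  rcases (by omega : n = 3 ∨ n = 4) with rfl | rfl
  · left
    obtain rfl := e3 rfl
    obtain ⟨f⟩ := Cfsg.Agent.Lib.Helper18.Sims4.iso_three hd hl hnc (by rw [hcH]; norm_num)
    exact ⟨e.trans f⟩
  · right
    obtain rfl := e4 rfl
    obtain ⟨f⟩ := Cfsg.Agent.Lib.Helper18.Sims4.iso_four hd hl hnc (by rw [hcH]; norm_num)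
    exact ⟨e.trans f⟩

end Cfsg.Agent.Lib.Helper18.Sims5
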