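import Mathlib
import Cfsg.Prelude.Def_ClassicalGeometry
import Cfsg.Prelude.Def_GeometricClasses
import Cfsg.Agent.Lib.Helper5.SpMax
import Cfsg.Agent.Lib.Helper22.C3sDefs
import Cfsg.Agent.Lib.Helper22.C3sTool
import Cfsg.Agent.Lib.Helper22.C3sD3
import Cfsg.Agent.Lib.Helper1.C3sP
import Cfsg.Agent.Lib.Helper23.C3sE
import Cfsg.Agent.Lib.Helper7.C3sL0
import Cfsg.Agent.Lib.Helper7.C3sA

/-!
helper18: S5789 leaf K4 (`Sp_2(q²).2 < Sp_4(q)`, `q ≥ 4` even): the degree-two characteristic-two step of S5664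
without any bound on `m` (it needs three distinct field elements instead), and the row conjunct.
-/

set_option autoImplicit false
set_option linter.unusedSectionVars false
set_option linter.unusedVariables false
set_option linter.unusedSimpArgs false

namespace Cfsg.Agent.Lib.Helper18.Sp4ELeaf
open Cfsg Matrix Module Cfsg.Agent.Lib.Helper5 Cfsg.Agent.Lib.Helper5.SpMax
  Cfsg.Agent.Lib.Helper22.C3 Cfsg.Agent.Lib.Helper22.C3s Cfsg.Agent.Lib.Helper22.C3sLeaf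

universe u
variable {F : Type u} [Field F] {m : ℕ} {E : Type u} [Field E] [Algebra F E]

local notation "𝕍" => (Fin m ⊕ Fin m → F)
local notation "𝕄" => Matrix (Fin m ⊕ Fin m) (Fin m ⊕ Fin m) F

/-- the commutator identity (pure linear algebra, characteristic two) -/
lemma k4_identity (hch : (2 : F) = 0) {v w₂ : 𝕍} (hvw : sympForm m F v w₂ = 0) (n₀ t₀ l₀ δ : F) :
    Emat (w₂ + δ • v) (n₀ • v + t₀ • (w₂ + δ • v)) l₀ * Emat w₂ (n₀ • v + t₀ • w₂) l₀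
        * Emat v ((l₀ * δ) • w₂) (l₀ * δ * l₀)
      = ((tvc v (l₀ * δ * (δ + l₀)) : GL (Fin m ⊕ Fin m) F) : 𝕄) := by
  have hwv : sympForm m F w₂ v = 0 := by rw [sympForm_swap, hvw, neg_zero]
  apply mat_eq_of_mulVec
  intro y
  rw [← Matrix.mulVec_mulVec, ← Matrix.mulVec_mulVec, Emat_mulVec v, Emat_mulVec w₂, Emat_mulVec,
    tvc_mulVec]
  simp only [sympForm_add_left, sympForm_add_right, sympForm_smul_left, sympForm_smul_right,
    sympForm_self, hvw, hwv, smul_add, smul_smul, mul_zero, zero_mul, add_zero, zero_add]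
  ext i
  simp only [Pi.add_apply, Pi.smul_apply, smul_eq_mul]
  generalize sympForm m F y v = x1
  generalize sympForm m F y w₂ = x2
  generalize v i = V
  generalize w₂ i = W
  linear_combination (V*l₀*x2*δ + V*n₀*x1*δ + V*n₀*x2 + V*t₀*x1*δ^2 + V*t₀*x2*δ + W*l₀*x1*δ + W*l₀*x2
    + W*n₀*x1 + W*t₀*x1*δ + 2*W*t₀*x2) * hch

/-- scaled version of `kt_eq_Emat` -/
lemma k4_kt_smul (S : KS m F E) (hr2 : finrank F E = 2) (hch : (2 : F) = 0) (hm : 0 < m) (u : 𝕍)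
    {κ₀ ξ₁ : E} (hκ₀ : κ₀ ≠ 0) (hτκ : S.τ κ₀ = 0) (hτξ : S.τ ξ₁ = 1) {c : F} (hc : c ≠ 0) :
    ((S.kt u (c • κ₀⁻¹) : GL (Fin m ⊕ Fin m) F) : 𝕄)
      = Emat u (c • S.act (κ₀⁻¹ * ξ₁) u) (c * S.τ (κ₀⁻¹ * ξ₁ * ξ₁)) := by
  have hκ' : c⁻¹ • κ₀ ≠ 0 := smul_ne_zero (inv_ne_zero hc) hκ₀
  have hτ' : S.τ (c⁻¹ • κ₀) = 0 := by rw [map_smul, hτκ, smul_zero]
  have h := kt_eq_Emat S hr2 hch hm u hκ' hτ' hτξ
  have e1 : (c⁻¹ • κ₀)⁻¹ = c • κ₀⁻¹ := by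
    rw [Algebra.smul_def, Algebra.smul_def, mul_inv, ← map_inv₀, inv_inv]
  rw [e1] at h
  rw [h]
  congr 1
  · rw [smul_mul_assoc, S.act_smul]
  · rw [smul_mul_assoc, smul_mul_assoc, map_smul, smul_eq_mul]

/-- D3 without a bound on `m`: degree two, characteristic two, at least three non-zero... field elements -/
theorem tvc_mem_of_deg_two' (S : KS m F E) (hr2 : finrank F E = 2) (hch : (2 : F) = 0)
    (hsq : ∀ x : F, ∃ y, y ^ 2 = x) (hex : ∀ s : F, ∃ a : F, a ≠ 0 ∧ a ≠ s)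
    (hm : 0 < m) (M : Subgroup (GL (Fin m ⊕ Fin m) F)) (hMS : M ≤ spGL m F)
    (hM : ∀ g ∈ spGL m F, (∀ e : E, (g : 𝕄) * S.ρ e = S.ρ e * (g : 𝕄)) → g ∈ M)
    {v₀ : 𝕍} (hv₀ : v₀ ≠ 0) {g : GL (Fin m ⊕ Fin m) F} (hg : g ∈ M)
    (h1 : S.line v₀ ⊓ img g (S.line v₀) ≠ ⊥)
    (hnp : ¬ img g (S.line v₀) ≤ perp (S.line v₀)) :
    ∃ v : 𝕍, v ≠ 0 ∧ ∃ c : F, c ≠ 0 ∧ tvc v c ∈ M := by
  have hm0 : 0 < m := hm
  have hfin := S.finite hm0
  have hgS : g ∈ spGL m F := hMS hg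
  have h2E : (2 : E) = 0 := by
    have := congrArg (algebraMap F E) hch
    rwa [map_ofNat, map_zero] at this
  -- a common vector
  obtain ⟨v, hv, hv0⟩ := (Submodule.ne_bot_iff _).mp h1
  obtain ⟨hvL, hvg⟩ := Submodule.mem_inf.mp hv
  obtain ⟨u₀, hu₀L, hgu₀⟩ := mem_img.mp hvg
  have hu₀0 : u₀ ≠ 0 := by
    rintro rfl
    apply hv0
    rw [← hgu₀, Matrix.mulVec_zero]
  have hLv : S.line v = S.line v₀ := S.line_eq_of_mem hvL hv0
  have hLu : S.line u₀ = S.line v₀ := S.line_eq_of_mem hu₀L hu₀0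
  -- ξ₁ and κ₀
  obtain ⟨ξ₁, hξ₁⟩ : ∃ ξ₁ : E, S.τ ξ₁ = 1 := by
    obtain ⟨b, hb⟩ := S.exists_tau_ne hv0 (one_ne_zero : (1 : E) ≠ 0)
    rw [one_mul] at hb
    exact ⟨(S.τ b)⁻¹ • b, by rw [map_smul, smul_eq_mul, inv_mul_cancel₀ hb]⟩
  obtain ⟨κ₀, hκ₀, hτκ⟩ : ∃ κ₀ : E, κ₀ ≠ 0 ∧ S.τ κ₀ = 0 := by
    have h2 := LinearMap.finrank_range_add_finrank_ker S.τ
    have h3 : finrank F (LinearMap.range S.τ) ≤ 1 := by
      have := Submodule.finrank_le (LinearMap.range S.τ)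
      rwa [Module.finrank_self] at this
    have h4 : 0 < finrank F (LinearMap.ker S.τ) := by omega
    obtain ⟨⟨k, hk⟩, hk0⟩ := (Module.finrank_pos_iff_exists_ne_zero).mp h4
    exact ⟨k, fun h => hk0 (Subtype.ext h), hk⟩
  set ω : E := κ₀⁻¹ * ξ₁ with hω
  set l₀ : F := S.τ (κ₀⁻¹ * ξ₁ * ξ₁) with hl₀
  have hτωκ : S.τ (ω * κ₀) = 1 := by
    have : ω * κ₀ = ξ₁ := by rw [hω]; field_simp
    rw [this, hξ₁]
  -- every element of E is s + t ω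
  have hbasis : ∀ e : E, ∃ s t : F, e = algebraMap F E s + t • ω := by
    intro e
    set φ : E →ₗ[F] F := S.τ.comp (LinearMap.mulRight F κ₀) with hφ
    have hφ1 : φ ω = 1 := by rw [hφ]; simpa using hτωκ
    have hφone : φ 1 = 0 := by rw [hφ]; simpa using hτκ
    have hφe : φ (e - φ e • ω) = 0 := by
      rw [map_sub, map_smul, hφ1, smul_eq_mul, mul_one, sub_self]
    obtain ⟨c, hc⟩ := ker_eq_span hr2 φ hφ1 one_ne_zero hφone _ hφe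
    refine ⟨c, φ e, ?_⟩
    rw [Algebra.algebraMap_eq_smul_one, ← hc]
    abel
  obtain ⟨n₀, t₀, hω2⟩ := hbasis (ω * ω)
  -- l₀ ≠ 0
  have hl₀0 : l₀ ≠ 0 := by
    intro h0
    obtain ⟨c, hc⟩ := ker_eq_span hr2 S.τ hξ₁ hκ₀ hτκ (κ₀⁻¹ * ξ₁ * ξ₁) h0
    obtain ⟨b, hb⟩ := hsq c
    have e1 : ω * ω = algebraMap F E c := by
      have : ω * ω = (κ₀⁻¹ * ξ₁ * ξ₁) * κ₀⁻¹ := by rw [hω]; ring
      rw [this, hc, Algebra.smul_def, mul_assoc, mul_inv_cancel₀ hκ₀, mul_one]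
    have e2 : (ω - algebraMap F E b) ^ 2 = 0 := by
      have : (ω - algebraMap F E b) ^ 2 = ω * ω + algebraMap F E (b ^ 2)
          - 2 * (ω * algebraMap F E b) := by rw [map_pow]; ring
      rw [this, e1, hb, h2E, zero_mul, sub_zero, ← two_mul, h2E, zero_mul]
    have e3 : ω = algebraMap F E b := sub_eq_zero.mp ((pow_eq_zero_iff (two_ne_zero)).mp e2)
    have e4 : ξ₁ = b • κ₀ := by
      have : ξ₁ = ω * κ₀ := by rw [hω]; field_simp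
      rw [this, e3, Algebra.smul_def]
    rw [e4, map_smul, hτκ, smul_zero] at hξ₁
    exact zero_ne_one hξ₁
  -- w₂, β, γ
  set w₂ : 𝕍 := (g : 𝕄) *ᵥ (S.act ω u₀) with hw₂
  have hvw₂ : sympForm m F v w₂ = 0 := by
    rw [← hgu₀, hw₂, mem_spGL.mp hgS, S.form_act_right, S.alt, mul_zero, map_zero]
  have hw₂v : sympForm m F w₂ v = 0 := by rw [sympForm_swap, hvw₂, neg_zero]
  set β : E := S.fE w₂ v with hβdef
  have hβ : β ≠ 0 := by
    intro hβ0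
    apply hnp
    intro x hx
    obtain ⟨y, hy, rfl⟩ := mem_img.mp hx
    rw [← hLu] at hy
    obtain ⟨e, rfl⟩ := S.mem_line.mp hy
    obtain ⟨s, t, rfl⟩ := hbasis e
    rw [← hLv, S.mem_perp_line hv0, S.act_add, S.act_algebraMap, S.act_smul, Matrix.mulVec_add,
      Matrix.mulVec_smul, Matrix.mulVec_smul, hgu₀, S.add_left, S.fE_fsmul_left', S.fE_fsmul_left',
      S.alt, ← hw₂, ← hβdef, hβ0, smul_zero, smul_zero, add_zero]
  set γ : F := sympForm m F w₂ (S.act ω v) with hγdef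
  have hγ : γ ≠ 0 := by
    intro hγ0
    apply hβ
    apply S.tau_nondeg hv0
    intro b
    obtain ⟨s, t, rfl⟩ := hbasis b
    have e1 : S.τ β = 0 := by rw [hβdef, ← S.form_eq', hw₂v]
    have e2 : S.τ (ω * β) = 0 := by rw [hβdef, ← S.form_act_right, ← hγdef, hγ0]
    rw [mul_add, map_add, mul_comm β (algebraMap F E s), ← Algebra.smul_def, map_smul, e1,
      mul_smul_comm, map_smul, mul_comm β ω, e2, smul_zero, smul_zero, add_zero]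
  -- the parameter a
  obtain ⟨a, ha0, has⟩ := hex (l₀ / γ)
  set δ : F := a * γ with hδ
  -- the elements
  have hA : ((S.kt v (a • κ₀⁻¹) : GL (Fin m ⊕ Fin m) F) : 𝕄) = Emat v (a • S.act ω v) (a * l₀) :=
    k4_kt_smul S hr2 hch hm0 v hκ₀ hτκ hξ₁ ha0
  have hAM : S.kt v (a • κ₀⁻¹) ∈ M := S.kt_mem_of M hM _ _
  have hAS : S.kt v (a • κ₀⁻¹) ∈ spGL m F := S.kt_mem _ _
  have hd0 : l₀ * δ ≠ 0 := mul_ne_zero hl₀0 (mul_ne_zero ha0 hγ)
  obtain ⟨Bd, hBd⟩ : ∃ Bd : GL (Fin m ⊕ Fin m) F, Bd = g * S.kt u₀ ((l₀ * δ) • κ₀⁻¹) * g⁻¹ := ⟨_, rfl⟩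
  have hBM : Bd ∈ M := by
    rw [hBd]; exact M.mul_mem (M.mul_mem hg (S.kt_mem_of M hM _ _)) (M.inv_mem hg)
  have hB : (Bd : 𝕄) = Emat v ((l₀ * δ) • w₂) (l₀ * δ * l₀) := by
    rw [hBd, Units.val_mul, Units.val_mul, k4_kt_smul S hr2 hch hm0 u₀ hκ₀ hτκ hξ₁ hd0,
      Emat_conj hgS, hgu₀, Matrix.mulVec_smul]
  obtain ⟨h', hh'⟩ : ∃ h' : GL (Fin m ⊕ Fin m) F, h' = g * S.kt (S.act ω u₀) κ₀⁻¹ * g⁻¹ := ⟨_, rfl⟩
  have hh'M : h' ∈ M := by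
    rw [hh']; exact M.mul_mem (M.mul_mem hg (S.kt_mem_of M hM _ _)) (M.inv_mem hg)
  have hh'v : (h' : 𝕄) = Emat w₂ (n₀ • v + t₀ • w₂) l₀ := by
    rw [hh', Units.val_mul, Units.val_mul, kt_eq_Emat S hr2 hch hm0 _ hκ₀ hτκ hξ₁, Emat_conj hgS,
      ← S.act_mul, hω2, S.act_add, S.act_algebraMap, S.act_smul, Matrix.mulVec_add,
      Matrix.mulVec_smul, Matrix.mulVec_smul, hgu₀]
  -- the action of A on v and w₂
  have hvωv : sympForm m F v (S.act ω v) = 0 := by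
    rw [S.form_act_right, S.alt, mul_zero, map_zero]
  have hAv : ((S.kt v (a • κ₀⁻¹) : GL (Fin m ⊕ Fin m) F) : 𝕄) *ᵥ v = v := by
    rw [hA, Emat_mulVec, sympForm_self, sympForm_smul_right, hvωv]
    simp
  have hAw : ((S.kt v (a • κ₀⁻¹) : GL (Fin m ⊕ Fin m) F) : 𝕄) *ᵥ w₂ = w₂ + δ • v := by
    rw [hA, Emat_mulVec, hw₂v, sympForm_smul_right, ← hγdef, hδ]
    simp
  -- the conjugate
  have hconj : ((S.kt v (a • κ₀⁻¹) * h' * (S.kt v (a • κ₀⁻¹))⁻¹ : GL (Fin m ⊕ Fin m) F) : 𝕄)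
      = Emat (w₂ + δ • v) (n₀ • v + t₀ • (w₂ + δ • v)) l₀ := by
    rw [Units.val_mul, Units.val_mul, hh'v, Emat_conj hAS, Matrix.mulVec_add, Matrix.mulVec_smul,
      Matrix.mulVec_smul, hAv, hAw]
  refine ⟨v, hv0, l₀ * δ * (δ + l₀), ?_, ?_⟩
  · refine mul_ne_zero hd0 ?_
    intro h0
    apply has
    have : l₀ = -(a * γ) := by rw [hδ] at h0; linear_combination h0
    have hneg : -(a * γ) = a * γ := by
      have : a * γ + a * γ = 0 := by rw [← two_mul, hch, zero_mul]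
      linear_combination -this
    rw [this, hneg, mul_div_cancel_right₀ _ hγ]
  · have hprod : ((S.kt v (a • κ₀⁻¹) * h' * (S.kt v (a • κ₀⁻¹))⁻¹ * h' * Bd :
        GL (Fin m ⊕ Fin m) F) : 𝕄) = ((tvc v (l₀ * δ * (δ + l₀)) : GL (Fin m ⊕ Fin m) F) : 𝕄) := by
      rw [Units.val_mul, Units.val_mul, hconj, hh'v, hB]
      exact k4_identity hch hvw₂ n₀ t₀ l₀ δ
    have := Units.ext hprod
    rw [← this]
    exact M.mul_mem (M.mul_mem (M.mul_mem (M.mul_mem hAM hh'M) (M.inv_mem hAM)) hh'M) hBM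

/-- **K4**: conjunct (3) of S5789 -/
theorem c3s_max4 {F : Type*} [Field F] [Fintype F] (heven : ¬ Odd (Fintype.card F)) (h4 : 4 ≤ Fintype.card F)
    (K : Subalgebra F (Matrix (Fin 2 ⊕ Fin 2) (Fin 2 ⊕ Fin 2) F)) (hK : Cfsg.Geo.IsFieldSubalgebra 2 K)
    (hsa : Cfsg.Geo.IsSelfAdjointFor (Cfsg.sympForm 2 F) K)
    (halt : ∀ k ∈ K, ∀ v : (Fin 2 ⊕ Fin 2 → F), (Cfsg.sympForm 2 F) (Matrix.mulVec k v) v = 0) :
    Cfsg.Geo.IsMaximalIn (Cfsg.spGL 2 F) (Cfsg.Geo.subalgebraNormalizer K ⊓ Cfsg.spGL 2 F) := by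
  classical
  have hchar : ringChar F = 2 :=
    FiniteField.even_card_iff_char_two.mpr (Nat.even_iff.mp (Nat.not_odd_iff_even.mp heven))
  have hch : (2 : F) = 0 := by
    have := ringChar.of_eq hchar
    have := CharP.cast_eq_zero F 2
    exact_mod_cast this
  have hsq : ∀ x : F, ∃ y, y ^ 2 = x := fun x => by
    obtain ⟨r, hr⟩ := FiniteField.isSquare_of_char_two hchar x
    exact ⟨r, by rw [pow_two]; exact hr.symm⟩
  have hex : ∀ s : F, ∃ a : F, a ≠ 0 ∧ a ≠ s := by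
    intro s
    by_contra hcon
    push Not at hcon
    have hsub : (Finset.univ : Finset F) ⊆ {0, s} := by
      intro a _
      by_cases ha : a = 0
      · simp [ha]
      · simp [hcon a ha]
    have h1 := Finset.card_le_card hsub
    have h2 : ({0, s} : Finset F).card ≤ 2 := Finset.card_le_two
    rw [Finset.card_univ] at h1
    omega
  obtain ⟨E, instE, instA, S, hρ, hfr⟩ := Cfsg.Agent.Lib.Helper7.C3sLeaf.exists_KS (by omega : 0 < 2) 2 K hK hsa halt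
  have h2E : 2 ≤ finrank F E := by rw [hfr]
  -- a non-zero vector
  obtain ⟨v₀, hv₀⟩ : ∃ v₀ : Fin 2 ⊕ Fin 2 → F, v₀ ≠ 0 := by
    refine ⟨Pi.single (Sum.inl ⟨0, by omega⟩) 1, ?_⟩
    intro h
    have := congrFun h (Sum.inl ⟨0, by omega⟩)
    simp at this
  -- elements of Sp commuting with E lie in the normaliser
  have hcomm : ∀ g ∈ spGL 2 F,
      (∀ e : E, (g : Matrix (Fin 2 ⊕ Fin 2) (Fin 2 ⊕ Fin 2) F) * S.ρ e
        = S.ρ e * (g : Matrix (Fin 2 ⊕ Fin 2) (Fin 2 ⊕ Fin 2) F)) →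
      g ∈ Cfsg.Geo.subalgebraNormalizer K ⊓ spGL 2 F := by
    intro g hg hc
    refine ⟨?_, hg⟩
    have key : ∀ k ∈ K, (g : Matrix (Fin 2 ⊕ Fin 2) (Fin 2 ⊕ Fin 2) F) * k *
        ((g⁻¹ : GL (Fin 2 ⊕ Fin 2) F) : Matrix (Fin 2 ⊕ Fin 2) (Fin 2 ⊕ Fin 2) F) = k := by
      intro k hk
      rw [← hρ] at hk
      obtain ⟨e, rfl⟩ := hk
      change (g : Matrix (Fin 2 ⊕ Fin 2) (Fin 2 ⊕ Fin 2) F) * S.ρ e * _ = S.ρ e
      rw [hc e, mul_assoc, ← Units.val_mul, mul_inv_cancel, Units.val_one, mul_one]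
    intro k
    constructor
    · intro hk
      rw [key k hk]; exact hk
    · intro hk
      have hk' := hk
      rw [← hρ] at hk'
      obtain ⟨e, he⟩ := hk'
      have e1 : ((g⁻¹ : GL (Fin 2 ⊕ Fin 2) F) : Matrix (Fin 2 ⊕ Fin 2) (Fin 2 ⊕ Fin 2) F) *
          (g : Matrix (Fin 2 ⊕ Fin 2) (Fin 2 ⊕ Fin 2) F) = 1 := by
        rw [← Units.val_mul, inv_mul_cancel, Units.val_one]
      have h2 : k = S.ρ e := by
        have h3 : S.ρ e = (g : Matrix (Fin 2 ⊕ Fin 2) (Fin 2 ⊕ Fin 2) F) * k *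
            ((g⁻¹ : GL (Fin 2 ⊕ Fin 2) F) : Matrix (Fin 2 ⊕ Fin 2) (Fin 2 ⊕ Fin 2) F) := he
        calc k = ((g⁻¹ : GL (Fin 2 ⊕ Fin 2) F) : Matrix (Fin 2 ⊕ Fin 2) (Fin 2 ⊕ Fin 2) F) *
              ((g : Matrix (Fin 2 ⊕ Fin 2) (Fin 2 ⊕ Fin 2) F) * k *
                ((g⁻¹ : GL (Fin 2 ⊕ Fin 2) F) : Matrix (Fin 2 ⊕ Fin 2) (Fin 2 ⊕ Fin 2) F)) *
              (g : Matrix (Fin 2 ⊕ Fin 2) (Fin 2 ⊕ Fin 2) F) := by
              simp only [mul_assoc, e1, mul_one]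
              simp only [← mul_assoc, e1, one_mul]
          _ = ((g⁻¹ : GL (Fin 2 ⊕ Fin 2) F) : Matrix (Fin 2 ⊕ Fin 2) (Fin 2 ⊕ Fin 2) F) *
              S.ρ e * (g : Matrix (Fin 2 ⊕ Fin 2) (Fin 2 ⊕ Fin 2) F) := by rw [h3]
          _ = S.ρ e := by rw [mul_assoc, ← hc e, ← mul_assoc, e1, one_mul]
      rw [h2, ← hρ]
      exact ⟨e, rfl⟩
  refine ⟨?_, ?_⟩
  · -- proper
    refine lt_of_le_of_ne inf_le_right ?_
    intro heq
    have h1 : tvc v₀ 1 ∈ Cfsg.Geo.subalgebraNormalizer K ⊓ spGL 2 F := by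
      rw [heq]; exact tvc_mem v₀ 1
    have h2 := Cfsg.Agent.Lib.Helper1.C3sLeaf.tvc_not_mem_normalizer S (by omega) h2E hv₀
    rw [hρ] at h2
    exact h2 h1.1
  · intro M hNM hMS
    by_cases hMN : M ≤ Cfsg.Geo.subalgebraNormalizer K
    · left
      exact le_antisymm (le_inf hMN hMS) hNM
    · right
      have hM : ∀ g ∈ spGL 2 F,
          (∀ e : E, (g : Matrix (Fin 2 ⊕ Fin 2) (Fin 2 ⊕ Fin 2) F) * S.ρ e
            = S.ρ e * (g : Matrix (Fin 2 ⊕ Fin 2) (Fin 2 ⊕ Fin 2) F)) → g ∈ M :=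
        fun g hg hc => hNM (hcomm g hg hc)
      have hnot : ¬ M ≤ Cfsg.Geo.subalgebraNormalizer S.ρ.range := by rw [hρ]; exact hMN
      obtain ⟨g, hg, h1, h2⟩ := Cfsg.Agent.Lib.Helper7.C3sLeaf.exists_nonperp S M hMS hM hnot hv₀
      obtain ⟨v, hv, c, hc, hvc⟩ :=
        tvc_mem_of_deg_two' S hfr hch hsq hex (by omega) M hMS hM hv₀ hg h1 h2
      exact le_antisymm hMS (Cfsg.Agent.Lib.Helper23.C3sLeaf.le_of_tvc_mem S M hMS hM hv hc hvc)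

end Cfsg.Agent.Lib.Helper18.Sp4ELeaf
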