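import Mathlib
import Cfsg.Prelude.Def_ClassicalGeometry
import Cfsg.Prelude.Def_GeometricClasses
import Cfsg.Agent.Lib.Helper5.SpMax
import Cfsg.Agent.Lib.Helper2.SpSubDefs
import Cfsg.Agent.Lib.Helper2.SpSubBasic
import Cfsg.Agent.Lib.Helper2.SpSubR2
import Cfsg.Agent.Lib.Helper1.SpSubR
import Cfsg.Agent.Lib.Helper9.SpSubT
import Cfsg.Agent.Lib.Helper18.Sp4EDefs
import Cfsg.Agent.Lib.Helper18.Sp4EK4
import Cfsg.Agent.Lib.Helper26.Sp4ESFA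
import Cfsg.Agent.Lib.Helper11.Sp4ESFB
import Cfsg.Agent.Lib.Helper12.Sp4ESFC
import Cfsg.Agent.Lib.Helper9.Sp4ESFD
import Cfsg.Agent.Lib.Helper22.Sp4EQ4
import Cfsg.Agent.S5645
import Cfsg.Agent.S5647
import Cfsg.Agent.S5650

/-!
helper18: S5789 (`Sp_4(q)`, `q ≥ 4` even): assembly of the row from the six market leaves
(K4 helper18, Q4 helper22, SF-A helper26, SF-B helper11, SF-C helper12, SF-D helper9); plan `notes/S5789_plan.md`.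
-/

set_option autoImplicit false

namespace Cfsg.Agent.Lib.Helper18.Sp4EMain
open Cfsg Matrix Cfsg.Agent.Lib.Helper5 Cfsg.Agent.Lib.Helper5.SpMax Cfsg.Agent.Lib.Helper2.SpSub
  Cfsg.Agent.Lib.Helper18.Sp4E

variable {F : Type*} [Field F] [Fintype F]

theorem two_eq_zero_of_even (heven : ¬ Odd (Fintype.card F)) : (2 : F) = 0 := by
  have hchar : ringChar F = 2 :=
    FiniteField.even_card_iff_char_two.mpr (Nat.even_iff.mp (Nat.not_odd_iff_even.mp heven))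
  have := ringChar.of_eq hchar
  have := CharP.cast_eq_zero F 2
  exact_mod_cast this

/-- the standard subfield subgroup `Sp_4(F₀)` is maximal in `Sp_4(F)` (characteristic two, prime degree) -/
theorem std_max2 (h2 : (2 : F) = 0) (F₀ : Subfield F) (hp : (Module.finrank F₀ F).Prime) :
    Cfsg.Geo.IsMaximalIn (spGL 2 F) (H0 2 F₀) := by
  refine ⟨Cfsg.Agent.Lib.Helper2.SpSubLeaf.H0_lt F₀ (by omega) hp.two_le, fun M hHM hMS => ?_⟩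
  by_cases hM : M ≤ H0 2 F₀
  · left; exact le_antisymm hM hHM
  · right
    apply le_antisymm hMS
    by_cases hd : Dag F₀ M
    · exact Cfsg.Agent.Lib.Helper26.Sp4ELeaf.sp_le_of_dag h2 F₀ hp hHM hMS hd
    · exfalso
      obtain ⟨m, hm, hm0, hfix⟩ :=
        Cfsg.Agent.Lib.Helper11.Sp4ELeaf.exists_fix_of_ne h2 F₀ hHM hMS hd hM
      obtain ⟨b, φ, hb, hb0, hbi, hφ, h⟩ :=
        Cfsg.Agent.Lib.Helper12.Sp4ELeaf.exists_phi_of_fix h2 F₀ hHM hMS hd hm hm0 hfix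
      exact hd (Cfsg.Agent.Lib.Helper9.Sp4ELeaf.dag_of_phi h2 F₀ hHM hMS hb hb0 hbi hφ h)

theorem subfield_max4 (heven : ¬ Odd (Fintype.card F)) (F₀ : Subfield F) (r : ℕ)
    (P : Matrix.GeneralLinearGroup (Fin 2 ⊕ Fin 2) F) (ζ : F) (hr : r.Prime)
    (hcard : Fintype.card F = Nat.card F₀ ^ r) (hζ : ζ ≠ 0)
    (hP : Cfsg.Geo.IsFormRationalStructure (Cfsg.sympForm 2 F) F₀ ζ P) :
    Cfsg.Geo.IsMaximalIn (Cfsg.spGL 2 F) (Cfsg.Geo.subfieldSubgroup F₀ P ⊓ Cfsg.spGL 2 F) := by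
  have hfr : Module.finrank F₀ F = r := Cfsg.Agent.S5650.finrank_eq_of_card5650 F₀ hcard
  have hp : (Module.finrank F₀ F).Prime := by rw [hfr]; exact hr
  obtain ⟨P', hP'eq, hP'⟩ := Cfsg.Agent.Lib.Helper1.SpSubLeaf.exists_normalized F₀ P ζ hζ hP
  rw [← hP'eq]
  exact Cfsg.Agent.Lib.Helper2.SpSubLeaf.maximal_transfer F₀ P' ζ hζ hP'
    (std_max2 (two_eq_zero_of_even heven) F₀ hp)

/-- the row S5789 -/
theorem row (heven : ¬ Odd (Fintype.card F)) (h4 : 4 ≤ Fintype.card F) :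
    (∀ W : Submodule F (Fin 2 ⊕ Fin 2 → F), W ≠ ⊥ → Cfsg.Geo.IsTotallySingularFor (Cfsg.sympForm 2 F) W → Cfsg.Geo.IsMaximalIn (Cfsg.spGL 2 F) (Cfsg.Geo.subspaceStabilizer W ⊓ Cfsg.spGL 2 F)) ∧
    (∀ D : Fin 2 → Submodule F (Fin 2 ⊕ Fin 2 → F), Cfsg.Geo.IsNondegenerateMDecomposition (Cfsg.sympForm 2 F) 2 D → Cfsg.Geo.IsMaximalIn (Cfsg.spGL 2 F) (Cfsg.Geo.decompositionStabilizer D ⊓ Cfsg.spGL 2 F)) ∧
    (∀ K : Subalgebra F (Matrix (Fin 2 ⊕ Fin 2) (Fin 2 ⊕ Fin 2) F), Cfsg.Geo.IsFieldSubalgebra 2 K → Cfsg.Geo.IsSelfAdjointFor (Cfsg.sympForm 2 F) K → (∀ k ∈ K, ∀ v : (Fin 2 ⊕ Fin 2 → F), (Cfsg.sympForm 2 F) (Matrix.mulVec k v) v = 0) → Cfsg.Geo.IsMaximalIn (Cfsg.spGL 2 F) (Cfsg.Geo.subalgebraNormalizer K ⊓ Cfsg.spGL 2 F)) ∧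
    (∀ (F₀ : Subfield F) (r : ℕ) (P : Matrix.GeneralLinearGroup (Fin 2 ⊕ Fin 2) F) (ζ : F), r.Prime → Fintype.card F = Nat.card F₀ ^ r → ζ ≠ 0 → Cfsg.Geo.IsFormRationalStructure (Cfsg.sympForm 2 F) F₀ ζ P → Cfsg.Geo.IsMaximalIn (Cfsg.spGL 2 F) (Cfsg.Geo.subfieldSubgroup F₀ P ⊓ Cfsg.spGL 2 F)) ∧
    (∀ Q : (Fin 2 ⊕ Fin 2 → F) → F, Cfsg.Geo.IsNondegenerateQuadraticForm Q → (∀ u v : (Fin 2 ⊕ Fin 2 → F), QuadraticMap.polar Q u v = (Cfsg.sympForm 2 F) u v) → Cfsg.Geo.IsMaximalIn (Cfsg.spGL 2 F) (Cfsg.Geo.quadSimilarityGroup Q ⊓ Cfsg.spGL 2 F)) := by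
  refine ⟨fun W hW0 hW => Cfsg.Agent.S5645.S5645aux.main W hW hW0, fun D hD => ?_,
    fun K hK hsa halt => Cfsg.Agent.Lib.Helper18.Sp4ELeaf.c3s_max4 heven h4 K hK hsa halt,
    fun F₀ r P ζ hr hcard hζ hP => subfield_max4 heven F₀ r P ζ hr hcard hζ hP,
    fun Q hQ hpol => Cfsg.Agent.Lib.Helper22.Sp4ELeaf.quad_max4 heven h4 Q hQ hpol⟩
  exact Cfsg.Agent.S5647.S5647aux.main 2 2 D hD (fun h => by omega)

end Cfsg.Agent.Lib.Helper18.Sp4EMain
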