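import Mathlib

set_option autoImplicit false

namespace Cfsg.Agent.Lib.Helper18.Sp4Fixed

section LinAlg

variable {F : Type*} [Field F] [Fintype F] {V : Type*} [AddCommGroup V] [Module F V]

theorem three_eq_zero (hF : Fintype.card F = 3) : (3 : F) = 0 := by
  have := FiniteField.cast_card_eq_zero F
  rw [hF] at this
  exact_mod_cast this

theorem two_ne_zero' (hF : Fintype.card F = 3) : (2 : F) ≠ 0 := by
  intro h
  have h3 := three_eq_zero hF
  have : (1 : F) = 0 := by
    have : (3 : F) = 2 + 1 := by norm_num
    rw [this, h, zero_add] at h3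
    exact h3
  exact one_ne_zero this

theorem sq_ne_neg_one (hF : Fintype.card F = 3) (a : F) : a * a ≠ -1 := by
  intro h
  have h1 : a ^ 3 = a := by
    have := FiniteField.pow_card a
    rwa [hF] at this
  have h2 : a ^ 3 = -a := by
    rw [pow_succ, pow_two, h]; ring
  have h3 : (2 : F) * a = 0 := by
    have : a = -a := h1.symm.trans h2
    linear_combination this
  rcases mul_eq_zero.mp h3 with h4 | h4
  · exact two_ne_zero' hF h4
  · rw [h4, mul_zero] at h
    have : (1 : F) = 0 := by
      have h5 : (1 : F) = -(-1) := by ring
      rw [h5, ← h, neg_zero]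
    exact one_ne_zero this

/-- A subspace invariant under an endomorphism `Y` with `Y² = -1` has even dimension
(over the field with three elements). -/
theorem even_finrank_of_invariant [FiniteDimensional F V] (hF : Fintype.card F = 3)
    (Y : Module.End F V) (hY : Y * Y = -1) (M : Submodule F V) (hM : ∀ v ∈ M, Y v ∈ M) :
    Even (Module.finrank F M) := by
  by_contra hodd
  rw [Nat.not_even_iff_odd] at hodd
  set f : Module.End F M := Y.restrict hM with hf
  have hff : f * f = (-1 : F) • (1 : Module.End F M) := by
    apply LinearMap.ext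
    intro v
    apply Subtype.ext
    have := LinearMap.congr_fun hY (v : V)
    simp only [Module.End.mul_apply, LinearMap.neg_apply, Module.End.one_apply] at this
    simp [hf, LinearMap.restrict_apply, this]
  have hdet := congrArg LinearMap.det hff
  rw [map_mul, LinearMap.det_smul, map_one, mul_one, hodd.neg_one_pow] at hdet
  exact sq_ne_neg_one hF _ hdet

/-- Main linear algebra step.  `X` of order three on a four-dimensional space over the field with
three elements, inverted by `Y` with `Y² = -1`: the fixed space of `X` is two-dimensional and equals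
the image of `X - 1`. -/
theorem ker_eq_range [FiniteDimensional F V] (hF : Fintype.card F = 3)
    (hV : Module.finrank F V = 4) (X Y : Module.End F V) (hX3 : X * X * X = 1) (hX1 : X ≠ 1)
    (hY : Y * Y = -1) (hYX : Y * X = X * X * Y) :
    Module.finrank F (LinearMap.ker (X - 1)) = 2 ∧
      LinearMap.ker (X - 1) = LinearMap.range (X - 1) := by
  have h3 : (3 : Module.End F V) = 0 := by
    have h := three_eq_zero hF
    have : (3 : Module.End F V) = algebraMap F (Module.End F V) 3 :=
      (map_ofNat (algebraMap F (Module.End F V)) 3).symm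
    rw [this, h, map_zero]
  set N : Module.End F V := X - 1 with hN
  have hXN : X = N + 1 := by rw [hN]; abel
  have hN3 : N * N * N = 0 := by
    have : N * N * N = X * X * X - 1 - 3 * (X * X) + 3 * X := by
      rw [hN]; noncomm_ring
    rw [this, hX3, h3]; simp
  have hYN : Y * N = (N * N - N) * Y := by
    have : Y * N = Y * X - Y := by rw [hN]; noncomm_ring
    rw [this, hYX, hXN]
    have : (N + 1) * (N + 1) * Y - Y = (N * N - N) * Y + 3 * (N * Y) := by noncomm_ring
    rw [this, h3]; simp
  have hYN2 : Y * (N * N) = N * N * Y := by
    have e1 : Y * (N * N) = (Y * N) * N := by rw [mul_assoc]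
    have e2 : (Y * N) * N = (N * N - N) * (Y * N) := by
      conv_lhs => rw [hYN]
      rw [mul_assoc]
    have e3 : (N * N - N) * (Y * N) = (N * N - N) * ((N * N - N) * Y) := by
      conv_lhs => rw [hYN]
    have e4 : (N * N - N) * ((N * N - N) * Y) = N * N * Y + (N * N * N) * (N - 2) * Y := by
      noncomm_ring
    rw [e1, e2, e3, e4, hN3]; simp
  -- `N - 1` is invertible
  have hinv : (-(1 + N + N * N)) * (N - 1) = 1 := by
    have : (-(1 + N + N * N)) * (N - 1) = 1 - N * N * N := by noncomm_ring
    rw [this, hN3, sub_zero]
  -- `ker N` is `Y`-invariant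
  have hker : ∀ v ∈ LinearMap.ker N, Y v ∈ LinearMap.ker N := by
    intro v hv
    rw [LinearMap.mem_ker] at hv ⊢
    have h1 : (N * N - N) (Y v) = 0 := by
      have := LinearMap.congr_fun hYN v
      simp only [Module.End.mul_apply] at this
      rw [hv, map_zero] at this
      exact this.symm
    have h2 : (N * N - N) = (N - 1) * N := by noncomm_ring
    rw [h2, Module.End.mul_apply] at h1
    have h4 := congrArg (fun w => (-(1 + N + N * N)) w) h1
    simp only [map_zero] at h4
    rw [← Module.End.mul_apply, hinv, Module.End.one_apply] at h4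
    exact h4
  have hrange2 : ∀ v ∈ LinearMap.range (N * N), Y v ∈ LinearMap.range (N * N) := by
    rintro _ ⟨w, rfl⟩
    refine ⟨Y w, ?_⟩
    have := LinearMap.congr_fun hYN2 w
    simp only [Module.End.mul_apply] at this ⊢
    exact this.symm
  have hev1 := even_finrank_of_invariant hF Y hY _ hker
  have hev2 := even_finrank_of_invariant hF Y hY _ hrange2
  have hrn := LinearMap.finrank_range_add_finrank_ker N
  rw [hV] at hrn
  -- `ker N ≠ ⊥`
  have hk0 : Module.finrank F (LinearMap.ker N) ≠ 0 := by
    intro h0
    have hbot : LinearMap.ker N = ⊥ := Submodule.finrank_eq_zero.mp h0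
    have hinj : Function.Injective N := LinearMap.ker_eq_bot.mp hbot
    have : Subsingleton V := by
      constructor
      intro a b
      apply hinj; apply hinj; apply hinj
      have ha := LinearMap.congr_fun hN3 a
      have hb := LinearMap.congr_fun hN3 b
      simp only [Module.End.mul_apply, LinearMap.zero_apply] at ha hb
      rw [ha, hb]
    have := Module.finrank_zero_of_subsingleton (R := F) (M := V)
    omega
  have hk4 : Module.finrank F (LinearMap.ker N) ≠ 4 := by
    intro h4
    have htop : LinearMap.ker N = ⊤ := Submodule.eq_top_of_finrank_eq (by rw [h4, hV])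
    apply hX1
    have hN0 : N = 0 := LinearMap.ker_eq_top.mp htop
    rw [hXN, hN0, zero_add]
  have hk2 : Module.finrank F (LinearMap.ker N) = 2 := by
    obtain ⟨j, hj⟩ := hev1
    have hle : Module.finrank F (LinearMap.ker N) ≤ 4 := by omega
    omega
  have hr2 : Module.finrank F (LinearMap.range N) = 2 := by omega
  -- `N * N = 0`
  have hNN : N * N = 0 := by
    by_contra hne
    have hr0 : Module.finrank F (LinearMap.range (N * N)) ≠ 0 := by
      intro h0
      apply hne
      have hbot : LinearMap.range (N * N) = ⊥ := Submodule.finrank_eq_zero.mp h0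
      exact LinearMap.range_eq_bot.mp hbot
    have hle1 : LinearMap.range (N * N) ≤ LinearMap.ker N := by
      rintro _ ⟨w, rfl⟩
      rw [LinearMap.mem_ker]
      have := LinearMap.congr_fun hN3 w
      simp only [Module.End.mul_apply, LinearMap.zero_apply] at this ⊢
      exact this
    have hle2 : LinearMap.range (N * N) ≤ LinearMap.range N := by
      rintro _ ⟨w, rfl⟩
      exact ⟨N w, rfl⟩
    have hfr := Submodule.finrank_mono hle1
    obtain ⟨j, hj⟩ := hev2
    have h22 : Module.finrank F (LinearMap.range (N * N)) = 2 := by omega
    have e1 : LinearMap.range (N * N) = LinearMap.ker N :=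
      Submodule.eq_of_le_of_finrank_eq hle1 (by rw [h22, hk2])
    have e2 : LinearMap.range (N * N) = LinearMap.range N :=
      Submodule.eq_of_le_of_finrank_eq hle2 (by rw [h22, hr2])
    apply hne
    apply LinearMap.ext
    intro w
    have : N w ∈ LinearMap.ker N := by rw [← e1, e2]; exact ⟨w, rfl⟩
    rw [LinearMap.mem_ker] at this
    simpa using this
  refine ⟨hk2, ?_⟩
  symm
  apply Submodule.eq_of_le_of_finrank_eq
  · rintro _ ⟨w, rfl⟩
    rw [LinearMap.mem_ker]
    have := LinearMap.congr_fun hNN w
    simpa using this
  · rw [hk2, hr2]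

end LinAlg

end Cfsg.Agent.Lib.Helper18.Sp4Fixed
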