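import Mathlib
import Cfsg.Agent.Lib.Helper18.Sp4LinAlg

set_option autoImplicit false

namespace Cfsg.Agent.Lib.Helper18.Sp4Fixed

section Five

variable {F : Type*} [Field F] [Fintype F]

/-- An endomorphism of order dividing five of a space of dimension at most three over the field
with three elements is trivial. -/
theorem eq_one_of_pow_five (hF : Fintype.card F = 3) {M : Type*} [AddCommGroup M] [Module F M]
    [FiniteDimensional F M] (hM : Module.finrank F M ≤ 3) (g : Module.End F M) (hg : g ^ 5 = 1) :
    g = 1 := by
  classical
  have : Finite M := Module.finite_of_finite F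
  let _ := Fintype.ofFinite M
  have : Fact (Nat.Prime 5) := ⟨by norm_num⟩
  let f : Function.End M := ⇑g
  have hf : f ^ 5 ^ 1 = 1 := by
    rw [pow_one]
    funext v
    have h1 : ∀ n : ℕ, (f ^ n) v = (g ^ n) v := by
      intro n
      induction n with
      | zero => rfl
      | succ n ih =>
        rw [pow_succ', pow_succ']
        show f ((f ^ n) v) = g ((g ^ n) v)
        rw [ih]
    rw [h1, hg]; rfl
  have h1 := Equiv.Perm.card_fixedPoints_modEq (p := 5) (n := 1) hf
  have hc1 : Fintype.card M = 3 ^ Module.finrank F M := by
    rw [← Nat.card_eq_fintype_card, Module.natCard_eq_pow_finrank (K := F) (V := M),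
      Nat.card_eq_fintype_card, hF]
  have hc2 : Fintype.card (Function.fixedPoints f) =
      3 ^ Module.finrank F (LinearMap.ker (g - 1)) := by
    rw [← Nat.card_eq_fintype_card, ← hF, ← Nat.card_eq_fintype_card (α := F),
      ← Module.natCard_eq_pow_finrank (K := F) (V := LinearMap.ker (g - 1))]
    apply Nat.card_congr
    refine ⟨fun v => ⟨v.1, ?_⟩, fun v => ⟨v.1, ?_⟩, fun v => rfl, fun v => rfl⟩
    · rw [LinearMap.mem_ker, LinearMap.sub_apply, Module.End.one_apply, sub_eq_zero]
      exact v.2
    · have := v.2
      rw [LinearMap.mem_ker, LinearMap.sub_apply, Module.End.one_apply, sub_eq_zero] at this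
      exact this
  rw [hc1, hc2] at h1
  have hle : Module.finrank F (LinearMap.ker (g - 1)) ≤ Module.finrank F M :=
    Submodule.finrank_le _
  have heq : Module.finrank F (LinearMap.ker (g - 1)) = Module.finrank F M := by
    generalize Module.finrank F (LinearMap.ker (g - 1)) = e at *
    generalize Module.finrank F M = d at *
    unfold Nat.ModEq at h1
    interval_cases d <;> interval_cases e <;> simp_all
  have htop : LinearMap.ker (g - 1) = ⊤ := Submodule.eq_top_of_finrank_eq heq
  have := LinearMap.ker_eq_top.mp htop
  exact sub_eq_zero.mp this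

theorem restrict_pow_apply {V : Type*} [AddCommGroup V] [Module F V] (U : Module.End F V)
    (M : Submodule F V) (hM : ∀ v ∈ M, U v ∈ M) (n : ℕ) (v : M) :
    (((U.restrict hM) ^ n) v : V) = (U ^ n) (v : V) := by
  induction n generalizing v with
  | zero => rfl
  | succ n ih =>
    rw [pow_succ, pow_succ, Module.End.mul_apply, Module.End.mul_apply, ih]
    rfl

/-- A central involution `Z ≠ 1` commuting with an element of order five acts as `-1`
(four-dimensional space over the field with three elements). -/
theorem eq_neg_one_of_central {V : Type*} [AddCommGroup V] [Module F V] [FiniteDimensional F V]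
    (hF : Fintype.card F = 3) (hV : Module.finrank F V = 4) (Z U : Module.End F V)
    (hZ2 : Z * Z = 1) (hZ1 : Z ≠ 1) (hU5 : U ^ 5 = 1) (hU1 : U ≠ 1) (hUZ : U * Z = Z * U) :
    Z = -1 := by
  by_contra hne
  have key : ∀ (M : Submodule F V), M ≠ ⊤ → (∀ v ∈ M, U v ∈ M) → ∀ v ∈ M, U v = v := by
    intro M hMtop hM v hv
    have hlt : Module.finrank F M < Module.finrank F V :=
      Submodule.finrank_lt hMtop
    have h1 := eq_one_of_pow_five hF (M := M) (by omega) (U.restrict hM) (by
      apply LinearMap.ext
      intro w
      apply Subtype.ext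
      rw [restrict_pow_apply, hU5]; rfl)
    have h2 := LinearMap.congr_fun h1 ⟨v, hv⟩
    exact congrArg Subtype.val h2
  have hp : ∀ v ∈ LinearMap.ker (Z - 1), U v = v := by
    apply key
    · intro htop
      apply hZ1
      exact sub_eq_zero.mp (LinearMap.ker_eq_top.mp htop)
    · intro v hv
      rw [LinearMap.mem_ker, LinearMap.sub_apply, Module.End.one_apply, sub_eq_zero] at hv ⊢
      have := LinearMap.congr_fun hUZ v
      simp only [Module.End.mul_apply] at this
      rw [← this, hv]
  have hm : ∀ v ∈ LinearMap.ker (Z + 1), U v = v := by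
    apply key
    · intro htop
      apply hne
      exact eq_neg_of_add_eq_zero_left (LinearMap.ker_eq_top.mp htop)
    · intro v hv
      rw [LinearMap.mem_ker, LinearMap.add_apply, Module.End.one_apply] at hv ⊢
      have := LinearMap.congr_fun hUZ v
      simp only [Module.End.mul_apply] at this
      rw [← this, ← map_add, hv, map_zero]
  apply hU1
  apply LinearMap.ext
  intro v
  have hZZ : Z (Z v) = v := by
    have := LinearMap.congr_fun hZ2 v
    simpa using this
  have h1 : v + Z v ∈ LinearMap.ker (Z - 1) := by
    rw [LinearMap.mem_ker, LinearMap.sub_apply, Module.End.one_apply, map_add, hZZ]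
    abel
  have h2 : v - Z v ∈ LinearMap.ker (Z + 1) := by
    rw [LinearMap.mem_ker, LinearMap.add_apply, Module.End.one_apply, map_sub, hZZ]
    abel
  have h3 : (3 : F) • v = 0 := by rw [three_eq_zero hF, zero_smul]
  have h4 : v = -(v + Z v) - (v - Z v) := by
    have : -(v + Z v) - (v - Z v) = v - (3 : F) • v := by
      rw [show (3 : F) = 1 + 1 + 1 by norm_num, add_smul, add_smul, one_smul]
      abel
    rw [this, h3, sub_zero]
  rw [Module.End.one_apply]
  conv_lhs => rw [h4]
  rw [map_sub, map_neg, hp _ h1, hm _ h2, ← h4]

end Five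

end Cfsg.Agent.Lib.Helper18.Sp4Fixed
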