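import Mathlib

set_option autoImplicit false

namespace Cfsg.Agent.Lib.Helper18.Sp4Fixed

open Matrix

set_option maxSynthPendingDepth 10 in
set_option synthInstance.maxHeartbeats 400000 in
set_option synthInstance.maxSize 4000 in
theorem zmod5_key : ∀ a b c d : ZMod 5, a*d - b*c = 1 →
    (a*a+b*c)*a + (a*b+b*d)*c = 1 → (a*a+b*c)*b + (a*b+b*d)*d = 0 →
    (c*a+d*c)*a + (c*b+d*d)*c = 0 → (c*a+d*c)*b + (c*b+d*d)*d = 1 →
    ¬ (a = 1 ∧ b = 0 ∧ c = 0 ∧ d = 1) →
    ∃ p q r : ZMod 5, p*a + q*c = d*p - b*r ∧ r*b - p*d = -(c*q) - a*p ∧ -(p*p) - q*r = 1 := by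
  decide

section SL2

variable {K : Type*} [Field K] [Fintype K]

theorem field5_key (hK : Fintype.card K = 5) (a b c d : K) (h0 : a*d - b*c = 1)
    (h1 : (a*a+b*c)*a + (a*b+b*d)*c = 1) (h2 : (a*a+b*c)*b + (a*b+b*d)*d = 0)
    (h3 : (c*a+d*c)*a + (c*b+d*d)*c = 0) (h4 : (c*a+d*c)*b + (c*b+d*d)*d = 1)
    (hne : ¬ (a = 1 ∧ b = 0 ∧ c = 0 ∧ d = 1)) :
    ∃ p q r : K, p*a + q*c = d*p - b*r ∧ r*b - p*d = -(c*q) - a*p ∧ -(p*p) - q*r = 1 := by
  let e : ZMod 5 ≃+* K := ZMod.ringEquivOfPrime K (by norm_num) hK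
  have tr : ∀ {s t : K}, s = t → e.symm s = e.symm t := fun h => congrArg _ h
  obtain ⟨p, q, r, hp1, hp2, hp3⟩ := zmod5_key (e.symm a) (e.symm b) (e.symm c) (e.symm d)
    (by simpa using tr h0) (by simpa using tr h1) (by simpa using tr h2) (by simpa using tr h3)
    (by simpa using tr h4)
    (by
      rintro ⟨ha, hb, hc, hd⟩
      apply hne
      refine ⟨?_, ?_, ?_, ?_⟩
      · have := congrArg e ha; simpa using this
      · have := congrArg e hb; simpa using this
      · have := congrArg e hc; simpa using this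
      · have := congrArg e hd; simpa using this)
  refine ⟨e p, e q, e r, ?_, ?_, ?_⟩
  · have := congrArg e hp1; simpa using this
  · have := congrArg e hp2; simpa using this
  · have := congrArg e hp3; simpa using this

/-- An element of order three of `SL₂(𝔽₅)` is inverted by an element whose square is `-1`. -/
theorem exists_inverting (hK : Fintype.card K = 5) (x : SpecialLinearGroup (Fin 2) K)
    (hx : orderOf x = 3) :
    ∃ y : SpecialLinearGroup (Fin 2) K, y * x = x⁻¹ * y ∧
      ((y * y : SpecialLinearGroup (Fin 2) K) : Matrix (Fin 2) (Fin 2) K) = -1 := by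
  have hx3 : x * x * x = 1 := by
    have h3 : x ^ 3 = 1 := by rw [← hx]; exact pow_orderOf_eq_one x
    rw [← h3, pow_succ, pow_two]
  have hx1 : x ≠ 1 := by
    intro h; rw [h, orderOf_one] at hx; omega
  have hdet := x.det_coe
  rw [Matrix.det_fin_two] at hdet
  have hm : (x : Matrix (Fin 2) (Fin 2) K) * x * x = 1 := by
    have := congrArg (fun m : SpecialLinearGroup (Fin 2) K => (m : Matrix (Fin 2) (Fin 2) K)) hx3
    simpa using this
  have e00 := congrFun (congrFun hm 0) 0
  have e01 := congrFun (congrFun hm 0) 1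
  have e10 := congrFun (congrFun hm 1) 0
  have e11 := congrFun (congrFun hm 1) 1
  simp only [Matrix.mul_apply, Fin.sum_univ_two, Matrix.one_apply_eq, Matrix.one_apply_ne,
    ne_eq, zero_ne_one, one_ne_zero, not_false_eq_true] at e00 e01 e10 e11
  obtain ⟨p, q, r, hp1, hp2, hp3⟩ := field5_key hK (x 0 0) (x 0 1) (x 1 0) (x 1 1) hdet
    e00 e01 e10 e11 (by
      rintro ⟨ha, hb, hc, hd⟩
      apply hx1
      ext i j
      fin_cases i <;> fin_cases j <;> simp [ha, hb, hc, hd])
  have hmat1 : (!![p, q; r, -p] : Matrix (Fin 2) (Fin 2) K) * (x : Matrix (Fin 2) (Fin 2) K) =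
      Matrix.adjugate (x : Matrix (Fin 2) (Fin 2) K) * !![p, q; r, -p] := by
    ext i j
    fin_cases i <;> fin_cases j
    · simp [Matrix.mul_apply, Fin.sum_univ_two, Matrix.adjugate_fin_two]
      linear_combination hp1
    · simp [Matrix.mul_apply, Fin.sum_univ_two, Matrix.adjugate_fin_two]
      ring
    · simp [Matrix.mul_apply, Fin.sum_univ_two, Matrix.adjugate_fin_two]
      ring
    · simp [Matrix.mul_apply, Fin.sum_univ_two, Matrix.adjugate_fin_two]
      linear_combination hp2
  have hmat2 : (!![p, q; r, -p] : Matrix (Fin 2) (Fin 2) K) * !![p, q; r, -p] = -1 := by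
    ext i j
    fin_cases i <;> fin_cases j
    · simp [Matrix.mul_apply, Fin.sum_univ_two]
      linear_combination -hp3
    · simp [Matrix.mul_apply, Fin.sum_univ_two]
      ring
    · simp [Matrix.mul_apply, Fin.sum_univ_two]
      ring
    · simp [Matrix.mul_apply, Fin.sum_univ_two]
      linear_combination -hp3
  refine ⟨⟨!![p, q; r, -p], by rw [Matrix.det_fin_two_of]; linear_combination hp3⟩, ?_, ?_⟩
  · apply Subtype.ext
    exact hmat1
  · exact hmat2

/-- An element of order five in `SL₂(𝔽₅)`. -/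
theorem exists_order_five (hK : Fintype.card K = 5) :
    ∃ u : SpecialLinearGroup (Fin 2) K, u ^ 5 = 1 ∧ u ≠ 1 := by
  have h5 : (5 : K) = 0 := by
    have := FiniteField.cast_card_eq_zero K
    rw [hK] at this
    exact_mod_cast this
  let u : SpecialLinearGroup (Fin 2) K := ⟨!![1, 1; 0, 1], by simp [Matrix.det_fin_two_of]⟩
  have hu : (u : Matrix (Fin 2) (Fin 2) K) = !![1, 1; 0, 1] := rfl
  have hpow : ∀ n : ℕ, ((u ^ n : SpecialLinearGroup (Fin 2) K) : Matrix (Fin 2) (Fin 2) K) =
      !![1, (n : K); 0, 1] := by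
    intro n
    induction n with
    | zero =>
      rw [pow_zero]
      ext i j
      fin_cases i <;> fin_cases j <;> simp
    | succ n ih =>
      rw [pow_succ]
      show ((u ^ n : SpecialLinearGroup (Fin 2) K) : Matrix (Fin 2) (Fin 2) K) *
        (u : Matrix (Fin 2) (Fin 2) K) = _
      rw [ih, hu]
      ext i j
      fin_cases i <;> fin_cases j <;> simp [Matrix.mul_apply, Fin.sum_univ_two, add_comm]
  refine ⟨u, ?_, ?_⟩
  · apply Subtype.ext
    rw [hpow]
    ext i j
    fin_cases i <;> fin_cases j <;> simp [h5]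
  · intro h
    have := congrArg (fun m : SpecialLinearGroup (Fin 2) K => (m : Matrix (Fin 2) (Fin 2) K) 0 1) h
    simp [hu] at this

end SL2

end Cfsg.Agent.Lib.Helper18.Sp4Fixed
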