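-- helper18: the stabiliser GL_m(q).2 of a pair of complementary totally isotropic m-spaces is
-- maximal in Sp_2m(q) for ALL m ≥ 3 (q odd).  Same statement shape as S5649 (which has 7 ≤ m; its
-- `dep_of_star` / `all_or_all` need 5 ≤ m); here the "rigid" half is replaced by a new argument:
-- if M ≥ H contains no transvection centred in A ∪ B then every g ∈ M mapping some non-zero
-- a₀ ∈ A into A preserves A and B (claims A, C), and the Siegel elements of H then force M ≤ H.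
import Mathlib
import Cfsg.Agent.S5649

set_option autoImplicit false
open Cfsg

namespace Cfsg.Agent.Lib.Helper18.SpTIPair

set_option linter.unusedSectionVars false
set_option linter.unusedVariables false
set_option linter.unusedSimpArgs false

open Cfsg Matrix Cfsg.Agent.Lib.Helper5 Cfsg.Agent.Lib.Helper5.SpMax
open Cfsg.Agent.S5645.S5645aux (sieg sieg_mem sieg_mulVec tvc_smul Sset_smul)
open Cfsg.Agent.S5647.S5647aux (map_eq_of_maps finrank_map_gl zero_mem_Sset)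
open Cfsg.Agent.S5649.S5649aux

section Basics
variable {F : Type*} [Field F] {m : ℕ}

/-- `sieg a (w + κ a) = sieg a w * tvc a (2κ)` -/
lemma sieg_add_smul_self (a w : Fin m ⊕ Fin m → F) (κ : F) (hwa : sympForm m F w a = 0) :
    sieg a (w + κ • a) = sieg a w * tvc a (2 * κ) := by
  have haw : sympForm m F a w = 0 := symm_zero hwa
  have h1 : sympForm m F (w + κ • a) a = 0 := by
    rw [sympForm_add_left, sympForm_smul_left, hwa, sympForm_self, mul_zero, add_zero]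
  apply Units.ext
  apply mat_eq_of_mulVec
  intro x
  rw [Units.val_mul, ← Matrix.mulVec_mulVec, sieg_mulVec a (w + κ • a) h1, tvc_mulVec,
    sieg_mulVec a w hwa]
  simp only [sympForm_add_left, sympForm_add_right, sympForm_smul_left, sympForm_smul_right, hwa,
    haw, sympForm_self, mul_zero, add_zero]
  module

/-- two non-orthogonal Siegel elements with the same centre `a` give the transvections of `a` -/
lemma local_step' (h2 : (2 : F) ≠ 0) {M : Subgroup (GL (Fin m ⊕ Fin m) F)}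
    {B : Submodule F (Fin m ⊕ Fin m → F)} {a : Fin m ⊕ Fin m → F}
    (hE : ∀ b ∈ B, sympForm m F b a = 0 → sieg a b ∈ M)
    {y w : Fin m ⊕ Fin m → F} (hya : sympForm m F y a = 0) (hsy : sieg a y ∈ M)
    (hw : w ∈ B) (hwa : sympForm m F w a = 0) (hne : sympForm m F y w ≠ 0) : a ∈ Sset M := by
  intro c
  obtain ⟨d, hddef⟩ : ∃ d, d = sympForm m F y w - sympForm m F w y := ⟨_, rfl⟩
  have hd0 : d ≠ 0 := by
    rw [hddef, sympForm_swap m w y]
    intro h0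
    apply hne
    have h3 : (2 : F) * sympForm m F y w = 0 := by linear_combination h0
    exact (mul_eq_zero.mp h3).resolve_left h2
  have hlw : sympForm m F ((c / d) • w) a = 0 := by rw [sympForm_smul_left, hwa, mul_zero]
  have hslw : sieg a ((c / d) • w) ∈ M := hE _ (B.smul_mem _ hw) hlw
  have h4 := sieg_comm a ((c / d) • w) y hlw hya
  have h5 : sympForm m F y ((c / d) • w) - sympForm m F ((c / d) • w) y = c := by
    rw [sympForm_smul_right, sympForm_smul_left, ← mul_sub, ← hddef, div_mul_cancel₀ _ hd0]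
  rw [h5] at h4
  have h6 : tvc a c = sieg a ((c / d) • w) * sieg a y * (sieg a y * sieg a ((c / d) • w))⁻¹ := by
    rw [h4]
    group
  rw [h6]
  exact M.mul_mem (M.mul_mem hslw hsy) (M.inv_mem (M.mul_mem hsy hslw))

/-- a subspace of dimension at least two is not contained in a line -/
lemma exists_not_mem_span (U : Submodule F (Fin m ⊕ Fin m → F)) (hU : 2 ≤ Module.finrank F U)
    (z : Fin m ⊕ Fin m → F) : ∃ a ∈ U, a ∉ Submodule.span F {z} := by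
  by_contra hcon
  push Not at hcon
  have hle : U ≤ Submodule.span F {z} := fun a ha => hcon a ha
  have h1 := Submodule.finrank_mono hle
  have h2 : Module.finrank F ↥(Submodule.span F {z}) ≤ 1 := by
    have h3 := finrank_span_le_card (R := F) ({z} : Set (Fin m ⊕ Fin m → F))
    simpa using h3
  omega

lemma exists_pair (U : Submodule F (Fin m ⊕ Fin m → F)) (hU : 2 ≤ Module.finrank F U) :
    ∃ b₁ ∈ U, ∃ b₂ ∈ U, b₂ ≠ 0 ∧ b₁ ≠ 0 ∧ b₁ ∉ Submodule.span F {b₂} := by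
  obtain ⟨b₂, hb₂, hb₂s⟩ := exists_not_mem_span U hU 0
  have hb₂0 : b₂ ≠ 0 := by
    rintro rfl
    exact hb₂s (Submodule.zero_mem _)
  obtain ⟨b₁, hb₁, hb₁s⟩ := exists_not_mem_span U hU b₂
  refine ⟨b₁, hb₁, b₂, hb₂, hb₂0, ?_, hb₁s⟩
  rintro rfl
  exact hb₁s (Submodule.zero_mem _)

lemma LP.split2 {A B : Submodule F (Fin m ⊕ Fin m → F)} (h : LP A B)
    {b₁ b₂ x : Fin m ⊕ Fin m → F} (hb₁ : b₁ ∈ B) (hb₂ : b₂ ∈ B) (hb₂0 : b₂ ≠ 0)
    (hind : b₁ ∉ Submodule.span F {b₂}) (hx : x ∈ A) :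
    ∃ x₁ ∈ A, ∃ x₂ ∈ A, x = x₁ + x₂ ∧ sympForm m F x₁ b₁ = 0 ∧ sympForm m F x₂ b₂ = 0 := by
  obtain ⟨z, hz, hz2, hz1⟩ := h.symm.sep hb₂ hb₁ hb₂0 hind
  have hz1' : sympForm m F z b₁ ≠ 0 := by
    rw [sympForm_swap]
    exact neg_ne_zero.mpr hz1
  refine ⟨x - (sympForm m F x b₁ / sympForm m F z b₁) • z, A.sub_mem hx (A.smul_mem _ hz),
    (sympForm m F x b₁ / sympForm m F z b₁) • z, A.smul_mem _ hz, by abel, ?_, ?_⟩
  · rw [sympForm_sub_left, sympForm_smul_left, div_mul_cancel₀ _ hz1', sub_self]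
  · rw [sympForm_smul_left, symm_zero hz2, mul_zero]

end Basics

section Claims
variable {F : Type*} [Field F] {m : ℕ}

/-- Claim A: if `M ∋ g` maps `a₀ ∈ A` to a vector `a ∈ A` none of whose transvection groups lies in
`M`, then `g` maps `B ∩ a₀^⊥` into `B`. -/
lemma claimA (h2 : (2 : F) ≠ 0) {M : Subgroup (GL (Fin m ⊕ Fin m) F)} (hMS : M ≤ spGL m F)
    {A B : Submodule F (Fin m ⊕ Fin m → F)} (h : LP A B)
    (hE : ∀ a ∈ A, ∀ b ∈ B, sympForm m F b a = 0 → sieg a b ∈ M)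
    {g : GL (Fin m ⊕ Fin m) F} (hg : g ∈ M) {a₀ b₀ : Fin m ⊕ Fin m → F} (ha₀ : a₀ ∈ A)
    (hga : (g : Matrix (Fin m ⊕ Fin m) (Fin m ⊕ Fin m) F) *ᵥ a₀ ∈ A)
    (hnS : (g : Matrix (Fin m ⊕ Fin m) (Fin m ⊕ Fin m) F) *ᵥ a₀ ∉ Sset M)
    (hb₀ : b₀ ∈ B) (hba : sympForm m F b₀ a₀ = 0) :
    (g : Matrix (Fin m ⊕ Fin m) (Fin m ⊕ Fin m) F) *ᵥ b₀ ∈ B := by
  obtain ⟨a, hadef⟩ : ∃ a, a = (g : Matrix (Fin m ⊕ Fin m) (Fin m ⊕ Fin m) F) *ᵥ a₀ := ⟨_, rfl⟩
  obtain ⟨y, hydef⟩ : ∃ y, y = (g : Matrix (Fin m ⊕ Fin m) (Fin m ⊕ Fin m) F) *ᵥ b₀ := ⟨_, rfl⟩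
  rw [← hadef] at hga hnS
  rw [← hydef]
  have ha0 : a ≠ 0 := by
    rintro rfl
    exact hnS (zero_mem_Sset M)
  have hya : sympForm m F y a = 0 := by
    rw [hydef, hadef, mem_spGL.mp (hMS hg) b₀ a₀]
    exact hba
  have hsy : ∀ l : F, sieg a (l • y) ∈ M := by
    intro l
    have h1 : sieg a (l • y) = g * sieg a₀ (l • b₀) * g⁻¹ := by
      rw [conj_sieg (hMS hg), ← hadef, Matrix.mulVec_smul, ← hydef]
    rw [h1]
    have h3 : sympForm m F (l • b₀) a₀ = 0 := by rw [sympForm_smul_left, hba, mul_zero]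
    exact M.mul_mem (M.mul_mem hg (hE a₀ ha₀ _ (B.smul_mem _ hb₀) h3)) (M.inv_mem hg)
  have hyw : ∀ w ∈ B, sympForm m F w a = 0 → sympForm m F y w = 0 := by
    intro w hw hwa
    by_contra hne
    apply hnS
    have h1 := hsy 1
    rw [one_smul] at h1
    exact local_step' h2 (hE a hga) hya h1 hw hwa hne
  have hdec := Submodule.projection_add_projection_eq_self h.hc y
  obtain ⟨yA, hyAdef⟩ : ∃ yA, yA = A.projection B h.hc y := ⟨_, rfl⟩
  obtain ⟨yB, hyBdef⟩ : ∃ yB, yB = B.projection A h.hc.symm y := ⟨_, rfl⟩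
  rw [← hyAdef, ← hyBdef] at hdec
  have hyA : yA ∈ A := by rw [hyAdef]; exact Submodule.projection_apply_mem _ _
  have hyB : yB ∈ B := by rw [hyBdef]; exact Submodule.projection_apply_mem _ _
  have hyBa : sympForm m F yB a = 0 := by
    have h1 : yB = y - yA := by rw [← hdec]; abel
    rw [h1, sympForm_sub_left, hya, h.hA yA hyA a hga, sub_zero]
  have hyAw : ∀ w ∈ B, sympForm m F w a = 0 → sympForm m F yA w = 0 := by
    intro w hw hwa
    have h1 : yA = y - yB := by rw [← hdec]; abel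
    rw [h1, sympForm_sub_left, hyw w hw hwa, h.hB yB hyB w hw, sub_zero]
  have hspan : yA ∈ Submodule.span F {a} := by
    by_contra hind
    obtain ⟨b, hb, hab, hyAb⟩ := h.sep hga hyA ha0 hind
    exact hyAb (hyAw b hb (symm_zero hab))
  obtain ⟨κ, hκ⟩ := Submodule.mem_span_singleton.mp hspan
  by_cases hκ0 : κ = 0
  · rw [hκ0, zero_smul] at hκ
    rw [← hdec, ← hκ, zero_add]
    exact hyB
  · exfalso
    apply hnS
    intro c
    obtain ⟨l, hldef⟩ : ∃ l, l = c / (2 * κ) := ⟨_, rfl⟩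
    have hyBl : sympForm m F (l • yB) a = 0 := by rw [sympForm_smul_left, hyBa, mul_zero]
    have e1 : l • y = l • yB + (l * κ) • a := by
      rw [← hdec, ← hκ]
      module
    have e2 := sieg_add_smul_self a (l • yB) (l * κ) hyBl
    have e3 : 2 * (l * κ) = c := by
      rw [hldef]
      field_simp
    have e4 : tvc a c = (sieg a (l • yB))⁻¹ * sieg a (l • y) := by
      rw [e1, e2, e3]
      group
    rw [e4]
    exact M.mul_mem (M.inv_mem (hE a hga _ (B.smul_mem _ hyB) hyBl)) (hsy l)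

/-- Claim C: if `M` contains no full transvection group centred in `A ∪ B`, then every `g ∈ M`
mapping some non-zero vector of `A` into `A` preserves both `A` and `B`. -/
lemma claimC (hm : 3 ≤ m) (h2 : (2 : F) ≠ 0) {M : Subgroup (GL (Fin m ⊕ Fin m) F)}
    (hMS : M ≤ spGL m F) {A B : Submodule F (Fin m ⊕ Fin m → F)} (h : LP A B)
    (hfrA : Module.finrank F A = m) (hfrB : Module.finrank F B = m)
    (hE0 : ∀ a ∈ A, ∀ b ∈ B, sympForm m F b a = 0 → sieg a b ∈ M)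
    (hE1 : ∀ b ∈ B, ∀ a ∈ A, sympForm m F a b = 0 → sieg b a ∈ M)
    (hNA : ∀ a ∈ A, a ≠ 0 → a ∉ Sset M) (hNB : ∀ b ∈ B, b ≠ 0 → b ∉ Sset M)
    {g : GL (Fin m ⊕ Fin m) F} (hg : g ∈ M) {a₀ : Fin m ⊕ Fin m → F} (ha₀ : a₀ ∈ A)
    (ha₀0 : a₀ ≠ 0) (hga : (g : Matrix (Fin m ⊕ Fin m) (Fin m ⊕ Fin m) F) *ᵥ a₀ ∈ A) :
    (∀ x ∈ A, (g : Matrix (Fin m ⊕ Fin m) (Fin m ⊕ Fin m) F) *ᵥ x ∈ A) ∧
      (∀ y ∈ B, (g : Matrix (Fin m ⊕ Fin m) (Fin m ⊕ Fin m) F) *ᵥ y ∈ B) := by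
  have hgne : ∀ v : Fin m ⊕ Fin m → F, v ≠ 0 →
      (g : Matrix (Fin m ⊕ Fin m) (Fin m ⊕ Fin m) F) *ᵥ v ≠ 0 := by
    intro v hv h0
    apply hv
    have := inv_mul_mulVec g v
    rw [h0, Matrix.mulVec_zero] at this
    exact this.symm
  -- step A : `g` maps `B ∩ a₀^⊥` into `B`
  have stepA : ∀ b₀ ∈ B, sympForm m F b₀ a₀ = 0 →
      (g : Matrix (Fin m ⊕ Fin m) (Fin m ⊕ Fin m) F) *ᵥ b₀ ∈ B := fun b₀ hb₀ hba =>
    claimA h2 hMS h hE0 hg ha₀ hga (hNA _ hga (hgne a₀ ha₀0)) hb₀ hba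
  have hU : 2 ≤ Module.finrank F ↥(B ⊓ spp a₀) := by
    have := finrank_inf_spp B a₀
    omega
  obtain ⟨b₁, hb₁, b₂, hb₂, hb₂0, hb₁0, hind⟩ := exists_pair _ hU
  have hb₁B := (Submodule.mem_inf.mp hb₁).1
  have hb₂B := (Submodule.mem_inf.mp hb₂).1
  have hb₁a := mem_spp.mp (Submodule.mem_inf.mp hb₁).2
  have hb₂a := mem_spp.mp (Submodule.mem_inf.mp hb₂).2
  have stepB : ∀ b ∈ B, b ≠ 0 → sympForm m F b a₀ = 0 → ∀ x ∈ A, sympForm m F x b = 0 →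
      (g : Matrix (Fin m ⊕ Fin m) (Fin m ⊕ Fin m) F) *ᵥ x ∈ A := fun b hb hb0 hba x hx hxb =>
    claimA h2 hMS h.symm hE1 hg hb (stepA b hb hba) (hNB _ (stepA b hb hba) (hgne b hb0)) hx hxb
  have hAA : ∀ x ∈ A, (g : Matrix (Fin m ⊕ Fin m) (Fin m ⊕ Fin m) F) *ᵥ x ∈ A := by
    intro x hx
    obtain ⟨x₁, hx₁, x₂, hx₂, rfl, h1, h2'⟩ := LP.split2 h hb₁B hb₂B hb₂0 hind hx
    rw [Matrix.mulVec_add]
    exact A.add_mem (stepB b₁ hb₁B hb₁0 hb₁a x₁ hx₁ h1) (stepB b₂ hb₂B hb₂0 hb₂a x₂ hx₂ h2')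
  refine ⟨hAA, ?_⟩
  have hUA : 2 ≤ Module.finrank F ↥A := by omega
  obtain ⟨a₁, ha₁, a₂, ha₂, ha₂0, ha₁0, hindA⟩ := exists_pair _ hUA
  intro y hy
  obtain ⟨y₁, hy₁, y₂, hy₂, rfl, h1, h2'⟩ := LP.split2 h.symm ha₁ ha₂ ha₂0 hindA hy
  rw [Matrix.mulVec_add]
  exact B.add_mem
    (claimA h2 hMS h hE0 hg ha₁ (hAA a₁ ha₁) (hNA _ (hAA a₁ ha₁) (hgne a₁ ha₁0)) hy₁ h1)
    (claimA h2 hMS h hE0 hg ha₂ (hAA a₂ ha₂) (hNA _ (hAA a₂ ha₂) (hgne a₂ ha₂0)) hy₂ h2')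

/-- the rigid half: without transvections centred in `A ∪ B`, `M` lies in the stabiliser of the
pair. -/
lemma le_of_NT (hm : 3 ≤ m) (h2 : (2 : F) ≠ 0) {M : Subgroup (GL (Fin m ⊕ Fin m) F)}
    (hMS : M ≤ spGL m F) {A B : Submodule F (Fin m ⊕ Fin m → F)} (h : LP A B)
    (hfrA : Module.finrank F A = m) (hfrB : Module.finrank F B = m)
    (hE0 : ∀ a ∈ A, ∀ b ∈ B, sympForm m F b a = 0 → sieg a b ∈ M)
    (hE1 : ∀ b ∈ B, ∀ a ∈ A, sympForm m F a b = 0 → sieg b a ∈ M)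
    (hNA : ∀ a ∈ A, a ≠ 0 → a ∉ Sset M) (hNB : ∀ b ∈ B, b ≠ 0 → b ∉ Sset M)
    {H₀ : Subgroup (GL (Fin m ⊕ Fin m) F)}
    (hin : ∀ g ∈ M, (∀ a ∈ A, (g : Matrix (Fin m ⊕ Fin m) (Fin m ⊕ Fin m) F) *ᵥ a ∈ A) →
      (∀ b ∈ B, (g : Matrix (Fin m ⊕ Fin m) (Fin m ⊕ Fin m) F) *ᵥ b ∈ B) → g ∈ H₀)
    {J : GL (Fin m ⊕ Fin m) F} (hJH : J ∈ H₀) (hJM : J ∈ M)
    (hJB : ∀ b ∈ B, (J : Matrix (Fin m ⊕ Fin m) (Fin m ⊕ Fin m) F) *ᵥ b ∈ A) : M ≤ H₀ := by
  intro g hg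
  by_contra hgH
  have key : ∀ k ∈ M, ∀ a' ∈ A, a' ≠ 0 →
      (k : Matrix (Fin m ⊕ Fin m) (Fin m ⊕ Fin m) F) *ᵥ a' ∈ A →
      (∀ x ∈ A, (k : Matrix (Fin m ⊕ Fin m) (Fin m ⊕ Fin m) F) *ᵥ x ∈ A) ∧
        (∀ y ∈ B, (k : Matrix (Fin m ⊕ Fin m) (Fin m ⊕ Fin m) F) *ᵥ y ∈ B) :=
    fun k hk a' ha' ha'0 hka =>
      claimC hm h2 hMS h hfrA hfrB hE0 hE1 hNA hNB hk ha' ha'0 hka
  have hi : ∀ a' ∈ A, a' ≠ 0 → (g : Matrix (Fin m ⊕ Fin m) (Fin m ⊕ Fin m) F) *ᵥ a' ∉ A := by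
    intro a' ha' ha'0 hga
    obtain ⟨c1, c2⟩ := key g hg a' ha' ha'0 hga
    exact hgH (hin g hg c1 c2)
  have hii : ∀ a' ∈ A, a' ≠ 0 → (g : Matrix (Fin m ⊕ Fin m) (Fin m ⊕ Fin m) F) *ᵥ a' ∉ B := by
    intro a' ha' ha'0 hgb
    have hJg : (((J * g : GL (Fin m ⊕ Fin m) F)) : Matrix (Fin m ⊕ Fin m) (Fin m ⊕ Fin m) F) *ᵥ a'
        ∈ A := by
      rw [Units.val_mul, ← Matrix.mulVec_mulVec]
      exact hJB _ hgb
    obtain ⟨c1, c2⟩ := key (J * g) (M.mul_mem hJM hg) a' ha' ha'0 hJg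
    have h3 : J * g ∈ H₀ := hin _ (M.mul_mem hJM hg) c1 c2
    apply hgH
    have h4 : g = J⁻¹ * (J * g) := by group
    rw [h4]
    exact H₀.mul_mem (H₀.inv_mem hJH) h3
  -- a non-zero vector of `A`
  obtain ⟨a₀, ha₀, ha₀0⟩ : ∃ a ∈ A, a ≠ 0 := by
    apply (Submodule.ne_bot_iff _).mp
    intro hbot
    rw [hbot, finrank_bot] at hfrA
    omega
  obtain ⟨x, hxdef⟩ : ∃ x, x = (g : Matrix (Fin m ⊕ Fin m) (Fin m ⊕ Fin m) F) *ᵥ a₀ := ⟨_, rfl⟩
  have hdec := Submodule.projection_add_projection_eq_self h.hc x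
  obtain ⟨xA, hxAdef⟩ : ∃ xA, xA = A.projection B h.hc x := ⟨_, rfl⟩
  obtain ⟨xB, hxBdef⟩ : ∃ xB, xB = B.projection A h.hc.symm x := ⟨_, rfl⟩
  rw [← hxAdef, ← hxBdef] at hdec
  have hxA : xA ∈ A := by rw [hxAdef]; exact Submodule.projection_apply_mem _ _
  have hxB : xB ∈ B := by rw [hxBdef]; exact Submodule.projection_apply_mem _ _
  have hxA0 : xA ≠ 0 := by
    intro h0
    apply hii a₀ ha₀ ha₀0
    rw [← hxdef, ← hdec, h0, zero_add]
    exact hxB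
  -- choose `a ∈ A ∩ xB^⊥` off the line of `xA`
  have hU : 2 ≤ Module.finrank F ↥(A ⊓ spp xB) := by
    have := finrank_inf_spp A xB
    omega
  obtain ⟨a, haU, haspan⟩ := exists_not_mem_span _ hU xA
  have ha : a ∈ A := (Submodule.mem_inf.mp haU).1
  have haxB : sympForm m F a xB = 0 := mem_spp.mp (Submodule.mem_inf.mp haU).2
  have ha0 : a ≠ 0 := by
    rintro rfl
    exact haspan (Submodule.zero_mem _)
  have hxAspan : xA ∉ Submodule.span F {a} := by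
    intro hmem
    obtain ⟨κ, hκ⟩ := Submodule.mem_span_singleton.mp hmem
    have hκ0 : κ ≠ 0 := by
      rintro rfl
      rw [zero_smul] at hκ
      exact hxA0 hκ.symm
    apply haspan
    have h1 : a = κ⁻¹ • xA := by rw [← hκ, smul_smul, inv_mul_cancel₀ hκ0, one_smul]
    rw [h1]
    exact Submodule.smul_mem _ _ (Submodule.mem_span_singleton_self xA)
  obtain ⟨b, hb, hab, hxAb⟩ := h.sep ha hxA ha0 hxAspan
  have hba : sympForm m F b a = 0 := symm_zero hab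
  have hsM : sieg a b ∈ M := hE0 a ha b hb hba
  -- a non-zero `a₂ ∈ A` with `g a₂` fixed by `sieg a b`
  obtain ⟨ga, hgadef⟩ : ∃ ga, ga = ((g⁻¹ : GL (Fin m ⊕ Fin m) F) :
      Matrix (Fin m ⊕ Fin m) (Fin m ⊕ Fin m) F) *ᵥ a := ⟨_, rfl⟩
  obtain ⟨gb, hgbdef⟩ : ∃ gb, gb = ((g⁻¹ : GL (Fin m ⊕ Fin m) F) :
      Matrix (Fin m ⊕ Fin m) (Fin m ⊕ Fin m) F) *ᵥ b := ⟨_, rfl⟩
  have hU2 : 1 ≤ Module.finrank F ↥((A ⊓ spp ga) ⊓ spp gb) := by
    have h3 := finrank_inf_spp A ga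
    have h4 := finrank_inf_spp (A ⊓ spp ga) gb
    omega
  obtain ⟨a₂, ha₂U, ha₂0⟩ : ∃ a₂ ∈ (A ⊓ spp ga) ⊓ spp gb, a₂ ≠ 0 := by
    apply (Submodule.ne_bot_iff _).mp
    intro hbot
    rw [hbot, finrank_bot] at hU2
    omega
  have ha₂ : a₂ ∈ A := (Submodule.mem_inf.mp (Submodule.mem_inf.mp ha₂U).1).1
  have ha₂ga : sympForm m F a₂ ga = 0 :=
    mem_spp.mp (Submodule.mem_inf.mp (Submodule.mem_inf.mp ha₂U).1).2
  have ha₂gb : sympForm m F a₂ gb = 0 := mem_spp.mp (Submodule.mem_inf.mp ha₂U).2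
  have hga₂a : sympForm m F ((g : Matrix (Fin m ⊕ Fin m) (Fin m ⊕ Fin m) F) *ᵥ a₂) a = 0 := by
    have h3 := mem_spGL.mp (hMS hg) a₂ ga
    rw [hgadef, mul_inv_mulVec] at h3
    rw [h3, ← hgadef]
    exact ha₂ga
  have hga₂b : sympForm m F ((g : Matrix (Fin m ⊕ Fin m) (Fin m ⊕ Fin m) F) *ᵥ a₂) b = 0 := by
    have h3 := mem_spGL.mp (hMS hg) a₂ gb
    rw [hgbdef, mul_inv_mulVec] at h3
    rw [h3, ← hgbdef]
    exact ha₂gb
  -- `k = g⁻¹ * sieg a b * g` fixes `a₂`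
  obtain ⟨k, hkdef⟩ : ∃ k, k = g⁻¹ * sieg a b * g := ⟨_, rfl⟩
  have hkM : k ∈ M := by
    rw [hkdef]
    exact M.mul_mem (M.mul_mem (M.inv_mem hg) hsM) hg
  have hkv : ∀ v : Fin m ⊕ Fin m → F,
      (g : Matrix (Fin m ⊕ Fin m) (Fin m ⊕ Fin m) F) *ᵥ
        ((k : Matrix (Fin m ⊕ Fin m) (Fin m ⊕ Fin m) F) *ᵥ v) =
      ((sieg a b : GL (Fin m ⊕ Fin m) F) : Matrix (Fin m ⊕ Fin m) (Fin m ⊕ Fin m) F) *ᵥ
        ((g : Matrix (Fin m ⊕ Fin m) (Fin m ⊕ Fin m) F) *ᵥ v) := by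
    intro v
    rw [hkdef, Units.val_mul, Units.val_mul, ← Matrix.mulVec_mulVec, ← Matrix.mulVec_mulVec,
      mul_inv_mulVec]
  have hka₂ : (k : Matrix (Fin m ⊕ Fin m) (Fin m ⊕ Fin m) F) *ᵥ a₂ = a₂ := by
    apply mulVec_inj g
    rw [hkv, sieg_mulVec a b hba, hga₂a, hga₂b, zero_smul, zero_smul, add_zero, add_zero]
  obtain ⟨c1, -⟩ := key k hkM a₂ ha₂ ha₂0 (by rw [hka₂]; exact ha₂)
  obtain ⟨a₃, ha₃def⟩ : ∃ a₃, a₃ = (k : Matrix (Fin m ⊕ Fin m) (Fin m ⊕ Fin m) F) *ᵥ a₀ :=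
    ⟨_, rfl⟩
  have ha₃ : a₃ ∈ A := by rw [ha₃def]; exact c1 a₀ ha₀
  have hxa : sympForm m F x a = 0 := by
    rw [← hdec, sympForm_add_left, h.hA xA hxA a ha, symm_zero haxB, add_zero]
  have hxb : sympForm m F x b = sympForm m F xA b := by
    rw [← hdec, sympForm_add_left, h.hB xB hxB b hb, add_zero]
  have hga₃ : (g : Matrix (Fin m ⊕ Fin m) (Fin m ⊕ Fin m) F) *ᵥ (a₃ - a₀) =
      sympForm m F xA b • a := by
    rw [Matrix.mulVec_sub, ha₃def, hkv, ← hxdef, sieg_mulVec a b hba, hxa, hxb, zero_smul,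
      add_zero]
    abel
  have hne : a₃ - a₀ ≠ 0 := by
    intro h0
    rw [h0, Matrix.mulVec_zero] at hga₃
    rcases smul_eq_zero.mp hga₃.symm with h5 | h5
    · exact hxAb h5
    · exact ha0 h5
  apply hi (a₃ - a₀) (A.sub_mem ha₃ ha₀) hne
  rw [hga₃]
  exact A.smul_mem _ ha

end Claims

section Main
variable {F : Type*} [Field F] [Fintype F] {m : ℕ}

/-- S5649 for all `3 ≤ m`: the stabiliser of a pair of complementary totally isotropic `m`-spaces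
is maximal in `Sp_2m(q)`, `q` odd. -/
theorem ti_pair_max (hm : 3 ≤ m) (hodd : Odd (Fintype.card F))
    (D : Fin 2 → Submodule F (Fin m ⊕ Fin m → F)) (hD : Cfsg.Geo.IsMDecomposition m D)
    (hts : ∀ i, Cfsg.Geo.IsTotallySingularFor (Cfsg.sympForm m F) (D i)) :
    Cfsg.Geo.IsMaximalIn (Cfsg.spGL m F)
      (Cfsg.Geo.decompositionStabilizer D ⊓ Cfsg.spGL m F) := by
  have h2 : (2 : F) ≠ 0 := by
    have hchar : ringChar F ≠ 2 := by
      intro hch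
      have h1 := FiniteField.even_card_of_char_two hch
      obtain ⟨k, hk⟩ := hodd
      omega
    exact Ring.two_ne_zero hchar
  have hc : IsCompl (D 0) (D 1) := by
    refine ⟨hD.indep.pairwiseDisjoint (by decide), ?_⟩
    rw [codisjoint_iff, eq_top_iff, ← hD.iSup_eq_top]
    apply iSup_le
    intro i
    fin_cases i
    · exact le_sup_left
    · exact le_sup_right
  have h : LP (D 0) (D 1) := ⟨hts 0, hts 1, hc⟩
  have hfrA := hD.finrank_eq 0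
  have hfrB := hD.finrank_eq 1
  have hmem_of : ∀ g : GL (Fin m ⊕ Fin m) F,
      ((∀ a ∈ D 0, (g : Matrix (Fin m ⊕ Fin m) (Fin m ⊕ Fin m) F) *ᵥ a ∈ D 0) ∧
        (∀ b ∈ D 1, (g : Matrix (Fin m ⊕ Fin m) (Fin m ⊕ Fin m) F) *ᵥ b ∈ D 1)) ∨
      ((∀ a ∈ D 0, (g : Matrix (Fin m ⊕ Fin m) (Fin m ⊕ Fin m) F) *ᵥ a ∈ D 1) ∧
        (∀ b ∈ D 1, (g : Matrix (Fin m ⊕ Fin m) (Fin m ⊕ Fin m) F) *ᵥ b ∈ D 0)) →
      g ∈ Cfsg.Geo.decompositionStabilizer D := by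
    rintro g (⟨h1, h2⟩ | ⟨h1, h2⟩)
    · refine ⟨1, fun i => ?_⟩
      fin_cases i
      · exact map_eq_of_maps h1 rfl
      · exact map_eq_of_maps h2 rfl
    · refine ⟨Equiv.swap 0 1, fun i => ?_⟩
      fin_cases i
      · change (D 0).map _ = D (Equiv.swap 0 1 0)
        rw [Equiv.swap_apply_left]
        exact map_eq_of_maps h1 (by rw [hfrA, hfrB])
      · change (D 1).map _ = D (Equiv.swap 0 1 1)
        rw [Equiv.swap_apply_right]
        exact map_eq_of_maps h2 (by rw [hfrA, hfrB])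
  have hne0 : ∃ a ∈ D 0, a ≠ 0 := by
    apply (Submodule.ne_bot_iff _).mp
    intro hbot
    rw [hbot, finrank_bot] at hfrA
    omega
  have hne1 : ∃ b ∈ D 1, b ≠ 0 := by
    apply (Submodule.ne_bot_iff _).mp
    intro hbot
    rw [hbot, finrank_bot] at hfrB
    omega
  have hE0 : ∀ a ∈ D 0, ∀ b ∈ D 1, sympForm m F b a = 0 →
      sieg a b ∈ Cfsg.Geo.decompositionStabilizer D ⊓ Cfsg.spGL m F := by
    intro a ha b hb hba
    refine ⟨hmem_of _ (Or.inl ⟨?_, ?_⟩), sieg_mem _ _⟩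
    · intro x hx
      rw [sieg_mulVec a b hba, h.hA x hx a ha, zero_smul, add_zero]
      exact (D 0).add_mem hx ((D 0).smul_mem _ ha)
    · intro x hx
      rw [sieg_mulVec a b hba, h.hB x hx b hb, zero_smul, add_zero]
      exact (D 1).add_mem hx ((D 1).smul_mem _ hb)
  have hE1 : ∀ b ∈ D 1, ∀ a ∈ D 0, sympForm m F a b = 0 →
      sieg b a ∈ Cfsg.Geo.decompositionStabilizer D ⊓ Cfsg.spGL m F := by
    intro b hb a ha hab
    refine ⟨hmem_of _ (Or.inl ⟨?_, ?_⟩), sieg_mem _ _⟩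
    · intro x hx
      rw [sieg_mulVec b a hab, h.hA x hx a ha, zero_smul, add_zero]
      exact (D 0).add_mem hx ((D 0).smul_mem _ ha)
    · intro x hx
      rw [sieg_mulVec b a hab, h.hB x hx b hb, zero_smul, add_zero]
      exact (D 1).add_mem hx ((D 1).smul_mem _ hb)
  refine ⟨?_, ?_⟩
  · rw [lt_iff_le_and_ne]
    refine ⟨inf_le_right, fun heq => ?_⟩
    obtain ⟨a, ha, ha0⟩ := hne0
    obtain ⟨b, hb, hab⟩ := h.nd ha ha0
    have hT : tvc a 1 ∈ Cfsg.Geo.decompositionStabilizer D ⊓ Cfsg.spGL m F := by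
      rw [heq]; exact tvc_mem _ _
    obtain ⟨σ, hσ⟩ := hT.1
    have hTa : (tvc a (1 : F) : Matrix (Fin m ⊕ Fin m) (Fin m ⊕ Fin m) F) *ᵥ a = a := by
      rw [tvc_mulVec, sympForm_self, mul_zero, zero_smul, add_zero]
    have h0 : σ 0 = 0 := by
      by_contra hne
      have h1 : σ 0 = 1 := by
        obtain ⟨v, hv⟩ : ∃ v, σ 0 = v := ⟨_, rfl⟩
        fin_cases v
        · exact absurd hv hne
        · exact hv
      have h3 : a ∈ D (σ 0) := by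
        rw [← hσ 0]
        exact ⟨a, ha, by rw [Matrix.toLin'_apply]; exact hTa⟩
      rw [h1] at h3
      exact ha0 (h.inf_eq ha h3)
    have h1 : σ 1 = 1 := by
      obtain ⟨v, hv⟩ : ∃ v, σ 1 = v := ⟨_, rfl⟩
      fin_cases v
      · exfalso
        have := σ.injective (hv.trans h0.symm)
        exact absurd this (by decide)
      · exact hv
    have h3 : (tvc a (1 : F) : Matrix (Fin m ⊕ Fin m) (Fin m ⊕ Fin m) F) *ᵥ b ∈ D 1 := by
      have h4 : (tvc a (1 : F) : Matrix (Fin m ⊕ Fin m) (Fin m ⊕ Fin m) F) *ᵥ b ∈ D (σ 1) := by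
        rw [← hσ 1]
        exact ⟨b, hb, by rw [Matrix.toLin'_apply]⟩
      rwa [h1] at h4
    rw [tvc_mulVec, one_mul, (D 1).add_mem_iff_right hb] at h3
    have hba : sympForm m F b a ≠ 0 := by
      rw [sympForm_swap]
      exact neg_ne_zero.mpr hab
    have h5 : a ∈ D 1 := by
      have := (D 1).smul_mem (sympForm m F b a)⁻¹ h3
      rwa [smul_smul, inv_mul_cancel₀ hba, one_smul] at this
    exact ha0 (h.inf_eq ha h5)
  · intro M hHM hMS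
    by_cases hMH : M = Cfsg.Geo.decompositionStabilizer D ⊓ Cfsg.spGL m F
    · left; exact hMH
    right
    apply le_antisymm hMS
    -- the swap
    obtain ⟨J, hJS, hJA, hJB, -⟩ := exists_swap m (D 0) (D 1) (hts 0) (hts 1)
      (fun a ha ha0 => h.nd ha ha0)
      (fun b hb hb0 => by
        obtain ⟨a, ha, hba⟩ := h.symm.nd hb hb0
        exact ⟨a, ha, by rw [sympForm_swap]; exact neg_ne_zero.mpr hba⟩) hfrA
    have hJH : J ∈ Cfsg.Geo.decompositionStabilizer D ⊓ Cfsg.spGL m F :=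
      ⟨hmem_of J (Or.inr ⟨hJA, hJB⟩), hJS⟩
    have hJM : J ∈ M := hHM hJH
    have hall : ∀ v, v ∈ Sset M := by
      by_cases hNA : ∀ a ∈ D 0, a ≠ 0 → a ∉ Sset M
      · by_cases hNB : ∀ b ∈ D 1, b ≠ 0 → b ∉ Sset M
        · exfalso
          apply hMH
          apply le_antisymm _ hHM
          exact le_of_NT hm h2 hMS h hfrA hfrB (fun a ha b hb hba => hHM (hE0 a ha b hb hba))
            (fun b hb a ha hab => hHM (hE1 b hb a ha hab)) hNA hNB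
            (fun g hg c1 c2 => ⟨hmem_of g (Or.inl ⟨c1, c2⟩), hMS hg⟩) hJH hJM hJB
        · push Not at hNB
          obtain ⟨b, hb, hb0, hbS⟩ := hNB
          have hBS := spread hMS h.symm (fun b hb a ha hab => hHM (hE1 b hb a ha hab)) hb hb0 hbS
          have hAS : ∀ a ∈ D 0, a ∈ Sset M := by
            intro a ha
            have h3 := Sset_mulVec_mem hMS (M.inv_mem hJM) (hBS _ (hJA a ha))
            rwa [inv_mul_mulVec] at h3
          exact all_of_AB hMS h hAS hBS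
      · push Not at hNA
        obtain ⟨a, ha, ha0, haS⟩ := hNA
        have hAS := spread hMS h (fun a ha b hb hba => hHM (hE0 a ha b hb hba)) ha ha0 haS
        have hBS : ∀ b ∈ D 1, b ∈ Sset M := by
          intro b hb
          have h3 := Sset_mulVec_mem hMS (M.inv_mem hJM) (hAS _ (hJB b hb))
          rwa [inv_mul_mulVec] at h3
        exact all_of_AB hMS h hAS hBS
    exact le_of_forall_mem_Sset M hall

end Main

end Cfsg.Agent.Lib.Helper18.SpTIPair
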