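import Mathlib
import Cfsg.Agent.Lib.Helper27.SpUDefs

/-!
# S2316 leaf L3 (`cW_eq_std`): the `p`-elements fixing a t.i. `d`-subspace `W` pointwise are in
bijection (conjugation by a Witt element) with the `p`-elements of the stabiliser of `e_1..e_d`.
-/

set_option autoImplicit false

namespace Cfsg.Agent.Lib.Helper27.SpU

open Cfsg Matrix Cfsg.Agent.S0775

variable {F : Type*} [Field F]

namespace L3aux

/-- `e_1, …, e_d` is a totally isotropic independent tuple. -/
theorem stdTup_TI' (d k : ℕ) : TI d (stdTup F d k) := by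
  refine ⟨?_, fun i j => ?_⟩
  · have h := Pi.linearIndependent_single_one (Fin (d + k) ⊕ Fin (d + k)) F
    have hinj : Function.Injective (fun i : Fin d => (Sum.inl (Fin.castAdd k i) :
        Fin (d + k) ⊕ Fin (d + k))) := by
      intro a b hab
      have := Sum.inl_injective hab
      exact Fin.castAdd_injective d k this
    exact h.comp _ hinj
  · unfold stdTup Cfsg.sympForm
    rw [Matrix.mulVec_single_one]
    simp [Matrix.J, dotProduct, Pi.single_apply, Matrix.fromBlocks, Matrix.col]

variable {m : ℕ}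

/-- conjugation preserves `IsPElt`. -/
theorem isPElt_conj {G : Type*} [Group G] (p : ℕ) (a g : G) :
    IsPElt p (a * g * a⁻¹) ↔ IsPElt p g := by
  unfold IsPElt
  have h : orderOf g = orderOf (a * g * a⁻¹) :=
    SemiconjBy.orderOf_eq a (x := g) (y := a * g * a⁻¹) (by
      unfold SemiconjBy
      group)
  rw [h]

/-- `IsPElt` of an element of a subgroup. -/
theorem isPElt_coe {G : Type*} [Group G] (p : ℕ) (H : Subgroup G) (g : H) :
    IsPElt p (g : G) ↔ IsPElt p g := by
  unfold IsPElt
  rw [Subgroup.orderOf_coe]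

/-- `W ≤ fixSp g` iff `g` fixes a spanning tuple. -/
theorem le_fixSp_iff (k : ℕ) (W : Submodule F (Fin m ⊕ Fin m → F)) (x : Tup F m k)
    (hxW : Submodule.span F (Set.range x) = W) (g : Matrix.symplecticGroup (Fin m) F) :
    W ≤ fixSp g ↔ g • x = x := by
  rw [← hxW, Submodule.span_le]
  constructor
  · intro h
    funext i
    rw [Cfsg.Agent.S0775.smul_apply]
    exact (mem_fixSp g (x i)).1 (h ⟨i, rfl⟩)
  · rintro h _ ⟨i, rfl⟩
    show x i ∈ fixSp g
    rw [mem_fixSp]
    have := congrFun h i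
    rw [Cfsg.Agent.S0775.smul_apply] at this
    exact this

end L3aux

open L3aux in
/-- For a t.i. `W` of dimension `d` in `F^(2(d+k))`: the `p`-elements fixing `W` pointwise are
conjugate (by `S0775.orbit_eq`, basis of `W` = `A • stdTup`) to those fixing `e_1..e_d`. -/
theorem cW_eq_std (p : ℕ) (d k : ℕ) (W : Submodule F (Fin (d + k) ⊕ Fin (d + k) → F))
    (hW : TIsub W) (hd : Module.finrank F W = d) :
    cW p W = Nat.card {g : MulAction.stabilizer (Matrix.symplecticGroup (Fin (d + k)) F)
      (stdTup F d k) // IsPElt p g} := by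
  let b : Module.Basis (Fin d) F W := Module.finBasisOfFinrankEq F W hd
  let x : Tup F (d + k) d := fun i => (b i : Fin (d + k) ⊕ Fin (d + k) → F)
  obtain ⟨hx, hxW⟩ := tuple_of_li W d hd hW b b.linearIndependent
  have hmem : x ∈ MulAction.orbit (Matrix.symplecticGroup (Fin (d + k)) F) (stdTup F d k) := by
    rw [orbit_eq d (stdTup F d k) (stdTup_TI' d k)]
    exact hx
  obtain ⟨A, hA⟩ := hmem
  have hA' : A • stdTup F d k = x := hA
  unfold cW
  apply Nat.card_congr
  refine
    { toFun := fun g => ⟨⟨A⁻¹ * g.1 * A, ?_⟩, ?_⟩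
      invFun := fun h => ⟨A * h.1.1 * A⁻¹, ?_, ?_⟩
      left_inv := fun g => ?_
      right_inv := fun h => ?_ }
  · rw [MulAction.mem_stabilizer_iff, mul_smul, mul_smul, hA',
      (le_fixSp_iff d W x hxW g.1).1 g.2.2, ← hA', inv_smul_smul]
  · have h1 := (isPElt_conj p A⁻¹ g.1).2 g.2.1
    rw [inv_inv] at h1
    exact (isPElt_coe p _ ⟨A⁻¹ * g.1 * A, _⟩).1 h1
  · exact (isPElt_conj p A h.1.1).2 ((isPElt_coe p _ h.1).2 h.2)
  · rw [le_fixSp_iff d W x hxW, mul_smul, mul_smul, ← hA', inv_smul_smul]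
    have := h.1.2
    rw [MulAction.mem_stabilizer_iff] at this
    rw [this]
  · apply Subtype.ext
    show A * (A⁻¹ * g.1 * A) * A⁻¹ = g.1
    group
  · apply Subtype.ext
    apply Subtype.ext
    show A⁻¹ * (A * h.1.1 * A⁻¹) * A = h.1.1
    group

end Cfsg.Agent.Lib.Helper27.SpU
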