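import Mathlib

/-!
A free subgroup of infinite rank in `SL₂(𝔽₂[X])`, by the ping-pong lemma (helper18).
-/

set_option autoImplicit false

namespace Cfsg.Agent.Lib.Helper18.SzLaw

open Polynomial Matrix

/-- upper unitriangular matrices over `𝔽₂[X]` -/
noncomputable def uM (c : (ZMod 2)[X]) : SpecialLinearGroup (Fin 2) (ZMod 2)[X] :=
  ⟨!![1, c; 0, 1], by simp [Matrix.det_fin_two]⟩

/-- lower unitriangular matrices over `𝔽₂[X]` -/
noncomputable def lM (c : (ZMod 2)[X]) : SpecialLinearGroup (Fin 2) (ZMod 2)[X] :=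
  ⟨!![1, 0; c, 1], by simp [Matrix.det_fin_two]⟩

theorem add_self_poly (c : (ZMod 2)[X]) : c + c = 0 := CharTwo.add_self_eq_zero c

theorem uM_mul_self (c : (ZMod 2)[X]) : uM c * uM c = 1 := by
  apply Subtype.ext
  change (!![1, c; 0, 1] * !![1, c; 0, 1] : Matrix (Fin 2) (Fin 2) (ZMod 2)[X]) = 1
  ext i j
  fin_cases i <;> fin_cases j <;> simp [Matrix.mul_apply, Fin.sum_univ_two, add_self_poly]

theorem lM_mul_self (c : (ZMod 2)[X]) : lM c * lM c = 1 := by
  apply Subtype.ext
  change (!![1, 0; c, 1] * !![1, 0; c, 1] : Matrix (Fin 2) (Fin 2) (ZMod 2)[X]) = 1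
  ext i j
  fin_cases i <;> fin_cases j <;> simp [Matrix.mul_apply, Fin.sum_univ_two, add_self_poly]

theorem uM_inv (c : (ZMod 2)[X]) : (uM c)⁻¹ = uM c := inv_eq_of_mul_eq_one_left (uM_mul_self c)

theorem lM_inv (c : (ZMod 2)[X]) : (lM c)⁻¹ = lM c := inv_eq_of_mul_eq_one_left (lM_mul_self c)

/-- the nonzero vectors -/
def NZ : Type := {v : Fin 2 → (ZMod 2)[X] // v ≠ 0}

noncomputable instance : MulAction (SpecialLinearGroup (Fin 2) (ZMod 2)[X]) NZ where
  smul g v := ⟨g • v.1, fun h => v.2 (by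
    have h1 := congrArg (fun w => g⁻¹ • w) h
    simpa using h1)⟩
  one_smul v := Subtype.ext (one_smul _ v.1)
  mul_smul g h v := Subtype.ext (mul_smul g h v.1)

theorem smul_val (g : SpecialLinearGroup (Fin 2) (ZMod 2)[X]) (v : NZ) :
    (g • v).1 = g.1 *ᵥ v.1 := rfl

theorem uM_smul_zero (c : (ZMod 2)[X]) (v : NZ) : (uM c • v).1 0 = v.1 0 + c * v.1 1 := by
  rw [smul_val]
  simp [uM, Matrix.mulVec, dotProduct, Fin.sum_univ_two]

theorem uM_smul_one (c : (ZMod 2)[X]) (v : NZ) : (uM c • v).1 1 = v.1 1 := by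
  rw [smul_val]
  simp [uM, Matrix.mulVec, dotProduct, Fin.sum_univ_two]

theorem lM_smul_zero (c : (ZMod 2)[X]) (v : NZ) : (lM c • v).1 0 = v.1 0 := by
  rw [smul_val]
  simp [lM, Matrix.mulVec, dotProduct, Fin.sum_univ_two]

theorem lM_smul_one (c : (ZMod 2)[X]) (v : NZ) : (lM c • v).1 1 = c * v.1 0 + v.1 1 := by
  rw [smul_val]
  simp [lM, Matrix.mulVec, dotProduct, Fin.sum_univ_two]

/-- the unit disc around `c` -/
def Yc (c : (ZMod 2)[X]) : Set NZ := {v | degree (v.1 0 + c * v.1 1) < degree (v.1 1)}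

theorem mem_Yc (c : (ZMod 2)[X]) (v : NZ) :
    v ∈ Yc c ↔ degree (v.1 0 + c * v.1 1) < degree (v.1 1) := Iff.rfl

theorem uM_smul_mem (c c' : (ZMod 2)[X]) (v : NZ) : uM c • v ∈ Yc (c + c') ↔ v ∈ Yc c' := by
  rw [mem_Yc, mem_Yc, uM_smul_zero, uM_smul_one]
  have : v.1 0 + c * v.1 1 + (c + c') * v.1 1 = v.1 0 + c' * v.1 1 := by
    have h := add_self_poly (c * v.1 1)
    linear_combination h
  rw [this]

/-- the lower unitriangular involution maps the outside of the unit disc into it -/
theorem lM_smul_mem (v : NZ) (hv : v ∉ Yc 0) : lM X • v ∈ Yc 0 := by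
  rw [mem_Yc, zero_mul, add_zero, not_lt] at hv
  have h0 : v.1 0 ≠ 0 := by
    intro h0
    rw [h0, degree_zero, le_bot_iff, degree_eq_bot] at hv
    apply v.2
    funext i
    fin_cases i
    · exact h0
    · exact hv
  rw [mem_Yc, zero_mul, add_zero, lM_smul_zero, lM_smul_one]
  have h1 : degree (v.1 1) < degree (X * v.1 0) := by
    rw [degree_mul, degree_X]
    calc degree (v.1 1) ≤ degree (v.1 0) := hv
      _ < 1 + degree (v.1 0) := by
        rw [degree_eq_natDegree h0]
        have : ((1 : ℕ) : WithBot ℕ) + ((v.1 0).natDegree : WithBot ℕ) =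
            ((1 + (v.1 0).natDegree : ℕ) : WithBot ℕ) := by push_cast; rfl
        rw [show (1 : WithBot ℕ) = ((1 : ℕ) : WithBot ℕ) from rfl, this]
        exact_mod_cast Nat.lt_one_add_iff.mpr le_rfl
  rw [degree_add_eq_left_of_degree_lt h1]
  calc degree (v.1 0) ≤ degree (v.1 1) ⊔ degree (v.1 0) := le_sup_right
    _ = degree (v.1 0) := sup_eq_right.mpr hv
    _ < degree (X * v.1 0) := by
        rw [degree_mul, degree_X, degree_eq_natDegree h0]
        have : ((1 : ℕ) : WithBot ℕ) + ((v.1 0).natDegree : WithBot ℕ) =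
            ((1 + (v.1 0).natDegree : ℕ) : WithBot ℕ) := by push_cast; rfl
        rw [show (1 : WithBot ℕ) = ((1 : ℕ) : WithBot ℕ) from rfl, this]
        exact_mod_cast Nat.lt_one_add_iff.mpr le_rfl

/-- distinct unit discs are disjoint -/
theorem Yc_disjoint {c c' : (ZMod 2)[X]} (h : c ≠ c') : Disjoint (Yc c) (Yc c') := by
  rw [Set.disjoint_left]
  intro v h1 h2
  rw [mem_Yc] at h1 h2
  have hv1 : v.1 1 ≠ 0 := by
    intro h0
    rw [h0, degree_zero] at h1
    exact not_lt_bot h1
  have hcc : c + c' ≠ 0 := by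
    intro h0
    apply h
    have := add_self_poly c'
    linear_combination h0 - this
  have e : (c + c') * v.1 1 = (v.1 0 + c * v.1 1) + (v.1 0 + c' * v.1 1) := by
    have := add_self_poly (v.1 0)
    linear_combination -this
  have h3 : degree ((c + c') * v.1 1) < degree (v.1 1) := by
    rw [e]
    exact lt_of_le_of_lt (degree_add_le _ _) (max_lt h1 h2)
  rw [degree_mul, degree_eq_natDegree hcc, degree_eq_natDegree hv1] at h3
  have h4 : (((c + c').natDegree + (v.1 1).natDegree : ℕ) : WithBot ℕ) <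
      ((v.1 1).natDegree : WithBot ℕ) := by
    push_cast
    exact h3
  have h5 : (c + c').natDegree + (v.1 1).natDegree < (v.1 1).natDegree := by exact_mod_cast h4
  omega

theorem Yc_nonempty (c : (ZMod 2)[X]) : (Yc c).Nonempty := by
  refine ⟨⟨![c, 1], fun h => ?_⟩, ?_⟩
  · have := congrFun h 1
    simp at this
  · show degree ((![c, 1] : Fin 2 → (ZMod 2)[X]) 0 + c * (![c, 1] : Fin 2 → (ZMod 2)[X]) 1) <
      degree ((![c, 1] : Fin 2 → (ZMod 2)[X]) 1)
    simp only [Matrix.cons_val_zero, Matrix.cons_val_one, mul_one]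
    rw [add_self_poly, degree_zero, degree_one]
    exact WithBot.bot_lt_coe 0

/-- the translation parameters -/
noncomputable def pp (i : ℕ) : (ZMod 2)[X] := X ^ (i + 2)

theorem pp_injective : Function.Injective pp := by
  intro i j h
  have := congrArg natDegree h
  simp only [pp, natDegree_X_pow] at this
  omega

theorem pp_add_ne (i j : ℕ) : pp i + X ≠ pp j := by
  intro h
  have := congrArg (fun p => coeff p 1) h
  simp only [pp, coeff_add, coeff_X_pow, coeff_X_one] at this
  rw [if_neg (by omega), if_neg (by omega)] at this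
  simp at this

/-- the free generators -/
noncomputable def gg (i : ℕ) : SpecialLinearGroup (Fin 2) (ZMod 2)[X] :=
  uM (pp i + X) * lM X * uM (pp i)

theorem gg_inv (i : ℕ) : (gg i)⁻¹ = uM (pp i) * lM X * uM (pp i + X) := by
  rw [gg, _root_.mul_inv_rev, _root_.mul_inv_rev, uM_inv, uM_inv, lM_inv, mul_assoc]

/-- **the elements `gg i` freely generate a free subgroup of `SL₂(𝔽₂[X])`** -/
theorem gg_free : Function.Injective (FreeGroup.lift gg) := by
  apply FreeGroup.injective_lift_of_ping_pong gg (fun i => Yc (pp i + X)) (fun i => Yc (pp i))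
  · intro i
    exact Yc_nonempty _
  · intro i j hij
    apply Yc_disjoint
    intro h
    exact hij (pp_injective (add_right_cancel h))
  · intro i j hij
    apply Yc_disjoint
    intro h
    exact hij (pp_injective h)
  · intro i j
    exact Yc_disjoint (pp_add_ne i j)
  · intro i
    rintro _ ⟨v, hv, rfl⟩
    show gg i • v ∈ Yc (pp i + X)
    rw [gg, mul_smul, mul_smul]
    have h1 : uM (pp i) • v ∉ Yc 0 := by
      intro h
      apply hv
      have := (uM_smul_mem (pp i) (pp i) v).mp (by rwa [add_self_poly])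
      exact this
    have h2 := lM_smul_mem _ h1
    have h3 := (uM_smul_mem (pp i + X) 0 _).mpr h2
    rwa [add_zero] at h3
  · intro i
    rintro _ ⟨v, hv, rfl⟩
    show (gg i)⁻¹ • v ∈ Yc (pp i)
    rw [gg_inv, mul_smul, mul_smul]
    have h1 : uM (pp i + X) • v ∉ Yc 0 := by
      intro h
      apply hv
      have := (uM_smul_mem (pp i + X) (pp i + X) v).mp (by rwa [add_self_poly])
      exact this
    have h2 := lM_smul_mem _ h1
    have h3 := (uM_smul_mem (pp i) 0 _).mpr h2
    rwa [add_zero] at h3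

end Cfsg.Agent.Lib.Helper18.SzLaw
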