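import Mathlib

/-!
A nonzero polynomial `P (x, y)` over `𝔽₂` does not vanish identically on the pairs
`(θ, θ ^ 2 ^ (m + 1))`, `θ` in the field with `2 ^ (2 m + 1)` elements, for `m` large (helper18).
-/

set_option autoImplicit false

namespace Cfsg.Agent.Lib.Helper18.SzLaw

open Polynomial

/-- substituting `Y ↦ X ^ s` in a nonzero polynomial whose coefficients have degree `< s` -/
theorem subst_ne_zero (P : (ZMod 2)[X][X]) (hP : P ≠ 0) (s : ℕ)
    (hs : ∀ j, (P.coeff j).natDegree < s) : P.eval (X ^ s) ≠ 0 := by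
  have hlc : P.coeff P.natDegree ≠ 0 := leadingCoeff_ne_zero.mpr hP
  intro h
  have hc := congrArg (fun q => q.coeff ((P.coeff P.natDegree).natDegree + s * P.natDegree)) h
  simp only [coeff_zero] at hc
  rw [eval_eq_sum_range, finsetSum_coeff, Finset.sum_eq_single P.natDegree] at hc
  · rw [← pow_mul, coeff_mul_X_pow', if_pos (Nat.le_add_left _ _), Nat.add_sub_cancel] at hc
    exact hlc (leadingCoeff_eq_zero.mp hc)
  · intro j hj hjn
    have hj' : j < P.natDegree :=
      lt_of_le_of_ne (Nat.lt_succ_iff.mp (Finset.mem_range.mp hj)) hjn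
    rw [← pow_mul, coeff_mul_X_pow']
    split_ifs with h1
    · apply coeff_eq_zero_of_natDegree_lt
      have h2 := hs j
      have h3 : s * (j + 1) ≤ s * P.natDegree := Nat.mul_le_mul_left s hj'
      have h4 : s * (j + 1) = s * j + s := by ring
      omega
    · rfl
  · intro hn
    exact absurd (Finset.mem_range.mpr (Nat.lt_succ_self _)) hn

/-- degree bound for the substitution -/
theorem natDegree_subst_lt (P : (ZMod 2)[X][X]) (s : ℕ)
    (hs : ∀ j, (P.coeff j).natDegree < s) :
    (P.eval (X ^ s)).natDegree < s * (P.natDegree + 1) := by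
  have hs0 : 0 < s := lt_of_le_of_lt (Nat.zero_le _) (hs 0)
  rw [eval_eq_sum_range]
  have hpos : 0 < s * (P.natDegree + 1) := Nat.mul_pos hs0 (Nat.succ_pos _)
  apply lt_of_le_of_lt (natDegree_sum_le_of_forall_le (n := s * (P.natDegree + 1) - 1) _ _ ?_)
  · omega
  · intro j hj
    have hj' : j ≤ P.natDegree := Nat.lt_succ_iff.mp (Finset.mem_range.mp hj)
    rw [← pow_mul]
    apply le_trans (natDegree_mul_le)
    rw [natDegree_X_pow]
    have h2 := hs j
    have h3 : s * j ≤ s * P.natDegree := Nat.mul_le_mul_left s hj'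
    have h4 : s * (P.natDegree + 1) = s * P.natDegree + s := by ring
    omega

/-- evaluation of a two-variable polynomial over `𝔽₂` in a field of characteristic two -/
noncomputable def evalHom {F : Type*} [Field F] [CharP F 2] (θ η : F) : (ZMod 2)[X][X] →+* F :=
  eval₂RingHom (eval₂RingHom (ZMod.castHom (dvd_refl 2) F) θ) η

theorem evalHom_X {F : Type*} [Field F] [CharP F 2] (θ η : F) : evalHom θ η X = η := by
  simp [evalHom]

theorem evalHom_C_X {F : Type*} [Field F] [CharP F 2] (θ η : F) : evalHom θ η (C X) = θ := by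
  simp [evalHom]

theorem evalHom_eq {F : Type*} [Field F] [CharP F 2] (θ : F) (s : ℕ) (P : (ZMod 2)[X][X]) :
    evalHom θ (θ ^ s) P = ((P.eval (X ^ s)).map (ZMod.castHom (dvd_refl 2) F)).eval θ := by
  rw [eval_map]
  have h : evalHom θ (θ ^ s) =
      (eval₂RingHom (ZMod.castHom (dvd_refl 2) F) θ).comp (evalRingHom (X ^ s)) := by
    apply Polynomial.ringHom_ext
    · intro a
      simp [evalHom]
    · simp [evalHom]
  rw [h]
  rfl

/-- **nonvanishing on the twisted diagonal** -/
theorem exists_eval_ne_zero.{u} (P : (ZMod 2)[X][X]) (hP : P ≠ 0) :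
    ∃ N : ℕ, ∀ (F : Type u) [Field F] [Fintype F] [CharP F 2] (m : ℕ), N ≤ m →
      Fintype.card F = 2 ^ (2 * m + 1) → ∃ θ : F, evalHom θ (θ ^ 2 ^ (m + 1)) P ≠ 0 := by
  set D : ℕ := (Finset.range (P.natDegree + 1)).sup (fun j => (P.coeff j).natDegree) with hD
  refine ⟨D + P.natDegree + 1, ?_⟩
  intro F _ _ _ m hm hF
  by_contra hcon
  push Not at hcon
  set s : ℕ := 2 ^ (m + 1) with hsdef
  have h1 : m + 1 < 2 ^ (m + 1) := Nat.lt_two_pow_self
  have h1' : m < 2 ^ m := Nat.lt_two_pow_self
  have hs : ∀ j, (P.coeff j).natDegree < s := by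
    intro j
    by_cases hj : j ∈ Finset.range (P.natDegree + 1)
    · have : (P.coeff j).natDegree ≤ D := Finset.le_sup (f := fun j => (P.coeff j).natDegree) hj
      omega
    · have hj' : P.natDegree < j := by
        rw [Finset.mem_range] at hj
        omega
      rw [coeff_eq_zero_of_natDegree_lt hj', natDegree_zero]
      omega
  have hQ := subst_ne_zero P hP s hs
  have hdeg := natDegree_subst_lt P s hs
  set Q : (ZMod 2)[X] := P.eval (X ^ s) with hQdef
  have hQF : Q.map (ZMod.castHom (dvd_refl 2) F) = 0 := by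
    apply eq_zero_of_natDegree_lt_card_of_eval_eq_zero (f := (id : F → F)) _ Function.injective_id
    · intro θ
      rw [id, ← evalHom_eq]
      exact hcon θ
    · apply lt_of_le_of_lt natDegree_map_le
      apply lt_of_lt_of_le hdeg
      rw [hF]
      have h2 : P.natDegree + 1 ≤ 2 ^ m := by omega
      calc s * (P.natDegree + 1) ≤ 2 ^ (m + 1) * 2 ^ m := Nat.mul_le_mul_left _ h2
        _ = 2 ^ (2 * m + 1) := by rw [← pow_add]; congr 1; ring
  exact hQ ((Polynomial.map_eq_zero _).mp hQF)

end Cfsg.Agent.Lib.Helper18.SzLaw
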