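import Mathlib
import Cfsg.Agent.Lib.Helper18.SzLawFree
import Cfsg.Agent.Lib.Helper18.SzLawPoly
import Cfsg.Agent.Lib.Helper15.SuzukiLie

/-!
A nontrivial group law fails in all large Suzuki groups: generic Suzuki elements over `𝔽₂[x][y]`,
their specialisation to a free subgroup of `SL₂(𝔽₂[X])` and their evaluation in `Sz(q)` (helper18).
-/

set_option autoImplicit false

namespace Cfsg.Agent.Lib.Helper18.SzLaw

open Polynomial Matrix
open Cfsg.Agent.Lib.Helper15.SuzukiAlg Cfsg.Agent.Lib.Helper15.SuzukiOvoid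
  Cfsg.Agent.Lib.Helper15.SuzukiMat Cfsg.Agent.Lib.Helper15.SuzukiGroup
  Cfsg.Agent.Lib.Helper15.SuzukiLie

section generic

variable {R : Type*} [CommRing R]

/-- generic upper unipotent matrix: `a'` plays the role of `σ a` -/
def TGm (a a' : R) : Matrix (Fin 4) (Fin 4) R :=
  Matrix.of ![![1, a, a * a', a ^ 2 * a'], ![0, 1, a', 0], ![0, 0, 1, a], ![0, 0, 0, 1]]

/-- generic lower unipotent matrix -/
def LGm (a a' : R) : Matrix (Fin 4) (Fin 4) R :=
  Matrix.of ![![1, 0, 0, 0], ![a, 1, 0, 0], ![0, a', 1, 0], ![a ^ 2 * a', a * a', a, 1]]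

theorem det_TGm (a a' : R) : (TGm a a').det = 1 := by
  have h : (TGm a a').BlockTriangular id := by
    intro i j hij
    fin_cases i <;> fin_cases j <;> first | rfl | (exfalso; revert hij; decide)
  rw [Matrix.det_of_isUpperTriangular h, Fin.prod_univ_four]
  simp [TGm]

theorem det_LGm (a a' : R) : (LGm a a').det = 1 := by
  have h : (LGm a a').IsLowerTriangular := by
    intro i j hij
    fin_cases i <;> fin_cases j <;> first | rfl | (exfalso; revert hij; decide)
  rw [Matrix.det_of_isLowerTriangular _ h, Fin.prod_univ_four]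
  simp [LGm]

/-- generic upper unipotent element -/
def TG (a a' : R) : SpecialLinearGroup (Fin 4) R := ⟨TGm a a', det_TGm a a'⟩

/-- generic lower unipotent element -/
def LG (a a' : R) : SpecialLinearGroup (Fin 4) R := ⟨LGm a a', det_LGm a a'⟩

theorem map_TG {S : Type*} [CommRing S] (φ : R →+* S) (a a' : R) :
    SpecialLinearGroup.map φ (TG a a') = TG (φ a) (φ a') := by
  apply Subtype.ext
  ext i j
  show φ (TGm a a' i j) = TGm (φ a) (φ a') i j
  fin_cases i <;> fin_cases j <;> simp [TGm]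

theorem map_LG {S : Type*} [CommRing S] (φ : R →+* S) (a a' : R) :
    SpecialLinearGroup.map φ (LG a a') = LG (φ a) (φ a') := by
  apply Subtype.ext
  ext i j
  show φ (LGm a a' i j) = LGm (φ a) (φ a') i j
  fin_cases i <;> fin_cases j <;> simp [LGm]

/-- the coercion to matrices as a monoid homomorphism -/
def coeHom (n : Type*) [DecidableEq n] [Fintype n] (R : Type*) [CommRing R] :
    SpecialLinearGroup n R →* Matrix n n R where
  toFun g := g.1
  map_one' := rfl
  map_mul' _ _ := rfl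

/-- the block diagonal embedding `g ↦ g ⊕ g` -/
def rho : SpecialLinearGroup (Fin 2) R →* Matrix (Fin 4) (Fin 4) R where
  toFun g := Matrix.of ![![g.1 0 0, g.1 0 1, 0, 0], ![g.1 1 0, g.1 1 1, 0, 0],
    ![0, 0, g.1 0 0, g.1 0 1], ![0, 0, g.1 1 0, g.1 1 1]]
  map_one' := by
    ext i j
    fin_cases i <;> fin_cases j <;> simp
  map_mul' g h := by
    ext i j
    fin_cases i <;> fin_cases j <;>
      simp [Matrix.mul_apply, Fin.sum_univ_four, Fin.sum_univ_two]

theorem rho_eq_one {g : SpecialLinearGroup (Fin 2) R} (h : rho g = 1) : g = 1 := by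
  apply Subtype.ext
  ext i j
  have h00 := congrFun (congrFun h 0) 0
  have h01 := congrFun (congrFun h 0) 1
  have h10 := congrFun (congrFun h 1) 0
  have h11 := congrFun (congrFun h 1) 1
  simp [rho] at h00 h01 h10 h11
  fin_cases i <;> fin_cases j <;> simp [h00, h01, h10, h11]

end generic

/-- the inner variable -/
noncomputable def xx : (ZMod 2)[X][X] := C (X : (ZMod 2)[X])

/-- the outer variable -/
noncomputable def yy : (ZMod 2)[X][X] := X

/-- the generic elements: words in generic Suzuki elements -/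
noncomputable def GG (i : ℕ) : SpecialLinearGroup (Fin 4) (ZMod 2)[X][X] :=
  TG (xx ^ (i + 2) + xx) (yy ^ (i + 2) + yy) * LG xx yy * TG (xx ^ (i + 2)) (yy ^ (i + 2))

/-- specialisation `y ↦ 0` -/
noncomputable def sp : (ZMod 2)[X][X] →+* (ZMod 2)[X] := evalRingHom 0

theorem coe_TG_zero (c : (ZMod 2)[X]) : (TG c 0).1 = rho (uM c) := by
  ext i j
  fin_cases i <;> fin_cases j <;> simp [TG, TGm, rho, uM]

theorem coe_LG_zero (c : (ZMod 2)[X]) : (LG c 0).1 = rho (lM c) := by
  ext i j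
  fin_cases i <;> fin_cases j <;> simp [LG, LGm, rho, lM]

theorem sp_GG (i : ℕ) : (SpecialLinearGroup.map sp (GG i)).1 = rho (gg i) := by
  rw [GG, map_mul, map_mul, map_TG, map_TG, map_LG]
  have h1 : sp xx = X := by simp [sp, xx]
  have h2 : sp yy = 0 := by simp [sp, yy]
  simp only [map_add, map_pow, h1, h2]
  rw [zero_pow (by omega), add_zero, gg, map_mul, map_mul, ← coe_TG_zero, ← coe_TG_zero,
    ← coe_LG_zero]
  rfl

/-- the generic word is nontrivial -/
theorem lift_GG_ne_one {w : FreeGroup ℕ} (hw : w ≠ 1) : FreeGroup.lift GG w ≠ 1 := by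
  intro h
  apply hw
  apply gg_free
  rw [map_one]
  apply rho_eq_one
  have e : ((coeHom (Fin 4) (ZMod 2)[X]).comp ((SpecialLinearGroup.map sp).comp
      (FreeGroup.lift GG))) = rho.comp (FreeGroup.lift gg) := by
    apply FreeGroup.ext_hom
    intro i
    simp only [MonoidHom.comp_apply, FreeGroup.lift_apply_of]
    exact sp_GG i
  have e2 := DFunLike.congr_fun e w
  simp only [MonoidHom.comp_apply] at e2
  rw [← e2, h, map_one, map_one]

section eval

variable {F : Type*} [Field F]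

theorem TG_eq_T (h2 : (2 : F) = 0) (m : ℕ) (a : F) : TG a (sig h2 m a) = T h2 m a 0 := by
  apply Subtype.ext
  ext i j
  show TGm a (sig h2 m a) i j = Tm (sig h2 m) a 0 i j
  fin_cases i <;> fin_cases j <;> simp [TGm, Tm, f]

theorem LG_eq_T (h2 : (2 : F) = 0) (m : ℕ) (a : F) :
    LG a (sig h2 m a) = Jg h2 * T h2 m a 0 * Jg h2 := by
  apply Subtype.ext
  ext i j
  show LGm a (sig h2 m a) i j = (Cfsg.suzukiForm F * Tm (sig h2 m) a 0 * Cfsg.suzukiForm F) i j
  fin_cases i <;> fin_cases j <;>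
    simp [LGm, Tm, f, Cfsg.suzukiForm, Matrix.mul_apply, Fin.sum_univ_four]

variable [Fintype F] {m : ℕ} (hF : Fintype.card F = 2 ^ (2 * m + 1))

include hF in
theorem map_GG_mem [CharP F 2] (θ : F) (i : ℕ) :
    SpecialLinearGroup.map (evalHom θ (θ ^ 2 ^ (m + 1))) (GG i) ∈ Cfsg.Sz F m := by
  have h2 := two_eq_zero hF
  have hs : ∀ a : F, a ^ 2 ^ (m + 1) = sig h2 m a := fun a => (sig_apply h2 m a).symm
  rw [GG, map_mul, map_mul, map_TG, map_TG, map_LG]
  have hx : evalHom θ (θ ^ 2 ^ (m + 1)) xx = θ := evalHom_C_X _ _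
  have hy : evalHom θ (θ ^ 2 ^ (m + 1)) yy = θ ^ 2 ^ (m + 1) := evalHom_X _ _
  simp only [map_add, map_pow, hx, hy]
  have e1 : (θ ^ 2 ^ (m + 1)) ^ (i + 2) + θ ^ 2 ^ (m + 1) = sig h2 m (θ ^ (i + 2) + θ) := by
    rw [map_add, map_pow, hs]
  have e2 : (θ ^ 2 ^ (m + 1)) ^ (i + 2) = sig h2 m (θ ^ (i + 2)) := by
    rw [map_pow, hs]
  rw [e1, e2, hs θ, TG_eq_T, TG_eq_T, LG_eq_T]
  exact (Cfsg.Sz F m).mul_mem ((Cfsg.Sz F m).mul_mem (T_mem hF _ _)
    ((Cfsg.Sz F m).mul_mem ((Cfsg.Sz F m).mul_mem (Jg_mem hF) (T_mem hF _ _)) (Jg_mem hF)))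
    (T_mem hF _ _)

end eval

/-- **a nontrivial law fails in all large Suzuki groups** (ovoid model) -/
theorem law_fails.{u} (w : FreeGroup ℕ) (hw : w ≠ 1) :
    ∃ N : ℕ, ∀ (F : Type u) [Field F] [Fintype F] (m : ℕ), N ≤ m →
      Fintype.card F = 2 ^ (2 * m + 1) → ∃ f : ℕ → ↥(Cfsg.Sz F m), FreeGroup.lift f w ≠ 1 := by
  have hW := lift_GG_ne_one hw
  obtain ⟨k, l, hkl⟩ : ∃ k l, (FreeGroup.lift GG w).1 k l ≠
      (1 : Matrix (Fin 4) (Fin 4) (ZMod 2)[X][X]) k l := by
    by_contra hcon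
    push Not at hcon
    apply hW
    apply Subtype.ext
    apply Matrix.ext
    intro k l
    exact hcon k l
  have hP : (FreeGroup.lift GG w).1 k l - (1 : Matrix (Fin 4) (Fin 4) (ZMod 2)[X][X]) k l ≠ 0 :=
    sub_ne_zero.mpr hkl
  obtain ⟨N, hN⟩ := exists_eval_ne_zero.{u} _ hP
  refine ⟨N, ?_⟩
  intro F _ _ m hm hF
  have h2 := two_eq_zero hF
  have : CharP F 2 := CharTwo.of_one_ne_zero_of_two_eq_zero one_ne_zero h2
  obtain ⟨θ, hθ⟩ := hN F m hm hF
  set φ := evalHom θ (θ ^ 2 ^ (m + 1)) with hφ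
  refine ⟨fun i => ⟨SpecialLinearGroup.map φ (GG i), map_GG_mem hF θ i⟩, ?_⟩
  intro h1
  apply hθ
  have e : ((Cfsg.Sz F m).subtype.comp (FreeGroup.lift
      (fun i => (⟨SpecialLinearGroup.map φ (GG i), map_GG_mem hF θ i⟩ : ↥(Cfsg.Sz F m))))) =
      (SpecialLinearGroup.map φ).comp (FreeGroup.lift GG) := by
    apply FreeGroup.ext_hom
    intro i
    simp only [MonoidHom.comp_apply, FreeGroup.lift_apply_of]
    rfl
  have e2 := DFunLike.congr_fun e w
  simp only [MonoidHom.comp_apply] at e2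
  rw [h1, map_one] at e2
  have e3 : (SpecialLinearGroup.map φ (FreeGroup.lift GG w)).1 k l =
      (1 : Matrix (Fin 4) (Fin 4) F) k l := by
    rw [← e2]
    rfl
  have e4 : (SpecialLinearGroup.map φ (FreeGroup.lift GG w)).1 k l =
      φ ((FreeGroup.lift GG w).1 k l) := rfl
  rw [map_sub, ← e4, e3]
  by_cases hkl' : k = l
  · subst hkl'
    simp
  · simp [hkl']

end Cfsg.Agent.Lib.Helper18.SzLaw
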