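import Cfsg.Agent.Lib.Helper11.F4Tw20
import Cfsg.Agent.Lib.Helper25.ChInvB

/-! Involutions of `²F₄(q)`: conjugacy inside the twisted group and the reduction of an involution to the
form `n v` with `n ∈ N¹`, `v ∈ U¹` (helper18). -/

set_option autoImplicit false
set_option linter.unusedSectionVars false

namespace Cfsg.Agent.Lib.Helper18.TF4

open Cfsg Cfsg.Lie Matrix Cfsg.Agent.Lib.Helper7 Cfsg.Agent.Lib.Helper11 Cfsg.Agent.Lib.Helper11.Isog
open Cfsg.Agent.Lib.Helper11.F4T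

/-- a group lemma: an involution `m h` with `m² = 1` and `h` of odd order is conjugate to `m` under a
power of `h` -/
theorem conj_pow_invol {G : Type*} [Group G] (m h : G) (k : ℕ) (hm : m * m = 1)
    (hh : h ^ (2 * k + 1) = 1) (hsq : (m * h) * (m * h) = 1) :
    h ^ (k + 1) * (m * h) * (h ^ (k + 1))⁻¹ = m := by
  have hmi : m⁻¹ = m := inv_eq_of_mul_eq_one_right hm
  have h1 : m * h * m⁻¹ = h⁻¹ := by
    rw [hmi]
    have : m * h * m * h = 1 := by rw [← hsq]; group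
    exact eq_inv_of_mul_eq_one_left this
  have h2 : m * h ^ (k + 1) * m⁻¹ = (h ^ (k + 1))⁻¹ := by
    rw [← conj_pow, h1, inv_pow]
  have h3 : m⁻¹ * h ^ (k + 1) * m = (h ^ (k + 1))⁻¹ := by
    have := h2
    rw [hmi] at this ⊢
    exact this
  have hcc : h ^ (k + 1) * h ^ (k + 1) = h := by
    rw [← pow_add]
    have : k + 1 + (k + 1) = (2 * k + 1) + 1 := by ring
    rw [this, pow_succ, hh, one_mul]
  have h4 : (h ^ (k + 1))⁻¹ * h * (h ^ (k + 1))⁻¹ = 1 := by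
    calc (h ^ (k + 1))⁻¹ * h * (h ^ (k + 1))⁻¹
        = (h ^ (k + 1))⁻¹ * (h ^ (k + 1) * h ^ (k + 1)) * (h ^ (k + 1))⁻¹ := by rw [hcc]
      _ = 1 := by group
  calc h ^ (k + 1) * (m * h) * (h ^ (k + 1))⁻¹
      = m * (m⁻¹ * h ^ (k + 1) * m) * h * (h ^ (k + 1))⁻¹ := by group
    _ = m * ((h ^ (k + 1))⁻¹ * h * (h ^ (k + 1))⁻¹) := by rw [h3]; group
    _ = m := by rw [h4, mul_one]

section
variable {F : Type*} [Field F]
variable (τ : ↥(chevF4.group F) ≃* ↥(chevF4.group F))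

/-- conjugacy under the fixed points of the twisting automorphism -/
def Cj (x y : GL chevF4.Idx F) : Prop := ∃ g ∈ fixTau F τ, g * x * g⁻¹ = y

theorem Cj.refl (x : GL chevF4.Idx F) : Cj τ x x := ⟨1, Subgroup.one_mem _, by group⟩

variable {τ}

theorem Cj.symm {x y : GL chevF4.Idx F} (h : Cj τ x y) : Cj τ y x := by
  obtain ⟨g, hg, rfl⟩ := h
  exact ⟨g⁻¹, Subgroup.inv_mem _ hg, by group⟩

theorem Cj.trans {x y z : GL chevF4.Idx F} (h : Cj τ x y) (h' : Cj τ y z) : Cj τ x z := by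
  obtain ⟨g, hg, rfl⟩ := h
  obtain ⟨g', hg', rfl⟩ := h'
  exact ⟨g' * g, Subgroup.mul_mem _ hg' hg, by group⟩

theorem Cj.sq {x y : GL chevF4.Idx F} (h : Cj τ x y) (hx : x * x = 1) : y * y = 1 := by
  obtain ⟨g, hg, rfl⟩ := h
  calc g * x * g⁻¹ * (g * x * g⁻¹) = g * (x * x) * g⁻¹ := by group
    _ = 1 := by rw [hx]; group

theorem Cj.mem {x y : GL chevF4.Idx F} (h : Cj τ x y) (hx : x ∈ fixTau F τ) : y ∈ fixTau F τ := by
  obtain ⟨g, hg, rfl⟩ := h
  exact Subgroup.mul_mem _ (Subgroup.mul_mem _ hg hx) (Subgroup.inv_mem _ hg)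

theorem Cj.ne_one {x y : GL chevF4.Idx F} (h : Cj τ x y) (hx : x ≠ 1) : y ≠ 1 := by
  obtain ⟨g, hg, rfl⟩ := h
  intro h1
  apply hx
  have : x = g⁻¹ * (g * x * g⁻¹) * g := by group
  rw [this, h1]; group

/-- two functions describing the action of the same element of `N` agree on the roots -/
theorem actsAs_unique (n : GL chevF4.Idx F) (f f' : ℕ → ℕ) (h : ActsAs chevF4 f4_mem F n f)
    (h' : ActsAs chevF4 f4_mem F n f') : ∀ s < 48, f s = f' s := by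
  intro s hs
  obtain ⟨hlt, c, hc, h1⟩ := h s hs
  obtain ⟨hlt', c', hc', h1'⟩ := h' s hs
  have := (h1 1).symm.trans (h1' 1)
  exact xGL_root_inj chevF4 f4_mem F _ _ hlt hlt' _ _ (by simpa using hc) this

variable {θ : ℕ} (hτ : TauData F τ θ)
include hτ

/-- every element of the twisted group is conjugate to `n_w h v` with `h ∈ H¹`, `v ∈ U¹` -/
theorem exists_conj_NU (t : GL chevF4.Idx F) (ht : t ∈ fixTau F τ) :
    ∃ w ∈ words16, ∃ h ∈ chevF4.diagonalSubgroup F ⊓ fixTau F τ,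
      ∃ v ∈ chevF4.posUnipotent F ⊓ fixTau F τ,
        Cj τ t (nW F w * h * v) ∧ (t ∉ chevF4.borelSubgroup F → w ≠ []) := by
  obtain ⟨w, hw, b, hb, u, hu, rfl⟩ := fix_cases hτ t ht
  obtain ⟨h, hh, u1, hu1, rfl⟩ := fix_borel hτ b hb
  obtain ⟨hum, huf⟩ := Subgroup.mem_inf.mp hu
  have huU := uMinus_le_posUnipotent chevF4 F _ hum
  obtain ⟨hh1, hh2⟩ := Subgroup.mem_inf.mp hh
  obtain ⟨hu11, hu12⟩ := Subgroup.mem_inf.mp hu1
  have hhi : h⁻¹ ∈ chevF4.diagonalSubgroup F := Subgroup.inv_mem _ hh1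
  refine ⟨w, hw, h, hh, h⁻¹ * u * h⁻¹⁻¹ * u1, ?_, ⟨(h * u1)⁻¹, ?_, by group⟩, ?_⟩
  · refine Subgroup.mem_inf.mpr ⟨Subgroup.mul_mem _ ?_ hu11, ?_⟩
    · exact Cfsg.Agent.Lib.Helper25.ChInv.diag_conj_mem_posUnipotent chevF4 f4_mem F _ hhi u huU
    · exact Subgroup.mul_mem _ (Subgroup.mul_mem _ (Subgroup.mul_mem _ (Subgroup.inv_mem _ hh2) huf)
        (Subgroup.inv_mem _ (Subgroup.inv_mem _ hh2))) hu12
  · exact Subgroup.inv_mem _ (Subgroup.mul_mem _ hh2 hu12)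
  · intro hnb hw0
    apply hnb
    rw [hw0, nW_nil, mul_one]
    exact Subgroup.mul_mem _ (Subgroup.mul_mem _ (diagonal_le_borel chevF4 f4_mem F hh1)
      (posUnipotent_le_borel chevF4 f4_mem F hu11)) (posUnipotent_le_borel chevF4 f4_mem F huU)

end

end Cfsg.Agent.Lib.Helper18.TF4
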