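import Cfsg.Agent.Lib.Helper18.TF4A

/-! Involutions of `²F₄(q)`: the three steps of the cell analysis (top cell, cells of length seven,
lengthening) (helper18). -/

set_option autoImplicit false
set_option linter.unusedSectionVars false

namespace Cfsg.Agent.Lib.Helper18.TF4

open Cfsg Cfsg.Lie Matrix Cfsg.Agent.Lib.Helper7 Cfsg.Agent.Lib.Helper11 Cfsg.Agent.Lib.Helper11.Isog
open Cfsg.Agent.Lib.Helper11.F4T

section
variable {F : Type*} [Field F] [Fintype F]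
variable {τ : ↥(chevF4.group F) ≃* ↥(chevF4.group F)} {θ : ℕ} (hτ : TauData F τ θ)
include hτ

/-- the elements of `H` have odd order -/
theorem exists_odd_order : ∃ k : ℕ, ∀ h ∈ chevF4.diagonalSubgroup F, h ^ (2 * k + 1) = 1 := by
  have hc : CharP F 2 := charP_of_two F hτ.two
  obtain ⟨n, -, hn⟩ := FiniteField.card F 2
  have h2 : 2 ∣ Fintype.card F := by rw [hn]; exact dvd_pow_self 2 n.ne_zero
  have hpos : 0 < Fintype.card F := Fintype.card_pos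
  obtain ⟨j, hj⟩ := h2
  refine ⟨j - 1, fun h hh => ?_⟩
  have e : 2 * (j - 1) + 1 = Fintype.card F - 1 := by omega
  rw [e]
  exact diagonal_pow_card_sub_one chevF4 f4_mem F h hh

/-- an involution `n_w h` with `n_w² = 1` is conjugate to `n_w` under `H¹` -/
theorem conj_nW_diag (w : List ℕ) (hw2 : nW F w * nW F w = 1) (h : GL chevF4.Idx F)
    (hh : h ∈ chevF4.diagonalSubgroup F ⊓ fixTau F τ)
    (hsq : (nW F w * h) * (nW F w * h) = 1) :
    ∃ c ∈ chevF4.diagonalSubgroup F ⊓ fixTau F τ, c * (nW F w * h) * c⁻¹ = nW F w := by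
  obtain ⟨k, hk⟩ := exists_odd_order hτ
  exact ⟨h ^ (k + 1), Subgroup.pow_mem _ hh _,
    conj_pow_invol _ _ k hw2 (hk h (Subgroup.mem_inf.mp hh).1) hsq⟩

/-- an element of `N¹` whose action is that of a word of the list is `n_w h` -/
theorem monomial_eq (n : GL chevF4.Idx F) (hn : n ∈ chevF4.monomialSubgroup F ⊓ fixTau F τ)
    (L : List ℕ) (hact : ActsAs chevF4 f4_mem F n (reflWord chevF4 L)) (w0 : List ℕ)
    (hid : ∀ w ∈ words16, (∀ s < 48, reflWord chevF4 (flatW w) s = reflWord chevF4 L s) → w = w0) :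
    ∃ h ∈ chevF4.diagonalSubgroup F ⊓ fixTau F τ, n = nW F w0 * h := by
  obtain ⟨w, hw, hh⟩ := monomial_inf_fix hτ n hn
  have e : n = nW F w * ((nW F w)⁻¹ * n) := by group
  have hact' : ActsAs chevF4 f4_mem F (nW F w * ((nW F w)⁻¹ * n)) (reflWord chevF4 (flatW w)) :=
    ActsAs.mul chevF4 F (actsAs_nW F w) (actsAs_diag chevF4 f4_mem F _ (Subgroup.mem_inf.mp hh).1)
  rw [← e] at hact'
  have hw0 := hid w hw (actsAs_unique n _ _ hact' hact)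
  rw [hw0] at hh e
  exact ⟨_, hh, e⟩

/-- the top cell: an involution `n v` with `n` sending all positive roots to negative roots is conjugate
to `n_{w₀}` -/
theorem top_case (L : List ℕ)
    (htop : ∀ r ∈ restJ 0 ++ clsJr 0, r < 48 ∧ chevF4.IsNegRoot (reflWord chevF4 L r))
    (hid : ∀ w ∈ words16, (∀ s < 48, reflWord chevF4 (flatW w) s = reflWord chevF4 L s) → w = W8)
    (hW8 : nW F W8 * nW F W8 = 1)
    (n : GL chevF4.Idx F) (hn : n ∈ chevF4.monomialSubgroup F ⊓ fixTau F τ)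
    (hact : ActsAs chevF4 f4_mem F n (reflWord chevF4 L))
    (v : GL chevF4.Idx F) (hv : v ∈ chevF4.posUnipotent F ⊓ fixTau F τ)
    (hsq : (n * v) * (n * v) = 1) : Cj τ (n * v) (nW F W8) := by
  obtain ⟨hnN, hnf⟩ := Subgroup.mem_inf.mp hn
  obtain ⟨hvU, hvf⟩ := Subgroup.mem_inf.mp hv
  obtain ⟨hnn, hinv⟩ := Cfsg.Agent.Lib.Helper25.ChInv.invol_normal_form chevF4 f4_mem F n v hnN hvU hsq
  have hvX : v ∈ XL F (restJ (0 : Fin 2) ++ clsJr (0 : Fin 2)) := by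
    rw [← posUnipotent_eq_XL_J (0 : Fin 2)]; exact hvU
  have h1 := conj_closure_gensL chevF4 f4_mem F n _ hact _ (fun r hr => (htop r hr).1) v hvX
  have h2 : n * v * n⁻¹ ∈ chevF4.negUnipotent F := by
    refine XL_le_neg _ ?_ h1
    intro r hr
    obtain ⟨s, hs, rfl⟩ := List.mem_map.mp hr
    exact (htop s hs).2
  have h3 : v⁻¹ ∈ chevF4.posUnipotent F ⊓ chevF4.negUnipotent F :=
    Subgroup.mem_inf.mpr ⟨Subgroup.inv_mem _ hvU, by rw [← hinv]; exact h2⟩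
  rw [posUnipotent_inf_negUnipotent chevF4 f4_mem F, Subgroup.mem_bot] at h3
  have hv1 : v = 1 := inv_eq_one.mp h3
  subst hv1
  rw [mul_one] at hsq ⊢
  obtain ⟨h, hh, rfl⟩ := monomial_eq hτ n hn L hact W8 hid
  obtain ⟨c, hc, he⟩ := conj_nW_diag hτ W8 hW8 h hh hsq
  exact ⟨c, (Subgroup.mem_inf.mp hc).2, he⟩

/-- the cells of length seven: `n` fixes the class `J'` and sends the other positive roots to negative
roots -/
theorem seven_case (J' : Fin 2) (L : List ℕ) (w7 : List ℕ)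
    (hneg : ∀ r ∈ restJ J', chevF4.IsNegRoot (reflWord chevF4 L r))
    (hst : ∀ r ∈ clsJr J', reflWord chevF4 L r ∈ clsJr J')
    (hst2 : ∀ r ∈ clsJr J', reflWord chevF4 (wJ J' ++ L ++ (wJ J').reverse) r ∈ clsJr J')
    (htop : ∀ r ∈ restJ 0 ++ clsJr 0, r < 48 ∧ chevF4.IsNegRoot (reflWord chevF4 (wJ J' ++ L) r))
    (hidtop : ∀ w ∈ words16,
      (∀ s < 48, reflWord chevF4 (flatW w) s = reflWord chevF4 (wJ J' ++ L) s) → w = W8)
    (hid : ∀ w ∈ words16, (∀ s < 48, reflWord chevF4 (flatW w) s = reflWord chevF4 L s) → w = w7)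
    (hw7 : nW F w7 * nW F w7 = 1) (hW8 : nW F W8 * nW F W8 = 1)
    (n : GL chevF4.Idx F) (hn : n ∈ chevF4.monomialSubgroup F ⊓ fixTau F τ)
    (hact : ActsAs chevF4 f4_mem F n (reflWord chevF4 L))
    (v : GL chevF4.Idx F) (hv : v ∈ chevF4.posUnipotent F ⊓ fixTau F τ)
    (hsq : (n * v) * (n * v) = 1) : Cj τ (n * v) (nW F w7) ∨ Cj τ (n * v) (nW F W8) := by
  obtain ⟨hnN, hnf⟩ := Subgroup.mem_inf.mp hn
  obtain ⟨hvU, hvf⟩ := Subgroup.mem_inf.mp hv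
  obtain ⟨hnn, hinv⟩ := Cfsg.Agent.Lib.Helper25.ChInv.invol_normal_form chevF4 f4_mem F n v hnN hvU hsq
  have hv' : v ∈ XL F (restJ J' ++ clsJr J') ⊓ fixTau F τ := by
    rw [← posUnipotent_eq_XL_J J']; exact hv
  obtain ⟨a, ha, x, hx, rfl⟩ := split_fix hτ (restJ J') (clsJr J') (tab_closed J') (tab_rho J').1
    (tab_rho J').2 (restJ_disj J') v hv'
  obtain ⟨haX, haf⟩ := Subgroup.mem_inf.mp ha
  obtain ⟨hxX, hxf⟩ := Subgroup.mem_inf.mp hx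
  -- `n a n⁻¹ ∈ V`
  have h1 := conj_closure_gensL chevF4 f4_mem F n _ hact _ (fun r hr => restJ_lt J' r hr) a haX
  have h2 : n * a * n⁻¹ ∈ chevF4.negUnipotent F := by
    refine XL_le_neg _ ?_ h1
    intro r hr
    obtain ⟨s, hs, rfl⟩ := List.mem_map.mp hr
    exact hneg s hs
  -- `n x n⁻¹ ∈ X_{J'}`
  have h3 : n * x * n⁻¹ ∈ XL F (clsJr J') :=
    conj_XL_mem n _ hact _ (fun r hr => ⟨((tab_w J').2 r hr).1, hst r hr⟩) x hxX
  have hposX : XL F (clsJr J') ≤ chevF4.posUnipotent F := by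
    rw [XL_clsJr]; exact XJ_le_pos J'
  have haU := XL_restJ_le_pos J' haX
  have hxU := hposX hxX
  have e1 : n * a * n⁻¹ = x⁻¹ * a⁻¹ * (n * x * n⁻¹)⁻¹ := by
    have : n * a * n⁻¹ = (n * (a * x) * n⁻¹) * (n * x * n⁻¹)⁻¹ := by group
    rw [this, hinv]; group
  have h4 : n * a * n⁻¹ ∈ chevF4.posUnipotent F ⊓ chevF4.negUnipotent F := by
    refine Subgroup.mem_inf.mpr ⟨?_, h2⟩
    rw [e1]
    exact Subgroup.mul_mem _ (Subgroup.mul_mem _ (Subgroup.inv_mem _ hxU) (Subgroup.inv_mem _ haU))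
      (Subgroup.inv_mem _ (hposX h3))
  rw [posUnipotent_inf_negUnipotent chevF4 f4_mem F, Subgroup.mem_bot] at h4
  have ha1 : a = 1 := by
    have : a = n⁻¹ * (n * a * n⁻¹) * n := by group
    rw [this, h4]; group
  subst ha1
  rw [one_mul] at hsq hinv ⊢
  by_cases hx1 : x = 1
  · left
    subst hx1
    rw [mul_one] at hsq ⊢
    obtain ⟨h, hh, rfl⟩ := monomial_eq hτ n hn L hact w7 hid
    obtain ⟨c, hc, he⟩ := conj_nW_diag hτ w7 hw7 h hh hsq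
    exact ⟨c, (Subgroup.mem_inf.mp hc).2, he⟩
  · right
    have hxJ : x ∈ XJ F J' ⊓ fixTau F τ := by rw [← XL_clsJr]; exact hx
    obtain ⟨b₁, hb₁, x₂, hx₂, hy⟩ := rank_one hτ J' x hxJ hx1
    obtain ⟨c, hc, x₃, hx₃, hbc, hcn⟩ := borel_decomp hτ J' b₁⁻¹ (Subgroup.inv_mem _ hb₁)
    have hnJf := nJ_mem_fixTau hτ J'
    have hnJN := nJ_mem_monomial F J'
    have hb1eq : b₁ = x₃⁻¹ * c⁻¹ := by
      have : b₁ = (b₁⁻¹)⁻¹ := (inv_inv b₁).symm
      rw [this, hbc]; group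
    -- the pieces
    obtain ⟨m, hm⟩ : ∃ m, m = nJ F J' * n * (nJ F J')⁻¹ := ⟨_, rfl⟩
    have hmact : ActsAs chevF4 f4_mem F m (reflWord chevF4 (wJ J' ++ L ++ (wJ J').reverse)) := by
      rw [hm, reflWord_append, reflWord_append]
      exact ActsAs.mul chevF4 F (ActsAs.mul chevF4 F (actsAs_nJ J') hact) (actsAs_nJ_inv J')
    have hx₃X : x₃⁻¹ ∈ XL F (clsJr J') := by
      rw [XL_clsJr]; exact Subgroup.inv_mem _ (Subgroup.mem_inf.mp hx₃).1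
    have hb5X : m * x₃⁻¹ * m⁻¹ ∈ XL F (clsJr J') :=
      conj_XL_mem m _ hmact _ (fun r hr => ⟨((tab_w J').2 r hr).1, hst2 r hr⟩) _ hx₃X
    have hmf : m ∈ fixTau F τ := by
      rw [hm]; exact Subgroup.mul_mem _ (Subgroup.mul_mem _ hnJf hnf) (Subgroup.inv_mem _ hnJf)
    have hb5 : m * x₃⁻¹ * m⁻¹ ∈ chevF4.borelSubgroup F ⊓ fixTau F τ := by
      refine Subgroup.mem_inf.mpr ⟨posUnipotent_le_borel chevF4 f4_mem F (hposX hb5X), ?_⟩
      exact Subgroup.mul_mem _ (Subgroup.mul_mem _ hmf (Subgroup.inv_mem _ (Subgroup.mem_inf.mp hx₃).2))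
        (Subgroup.inv_mem _ hmf)
    have hsqd : nJ F J' * nJ F J' ∈ chevF4.borelSubgroup F ⊓ fixTau F τ :=
      Subgroup.mem_inf.mpr ⟨diagonal_le_borel chevF4 f4_mem F (nJ_sq_mem_diag J'),
        Subgroup.mul_mem _ hnJf hnJf⟩
    have hb6 : (nJ F J')⁻¹ * c⁻¹ * nJ F J' * x₂ ∈ chevF4.borelSubgroup F ⊓ fixTau F τ := by
      have e : (nJ F J')⁻¹ * c⁻¹ * nJ F J' =
          (nJ F J' * nJ F J')⁻¹ * (nJ F J' * c * (nJ F J')⁻¹)⁻¹ * (nJ F J' * nJ F J') := by group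
      rw [e]
      refine Subgroup.mul_mem _ (Subgroup.mul_mem _ (Subgroup.mul_mem _ (Subgroup.inv_mem _ hsqd)
        (Subgroup.inv_mem _ hcn)) hsqd) ?_
      exact Subgroup.mem_inf.mpr ⟨posUnipotent_le_borel chevF4 f4_mem F
        (XJ_le_pos J' (Subgroup.mem_inf.mp hx₂).1), (Subgroup.mem_inf.mp hx₂).2⟩
    -- `t₃ = b₅ n₆ b₆`
    have e3 : nJ F J' * (n * x) * (nJ F J')⁻¹ =
        (m * x₃⁻¹ * m⁻¹) * (nJ F J' * n) * ((nJ F J')⁻¹ * c⁻¹ * nJ F J' * x₂) := by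
      have : nJ F J' * (n * x) * (nJ F J')⁻¹ = m * (nJ F J' * x * (nJ F J')⁻¹) := by
        rw [hm]; group
      rw [this, hy, hb1eq, hm]; group
    obtain ⟨h₇, hh₇, u₇, hu₇, e7⟩ := fix_borel hτ _ (Subgroup.mul_mem _ hb6 hb5)
    have hn6 : nJ F J' * n * h₇ ∈ chevF4.monomialSubgroup F ⊓ fixTau F τ := by
      refine Subgroup.mem_inf.mpr ⟨Subgroup.mul_mem _ (Subgroup.mul_mem _ hnJN hnN)
        (Cfsg.Agent.Lib.Helper25.ChInv.diagonal_le_monomial chevF4 f4_mem F (Subgroup.mem_inf.mp hh₇).1), ?_⟩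
      exact Subgroup.mul_mem _ (Subgroup.mul_mem _ hnJf hnf) (Subgroup.mem_inf.mp hh₇).2
    have hact6 : ActsAs chevF4 f4_mem F (nJ F J' * n * h₇) (reflWord chevF4 (wJ J' ++ L)) := by
      rw [reflWord_append]
      have h0 : ActsAs chevF4 f4_mem F (nJ F J' * n) (reflWord chevF4 (wJ J') ∘ reflWord chevF4 L) :=
        ActsAs.mul chevF4 F (actsAs_nJ J') hact
      have h1 : ActsAs chevF4 f4_mem F (nJ F J' * n * h₇)
          ((reflWord chevF4 (wJ J') ∘ reflWord chevF4 L) ∘ id) :=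
        ActsAs.mul chevF4 F h0 (actsAs_diag chevF4 f4_mem F _ (Subgroup.mem_inf.mp hh₇).1)
      exact h1
    have hcj : Cj τ (n * x) (nJ F J' * n * h₇ * u₇) := by
      refine ⟨(m * x₃⁻¹ * m⁻¹)⁻¹ * nJ F J', Subgroup.mul_mem _
        (Subgroup.inv_mem _ (Subgroup.mem_inf.mp hb5).2) hnJf, ?_⟩
      have : (m * x₃⁻¹ * m⁻¹)⁻¹ * nJ F J' * (n * x) * ((m * x₃⁻¹ * m⁻¹)⁻¹ * nJ F J')⁻¹ =
          (m * x₃⁻¹ * m⁻¹)⁻¹ * (nJ F J' * (n * x) * (nJ F J')⁻¹) * (m * x₃⁻¹ * m⁻¹) := by group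
      rw [this, e3]
      have : (m * x₃⁻¹ * m⁻¹)⁻¹ * (m * x₃⁻¹ * m⁻¹ * (nJ F J' * n) *
          ((nJ F J')⁻¹ * c⁻¹ * nJ F J' * x₂)) * (m * x₃⁻¹ * m⁻¹) =
          nJ F J' * n * (((nJ F J')⁻¹ * c⁻¹ * nJ F J' * x₂) * (m * x₃⁻¹ * m⁻¹)) := by group
      rw [this, e7]; group
    have hsq' := hcj.sq hsq
    exact hcj.trans (top_case hτ _ htop hidtop hW8 _ hn6 hact6 u₇ hu₇ hsq')

/-- lengthening: if `n` sends the class `J'` to positive roots outside the class, conjugation by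
`n_{J'} x` replaces `n` by `n_{J'} n n_{J'}⁻¹` -/
theorem len_case (J' : Fin 2) (L : List ℕ)
    (hlen : ∀ r ∈ clsJr J', reflWord chevF4 L r ∈ restJ J')
    (P : GL chevF4.Idx F → Prop) (hP : ∀ x y, Cj τ x y → P y → P x)
    (IH : ∀ n ∈ chevF4.monomialSubgroup F ⊓ fixTau F τ,
      ActsAs chevF4 f4_mem F n (reflWord chevF4 (wJ J' ++ L ++ (wJ J').reverse)) →
        ∀ v ∈ chevF4.posUnipotent F ⊓ fixTau F τ, (n * v) * (n * v) = 1 → P (n * v))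
    (n : GL chevF4.Idx F) (hn : n ∈ chevF4.monomialSubgroup F ⊓ fixTau F τ)
    (hact : ActsAs chevF4 f4_mem F n (reflWord chevF4 L))
    (v : GL chevF4.Idx F) (hv : v ∈ chevF4.posUnipotent F ⊓ fixTau F τ)
    (hsq : (n * v) * (n * v) = 1) : P (n * v) := by
  obtain ⟨hnN, hnf⟩ := Subgroup.mem_inf.mp hn
  obtain ⟨hvU, hvf⟩ := Subgroup.mem_inf.mp hv
  obtain ⟨hnn, hinv⟩ := Cfsg.Agent.Lib.Helper25.ChInv.invol_normal_form chevF4 f4_mem F n v hnN hvU hsq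
  have hni : n⁻¹ = n := inv_eq_of_mul_eq_one_right hnn
  have hv' : v ∈ XL F (restJ J' ++ clsJr J') ⊓ fixTau F τ := by
    rw [← posUnipotent_eq_XL_J J']; exact hv
  obtain ⟨a, ha, x, hx, rfl⟩ := split_fix hτ (restJ J') (clsJr J') (tab_closed J') (tab_rho J').1
    (tab_rho J').2 (restJ_disj J') v hv'
  obtain ⟨haX, haf⟩ := Subgroup.mem_inf.mp ha
  obtain ⟨hxX, hxf⟩ := Subgroup.mem_inf.mp hx
  have hnJf := nJ_mem_fixTau hτ J'
  have hnJN := nJ_mem_monomial F J'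
  have h1 := conj_closure_gensL chevF4 f4_mem F n _ hact _ (fun r hr => ((tab_w J').2 r hr).1) x hxX
  have h2 : n * x * n⁻¹ ∈ XL F (restJ J') := by
    refine XL_mono _ _ ?_ h1
    intro r hr
    obtain ⟨s, hs, rfl⟩ := List.mem_map.mp hr
    exact hlen s hs
  have h3 : nJ F J' * ((n * x * n⁻¹) * a) * (nJ F J')⁻¹ ∈ XL F (restJ J') :=
    conj_nJ_rest J' _ (Subgroup.mul_mem _ h2 haX)
  have hv2 : nJ F J' * ((n * x * n⁻¹) * a) * (nJ F J')⁻¹ ∈ chevF4.posUnipotent F ⊓ fixTau F τ := by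
    refine Subgroup.mem_inf.mpr ⟨XL_restJ_le_pos J' h3, ?_⟩
    exact Subgroup.mul_mem _ (Subgroup.mul_mem _ hnJf (Subgroup.mul_mem _ (Subgroup.mul_mem _
      (Subgroup.mul_mem _ hnf hxf) (Subgroup.inv_mem _ hnf)) haf)) (Subgroup.inv_mem _ hnJf)
  have hn2 : nJ F J' * n * (nJ F J')⁻¹ ∈ chevF4.monomialSubgroup F ⊓ fixTau F τ :=
    Subgroup.mem_inf.mpr ⟨Subgroup.mul_mem _ (Subgroup.mul_mem _ hnJN hnN) (Subgroup.inv_mem _ hnJN),
      Subgroup.mul_mem _ (Subgroup.mul_mem _ hnJf hnf) (Subgroup.inv_mem _ hnJf)⟩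
  have hact2 : ActsAs chevF4 f4_mem F (nJ F J' * n * (nJ F J')⁻¹)
      (reflWord chevF4 (wJ J' ++ L ++ (wJ J').reverse)) := by
    rw [reflWord_append, reflWord_append]
    exact ActsAs.mul chevF4 F (ActsAs.mul chevF4 F (actsAs_nJ J') hact) (actsAs_nJ_inv J')
  have hcj : Cj τ (n * (a * x))
      (nJ F J' * n * (nJ F J')⁻¹ * (nJ F J' * ((n * x * n⁻¹) * a) * (nJ F J')⁻¹)) := by
    refine ⟨nJ F J' * x, Subgroup.mul_mem _ hnJf hxf, ?_⟩
    have e1 : nJ F J' * x * (n * (a * x)) * (nJ F J' * x)⁻¹ =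
        nJ F J' * (x * n * a) * (nJ F J')⁻¹ := by group
    have e2 : nJ F J' * n * (nJ F J')⁻¹ * (nJ F J' * ((n * x * n⁻¹) * a) * (nJ F J')⁻¹) =
        nJ F J' * ((n * n) * x * n⁻¹ * a) * (nJ F J')⁻¹ := by group
    rw [e1, e2, hnn, hni, one_mul]
  exact hP _ _ hcj (IH _ hn2 hact2 _ hv2 (hcj.sq hsq))

end

end Cfsg.Agent.Lib.Helper18.TF4
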