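import Cfsg.Agent.Lib.Helper18.TF4B
import Cfsg.Agent.Lib.Helper11.F4Tw17

/-! Involutions of `²F₄(q)`: every involution is conjugate to one of `n_{w₀}`, `n_{w₀ s₁}`, `n_{w₀ s₂}`
(helper18). -/

set_option autoImplicit false
set_option linter.unusedSectionVars false
set_option maxRecDepth 100000

namespace Cfsg.Agent.Lib.Helper18.TF4

open Cfsg Cfsg.Lie Matrix Cfsg.Agent.Lib.Helper7 Cfsg.Agent.Lib.Helper11 Cfsg.Agent.Lib.Helper11.Isog
open Cfsg.Agent.Lib.Helper11.F4T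

/-- the table for the top cell -/
def ChkTop (L : List ℕ) : Prop :=
  (∀ r ∈ restJ 0 ++ clsJr 0, r < 48 ∧ chevF4.IsNegRoot (reflWord chevF4 L r)) ∧
  (∀ w ∈ words16, (∀ s < 48, reflWord chevF4 (flatW w) s = reflWord chevF4 L s) → w = W8)

/-- the table for a cell of length seven -/
def ChkSeven (J' : ℕ) (L w7 : List ℕ) : Prop :=
  (∀ r ∈ restJ J', chevF4.IsNegRoot (reflWord chevF4 L r)) ∧
  (∀ r ∈ clsJr J', reflWord chevF4 L r ∈ clsJr J') ∧
  (∀ r ∈ clsJr J', reflWord chevF4 (wJ J' ++ L ++ (wJ J').reverse) r ∈ clsJr J') ∧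
  ChkTop (wJ J' ++ L) ∧
  (∀ w ∈ words16, (∀ s < 48, reflWord chevF4 (flatW w) s = reflWord chevF4 L s) → w = w7)

/-- the table for a lengthening step -/
def ChkLen (J' : ℕ) (L : List ℕ) : Prop := ∀ r ∈ clsJr J', reflWord chevF4 L r ∈ restJ J'

/-- the word of a lengthening step -/
def lenL (J' : ℕ) (L : List ℕ) : List ℕ := wJ J' ++ L ++ (wJ J').reverse

theorem tab_top : ChkTop (flatW W8) := by
  unfold ChkTop; decide +kernel

theorem tab_seven_0 : ChkSeven 1 (flatW (altW 0 7)) (altW 0 7) := by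
  unfold ChkSeven ChkTop; decide +kernel

theorem tab_seven_1 : ChkSeven 0 (flatW (altW 1 7)) (altW 1 7) := by
  unfold ChkSeven ChkTop; decide +kernel

theorem tab_len5_0 : ChkLen 1 (flatW (altW 0 5)) ∧
    ChkSeven 0 (lenL 1 (flatW (altW 0 5))) (altW 1 7) := by
  unfold ChkLen ChkSeven ChkTop lenL; decide +kernel

theorem tab_len5_1 : ChkLen 0 (flatW (altW 1 5)) ∧
    ChkSeven 1 (lenL 0 (flatW (altW 1 5))) (altW 0 7) := by
  unfold ChkLen ChkSeven ChkTop lenL; decide +kernel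

theorem tab_len3_0 : ChkLen 1 (flatW (altW 0 3)) ∧ ChkLen 0 (lenL 1 (flatW (altW 0 3))) ∧
    ChkSeven 1 (lenL 0 (lenL 1 (flatW (altW 0 3)))) (altW 0 7) := by
  unfold ChkLen ChkSeven ChkTop lenL; decide +kernel

theorem tab_len3_1 : ChkLen 0 (flatW (altW 1 3)) ∧ ChkLen 1 (lenL 0 (flatW (altW 1 3))) ∧
    ChkSeven 0 (lenL 1 (lenL 0 (flatW (altW 1 3)))) (altW 1 7) := by
  unfold ChkLen ChkSeven ChkTop lenL; decide +kernel

theorem tab_len1_0 : ChkLen 1 (flatW (altW 0 1)) ∧ ChkLen 0 (lenL 1 (flatW (altW 0 1))) ∧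
    ChkLen 1 (lenL 0 (lenL 1 (flatW (altW 0 1)))) ∧
    ChkSeven 0 (lenL 1 (lenL 0 (lenL 1 (flatW (altW 0 1))))) (altW 1 7) := by
  unfold ChkLen ChkSeven ChkTop lenL; decide +kernel

theorem tab_len1_1 : ChkLen 0 (flatW (altW 1 1)) ∧ ChkLen 1 (lenL 0 (flatW (altW 1 1))) ∧
    ChkLen 0 (lenL 1 (lenL 0 (flatW (altW 1 1)))) ∧
    ChkSeven 1 (lenL 0 (lenL 1 (lenL 0 (flatW (altW 1 1))))) (altW 0 7) := by
  unfold ChkLen ChkSeven ChkTop lenL; decide +kernel

/-- the involutions among the sixteen words -/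
theorem tab_invol : ∀ w ∈ words16,
    (∀ s < 48, reflWord chevF4 (flatW w) (reflWord chevF4 (flatW w) s) = s) →
      w ∈ [[], W8, altW 0 7, altW 1 7, altW 0 5, altW 1 5, altW 0 3, altW 1 3, altW 0 1, altW 1 1] := by
  decide +kernel

/-- a nontrivial element has a conjugate outside a subgroup with trivial core -/
theorem exists_conj_not_mem {G : Type*} [Group G] (H : Subgroup G) (hc : H.normalCore = ⊥) (x : G)
    (hx : x ≠ 1) : ∃ g : G, g * x * g⁻¹ ∉ H := by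
  by_contra hcon
  push Not at hcon
  have h1 : x ∈ H.normalCore := fun g => hcon g
  rw [hc, Subgroup.mem_bot] at h1
  exact hx h1

theorem exists_conj_not_mem_sub {G : Type*} [Group G] (K B : Subgroup G)
    (hc : ((B ⊓ K).subgroupOf K).normalCore = ⊥) (x : G) (hxK : x ∈ K)
    (hx : x ≠ 1) : ∃ g ∈ K, g * x * g⁻¹ ∉ B := by
  obtain ⟨g, hg⟩ := exists_conj_not_mem _ hc (⟨x, hxK⟩ : ↥K) (fun h => hx (congrArg Subtype.val h))
  refine ⟨g.1, g.2, fun hmem => hg ?_⟩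
  rw [Subgroup.mem_subgroupOf]
  exact Subgroup.mem_inf.mpr ⟨hmem, (g * ⟨x, hxK⟩ * g⁻¹).2⟩

section
variable {F : Type*} [Field F] [Fintype F]
variable {τ : ↥(chevF4.group F) ≃* ↥(chevF4.group F)} {θ : ℕ} (hτ : TauData F τ θ)

/-- conjugate to one of the three representatives -/
def R (τ : ↥(chevF4.group F) ≃* ↥(chevF4.group F)) (t : GL chevF4.Idx F) : Prop :=
  Cj τ t (nW F (altW 0 7)) ∨ Cj τ t (nW F (altW 1 7)) ∨ Cj τ t (nW F W8)

theorem R_of_Cj (x y : GL chevF4.Idx F) (h : Cj τ x y) (hy : R τ y) : R τ x := by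
  rcases hy with h1 | h1 | h1
  · exact Or.inl (h.trans h1)
  · exact Or.inr (Or.inl (h.trans h1))
  · exact Or.inr (Or.inr (h.trans h1))

/-- the three squares needed -/
structure Sq3 (F : Type*) [Field F] : Prop where
  s8 : nW F W8 * nW F W8 = 1
  s0 : nW F (altW 0 7) * nW F (altW 0 7) = 1
  s1 : nW F (altW 1 7) * nW F (altW 1 7) = 1

include hτ

theorem R_top (hS : Sq3 F) (L : List ℕ) (hL : ChkTop L)
    (n : GL chevF4.Idx F) (hn : n ∈ chevF4.monomialSubgroup F ⊓ fixTau F τ)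
    (hact : ActsAs chevF4 f4_mem F n (reflWord chevF4 L))
    (v : GL chevF4.Idx F) (hv : v ∈ chevF4.posUnipotent F ⊓ fixTau F τ)
    (hsq : (n * v) * (n * v) = 1) : R τ (n * v) :=
  Or.inr (Or.inr (top_case hτ L hL.1 hL.2 hS.s8 n hn hact v hv hsq))

theorem R_seven (hS : Sq3 F) (J' : Fin 2) (L w7 : List ℕ) (hL : ChkSeven J' L w7)
    (hw7 : w7 = altW 0 7 ∨ w7 = altW 1 7)
    (n : GL chevF4.Idx F) (hn : n ∈ chevF4.monomialSubgroup F ⊓ fixTau F τ)
    (hact : ActsAs chevF4 f4_mem F n (reflWord chevF4 L))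
    (v : GL chevF4.Idx F) (hv : v ∈ chevF4.posUnipotent F ⊓ fixTau F τ)
    (hsq : (n * v) * (n * v) = 1) : R τ (n * v) := by
  obtain ⟨h1, h2, h3, h4, h5⟩ := hL
  have hw7sq : nW F w7 * nW F w7 = 1 := by
    rcases hw7 with rfl | rfl
    · exact hS.s0
    · exact hS.s1
  rcases seven_case hτ J' L w7 h1 h2 h3 h4.1 h4.2 h5 hw7sq hS.s8 n hn hact v hv hsq with h | h
  · rcases hw7 with rfl | rfl
    · exact Or.inl h
    · exact Or.inr (Or.inl h)
  · exact Or.inr (Or.inr h)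

theorem R_len (J' : Fin 2) (L : List ℕ) (hL : ChkLen J' L)
    (IH : ∀ n ∈ chevF4.monomialSubgroup F ⊓ fixTau F τ,
      ActsAs chevF4 f4_mem F n (reflWord chevF4 (lenL J' L)) →
        ∀ v ∈ chevF4.posUnipotent F ⊓ fixTau F τ, (n * v) * (n * v) = 1 → R τ (n * v))
    (n : GL chevF4.Idx F) (hn : n ∈ chevF4.monomialSubgroup F ⊓ fixTau F τ)
    (hact : ActsAs chevF4 f4_mem F n (reflWord chevF4 L))
    (v : GL chevF4.Idx F) (hv : v ∈ chevF4.posUnipotent F ⊓ fixTau F τ)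
    (hsq : (n * v) * (n * v) = 1) : R τ (n * v) :=
  len_case hτ J' L hL (R τ) R_of_Cj IH n hn hact v hv hsq

/-- involutions `n v` with `n` outside `H` -/
theorem R_of_word (hS : Sq3 F) (w : List ℕ) (hw : w ∈ words16) (hw0 : w ≠ [])
    (n : GL chevF4.Idx F) (hn : n ∈ chevF4.monomialSubgroup F ⊓ fixTau F τ)
    (hact : ActsAs chevF4 f4_mem F n (reflWord chevF4 (flatW w)))
    (v : GL chevF4.Idx F) (hv : v ∈ chevF4.posUnipotent F ⊓ fixTau F τ)
    (hsq : (n * v) * (n * v) = 1) : R τ (n * v) := by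
  obtain ⟨hnn, -⟩ := Cfsg.Agent.Lib.Helper25.ChInv.invol_normal_form chevF4 f4_mem F n v
    (Subgroup.mem_inf.mp hn).1 (Subgroup.mem_inf.mp hv).1 hsq
  have hact2 : ActsAs chevF4 f4_mem F (n * n)
      (reflWord chevF4 (flatW w) ∘ reflWord chevF4 (flatW w)) := ActsAs.mul chevF4 F hact hact
  rw [hnn] at hact2
  have hid : ActsAs chevF4 f4_mem F (1 : GL chevF4.Idx F) id :=
    actsAs_diag chevF4 f4_mem F 1 (Subgroup.one_mem _)
  have hinv := tab_invol w hw (fun s hs => actsAs_unique _ _ _ hact2 hid s hs)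
  simp only [List.mem_cons, List.not_mem_nil, or_false] at hinv
  rcases hinv with rfl | rfl | rfl | rfl | rfl | rfl | rfl | rfl | rfl | rfl
  · exact absurd rfl hw0
  · exact R_top hτ hS _ tab_top n hn hact v hv hsq
  · exact R_seven hτ hS 1 _ _ tab_seven_0 (Or.inl rfl) n hn hact v hv hsq
  · exact R_seven hτ hS 0 _ _ tab_seven_1 (Or.inr rfl) n hn hact v hv hsq
  · exact R_len hτ 1 _ tab_len5_0.1
      (fun n hn hact v hv hsq => R_seven hτ hS 0 _ _ tab_len5_0.2 (Or.inr rfl) n hn hact v hv hsq)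
      n hn hact v hv hsq
  · exact R_len hτ 0 _ tab_len5_1.1
      (fun n hn hact v hv hsq => R_seven hτ hS 1 _ _ tab_len5_1.2 (Or.inl rfl) n hn hact v hv hsq)
      n hn hact v hv hsq
  · exact R_len hτ 1 _ tab_len3_0.1
      (fun n hn hact v hv hsq => R_len hτ 0 _ tab_len3_0.2.1
        (fun n hn hact v hv hsq =>
          R_seven hτ hS 1 _ _ tab_len3_0.2.2 (Or.inl rfl) n hn hact v hv hsq)
        n hn hact v hv hsq)
      n hn hact v hv hsq
  · exact R_len hτ 0 _ tab_len3_1.1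
      (fun n hn hact v hv hsq => R_len hτ 1 _ tab_len3_1.2.1
        (fun n hn hact v hv hsq =>
          R_seven hτ hS 0 _ _ tab_len3_1.2.2 (Or.inr rfl) n hn hact v hv hsq)
        n hn hact v hv hsq)
      n hn hact v hv hsq
  · exact R_len hτ 1 _ tab_len1_0.1
      (fun n hn hact v hv hsq => R_len hτ 0 _ tab_len1_0.2.1
        (fun n hn hact v hv hsq => R_len hτ 1 _ tab_len1_0.2.2.1
          (fun n hn hact v hv hsq =>
            R_seven hτ hS 0 _ _ tab_len1_0.2.2.2 (Or.inr rfl) n hn hact v hv hsq)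
          n hn hact v hv hsq)
        n hn hact v hv hsq)
      n hn hact v hv hsq
  · exact R_len hτ 0 _ tab_len1_1.1
      (fun n hn hact v hv hsq => R_len hτ 1 _ tab_len1_1.2.1
        (fun n hn hact v hv hsq => R_len hτ 0 _ tab_len1_1.2.2.1
          (fun n hn hact v hv hsq =>
            R_seven hτ hS 1 _ _ tab_len1_1.2.2.2 (Or.inl rfl) n hn hact v hv hsq)
          n hn hact v hv hsq)
        n hn hact v hv hsq)
      n hn hact v hv hsq

/-- involutions in the form `n_w h v`, `w` nontrivial -/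
theorem R_of_NU (hS : Sq3 F) (w : List ℕ) (hw : w ∈ words16) (hw0 : w ≠ [])
    (h : GL chevF4.Idx F) (hh : h ∈ chevF4.diagonalSubgroup F ⊓ fixTau F τ)
    (v : GL chevF4.Idx F) (hv : v ∈ chevF4.posUnipotent F ⊓ fixTau F τ)
    (hsq : (nW F w * h * v) * (nW F w * h * v) = 1) : R τ (nW F w * h * v) := by
  have hn : nW F w * h ∈ chevF4.monomialSubgroup F ⊓ fixTau F τ :=
    Subgroup.mem_inf.mpr ⟨Subgroup.mul_mem _ (nW_mem_monomial F w)
      (Cfsg.Agent.Lib.Helper25.ChInv.diagonal_le_monomial chevF4 f4_mem F (Subgroup.mem_inf.mp hh).1),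
      Subgroup.mul_mem _ (nW_mem_fixTau hτ w) (Subgroup.mem_inf.mp hh).2⟩
  have hact : ActsAs chevF4 f4_mem F (nW F w * h) (reflWord chevF4 (flatW w)) :=
    ActsAs.mul chevF4 F (actsAs_nW F w) (actsAs_diag chevF4 f4_mem F _ (Subgroup.mem_inf.mp hh).1)
  exact R_of_word hτ hS w hw hw0 _ hn hact v hv hsq

/-- every involution of `²F₄(q)` is conjugate to one of the three representatives -/
theorem invol_R (hS : Sq3 F) (t : GL chevF4.Idx F) (ht : t ∈ fixTau F τ) (htt : t * t = 1)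
    (ht1 : t ≠ 1) : R τ t := by
  obtain ⟨w, hw, h, hh, v, hv, hcj, -⟩ := exists_conj_NU hτ t ht
  by_cases hw0 : w = []
  · -- `t` is conjugate to an element of `U¹`
    subst hw0
    have hsq := hcj.sq htt
    rw [nW_nil, one_mul] at hsq hcj
    obtain ⟨hhH, hhf⟩ := Subgroup.mem_inf.mp hh
    obtain ⟨hh2, -⟩ := Cfsg.Agent.Lib.Helper25.ChInv.invol_normal_form chevF4 f4_mem F h v
      (Cfsg.Agent.Lib.Helper25.ChInv.diagonal_le_monomial chevF4 f4_mem F hhH)
      (Subgroup.mem_inf.mp hv).1 hsq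
    obtain ⟨k, hk⟩ := exists_odd_order hτ
    have hh1 : h = 1 := by
      have := hk h hhH
      rw [pow_succ, pow_mul, pow_two, hh2, one_pow, one_mul] at this
      exact this
    subst hh1
    rw [one_mul] at hcj
    have hv1 : v ≠ 1 := hcj.ne_one ht1
    -- move `v` out of `B`
    have hvG : v ∈ twistedF4 F θ := by rw [← fixTau_eq hτ]; exact (Subgroup.mem_inf.mp hv).2
    have hex : ∃ g ∈ twistedF4 F θ, g * v * g⁻¹ ∉ chevF4.borelSubgroup F :=
      exists_conj_not_mem_sub (twistedF4 F θ) (chevF4.borelSubgroup F) (core_eq_bot hτ) v hvG hv1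
    obtain ⟨g, hg, hgv⟩ := hex
    have hgf : g ∈ fixTau F τ := by rw [fixTau_eq hτ]; exact hg
    have hcj2 : Cj τ v (g * v * g⁻¹) := ⟨g, hgf, rfl⟩
    have ht2 : g * v * g⁻¹ ∈ fixTau F τ := hcj2.mem (Subgroup.mem_inf.mp hv).2
    obtain ⟨w', hw', h', hh', v', hv', hcj3, hne⟩ := exists_conj_NU hτ _ ht2
    have hsq3 := hcj3.sq (hcj2.sq (hcj.sq htt))
    exact R_of_Cj _ _ (hcj.trans (hcj2.trans hcj3))
      (R_of_NU hτ hS w' hw' (hne hgv) h' hh' v' hv' hsq3)
  · exact R_of_Cj _ _ hcj (R_of_NU hτ hS w hw hw0 h hh v hv (hcj.sq htt))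

end

end Cfsg.Agent.Lib.Helper18.TF4
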