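import Cfsg.Agent.Lib.Helper18.TF4C
import Cfsg.Agent.Lib.Helper25.ChInvI

/-! Involutions of `²F₄(q)`: the word identities inside `²F₄(2)`, checked over the field with two
elements (helper18). -/

set_option autoImplicit false
set_option linter.unusedSectionVars false
set_option maxRecDepth 1000000

namespace Cfsg.Agent.Lib.Helper18.TF4

open Cfsg Cfsg.Lie Matrix Cfsg.Agent.Lib.Helper7 Cfsg.Agent.Lib.Helper11 Cfsg.Agent.Lib.Helper11.Isog
open Cfsg.Agent.Lib.Helper11.F4T

/-- the letters of `n_J` -/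
def nJL (J : ℕ) : List ℕ :=
  if J = 0 then [33, 14, 33, 24, 23, 24] else [27, 20, 27, 25, 22, 25, 27, 20, 27, 25, 22, 25]

/-- the letters of the four generators `x(1)`, `x'(1)`, `y(1,0)`, `y'(1,0)` -/
def gLet : ℕ → List ℕ
  | 0 => [33, 24]
  | 1 => [14, 23]
  | 2 => [27, 25, 28]
  | _ => [20, 22, 19]

section
variable (F : Type*) [Field F]

/-- the four generators -/
noncomputable def gEl (θ : ℕ) : ℕ → GL chevF4.Idx F
  | 0 => pairU θ 1
  | 1 => pairV θ 1
  | 2 => suzU θ 1 0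
  | _ => suzV θ 1 0

theorem gEl_mem (θ : ℕ) (k : ℕ) : gEl F θ k ∈ twistedF4 F θ := by
  match k with
  | 0 => exact pairU_mem_twistedF4 θ 1
  | 1 => exact pairV_mem_twistedF4 θ 1
  | 2 => exact suzU_mem_twistedF4 θ 1 0
  | (k + 3) => exact suzV_mem_twistedF4 θ 1 0

theorem wordGL_nil' : wordGL chevF4 f4_mem F [] = 1 := by
  unfold wordGL; simp

theorem gEl_eq (θ : ℕ) (hθ : 0 < θ) (k : ℕ) :
    gEl F θ k = wordGL chevF4 f4_mem F (ones F (gLet k)) := by
  have hz2 : (0 : F) ^ (2 * θ) = 0 := zero_pow (by omega)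
  match k with
  | 0 =>
    show pairU θ 1 = _
    unfold pairU f4PairWord ones gLet
    simp only [f4p1, f4p4, one_pow, List.map_cons, List.map_nil]
  | 1 =>
    show pairV θ 1 = _
    unfold pairV f4PairWord ones gLet
    simp only [f4m1, f4m4, one_pow, List.map_cons, List.map_nil]
  | 2 =>
    show suzU θ 1 0 = _
    rw [suzU_eq]
    unfold P4 ones gLet wordGL
    simp only [one_pow, hz2, add_zero, xGL_zero, mul_one, List.map_cons, List.map_nil, List.prod_cons,
      List.prod_nil, mul_assoc]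
  | (k + 3) =>
    show suzV θ 1 0 = _
    rw [suzV_eq]
    unfold P4 ones gLet wordGL
    simp only [one_pow, hz2, add_zero, xGL_zero, mul_one, List.map_cons, List.map_nil, List.prod_cons,
      List.prod_nil, mul_assoc]

theorem gWord (θ : ℕ) (hθ : 0 < θ) (cs : List ℕ) :
    wordGL chevF4 f4_mem F (ones F (cs.flatMap gLet)) = (cs.map (gEl F θ)).prod := by
  induction cs with
  | nil => simp [ones, wordGL_nil']
  | cons c cs ih =>
    rw [List.flatMap_cons, ones_append, wordGL_append, ih, List.map_cons, List.prod_cons, gEl_eq F θ hθ c]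

theorem gWord_mem (θ : ℕ) (cs : List ℕ) : (cs.map (gEl F θ)).prod ∈ twistedF4 F θ := by
  apply Subgroup.list_prod_mem
  intro x hx
  obtain ⟨c, -, rfl⟩ := List.mem_map.mp hx
  exact gEl_mem F θ c

variable (h2 : (2 : F) = 0)
include h2

theorem nJ_eq_ones (J : ℕ) : nJ F J = wordGL chevF4 f4_mem F (ones F (nJL J)) := by
  by_cases hJ : J = 0
  · subst hJ
    exact nJ_zero_ones F h2
  · have e : nJ F J = nJ F 1 := by
      unfold nJ wJ
      rw [if_neg hJ, if_neg (show (1 : ℕ) ≠ 0 by decide)]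
    rw [e, nJ_one_ones F h2]
    unfold nJL
    rw [if_neg hJ]

theorem nW_eq_ones (w : List ℕ) : nW F w = wordGL chevF4 f4_mem F (ones F (w.flatMap nJL)) := by
  induction w with
  | nil => rw [nW_nil]; simp [ones, wordGL_nil']
  | cons J w ih =>
    rw [nW_cons, ih, nJ_eq_ones F h2, List.flatMap_cons, ones_append, wordGL_append]

/-- a checked word identity gives a conjugacy inside `²F₄` -/
theorem conj_word (θ : ℕ) (hθ : 0 < θ) (cs w rep : List ℕ)
    (h : Cfsg.Agent.Lib.Helper25.BitWord.bitChkR chevF4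
      (cs.flatMap gLet ++ w.flatMap nJL ++ (cs.flatMap gLet).reverse) rep = true) :
    ∃ g ∈ twistedF4 F θ, g * nW F w * g⁻¹ = wordGL chevF4 f4_mem F (ones F rep) := by
  have hc : CharP F 2 := charP_of_two F h2
  refine ⟨(cs.map (gEl F θ)).prod, gWord_mem F θ cs, ?_⟩
  have key := Cfsg.Agent.Lib.Helper25.ChInv.wordGL_eq_of_bitChkR chevF4 f4_mem F _ _ h
  have e1 := Cfsg.Agent.Lib.Helper25.ChInv.wordGL_ones_reverse chevF4 f4_mem F (cs.flatMap gLet)
  rw [← gWord F θ hθ cs, nW_eq_ones F h2 w]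
  have key' : wordGL chevF4 f4_mem F (ones F (cs.flatMap gLet ++ w.flatMap nJL ++
      (cs.flatMap gLet).reverse)) = wordGL chevF4 f4_mem F (ones F rep) := key
  rw [ones_append, ones_append, wordGL_append, wordGL_append] at key'
  have e1' : wordGL chevF4 f4_mem F (ones F (cs.flatMap gLet).reverse) =
      (wordGL chevF4 f4_mem F (ones F (cs.flatMap gLet)))⁻¹ := e1
  rw [e1'] at key'
  exact key'

/-- a checked word identity gives a square -/
theorem sq_word (w : List ℕ)
    (h : Cfsg.Agent.Lib.Helper25.BitWord.bitChkR chevF4 (w.flatMap nJL ++ w.flatMap nJL) [] = true) :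
    nW F w * nW F w = 1 := by
  have hc : CharP F 2 := charP_of_two F h2
  have key := Cfsg.Agent.Lib.Helper25.ChInv.wordGL_eq_of_bitChkR chevF4 f4_mem F _ _ h
  have key' : wordGL chevF4 f4_mem F (ones F (w.flatMap nJL ++ w.flatMap nJL)) =
      wordGL chevF4 f4_mem F (ones F []) := key
  rw [ones_append, wordGL_append, ← nW_eq_ones F h2 w] at key'
  rw [key']
  simp [ones, wordGL_nil']

end

theorem chk_sq8 : Cfsg.Agent.Lib.Helper25.BitWord.bitChkR chevF4
    (W8.flatMap nJL ++ W8.flatMap nJL) [] = true := by decide +kernel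

theorem chk_sq0 : Cfsg.Agent.Lib.Helper25.BitWord.bitChkR chevF4
    ((altW 0 7).flatMap nJL ++ (altW 0 7).flatMap nJL) [] = true := by decide +kernel

theorem chk_sq1 : Cfsg.Agent.Lib.Helper25.BitWord.bitChkR chevF4
    ((altW 1 7).flatMap nJL ++ (altW 1 7).flatMap nJL) [] = true := by decide +kernel

/-- `n_{w₀} ∼ x(1)` -/
theorem chk_c8 : Cfsg.Agent.Lib.Helper25.BitWord.bitChkR chevF4
    ([1, 3, 2, 1, 0, 2, 3, 1, 0, 2, 1, 3, 0].flatMap gLet ++ W8.flatMap nJL ++
      ([1, 3, 2, 1, 0, 2, 3, 1, 0, 2, 1, 3, 0].flatMap gLet).reverse) [33, 24] = true := by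
  decide +kernel

/-- `n_{w₀ s₁} ∼ x(1)` -/
theorem chk_c1 : Cfsg.Agent.Lib.Helper25.BitWord.bitChkR chevF4
    ([2, 0, 1, 3, 1, 3, 3, 2, 0, 2, 2].flatMap gLet ++ (altW 1 7).flatMap nJL ++
      ([2, 0, 1, 3, 1, 3, 3, 2, 0, 2, 2].flatMap gLet).reverse) [33, 24] = true := by
  decide +kernel

/-- `n_{w₀ s₂} ∼ y(0,1)` -/
theorem chk_c0 : Cfsg.Agent.Lib.Helper25.BitWord.bitChkR chevF4
    ([3, 2, 0, 2, 0, 1, 3, 2, 0, 2, 1, 0].flatMap gLet ++ (altW 0 7).flatMap nJL ++
      ([3, 2, 0, 2, 0, 1, 3, 2, 0, 2, 1, 0].flatMap gLet).reverse) [28, 30] = true := by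
  decide +kernel

end Cfsg.Agent.Lib.Helper18.TF4
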