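import Cfsg.Agent.Lib.Helper25.F4InvRank0

set_option autoImplicit false

namespace Cfsg.Agent.Lib.Helper18.TF4

open Cfsg Cfsg.Lie Matrix
open Cfsg.Agent.Lib.Helper25.F4Inv (mkP mkQ)

/-- `x(1) - 1` over the field with two elements -/
def aP2 : Matrix chevF4.Idx chevF4.Idx (ZMod 2) := chevF4.x (ZMod 2) 33 1 * chevF4.x (ZMod 2) 24 1 - 1

/-- `y(0,1) - 1` over the field with two elements -/
def aS2 : Matrix chevF4.Idx chevF4.Idx (ZMod 2) := chevF4.x (ZMod 2) 28 1 * chevF4.x (ZMod 2) 30 1 - 1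

set_option maxRecDepth 1000000 in
theorem cert_P_lo : mkQ 24 [137438953473, 268435464, 32, 2048, 4096, 1024, 2098176, 2113536, 65536, 8454144, 16777216, 1, 67108864, 8, 1073741824, 274877906944, 8589934592, 1108101562368, 34359738368, 70403103916032, 8796093022208, 74766790688768, 281474976710656, 2251799813685248] * aP2 *
    mkP 24 [0, 1, 2, 0, 4, 0, 0, 8, 16, 32, 64, 0, 0, 128, 0, 256, 512, 1024, 2048, 0, 0, 0, 0, 0, 0, 4096, 0, 8192, 0, 16384, 0, 32768, 65536, 131072, 262144, 524288, 1048576, 0, 0, 0, 0, 2097152, 0, 0, 4194304, 0, 0, 0, 0, 0, 8388608, 0] = 1 := by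
  decide +kernel

set_option maxRecDepth 1000000 in
theorem cert_S_up : aS2 = mkP 21 [0, 1, 2, 0, 0, 0, 0, 4, 4, 8, 0, 0, 0, 16, 0, 32, 0, 64, 128, 0, 0, 0, 256, 0, 2, 256, 0, 512, 0, 2, 0, 1024, 2048, 4096, 8192, 4096, 16384, 0, 0, 32768, 0, 65536, 0, 131072, 262144, 0, 0, 0, 524288, 524288, 1048576, 0] *
    mkQ 21 [10485760, 2097152, 32, 96, 2048, 6144, 16384, 81920, 524288, 1572864, 75497472, 27262989, 268435456, 69206024, 1342177280, 137438953472, 412316860416, 1099511627776, 5497558138880, 70368744177664, 211106232532992] := by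
  decide +kernel

end Cfsg.Agent.Lib.Helper18.TF4
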