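import Cfsg.Agent.Lib.Helper18.TF4D
import Cfsg.Agent.Lib.Helper18.TF4E0

/-! Involutions of `²F₄(q)`: the ranks of `y - 1` on the adjoint module separate the two classes
(helper18). -/

set_option autoImplicit false
set_option linter.unusedSectionVars false

namespace Cfsg.Agent.Lib.Helper18.TF4

open Cfsg Cfsg.Lie Matrix Cfsg.Agent.Lib.Helper7 Cfsg.Agent.Lib.Helper11 Cfsg.Agent.Lib.Helper11.Isog
open Cfsg.Agent.Lib.Helper11.F4T
open Cfsg.Agent.Lib.Helper25.F4Inv (mkP mkQ)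
open Cfsg.Agent.Lib.Helper25.ChInv (x_map' rank_le_of_factor le_rank_of_inverse rank_conj_sub_one)

section
variable (F : Type*) [Field F] [CharP F 2]

/-- the embedding of the prime field -/
noncomputable def phi2 : ZMod 2 →+* F := ZMod.castHom (dvd_refl 2) F

theorem map_x2 (r : ℕ) : (chevF4.x (ZMod 2) r 1).map (phi2 F) = chevF4.x F r 1 := by
  rw [x_map' chevF4 (phi2 F) r 1, map_one]

theorem map_sub_one2 (A : Matrix chevF4.Idx chevF4.Idx (ZMod 2)) :
    (A - 1).map (phi2 F) = A.map (phi2 F) - 1 := by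
  rw [Matrix.map_sub _ (fun a b => map_sub (phi2 F) a b)]
  congr 1
  ext i j
  simp [Matrix.one_apply]

theorem rank_P2 : 24 ≤ (chevF4.x F 33 1 * chevF4.x F 24 1 - 1).rank := by
  have e : aP2.map (phi2 F) = chevF4.x F 33 1 * chevF4.x F 24 1 - 1 := by
    unfold aP2; rw [map_sub_one2, Matrix.map_mul, map_x2, map_x2]
  rw [← e]; exact le_rank_of_inverse (phi2 F) 24 aP2 _ _ cert_P_lo

theorem rank_S2 : (chevF4.x F 28 1 * chevF4.x F 30 1 - 1).rank ≤ 21 := by
  have e : aS2.map (phi2 F) = chevF4.x F 28 1 * chevF4.x F 30 1 - 1 := by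
    unfold aS2; rw [map_sub_one2, Matrix.map_mul, map_x2, map_x2]
  rw [← e]; exact rank_le_of_factor (phi2 F) 21 aS2 _ _ cert_S_up

theorem coe_pairU_one (θ : ℕ) :
    ((pairU θ (1 : F) : GL chevF4.Idx F) : Matrix chevF4.Idx chevF4.Idx F) =
      chevF4.x F 33 1 * chevF4.x F 24 1 := by
  rw [pairU_eq, one_pow, Units.val_mul, coe_xGL, coe_xGL]

theorem coe_suzU_one (θ : ℕ) (hθ : 0 < θ) :
    ((suzU θ (0 : F) 1 : GL chevF4.Idx F) : Matrix chevF4.Idx chevF4.Idx F) =
      chevF4.x F 28 1 * chevF4.x F 30 1 := by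
  have hz : (0 : F) ^ θ = 0 := zero_pow hθ.ne'
  have hz1 : (0 : F) ^ (θ + 1) = 0 := zero_pow (Nat.succ_ne_zero _)
  rw [suzU_eq]
  unfold P4
  simp only [hz, hz1, zero_add, one_pow, xGL_zero, one_mul, Units.val_mul, coe_xGL]

/-- the two representatives are not conjugate, even in the general linear group -/
theorem not_conj_P_S (θ : ℕ) (hθ : 0 < θ) (g : GL chevF4.Idx F)
    (h : g * pairU θ (1 : F) * g⁻¹ = suzU θ 0 1) : False := by
  have h1 := rank_conj_sub_one g _ _ h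
  rw [coe_pairU_one, coe_suzU_one F θ hθ] at h1
  have h2 := rank_P2 F
  have h3 := rank_S2 F
  omega

end

end Cfsg.Agent.Lib.Helper18.TF4
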