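import Cfsg.Agent.Lib.Helper18.TF4E
import Cfsg.Agent.Lib.Helper11.F4GenA
import Cfsg.Agent.Lib.Helper11.F4Tw8

/-! `²F₄(q)` has exactly two conjugacy classes of involutions (helper18). -/

set_option autoImplicit false
set_option linter.unusedSectionVars false

namespace Cfsg.Agent.Lib.Helper18.TF4

open Cfsg Cfsg.Lie Matrix Cfsg.Agent.Lib.Helper7 Cfsg.Agent.Lib.Helper11 Cfsg.Agent.Lib.Helper11.Isog
open Cfsg.Agent.Lib.Helper11.F4T

section
variable {F : Type*} [Field F] [Fintype F]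
variable {τ : ↥(chevF4.group F) ≃* ↥(chevF4.group F)} {θ : ℕ} (hτ : TauData F τ θ)
include hτ

theorem sq3 : Sq3 F :=
  ⟨sq_word F hτ.two W8 chk_sq8, sq_word F hτ.two _ chk_sq0, sq_word F hτ.two _ chk_sq1⟩

theorem pairU_one_eq : pairU θ (1 : F) = wordGL chevF4 f4_mem F (ones F [33, 24]) :=
  gEl_eq F θ hτ.pos 0

theorem suzU_zero_one_eq : suzU θ (0 : F) 1 = wordGL chevF4 f4_mem F (ones F [28, 30]) := by
  have hz : (0 : F) ^ θ = 0 := zero_pow hτ.pos.ne'
  have hz1 : (0 : F) ^ (θ + 1) = 0 := zero_pow (Nat.succ_ne_zero _)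
  rw [suzU_eq]
  unfold P4 ones wordGL
  simp only [hz, hz1, zero_add, one_pow, xGL_zero, one_mul, mul_one, List.map_cons, List.map_nil,
    List.prod_cons, List.prod_nil]

theorem Cj_W8 : Cj τ (nW F W8) (pairU θ 1) := by
  obtain ⟨g, hg, he⟩ := conj_word F hτ.two θ hτ.pos _ W8 [33, 24] chk_c8
  exact ⟨g, twistedF4_le_fixTau hτ hg, by rw [he, pairU_one_eq hτ]⟩

theorem Cj_A1 : Cj τ (nW F (altW 1 7)) (pairU θ 1) := by
  obtain ⟨g, hg, he⟩ := conj_word F hτ.two θ hτ.pos _ (altW 1 7) [33, 24] chk_c1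
  exact ⟨g, twistedF4_le_fixTau hτ hg, by rw [he, pairU_one_eq hτ]⟩

theorem Cj_A0 : Cj τ (nW F (altW 0 7)) (suzU θ 0 1) := by
  obtain ⟨g, hg, he⟩ := conj_word F hτ.two θ hτ.pos _ (altW 0 7) [28, 30] chk_c0
  exact ⟨g, twistedF4_le_fixTau hτ hg, by rw [he, suzU_zero_one_eq hτ]⟩

/-- every involution of `²F₄(q)` is conjugate to `x(1)` or to `y(0,1)` -/
theorem invol_two (t : GL chevF4.Idx F) (ht : t ∈ fixTau F τ) (htt : t * t = 1) (ht1 : t ≠ 1) :
    Cj τ t (pairU θ 1) ∨ Cj τ t (suzU θ 0 1) := by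
  rcases invol_R hτ (sq3 hτ) t ht htt ht1 with h | h | h
  · exact Or.inr (h.trans (Cj_A0 hτ))
  · exact Or.inl (h.trans (Cj_A1 hτ))
  · exact Or.inl (h.trans (Cj_W8 hτ))

theorem pairU_one_sq : pairU θ (1 : F) * pairU θ 1 = 1 := (Cj_W8 hτ).sq (sq3 hτ).s8

theorem suzU_one_sq : suzU θ (0 : F) 1 * suzU θ 0 1 = 1 := (Cj_A0 hτ).sq (sq3 hτ).s0

theorem pairU_one_ne : pairU θ (1 : F) ≠ 1 := by
  intro h
  have h0 : pairU θ (0 : F) = 1 := by
    rw [pairU_eq, zero_pow hτ.pos.ne']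
    simp only [X, xGL_zero, mul_one]
  rw [← h0] at h
  exact one_ne_zero (pairU_inj θ _ _ h)

theorem suzU_one_ne : suzU θ (0 : F) 1 ≠ 1 := by
  intro h
  rw [← suzU_zero hτ] at h
  exact one_ne_zero (suzU_inj hτ _ _ _ _ h).2

theorem not_Cj_P_S : ¬ Cj τ (pairU θ (1 : F)) (suzU θ 0 1) := by
  rintro ⟨g, -, hg⟩
  have : CharP F 2 := charP_of_two F hτ.two
  exact not_conj_P_S F θ hτ.pos g hg

end

/-- the count of the classes of involutions in a group where every involution is conjugate to one of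
two non-conjugate involutions -/
theorem ncard_invol_classes {G : Type*} [Group G] (a b : G) (ha : orderOf a = 2) (hb : orderOf b = 2)
    (hab : ¬ IsConj a b) (hall : ∀ g : G, orderOf g = 2 → IsConj g a ∨ IsConj g b) :
    (ConjClasses.mk '' {g : G | orderOf g = 2}).ncard = 2 := by
  have e : ConjClasses.mk '' {g : G | orderOf g = 2} = {ConjClasses.mk a, ConjClasses.mk b} := by
    ext c
    constructor
    · rintro ⟨g, hg, rfl⟩
      rcases hall g hg with h | h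
      · exact Or.inl (ConjClasses.mk_eq_mk_iff_isConj.mpr h)
      · exact Or.inr (ConjClasses.mk_eq_mk_iff_isConj.mpr h)
    · rintro (rfl | rfl)
      · exact ⟨a, ha, rfl⟩
      · exact ⟨b, hb, rfl⟩
  rw [e]
  apply Set.ncard_pair
  intro h
  exact hab (ConjClasses.mk_eq_mk_iff_isConj.mp h)

theorem orderOf_two_iff {G : Type*} [Group G] (g : G) : orderOf g = 2 ↔ g * g = 1 ∧ g ≠ 1 := by
  constructor
  · intro h
    refine ⟨?_, ?_⟩
    · have := pow_orderOf_eq_one g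
      rw [h, pow_two] at this
      exact this
    · intro h1
      rw [h1, orderOf_one] at h
      omega
  · rintro ⟨h1, h2⟩
    exact orderOf_eq_prime (by rw [pow_two]; exact h1) h2

section
variable {F : Type*} [Field F] [Fintype F]
variable {τ : ↥(chevF4.group F) ≃* ↥(chevF4.group F)} {θ : ℕ} (hτ : TauData F τ θ)
include hτ

/-- the two representatives as elements of the twisted group -/
theorem invol_data :
    orderOf (⟨pairU θ 1, pairU_mem_twistedF4 θ 1⟩ : ↥(twistedF4 F θ)) = 2 ∧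
    orderOf (⟨suzU θ 0 1, suzU_mem_twistedF4 θ 0 1⟩ : ↥(twistedF4 F θ)) = 2 ∧
    ¬ IsConj (⟨pairU θ 1, pairU_mem_twistedF4 θ 1⟩ : ↥(twistedF4 F θ))
      ⟨suzU θ 0 1, suzU_mem_twistedF4 θ 0 1⟩ ∧
    ∀ g : ↥(twistedF4 F θ), orderOf g = 2 →
      IsConj g ⟨pairU θ 1, pairU_mem_twistedF4 θ 1⟩ ∨ IsConj g ⟨suzU θ 0 1, suzU_mem_twistedF4 θ 0 1⟩ := by
  have hfix := fixTau_eq hτ
  refine ⟨?_, ?_, ?_, ?_⟩
  · rw [orderOf_two_iff]
    exact ⟨Subtype.ext (pairU_one_sq hτ), fun h => pairU_one_ne hτ (congrArg Subtype.val h)⟩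
  · rw [orderOf_two_iff]
    exact ⟨Subtype.ext (suzU_one_sq hτ), fun h => suzU_one_ne hτ (congrArg Subtype.val h)⟩
  · intro h
    obtain ⟨c, hc⟩ := isConj_iff.mp h
    apply not_Cj_P_S hτ
    refine ⟨c.1, by rw [hfix]; exact c.2, ?_⟩
    exact congrArg Subtype.val hc
  · intro g hg
    rw [orderOf_two_iff] at hg
    have hgf : g.1 ∈ fixTau F τ := by rw [hfix]; exact g.2
    have h1 : g.1 * g.1 = 1 := congrArg Subtype.val hg.1
    have h2 : g.1 ≠ 1 := fun h => hg.2 (Subtype.ext h)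
    rcases invol_two hτ g.1 hgf h1 h2 with ⟨c, hc, he⟩ | ⟨c, hc, he⟩
    · left
      rw [isConj_iff]
      exact ⟨⟨c, by rw [← hfix]; exact hc⟩, Subtype.ext he⟩
    · right
      rw [isConj_iff]
      exact ⟨⟨c, by rw [← hfix]; exact hc⟩, Subtype.ext he⟩

end

/-- `²F₄(q)` has exactly two classes of involutions -/
theorem twistedF4_invol_ncard {K : Type*} [Field K] [Fintype K] (m : ℕ)
    (hK : Fintype.card K = 2 ^ (2 * m + 1)) :
    (ConjClasses.mk '' {g : ↥(twistedF4 K (2 ^ m)) | orderOf g = 2}).ncard = 2 := by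
  obtain ⟨τ, hτ⟩ := exists_tauData hK
  obtain ⟨h1, h2, h3, h4⟩ := invol_data hτ
  exact ncard_invol_classes _ _ h1 h2 h3 h4

end Cfsg.Agent.Lib.Helper18.TF4
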