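import Cfsg.Agent.Lib.Helper18.TF4F
import Cfsg.Agent.Lib.Helper11.F4GenC
import Cfsg.Agent.Lib.Helper10.TitsIdx

/-! The Tits group `²F₄(2)'` has exactly two conjugacy classes of involutions (helper18). -/

set_option autoImplicit false
set_option linter.unusedSectionVars false
set_option maxRecDepth 1000000

namespace Cfsg.Agent.Lib.Helper18.TF4

open Cfsg Cfsg.Lie Matrix Cfsg.Agent.Lib.Helper7 Cfsg.Agent.Lib.Helper11 Cfsg.Agent.Lib.Helper11.Isog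
open Cfsg.Agent.Lib.Helper11.F4T

/-- the classes of involutions of a subgroup of index two containing the involutions, when each of the
two classes of the group has a representative centralised by an element outside the subgroup -/
theorem ncard_invol_index_two {G : Type*} [Group G] (T : Subgroup G) (hT : T.index = 2)
    (a b ca cb : G) (ha : a ∈ T) (hb : b ∈ T) (hoa : orderOf a = 2) (hob : orderOf b = 2)
    (hab : ¬ IsConj a b) (hall : ∀ g : G, orderOf g = 2 → IsConj g a ∨ IsConj g b)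
    (hca : ca ∉ T) (hcb : cb ∉ T) (hcca : ca * a = a * ca) (hccb : cb * b = b * cb) :
    (ConjClasses.mk '' {g : ↥T | orderOf g = 2}).ncard = 2 := by
  have key : ∀ (r cr : G) (hr : r ∈ T), cr ∉ T → cr * r = r * cr → ∀ g : ↥T, IsConj g.1 r →
      IsConj g ⟨r, hr⟩ := by
    intro r cr hr hcr hcomm g hg
    obtain ⟨c, hc⟩ := isConj_iff.mp hg
    rw [isConj_iff]
    by_cases hcT : c ∈ T
    · exact ⟨⟨c, hcT⟩, Subtype.ext hc⟩
    · have hmem : cr * c ∈ T := (Subgroup.mul_mem_iff_of_index_two hT).mpr ⟨fun h => absurd h hcr,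
        fun h => absurd h hcT⟩
      refine ⟨⟨cr * c, hmem⟩, Subtype.ext ?_⟩
      show cr * c * g.1 * (cr * c)⁻¹ = r
      calc cr * c * g.1 * (cr * c)⁻¹ = cr * (c * g.1 * c⁻¹) * cr⁻¹ := by group
        _ = (cr * r) * cr⁻¹ := by rw [hc]
        _ = r := by rw [hcomm]; group
  refine ncard_invol_classes (⟨a, ha⟩ : ↥T) ⟨b, hb⟩ ?_ ?_ ?_ ?_
  · rw [orderOf_two_iff] at hoa ⊢
    exact ⟨Subtype.ext hoa.1, fun h => hoa.2 (congrArg Subtype.val h)⟩
  · rw [orderOf_two_iff] at hob ⊢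
    exact ⟨Subtype.ext hob.1, fun h => hob.2 (congrArg Subtype.val h)⟩
  · intro h
    obtain ⟨c, hc⟩ := isConj_iff.mp h
    exact hab (isConj_iff.mpr ⟨c.1, congrArg Subtype.val hc⟩)
  · intro g hg
    have hg' : orderOf g.1 = 2 := by
      rw [orderOf_two_iff] at hg ⊢
      exact ⟨congrArg Subtype.val hg.1, fun h => hg.2 (Subtype.ext h)⟩
    rcases hall g.1 hg' with h | h
    · exact Or.inl (key a ca ha hca hcca g h)
    · exact Or.inr (key b cb hb hcb hccb g h)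

theorem card_zmod_two : Fintype.card (ZMod 2) = 2 ^ (2 * 0 + 1) := by
  rw [ZMod.card]; norm_num

theorem exists_tau_two : ∃ τ : ↥(chevF4.group (ZMod 2)) ≃* ↥(chevF4.group (ZMod 2)),
    TauData (ZMod 2) τ 1 := by
  obtain ⟨τ, hτ⟩ := exists_tauData (K := ZMod 2) (m := 0) card_zmod_two
  exact ⟨τ, by simpa using hτ⟩

theorem chk_nJ0 : Cfsg.Agent.Lib.Helper25.BitWord.bitChkR chevF4
    ([0].flatMap nJL ++ [0].flatMap nJL) [] = true := by decide +kernel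

theorem chk_nJ1 : Cfsg.Agent.Lib.Helper25.BitWord.bitChkR chevF4
    ([1].flatMap nJL ++ [1].flatMap nJL) [] = true := by decide +kernel

/-- `n_{J₁} y(1,0) n_{J₁}⁻¹` commutes with `x(1)` -/
theorem chk_comm : Cfsg.Agent.Lib.Helper25.BitWord.bitChkR chevF4
    ((nJL 0 ++ [27, 25, 28] ++ (nJL 0).reverse) ++ [33, 24])
    ([33, 24] ++ (nJL 0 ++ [27, 25, 28] ++ (nJL 0).reverse)) = true := by decide +kernel

section
variable {τ : ↥(chevF4.group (ZMod 2)) ≃* ↥(chevF4.group (ZMod 2))} (hτ : TauData (ZMod 2) τ 1)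
include hτ

/-- involutions of `²F₄(2)` lie in the derived subgroup (helper10) -/
theorem sq_mem_commutator (g : ↥(twistedF4 (ZMod 2) 1)) (hg : g * g = 1) :
    g ∈ commutator ↥(twistedF4 (ZMod 2) 1) := by
  by_cases h1 : g = 1
  · rw [h1]; exact Subgroup.one_mem _
  · exact Cfsg.Agent.Lib.Helper10.Tits.invol_mem_commutator g ((orderOf_two_iff g).mpr ⟨hg, h1⟩)

/-- the element `y(1,0)` of order four is not in the derived subgroup -/
theorem suzU_not_mem_commutator :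
    (⟨suzU 1 (1 : ZMod 2) 0, suzU_mem_twistedF4 1 1 0⟩ : ↥(twistedF4 (ZMod 2) 1)) ∉
      commutator ↥(twistedF4 (ZMod 2) 1) := by
  intro hc
  obtain ⟨T', hT'⟩ : ∃ T' : Subgroup (GL chevF4.Idx (ZMod 2)),
      T' = (commutator ↥(twistedF4 (ZMod 2) 1)).map (twistedF4 (ZMod 2) 1).subtype := ⟨_, rfl⟩
  have key : ∀ (x : GL chevF4.Idx (ZMod 2)) (hx : x ∈ twistedF4 (ZMod 2) 1),
      (⟨x, hx⟩ : ↥(twistedF4 (ZMod 2) 1)) ∈ commutator ↥(twistedF4 (ZMod 2) 1) → x ∈ T' := by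
    intro x hx h
    rw [hT']
    exact ⟨⟨x, hx⟩, h, rfl⟩
  have hinv : ∀ x ∈ twistedF4 (ZMod 2) 1, x * x = 1 → x ∈ T' := by
    intro x hx hxx
    exact key x hx (sq_mem_commutator hτ ⟨x, hx⟩ (Subtype.ext hxx))
  have h01 : suzU 1 (0 : ZMod 2) 1 ∈ T' := hinv _ (suzU_mem_twistedF4 1 0 1) (suzU_one_sq hτ)
  have h10 : suzU 1 (1 : ZMod 2) 0 ∈ T' := key _ _ hc
  have hsuz : ∀ t u : ZMod 2, suzU 1 t u ∈ T' := by
    intro t u
    fin_cases t <;> fin_cases u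
    · show suzU 1 (0 : ZMod 2) 0 ∈ T'
      rw [suzU_zero hτ]; exact Subgroup.one_mem _
    · exact h01
    · exact h10
    · show suzU 1 (1 : ZMod 2) 1 ∈ T'
      have e : suzU 1 (1 : ZMod 2) 0 * suzU 1 0 1 = suzU 1 1 1 := by
        rw [suzU_mul hτ]
        congr 1
      rw [← e]
      exact Subgroup.mul_mem _ h10 h01
  have hJ1 : XJ (ZMod 2) 1 ⊓ fixTau (ZMod 2) τ ≤ T' := by
    intro g hg
    obtain ⟨t, u, rfl⟩ := (XJ_one_inf_fixTau hτ g).mp hg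
    exact hsuz t u
  have hnJ : ∀ J : ℕ, J = 0 ∨ J = 1 → nJ (ZMod 2) J ∈ T' := by
    intro J hJ
    apply hinv _ (nJ_mem_twistedF4 (ZMod 2) hτ.two 1 hτ.pos J)
    have e : nJ (ZMod 2) J = nW (ZMod 2) [J] := by rw [nW_cons, nW_nil, mul_one]
    rw [e]
    rcases hJ with rfl | rfl
    · exact sq_word (ZMod 2) hτ.two [0] chk_nJ0
    · exact sq_word (ZMod 2) hτ.two [1] chk_nJ1
  have hb : nW (ZMod 2) [0, 1] ∈ T' := by
    rw [nW_cons, nW_cons, nW_nil, mul_one]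
    exact Subgroup.mul_mem _ (hnJ 0 (Or.inl rfl)) (hnJ 1 (Or.inr rfl))
  obtain ⟨hn3, hn4, hn5⟩ := nW_rot_mem hτ T' hb
  have hsuzV : ∀ t u : ZMod 2, suzV 1 t u ∈ T' := suzV_le hτ T' hJ1 hn4
  have hpU : ∀ v : ZMod 2, pairU 1 v ∈ T' := pairU_le hτ T' hJ1 hn5 (hsuzV 1 0)
  have hJ0 : XJ (ZMod 2) 0 ⊓ fixTau (ZMod 2) τ ≤ T' := by
    intro g hg
    obtain ⟨t, rfl⟩ := (XJ_zero_inf_fixTau hτ g).mp hg
    exact hpU t
  have hle : twistedF4 (ZMod 2) 1 ≤ T' :=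
    twistedF4_le_of_gens 1 T' hpU (pairV_le hτ T' hJ0 hn4) hsuz hsuzV
  have htop : commutator ↥(twistedF4 (ZMod 2) 1) = ⊤ := by
    rw [eq_top_iff]
    intro g _
    have := hle g.2
    rw [hT'] at this
    obtain ⟨y, hy, he⟩ := this
    have : y = g := Subtype.ext he
    rw [← this]; exact hy
  have hidx := Cfsg.Agent.Lib.Helper10.Tits.tits_main.1
  rw [htop, Subgroup.index_top] at hidx
  omega

/-- the Tits group has exactly two classes of involutions -/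
theorem tits_invol_ncard_aux :
    (ConjClasses.mk '' {g : ↥(commutator ↥(twistedF4 (ZMod 2) 1)) | orderOf g = 2}).ncard = 2 := by
  obtain ⟨h1, h2, h3, h4⟩ := invol_data hτ
  have hc0 := suzU_not_mem_commutator hτ
  have hnJ0 : nJ (ZMod 2) 0 ∈ twistedF4 (ZMod 2) 1 := nJ_mem_twistedF4 (ZMod 2) hτ.two 1 hτ.pos 0
  have hN : (commutator ↥(twistedF4 (ZMod 2) 1)).Normal := inferInstance
  refine ncard_invol_index_two (commutator ↥(twistedF4 (ZMod 2) 1))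
    Cfsg.Agent.Lib.Helper10.Tits.tits_main.1
    ⟨pairU 1 1, pairU_mem_twistedF4 1 1⟩ ⟨suzU 1 0 1, suzU_mem_twistedF4 1 0 1⟩
    (⟨nJ (ZMod 2) 0, hnJ0⟩ * ⟨suzU 1 1 0, suzU_mem_twistedF4 1 1 0⟩ * ⟨nJ (ZMod 2) 0, hnJ0⟩⁻¹)
    ⟨suzU 1 1 0, suzU_mem_twistedF4 1 1 0⟩ ?_ ?_ h1 h2 h3 h4 ?_ hc0 ?_ ?_
  · exact sq_mem_commutator hτ _ (Subtype.ext (pairU_one_sq hτ))
  · exact sq_mem_commutator hτ _ (Subtype.ext (suzU_one_sq hτ))
  · intro h
    apply hc0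
    have := hN.conj_mem _ h (⟨nJ (ZMod 2) 0, hnJ0⟩⁻¹ : ↥(twistedF4 (ZMod 2) 1))
    have e : (⟨nJ (ZMod 2) 0, hnJ0⟩ : ↥(twistedF4 (ZMod 2) 1))⁻¹ *
        (⟨nJ (ZMod 2) 0, hnJ0⟩ * ⟨suzU 1 1 0, suzU_mem_twistedF4 1 1 0⟩ * ⟨nJ (ZMod 2) 0, hnJ0⟩⁻¹) *
        (⟨nJ (ZMod 2) 0, hnJ0⟩ : ↥(twistedF4 (ZMod 2) 1))⁻¹⁻¹ =
        ⟨suzU 1 1 0, suzU_mem_twistedF4 1 1 0⟩ := by group
    rw [e] at this
    exact this
  · apply Subtype.ext
    show nJ (ZMod 2) 0 * suzU 1 1 0 * (nJ (ZMod 2) 0)⁻¹ * pairU 1 1 =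
      pairU 1 1 * (nJ (ZMod 2) 0 * suzU 1 1 0 * (nJ (ZMod 2) 0)⁻¹)
    have hc : CharP (ZMod 2) 2 := charP_of_two (ZMod 2) hτ.two
    have key := Cfsg.Agent.Lib.Helper25.ChInv.wordGL_eq_of_bitChkR chevF4 f4_mem (ZMod 2) _ _ chk_comm
    have key' : wordGL chevF4 f4_mem (ZMod 2) (ones (ZMod 2)
        ((nJL 0 ++ [27, 25, 28] ++ (nJL 0).reverse) ++ [33, 24])) =
      wordGL chevF4 f4_mem (ZMod 2) (ones (ZMod 2)
        ([33, 24] ++ (nJL 0 ++ [27, 25, 28] ++ (nJL 0).reverse))) := key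
    have e1 : wordGL chevF4 f4_mem (ZMod 2) (ones (ZMod 2) (nJL 0).reverse) =
        (wordGL chevF4 f4_mem (ZMod 2) (ones (ZMod 2) (nJL 0)))⁻¹ :=
      Cfsg.Agent.Lib.Helper25.ChInv.wordGL_ones_reverse chevF4 f4_mem (ZMod 2) (nJL 0)
    rw [ones_append, ones_append, ones_append, ones_append, ones_append, ones_append, wordGL_append,
      wordGL_append, wordGL_append, wordGL_append, wordGL_append, wordGL_append, e1,
      ← nJ_eq_ones (ZMod 2) hτ.two 0, ← pairU_one_eq hτ] at key'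
    have e2 : wordGL chevF4 f4_mem (ZMod 2) (ones (ZMod 2) [27, 25, 28]) = suzU 1 1 0 :=
      (gEl_eq (ZMod 2) 1 hτ.pos 2).symm
    rw [e2] at key'
    exact key'
  · apply Subtype.ext
    show suzU 1 (1 : ZMod 2) 0 * suzU 1 0 1 = suzU 1 0 1 * suzU 1 1 0
    rw [suzU_mul hτ, suzU_mul hτ]
    congr 1

end

/-- the Tits group has exactly two classes of involutions -/
theorem tits_invol_ncard :
    (ConjClasses.mk '' {g : Cfsg.Lie.TitsGroup | orderOf g = 2}).ncard = 2 := by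
  obtain ⟨τ, hτ⟩ := exists_tau_two
  exact tits_invol_ncard_aux hτ

end Cfsg.Agent.Lib.Helper18.TF4
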