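import Cfsg.Agent.Lib.Helper18.TF4A

/-! Centralisers of involutions in `²F₄(q)`: ordered products over pairwise commuting root subgroups and
the elimination lemma for the action of an element of `N` (helper18). -/

set_option autoImplicit false
set_option linter.unusedSectionVars false

namespace Cfsg.Agent.Lib.Helper18.TF4

open Cfsg Cfsg.Lie Matrix Cfsg.Agent.Lib.Helper7 Cfsg.Agent.Lib.Helper11 Cfsg.Agent.Lib.Helper11.Isog
open Cfsg.Agent.Lib.Helper11.F4T

section
variable {F : Type*} [Field F]

/-- an element commuting with every factor commutes with the ordered product -/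
theorem commute_ordProd (l : List ℕ) (t : ℕ → F) (g : GL chevF4.Idx F)
    (h : ∀ r ∈ l, Commute g (xGL chevF4 f4_mem F r (t r))) : Commute g (ordProd chevF4 f4_mem F l t) := by
  induction l with
  | nil => rw [ordProd_nil]; exact Commute.one_right g
  | cons r l ih =>
    rw [ordProd_cons]
    exact (h r List.mem_cons_self).mul_right (ih (fun s hs => h s (List.mem_cons_of_mem _ hs)))

/-- ordered products over pairwise commuting root subgroups are additive in the parameters -/
theorem ordProd_add (l : List ℕ)
    (hc : ∀ r ∈ l, ∀ s ∈ l, ∀ a b : F, Commute (xGL chevF4 f4_mem F r a) (xGL chevF4 f4_mem F s b)) (t u : ℕ → F) :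
    ordProd chevF4 f4_mem F l (fun r => t r + u r) =
      ordProd chevF4 f4_mem F l t * ordProd chevF4 f4_mem F l u := by
  induction l with
  | nil => simp [ordProd_nil]
  | cons r l ih =>
    rw [ordProd_cons, ordProd_cons, ordProd_cons,
      ih (fun a ha b hb => hc a (List.mem_cons_of_mem _ ha) b (List.mem_cons_of_mem _ hb))]
    have h1 : Commute (xGL chevF4 f4_mem F r (u r)) (ordProd chevF4 f4_mem F l t) :=
      commute_ordProd l t _ (fun s hs => hc r List.mem_cons_self s (List.mem_cons_of_mem _ hs) _ _)
    have e : xGL chevF4 f4_mem F r (t r + u r) = xGL chevF4 f4_mem F r (t r) * xGL chevF4 f4_mem F r (u r) := (xGL_mul chevF4 f4_mem F r _ _).symm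
    rw [e]
    calc xGL chevF4 f4_mem F r (t r) * xGL chevF4 f4_mem F r (u r) * (ordProd chevF4 f4_mem F l t * ordProd chevF4 f4_mem F l u)
        = xGL chevF4 f4_mem F r (t r) * (xGL chevF4 f4_mem F r (u r) * ordProd chevF4 f4_mem F l t) * ordProd chevF4 f4_mem F l u := by
          group
      _ = xGL chevF4 f4_mem F r (t r) * (ordProd chevF4 f4_mem F l t * xGL chevF4 f4_mem F r (u r)) * ordProd chevF4 f4_mem F l u := by
          rw [h1.eq]
      _ = _ := by group

/-- conjugating an ordered product by an element of `N`: only the roots with a nonzero parameter matter -/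
theorem conj_ordProd_mem (n : GL chevF4.Idx F) (f : ℕ → ℕ) (hn : ActsAs chevF4 f4_mem F n f)
    (l : List ℕ) (hl : ∀ r ∈ l, r < 48) (t : ℕ → F) (S : List ℕ)
    (hS : ∀ r ∈ l, t r ≠ 0 → f r ∈ S) :
    n * ordProd chevF4 f4_mem F l t * n⁻¹ ∈ XL F S := by
  induction l with
  | nil => rw [ordProd_nil]; simp
  | cons r l ih =>
    rw [ordProd_cons]
    have e : n * (xGL chevF4 f4_mem F r (t r) * ordProd chevF4 f4_mem F l t) * n⁻¹ =
        (n * xGL chevF4 f4_mem F r (t r) * n⁻¹) * (n * ordProd chevF4 f4_mem F l t * n⁻¹) := by group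
    rw [e]
    apply Subgroup.mul_mem
    · by_cases h0 : t r = 0
      · rw [h0]
        have : xGL chevF4 f4_mem F r (0 : F) = 1 := xGL_zero chevF4 f4_mem F r
        rw [this]; simp
      · obtain ⟨-, c, -, hcf⟩ := hn r (hl r List.mem_cons_self)
        rw [hcf]
        apply Subgroup.subset_closure
        exact ⟨f r, hS r List.mem_cons_self h0, c * t r, coe_xGL chevF4 f4_mem F _ _⟩
    · exact ih (fun s hs => hl s (List.mem_cons_of_mem _ hs))
        (fun s hs h0 => hS s (List.mem_cons_of_mem _ hs) h0)

/-- the action of an element of `N` on the roots is injective -/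
theorem actsAs_inj (n : GL chevF4.Idx F) (f : ℕ → ℕ) (hn : ActsAs chevF4 f4_mem F n f)
    (r s : ℕ) (hr : r < 48) (hs : s < 48) (h : f r = f s) : r = s := by
  obtain ⟨-, c, hc, h1⟩ := hn r hr
  obtain ⟨-, c', hc', h2⟩ := hn s hs
  have e1 := h1 1
  have e2 := h2 (c'⁻¹ * c)
  rw [mul_one] at e1
  rw [← mul_assoc, mul_inv_cancel₀ hc', one_mul, ← h, ← e1] at e2
  have e3 : xGL chevF4 f4_mem F s (c'⁻¹ * c) = xGL chevF4 f4_mem F r 1 := by
    have : n⁻¹ * (n * xGL chevF4 f4_mem F s (c'⁻¹ * c) * n⁻¹) * n = n⁻¹ * (n * xGL chevF4 f4_mem F r 1 * n⁻¹) * n := by rw [e2]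
    calc xGL chevF4 f4_mem F s (c'⁻¹ * c) = n⁻¹ * (n * xGL chevF4 f4_mem F s (c'⁻¹ * c) * n⁻¹) * n := by group
      _ = n⁻¹ * (n * xGL chevF4 f4_mem F r 1 * n⁻¹) * n := this
      _ = xGL chevF4 f4_mem F r 1 := by group
  exact xGL_root_inj chevF4 f4_mem F r s hr hs 1 _ one_ne_zero e3.symm

/-- the positive roots of index greater than `m` -/
def tl (m : ℕ) : List ℕ := chevF4.posRoots.filter fun s => decide (m < s)

theorem mem_tl (m s : ℕ) : s ∈ tl m ↔ chevF4.IsPosRoot s ∧ m < s := by
  unfold tl
  rw [List.mem_filter, mem_posRoots, decide_eq_true_iff]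

theorem goodL_tl (m : ℕ) (hm : chevF4.IsPosRoot m) : GoodL chevF4 (m :: tl m) := by
  refine ⟨?_, ?_, ?_⟩
  · rw [List.pairwise_cons]
    refine ⟨fun s hs => ((mem_tl m s).mp hs).2, ?_⟩
    exact List.Pairwise.filter _ (goodL_posRoots chevF4).sorted
  · intro r hr
    rcases List.mem_cons.mp hr with rfl | h
    · exact hm
    · exact ((mem_tl m r).mp h).1
  · intro r hr s hs hrs
    apply List.mem_cons_of_mem
    rw [mem_tl]
    refine ⟨hs, ?_⟩
    rcases List.mem_cons.mp hr with rfl | h
    · exact hrs
    · exact lt_trans ((mem_tl m r).mp h).2 hrs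

/-- the elimination lemma: if `n` (acting as `f` on the roots) conjugates an ordered product over a list `l`
of pairwise commuting positive root subgroups, closed upwards with all indices `≥ k`, back into `⟨X_r : r ∈ l⟩`,
then the parameters of the roots `r` with `f r < k` vanish -/
theorem elim_lt (k : ℕ) (l : List ℕ) (hgood : GoodL chevF4 l) (hk : ∀ r ∈ l, k ≤ r)
    (hc : ∀ r ∈ l, ∀ s ∈ l, ∀ a b : F, Commute (xGL chevF4 f4_mem F r a) (xGL chevF4 f4_mem F s b))
    (n : GL chevF4.Idx F) (f : ℕ → ℕ) (hn : ActsAs chevF4 f4_mem F n f)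
    (t : ℕ → F) (hmem : n * ordProd chevF4 f4_mem F l t * n⁻¹ ∈ XL F l) :
    ∀ r ∈ l, f r < k → t r = 0 := by
  obtain ⟨w, hO⟩ := exists_ordW chevF4 f4_mem
  have hA := chainAdd_linF chevF4 f4_mem w
  have hl48 : ∀ r ∈ l, r < 48 := fun r hr => (hgood.pos r hr).1
  have hnd : l.Nodup := hgood.sorted.imp (fun h => Nat.ne_of_lt h)
  have hXLU : XL F l ≤ chevF4.posUnipotent F := XL_le_pos l hgood.pos
  -- the roots sent to negative roots
  have hneg : ∀ r ∈ l, ¬ chevF4.IsPosRoot (f r) → t r = 0 := by
    classical
    obtain ⟨tm, htm⟩ : ∃ tm : ℕ → F, tm = fun y => if chevF4.IsPosRoot (f y) then 0 else t y := ⟨_, rfl⟩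
    obtain ⟨tp, htp⟩ : ∃ tp : ℕ → F, tp = fun y => if chevF4.IsPosRoot (f y) then t y else 0 := ⟨_, rfl⟩
    have hsum : ordProd chevF4 f4_mem F l t =
        ordProd chevF4 f4_mem F l tm * ordProd chevF4 f4_mem F l tp := by
      rw [← ordProd_add l hc]
      apply ordProd_congr
      intro r _
      rw [htm, htp]
      by_cases h : chevF4.IsPosRoot (f r)
      · simp [h]
      · simp [h]
    have h1 : n * ordProd chevF4 f4_mem F l tm * n⁻¹ ∈ chevF4.negUnipotent F := by
      refine XL_le_neg chevF4.negRoots ?_ (conj_ordProd_mem n f hn l hl48 tm chevF4.negRoots ?_)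
      · intro r hr
        unfold ChevalleyDatum.negRoots at hr
        rw [List.mem_filter, decide_eq_true_iff] at hr
        exact hr.2
      · intro r hr h0
        have hnp : ¬ chevF4.IsPosRoot (f r) := by
          intro hp
          apply h0
          rw [htm]
          simp [hp]
        have hlt := (hn r (hl48 r hr)).1
        have hng : chevF4.IsNegRoot (f r) := by
          rcases posOrNeg_of_mem chevF4 f4_mem (f r) hlt with hp | hq
          · exact absurd hp hnp
          · exact hq
        unfold ChevalleyDatum.negRoots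
        rw [List.mem_filter, List.mem_range, decide_eq_true_iff]
        exact ⟨hlt, hng⟩
    have h2 : n * ordProd chevF4 f4_mem F l tp * n⁻¹ ∈ chevF4.posUnipotent F := by
      refine XL_le_pos chevF4.posRoots (fun r hr => (mem_posRoots chevF4 r).mp hr)
        (conj_ordProd_mem n f hn l hl48 tp chevF4.posRoots ?_)
      intro r hr h0
      rw [mem_posRoots]
      by_contra hp
      apply h0
      rw [htp]
      simp [hp]
    have h3 : n * ordProd chevF4 f4_mem F l tm * n⁻¹ ∈ chevF4.posUnipotent F := by
      have e : n * ordProd chevF4 f4_mem F l tm * n⁻¹ =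
          (n * ordProd chevF4 f4_mem F l t * n⁻¹) * (n * ordProd chevF4 f4_mem F l tp * n⁻¹)⁻¹ := by
        rw [hsum]; group
      rw [e]
      exact Subgroup.mul_mem _ (hXLU hmem) (Subgroup.inv_mem _ h2)
    have h4 : n * ordProd chevF4 f4_mem F l tm * n⁻¹ ∈
        chevF4.posUnipotent F ⊓ chevF4.negUnipotent F := Subgroup.mem_inf.mpr ⟨h3, h1⟩
    rw [posUnipotent_inf_negUnipotent chevF4 f4_mem F, Subgroup.mem_bot] at h4
    have h5 : ordProd chevF4 f4_mem F l tm = 1 := by
      have : ordProd chevF4 f4_mem F l tm = n⁻¹ * (n * ordProd chevF4 f4_mem F l tm * n⁻¹) * n := by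
        group
      rw [this, h4]; group
    have h6 : ordProd chevF4 f4_mem F l tm = ordProd chevF4 f4_mem F l (fun _ => 0) := by
      rw [h5, ordProd_eq_one chevF4 f4_mem F l _ (fun _ _ => rfl)]
    have h7 := ordProd_inj chevF4 f4_mem F _ hA hO l hgood tm (fun _ => 0) h6
    intro r hr hnp
    have := h7 r hr
    rw [htm] at this
    simpa [hnp] using this
  -- the roots sent to positive roots of small index, by induction on the image
  have key : ∀ m, ∀ r ∈ l, f r = m → m < k → t r = 0 := by
    intro m
    induction m using Nat.strong_induction_on with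
    | _ m ih =>
      intro r hr hfr hmk
      by_cases hpos : chevF4.IsPosRoot m
      · classical
        obtain ⟨t1, ht1⟩ : ∃ t1 : ℕ → F, t1 = fun y => if y = r then t r else 0 := ⟨_, rfl⟩
        obtain ⟨t2, ht2⟩ : ∃ t2 : ℕ → F, t2 = fun y => if y = r then 0 else t y := ⟨_, rfl⟩
        have hsum : ordProd chevF4 f4_mem F l t =
            xGL chevF4 f4_mem F r (t r) * ordProd chevF4 f4_mem F l t2 := by
          have e1 : ordProd chevF4 f4_mem F l t =
              ordProd chevF4 f4_mem F l t1 * ordProd chevF4 f4_mem F l t2 := by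
            rw [← ordProd_add l hc]
            apply ordProd_congr
            intro s _
            rw [ht1, ht2]
            by_cases h : s = r
            · simp [h]
            · simp [h]
          rw [e1, ht1, ordProd_single chevF4 f4_mem F l hnd r hr (t r)]
        have h2 : n * ordProd chevF4 f4_mem F l t2 * n⁻¹ ∈ XL F (tl m) := by
          apply conj_ordProd_mem n f hn l hl48 t2 (tl m)
          intro s hs h0
          have hsr : s ≠ r := by
            rintro rfl
            apply h0
            rw [ht2]; simp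
          have hts : t s ≠ 0 := by
            intro h
            apply h0
            rw [ht2]
            simp [hsr, h]
          have hfp : chevF4.IsPosRoot (f s) := by
            by_contra hnp
            exact hts (hneg s hs hnp)
          rw [mem_tl]
          refine ⟨hfp, ?_⟩
          rcases lt_trichotomy (f s) m with hlt | heq | hgt
          · exact absurd (ih (f s) hlt s hs rfl (lt_trans hlt hmk)) hts
          · exact absurd (actsAs_inj n f hn s r (hl48 s hs) (hl48 r hr) (heq.trans hfr.symm)) hsr
          · exact hgt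
        have h1 : n * ordProd chevF4 f4_mem F l t * n⁻¹ ∈ XL F (tl m) := by
          refine XL_mono l (tl m) (fun s hs => ?_) hmem
          rw [mem_tl]
          exact ⟨hgood.pos s hs, lt_of_lt_of_le hmk (hk s hs)⟩
        obtain ⟨-, c, hc0, hcf⟩ := hn r (hl48 r hr)
        have h3 : xGL chevF4 f4_mem F m (c * t r) ∈ XL F (tl m) := by
          have e : xGL chevF4 f4_mem F m (c * t r) = (n * ordProd chevF4 f4_mem F l t * n⁻¹) *
              (n * ordProd chevF4 f4_mem F l t2 * n⁻¹)⁻¹ := by
            rw [← hfr, ← hcf, hsum]; group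
          rw [e]
          exact Subgroup.mul_mem _ h1 (Subgroup.inv_mem _ h2)
        have h4 := eq_zero_of_xGL_mem chevF4 f4_mem F _ hA hO m (tl m) (goodL_tl m hpos) _ h3
        rcases mul_eq_zero.mp h4 with h | h
        · exact absurd h hc0
        · exact h
      · exact hneg r hr (by rw [hfr]; exact hpos)
  intro r hr hlt
  exact key (f r) r hr rfl hlt

end

end Cfsg.Agent.Lib.Helper18.TF4
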