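import Cfsg.Agent.Lib.Helper18.TF4H

/-! Centralisers of involutions in `²F₄(q)`: `B` normalises the subgroups generated by the root subgroups
of an ideal of positive roots, and the cell analysis of the centraliser of an element of such a subgroup
(helper18). -/

set_option autoImplicit false
set_option linter.unusedSectionVars false

namespace Cfsg.Agent.Lib.Helper18.TF4

open Cfsg Cfsg.Lie Matrix Cfsg.Agent.Lib.Helper7 Cfsg.Agent.Lib.Helper11 Cfsg.Agent.Lib.Helper11.Isog
open Cfsg.Agent.Lib.Helper11.F4T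

/-- the elements conjugating a subgroup into itself, in both directions -/
def conjStab {G : Type*} [Group G] (N : Subgroup G) : Subgroup G where
  carrier := {g | ∀ y ∈ N, g * y * g⁻¹ ∈ N ∧ g⁻¹ * y * g ∈ N}
  one_mem' := by
    intro y hy
    simp [hy]
  mul_mem' := by
    intro a b ha hb y hy
    constructor
    · have h := (ha _ ((hb y hy).1)).1
      have e : a * b * y * (a * b)⁻¹ = a * (b * y * b⁻¹) * a⁻¹ := by group
      rw [e]; exact h
    · have h := (hb _ ((ha y hy).2)).2
      have e : (a * b)⁻¹ * y * (a * b) = b⁻¹ * (a⁻¹ * y * a) * b := by group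
      rw [e]; exact h
  inv_mem' := by
    intro a ha y hy
    constructor
    · have h := (ha y hy).2
      have e : a⁻¹ * y * a⁻¹⁻¹ = a⁻¹ * y * a := by group
      rw [e]; exact h
    · have h := (ha y hy).1
      have e : a⁻¹⁻¹ * y * a⁻¹ = a * y * a⁻¹ := by group
      rw [e]; exact h

theorem conj_mem_closure {G : Type*} [Group G] (S : Set G) (g : G)
    (h : ∀ y ∈ S, g * y * g⁻¹ ∈ Subgroup.closure S) :
    ∀ y ∈ Subgroup.closure S, g * y * g⁻¹ ∈ Subgroup.closure S := by
  intro y hy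
  induction hy using Subgroup.closure_induction with
  | mem x hx => exact h x hx
  | one => simp
  | mul a b _ _ iha ihb =>
    have : g * (a * b) * g⁻¹ = (g * a * g⁻¹) * (g * b * g⁻¹) := by group
    rw [this]; exact Subgroup.mul_mem _ iha ihb
  | inv a _ iha =>
    have : g * a⁻¹ * g⁻¹ = (g * a * g⁻¹)⁻¹ := by group
    rw [this]; exact Subgroup.inv_mem _ iha

section
variable {F : Type*} [Field F]

/-- `B` normalises the subgroup generated by the root subgroups of an ideal of positive roots -/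
theorem borel_le_conjStab (l : List ℕ) (hl : ∀ r ∈ l, r < 48)
    (htab : ∀ r ∈ chevF4.posRoots, r ∉ l → closedLB chevF4 (r :: l) = true) :
    chevF4.borelSubgroup F ≤ conjStab (XL F l) := by
  unfold ChevalleyDatum.borelSubgroup
  apply sup_le
  · unfold ChevalleyDatum.posUnipotent
    rw [Subgroup.closure_le]
    rintro g ⟨r, a, hr, hgm⟩
    have hg : g = xGL chevF4 f4_mem F r a := Units.ext (by rw [hgm, coe_xGL])
    rw [hg]
    by_cases hrl : r ∈ l
    · have hmem : ∀ a : F, xGL chevF4 f4_mem F r a ∈ XL F l := fun a =>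
        Subgroup.subset_closure ⟨r, hrl, a, coe_xGL chevF4 f4_mem F _ _⟩
      intro y hy
      exact ⟨Subgroup.mul_mem _ (Subgroup.mul_mem _ (hmem a) hy) (Subgroup.inv_mem _ (hmem a)),
        Subgroup.mul_mem _ (Subgroup.mul_mem _ (Subgroup.inv_mem _ (hmem a)) hy) (hmem a)⟩
    · have hcl := htab r ((mem_posRoots chevF4 r).mpr hr) hrl
      intro y hy
      constructor
      · exact conj_mem_closure _ _ (xGL_conj_gensL_closed chevF4 f4_mem F r l hcl a) y hy
      · have h := conj_mem_closure _ _ (xGL_conj_gensL_closed chevF4 f4_mem F r l hcl (-a)) y hy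
        rw [← xGL_inv, inv_inv] at h
        exact h
  · intro h hh y hy
    constructor
    · have := conj_closure_gensL chevF4 f4_mem F h id (actsAs_diag chevF4 f4_mem F h hh) l hl y hy
      rwa [List.map_id] at this
    · have := conj_closure_gensL chevF4 f4_mem F h⁻¹ id
        (actsAs_diag chevF4 f4_mem F h⁻¹ (Subgroup.inv_mem _ hh)) l hl y hy
      rw [List.map_id, inv_inv] at this
      exact this

end

section
variable {F : Type*} [Field F] [Fintype F]
variable {τ : ↥(chevF4.group F) ≃* ↥(chevF4.group F)} {θ : ℕ} (hτ : TauData F τ θ)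
include hτ

/-- the cell analysis: an element of `²F₄(q)` commuting with an element `z` of `⟨X_r : r ≥ k⟩` outside
`⟨X_r : r > k⟩` lies in `B¹ ∪ B¹ n_J B¹`, provided every other element of the Weyl group moves `k` down -/
theorem cent_cases (k : ℕ) (l' : List ℕ) (hgood : GoodL chevF4 (k :: l'))
    (htab : ∀ r ∈ chevF4.posRoots, r ∉ (k :: l') → closedLB chevF4 (r :: k :: l') = true)
    (htab' : ∀ r ∈ chevF4.posRoots, r ∉ l' → closedLB chevF4 (r :: l') = true)
    (hc : ∀ r ∈ k :: l', ∀ s ∈ k :: l', ∀ a b : F,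
      Commute (xGL chevF4 f4_mem F r a) (xGL chevF4 f4_mem F s b))
    (z : GL chevF4.Idx F) (hz : z ∈ XL F (k :: l')) (hz' : z ∉ XL F l')
    (J : ℕ) (hbad : ∀ w ∈ words16, w ≠ [] → w ≠ [J] → reflWord chevF4 (flatW w) k < k)
    (g : GL chevF4.Idx F) (hg : g ∈ fixTau F τ) (hgz : g * z = z * g) :
    ∃ w, (w = [] ∨ w = [J]) ∧ ∃ b ∈ chevF4.borelSubgroup F ⊓ fixTau F τ,
      ∃ u ∈ chevF4.posUnipotent F ⊓ fixTau F τ, g = b * nW F w * u := by
  obtain ⟨w, hw, b, hb, u, hu, rfl⟩ := fix_cases hτ g hg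
  obtain ⟨hum, huf⟩ := Subgroup.mem_inf.mp hu
  have huU := uMinus_le_posUnipotent chevF4 F _ hum
  have huB := posUnipotent_le_borel chevF4 f4_mem F huU
  have hbB := (Subgroup.mem_inf.mp hb).1
  by_cases h1 : w = []
  · exact ⟨w, Or.inl h1, b, hb, u, Subgroup.mem_inf.mpr ⟨huU, huf⟩, rfl⟩
  by_cases h2 : w = [J]
  · exact ⟨w, Or.inr h2, b, hb, u, Subgroup.mem_inf.mpr ⟨huU, huf⟩, rfl⟩
  exfalso
  have hf := hbad w hw h1 h2
  have hl48 : ∀ r ∈ k :: l', r < 48 := fun r hr => (hgood.pos r hr).1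
  have hl48' : ∀ r ∈ l', r < 48 := fun r hr => hl48 r (List.mem_cons_of_mem _ hr)
  have hS := borel_le_conjStab (F := F) (k :: l') hl48 htab
  have hS' := borel_le_conjStab (F := F) l' hl48' htab'
  -- the two conjugates of `z`
  have ha' : u * z * u⁻¹ ∈ XL F (k :: l') := (hS huB z hz).1
  have ha'' : b⁻¹ * z * b ∈ XL F (k :: l') := (hS hbB z hz).2
  have key : nW F w * (u * z * u⁻¹) * (nW F w)⁻¹ = b⁻¹ * z * b := by
    calc nW F w * (u * z * u⁻¹) * (nW F w)⁻¹
        = b⁻¹ * ((b * nW F w * u) * z) * u⁻¹ * (nW F w)⁻¹ := by group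
      _ = b⁻¹ * (z * (b * nW F w * u)) * u⁻¹ * (nW F w)⁻¹ := by rw [hgz]
      _ = b⁻¹ * z * b := by group
  obtain ⟨wt, hO⟩ := exists_ordW chevF4 f4_mem
  have hA := chainAdd_linF chevF4 f4_mem wt
  obtain ⟨t, ht⟩ := exists_ordProd chevF4 f4_mem F _ hA hO (k :: l') hgood _ ha'
  have hk : ∀ r ∈ k :: l', k ≤ r := by
    intro r hr
    rcases List.mem_cons.mp hr with rfl | h
    · exact le_refl _
    · exact le_of_lt ((List.pairwise_cons.mp hgood.sorted).1 r h)
  have hmem : nW F w * ordProd chevF4 f4_mem F (k :: l') t * (nW F w)⁻¹ ∈ XL F (k :: l') := by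
    rw [← ht, key]; exact ha''
  have h0 := elim_lt k (k :: l') hgood hk hc (nW F w) _ (actsAs_nW F w) t hmem k List.mem_cons_self hf
  have h3 : u * z * u⁻¹ ∈ XL F l' := by
    rw [ht, ordProd_cons, h0, xGL_zero, one_mul]
    exact ordProd_mem chevF4 f4_mem F l' t
  apply hz'
  have h4 := (hS' huB _ h3).2
  have e : u⁻¹ * (u * z * u⁻¹) * u = z := by group
  rwa [e] at h4

end

end Cfsg.Agent.Lib.Helper18.TF4
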