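import Cfsg.Agent.Lib.Helper18.TF4I

/-! Centralisers of involutions in `²F₄(q)`: the tables for the two dominant representatives
`x₄₅(1) x₃₉(1)` and `x₄₇(1) x₄₄(1)` and the resulting cell statements (helper18). -/

set_option autoImplicit false
set_option linter.unusedSectionVars false
set_option maxRecDepth 1000000

namespace Cfsg.Agent.Lib.Helper18.TF4

open Cfsg Cfsg.Lie Matrix Cfsg.Agent.Lib.Helper7 Cfsg.Agent.Lib.Helper11 Cfsg.Agent.Lib.Helper11.Isog
open Cfsg.Agent.Lib.Helper11.F4T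

theorem goodL_drop (D : ChevalleyDatum) : ∀ (j : ℕ) (l : List ℕ), GoodL D l → GoodL D (l.drop j)
  | 0, l, h => by simpa using h
  | _ + 1, [], h => by simpa using h
  | j + 1, _ :: l, h => by simpa using goodL_drop D j l h.tail

theorem goodL_39 : GoodL chevF4 [39, 40, 41, 42, 43, 44, 45, 46, 47] := by
  have h := goodL_drop chevF4 15 _ (goodL_posRoots chevF4)
  rw [posRoots_F4] at h
  exact h

theorem goodL_44 : GoodL chevF4 [44, 45, 46, 47] := by
  have h := goodL_drop chevF4 20 _ (goodL_posRoots chevF4)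
  rw [posRoots_F4] at h
  exact h

theorem tab_closed_39 : ∀ r ∈ chevF4.posRoots, r ∉ [39, 40, 41, 42, 43, 44, 45, 46, 47] →
    closedLB chevF4 (r :: [39, 40, 41, 42, 43, 44, 45, 46, 47]) = true := by decide +kernel

theorem tab_closed_40 : ∀ r ∈ chevF4.posRoots, r ∉ [40, 41, 42, 43, 44, 45, 46, 47] →
    closedLB chevF4 (r :: [40, 41, 42, 43, 44, 45, 46, 47]) = true := by decide +kernel

theorem tab_closed_44 : ∀ r ∈ chevF4.posRoots, r ∉ [44, 45, 46, 47] →
    closedLB chevF4 (r :: [44, 45, 46, 47]) = true := by decide +kernel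

theorem tab_closed_45 : ∀ r ∈ chevF4.posRoots, r ∉ [45, 46, 47] →
    closedLB chevF4 (r :: [45, 46, 47]) = true := by decide +kernel

theorem tab_comm_39 : ∀ r ∈ [39, 40, 41, 42, 43, 44, 45, 46, 47],
    ∀ s ∈ [39, 40, 41, 42, 43, 44, 45, 46, 47], s ≠ r → s ≠ chevF4.neg r ∧ chevF4.commTerms r s = [] := by
  decide +kernel

theorem tab_bad_39 : ∀ w ∈ words16, w ≠ [] → w ≠ [0] → reflWord chevF4 (flatW w) 39 < 39 := by
  decide +kernel

theorem tab_bad_44 : ∀ w ∈ words16, w ≠ [] → w ≠ [1] → reflWord chevF4 (flatW w) 44 < 44 := by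
  decide +kernel

section
variable (F : Type*) [Field F]

/-- the dominant representative of the involutions of pair type -/
noncomputable def zB : GL chevF4.Idx F := xGL chevF4 f4_mem F 45 1 * xGL chevF4 f4_mem F 39 1

/-- the dominant representative of the central involutions -/
noncomputable def zA : GL chevF4.Idx F := xGL chevF4 f4_mem F 47 1 * xGL chevF4 f4_mem F 44 1

variable {F}

theorem comm_39 : ∀ r ∈ [39, 40, 41, 42, 43, 44, 45, 46, 47], ∀ s ∈ [39, 40, 41, 42, 43, 44, 45, 46, 47],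
    ∀ a b : F, Commute (xGL chevF4 f4_mem F r a) (xGL chevF4 f4_mem F s b) := by
  intro r hr s hs a b
  by_cases hsr : s = r
  · rw [hsr]
    show xGL chevF4 f4_mem F r a * xGL chevF4 f4_mem F r b = xGL chevF4 f4_mem F r b * xGL chevF4 f4_mem F r a
    rw [xGL_mul, xGL_mul, add_comm]
  · obtain ⟨hsn, hct⟩ := tab_comm_39 r hr s hs hsr
    have hr48 : r < 48 := (goodL_39.pos r hr).1
    have hs48 : s < 48 := (goodL_39.pos s hs).1
    have h := comm_formula_GL chevF4 f4_mem F r s hr48 hs48 hsr hsn a b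
    unfold ChevalleyDatum.commWord at h
    rw [hct] at h
    simp only [List.map_nil, wordGL, List.prod_nil, mul_one] at h
    exact h.symm

theorem comm_44 : ∀ r ∈ [44, 45, 46, 47], ∀ s ∈ [44, 45, 46, 47],
    ∀ a b : F, Commute (xGL chevF4 f4_mem F r a) (xGL chevF4 f4_mem F s b) := by
  intro r hr s hs a b
  apply comm_39 r _ s _ a b
  · revert hr; revert r; decide
  · revert hs; revert s; decide

theorem xGL_mem_XL (l : List ℕ) (r : ℕ) (hr : r ∈ l) (a : F) : xGL chevF4 f4_mem F r a ∈ XL F l :=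
  Subgroup.subset_closure ⟨r, hr, a, coe_xGL chevF4 f4_mem F _ _⟩

theorem zB_mem : zB F ∈ XL F [39, 40, 41, 42, 43, 44, 45, 46, 47] :=
  Subgroup.mul_mem _ (xGL_mem_XL _ 45 (by decide) 1) (xGL_mem_XL _ 39 (by decide) 1)

theorem zA_mem : zA F ∈ XL F [44, 45, 46, 47] :=
  Subgroup.mul_mem _ (xGL_mem_XL _ 47 (by decide) 1) (xGL_mem_XL _ 44 (by decide) 1)

theorem zB_not_mem : zB F ∉ XL F [40, 41, 42, 43, 44, 45, 46, 47] := by
  intro h
  obtain ⟨wt, hO⟩ := exists_ordW chevF4 f4_mem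
  have hA := chainAdd_linF chevF4 f4_mem wt
  have h1 : xGL chevF4 f4_mem F 39 1 ∈ XL F [40, 41, 42, 43, 44, 45, 46, 47] := by
    have e : xGL chevF4 f4_mem F 39 (1 : F) = (xGL chevF4 f4_mem F 45 1)⁻¹ * zB F := by
      unfold zB; group
    rw [e]
    exact Subgroup.mul_mem _ (Subgroup.inv_mem _ (xGL_mem_XL _ 45 (by decide) 1)) h
  exact one_ne_zero (eq_zero_of_xGL_mem chevF4 f4_mem F _ hA hO 39 _ goodL_39 (1 : F) h1)

theorem zA_not_mem : zA F ∉ XL F [45, 46, 47] := by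
  intro h
  obtain ⟨wt, hO⟩ := exists_ordW chevF4 f4_mem
  have hA := chainAdd_linF chevF4 f4_mem wt
  have h1 : xGL chevF4 f4_mem F 44 1 ∈ XL F [45, 46, 47] := by
    have e : xGL chevF4 f4_mem F 44 (1 : F) = (xGL chevF4 f4_mem F 47 1)⁻¹ * zA F := by
      unfold zA; group
    rw [e]
    exact Subgroup.mul_mem _ (Subgroup.inv_mem _ (xGL_mem_XL _ 47 (by decide) 1)) h
  exact one_ne_zero (eq_zero_of_xGL_mem chevF4 f4_mem F _ hA hO 44 _ goodL_44 (1 : F) h1)

end

section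
variable {F : Type*} [Field F] [Fintype F]
variable {τ : ↥(chevF4.group F) ≃* ↥(chevF4.group F)} {θ : ℕ} (hτ : TauData F τ θ)
include hτ

/-- the centraliser of `x₄₅(1) x₃₉(1)` in `²F₄(q)` lies in `B¹ ∪ B¹ n₀ B¹` -/
theorem cent_zB (g : GL chevF4.Idx F) (hg : g ∈ fixTau F τ) (hgz : g * zB F = zB F * g) :
    ∃ w, (w = [] ∨ w = [0]) ∧ ∃ b ∈ chevF4.borelSubgroup F ⊓ fixTau F τ,
      ∃ u ∈ chevF4.posUnipotent F ⊓ fixTau F τ, g = b * nW F w * u :=
  cent_cases hτ 39 [40, 41, 42, 43, 44, 45, 46, 47] goodL_39 tab_closed_39 tab_closed_40 comm_39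
    (zB F) zB_mem zB_not_mem 0 tab_bad_39 g hg hgz

/-- the centraliser of `x₄₇(1) x₄₄(1)` in `²F₄(q)` lies in `B¹ ∪ B¹ n₁ B¹` -/
theorem cent_zA (g : GL chevF4.Idx F) (hg : g ∈ fixTau F τ) (hgz : g * zA F = zA F * g) :
    ∃ w, (w = [] ∨ w = [1]) ∧ ∃ b ∈ chevF4.borelSubgroup F ⊓ fixTau F τ,
      ∃ u ∈ chevF4.posUnipotent F ⊓ fixTau F τ, g = b * nW F w * u :=
  cent_cases hτ 44 [45, 46, 47] goodL_44 tab_closed_44 tab_closed_45 comm_44
    (zA F) zA_mem zA_not_mem 1 tab_bad_44 g hg hgz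

end

end Cfsg.Agent.Lib.Helper18.TF4
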