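import Cfsg.Agent.Lib.Helper18.TF4J
import Cfsg.Agent.Lib.Helper18.TF4G
import Cfsg.Agent.Lib.Helper7.F4Ord

/-! Centralisers of involutions in `²F₄(q)`: rank one parabolic subgroups of a `(B,N)`-pair and their order,
and the prime divisors of the order of an element commuting with an involution (helper18). -/

set_option autoImplicit false
set_option linter.unusedSectionVars false
set_option maxRecDepth 1000000

namespace Cfsg.Agent.Lib.Helper18.TF4

open Cfsg Cfsg.Lie Matrix Cfsg.Agent.Lib.Helper7 Cfsg.Agent.Lib.Helper11 Cfsg.Agent.Lib.Helper11.Isog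
open Cfsg.Agent.Lib.Helper11.F4T Cfsg.Agent.Lib.Helper3.BN Cfsg.Agent.Lib.Helper7.F4O

section
variable {G : Type*} [Group G] (P : Cfsg.BNPair G)

theorem dc_zpow {s : G} (hs : s ∈ P.S) (k : ℤ) :
    dc P (s ^ k) = (P.B : Set G) ∨ dc P (s ^ k) = dc P s := by
  have hsq : s ^ (2 : ℤ) ∈ P.B := by
    have : s ^ (2 : ℤ) = s * s := by
      rw [show (2 : ℤ) = 1 + 1 by norm_num, _root_.zpow_add, zpow_one]
    rw [this]; exact P.sq_mem s hs
  have hk : s ^ k = (s ^ (2 : ℤ)) ^ (k / 2) * s ^ (k % 2) := by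
    rw [← _root_.zpow_mul, ← _root_.zpow_add]
    congr 1
    exact (Int.mul_ediv_add_emod k 2).symm
  have hb : (s ^ (2 : ℤ)) ^ (k / 2) ∈ P.B := Subgroup.zpow_mem _ hsq _
  rcases Int.emod_two_eq_zero_or_one k with h | h
  · left
    rw [hk, h, zpow_zero, mul_one]
    exact dc_of_mem_B P hb
  · right
    rw [hk, h, zpow_one]
    exact dc_eq_of_mul_left P hb

theorem coe_parabolic_singleton {s : G} (hs : s ∈ P.S) :
    (P.parabolic {s} : Set G) = (P.B : Set G) ∪ dc P s := by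
  have hJ : ({s} : Set G) ⊆ P.S := Set.singleton_subset_iff.mpr hs
  ext g
  rw [SetLike.mem_coe, mem_parabolic_iff P hJ]
  constructor
  · rintro ⟨n, hn, hg⟩
    obtain ⟨k, rfl⟩ := Subgroup.mem_closure_singleton.mp hn
    rcases dc_zpow P hs k with h | h
    · left; rw [h] at hg; exact hg
    · right; rw [h] at hg; exact hg
  · rintro (hg | hg)
    · exact ⟨1, Subgroup.one_mem _, by rw [dc_one]; exact hg⟩
    · exact ⟨s, Subgroup.subset_closure rfl, hg⟩

theorem card_parabolic_singleton [Finite G] {s : G} (hs : s ∈ P.S) :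
    Nat.card (P.parabolic {s}) = Nat.card P.B + Nat.card (dc P s) := by
  have hdisj : Disjoint (P.B : Set G) (dc P s) := by
    rw [Set.disjoint_left]
    intro g hgB hgs
    apply S_not_mem_B P hs
    have h1 := dc_eq_of_mem P hgs
    rw [dc_of_mem_B P hgB] at h1
    exact mem_B_of_dc_eq_B P h1.symm
  have e1 : Nat.card (P.parabolic {s}) = (P.parabolic {s} : Set G).ncard :=
    (Nat.card_coe_set_eq _)
  have e2 : Nat.card P.B = (P.B : Set G).ncard := (Nat.card_coe_set_eq _)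
  have e3 : Nat.card (dc P s) = (dc P s).ncard := (Nat.card_coe_set_eq _)
  rw [e1, e2, e3, coe_parabolic_singleton P hs]
  exact Set.ncard_union_eq hdisj (Set.toFinite _) (Set.toFinite _)

end

theorem chk_zB : Cfsg.Agent.Lib.Helper25.BitWord.bitChkR chevF4
    ([1, 0, 1].flatMap nJL ++ [33, 24] ++ ([1, 0, 1].flatMap nJL).reverse) [45, 39] = true := by
  decide +kernel

theorem chk_zA : Cfsg.Agent.Lib.Helper25.BitWord.bitChkR chevF4
    ([0, 1, 0].flatMap nJL ++ [28, 30] ++ ([0, 1, 0].flatMap nJL).reverse) [47, 44] = true := by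
  decide +kernel

section
variable {F : Type*} [Field F] [Fintype F]
variable {τ : ↥(chevF4.group F) ≃* ↥(chevF4.group F)} {θ : ℕ} (hτ : TauData F τ θ)
include hτ

/-- a checked word identity gives a conjugacy of words under an element `n_w` -/
theorem conj_nW_word (w src rep : List ℕ)
    (h : Cfsg.Agent.Lib.Helper25.BitWord.bitChkR chevF4
      (w.flatMap nJL ++ src ++ (w.flatMap nJL).reverse) rep = true) :
    nW F w * wordGL chevF4 f4_mem F (ones F src) * (nW F w)⁻¹ = wordGL chevF4 f4_mem F (ones F rep) := by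
  have hc : CharP F 2 := charP_of_two F hτ.two
  have key := Cfsg.Agent.Lib.Helper25.ChInv.wordGL_eq_of_bitChkR chevF4 f4_mem F _ _ h
  have e1 := Cfsg.Agent.Lib.Helper25.ChInv.wordGL_ones_reverse chevF4 f4_mem F (w.flatMap nJL)
  have key' : wordGL chevF4 f4_mem F (ones F (w.flatMap nJL ++ src ++ (w.flatMap nJL).reverse)) =
      wordGL chevF4 f4_mem F (ones F rep) := key
  have e1' : wordGL chevF4 f4_mem F (ones F (w.flatMap nJL).reverse) =
      (wordGL chevF4 f4_mem F (ones F (w.flatMap nJL)))⁻¹ := e1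
  rw [ones_append, ones_append, wordGL_append, wordGL_append, e1', ← nW_eq_ones F hτ.two w] at key'
  exact key'

theorem zB_eq : zB F = wordGL chevF4 f4_mem F (ones F [45, 39]) := by
  unfold zB ones wordGL
  simp

theorem zA_eq : zA F = wordGL chevF4 f4_mem F (ones F [47, 44]) := by
  unfold zA ones wordGL
  simp

theorem Cj_zB : Cj τ (pairU θ (1 : F)) (zB F) :=
  ⟨nW F [1, 0, 1], nW_mem_fixTau hτ _, by
    rw [pairU_one_eq hτ, zB_eq hτ]; exact conj_nW_word hτ _ _ _ chk_zB⟩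

theorem Cj_zA : Cj τ (suzU θ (0 : F) 1) (zA F) :=
  ⟨nW F [0, 1, 0], nW_mem_fixTau hτ _, by
    rw [suzU_zero_one_eq hτ, zA_eq hτ]; exact conj_nW_word hτ _ _ _ chk_zA⟩

/-- the order of the rank one parabolic subgroup `B¹ ∪ B¹ n_J B¹` of `²F₄(q)` -/
theorem card_parabolic_f4 (J : Fin 2) :
    Nat.card ((f4BNPair hτ).parabolic {sEl hτ J}) =
      Nat.card Fˣ ^ 2 * Nat.card F ^ 12 * (1 + Nat.card ↥(XJ F J ⊓ fixTau F τ)) := by
  have h1 := card_parabolic_singleton (f4BNPair hτ) (sEl_mem hτ J)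
  have h2 : Nat.card (dc (f4BNPair hτ) (sEl hτ J)) =
      Nat.card (C (f4BNPair hτ) (sb (f4BNPair hτ) (sEl hτ J) (sEl_mem hτ J))) := by
    unfold sb
    rw [C_mk]
  rw [h1, h2, card_C_sb hτ J, card_cell_GL hτ J, card_B_eq' hτ, card_borel_fix' hτ]
  ring

/-- an element of `²F₄(q)` of the form `b n_w u` with `w = []` or `w = [J]` lies in the rank one parabolic
subgroup -/
theorem mem_parabolic_f4 (J : Fin 2) (g : ↥(twistedF4 F θ)) (w : List ℕ) (hw : w = [] ∨ w = [J.val])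
    (b : GL chevF4.Idx F) (hb : b ∈ chevF4.borelSubgroup F ⊓ fixTau F τ)
    (u : GL chevF4.Idx F) (hu : u ∈ chevF4.posUnipotent F ⊓ fixTau F τ)
    (hg : (g : GL chevF4.Idx F) = b * nW F w * u) :
    g ∈ (f4BNPair hτ).parabolic {sEl hτ J} := by
  have hfix := fixTau_eq hτ
  have hbG : b ∈ twistedF4 F θ := by rw [← hfix]; exact (Subgroup.mem_inf.mp hb).2
  have huG : u ∈ twistedF4 F θ := by rw [← hfix]; exact (Subgroup.mem_inf.mp hu).2
  have hbB : (⟨b, hbG⟩ : ↥(twistedF4 F θ)) ∈ (f4BNPair hτ).B :=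
    (mem_B_iff hτ _).mpr (Subgroup.mem_inf.mp hb).1
  have huB : (⟨u, huG⟩ : ↥(twistedF4 F θ)) ∈ (f4BNPair hτ).B :=
    (mem_B_iff hτ _).mpr (posUnipotent_le_borel chevF4 f4_mem F (Subgroup.mem_inf.mp hu).1)
  have hB : (f4BNPair hτ).B ≤ (f4BNPair hτ).parabolic {sEl hτ J} := le_sup_left
  have hS : sEl hτ J ∈ (f4BNPair hτ).parabolic {sEl hτ J} :=
    (le_sup_right : Subgroup.closure {sEl hτ J} ≤ _) (Subgroup.subset_closure rfl)
  rcases hw with rfl | rfl
  · have e : g = ⟨b, hbG⟩ * ⟨u, huG⟩ := by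
      apply Subtype.ext
      rw [hg, nW_nil, mul_one]
      rfl
    rw [e]
    exact Subgroup.mul_mem _ (hB hbB) (hB huB)
  · have e : g = ⟨b, hbG⟩ * sEl hτ J * ⟨u, huG⟩ := by
      apply Subtype.ext
      rw [hg, nW_cons, nW_nil, mul_one]
      rfl
    rw [e]
    exact Subgroup.mul_mem _ (Subgroup.mul_mem _ (hB hbB) hS) (hB huB)

/-- the order of an element of `²F₄(q)` commuting with an involution divides the order of one of the two
rank one parabolic subgroups -/
theorem orderOf_dvd_of_commute_invol (a g : ↥(twistedF4 F θ)) (ha : orderOf a = 2) (hag : Commute a g) :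
    orderOf g ∣ Nat.card Fˣ ^ 2 * Nat.card F ^ 12 * (1 + Nat.card F) ∨
    orderOf g ∣ Nat.card Fˣ ^ 2 * Nat.card F ^ 12 * (1 + Nat.card F ^ 2) := by
  have hfix := fixTau_eq hτ
  obtain ⟨-, -, -, h4⟩ := invol_data hτ
  -- reduce to an element commuting with one of the two dominant representatives
  have main : ∀ (J : Fin 2) (z : GL chevF4.Idx F) (hz : z ∈ twistedF4 F θ),
      IsConj a ⟨z, hz⟩ →
      (∀ x : GL chevF4.Idx F, x ∈ fixTau F τ → x * z = z * x →
        ∃ w, (w = [] ∨ w = [J.val]) ∧ ∃ b ∈ chevF4.borelSubgroup F ⊓ fixTau F τ,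
          ∃ u ∈ chevF4.posUnipotent F ⊓ fixTau F τ, x = b * nW F w * u) →
      orderOf g ∣ Nat.card ((f4BNPair hτ).parabolic {sEl hτ J}) := by
    intro J z hz hconj hcent
    obtain ⟨c, hc⟩ := isConj_iff.mp hconj
    -- `c g c⁻¹` commutes with `z`
    have hcomm : (c * g * c⁻¹) * ⟨z, hz⟩ = ⟨z, hz⟩ * (c * g * c⁻¹) := by
      rw [← hc]
      have := hag.eq
      calc c * g * c⁻¹ * (c * a * c⁻¹) = c * (g * a) * c⁻¹ := by group
        _ = c * (a * g) * c⁻¹ := by rw [this]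
        _ = c * a * c⁻¹ * (c * g * c⁻¹) := by group
    have hcomm' : ((c * g * c⁻¹ : ↥(twistedF4 F θ)) : GL chevF4.Idx F) * z =
        z * ((c * g * c⁻¹ : ↥(twistedF4 F θ)) : GL chevF4.Idx F) := congrArg Subtype.val hcomm
    obtain ⟨w, hw, b, hb, u, hu, he⟩ := hcent _ (by rw [hfix]; exact (c * g * c⁻¹).2) hcomm'
    have hmem := mem_parabolic_f4 hτ J (c * g * c⁻¹) w hw b hb u hu he
    have hord : orderOf (c * g * c⁻¹) = orderOf g :=
      (SemiconjBy.orderOf_eq c (show SemiconjBy c g (c * g * c⁻¹) by unfold SemiconjBy; group)).symm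
    rw [← hord]
    have h1 : orderOf (⟨c * g * c⁻¹, hmem⟩ : ↥((f4BNPair hτ).parabolic {sEl hτ J})) =
        orderOf (c * g * c⁻¹) := Subgroup.orderOf_mk _ _
    rw [← h1]
    exact orderOf_dvd_natCard _
  rcases h4 a ha with hP | hS
  · left
    -- pair type
    obtain ⟨d, hd, hde⟩ := Cj_zB hτ
    have hdG : d ∈ twistedF4 F θ := by rw [← hfix]; exact hd
    have hzG : zB F ∈ twistedF4 F θ := by
      rw [← hde]
      exact Subgroup.mul_mem _ (Subgroup.mul_mem _ hdG (pairU_mem_twistedF4 θ 1)) (Subgroup.inv_mem _ hdG)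
    have hconj : IsConj a ⟨zB F, hzG⟩ := by
      refine hP.trans (isConj_iff.mpr ⟨⟨d, hdG⟩, ?_⟩)
      exact Subtype.ext hde
    have := main 0 (zB F) hzG hconj (fun x hx hxz => cent_zB hτ x hx hxz)
    have e : Nat.card ↥(XJ F ((0 : Fin 2) : ℕ) ⊓ fixTau F τ) = Nat.card F := card_XJ_zero_inf_fixTau hτ
    rw [card_parabolic_f4 hτ 0, e] at this
    exact this
  · right
    obtain ⟨d, hd, hde⟩ := Cj_zA hτ
    have hdG : d ∈ twistedF4 F θ := by rw [← hfix]; exact hd
    have hzG : zA F ∈ twistedF4 F θ := by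
      rw [← hde]
      exact Subgroup.mul_mem _ (Subgroup.mul_mem _ hdG (suzU_mem_twistedF4 θ 0 1)) (Subgroup.inv_mem _ hdG)
    have hconj : IsConj a ⟨zA F, hzG⟩ := by
      refine hS.trans (isConj_iff.mpr ⟨⟨d, hdG⟩, ?_⟩)
      exact Subtype.ext hde
    have := main 1 (zA F) hzG hconj (fun x hx hxz => cent_zA hτ x hx hxz)
    have e : Nat.card ↥(XJ F ((1 : Fin 2) : ℕ) ⊓ fixTau F τ) = Nat.card F ^ 2 := card_XJ_one_inf_fixTau hτ
    rw [card_parabolic_f4 hτ 1, e] at this
    exact this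

end

end Cfsg.Agent.Lib.Helper18.TF4
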