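import Cfsg.Agent.Lib.Helper18.TF4K

/-! `²F₄(q)`: the prime divisors of the order of an element commuting with an involution divide
`q (q⁴ - 1)` (helper18). -/

set_option autoImplicit false
set_option linter.unusedSectionVars false

namespace Cfsg.Agent.Lib.Helper18.TF4

open Cfsg Cfsg.Lie Matrix Cfsg.Agent.Lib.Helper7 Cfsg.Agent.Lib.Helper11 Cfsg.Agent.Lib.Helper11.Isog
open Cfsg.Agent.Lib.Helper11.F4T

/-- the arithmetic: the primes dividing the orders of the two rank one parabolic subgroups divide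
`q (q⁴ - 1)` -/
theorem primeFactors_parabolic (q n : ℕ) (hq : 2 ≤ q)
    (h : n ∣ (q - 1) ^ 2 * q ^ 12 * (1 + q) ∨ n ∣ (q - 1) ^ 2 * q ^ 12 * (1 + q ^ 2)) :
    n.primeFactors ⊆ (q * (q ^ 4 - 1)).primeFactors := by
  obtain ⟨r, rfl⟩ : ∃ r, q = r + 2 := ⟨q - 2, by omega⟩
  have hfac : (r + 2) ^ 4 - 1 = (r + 2 - 1) * ((1 + (r + 2)) * (1 + (r + 2) ^ 2)) := by
    have h1 : r + 2 - 1 = r + 1 := by omega
    rw [h1]
    have h2 : (r + 2) ^ 4 = (r + 1) * ((1 + (r + 2)) * (1 + (r + 2) ^ 2)) + 1 := by ring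
    rw [h2]
    omega
  have hne : (r + 2) * ((r + 2) ^ 4 - 1) ≠ 0 := by
    rw [hfac]
    have h1 : r + 2 - 1 = r + 1 := by omega
    rw [h1]
    positivity
  intro p hp
  rw [Nat.mem_primeFactors] at hp ⊢
  obtain ⟨hpp, hpn, -⟩ := hp
  refine ⟨hpp, ?_, hne⟩
  rw [hfac]
  rcases h with h | h
  · have h1 := dvd_trans hpn h
    rcases (Nat.Prime.dvd_mul hpp).mp h1 with h2 | h2
    · rcases (Nat.Prime.dvd_mul hpp).mp h2 with h3 | h3
      · have := hpp.dvd_of_dvd_pow h3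
        exact Dvd.dvd.mul_left (Dvd.dvd.mul_right this _) _
      · have := hpp.dvd_of_dvd_pow h3
        exact Dvd.dvd.mul_right this _
    · exact Dvd.dvd.mul_left (Dvd.dvd.mul_left (Dvd.dvd.mul_right h2 _) _) _
  · have h1 := dvd_trans hpn h
    rcases (Nat.Prime.dvd_mul hpp).mp h1 with h2 | h2
    · rcases (Nat.Prime.dvd_mul hpp).mp h2 with h3 | h3
      · have := hpp.dvd_of_dvd_pow h3
        exact Dvd.dvd.mul_left (Dvd.dvd.mul_right this _) _
      · have := hpp.dvd_of_dvd_pow h3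
        exact Dvd.dvd.mul_right this _
    · exact Dvd.dvd.mul_left (Dvd.dvd.mul_left (Dvd.dvd.mul_left h2 _) _) _

/-- in `²F₄(q)`, `q = 2^(2m+1)`, every prime divisor of the order of an element commuting with an involution
divides `q (q⁴ - 1)` -/
theorem twistedF4_commute_invol_primeFactors {K : Type*} [Field K] [Fintype K] (m : ℕ)
    (hK : Fintype.card K = 2 ^ (2 * m + 1))
    (a b : ↥(twistedF4 K (2 ^ m))) (ha : orderOf a = 2) (hab : Commute a b) :
    (orderOf b).primeFactors ⊆ (2 ^ (2 * m + 1) * ((2 ^ (2 * m + 1)) ^ 4 - 1)).primeFactors := by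
  obtain ⟨τ, hτ⟩ := exists_tauData hK
  have h := orderOf_dvd_of_commute_invol hτ a b ha hab
  have hc : Nat.card K = 2 ^ (2 * m + 1) := by rw [Nat.card_eq_fintype_card, hK]
  have hu : Nat.card Kˣ = 2 ^ (2 * m + 1) - 1 := by
    rw [Nat.card_units, hc]
  rw [hc, hu] at h
  have hq : 2 ≤ 2 ^ (2 * m + 1) := by
    calc 2 = 2 ^ 1 := (pow_one 2).symm
      _ ≤ 2 ^ (2 * m + 1) := Nat.pow_le_pow_right (by norm_num) (by omega)
  exact primeFactors_parabolic _ _ hq h

end Cfsg.Agent.Lib.Helper18.TF4
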