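import Mathlib
import Cfsg.Agent.S0054
import Cfsg.Agent.Lib.Helper18.TM4A

/-!
# Doubly transitive groups of degree `≡ 2 (mod 4)` (helper18): the minimal normal subgroup

A doubly transitive group of degree `n ≡ 2 (mod 4)`, `n > 2`, has a unique minimal normal
subgroup, and its centralizer is trivial.
-/

set_option autoImplicit false

namespace Cfsg.Agent.Lib.Helper18.TwoMod4

open MulAction

variable {G : Type*} [Group G] [Finite G] {Ω : Type*} [Fintype Ω] [MulAction G Ω]
  [FaithfulSMul G Ω]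

/-- a non-trivial normal subgroup of a doubly transitive group is transitive. -/
theorem trans_of_normal (h2 : IsMultiplyPretransitive G Ω 2) (N : Subgroup G) [N.Normal]
    (hN : N ≠ ⊥) (a b : Ω) : ∃ g ∈ N, g • a = b := by
  by_cases hab : a = b
  · exact ⟨1, N.one_mem, by rw [one_smul, hab]⟩
  obtain ⟨⟨x, hxN⟩, hx1⟩ := (Subgroup.ne_bot_iff_exists_ne_one.mp hN)
  have hx1' : x ≠ 1 := fun h => hx1 (Subtype.ext h)
  have : ∃ c : Ω, x • c ≠ c := by
    by_contra hall
    push Not at hall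
    apply hx1'
    apply FaithfulSMul.eq_of_smul_eq_smul (α := Ω)
    intro c
    rw [hall c, one_smul]
  obtain ⟨c, hc⟩ := this
  obtain ⟨g, hg1, hg2⟩ := (is_two_pretransitive_iff.mp h2) (Ne.symm hc) hab
  refine ⟨g * x * g⁻¹, ‹N.Normal›.conj_mem x hxN g, ?_⟩
  rw [mul_smul, mul_smul, ← hg1, inv_smul_smul, hg2]

/-- an element centralizing a transitive subgroup and fixing a point is trivial. -/
theorem eq_one_of_centralizes (N : Subgroup G) (htr : ∀ a b : Ω, ∃ g ∈ N, g • a = b)
    {c : G} (hc : ∀ g ∈ N, g * c = c * g) {a : Ω} (hca : c • a = a) : c = 1 := by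
  apply FaithfulSMul.eq_of_smul_eq_smul (α := Ω)
  intro b
  obtain ⟨g, hg, rfl⟩ := htr a b
  rw [one_smul, ← mul_smul, ← hc g hg, mul_smul, hca]


/-- a regular normal subgroup of a doubly transitive group of degree `≡ 2 (mod 4)` forces
degree two. -/
theorem card_eq_two_of_regular (h2 : IsMultiplyPretransitive G Ω 2)
    (hn : Fintype.card Ω % 4 = 2) (N : Subgroup G) [N.Normal]
    (htr : ∀ a b : Ω, ∃ g ∈ N, g • a = b)
    (hfree : ∀ g ∈ N, ∀ a : Ω, g • a = a → g = 1) : Fintype.card Ω = 2 := by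
  have hne : Nonempty Ω := by
    rw [← Fintype.card_pos_iff]; omega
  have htr' : IsPretransitive ↥N Ω :=
    ⟨fun a b => by obtain ⟨g, hg, h⟩ := htr a b; exact ⟨⟨g, hg⟩, h⟩⟩
  have hst : ∀ x : Ω, stabilizer ↥N x = ⊥ := by
    intro x
    rw [Subgroup.eq_bot_iff_forall]
    intro g hg
    exact Subtype.ext (hfree g g.2 x hg)
  obtain ⟨_, p, hp, hexp⟩ := Cfsg.Agent.S0054.result h2 N htr' hst
  obtain ⟨a⟩ := hne
  have hcard : Nat.card N = Fintype.card Ω := by
    have := MulAction.index_stabilizer_of_transitive (G := ↥N) (x := a)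
    rw [hst a, Subgroup.index_bot] at this
    rw [this, Nat.card_eq_fintype_card]
  have : Fact p.Prime := ⟨hp⟩
  have hpg : IsPGroup p ↥N := by
    intro g
    refine ⟨1, ?_⟩
    rw [pow_one]
    exact Subtype.ext (hexp g g.2)
  obtain ⟨k, hk⟩ := IsPGroup.iff_card.mp hpg
  rw [hcard] at hk
  rcases hp.eq_two_or_odd with rfl | hodd
  · rcases k with _ | _ | k
    · rw [hk] at hn; norm_num at hn
    · rw [hk]; norm_num
    · rw [hk, pow_succ, pow_succ] at hn
      omega
  · exfalso
    have : (p ^ k) % 2 = 1 := by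
      rw [Nat.pow_mod, hodd, one_pow]; rfl
    rw [hk] at hn
    omega


/-- **The minimal normal subgroup.** -/
theorem exists_min_normal (h2 : IsMultiplyPretransitive G Ω 2)
    (hn : Fintype.card Ω % 4 = 2) (hn2 : 2 < Fintype.card Ω) :
    ∃ M : Subgroup G, M.Normal ∧ M ≠ ⊥ ∧ (∀ N : Subgroup G, N.Normal → N ≠ ⊥ → M ≤ N) ∧
      Subgroup.centralizer (M : Set G) = ⊥ := by
  classical
  -- G is non-trivial
  have hGnt : (⊤ : Subgroup G) ≠ ⊥ := by
    intro h
    have h1 : 1 < Fintype.card Ω := by omega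
    obtain ⟨a, b, hab⟩ := Fintype.exists_pair_of_one_lt_card h1
    obtain ⟨g, hg1, hg2⟩ := (is_two_pretransitive_iff.mp h2) hab (Ne.symm hab)
    have hg : g ∈ (⊤ : Subgroup G) := Subgroup.mem_top g
    rw [h, Subgroup.mem_bot] at hg
    rw [hg, one_smul] at hg1
    exact hab hg1
  -- a normal subgroup of minimal order
  have hex : ∃ k, ∃ N : Subgroup G, N.Normal ∧ N ≠ ⊥ ∧ Nat.card N = k :=
    ⟨_, ⊤, inferInstance, hGnt, rfl⟩
  obtain ⟨M, hMn, hM1, hMk⟩ := Nat.find_spec hex
  have hmin : ∀ N : Subgroup G, N.Normal → N ≠ ⊥ → Nat.card M ≤ Nat.card N := by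
    intro N hNn hN1
    rw [hMk]
    exact Nat.find_min' hex ⟨N, hNn, hN1, rfl⟩
  have hMtr := trans_of_normal h2 M hM1
  have hreg : ∀ N : Subgroup G, N.Normal → N ≠ ⊥ → (∀ g ∈ N, ∀ m ∈ M, m * g = g * m) →
      False := by
    intro N hNn hN1 hcomm
    have hNtr := trans_of_normal h2 N hN1
    have hfree : ∀ g ∈ N, ∀ a : Ω, g • a = a → g = 1 := by
      intro g hg a hga
      exact eq_one_of_centralizes M hMtr (fun m hm => hcomm g hg m hm) hga
    have := card_eq_two_of_regular h2 hn N hNtr hfree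
    omega
  refine ⟨M, hMn, hM1, ?_, ?_⟩
  · intro N hNn hN1
    by_cases hdis : M ⊓ N = ⊥
    · exfalso
      apply hreg N hNn hN1
      intro g hg m hm
      exact (Subgroup.commute_of_normal_of_disjoint M N hMn hNn (disjoint_iff.mpr hdis) m g hm
        hg).eq
    · have hnorm : (M ⊓ N).Normal := inferInstance
      have h1 := hmin (M ⊓ N) hnorm hdis
      have h2' : M ⊓ N = M := Subgroup.eq_of_le_of_card_ge inf_le_left h1
      rw [← h2']
      exact inf_le_right
  · by_contra hC
    have hCn : (Subgroup.centralizer (M : Set G)).Normal := inferInstance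
    apply hreg _ hCn hC
    intro g hg m hm
    exact (Subgroup.mem_centralizer_iff.mp hg m hm)

end Cfsg.Agent.Lib.Helper18.TwoMod4
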