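import Mathlib
import Cfsg.Agent.Lib.Helper18.TM4B

/-!
# Doubly transitive groups of degree `≡ 2 (mod 4)` (helper18): a collapsing lemma

If a transitive permutation group `X₁` on a set `Φ` of even size has order not divisible by `4`
and is normalized by a doubly transitive set of permutations, then `Φ` has exactly two points.
-/

set_option autoImplicit false

namespace Cfsg.Agent.Lib.Helper18.TwoMod4

open MulAction Equiv

variable {Φ : Type*} [Fintype Φ] [DecidableEq Φ]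

theorem card_eq_two_of_collapse (X₁ : Subgroup (Perm Φ))
    (htr : ∀ γ δ : Φ, ∃ x ∈ X₁, x γ = δ)
    (h2 : ∀ γ γ' δ δ' : Φ, γ ≠ γ' → δ ≠ δ' →
      ∃ g : Perm Φ, (∀ x ∈ X₁, g * x * g⁻¹ ∈ X₁) ∧ g γ = δ ∧ g γ' = δ')
    (h4 : ¬ 4 ∣ Nat.card X₁) (heven : Even (Fintype.card Φ)) (hne : Nonempty Φ) :
    Fintype.card Φ = 2 := by
  obtain ⟨a⟩ := hne
  have htr' : IsPretransitive ↥X₁ Φ :=
    ⟨fun γ δ => by obtain ⟨x, hx, h⟩ := htr γ δ; exact ⟨⟨x, hx⟩, h⟩⟩
  -- the degree divides the order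
  have hdvd : Fintype.card Φ ∣ Nat.card X₁ := by
    have h1 := MulAction.index_stabilizer_of_transitive (G := ↥X₁) (x := a)
    rw [Nat.card_eq_fintype_card] at h1
    rw [← h1]
    exact Subgroup.index_dvd_card _
  obtain ⟨k, hk⟩ : ∃ k, Nat.card X₁ = 2 * k := by
    obtain ⟨j, hj⟩ := heven
    obtain ⟨i, hi⟩ := hdvd
    exact ⟨j * i, by rw [hi, hj]; ring⟩
  have hkodd : Odd k := by
    rw [← Nat.not_even_iff_odd]
    rintro ⟨j, hj⟩
    apply h4
    exact ⟨j, by rw [hk, hj]; ring⟩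
  obtain ⟨Y, hYn, hYidx, hYcard, hYmem⟩ := exists_odd_index_two hkodd hk
  -- Y is trivial
  have hYbot : Y = ⊥ := by
    by_contra hne
    obtain ⟨⟨⟨y, hyX⟩, hyY⟩, hy1⟩ := Subgroup.ne_bot_iff_exists_ne_one.mp hne
    have hy1' : y ≠ 1 := fun h => hy1 (Subtype.ext (Subtype.ext h))
    obtain ⟨c, hc⟩ : ∃ c : Φ, y c ≠ c := by
      by_contra hall
      push Not at hall
      exact hy1' (Equiv.Perm.ext hall)
    -- Y is transitive
    have hYtr : ∀ δ δ' : Φ, δ ≠ δ' → ∃ z : ↥X₁, z ∈ Y ∧ (z : Perm Φ) δ = δ' := by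
      intro δ δ' hδ
      obtain ⟨g, hgX, hg1, hg2⟩ := h2 c (y c) δ δ' (Ne.symm hc) hδ
      refine ⟨⟨g * y * g⁻¹, hgX y hyX⟩, ?_, ?_⟩
      · rw [hYmem]
        have h1 : orderOf (⟨g * y * g⁻¹, hgX y hyX⟩ : ↥X₁) = orderOf (⟨y, hyX⟩ : ↥X₁) := by
          rw [← Subgroup.orderOf_coe, ← Subgroup.orderOf_coe]
          show orderOf (g * y * g⁻¹) = orderOf y
          have := orderOf_injective (MulAut.conj g).toMonoidHom (MulAut.conj g).injective y
          simpa [MulAut.conj_apply] using this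
        rw [h1, ← hYmem]
        exact hyY
      · show (g * y * g⁻¹) δ = δ'
        rw [Perm.mul_apply, Perm.mul_apply, ← hg1]
        simp [hg2]
    have htrY : IsPretransitive ↥Y Φ := by
      refine ⟨fun δ δ' => ?_⟩
      by_cases hδ : δ = δ'
      · exact ⟨1, by rw [one_smul, hδ]⟩
      · obtain ⟨z, hz, h⟩ := hYtr δ δ' hδ
        exact ⟨⟨z, hz⟩, h⟩
    have h1 := MulAction.index_stabilizer_of_transitive (G := ↥Y) (x := a)
    rw [Nat.card_eq_fintype_card] at h1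
    have h3 : Fintype.card Φ ∣ Nat.card Y := by
      rw [← h1]; exact Subgroup.index_dvd_card _
    rw [hYcard] at h3
    have := hkodd.of_dvd_nat h3
    exact (Nat.not_even_iff_odd.mpr this) heven
  have hk1 : k = 1 := by
    rw [← hYcard, hYbot, Subgroup.card_bot]
  rw [hk1] at hk
  have hle : Fintype.card Φ ≤ 2 := Nat.le_of_dvd (by norm_num) (by rw [hk] at hdvd; exact hdvd)
  have hpos : 0 < Fintype.card Φ := Fintype.card_pos_iff.mpr ⟨a⟩
  obtain ⟨j, hj⟩ := heven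
  omega

end Cfsg.Agent.Lib.Helper18.TwoMod4
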