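import Mathlib
import Cfsg.Agent.Lib.Helper18.TM4C

/-!
# Doubly transitive groups of degree `≡ 2 (mod 4)` (helper18): transitive normal subgroups

A transitive normal subgroup `M` of a doubly transitive group of degree `n ≡ 2 (mod 4)` is
doubly transitive.  Proof: for `Q` a Sylow `2`-subgroup of `M_a`, the normalizer of `Q` is doubly
transitive on `Fix(Q)`, the image of `N_M(Q)` there has order `2 * odd`, hence `|Fix(Q)| = 2`;
but `Q` fixes a point in every `M_a`-orbit.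
-/

set_option autoImplicit false

namespace Cfsg.Agent.Lib.Helper18.TwoMod4

open MulAction

variable {G : Type*} [Group G] [Finite G] {Ω : Type*} [Fintype Ω] [MulAction G Ω]
  [FaithfulSMul G Ω]

/-- conjugate subgroups have the same order -/
theorem card_eq_of_conj (H K : Subgroup G) (g : G) (h : ∀ x, x ∈ H ↔ g * x * g⁻¹ ∈ K) :
    Nat.card H = Nat.card K := by
  apply Nat.card_congr
  refine ⟨fun x => ⟨g * x * g⁻¹, (h x).mp x.2⟩, fun y => ⟨g⁻¹ * y * g, (h _).mpr ?_⟩, ?_, ?_⟩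
  · have : g * (g⁻¹ * (y : G) * g) * g⁻¹ = y := by group
    rw [this]; exact y.2
  · intro x
    apply Subtype.ext
    show g⁻¹ * (g * (x : G) * g⁻¹) * g = x
    group
  · intro y
    apply Subtype.ext
    show g * (g⁻¹ * (y : G) * g) * g⁻¹ = y
    group

/-- conjugating a Sylow subgroup back: if `Q ≤ L` has the order of a Sylow `2`-subgroup of `L` and
`g Q g⁻¹ ≤ L`, then `h g` normalizes `Q` for some `h ∈ L`. -/
theorem conj_fix (L Q : Subgroup G) (g : G) (hQL : Q ≤ L) (hgQ : ∀ q ∈ Q, g * q * g⁻¹ ∈ L)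
    (hcard : Nat.card Q = 2 ^ (Nat.card L).factorization 2) :
    ∃ h ∈ L, ∀ y, y ∈ Q ↔ (h * g) * y * (h * g)⁻¹ ∈ Q := by
  have : Fact (Nat.Prime 2) := ⟨Nat.prime_two⟩
  set R : Subgroup G := Q.map (MulAut.conj g).toMonoidHom with hR
  have hRmem : ∀ y, g * y * g⁻¹ ∈ R ↔ y ∈ Q := by
    intro y
    constructor
    · rintro ⟨z, hz, hzy⟩
      have : z = y := by
        have h1 : g * z * g⁻¹ = g * y * g⁻¹ := hzy
        have h2 : z = g⁻¹ * (g * z * g⁻¹) * g := by group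
        rw [h2, h1]; group
      rwa [← this]
    · intro hy
      exact ⟨y, hy, rfl⟩
  have hRL : R ≤ L := by
    rintro _ ⟨z, hz, rfl⟩
    exact hgQ z hz
  have hRcard : Nat.card R = 2 ^ (Nat.card L).factorization 2 := by
    rw [← hcard]
    exact Subgroup.card_map_of_injective (MulAut.conj g).injective
  obtain ⟨h, hhL, hh⟩ := sylow_conj 2 L Q R hQL hRL hcard hRcard
  refine ⟨h, hhL, fun y => ?_⟩
  rw [hh ((h * g) * y * (h * g)⁻¹)]
  have : h⁻¹ * ((h * g) * y * (h * g)⁻¹) * h = g * y * g⁻¹ := by group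
  rw [this, hRmem]

/-- the fixed points of `Q` as a sub-action of the normalizer of `Q` -/
def fixSub (Q : Subgroup G) (Ω : Type*) [MulAction G Ω] :
    SubMulAction ↥(Subgroup.normalizer (Q : Set G)) Ω where
  carrier := {γ | ∀ q ∈ Q, q • γ = γ}
  smul_mem' := by
    intro h γ hγ q hq
    have hmem : (h : G)⁻¹ * q * h ∈ Q := (Subgroup.mem_normalizer_iff''.mp h.2 q).mp hq
    have h1 := hγ _ hmem
    rw [Subgroup.smul_def, ← mul_smul]
    calc (q * (h : G)) • γ = ((h : G) * ((h : G)⁻¹ * q * h)) • γ := by congr 1; group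
      _ = (h : G) • γ := by rw [mul_smul, h1]

theorem mem_fixSub {Q : Subgroup G} {γ : Ω} : γ ∈ fixSub Q Ω ↔ ∀ q ∈ Q, q • γ = γ := Iff.rfl


/-- stabilizers of a normal subgroup at conjugate points have the same order -/
theorem card_inf_stab_smul (L : Subgroup G) (g : G) (hg : ∀ x, x ∈ L ↔ g * x * g⁻¹ ∈ L)
    (a : Ω) : Nat.card ↥(L ⊓ stabilizer G a) = Nat.card ↥(L ⊓ stabilizer G (g • a)) := by
  apply card_eq_of_conj _ _ g
  intro x
  rw [Subgroup.mem_inf, Subgroup.mem_inf, mem_stabilizer_iff, mem_stabilizer_iff, ← hg x]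
  have : (g * x * g⁻¹) • g • a = g • x • a := by
    rw [← mul_smul, ← mul_smul]; congr 1; group
  rw [this, smul_left_cancel_iff]

/-- orbit-stabilizer for a transitive subgroup -/
theorem card_eq_mul_stab (M : Subgroup G) (hMtr : ∀ a b : Ω, ∃ m ∈ M, m • a = b) (a : Ω) :
    Nat.card M = Fintype.card Ω * Nat.card ↥(M ⊓ stabilizer G a) := by
  have htr' : IsPretransitive ↥M Ω :=
    ⟨fun x y => by obtain ⟨m, hm, h⟩ := hMtr x y; exact ⟨⟨m, hm⟩, h⟩⟩
  have h1 := MulAction.index_stabilizer_of_transitive (G := ↥M) (x := a)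
  rw [Nat.card_eq_fintype_card] at h1
  have h2 := (stabilizer ↥M a).index_mul_card
  rw [h1] at h2
  rw [← h2]
  congr 1
  apply Nat.card_congr
  refine ⟨fun x => ⟨(x : ↥M), ⟨(x : ↥M).2, x.2⟩⟩, fun y => ⟨⟨y, y.2.1⟩, y.2.2⟩, ?_, ?_⟩
  · intro x; rfl
  · intro y; rfl


theorem factorization_two_of_mod_four {n : ℕ} (h : n % 4 = 2) : n.factorization 2 = 1 := by
  have hn : n = 2 * (n / 2) := by omega
  have hodd : ¬ 2 ∣ n / 2 := by omega
  rw [hn, Nat.factorization_mul (by norm_num) (by omega), Finsupp.add_apply,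
    Nat.Prime.factorization_self Nat.prime_two, Nat.factorization_eq_zero_of_not_dvd hodd]

theorem eq_of_card_two {Φ : Type*} [Fintype Φ] (h : Fintype.card Φ = 2) {x y z : Φ}
    (hx : x ≠ z) (hy : y ≠ z) : x = y := by
  classical
  by_contra hxy
  have h3 : ({x, y, z} : Finset Φ).card = 3 := by
    rw [Finset.card_insert_of_notMem, Finset.card_insert_of_notMem, Finset.card_singleton]
    · simpa using hy
    · simp only [Finset.mem_insert, Finset.mem_singleton, not_or]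
      exact ⟨hxy, hx⟩
  have := Finset.card_le_univ ({x, y, z} : Finset Φ)
  omega

/-- **The point stabilizer of a transitive normal subgroup is transitive on the other points.** -/
theorem stab_trans_of_normal (h2 : IsMultiplyPretransitive G Ω 2)
    (hn : Fintype.card Ω % 4 = 2) (M : Subgroup G) [hMn : M.Normal]
    (hMtr : ∀ a b : Ω, ∃ m ∈ M, m • a = b) (a b c : Ω) (hb : b ≠ a) (hc : c ≠ a) :
    ∃ m ∈ M, m • a = a ∧ m • b = c := by
  classical
  have : Fact (Nat.Prime 2) := ⟨Nat.prime_two⟩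
  have h2' : ∀ {x y z w : Ω}, x ≠ y → z ≠ w → ∃ g : G, g • x = z ∧ g • y = w :=
    fun hxy hzw => (is_two_pretransitive_iff.mp h2) hxy hzw
  set e := (Nat.card ↥(M ⊓ stabilizer G a)).factorization 2 with he
  have hMconj : ∀ g x, x ∈ M ↔ g * x * g⁻¹ ∈ M := by
    intro g x
    constructor
    · exact fun hx => hMn.conj_mem x hx g
    · intro hx
      have := hMn.conj_mem _ hx g⁻¹
      have e1 : g⁻¹ * (g * x * g⁻¹) * g⁻¹⁻¹ = x := by group
      rwa [e1] at this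
  -- the Sylow subgroup
  obtain ⟨Q, -, hQL, hQp, hQcard⟩ :=
    sylow_ge 2 (M ⊓ stabilizer G a) ⊥ bot_le IsPGroup.of_bot
  rw [← he] at hQcard
  have hQM : Q ≤ M := hQL.trans inf_le_left
  have hQa : ∀ q ∈ Q, q • a = a := fun q hq => (hQL hq).2
  -- 2-parts of the orders of stabilizers
  have hv1 : ∀ γ : Ω, (Nat.card ↥(M ⊓ stabilizer G γ)).factorization 2 = e := by
    intro γ
    obtain ⟨m, hm, rfl⟩ := hMtr a γ
    rw [← card_inf_stab_smul M m (hMconj m) a]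
  have hcardpos : Fintype.card Ω ≠ 0 := by omega
  have hvM : (Nat.card M).factorization 2 = e + 1 := by
    rw [card_eq_mul_stab M hMtr a, Nat.factorization_mul hcardpos Nat.card_pos.ne',
      Finsupp.add_apply, ← he, factorization_two_of_mod_four hn]
    omega
  -- the fixed points of Q
  have hmod := hQp.card_modEq_card_fixedPoints Ω
  have hcardΦ : Nat.card ↥(fixSub Q Ω) = Nat.card (fixedPoints ↥Q Ω) := by
    apply Nat.card_congr
    refine ⟨fun x => ⟨x.1, fun q => x.2 q q.2⟩, fun y => ⟨y.1, fun q hq => y.2 ⟨q, hq⟩⟩, ?_, ?_⟩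
    · intro x; rfl
    · intro y; rfl
  haveI : Fintype ↥(fixSub Q Ω) := Fintype.ofFinite _
  have hΦeven : Even (Fintype.card ↥(fixSub Q Ω)) := by
    rw [← Nat.card_eq_fintype_card, hcardΦ]
    rw [Nat.card_eq_fintype_card] at hmod
    have h1 : Fintype.card Ω % 2 = 0 := by omega
    have h3 := hmod.symm
    rw [Nat.ModEq, h1] at h3
    exact Nat.even_iff.mpr h3
  have haΦ : a ∈ fixSub Q Ω := hQa
  -- another fixed point
  obtain ⟨b₀, hb₀Φ, hb₀a⟩ : ∃ b₀ : Ω, b₀ ∈ fixSub Q Ω ∧ b₀ ≠ a := by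
    by_contra hall
    push Not at hall
    have hsub : Subsingleton ↥(fixSub Q Ω) :=
      ⟨fun x y => Subtype.ext ((hall x.1 x.2).trans (hall y.1 y.2).symm)⟩
    have h1 : Fintype.card ↥(fixSub Q Ω) = 1 := by
      apply le_antisymm (Fintype.card_le_one_iff_subsingleton.mpr hsub)
      exact Fintype.card_pos_iff.mpr ⟨⟨a, haΦ⟩⟩
    rw [h1] at hΦeven
    exact absurd hΦeven (by decide)
  -- normalizers of the point stabilizer
  have hstabconj : ∀ g : G, g • a = a →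
      ∀ x, x ∈ M ⊓ stabilizer G a ↔ g * x * g⁻¹ ∈ M ⊓ stabilizer G a := by
    intro g hg x
    rw [Subgroup.mem_inf, Subgroup.mem_inf, mem_stabilizer_iff, mem_stabilizer_iff, ← hMconj g x]
    have hg' : g⁻¹ • a = a := by rw [inv_smul_eq_iff, hg]
    rw [mul_smul, mul_smul, hg']
    constructor
    · rintro ⟨h1, h3⟩; exact ⟨h1, by rw [h3, hg]⟩
    · rintro ⟨h1, h3⟩
      refine ⟨h1, ?_⟩
      calc x • a = g⁻¹ • (g • x • a) := by rw [inv_smul_smul]
        _ = a := by rw [h3, hg']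
  have hv2 : ∀ δ : Ω, δ ≠ a →
      (Nat.card ↥(M ⊓ stabilizer G a ⊓ stabilizer G δ)).factorization 2 = e := by
    have hb₀ : (Nat.card ↥(M ⊓ stabilizer G a ⊓ stabilizer G b₀)).factorization 2 = e := by
      apply le_antisymm
      · rw [he]
        exact (Nat.factorization_le_iff_dvd Nat.card_pos.ne' Nat.card_pos.ne').mpr
          (Subgroup.card_dvd_of_le inf_le_left) 2
      · have hle : Q ≤ M ⊓ stabilizer G a ⊓ stabilizer G b₀ :=
          fun q hq => ⟨hQL hq, hb₀Φ q hq⟩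
        have := Subgroup.card_dvd_of_le hle
        rw [hQcard] at this
        exact (Nat.Prime.pow_dvd_iff_le_factorization Nat.prime_two Nat.card_pos.ne').mp this
    intro δ hδ
    obtain ⟨g, hg1, hg2⟩ := h2' (Ne.symm hb₀a) (Ne.symm hδ)
    rw [← hb₀, ← hg2]
    exact congrArg (fun n : ℕ => n.factorization 2)
      (card_inf_stab_smul (M ⊓ stabilizer G a) g (hstabconj g hg1) b₀).symm
  -- (i) the normalizer of Q in M is transitive on the fixed points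
  have hi : ∀ γ : Ω, γ ∈ fixSub Q Ω →
      ∃ x ∈ M ⊓ Subgroup.normalizer (Q : Set G), x • a = γ := by
    intro γ hγ
    obtain ⟨m, hm, hmγ⟩ := hMtr a γ
    have hQL' : Q ≤ M ⊓ stabilizer G γ := fun q hq => ⟨hQM hq, hγ q hq⟩
    have hgQ : ∀ q ∈ Q, m * q * m⁻¹ ∈ M ⊓ stabilizer G γ := by
      intro q hq
      refine Subgroup.mem_inf.mpr ⟨(hMconj m q).mp (hQM hq), mem_stabilizer_iff.mpr ?_⟩
      rw [← hmγ, ← mul_smul, inv_mul_cancel_right, mul_smul, hQa q hq]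
    obtain ⟨h, hhL, hnorm⟩ := conj_fix (M ⊓ stabilizer G γ) Q m hQL' hgQ
      (by rw [hQcard, hv1 γ])
    refine ⟨h * m, ⟨M.mul_mem hhL.1 hm, Subgroup.mem_normalizer_iff.mpr hnorm⟩, ?_⟩
    rw [mul_smul, hmγ]
    exact hhL.2
  -- (ii) the stabilizer of `a` in the normalizer is transitive on the other fixed points
  have hii : ∀ γ δ : Ω, γ ∈ fixSub Q Ω → δ ∈ fixSub Q Ω → γ ≠ a → δ ≠ a →
      ∃ x ∈ Subgroup.normalizer (Q : Set G), x • a = a ∧ x • γ = δ := by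
    intro γ δ hγ hδ hγa hδa
    obtain ⟨g, hg1, hg2⟩ := h2' (Ne.symm hγa) (Ne.symm hδa)
    have hg1' : g⁻¹ • a = a := by rw [inv_smul_eq_iff, hg1]
    have hQL' : Q ≤ M ⊓ stabilizer G a ⊓ stabilizer G δ := fun q hq => ⟨hQL hq, hδ q hq⟩
    have hgQ : ∀ q ∈ Q, g * q * g⁻¹ ∈ M ⊓ stabilizer G a ⊓ stabilizer G δ := by
      intro q hq
      refine Subgroup.mem_inf.mpr ⟨Subgroup.mem_inf.mpr ⟨(hMconj g q).mp (hQM hq),
        mem_stabilizer_iff.mpr ?_⟩, mem_stabilizer_iff.mpr ?_⟩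
      · rw [mul_smul, mul_smul, hg1', hQa q hq, hg1]
      · rw [← hg2, ← mul_smul, inv_mul_cancel_right, mul_smul, hγ q hq]
    obtain ⟨h, hhL, hnorm⟩ := conj_fix (M ⊓ stabilizer G a ⊓ stabilizer G δ) Q g hQL' hgQ
      (by rw [hQcard, hv2 δ hδa])
    refine ⟨h * g, Subgroup.mem_normalizer_iff.mpr hnorm, ?_, ?_⟩
    · rw [mul_smul, hg1]; exact hhL.1.2
    · rw [mul_smul, hg2]; exact hhL.2
  -- the permutation representation on the fixed points
  set H : Subgroup G := Subgroup.normalizer (Q : Set G) with hH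
  let ρ : ↥H →* Equiv.Perm ↥(fixSub Q Ω) := MulAction.toPermHom ↥H ↥(fixSub Q Ω)
  have hρ : ∀ (x : ↥H) (γ : ↥(fixSub Q Ω)), ((ρ x γ : ↥(fixSub Q Ω)) : Ω) = (x : G) • (γ : Ω) :=
    fun x γ => rfl
  let ψ : ↥(M ⊓ H) →* Equiv.Perm ↥(fixSub Q Ω) :=
    ρ.comp (Subgroup.inclusion (inf_le_right : M ⊓ H ≤ H))
  have hψ : ∀ (x : ↥(M ⊓ H)) (γ : ↥(fixSub Q Ω)),
      ((ψ x γ : ↥(fixSub Q Ω)) : Ω) = (x : G) • (γ : Ω) := fun x γ => rfl
  -- transitivity
  have hL1 : ∀ γ δ : ↥(fixSub Q Ω), ∃ x ∈ ψ.range, x γ = δ := by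
    intro γ δ
    obtain ⟨x, hx, hxγ⟩ := hi γ.1 γ.2
    obtain ⟨y, hy, hyδ⟩ := hi δ.1 δ.2
    refine ⟨ψ ⟨y * x⁻¹, (M ⊓ H).mul_mem hy ((M ⊓ H).inv_mem hx)⟩, ⟨_, rfl⟩, ?_⟩
    apply Subtype.ext
    rw [hψ]
    show (y * x⁻¹) • (γ : Ω) = δ
    rw [mul_smul, ← hxγ, inv_smul_smul, hyδ]
  -- double transitivity of the normalizer
  have hL2 : ∀ γ γ' δ δ' : ↥(fixSub Q Ω), γ ≠ γ' → δ ≠ δ' →
      ∃ g : Equiv.Perm ↥(fixSub Q Ω), (∀ x ∈ ψ.range, g * x * g⁻¹ ∈ ψ.range) ∧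
        g γ = δ ∧ g γ' = δ' := by
    intro γ γ' δ δ' hγ hδ
    obtain ⟨x₁, hx₁, hx₁γ⟩ := hi γ.1 γ.2
    obtain ⟨x₂, hx₂, hx₂δ⟩ := hi δ.1 δ.2
    -- the points x₁⁻¹ γ', x₂⁻¹ δ'
    have h1 : x₁⁻¹ • (γ' : Ω) ∈ fixSub Q Ω :=
      (fixSub Q Ω).smul_mem (⟨x₁⁻¹, H.inv_mem hx₁.2⟩ : ↥H) γ'.2
    have h2'' : x₂⁻¹ • (δ' : Ω) ∈ fixSub Q Ω :=
      (fixSub Q Ω).smul_mem (⟨x₂⁻¹, H.inv_mem hx₂.2⟩ : ↥H) δ'.2
    have h3 : x₁⁻¹ • (γ' : Ω) ≠ a := by
      intro h
      apply hγ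
      apply Subtype.ext
      rw [← hx₁γ, ← h, smul_inv_smul]
    have h4 : x₂⁻¹ • (δ' : Ω) ≠ a := by
      intro h
      apply hδ
      apply Subtype.ext
      rw [← hx₂δ, ← h, smul_inv_smul]
    obtain ⟨y, hy, hya, hyγ⟩ := hii _ _ h1 h2'' h3 h4
    have hgH : x₂ * y * x₁⁻¹ ∈ H := H.mul_mem (H.mul_mem hx₂.2 hy) (H.inv_mem hx₁.2)
    refine ⟨ρ ⟨x₂ * y * x₁⁻¹, hgH⟩, ?_, ?_, ?_⟩
    · rintro _ ⟨z, rfl⟩
      have hzM : x₂ * y * x₁⁻¹ * (z : G) * (x₂ * y * x₁⁻¹)⁻¹ ∈ M ⊓ H :=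
        ⟨(hMconj _ _).mp z.2.1, H.mul_mem (H.mul_mem hgH z.2.2) (H.inv_mem hgH)⟩
      refine ⟨⟨_, hzM⟩, ?_⟩
      show ρ _ = ρ _ * ρ _ * (ρ _)⁻¹
      rw [← map_inv, ← map_mul, ← map_mul]
      rfl
    · apply Subtype.ext
      rw [hρ]
      show (x₂ * y * x₁⁻¹) • (γ : Ω) = δ
      rw [mul_smul, mul_smul, ← hx₁γ, inv_smul_smul, hya, hx₂δ]
    · apply Subtype.ext
      rw [hρ]
      show (x₂ * y * x₁⁻¹) • (γ' : Ω) = δ'
      rw [mul_smul, mul_smul, hyγ, smul_inv_smul]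
  -- the order of the image
  have hL4 : ¬ 4 ∣ Nat.card ψ.range := by
    intro h4
    have hker : 2 ^ e ∣ Nat.card ψ.ker := by
      have hQle : Q ≤ M ⊓ H := fun q hq => ⟨hQM hq, Subgroup.le_normalizer hq⟩
      have hle : Q.subgroupOf (M ⊓ H) ≤ ψ.ker := by
        intro q hq
        rw [MonoidHom.mem_ker]
        ext γ
        rw [hψ]
        exact γ.2 _ (Subgroup.mem_subgroupOf.mp hq)
      have := Subgroup.card_dvd_of_le hle
      rwa [Nat.card_congr (Subgroup.subgroupOfEquivOfLe hQle).toEquiv, hQcard] at this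
    have hprod : Nat.card ψ.range * Nat.card ψ.ker = Nat.card ↥(M ⊓ H) := by
      rw [← Subgroup.index_ker]
      exact ψ.ker.index_mul_card
    have hdvd : 2 ^ (e + 2) ∣ Nat.card M := by
      have h5 : 4 * 2 ^ e ∣ Nat.card ↥(M ⊓ H) := by
        rw [← hprod]; exact Nat.mul_dvd_mul h4 hker
      have h6 : Nat.card ↥(M ⊓ H) ∣ Nat.card M := Subgroup.card_dvd_of_le inf_le_left
      have h7 : 2 ^ (e + 2) = 4 * 2 ^ e := by rw [pow_add]; ring
      rw [h7]; exact h5.trans h6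
    have := (Nat.Prime.pow_dvd_iff_le_factorization Nat.prime_two Nat.card_pos.ne').mp hdvd
    omega
  have hcard2 := card_eq_two_of_collapse ψ.range hL1 hL2 hL4 hΦeven ⟨⟨a, haΦ⟩⟩
  -- every point can be moved to a fixed point of Q by the stabilizer of `a` in `M`
  have hmove : ∀ d : Ω, d ≠ a → ∃ h ∈ M ⊓ stabilizer G a, h • d ∈ fixSub Q Ω := by
    intro d hd
    obtain ⟨R₀, -, hR₀L, -, hR₀card⟩ :=
      sylow_ge 2 (M ⊓ stabilizer G a ⊓ stabilizer G d) ⊥ bot_le IsPGroup.of_bot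
    rw [hv2 d hd] at hR₀card
    obtain ⟨h, hhL, hh⟩ := sylow_conj 2 (M ⊓ stabilizer G a) Q R₀ hQL
      (hR₀L.trans inf_le_left) (by rw [hQcard, ← he]) (by rw [hR₀card, ← he])
    refine ⟨h, hhL, fun q hq => ?_⟩
    have h1 : (h⁻¹ * q * h) • d = d := (hR₀L ((hh q).mp hq)).2
    calc q • h • d = (h * (h⁻¹ * q * h)) • d := by rw [← mul_smul]; congr 1; group
      _ = h • d := by rw [mul_smul, h1]
  obtain ⟨hb', hhb, hbΦ⟩ := hmove b hb
  obtain ⟨hc', hhc, hcΦ⟩ := hmove c hc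
  have hba : hb' • b ≠ a := by
    intro h
    apply hb
    rw [← hhb.2] at h
    exact smul_left_cancel hb' h
  have hca : hc' • c ≠ a := by
    intro h
    apply hc
    rw [← hhc.2] at h
    exact smul_left_cancel hc' h
  have heq : (⟨hb' • b, hbΦ⟩ : ↥(fixSub Q Ω)) = ⟨hc' • c, hcΦ⟩ :=
    eq_of_card_two hcard2 (z := ⟨a, haΦ⟩) (fun h => hba (congrArg Subtype.val h))
      (fun h => hca (congrArg Subtype.val h))
  have heq' : hb' • b = hc' • c := congrArg Subtype.val heq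
  refine ⟨hc'⁻¹ * hb', M.mul_mem (M.inv_mem hhc.1) hhb.1, ?_, ?_⟩
  · rw [mul_smul, hhb.2, inv_smul_eq_iff, hhc.2]
  · rw [mul_smul, heq', inv_smul_smul]

end Cfsg.Agent.Lib.Helper18.TwoMod4
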