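import Mathlib
import Cfsg.Agent.Lib.Helper18.TM4D

/-!
# Doubly transitive groups of degree `≡ 2 (mod 4)` (helper18): the main theorem

A doubly transitive group of degree `n ≡ 2 (mod 4)`, `n > 2`, has a unique minimal normal subgroup;
it is simple, doubly transitive and has trivial centralizer.
-/

set_option autoImplicit false

namespace Cfsg.Agent.Lib.Helper18.TwoMod4

open MulAction

variable {G : Type*} [Group G] [Finite G] {Ω : Type*} [Fintype Ω] [MulAction G Ω]
  [FaithfulSMul G Ω]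

/-- a transitive normal subgroup of a doubly transitive group of degree `≡ 2 (mod 4)` is doubly
transitive. -/
theorem two_trans_of_normal (h2 : IsMultiplyPretransitive G Ω 2)
    (hn : Fintype.card Ω % 4 = 2) (M : Subgroup G) [M.Normal]
    (hMtr : ∀ a b : Ω, ∃ m ∈ M, m • a = b) : IsMultiplyPretransitive ↥M Ω 2 := by
  rw [is_two_pretransitive_iff]
  intro a b c d hab hcd
  obtain ⟨m₁, hm₁, h1⟩ := hMtr a c
  have hne : m₁ • b ≠ c := by
    rw [← h1]
    exact fun h => hab (smul_left_cancel m₁ h).symm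
  obtain ⟨m₂, hm₂, h3, h4⟩ := stab_trans_of_normal h2 hn M hMtr c (m₁ • b) d hne (Ne.symm hcd)
  refine ⟨⟨m₂ * m₁, M.mul_mem hm₂ hm₁⟩, ?_, ?_⟩
  · show (m₂ * m₁) • a = c
    rw [mul_smul, h1, h3]
  · show (m₂ * m₁) • b = d
    rw [mul_smul, h4]

/-- **Main theorem.** -/
theorem main (h2 : IsMultiplyPretransitive G Ω 2) (hn : Fintype.card Ω % 4 = 2)
    (hn2 : 2 < Fintype.card Ω) :
    ∃ M : Subgroup G, M.Normal ∧ M ≠ ⊥ ∧ (∀ N : Subgroup G, N.Normal → N ≠ ⊥ → M ≤ N) ∧
      IsSimpleGroup ↥M ∧ IsMultiplyPretransitive ↥M Ω 2 ∧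
      Subgroup.centralizer (M : Set G) = ⊥ := by
  obtain ⟨M, hMn, hM1, hmin, hC⟩ := exists_min_normal h2 hn hn2
  have hMtr := trans_of_normal h2 M hM1
  have h2M : IsMultiplyPretransitive ↥M Ω 2 := two_trans_of_normal h2 hn M hMtr
  refine ⟨M, hMn, hM1, hmin, ?_, h2M, hC⟩
  -- simplicity
  obtain ⟨M', hM'n, hM'1, hM'min, -⟩ := exists_min_normal (G := ↥M) h2M hn hn2
  have hnt : Nontrivial ↥M := (Subgroup.nontrivial_iff_ne_bot M).mpr hM1
  refine ⟨fun T hT => ?_⟩
  by_cases hT1 : T = ⊥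
  · exact Or.inl hT1
  right
  -- the core of T in G
  set T' : Subgroup G := T.map M.subtype with hT'
  have hK : M'.map M.subtype ≤ T'.normalCore := by
    rintro _ ⟨x, hx, rfl⟩
    intro g
    -- the conjugate of T by g
    have hTg : (T.comap (MulAut.conjNormal g : MulAut ↥M).toMonoidHom).Normal := hT.comap _
    have hTg1 : T.comap (MulAut.conjNormal g : MulAut ↥M).toMonoidHom ≠ ⊥ := by
      intro h
      apply hT1
      rw [Subgroup.eq_bot_iff_forall] at h ⊢
      intro t ht
      have h1 := h ((MulAut.conjNormal g : MulAut ↥M).symm t) (by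
        rw [Subgroup.mem_comap]
        show (MulAut.conjNormal g : MulAut ↥M) ((MulAut.conjNormal g : MulAut ↥M).symm t) ∈ T
        rw [MulEquiv.apply_symm_apply]
        exact ht)
      have := congrArg (MulAut.conjNormal g : MulAut ↥M) h1
      rwa [MulEquiv.apply_symm_apply, map_one] at this
    have hmem := hM'min _ hTg hTg1 hx
    rw [Subgroup.mem_comap] at hmem
    refine ⟨_, hmem, ?_⟩
    show ((MulAut.conjNormal g : MulAut ↥M) x : G) = g * (x : G) * g⁻¹
    exact MulAut.conjNormal_apply g x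
  have hKn : T'.normalCore.Normal := Subgroup.normalCore_normal T'
  have hK1 : T'.normalCore ≠ ⊥ := by
    intro h
    apply hM'1
    rw [h, le_bot_iff, Subgroup.map_eq_bot_iff_of_injective _ M.subtype_injective] at hK
    exact hK
  have hle : M ≤ T' := (hmin _ hKn hK1).trans (Subgroup.normalCore_le T')
  rw [eq_top_iff]
  intro x _
  obtain ⟨y, hy, hyx⟩ := hle x.2
  have : y = x := Subtype.ext hyx
  rwa [← this]

end Cfsg.Agent.Lib.Helper18.TwoMod4
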