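import Mathlib
import Cfsg.Agent.Lib.Helper18.TWSIIU567
import Cfsg.Agent.Lib.Helper18.TWSIIB3
import Cfsg.Agent.Lib.Helper1.TWSIIT

/-!
S5668 (C7 symplectic; owner helper5) Stage II-B (the descent; sub-planner helper14), leaf B2 `B1S_sim` (helper18).
Exact signature of `notes/S5668_II_leaves.lean`.

`g = κ u`, `κ = α ⊗ γ`, `u ∈ U^W`.  For every `x`: `g (u⁻¹ x) = κ x`, `u⁻¹ x - x ∈ C`, and `u⁻¹ x - x ∈ W` for `x ∈ C`.
Pairs `(b ⊗ y, b' ⊗ y')`: `c · f_B(γ b, γ b') = μ f_B(b, b')` (`α y' = c y'`).  Pairs in `y^⊥`: `f_B(γ b, γ b') sf(α a, α a') = μ f_B(b,b') sf(a,a')`.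
-/

set_option autoImplicit false
set_option linter.unusedSectionVars false
set_option linter.unusedVariables false

namespace Cfsg.Agent.Lib.Helper18.TWSIILeaf
open Matrix Cfsg.Geo Cfsg.Agent.Lib.Helper18.AschA89 Cfsg.Agent.Lib.Helper8.TW Cfsg.Agent.Lib.Helper5.TWS
  Cfsg.Agent.Lib.Helper14.TWII Cfsg.Agent.Lib.Helper14.TWSII
open Cfsg.Agent.Lib.Helper25.SpT (sf Jm sfv)
open Cfsg.Agent.Lib.Helper25.SpT (sf_add_left sf_add_right sf_smul_left sf_smul_right sf_sub_left sf_sub_right sf_skew sf_self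
  sf_zero_left)
open Cfsg.Agent.Lib.Helper23.TWUQ (NSp)
open Cfsg.Agent.Lib.Helper22.TWLeaf

variable {F : Type*} [Field F] [Fintype F] {t k : ℕ}

/-- B2 (M-L) the factors of a similitude -/
theorem B1S_sim (hk : Even k) (hk2 : 2 ≤ k) (i : Fin (t + 1)) (y y' : Fin k → F) (hyy' : sf y y' = 1)
    (g : GL (Idx (t + 1) k) F) (hgD : g ∈ DSV (t + 1) k F) (α : GL (Fin k) F) (γ : GL (Idx t k) F)
    (u : GL (Idx (t + 1) k) F) (hαy : (α : Matrix (Fin k) (Fin k) F) *ᵥ y = y)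
    (hαy' : ∃ c : F, (α : Matrix (Fin k) (Fin k) F) *ᵥ y' = c • y')
    (hαA : ∀ a : Fin k → F, sf a y = 0 → sf a y' = 0 →
      sf ((α : Matrix (Fin k) (Fin k) F) *ᵥ a) y = 0 ∧ sf ((α : Matrix (Fin k) (Fin k) F) *ᵥ a) y' = 0)
    (hu : InUS i y u) (hg : g = slotGL i α * extGL i γ * u) :
    α ∈ DSA k F ∧ γ ∈ DSV t k F ∧ u ∈ GSV (t + 1) k F := by
  classical
  have hk0 : 0 < k := by omega
  have hy0 : y ≠ 0 := by
    rintro rfl
    rw [sf_zero_left] at hyy'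
    exact zero_ne_one hyy'
  obtain ⟨μ, hμ⟩ := mem_DSV.1 hgD
  obtain ⟨cc, hcc⟩ := hαy'
  obtain ⟨h1, h2, h3⟩ := id hu
  obtain ⟨A, hA⟩ : ∃ A : Matrix (Fin k) (Fin k) F, A = (α : Matrix (Fin k) (Fin k) F) := ⟨_, rfl⟩
  obtain ⟨Γ, hΓ⟩ : ∃ Γ : Matrix (Idx t k) (Idx t k) F, Γ = (γ : Matrix (Idx t k) (Idx t k) F) := ⟨_, rfl⟩
  rw [← hA] at hαy hcc hαA
  -- `g (u⁻¹ (b ⊗ a)) = γ b ⊗ α a`
  have hgx : ∀ (b : Idx t k → F) (a : Fin k → F), mv g (mv u⁻¹ (tens i b a)) = tens i (Γ *ᵥ b) (A *ᵥ a) := by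
    intro b a
    rw [hg, Cfsg.Agent.Lib.Helper16.TWLeaf.mv_mul]
    have e : mv u (mv u⁻¹ (tens i b a)) = tens i b a := by
      have := mv_inv_mv18 u⁻¹ (tens i b a)
      rwa [inv_inv] at this
    rw [e, Cfsg.Agent.Lib.Helper1.TWSIILeaf.mv_slot_ext_tens, hA, hΓ]
    rfl
  -- `u⁻¹ x - x ∈ C`, and `∈ W` for `x ∈ C`
  have hiC : ∀ x, mv u⁻¹ x - x ∈ Cf i (sfv y) := by
    intro x
    have e : mv u (mv u⁻¹ x) = x := by
      have := mv_inv_mv18 u⁻¹ x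
      rwa [inv_inv] at this
    have := h3 (mv u⁻¹ x)
    rw [e] at this
    have h' := (Cf i (sfv y)).neg_mem this
    rwa [neg_sub] at h'
  have hiW : ∀ x ∈ Cf i (sfv y), mv u⁻¹ x - x ∈ Wf i y := by
    intro x hx
    have e : mv u (mv u⁻¹ x) = x := by
      have := mv_inv_mv18 u⁻¹ x
      rwa [inv_inv] at this
    have hz : mv u⁻¹ x ∈ Cf i (sfv y) := by
      have := (Cf i (sfv y)).add_mem (hiC x) hx
      rwa [sub_add_cancel] at this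
    have := h2 _ hz
    rw [e] at this
    have h' := (Wf i y).neg_mem this
    rwa [neg_sub] at h'
  -- orthogonality
  have hCW : ∀ c' ∈ Cf i (sfv y), ∀ w ∈ Wf i y, sfT c' w = 0 := by
    intro c' hc' w hw
    rw [← Cfsg.Agent.Lib.Helper9.TWST.perpT_Wf hk i y hy0] at hc'
    exact hc' w hw
  have hWC : ∀ w ∈ Wf i y, ∀ c' ∈ Cf i (sfv y), sfT w c' = 0 := fun w hw c' hc' =>
    Cfsg.Agent.Lib.Helper9.TWST.sfT_symm_zero hk (hCW c' hc' w hw)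
  have hWW : ∀ w ∈ Wf i y, ∀ w' ∈ Wf i y, sfT w w' = 0 := Cfsg.Agent.Lib.Helper9.TWST.TIT_Wf hk i y hy0
  have hWle : Wf i y ≤ Cf i (sfv y) := Cfsg.Agent.Lib.Helper9.TWST.Wf_le_Cf_sfv hk i y hy0
  -- STEP 1: `cc * f_B(γ b, γ b') = μ f_B(b, b')`
  have hstep1 : ∀ b b' : Idx t k → F, cc * sfT (Γ *ᵥ b) (Γ *ᵥ b') = (μ : F) * sfT b b' := by
    intro b b'
    have e := hμ (mv u⁻¹ (tens i b y)) (mv u⁻¹ (tens i b' y'))
    rw [hgx, hgx, hαy, hcc, Cfsg.Agent.Lib.Helper1.TWSIILeaf.sfT_tens, sf_smul_right, hyy', mul_one] at e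
    have hbW : tens i b y ∈ Wf i y := (mem_Wf_iff_tens i y hy0 _).mpr ⟨b, rfl⟩
    have e1 : mv u⁻¹ (tens i b y) = tens i b y := mv_inv_of_fix18 u _ (h1 _ hbW)
    have e2 : sfT (tens i b y) (mv u⁻¹ (tens i b' y')) = sfT b b' := by
      have : mv u⁻¹ (tens i b' y') = tens i b' y' + (mv u⁻¹ (tens i b' y') - tens i b' y') := by abel
      rw [this, sfT_add_right, hWC _ hbW _ (hiC _), add_zero, Cfsg.Agent.Lib.Helper1.TWSIILeaf.sfT_tens, hyy',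
        mul_one]
    rw [e1, e2] at e
    rw [← e]
    ring
  obtain ⟨b₀, b₀', hb₀⟩ := Cfsg.Agent.Lib.Helper1.TWSIILeaf.exists_sfT_ne_zero (F := F) (t := t) hk hk0
  have hμ0 : (μ : F) ≠ 0 := μ.ne_zero
  have hcc0 : cc ≠ 0 := by
    rintro rfl
    have := hstep1 b₀ b₀'
    rw [zero_mul] at this
    exact (mul_ne_zero hμ0 hb₀) this.symm
  -- `γ ∈ Δ(B)`
  have hγD : γ ∈ DSV t k F := by
    rw [mem_DSV]
    refine ⟨Units.mk0 ((μ : F) * cc⁻¹) (mul_ne_zero hμ0 (inv_ne_zero hcc0)), fun b b' => ?_⟩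
    rw [Units.val_mk0]
    have := hstep1 b b'
    unfold mv
    rw [← hΓ, mul_assoc, mul_comm cc⁻¹, ← mul_assoc, ← this]
    field_simp
  -- STEP 2a: pairs in `y^⊥`
  have hstep2a : ∀ a a' : Fin k → F, sf a y = 0 → sf a' y = 0 → sf (A *ᵥ a) (A *ᵥ a') = cc * sf a a' := by
    intro a a' ha ha'
    have e := hμ (mv u⁻¹ (tens i b₀ a)) (mv u⁻¹ (tens i b₀' a'))
    rw [hgx, hgx, Cfsg.Agent.Lib.Helper1.TWSIILeaf.sfT_tens] at e
    have hC1 : tens i b₀ a ∈ Cf i (sfv y) := tens_mem_Cf18 i y a ha b₀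
    have hC2 : tens i b₀' a' ∈ Cf i (sfv y) := tens_mem_Cf18 i y a' ha' b₀'
    have e2 : sfT (mv u⁻¹ (tens i b₀ a)) (mv u⁻¹ (tens i b₀' a')) = sfT b₀ b₀' * sf a a' := by
      have d1 : mv u⁻¹ (tens i b₀ a) = tens i b₀ a + (mv u⁻¹ (tens i b₀ a) - tens i b₀ a) := by abel
      have d2 : mv u⁻¹ (tens i b₀' a') = tens i b₀' a' + (mv u⁻¹ (tens i b₀' a') - tens i b₀' a') := by abel
      rw [d1, d2, sfT_add_left, sfT_add_right, sfT_add_right, hCW _ hC1 _ (hiW _ hC2), hWC _ (hiW _ hC1) _ hC2,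
        hWW _ (hiW _ hC1) _ (hiW _ hC2), add_zero, add_zero, add_zero, Cfsg.Agent.Lib.Helper1.TWSIILeaf.sfT_tens]
    rw [e2] at e
    -- `f_B(γ b₀, γ b₀') sf(α a, α a') = μ f_B(b₀,b₀') sf(a,a')`; multiply by `cc`
    have e3 := hstep1 b₀ b₀'
    have e4 : ((μ : F) * sfT b₀ b₀') * sf (A *ᵥ a) (A *ᵥ a') = ((μ : F) * sfT b₀ b₀') * (cc * sf a a') := by
      rw [← e3]
      calc cc * sfT (Γ *ᵥ b₀) (Γ *ᵥ b₀') * sf (A *ᵥ a) (A *ᵥ a')
          = cc * (sfT (Γ *ᵥ b₀) (Γ *ᵥ b₀') * sf (A *ᵥ a) (A *ᵥ a')) := by ring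
        _ = cc * ((μ : F) * (sfT b₀ b₀' * sf a a')) := by rw [e]
        _ = cc * sfT (Γ *ᵥ b₀) (Γ *ᵥ b₀') * (cc * sf a a') := by rw [e3]; ring
    exact mul_left_cancel₀ (mul_ne_zero hμ0 hb₀) e4
  -- STEP 2b: `(a, y')`, `a ∈ y^⊥`
  have hstep2b : ∀ a : Fin k → F, sf a y = 0 → sf (A *ᵥ a) (A *ᵥ y') = cc * sf a y' := by
    intro a ha
    have ha₀y : sf (a - sf a y' • y) y = 0 := by rw [sf_sub_left, sf_smul_left, sf_self, ha]; ring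
    have ha₀y' : sf (a - sf a y' • y) y' = 0 := by rw [sf_sub_left, sf_smul_left, hyy']; ring
    have h0 := (hαA _ ha₀y ha₀y').2
    rw [Matrix.mulVec_sub, Matrix.mulVec_smul, hαy, sf_sub_left, sf_smul_left, hyy', mul_one] at h0
    rw [hcc, sf_smul_right, sub_eq_zero.1 h0]
  -- STEP 2c: all pairs
  have hαD : α ∈ DSA k F := by
    rw [mem_DSA]
    refine ⟨Units.mk0 cc hcc0, fun a a' => ?_⟩
    rw [Units.val_mk0, ← hA]
    -- `a = a₁ + q y'`, `q = - sf a y`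
    obtain ⟨a₁, ha₁⟩ : ∃ a₁ : Fin k → F, a₁ = a + sf a y • y' := ⟨_, rfl⟩
    obtain ⟨a₁', ha₁'⟩ : ∃ a₁' : Fin k → F, a₁' = a' + sf a' y • y' := ⟨_, rfl⟩
    have hy'y : sf y' y = -1 := by rw [sf_skew, hyy']
    have h₁ : sf a₁ y = 0 := by rw [ha₁, sf_add_left, sf_smul_left, hy'y]; ring
    have h₁' : sf a₁' y = 0 := by rw [ha₁', sf_add_left, sf_smul_left, hy'y]; ring
    have ea : a = a₁ - sf a y • y' := by rw [ha₁]; abel
    have ea' : a' = a₁' - sf a' y • y' := by rw [ha₁']; abel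
    have k1 := hstep2a a₁ a₁' h₁ h₁'
    have k2 := hstep2b a₁ h₁
    have k3 := hstep2b a₁' h₁'
    have k3' : sf (A *ᵥ y') (A *ᵥ a₁') = - (cc * sf a₁' y') := by rw [sf_skew, k3]
    have k4 : sf (A *ᵥ y') (A *ᵥ y') = 0 := sf_self _
    rw [ea, ea']
    simp only [Matrix.mulVec_sub, Matrix.mulVec_smul, sf_sub_left, sf_sub_right, sf_smul_left, sf_smul_right,
      k1, k2, k3', k4, sf_self]
    rw [sf_skew y' a₁']
    ring
  refine ⟨hαD, hγD, ?_⟩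
  -- `u = κ⁻¹ g` is a similitude in `U^W`, hence an isometry
  have hκD : slotGL i α * extGL i γ ∈ DSV (t + 1) k F :=
    (DSV (t + 1) k F).mul_mem (Cfsg.Agent.Lib.Helper1.TWSIILeaf.slotGL_mem_DSV i hαD)
      (Cfsg.Agent.Lib.Helper1.TWSIILeaf.extGL_mem_DSV i hγD)
  have huD : u ∈ DSV (t + 1) k F := by
    have e : u = (slotGL i α * extGL i γ)⁻¹ * g := by rw [hg, inv_mul_cancel_left]
    rw [e]
    exact (DSV (t + 1) k F).mul_mem ((DSV (t + 1) k F).inv_mem hκD) hgD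
  exact InUS_mem_GSV hk hk2 i y hy0 u huD hu

end Cfsg.Agent.Lib.Helper18.TWSIILeaf
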