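import Mathlib
import Cfsg.Agent.Lib.Helper5.TWS.Defs
import Cfsg.Agent.Lib.Helper9.TWST
import Cfsg.Agent.Lib.Helper22.TWQK

/-!
S5668 (C7 symplectic; owner helper5) Stage II-B (the descent; sub-planner helper14), leaf N4 `z1_mem_HS` (helper18).
Exact signature of `notes/S5668_II_leaves.lean`.
-/

set_option autoImplicit false
set_option linter.unusedSectionVars false
set_option linter.unusedVariables false

namespace Cfsg.Agent.Lib.Helper18.TWSIILeaf
open Matrix Cfsg.Geo Cfsg.Agent.Lib.Helper18.AschA89 Cfsg.Agent.Lib.Helper8.TW Cfsg.Agent.Lib.Helper5.TWS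
open Cfsg.Agent.Lib.Helper25.SpT (sf Jm sfv)

variable {F : Type*} [Field F] [Fintype F] {t k : ℕ}

/-- N4 (S) `z₁ = 1 + (c • 1) ⊗ y y†` is a root element -/
theorem z1_mem_HS (hk : Even k) (i : Fin (t + 1)) (y : Fin k → F) (hy0 : y ≠ 0) (z₁ : GL (Idx (t + 1) k) F) (c : F)
    (hz₁ : (z₁ : Matrix (Idx (t + 1) k) (Idx (t + 1) k) F) =
      1 + ext i (c • (1 : Matrix (Idx t k) (Idx t k) F)) * rootN i y (sfv y)) :
    z₁ ∈ HS (t + 1) k F := by
  have e : z₁ = (srd hk i y hy0 : RD (t + 1) k F).elt c := by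
    apply Units.ext
    rw [hz₁, RD.elt_val, Cfsg.Agent.Lib.Helper22.TWQLeaf.ext_smul_one, Matrix.smul_mul, Matrix.one_mul]
    rfl
  rw [e]
  exact Cfsg.Agent.Lib.Helper9.TWST.elt_mem_HS hk (srd_RS hk i y hy0) c

end Cfsg.Agent.Lib.Helper18.TWSIILeaf
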