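import Mathlib
import Cfsg.Agent.Lib.Helper18.TWSIIU8w
import Cfsg.Agent.Lib.Helper16.TWSIIEta
import Cfsg.Agent.Lib.Helper6.TWSIIR1
import Cfsg.Agent.Lib.Helper1.TWSIIT

/-!
S5668 (C7 symplectic; owner helper5) Stage II-B (the descent; sub-planner helper14), leaf U8 `InUS_split` (SPARE by helper18;
main taker helper26).  Exact signature of `notes/S5668_II_leaves.lean`.
-/

set_option autoImplicit false
set_option linter.unusedSectionVars false
set_option linter.unusedVariables false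

namespace Cfsg.Agent.Lib.Helper18.TWSIILeaf
open Matrix Cfsg.Geo Cfsg.Agent.Lib.Helper18.AschA89 Cfsg.Agent.Lib.Helper8.TW Cfsg.Agent.Lib.Helper5.TWS
  Cfsg.Agent.Lib.Helper14.TWII Cfsg.Agent.Lib.Helper14.TWSII
open Cfsg.Agent.Lib.Helper25.SpT (sf Jm sfv)
open Cfsg.Agent.Lib.Helper25.SpT (sf_add_left sf_add_right sf_smul_left sf_smul_right sf_sub_left sf_sub_right sf_skew sf_self
  sf_zero_left)
open Cfsg.Agent.Lib.Helper22.TWLeaf

variable {F : Type*} [Field F] [Fintype F] {t k : ℕ}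

lemma mv_add18b {ι : Type} [Fintype ι] [DecidableEq ι] (g : GL ι F) (v w : ι → F) : mv g (v + w) = mv g v + mv g w := by
  unfold mv; rw [Matrix.mulVec_add]

lemma mv_smul18b {ι : Type} [Fintype ι] [DecidableEq ι] (g : GL ι F) (d : F) (v : ι → F) : mv g (d • v) = d • mv g v := by
  unfold mv; rw [Matrix.mulVec_smul]

/-- U8 (M-L) SPLITTING: an isometry `u ∈ U^W` all of whose `C → W` parts are scalar is `slot i η · z`, `η ∈ Sp(A)` Heisenberg, `z ∈ Z_W` -/
theorem InUS_split (hk : Even k) (hk2 : 2 ≤ k) (i : Fin (t + 1)) (y y' : Fin k → F) (hyy' : sf y y' = 1)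
    (u : GL (Idx (t + 1) k) F) (huS : u ∈ GSV (t + 1) k F) (hu : InUS i y u)
    (hsc : ∀ v : Fin k → F, sf v y = 0 → sf v y' = 0 → ∃ c : F, ∀ b : Idx t k → F,
      mv u (tens i b v) = tens i b v + c • tens i b y) :
    ∃ (η : GL (Fin k) F) (z : GL (Idx (t + 1) k) F), η ∈ GSA k F ∧ (η : Matrix (Fin k) (Fin k) F) *ᵥ y = y ∧
      InZ i y z ∧ u = slotGL i η * z := by
  classical
  have hy0 : y ≠ 0 := by
    rintro rfl
    rw [sf_zero_left] at hyy'
    exact zero_ne_one hyy'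
  obtain ⟨w₀, hw₀y, hw₀y', hw₀⟩ := exists_w0 hk hk2 i y y' hyy' u hsc
  have hyw₀ : sf y w₀ = 0 := by rw [sf_skew, hw₀y, neg_zero]
  obtain ⟨η, hη, hηS, hηy⟩ := Cfsg.Agent.Lib.Helper16.TWSIILeaf.etaS_mem y w₀ 0 hw₀y
  have hηU : InUS i y (slotGL i η) := Cfsg.Agent.Lib.Helper16.TWSIILeaf.InUS_slot_eta i y w₀ 0 hw₀y η hη
  obtain ⟨z, hz⟩ : ∃ z : GL (Idx (t + 1) k) F, z = (slotGL i η)⁻¹ * u := ⟨_, rfl⟩
  have huz : u = slotGL i η * z := by rw [hz, mul_inv_cancel_left]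
  have hzU : InUS i y z := by
    rw [hz]
    exact Cfsg.Agent.Lib.Helper6.TWSIILeaf.InUS_mul6 i y _ _
      (Cfsg.Agent.Lib.Helper6.TWSIILeaf.InUS_inv6 i y _ hηU) hu
  have hηG : slotGL i η ∈ GSV (t + 1) k F := Cfsg.Agent.Lib.Helper1.TWSIILeaf.slotGL_mem_GSV i hηS
  have hzS : z ∈ GSV (t + 1) k F := by
    rw [hz]
    exact (GSV (t + 1) k F).mul_mem ((GSV (t + 1) k F).inv_mem hηG) huS
  -- `u` and `slot i η` agree on the pure tensors `b ⊗ a`, `a ⊥ y`
  have hagree : ∀ (b : Idx t k → F) (a : Fin k → F), sf a y = 0 →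
      mv u (tens i b a) = mv (slotGL i η) (tens i b a) := by
    intro b a ha
    obtain ⟨p, hp⟩ : ∃ p : F, p = sf a y' := ⟨_, rfl⟩
    obtain ⟨a₀, ha₀⟩ : ∃ a₀ : Fin k → F, a₀ = a - p • y := ⟨_, rfl⟩
    have ha₀y : sf a₀ y = 0 := by rw [ha₀, sf_sub_left, sf_smul_left, sf_self, ha]; ring
    have ha₀y' : sf a₀ y' = 0 := by rw [ha₀, sf_sub_left, sf_smul_left, hyy', hp]; ring
    have ea : a = a₀ + p • y := by rw [ha₀]; abel
    have hbW : tens i b y ∈ Wf i y := (mem_Wf_iff_tens i y hy0 _).mpr ⟨b, rfl⟩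
    have e1 : mv u (tens i b a) = tens i b a₀ + sf a₀ w₀ • tens i b y + p • tens i b y := by
      rw [ea, tens_add_right18, tens_smul_right18, mv_add18b, mv_smul18b, hw₀ a₀ ha₀y ha₀y' b, hu.1 _ hbW]
    have e2 : mv (slotGL i η) (tens i b a) = tens i b a₀ + sf a₀ w₀ • tens i b y + p • tens i b y := by
      have hsa : sf a w₀ = sf a₀ w₀ := by rw [ea, sf_add_left, sf_smul_left, hyw₀, mul_zero, add_zero]
      rw [mv_slotGL_tens18, hη, Cfsg.Agent.Lib.Helper16.TWSIILeaf.etaS_mulVec, ha, zero_smul, mul_zero, zero_smul,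
        add_zero, add_zero, hsa, tens_add_right18, tens_smul_right18]
      nth_rewrite 1 [ea]
      rw [tens_add_right18, tens_smul_right18]
      abel
    rw [e1, e2]
  -- `z` fixes these pure tensors, hence `C`
  have hzfix : ∀ (b : Idx t k → F) (a : Fin k → F), sf a y = 0 → mv z (tens i b a) = tens i b a := by
    intro b a ha
    rw [hz, Cfsg.Agent.Lib.Helper16.TWLeaf.mv_mul, hagree b a ha, mv_inv_mv18]
  have hzC : ∀ v ∈ Cf i (sfv y), mv z v = v := by
    have hle : fib i (kerF (sfv y)) ≤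
        LinearMap.ker (Matrix.toLin' ((z : Matrix (Idx (t + 1) k) (Idx (t + 1) k) F) - 1)) := by
      apply fib_le_of_tens
      intro b a ha
      rw [mem_kerF, Cfsg.Agent.Lib.Helper25.SpT.sfv_dot] at ha
      rw [LinearMap.mem_ker, Matrix.toLin'_apply, Matrix.sub_mulVec, Matrix.one_mulVec, sub_eq_zero]
      exact hzfix b a ha
    intro v hv
    have h1 := hle hv
    rw [LinearMap.mem_ker, Matrix.toLin'_apply, Matrix.sub_mulVec, Matrix.one_mulVec, sub_eq_zero] at h1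
    exact h1
  exact ⟨η, z, hηS, hηy, InUS_ker hk i y hy0 z hzS hzU hzC, huz⟩

end Cfsg.Agent.Lib.Helper18.TWSIILeaf
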