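import Mathlib
import Cfsg.Agent.Lib.Helper18.TWSITFormCore
import Cfsg.Agent.Lib.Helper22.TWQK

/-!
S5668 (C7 symplectic; owner helper5) Stage I, `k = 2` block, leaf K2-8 `opp_case` (helper18): the CORE, with the structure `NP`
unbundled and the toolkit leaves ST3 (`elt_mem_HS`), ST10 (`sim_of_ext_slot`), ST-nd (`sfT_nondeg`) and K2-3 (`twistNP`)
as explicit hypotheses.  K2-7 (`sp2_neg`) is NOT needed: with `δ := 2 A₀ - 2 μ₀ - (1 - μ₀)(A₋ + 1)` one has `(A₋ + 1) y = 0` directly.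
See `notes/S5668_plan.md` §3.2 (S6) and `notes/S5668_I_leaves.lean`.
-/

set_option autoImplicit false
set_option linter.unusedSectionVars false
set_option linter.unusedVariables false

namespace Cfsg.Agent.Lib.Helper18.TWSLeaf
open Matrix Cfsg.Geo Cfsg.Agent.Lib.Helper18.AschA89 Cfsg.Agent.Lib.Helper8.TW Cfsg.Agent.Lib.Helper5.TWS
open Cfsg.Agent.Lib.Helper25.SpT (sf Jm sfv)
open Cfsg.Agent.Lib.Helper23.TWUQ (NSp FCp)
open Cfsg.Agent.Lib.Helper22.TWLeaf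

variable {F : Type*} [Field F] [Fintype F] {t k : ℕ}

lemma two_ne_zero18 (hodd : Odd (Fintype.card F)) : (2 : F) ≠ 0 := by
  intro h
  have h1 : ringChar F ∣ 2 := by
    apply ringChar.dvd
    exact_mod_cast h
  have h2 : ringChar F = 2 := by
    have hp := CharP.char_is_prime F (ringChar F)
    exact (Nat.prime_dvd_prime_iff_eq hp Nat.prime_two).1 h1
  have := FiniteField.even_card_of_char_two h2
  obtain ⟨m, hm⟩ := hodd
  omega

/-- `q ≥ 5`: some `μ ≠ 0` with `μ² ≠ 1` -/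
lemma exists_mu18 (hq5 : 5 ≤ Fintype.card F) : ∃ μ : F, μ ≠ 0 ∧ μ ^ 2 ≠ 1 := by
  classical
  by_contra hcon
  push Not at hcon
  have hsub : (Finset.univ : Finset F) ⊆ (Finset.univ.filter (fun a : F => a = 0 ∨ a = 1 ∨ a = -1)) := by
    intro a _
    rw [Finset.mem_filter]
    refine ⟨Finset.mem_univ _, ?_⟩
    by_cases ha : a = 0
    · exact Or.inl ha
    · right
      have h := hcon a ha
      have : (a - 1) * (a + 1) = 0 := by ring_nf; rw [h]; ring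
      rcases mul_eq_zero.1 this with h | h
      · exact Or.inl (sub_eq_zero.1 h)
      · exact Or.inr (eq_neg_of_add_eq_zero_left h)
  have hle := Finset.card_le_card hsub
  have h3 : (Finset.univ.filter (fun a : F => a = 0 ∨ a = 1 ∨ a = -1)).card ≤ 3 := by
    have : (Finset.univ.filter (fun a : F => a = 0 ∨ a = 1 ∨ a = -1)) ⊆ ({0, 1, -1} : Finset F) := by
      intro a ha
      rw [Finset.mem_filter] at ha
      simp only [Finset.mem_insert, Finset.mem_singleton]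
      exact ha.2
    exact (Finset.card_le_card this).trans (Finset.card_le_three)
  rw [Finset.card_univ] at hle
  omega

lemma tens_zero_left18 (i : Fin (t + 1)) (a : Fin k → F) : tens i (0 : Idx t k → F) a = 0 := by
  funext z
  simp [tens]

/-- `slot i A v = 0` means that all `i`-slices of `v` lie in `ker A` -/
lemma mem_fib_ker_of_slot18 (i : Fin t) (A : Matrix (Fin k) (Fin k) F) (v : Idx t k → F)
    (h : slot k t i A *ᵥ v = 0) : v ∈ fib i (LinearMap.ker (Matrix.toLin' A)) := by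
  rw [mem_fib]
  intro x
  rw [LinearMap.mem_ker, Matrix.toLin'_apply, ← Cfsg.Agent.Lib.Helper26.TWLeaf.slot_mulVec_slice26, h]
  rfl

lemma mv_add18 {ι : Type} [Fintype ι] [DecidableEq ι] (g : GL ι F) (v w : ι → F) : mv g (v + w) = mv g v + mv g w := by
  unfold mv; rw [Matrix.mulVec_add]

lemma mv_sub18 {ι : Type} [Fintype ι] [DecidableEq ι] (g : GL ι F) (v w : ι → F) : mv g (v - w) = mv g v - mv g w := by
  unfold mv; rw [Matrix.mulVec_sub]

lemma mv_smul18 {ι : Type} [Fintype ι] [DecidableEq ι] (g : GL ι F) (d : F) (v : ι → F) : mv g (d • v) = d • mv g v := by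
  unfold mv; rw [Matrix.mulVec_smul]

lemma eq_zero_of_mv18 {ι : Type} [Fintype ι] [DecidableEq ι] (g : GL ι F) (v : ι → F) (h : mv g v = 0) : v = 0 := by
  have h1 : mv g⁻¹ (mv g v) = v := by
    rw [← Cfsg.Agent.Lib.Helper16.TWLeaf.mv_mul, inv_mul_cancel, mv_one18]
  rw [h] at h1
  rw [← h1]
  unfold mv
  rw [Matrix.mulVec_zero]

/-- opposite case, step 1: a twist element for `K = ⊥` is `slot i A` with `A ∈ Sp(A)`, `A y = μ⁻¹ y` -/
theorem T_slot_of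
    (hST3 : ∀ (r : RD (t + 1) k F), RS r → ∀ c : F, r.elt c ∈ HS (t + 1) k F)
    (hST10 : ∀ (i : Fin (t + 1)) (γ : Matrix (Idx t k) (Idx t k) F) (α : Matrix (Fin k) (Fin k) F) (m : F), m ≠ 0 →
      (∀ u v : Idx (t + 1) k → F,
        sfT ((ext i γ * slot k (t + 1) i α) *ᵥ u) ((ext i γ * slot k (t + 1) i α) *ᵥ v) = m * sfT u v) →
      ∃ ν : F, ν ≠ 0 ∧ (∀ b b' : Idx t k → F, sfT (γ *ᵥ b) (γ *ᵥ b') = ν * sfT b b') ∧
        (∀ a a' : Fin k → F, sf (α *ᵥ a) (α *ᵥ a') = (m * ν⁻¹) * sf a a'))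
    (hSTnd : ∀ v : Idx t k → F, (∀ w, sfT v w = 0) → v = 0)
    {X : Subgroup (GL (Idx (t + 1) k) F)} (c : CtxS X) (r : RD (t + 1) k F) (x : GL (Idx (t + 1) k) F)
    (hr : RS r) (hxX : x ∈ X)
    (μ : F) (hμ : μ ≠ 0) (T : GL (Idx (t + 1) k) F) (hT : T ∈ r.grp ⊔ conjG x r.grp)
    (hb : ∀ v ∈ r.W, mv T v = μ⁻¹ • v) :
    ∃ A : Matrix (Fin k) (Fin k) F, (T : Matrix (Idx (t + 1) k) (Idx (t + 1) k) F) = slot k (t + 1) r.i A ∧
      A *ᵥ r.y = μ⁻¹ • r.y ∧ (∀ a a' : Fin k → F, sf (A *ᵥ a) (A *ᵥ a') = sf a a') := by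
  classical
  obtain ⟨γ, α, ν, hν0, hval, hαy, hsimB, hsimA, -, hγb⟩ :=
    T_form_of hST3 hST10 c r x hr hxX ⊥ bot_le μ hμ T hT
      (by
        intro v hv
        rw [Submodule.mem_bot] at hv
        rw [hv]
        unfold mv
        rw [Matrix.mulVec_zero])
      (by
        intro v hv
        rw [hb v hv, sub_self]
        exact Submodule.zero_mem _)
  have hγ : ∀ b : Idx t k → F, γ *ᵥ b = μ⁻¹ • b := by
    intro b
    have h1 := hγb b
    rw [Submodule.mem_bot, ← tens_zero_left18 r.i r.y] at h1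
    exact sub_eq_zero.1 (tens_left_inj18 r.i r.hy h1)
  have hγ' : γ = μ⁻¹ • 1 := Cfsg.Agent.Lib.Helper22.TWQLeaf.eq_smul_one_of_mulVec γ μ⁻¹ hγ
  have hμi : μ⁻¹ ≠ 0 := inv_ne_zero hμ
  -- `ν = μ⁻²`
  have hk0 : 0 < k := by have := c.hk2; omega
  obtain ⟨u₀⟩ : Nonempty (Idx t k) := ⟨fun _ => ⟨0, hk0⟩⟩
  have hv₀ : (Pi.single u₀ (1 : F) : Idx t k → F) ≠ 0 := by
    intro h
    have := congrFun h u₀
    rw [Pi.single_eq_same, Pi.zero_apply] at this
    exact one_ne_zero this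
  obtain ⟨w₀, hw₀⟩ : ∃ w, sfT (Pi.single u₀ (1 : F) : Idx t k → F) w ≠ 0 := by
    by_contra hcon
    push Not at hcon
    exact hv₀ (hSTnd _ hcon)
  have hν : ν = μ⁻¹ * μ⁻¹ := by
    have h1 := hsimB (Pi.single u₀ (1 : F)) w₀
    rw [hγ, hγ, sfT_smul_left, sfT_smul_right, ← mul_assoc] at h1
    exact (mul_right_cancel₀ hw₀ h1).symm
  refine ⟨μ⁻¹ • α, ?_, ?_, ?_⟩
  · rw [hval, hγ', Cfsg.Agent.Lib.Helper22.TWQLeaf.ext_smul_one, Matrix.smul_mul, Matrix.one_mul, slot_smul]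
  · rw [Matrix.smul_mulVec, hαy]
  · intro a a'
    rw [Matrix.smul_mulVec, Matrix.smul_mulVec, Cfsg.Agent.Lib.Helper25.SpT.sf_smul_left,
      Cfsg.Agent.Lib.Helper25.SpT.sf_smul_right, hsimA, hν, mul_inv, inv_inv]
    field_simp

/-- K2-8 CORE: the opposite case `R ⊓ x R = ⊥` is impossible (`k = 2`, `q ≥ 5`); unbundled `NP`, toolkit as hypotheses -/
theorem opp_case_of
    (hST3 : ∀ (r : RD (t + 1) k F), RS r → ∀ c : F, r.elt c ∈ HS (t + 1) k F)
    (hST10 : ∀ (i : Fin (t + 1)) (γ : Matrix (Idx t k) (Idx t k) F) (α : Matrix (Fin k) (Fin k) F) (m : F), m ≠ 0 →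
      (∀ u v : Idx (t + 1) k → F,
        sfT ((ext i γ * slot k (t + 1) i α) *ᵥ u) ((ext i γ * slot k (t + 1) i α) *ᵥ v) = m * sfT u v) →
      ∃ ν : F, ν ≠ 0 ∧ (∀ b b' : Idx t k → F, sfT (γ *ᵥ b) (γ *ᵥ b') = ν * sfT b b') ∧
        (∀ a a' : Fin k → F, sf (α *ᵥ a) (α *ᵥ a') = (m * ν⁻¹) * sf a a'))
    (hSTnd : ∀ v : Idx t k → F, (∀ w, sfT v w = 0) → v = 0)
    {X : Subgroup (GL (Idx (t + 1) k) F)} (c : CtxS X) (hk : k = 2) (r : RD (t + 1) k F) (x : GL (Idx (t + 1) k) F)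
    (hr : RS r) (hxX : x ∈ X) (hxG : x ∉ Gstd (t + 1) k F)
    (htw : ∀ μ : F, μ ≠ 0 → ∃ T ∈ r.grp ⊔ conjG x r.grp, (∀ v ∈ r.W ⊓ img x r.W, mv T v = v) ∧
      (∀ v ∈ r.W, mv T v - μ⁻¹ • v ∈ r.W ⊓ img x r.W) ∧
      (∀ v ∈ img x r.W, ∀ p ∈ r.W, ∀ p'' ∈ img x r.W, mv x v = p + p'' →
        mv x (mv T v) - (μ • p + p'') ∈ r.W ⊓ img x r.W))
    (hK : r.W ⊓ img x r.W = ⊥) : False := by
  classical
  have hq5 : 5 ≤ Fintype.card F := by
    have h3 : ¬ Fintype.card F = 3 := fun h => c.hex ⟨h, hk⟩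
    obtain ⟨m, hm⟩ := c.hodd
    have h1 : 1 < Fintype.card F := Fintype.one_lt_card
    omega
  have h2 : (2 : F) ≠ 0 := two_ne_zero18 c.hodd
  obtain ⟨μ₀, hμ₀0, hμ₀2⟩ := exists_mu18 (F := F) hq5
  have hm1 : (-1 : F) ≠ 0 := neg_ne_zero.2 one_ne_zero
  -- the two twists
  obtain ⟨T₁, hT₁L, -, hT₁b, hT₁c⟩ := htw (-1) hm1
  obtain ⟨T₀, hT₀L, -, hT₀b, hT₀c⟩ := htw μ₀ hμ₀0
  rw [hK] at hT₁b hT₁c hT₀b hT₀c
  obtain ⟨A₁, hT₁v, hA₁y, -⟩ := T_slot_of hST3 hST10 hSTnd c r x hr hxX (-1) hm1 T₁ hT₁L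
    (fun v hv => sub_eq_zero.1 ((Submodule.mem_bot F).1 (hT₁b v hv)))
  obtain ⟨A₀, hT₀v, hA₀y, -⟩ := T_slot_of hST3 hST10 hSTnd c r x hr hxX μ₀ hμ₀0 T₀ hT₀L
    (fun v hv => sub_eq_zero.1 ((Submodule.mem_bot F).1 (hT₀b v hv)))
  have hW : r.W = Wf r.i r.y := rfl
  -- dimensions
  have hfrW : Module.finrank F (r.W : Submodule F (Idx (t + 1) k → F)) = k ^ t := by
    rw [hW]
    unfold Wf
    rw [Cfsg.Agent.Lib.Helper26.TWLeaf.finrank_fib, finrank_span_singleton r.hy, mul_one, Nat.add_sub_cancel]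
  have hfrW' : Module.finrank F (img x r.W : Submodule F (Idx (t + 1) k → F)) = k ^ t := by
    rw [Cfsg.Agent.Lib.Helper16.TWLeaf.finrank_img, hfrW]
  have hsup : r.W ⊔ img x r.W = ⊤ := by
    apply Submodule.eq_top_of_finrank_eq
    have h1 := Submodule.finrank_sup_add_finrank_inf_eq r.W (img x r.W)
    rw [hK, finrank_bot, add_zero, hfrW, hfrW'] at h1
    rw [h1, Module.finrank_fintype_fun_eq_card, Fintype.card_fun, Fintype.card_fin, Fintype.card_fin, hk, pow_succ]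
    ring
  -- the key identity on `R''`
  obtain ⟨δ, hδ⟩ : ∃ δ : Matrix (Fin k) (Fin k) F,
      δ = (2 : F) • A₀ + (-(2 * μ₀)) • (1 : Matrix (Fin k) (Fin k) F) + (-(1 - μ₀)) • (A₁ + 1) := ⟨_, rfl⟩
  have hslotδ : ∀ v : Idx (t + 1) k → F, slot k (t + 1) r.i δ *ᵥ v =
      (2 : F) • (mv T₀ v - μ₀ • v) - (1 - μ₀) • (mv T₁ v + v) := by
    intro v
    unfold mv
    rw [hδ, slot_add, slot_add, slot_smul, slot_smul, slot_smul, slot_add, slot_one, ← hT₀v, ← hT₁v,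
      Matrix.add_mulVec, Matrix.add_mulVec, Matrix.smul_mulVec, Matrix.smul_mulVec, Matrix.smul_mulVec,
      Matrix.add_mulVec, Matrix.one_mulVec]
    module
  have hkill : ∀ v ∈ img x r.W, slot k (t + 1) r.i δ *ᵥ v = 0 := by
    intro v hv
    rw [hslotδ]
    apply eq_zero_of_mv18 x
    have hxv : mv x v ∈ r.W ⊔ img x r.W := by rw [hsup]; exact Submodule.mem_top
    obtain ⟨p, hp, p'', hp'', hpp⟩ := Submodule.mem_sup.1 hxv
    have e₁ := sub_eq_zero.1 ((Submodule.mem_bot F).1 (hT₁c v hv p hp p'' hp'' hpp.symm))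
    have e₀ := sub_eq_zero.1 ((Submodule.mem_bot F).1 (hT₀c v hv p hp p'' hp'' hpp.symm))
    rw [mv_sub18, mv_smul18, mv_smul18, mv_sub18, mv_add18, mv_smul18, e₁, e₀, ← hpp]
    module
  -- `δ y ≠ 0`
  have hδy : δ *ᵥ r.y = (2 * (μ₀⁻¹ - μ₀)) • r.y := by
    rw [hδ, Matrix.add_mulVec, Matrix.add_mulVec, Matrix.smul_mulVec, Matrix.smul_mulVec, Matrix.smul_mulVec,
      Matrix.add_mulVec, Matrix.one_mulVec, hA₀y, hA₁y]
    have : (-1 : F)⁻¹ = -1 := by rw [inv_neg, inv_one]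
    rw [this]
    module
  have hcoef : (2 * (μ₀⁻¹ - μ₀) : F) ≠ 0 := by
    apply mul_ne_zero h2
    intro h
    apply hμ₀2
    have h' : μ₀⁻¹ = μ₀ := sub_eq_zero.1 h
    rw [pow_two]
    nth_rewrite 1 [← h']
    exact inv_mul_cancel₀ hμ₀0
  obtain ⟨S, hS⟩ : ∃ S : Submodule F (Fin k → F), S = LinearMap.ker (Matrix.toLin' δ) := ⟨_, rfl⟩
  have hyS : r.y ∉ S := by
    rw [hS, LinearMap.mem_ker, Matrix.toLin'_apply, hδy]
    exact smul_ne_zero hcoef r.hy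
  have hle : img x r.W ≤ fib r.i S := by
    intro v hv
    rw [hS]
    exact mem_fib_ker_of_slot18 r.i δ v (hkill v hv)
  have hkt : 0 < k ^ t := Nat.pow_pos (by omega)
  have hfrS1 : 1 ≤ Module.finrank F S := by
    have h1 := Submodule.finrank_mono hle
    rw [hfrW', Cfsg.Agent.Lib.Helper26.TWLeaf.finrank_fib, Nat.add_sub_cancel] at h1
    by_contra hcon
    have : Module.finrank F S = 0 := by omega
    rw [this, mul_zero] at h1
    omega
  have hfrS2 : Module.finrank F S < 2 := by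
    have hlt : S < ⊤ := lt_top_iff_ne_top.2 (fun h => hyS (by rw [h]; exact Submodule.mem_top))
    have h1 := Submodule.finrank_lt_finrank_of_lt hlt
    rw [finrank_top, Module.finrank_fintype_fun_eq_card, Fintype.card_fin] at h1
    omega
  have hfrS : Module.finrank F S = 1 := by omega
  have hSne : S ≠ ⊥ := by
    intro h
    rw [h, finrank_bot] at hfrS
    omega
  obtain ⟨z, hzS, hz0⟩ := Submodule.exists_mem_ne_zero_of_ne_bot hSne
  have hSz : (F ∙ z) = S := by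
    apply Submodule.eq_of_le_of_finrank_eq
    · rw [Submodule.span_singleton_le_iff_mem]
      exact hzS
    · rw [finrank_span_singleton hz0, hfrS]
  have heq : img x (Wf r.i r.y) = Wf r.i z := by
    rw [← hW]
    apply Submodule.eq_of_le_of_finrank_eq
    · unfold Wf
      rw [hSz]
      exact hle
    · rw [hfrW']
      unfold Wf
      rw [Cfsg.Agent.Lib.Helper26.TWLeaf.finrank_fib, finrank_span_singleton hz0, mul_one, Nat.add_sub_cancel]
  exact hxG (c.ns x hxX ⟨r.i, r.i, r.y, z, r.hy, hz0, trivial, trivial, heq⟩)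

end Cfsg.Agent.Lib.Helper18.TWSLeaf
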