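import Mathlib

set_option autoImplicit false

/-!
General lemmas on finite group actions used for the proof that the Tits group has no faithful
doubly transitive action: fixed point counts of conjugates and powers, orders of subgroups fixing
one or two points of a doubly transitive action, orbit-stabiliser for a subgroup.
-/

namespace Cfsg.Agent.Lib.Helper18.TitsTT

open MulAction

variable {G : Type*} [Group G] {Ω : Type*} [MulAction G Ω]

/-- the number of fixed points of an element -/
noncomputable def fx (Ω : Type*) [MulAction G Ω] (g : G) : ℕ := (fixedBy Ω g).ncard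

theorem fx_conj (g h : G) : fx Ω (h * g * h⁻¹) = fx Ω g := by
  unfold fx
  rw [← smul_fixedBy, ← Set.image_smul]
  exact Set.ncard_image_of_injective _ (MulAction.injective h)

theorem fixedBy_subset_pow (g : G) (k : ℕ) : fixedBy Ω g ⊆ fixedBy Ω (g ^ k) := by
  have := fixedBy_subset_fixedBy_zpow Ω g (k : ℤ)
  rwa [zpow_natCast] at this

theorem fixedBy_pow_eq (g : G) (k k' : ℕ) (h : (g ^ k) ^ k' = g) :
    fixedBy Ω (g ^ k) = fixedBy Ω g := by
  apply Set.Subset.antisymm
  · have := fixedBy_subset_pow (Ω := Ω) (g ^ k) k'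
    rwa [h] at this
  · exact fixedBy_subset_pow g k

theorem pow_mod_five (g : G) (hg : g ^ 5 = 1) (k : ℕ) : g ^ k = g ^ (k % 5) := by
  conv_lhs => rw [← Nat.mod_add_div k 5]
  rw [pow_add, pow_mul, hg, one_pow, mul_one]

theorem fixedBy_pow_five (g : G) (hg : g ^ 5 = 1) (k : ℕ) (hk : g ^ k ≠ 1) :
    fixedBy Ω (g ^ k) = fixedBy Ω g := by
  rw [pow_mod_five g hg k] at hk ⊢
  have hlt : k % 5 < 5 := Nat.mod_lt _ (by norm_num)
  have h6 : g ^ 6 = g := by rw [show 6 = 5 + 1 from rfl, pow_add, hg, one_mul, pow_one]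
  have h16 : g ^ 16 = g := by
    rw [show 16 = 5 * 3 + 1 from rfl, pow_add, pow_mul, hg, one_pow, one_mul, pow_one]
  interval_cases (k % 5)
  · exact absurd (pow_zero g) hk
  · rw [pow_one]
  · exact fixedBy_pow_eq g 2 3 (by rw [← pow_mul]; exact h6)
  · exact fixedBy_pow_eq g 3 2 (by rw [← pow_mul]; exact h6)
  · exact fixedBy_pow_eq g 4 4 (by rw [← pow_mul]; exact h16)

/-- elements of order five generating the same cyclic group up to conjugacy have the same number of
fixed points -/
theorem fx_eq_of_conj_pow (y e g : G) (k : ℕ) (he : e ^ 5 = 1) (hy : y ≠ 1)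
    (h : g * y * g⁻¹ = e ^ k) : fx Ω e = fx Ω y := by
  have hk : e ^ k ≠ 1 := by
    intro h1
    rw [h1] at h
    apply hy
    have : y = g⁻¹ * (g * y * g⁻¹) * g := by group
    rw [this, h]
    group
  rw [← fx_conj y g, h]
  unfold fx
  rw [fixedBy_pow_five e he k hk]

section transitive

variable [Finite G] [Finite Ω]

theorem card_mul_of_fix1 [IsPretransitive G Ω] (P : Subgroup G) (α : Ω)
    (h : ∀ g ∈ P, g • α = α) : Nat.card P * Nat.card Ω ∣ Nat.card G := by
  have hle : P ≤ stabilizer G α := fun g hg => mem_stabilizer_iff.mpr (h g hg)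
  have h1 := Subgroup.card_dvd_of_le hle
  have h2 : Nat.card (stabilizer G α) * Nat.card Ω = Nat.card G := by
    rw [← index_stabilizer_of_transitive G α]
    exact Subgroup.card_mul_index _
  rw [← h2]
  exact Nat.mul_dvd_mul_right h1 _

theorem card_mul_of_fix2 (h2t : IsMultiplyPretransitive G Ω 2) (P : Subgroup G) (α β : Ω)
    (hne : α ≠ β) (hα : ∀ g ∈ P, g • α = α) (hβ : ∀ g ∈ P, g • β = β) :
    Nat.card P * (Nat.card Ω * (Nat.card Ω - 1)) ∣ Nat.card G := by
  have hle : P ≤ fixingSubgroup G ({α, β} : Set Ω) := by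
    intro g hg
    rw [mem_fixingSubgroup_iff]
    intro y hy
    rcases hy with rfl | hy
    · exact hα g hg
    · rw [Set.mem_singleton_iff] at hy
      rw [hy]
      exact hβ g hg
  have hnc : ({α, β} : Set Ω).ncard = 2 := Set.ncard_pair hne
  have hidx := IsMultiplyPretransitive.index_of_fixingSubgroup_eq (G := G) ({α, β} : Set Ω)
    (by rw [hnc]; exact h2t)
  rw [hnc] at hidx
  have hch : Nat.choose (Nat.card Ω) 2 * Nat.factorial 2 = Nat.card Ω * (Nat.card Ω - 1) := by
    rw [Nat.choose_two_right, Nat.factorial_two]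
    exact Nat.div_mul_cancel (Nat.even_mul_pred_self _).two_dvd
  rw [hch] at hidx
  have h1 := Subgroup.card_dvd_of_le hle
  have h2 : Nat.card (fixingSubgroup G ({α, β} : Set Ω)) * (Nat.card Ω * (Nat.card Ω - 1)) =
      Nat.card G := by
    rw [← hidx]
    exact Subgroup.card_mul_index _
  rw [← h2]
  exact Nat.mul_dvd_mul_right h1 _

end transitive

/-- orbit-stabiliser for a subgroup acting by restriction -/
theorem card_inf_stabilizer_mul [Finite G] (H : Subgroup G) (x : Ω) :
    Nat.card (H ⊓ stabilizer G x : Subgroup G) * (orbit H x).ncard = Nat.card H := by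
  have h1 : (stabilizer H x).index = (orbit H x).ncard := index_stabilizer H x
  have h2 : stabilizer H x = (H ⊓ stabilizer G x).subgroupOf H := by
    ext g
    rw [Subgroup.mem_subgroupOf, Subgroup.mem_inf, mem_stabilizer_iff, mem_stabilizer_iff]
    constructor
    · intro h
      exact ⟨g.2, h⟩
    · intro h
      exact h.2
  have h3 : Nat.card ((H ⊓ stabilizer G x).subgroupOf H) = Nat.card (H ⊓ stabilizer G x : Subgroup G) :=
    Nat.card_congr (Subgroup.subgroupOfEquivOfLe inf_le_left).toEquiv
  rw [← h1, ← h3, ← h2]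
  exact Subgroup.card_mul_index _

end Cfsg.Agent.Lib.Helper18.TitsTT
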