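import Mathlib

set_option autoImplicit false

/-!
The elementary abelian group of order 25 generated by two commuting elements of order five:
normal form of its elements, its order, conjugation by elements normalising it.
-/

namespace Cfsg.Agent.Lib.Helper18.TitsTT

variable {G : Type*} [Group G]

theorem exists_mod_inv (a : ℕ) (ha : a % 5 ≠ 0) : ∃ a', (a * a') % 5 = 1 := by
  have hlt : a % 5 < 5 := Nat.mod_lt _ (by norm_num)
  have h : a % 5 = 1 ∨ a % 5 = 2 ∨ a % 5 = 3 ∨ a % 5 = 4 := by omega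
  rcases h with h | h | h | h
  · exact ⟨1, by omega⟩
  · exact ⟨3, by omega⟩
  · exact ⟨2, by omega⟩
  · exact ⟨4, by omega⟩

/-- the element `y1 ^ a * y2 ^ b` -/
def el (y1 y2 : G) (a b : ℕ) : G := y1 ^ a * y2 ^ b

/-- the group generated by `y1` and `y2` -/
def EE (y1 y2 : G) : Subgroup G := Subgroup.closure {y1, y2}

section

variable {y1 y2 : G} (hc : y1 * y2 = y2 * y1)

include hc in
theorem el_mul (a b a' b' : ℕ) :
    el y1 y2 a b * el y1 y2 a' b' = el y1 y2 (a + a') (b + b') := by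
  unfold el
  have h : Commute (y2 ^ b) (y1 ^ a') := ((Commute.pow_pow (show Commute y1 y2 from hc) a' b)).symm
  rw [pow_add, pow_add]
  calc y1 ^ a * y2 ^ b * (y1 ^ a' * y2 ^ b') = y1 ^ a * (y2 ^ b * y1 ^ a') * y2 ^ b' := by group
    _ = y1 ^ a * (y1 ^ a' * y2 ^ b) * y2 ^ b' := by rw [h.eq]
    _ = y1 ^ a * y1 ^ a' * (y2 ^ b * y2 ^ b') := by group

include hc in
theorem el_pow (a b k : ℕ) : el y1 y2 a b ^ k = el y1 y2 (a * k) (b * k) := by
  unfold el
  have h : Commute (y1 ^ a) (y2 ^ b) := Commute.pow_pow (show Commute y1 y2 from hc) a b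
  rw [h.mul_pow, ← pow_mul, ← pow_mul]

variable (h1 : y1 ^ 5 = 1) (h2 : y2 ^ 5 = 1)

include h1 h2 in
theorem el_mod (a b : ℕ) : el y1 y2 a b = el y1 y2 (a % 5) (b % 5) := by
  unfold el
  conv_lhs => rw [← Nat.mod_add_div a 5, ← Nat.mod_add_div b 5]
  rw [pow_add, pow_add, pow_mul, pow_mul, h1, h2, one_pow, one_pow, mul_one, mul_one]

include hc h1 h2 in
theorem el_inv (a b : ℕ) : (el y1 y2 a b)⁻¹ = el y1 y2 (4 * a) (4 * b) := by
  rw [inv_eq_iff_mul_eq_one, el_mul hc, el_mod h1 h2]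
  have ha : (a + 4 * a) % 5 = 0 := by omega
  have hb : (b + 4 * b) % 5 = 0 := by omega
  rw [ha, hb]
  unfold el
  rw [pow_zero, pow_zero, mul_one]

theorem el_mem (a b : ℕ) : el y1 y2 a b ∈ EE y1 y2 := by
  unfold el EE
  apply Subgroup.mul_mem
  · exact Subgroup.pow_mem _ (Subgroup.subset_closure (by simp)) _
  · exact Subgroup.pow_mem _ (Subgroup.subset_closure (by simp)) _

include hc h1 h2 in
theorem mem_EE_iff (e : G) : e ∈ EE y1 y2 ↔ ∃ a b : ℕ, e = el y1 y2 a b := by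
  constructor
  · intro he
    unfold EE at he
    induction he using Subgroup.closure_induction with
    | mem x hx =>
      rcases hx with rfl | hx
      · exact ⟨1, 0, by unfold el; rw [pow_one, pow_zero, mul_one]⟩
      · rw [Set.mem_singleton_iff] at hx
        exact ⟨0, 1, by unfold el; rw [hx, pow_one, pow_zero, one_mul]⟩
    | one => exact ⟨0, 0, by unfold el; rw [pow_zero, pow_zero, mul_one]⟩
    | mul x y _ _ ihx ihy =>
      obtain ⟨a, b, rfl⟩ := ihx
      obtain ⟨a', b', rfl⟩ := ihy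
      exact ⟨a + a', b + b', el_mul hc a b a' b'⟩
    | inv x _ ihx =>
      obtain ⟨a, b, rfl⟩ := ihx
      exact ⟨4 * a, 4 * b, el_inv hc h1 h2 a b⟩
  · rintro ⟨a, b, rfl⟩
    exact el_mem a b

include hc h1 h2 in
theorem pow_five_of_mem {e : G} (he : e ∈ EE y1 y2) : e ^ 5 = 1 := by
  obtain ⟨a, b, rfl⟩ := (mem_EE_iff hc h1 h2 e).mp he
  rw [el_pow hc, el_mod h1 h2]
  have ha : a * 5 % 5 = 0 := by omega
  have hb : b * 5 % 5 = 0 := by omega
  rw [ha, hb]
  unfold el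
  rw [pow_zero, pow_zero, mul_one]

include hc h1 h2 in
theorem card_EE [Finite G] (hy1 : y1 ≠ 1) (hy2 : y2 ∉ Subgroup.zpowers y1) :
    Nat.card (EE y1 y2) = 25 := by
  have : Fact (Nat.Prime 5) := ⟨by norm_num⟩
  have hp : IsPGroup 5 (EE y1 y2) := by
    intro g
    refine ⟨1, ?_⟩
    apply Subtype.ext
    rw [pow_one, Subgroup.coe_pow, Subgroup.coe_one]
    exact pow_five_of_mem hc h1 h2 g.2
  obtain ⟨k, hk⟩ := (IsPGroup.iff_card).mp hp
  have hle : Nat.card (EE y1 y2) ≤ 25 := by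
    let f : Fin 5 × Fin 5 → EE y1 y2 := fun p => ⟨el y1 y2 p.1.val p.2.val, el_mem _ _⟩
    have hf : Function.Surjective f := by
      rintro ⟨e, he⟩
      obtain ⟨a, b, rfl⟩ := (mem_EE_iff hc h1 h2 e).mp he
      refine ⟨(⟨a % 5, Nat.mod_lt _ (by norm_num)⟩, ⟨b % 5, Nat.mod_lt _ (by norm_num)⟩), ?_⟩
      apply Subtype.ext
      exact (el_mod h1 h2 a b).symm
    have := Nat.card_le_card_of_surjective f hf
    simpa using this
  have hz : Subgroup.zpowers y1 ≤ EE y1 y2 := by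
    rw [Subgroup.zpowers_le]
    exact Subgroup.subset_closure (by simp)
  have ho : orderOf y1 = 5 := orderOf_eq_prime h1 hy1
  have hcz : Nat.card (Subgroup.zpowers y1) = 5 := by rw [Nat.card_zpowers, ho]
  have hdvd : 5 ∣ Nat.card (EE y1 y2) := by
    rw [← hcz]
    exact Subgroup.card_dvd_of_le hz
  have hne : Nat.card (EE y1 y2) ≠ 5 := by
    intro h5
    have heq : Subgroup.zpowers y1 = EE y1 y2 :=
      Subgroup.eq_of_le_of_card_ge hz (by rw [h5, hcz])
    apply hy2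
    rw [heq]
    exact Subgroup.subset_closure (by simp)
  rw [hk] at hle hdvd hne ⊢
  have hk3 : k < 3 := by
    by_contra h
    have : 5 ^ 3 ≤ 5 ^ k := Nat.pow_le_pow_right (by norm_num) (not_lt.mp h)
    omega
  interval_cases k
  · norm_num at hdvd
  · exact absurd rfl hne
  · rfl

/-- conjugation by an element mapping the generators into the group preserves the group -/
theorem conj_mem_EE (g : G) (hg1 : g * y1 * g⁻¹ ∈ EE y1 y2) (hg2 : g * y2 * g⁻¹ ∈ EE y1 y2) :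
    ∀ e ∈ EE y1 y2, g * e * g⁻¹ ∈ EE y1 y2 := by
  have hle : EE y1 y2 ≤ (EE y1 y2).comap (MulAut.conj g).toMonoidHom := by
    unfold EE
    rw [Subgroup.closure_le]
    intro x hx
    rcases hx with rfl | hx
    · exact hg1
    · rw [Set.mem_singleton_iff] at hx
      rw [hx]
      exact hg2
  intro e he
  exact hle he

include hc h1 h2 in
/-- all non-identity elements are conjugate to powers of `y1` once the five elements
`y1 ^ m * y2` are -/
theorem exists_conj_pow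
    (hconj : ∀ m : ℕ, m < 5 → ∃ (g : G) (j : ℕ), g * y1 * g⁻¹ = el y1 y2 m 1 ^ j)
    (e : G) (he : e ∈ EE y1 y2) (hne : e ≠ 1) :
    ∃ (g : G) (k : ℕ), g * y1 * g⁻¹ = e ^ k := by
  obtain ⟨a, b, rfl⟩ := (mem_EE_iff hc h1 h2 e).mp he
  by_cases hb : b % 5 = 0
  · -- the element is a power of `y1`
    refine ⟨1, ?_⟩
    have ha : a % 5 ≠ 0 := by
      intro ha
      apply hne
      rw [el_mod h1 h2, ha, hb]
      unfold el
      rw [pow_zero, pow_zero, mul_one]
    obtain ⟨a', ha'⟩ := exists_mod_inv a ha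
    refine ⟨a', ?_⟩
    rw [el_pow hc, el_mod h1 h2, ha']
    have : b * a' % 5 = 0 := by
      rw [Nat.mul_mod, hb, zero_mul, Nat.zero_mod]
    rw [this]
    unfold el
    rw [pow_one, pow_zero, mul_one, one_mul, inv_one, mul_one]
  · obtain ⟨b', hb'⟩ := exists_mod_inv b hb
    obtain ⟨g, j, hg⟩ := hconj ((a * b') % 5) (Nat.mod_lt _ (by norm_num))
    refine ⟨g, b' * j, ?_⟩
    rw [hg, pow_mul]
    congr 1
    rw [el_pow hc, el_mod h1 h2 (a * b'), hb']

end

section invol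

variable {y1 y2 z : G} (hc : y1 * y2 = y2 * y1) (h1 : y1 ^ 5 = 1) (h2 : y2 ^ 5 = 1)
  (hy2 : y2 ≠ 1) (hz1 : z * y1 = y1 * z) (hz2 : z * y2 * z⁻¹ = y2⁻¹)

include h2 hy2 in
theorem pow_eq_one_five_dvd (k : ℕ) (h : y2 ^ k = 1) : 5 ∣ k := by
  have : Fact (Nat.Prime 5) := ⟨by norm_num⟩
  have ho : orderOf y2 = 5 := orderOf_eq_prime h2 hy2
  rw [← ho]
  exact orderOf_dvd_of_pow_eq_one h

include h2 hy2 hz1 hz2 in
theorem not_mem_zpowers : y2 ∉ Subgroup.zpowers y1 := by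
  intro hm
  obtain ⟨k, hk⟩ := Subgroup.mem_zpowers_iff.mp hm
  have hcz : Commute z (y1 ^ k) := (show Commute z y1 from hz1).zpow_right k
  rw [hk] at hcz
  have h3 : z * y2 * z⁻¹ = y2 := by rw [hcz.eq, mul_inv_cancel_right]
  rw [hz2] at h3
  have h4 : y2 ^ 2 = 1 := by
    rw [pow_two]
    calc y2 * y2 = y2⁻¹ * y2 := by rw [h3]
      _ = 1 := inv_mul_cancel y2
  have := pow_eq_one_five_dvd h2 hy2 2 h4
  omega

include hc h1 h2 hy2 hz1 hz2 in
theorem mem_zpowers_of_commute (e : G) (he : e ∈ EE y1 y2) (hze : z * e = e * z) :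
    e ∈ Subgroup.zpowers y1 := by
  obtain ⟨a, b, rfl⟩ := (mem_EE_iff hc h1 h2 e).mp he
  unfold el at hze ⊢
  have hza : Commute z (y1 ^ a) := (show Commute z y1 from hz1).pow_right a
  have hzb : z * y2 ^ b * z⁻¹ = (y2⁻¹) ^ b := by
    rw [← hz2, conj_pow]
  have h3 : z * (y1 ^ a * y2 ^ b) * z⁻¹ = y1 ^ a * (y2⁻¹) ^ b := by
    rw [← hzb]
    calc z * (y1 ^ a * y2 ^ b) * z⁻¹ = (z * y1 ^ a) * y2 ^ b * z⁻¹ := by group
      _ = (y1 ^ a * z) * y2 ^ b * z⁻¹ := by rw [hza.eq]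
      _ = y1 ^ a * (z * y2 ^ b * z⁻¹) := by group
  rw [hze, mul_inv_cancel_right] at h3
  have h4 : y2 ^ b = (y2⁻¹) ^ b := mul_left_cancel h3
  have h5 : y2 ^ (2 * b) = 1 := by
    rw [two_mul, pow_add]
    nth_rewrite 1 [h4]
    rw [inv_pow, inv_mul_cancel]
  have h6 := pow_eq_one_five_dvd h2 hy2 _ h5
  have h7 : 5 ∣ b := by omega
  obtain ⟨t, rfl⟩ := h7
  rw [pow_mul, h2, one_pow, mul_one]
  exact Subgroup.pow_mem _ (Subgroup.mem_zpowers y1) a

end invol

end Cfsg.Agent.Lib.Helper18.TitsTT
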