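import Cfsg.Agent.Lib.Helper18.TitsTTA
import Cfsg.Agent.Lib.Helper18.TitsTTB

set_option autoImplicit false

/-!
A group of order 17971200 with an elementary abelian subgroup `E` of order 25 all of whose
non-identity elements are conjugate to powers of one element `y1`, an involution `z` with
centraliser of order 10240 commuting with `y1`, normalising `E` with `C_E(z) = ⟨y1⟩`, and an element
`c` of order three normalising `E`, has no faithful doubly transitive action.  Part 1: Burnside's
count on `E` and the degrees other than 25, 26, 27.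
-/

namespace Cfsg.Agent.Lib.Helper18.TitsTT

open MulAction

/-- the data -/
structure Dat (G : Type*) [Group G] where
  E : Subgroup G
  y1 : G
  z : G
  c : G
  cardG : Nat.card G = 17971200
  cardE : Nat.card E = 25
  y1_mem : y1 ∈ E
  y1_ne : y1 ≠ 1
  pow5 : ∀ e ∈ E, e ^ 5 = 1
  conj : ∀ e ∈ E, e ≠ 1 → ∃ (g : G) (k : ℕ), g * y1 * g⁻¹ = e ^ k
  z_sq : z * z = 1
  z_ne : z ≠ 1
  cardC : Nat.card (Subgroup.centralizer {z}) = 10240
  z_y1 : z * y1 = y1 * z
  z_norm : ∀ e ∈ E, z * e * z⁻¹ ∈ E
  z_cent : ∀ e ∈ E, z * e = e * z → e ∈ Subgroup.zpowers y1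
  c_pow : c ^ 3 = 1
  c_ne : c ≠ 1
  c_norm : ∀ e ∈ E, c * e * c⁻¹ ∈ E

variable {G : Type*} [Group G] [Finite G] (D : Dat G) {Ω : Type*} [Finite Ω] [MulAction G Ω]

theorem fx_E (e : G) (he : e ∈ D.E) (hne : e ≠ 1) : fx Ω e = fx Ω D.y1 := by
  obtain ⟨g, k, h⟩ := D.conj e he hne
  exact fx_eq_of_conj_pow D.y1 e g k (D.pow5 e he) D.y1_ne h

theorem fx_one : fx Ω (1 : G) = Nat.card Ω := by
  unfold fx
  rw [fixedBy_one_eq_univ, Set.ncard_univ]

/-- Burnside's count for `E` -/
theorem burnside_E : ∃ k : ℕ, Nat.card Ω + 24 * fx Ω D.y1 = 25 * k ∧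
    ((∀ ω : Ω, ∃ e ∈ D.E, e • ω ≠ ω) → 5 * k ≤ Nat.card Ω) := by
  classical
  have : Fintype D.E := Fintype.ofFinite _
  have : Fintype Ω := Fintype.ofFinite _
  have : ∀ g : D.E, Fintype (fixedBy Ω g) := fun g => Fintype.ofFinite _
  have : Fintype (Quotient (orbitRel D.E Ω)) := Fintype.ofFinite _
  have hB := sum_card_fixedBy_eq_card_orbits_mul_card_group D.E Ω
  refine ⟨Fintype.card (Quotient (orbitRel D.E Ω)), ?_, ?_⟩
  · have hcE : Fintype.card D.E = 25 := by rw [Fintype.card_eq_nat_card, D.cardE]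
    rw [hcE] at hB
    rw [mul_comm 25, ← hB, ← Finset.add_sum_erase Finset.univ _ (Finset.mem_univ (1 : D.E))]
    congr 1
    · rw [Fintype.card_eq_nat_card]
      have : fixedBy Ω (1 : D.E) = Set.univ := fixedBy_one_eq_univ _ _
      rw [this, Nat.card_coe_set_eq, Set.ncard_univ]
    · have h1 : ∀ e ∈ Finset.univ.erase (1 : D.E), Fintype.card (fixedBy Ω e) = fx Ω D.y1 := by
        intro e he
        have hne : e ≠ 1 := (Finset.mem_erase.mp he).1
        have hne' : (e : G) ≠ 1 := fun h => hne (Subtype.ext h)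
        rw [Fintype.card_eq_nat_card, Nat.card_coe_set_eq, ← fx_E D (e : G) e.2 hne']
        rfl
      rw [Finset.sum_congr rfl h1, Finset.sum_const, Finset.card_erase_of_mem (Finset.mem_univ _),
        Finset.card_univ, hcE, smul_eq_mul]
  · intro hnf
    have hcard : Nat.card Ω =
        ∑ ω : Quotient (orbitRel D.E Ω), (stabilizer D.E ω.out).index := by
      rw [Nat.card_congr (selfEquivSigmaOrbitsQuotientStabilizer D.E Ω), Nat.card_sigma]
      rfl
    rw [hcard]
    have hge : ∀ ω : Quotient (orbitRel D.E Ω), 5 ≤ (stabilizer D.E ω.out).index := by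
      intro ω
      have hdvd : (stabilizer D.E ω.out).index ∣ 25 := by
        rw [← D.cardE]
        exact Subgroup.index_dvd_card _
      have hne1 : (stabilizer D.E ω.out).index ≠ 1 := by
        intro h1
        rw [Subgroup.index_eq_one] at h1
        obtain ⟨e, he, hmove⟩ := hnf ω.out
        apply hmove
        have : (⟨e, he⟩ : D.E) ∈ stabilizer D.E ω.out := by rw [h1]; exact Subgroup.mem_top _
        exact mem_stabilizer_iff.mp this
      have hle : (stabilizer D.E ω.out).index ≤ 25 := Nat.le_of_dvd (by norm_num) hdvd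
      have hpos : 0 < (stabilizer D.E ω.out).index := Nat.pos_of_dvd_of_pos hdvd (by norm_num)
      generalize (stabilizer D.E ω.out).index = d at *
      interval_cases d <;> first | omega | (norm_num at hdvd)
    calc 5 * Fintype.card (Quotient (orbitRel D.E Ω))
        = ∑ _ω : Quotient (orbitRel D.E Ω), 5 := by
          rw [Finset.sum_const, Finset.card_univ, smul_eq_mul, mul_comm]
      _ ≤ _ := Finset.sum_le_sum fun ω _ => hge ω

end Cfsg.Agent.Lib.Helper18.TitsTT
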