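import Cfsg.Agent.Lib.Helper18.TitsTTC

set_option autoImplicit false

/-!
Part 2: general lemmas on the action of `E` and of the involution `z`, and the degree 27.
-/

namespace Cfsg.Agent.Lib.Helper18.TitsTT

open MulAction

variable {G : Type*} [Group G] [Finite G] (D : Dat G) {Ω : Type*} [Finite Ω] [MulAction G Ω]

theorem fx_lt [FaithfulSMul G Ω] : fx Ω D.y1 < Nat.card Ω := by
  unfold fx
  rw [← Set.ncard_univ]
  apply Set.ncard_lt_ncard _ (Set.toFinite _)
  rw [Set.ssubset_univ_iff]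
  intro h
  exact D.y1_ne (fixedBy_eq_univ_iff_eq_one.mp h)

/-- the points fixed by all of `E` -/
def FP (Ω : Type*) [MulAction G Ω] : Set Ω := {ω | ∀ e ∈ D.E, e • ω = ω}

theorem FP_eq : FP D Ω = fixedPoints D.E Ω := by
  ext ω
  unfold FP
  rw [mem_fixedPoints, Set.mem_ofPred_eq]
  constructor
  · intro h e
    exact h e.1 e.2
  · intro h e he
    exact h ⟨e, he⟩

theorem FP_subset : FP D Ω ⊆ fixedBy Ω D.y1 := fun _ h => h D.y1 D.y1_mem

theorem FP_modEq : Nat.card Ω ≡ (FP D Ω).ncard [MOD 5] := by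
  have : Fact (Nat.Prime 5) := ⟨by norm_num⟩
  have hp : IsPGroup 5 D.E := IsPGroup.of_card (n := 2) (by rw [D.cardE]; norm_num)
  have := hp.card_modEq_card_fixedPoints Ω
  rw [FP_eq, ← Nat.card_coe_set_eq]
  exact this

theorem inv_smul_mem_FP (g : G) (hg : ∀ e ∈ D.E, g * e * g⁻¹ ∈ D.E) (ω : Ω) (hω : ω ∈ FP D Ω) :
    g⁻¹ • ω ∈ FP D Ω := by
  intro e he
  have h1 := hω _ (hg e he)
  calc e • g⁻¹ • ω = g⁻¹ • (g * e * g⁻¹) • ω := by
        rw [← mul_smul, ← mul_smul]
        congr 1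
        group
    _ = g⁻¹ • ω := by rw [h1]

/-- if no non-identity element of `E` fixes `β`, the orbit map at `β` of a subgroup of `E` is
injective -/
theorem orbit_map_injective' (H : Subgroup G) (hH : H ≤ D.E) (β : Ω)
    (hβ : ∀ e ∈ D.E, e ≠ 1 → e • β ≠ β) :
    Function.Injective (fun e : H => (e : G) • β) := by
  intro e e' h
  have h1 : ((e' : G)⁻¹ * (e : G)) • β = β := by
    rw [mul_smul]
    change (e : G) • β = (e' : G) • β at h
    rw [h, inv_smul_smul]
  by_contra hne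
  apply hβ _ (D.E.mul_mem (D.E.inv_mem (hH e'.2)) (hH e.2)) _ h1
  intro h2
  apply hne
  apply Subtype.ext
  rw [inv_mul_eq_one] at h2
  exact h2.symm

theorem orbit_map_injective (β : Ω) (hβ : ∀ e ∈ D.E, e ≠ 1 → e • β ≠ β) :
    Function.Injective (fun e : D.E => (e : G) • β) :=
  orbit_map_injective' D D.E le_rfl β hβ

/-- a point `e • β` fixed by `z`, where `z` fixes `β`, has `e` in `⟨y1⟩` -/
theorem mem_zpowers_of_fixed (β : Ω) (hβ : ∀ e ∈ D.E, e ≠ 1 → e • β ≠ β) (hzβ : D.z • β = β)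
    (e : G) (he : e ∈ D.E) (hz : D.z • e • β = e • β) : e ∈ Subgroup.zpowers D.y1 := by
  apply D.z_cent e he
  have h1 : (D.z * e * D.z⁻¹) • β = e • β := by
    rw [mul_smul, mul_smul]
    have : D.z⁻¹ • β = β := by rw [inv_smul_eq_iff, hzβ]
    rw [this, hz]
  have h2 := orbit_map_injective D β hβ
    (a₁ := ⟨D.z * e * D.z⁻¹, D.z_norm e he⟩) (a₂ := ⟨e, he⟩) h1
  have h3 : D.z * e * D.z⁻¹ = e := congrArg Subtype.val h2
  calc D.z * e = (D.z * e * D.z⁻¹) * D.z := by group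
    _ = e * D.z := by rw [h3]

/-- the `⟨y1⟩`-orbit of a point has at most five elements -/
theorem ncard_range_zpowers_le (β : Ω) :
    (Set.range (fun y : Subgroup.zpowers D.y1 => (y : G) • β)).ncard ≤ 5 := by
  have : Fact (Nat.Prime 5) := ⟨by norm_num⟩
  have h5 : Nat.card (Subgroup.zpowers D.y1) = 5 := by
    rw [Nat.card_zpowers, orderOf_eq_prime (D.pow5 _ D.y1_mem) D.y1_ne]
  rw [← h5, ← Nat.card_coe_set_eq]
  exact Finite.card_range_le _

theorem zpowers_le_E : Subgroup.zpowers D.y1 ≤ D.E := by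
  rw [Subgroup.zpowers_le]
  exact D.y1_mem

theorem y1_mem_centralizer : D.y1 ∈ Subgroup.centralizer {D.z} := by
  rw [Subgroup.mem_centralizer_iff]
  intro h hh
  rw [Set.mem_singleton_iff] at hh
  rw [hh]
  exact D.z_y1

theorem zpowers_le_centralizer : Subgroup.zpowers D.y1 ≤ Subgroup.centralizer {D.z} := by
  rw [Subgroup.zpowers_le]
  exact y1_mem_centralizer D

/-- the centraliser of `z` permutes the fixed points of `z` -/
theorem smul_mem_fixedBy_z (g : G) (hg : g ∈ Subgroup.centralizer {D.z}) (ω : Ω)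
    (hω : ω ∈ fixedBy Ω D.z) : g • ω ∈ fixedBy Ω D.z := by
  rw [mem_fixedBy] at hω ⊢
  have h := (Subgroup.mem_centralizer_iff.mp hg) D.z rfl
  rw [← mul_smul, h, mul_smul, hω]

theorem orbit_subset_fixedBy_z (H : Subgroup G) (hH : H ≤ Subgroup.centralizer {D.z}) (ω : Ω)
    (hω : ω ∈ fixedBy Ω D.z) : orbit H ω ⊆ fixedBy Ω D.z := by
  rintro _ ⟨g, rfl⟩
  exact smul_mem_fixedBy_z D g.1 (hH g.2) ω hω

/-- parity of the number of fixed points of `z` -/
theorem fx_z_modEq : Nat.card Ω ≡ fx Ω D.z [MOD 2] := by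
  have : Fact (Nat.Prime 2) := ⟨by norm_num⟩
  have ho : orderOf D.z = 2 := orderOf_eq_prime (by rw [pow_two]; exact D.z_sq) D.z_ne
  have hp : IsPGroup 2 (Subgroup.zpowers D.z) :=
    IsPGroup.of_card (n := 1) (by rw [Nat.card_zpowers, ho, pow_one])
  have h := hp.card_modEq_card_fixedPoints Ω
  have heq : fixedPoints (Subgroup.zpowers D.z) Ω = fixedBy Ω D.z := by
    ext ω
    rw [mem_fixedPoints, mem_fixedBy]
    constructor
    · intro h
      exact h ⟨D.z, Subgroup.mem_zpowers _⟩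
    · rintro h ⟨g, hg⟩
      obtain ⟨k, rfl⟩ := Subgroup.mem_zpowers_iff.mp hg
      exact mem_fixedBy_zpow h k
  rw [heq, Nat.card_coe_set_eq] at h
  exact h

end Cfsg.Agent.Lib.Helper18.TitsTT
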