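import Cfsg.Agent.Lib.Helper18.TitsTTD

set_option autoImplicit false

/-!
Part 3: the degrees 27 and 26.
-/

namespace Cfsg.Agent.Lib.Helper18.TitsTT

open MulAction

variable {G : Type*} [Group G] [Finite G] (D : Dat G) {Ω : Type*} [Finite Ω] [MulAction G Ω]

theorem case27 (h2t : IsMultiplyPretransitive G Ω 2) (hn : Nat.card Ω = 27)
    (hf : fx Ω D.y1 = 2) : False := by
  have hsub := FP_subset D (Ω := Ω)
  have hle : (FP D Ω).ncard ≤ 2 := by
    rw [← hf]
    exact Set.ncard_le_ncard hsub (Set.toFinite _)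
  have hmod := FP_modEq D (Ω := Ω)
  rw [hn] at hmod
  have h2 : (FP D Ω).ncard = 2 := by
    unfold Nat.ModEq at hmod
    omega
  obtain ⟨α, β, hne, hFP⟩ := Set.ncard_eq_two.mp h2
  have hd : ∀ ω ∈ FP D Ω, D.c⁻¹ • ω ∈ FP D Ω := inv_smul_mem_FP D D.c D.c_norm
  have hd3 : ∀ ω : Ω, D.c⁻¹ • D.c⁻¹ • D.c⁻¹ • ω = ω := by
    intro ω
    rw [← mul_smul, ← mul_smul]
    have : D.c⁻¹ * D.c⁻¹ * D.c⁻¹ = (D.c ^ 3)⁻¹ := by group
    rw [this, D.c_pow, inv_one, one_smul]
  have key : ∀ ω ω' : Ω, FP D Ω = {ω, ω'} → ω ≠ ω' → D.c⁻¹ • ω = ω := by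
    intro ω ω' hFP' hne'
    have hω : ω ∈ FP D Ω := by rw [hFP']; exact Set.mem_insert _ _
    have hω' : ω' ∈ FP D Ω := by rw [hFP']; exact Set.mem_insert_of_mem _ rfl
    have h1 := hd ω hω
    have h2 := hd ω' hω'
    rw [hFP'] at h1 h2
    rcases h1 with h1 | h1
    · exact h1
    · rw [Set.mem_singleton_iff] at h1
      exfalso
      rcases h2 with h2 | h2
      · have h3 := hd3 ω
        rw [h1, h2, h1] at h3
        exact hne' h3.symm
      · rw [Set.mem_singleton_iff] at h2
        have : D.c⁻¹ • ω = D.c⁻¹ • ω' := by rw [h1, h2]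
        exact hne' (MulAction.injective _ this)
  have hα : D.c⁻¹ • α = α := key α β hFP hne
  have hβ : D.c⁻¹ • β = β := key β α (by rw [hFP, Set.pair_comm]) hne.symm
  have hα' : D.c • α = α := by
    rw [inv_smul_eq_iff] at hα
    exact hα.symm
  have hβ' : D.c • β = β := by
    rw [inv_smul_eq_iff] at hβ
    exact hβ.symm
  have hPα : ∀ g ∈ Subgroup.zpowers D.c, g • α = α := by
    have : Subgroup.zpowers D.c ≤ stabilizer G α := by
      rw [Subgroup.zpowers_le]
      exact mem_stabilizer_iff.mpr hα'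
    intro g hg
    exact mem_stabilizer_iff.mp (this hg)
  have hPβ : ∀ g ∈ Subgroup.zpowers D.c, g • β = β := by
    have : Subgroup.zpowers D.c ≤ stabilizer G β := by
      rw [Subgroup.zpowers_le]
      exact mem_stabilizer_iff.mpr hβ'
    intro g hg
    exact mem_stabilizer_iff.mp (this hg)
  have hdvd := card_mul_of_fix2 h2t (Subgroup.zpowers D.c) α β hne hPα hPβ
  have : Fact (Nat.Prime 3) := ⟨by norm_num⟩
  rw [Nat.card_zpowers, orderOf_eq_prime D.c_pow D.c_ne, hn, D.cardG] at hdvd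
  norm_num at hdvd

theorem case26 (h2t : IsMultiplyPretransitive G Ω 2) (hn : Nat.card Ω = 26)
    (hf : fx Ω D.y1 = 1) : False := by
  have htr : IsPretransitive G Ω := isPretransitive_of_is_two_pretransitive
  -- the unique fixed point of `E`
  obtain ⟨α, hα⟩ := Set.ncard_eq_one.mp hf
  have hsub := FP_subset D (Ω := Ω)
  have hle : (FP D Ω).ncard ≤ 1 := by
    rw [← hf]
    exact Set.ncard_le_ncard hsub (Set.toFinite _)
  have hmod := FP_modEq D (Ω := Ω)
  rw [hn] at hmod
  have h1 : (FP D Ω).ncard = 1 := by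
    unfold Nat.ModEq at hmod
    omega
  have hFP : FP D Ω = {α} := by
    rw [← hα]
    exact Set.eq_of_subset_of_ncard_le hsub (by rw [h1]; exact hf.le) (Set.toFinite _)
  have hαFP : α ∈ FP D Ω := by rw [hFP]; rfl
  -- non-identity elements of `E` fix only `α`
  have hE1 : ∀ e ∈ D.E, e ≠ 1 → ∀ ω : Ω, e • ω = ω → ω = α := by
    intro e he hne ω hω
    have h := fx_E D (Ω := Ω) e he hne
    rw [hf] at h
    obtain ⟨a, ha⟩ := Set.ncard_eq_one.mp h
    have h1 : α ∈ fixedBy Ω e := hαFP e he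
    have h2 : ω ∈ fixedBy Ω e := hω
    rw [ha] at h1 h2
    rw [Set.mem_singleton_iff] at h1 h2
    rw [h1, h2]
  -- `z` fixes `α`
  have hzα : D.z • α = α := by
    have h := inv_smul_mem_FP D D.z D.z_norm α hαFP
    rw [hFP, Set.mem_singleton_iff, inv_smul_eq_iff] at h
    exact h.symm
  -- another fixed point of `z`
  have hzmod := fx_z_modEq D (Ω := Ω)
  rw [hn] at hzmod
  have hαz : α ∈ fixedBy Ω D.z := hzα
  have hzpos : 0 < fx Ω D.z := (Set.ncard_pos (Set.toFinite _)).mpr ⟨α, hαz⟩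
  have hz2 : 1 < fx Ω D.z := by
    unfold Nat.ModEq at hzmod
    omega
  obtain ⟨β, hβz, hβα⟩ := Set.exists_ne_of_one_lt_ncard hz2 α
  have hβ : ∀ e ∈ D.E, e ≠ 1 → e • β ≠ β := fun e he hne h => hβα (hE1 e he hne β h)
  -- `E` is regular on the complement of `α`
  have hinj := orbit_map_injective D β hβ
  have hR : Set.range (fun e : D.E => (e : G) • β) = {α}ᶜ := by
    apply Set.eq_of_subset_of_ncard_le _ _ (Set.toFinite _)
    · rintro _ ⟨e, rfl⟩ h
      rw [Set.mem_singleton_iff] at h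
      apply hβα
      have h2 : (e : G)⁻¹ • α = α := by
        rw [inv_smul_eq_iff]
        exact (hαFP e.1 e.2).symm
      change (e : G) • β = α at h
      calc β = (e : G)⁻¹ • (e : G) • β := (inv_smul_smul _ _).symm
        _ = (e : G)⁻¹ • α := by rw [h]
        _ = α := h2
    · rw [Set.ncard_range_of_injective hinj, D.cardE, Set.ncard_compl, hn, Set.ncard_singleton]
  -- the fixed points of `z`
  have hfz : fixedBy Ω D.z ⊆
      insert α (Set.range (fun y : Subgroup.zpowers D.y1 => (y : G) • β)) := by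
    intro ω hω
    by_cases hωα : ω = α
    · rw [hωα]
      exact Set.mem_insert _ _
    · have : ω ∈ Set.range (fun e : D.E => (e : G) • β) := by
        rw [hR]
        exact hωα
      obtain ⟨e, rfl⟩ := this
      have hz := mem_zpowers_of_fixed D β hβ hβz e.1 e.2 hω
      exact Set.mem_insert_of_mem _ ⟨⟨e.1, hz⟩, rfl⟩
  have hfz6 : fx Ω D.z ≤ 6 := by
    have h1 := Set.ncard_le_ncard hfz (Set.toFinite _)
    have h2 := Set.ncard_insert_le α (Set.range (fun y : Subgroup.zpowers D.y1 => (y : G) • β))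
    have h3 := ncard_range_zpowers_le D β
    unfold fx
    omega
  -- the centraliser of `z` fixes `α`
  have hCα : ∀ g ∈ Subgroup.centralizer {D.z}, g • α = α := by
    intro g hg
    by_contra hγ
    have hO := orbit_subset_fixedBy_z D (Subgroup.centralizer {D.z}) le_rfl α hαz
    have hO6 : (orbit (Subgroup.centralizer {D.z}) α).ncard ≤ 6 :=
      (Set.ncard_le_ncard hO (Set.toFinite _)).trans hfz6
    have hγ' : ∀ e ∈ D.E, e ≠ 1 → e • g • α ≠ g • α := fun e he hne h => hγ (hE1 e he hne _ h)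
    have hinj' := orbit_map_injective' D (Subgroup.zpowers D.y1) (zpowers_le_E D) (g • α) hγ'
    have hsub' : insert α (Set.range (fun y : Subgroup.zpowers D.y1 => (y : G) • g • α)) ⊆
        orbit (Subgroup.centralizer {D.z}) α := by
      intro ω hω
      rcases hω with rfl | ⟨y, rfl⟩
      · exact mem_orbit_self _
      · refine ⟨⟨(y : G) * g, Subgroup.mul_mem _ (zpowers_le_centralizer D y.2) hg⟩, ?_⟩
        exact mul_smul _ _ _
    have hnot : α ∉ Set.range (fun y : Subgroup.zpowers D.y1 => (y : G) • g • α) := by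
      rintro ⟨y, hy⟩
      apply hγ
      have h2 : (y : G)⁻¹ • α = α := by
        rw [inv_smul_eq_iff]
        exact (hαFP y.1 (zpowers_le_E D y.2)).symm
      change (y : G) • g • α = α at hy
      calc g • α = (y : G)⁻¹ • (y : G) • g • α := (inv_smul_smul _ _).symm
        _ = (y : G)⁻¹ • α := by rw [hy]
        _ = α := h2
    have h5 : Nat.card (Subgroup.zpowers D.y1) = 5 := by
      have : Fact (Nat.Prime 5) := ⟨by norm_num⟩
      rw [Nat.card_zpowers, orderOf_eq_prime (D.pow5 _ D.y1_mem) D.y1_ne]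
    have h6 : (insert α (Set.range (fun y : Subgroup.zpowers D.y1 => (y : G) • g • α))).ncard = 6 := by
      rw [Set.ncard_insert_of_notMem hnot (Set.toFinite _), Set.ncard_range_of_injective hinj', h5]
    have h6' : 6 ≤ (orbit (Subgroup.centralizer {D.z}) α).ncard := by
      rw [← h6]
      exact Set.ncard_le_ncard hsub' (Set.toFinite _)
    have hos := card_inf_stabilizer_mul (Subgroup.centralizer {D.z}) α
    rw [D.cardC, le_antisymm hO6 h6'] at hos
    omega
  have hdvd := card_mul_of_fix1 (Subgroup.centralizer {D.z}) α hCα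
  rw [D.cardC, hn, D.cardG] at hdvd
  norm_num at hdvd

end Cfsg.Agent.Lib.Helper18.TitsTT
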