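import Cfsg.Agent.Lib.Helper18.TitsTTE

set_option autoImplicit false

/-!
Part 4: the degree 25 and the main theorem.
-/

namespace Cfsg.Agent.Lib.Helper18.TitsTT

open MulAction

variable {G : Type*} [Group G] [Finite G] (D : Dat G) {Ω : Type*} [Finite Ω] [MulAction G Ω]

theorem case25 (h2t : IsMultiplyPretransitive G Ω 2) (hn : Nat.card Ω = 25)
    (hf : fx Ω D.y1 = 0) : False := by
  -- non-identity elements of `E` have no fixed points
  have hE0 : ∀ e ∈ D.E, e ≠ 1 → ∀ ω : Ω, e • ω ≠ ω := by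
    intro e he hne ω hω
    have h := fx_E D (Ω := Ω) e he hne
    rw [hf] at h
    unfold fx at h
    rw [Set.ncard_eq_zero (Set.toFinite _)] at h
    have h2 : ω ∈ fixedBy Ω e := hω
    rw [h] at h2
    exact h2
  -- a fixed point of `z`
  have hzmod := fx_z_modEq D (Ω := Ω)
  rw [hn] at hzmod
  have hzpos : 0 < fx Ω D.z := by
    unfold Nat.ModEq at hzmod
    omega
  obtain ⟨β, hβz⟩ := (Set.ncard_pos (Set.toFinite _)).mp hzpos
  have hβ : ∀ e ∈ D.E, e ≠ 1 → e • β ≠ β := fun e he hne => hE0 e he hne β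
  -- `E` is regular
  have hinj := orbit_map_injective D β hβ
  have hbij := hinj.bijective_of_nat_card_le (by rw [hn, D.cardE])
  -- the fixed points of `z`
  have hfz : fixedBy Ω D.z ⊆ Set.range (fun y : Subgroup.zpowers D.y1 => (y : G) • β) := by
    intro ω hω
    obtain ⟨e, rfl⟩ := hbij.2 ω
    have hz := mem_zpowers_of_fixed D β hβ hβz e.1 e.2 hω
    exact ⟨⟨e.1, hz⟩, rfl⟩
  have hfz5 : fx Ω D.z ≤ 5 :=
    (Set.ncard_le_ncard hfz (Set.toFinite _)).trans (ncard_range_zpowers_le D β)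
  -- the stabiliser of `β` in the centraliser
  have hO := orbit_subset_fixedBy_z D (Subgroup.centralizer {D.z}) le_rfl β hβz
  have hO5 : (orbit (Subgroup.centralizer {D.z}) β).ncard ≤ 5 :=
    (Set.ncard_le_ncard hO (Set.toFinite _)).trans hfz5
  have hos := card_inf_stabilizer_mul (Subgroup.centralizer {D.z}) β
  rw [D.cardC] at hos
  have hC1 : 2048 ≤ Nat.card (Subgroup.centralizer {D.z} ⊓ stabilizer G β : Subgroup G) := by
    have := Nat.mul_le_mul_left
      (Nat.card (Subgroup.centralizer {D.z} ⊓ stabilizer G β : Subgroup G)) hO5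
    omega
  -- a second fixed point of `z`
  have hγz : D.y1 • β ∈ fixedBy Ω D.z := smul_mem_fixedBy_z D D.y1 (y1_mem_centralizer D) β hβz
  have hγβ : D.y1 • β ≠ β := hβ D.y1 D.y1_mem D.y1_ne
  have hO1 : orbit (Subgroup.centralizer {D.z} ⊓ stabilizer G β : Subgroup G) (D.y1 • β) ⊆
      fixedBy Ω D.z \ {β} := by
    intro ω hω
    refine ⟨orbit_subset_fixedBy_z D _ inf_le_left _ hγz hω, ?_⟩
    obtain ⟨g, rfl⟩ := hω
    intro h
    rw [Set.mem_singleton_iff] at h
    apply hγβ
    have hg : (g : G) • β = β := mem_stabilizer_iff.mp (Subgroup.mem_inf.mp g.2).2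
    have h' : (g : G) • D.y1 • β = β := h
    calc D.y1 • β = (g : G)⁻¹ • (g : G) • D.y1 • β := (inv_smul_smul _ _).symm
      _ = (g : G)⁻¹ • β := by rw [h']
      _ = β := by rw [inv_smul_eq_iff, hg]
  have hO14 : (orbit (Subgroup.centralizer {D.z} ⊓ stabilizer G β : Subgroup G)
      (D.y1 • β)).ncard ≤ 4 := by
    have h1 := Set.ncard_le_ncard hO1 (Set.toFinite _)
    rw [Set.ncard_sdiff_singleton_of_mem hβz] at h1
    unfold fx at hfz5
    omega
  have hos2 := card_inf_stabilizer_mul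
    (Subgroup.centralizer {D.z} ⊓ stabilizer G β : Subgroup G) (D.y1 • β)
  have hC2 : 512 ≤ Nat.card (Subgroup.centralizer {D.z} ⊓ stabilizer G β ⊓
      stabilizer G (D.y1 • β) : Subgroup G) := by
    have := Nat.mul_le_mul_left (Nat.card (Subgroup.centralizer {D.z} ⊓ stabilizer G β ⊓
      stabilizer G (D.y1 • β) : Subgroup G)) hO14
    omega
  -- it fixes two points and lies in the centraliser
  have hdvd1 := card_mul_of_fix2 h2t (Subgroup.centralizer {D.z} ⊓ stabilizer G β ⊓
      stabilizer G (D.y1 • β) : Subgroup G) β (D.y1 • β) hγβ.symm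
    (fun g hg => mem_stabilizer_iff.mp (Subgroup.mem_inf.mp (Subgroup.mem_inf.mp hg).1).2)
    (fun g hg => mem_stabilizer_iff.mp (Subgroup.mem_inf.mp hg).2)
  rw [hn, D.cardG] at hdvd1
  have hdvd2 : Nat.card (Subgroup.centralizer {D.z} ⊓ stabilizer G β ⊓
      stabilizer G (D.y1 • β) : Subgroup G) ∣ 10240 := by
    rw [← D.cardC]
    exact Subgroup.card_dvd_of_le (inf_le_left.trans inf_le_left)
  have hdvd3 : Nat.card (Subgroup.centralizer {D.z} ⊓ stabilizer G β ⊓
      stabilizer G (D.y1 • β) : Subgroup G) ∣ 29952 := by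
    have : (17971200 : ℕ) = 29952 * (25 * (25 - 1)) := by norm_num
    rw [this] at hdvd1
    exact Nat.dvd_of_mul_dvd_mul_right (by norm_num) hdvd1
  have hdvd4 := Nat.dvd_gcd hdvd2 hdvd3
  have hg : Nat.gcd 10240 29952 = 256 := by norm_num
  rw [hg] at hdvd4
  have := Nat.le_of_dvd (by norm_num) hdvd4
  omega

end Cfsg.Agent.Lib.Helper18.TitsTT

namespace Cfsg.Agent.Lib.Helper18.TitsTT

open MulAction

/-- a bounded universal check -/
def allBelow : ℕ → (ℕ → Bool) → Bool
  | 0, _ => true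
  | k + 1, f => f k && allBelow k f

theorem allBelow_iff (k : ℕ) (f : ℕ → Bool) : allBelow k f = true ↔ ∀ x < k, f x = true := by
  induction k with
  | zero => simp [allBelow]
  | succ k ih =>
    unfold allBelow
    rw [Bool.and_eq_true, ih]
    constructor
    · rintro ⟨h1, h2⟩ x hx
      rcases Nat.lt_succ_iff_lt_or_eq.mp hx with h | rfl
      · exact h2 x h
      · exact h1
    · intro h
      exact ⟨h k (Nat.lt_succ_self k), fun x hx => h x (Nat.lt_succ_of_lt hx)⟩

/-- the test for one degree -/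
def degTest (n : ℕ) : Bool :=
  !(decide (3 ≤ n) && decide (17971200 % (n * (n - 1)) = 0)) ||
    (decide (n < 25) || decide (n = 25) || decide (n = 26) || decide (n = 27) || decide (n = 40) ||
      decide (n = 65))

theorem degree_chk : allBelow 4241 degTest = true := by decide +kernel

theorem degree_list_aux (n : ℕ) (hn : n ≤ 4240) (h3 : 3 ≤ n) (hd : n * (n - 1) ∣ 17971200) :
    n < 25 ∨ n = 25 ∨ n = 26 ∨ n = 27 ∨ n = 40 ∨ n = 65 := by
  have h := (allBelow_iff _ _).mp degree_chk n (by omega)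
  unfold degTest at h
  have hm : 17971200 % (n * (n - 1)) = 0 := Nat.mod_eq_zero_of_dvd hd
  simp only [h3, hm, decide_true, Bool.and_self, Bool.not_true, Bool.false_or, Bool.or_eq_true,
    decide_eq_true_eq] at h
  tauto

theorem degree_list (n : ℕ) (h3 : 3 ≤ n) (hd : n * (n - 1) ∣ 17971200) :
    n < 25 ∨ n = 25 ∨ n = 26 ∨ n = 27 ∨ n = 40 ∨ n = 65 := by
  apply degree_list_aux n _ h3 hd
  by_contra h
  have h1 : 4241 ≤ n := by omega
  have h2 := Nat.le_of_dvd (by norm_num) hd
  have h3 : 4241 * 4240 ≤ n * (n - 1) := Nat.mul_le_mul h1 (by omega)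
  omega

variable {G : Type*} [Group G] [Finite G] (D : Dat G) {Ω : Type*} [Finite Ω] [MulAction G Ω]

include D in
/-- the main theorem -/
theorem no_two_transitive [FaithfulSMul G Ω] (h3 : 3 ≤ Nat.card Ω) :
    ¬ IsMultiplyPretransitive G Ω 2 := by
  intro h2t
  have htr : IsPretransitive G Ω := isPretransitive_of_is_two_pretransitive
  have hnt : Nontrivial Ω := by
    rw [← Finite.one_lt_card_iff_nontrivial]
    omega
  obtain ⟨α, β, hne⟩ := exists_pair_ne Ω
  have hdvd := card_mul_of_fix2 h2t (⊥ : Subgroup G) α β hne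
    (fun g hg => by rw [Subgroup.mem_bot.mp hg, one_smul])
    (fun g hg => by rw [Subgroup.mem_bot.mp hg, one_smul])
  rw [Subgroup.card_bot, one_mul, D.cardG] at hdvd
  have hlist := degree_list (Nat.card Ω) h3 hdvd
  obtain ⟨k, hk, hk5⟩ := burnside_E D (Ω := Ω)
  have hlt := fx_lt D (Ω := Ω)
  have nofix : ¬ (25 * Nat.card Ω ∣ 17971200) → ∀ ω : Ω, ∃ e ∈ D.E, e • ω ≠ ω := by
    intro hnd ω
    by_contra hcon
    push Not at hcon
    have := card_mul_of_fix1 D.E ω hcon
    rw [D.cardE, D.cardG] at this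
    exact hnd this
  rcases hlist with h | h | h | h | h | h
  · omega
  · exact case25 D h2t h (by omega)
  · exact case26 D h2t h (by omega)
  · exact case27 D h2t h (by omega)
  · have := hk5 (nofix (by rw [h]; norm_num))
    omega
  · have := hk5 (nofix (by rw [h]; norm_num))
    omega

end Cfsg.Agent.Lib.Helper18.TitsTT
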