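import Cfsg.Agent.Lib.Helper10.TitsSimple
import Cfsg.Agent.Lib.Helper18.TitsTTF

set_option autoImplicit false

/-!
Explicit elements of the Tits group on 1755 points (as formal products in the generators of
helper10's model) and kernel checks of the relations needed for the data `Dat`.  (Generated.)
-/

namespace Cfsg.Agent.Lib.Helper18.TitsTT

open Cfsg.Agent.Lib.Helper10.SW Cfsg.Agent.Lib.Helper10.Tits

/-- the codes used in the formal products -/
def okCodes : List ℕ := [cTc1, cTc1i, cTc2, cTc2i, cTt0, cTt0i, cTt1, cTt1i, cTz]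

/-- an element of order five in the point stabiliser -/
def y1L : List ℕ := [cTt0, cTt0, cTt1, cTt0, cTt0, cTt1]

/-- the word of an element mapping the point 0 to another fixed point of `y1` -/
def gW : List ℕ := [0, 2, 2, 0, 3, 0, 3, 0]

/-- the product of the central involutions of two point stabilisers: an element of order five
commuting with `y1` and inverted by the involution -/
def y2L : List ℕ := cTz :: (codes mvT1 gW ++ cTz :: icodes mvT1 gW)

/-- an element conjugating `y1` to the power 2 of `y1 ^ 0 * y2` -/
def g0L : List ℕ := codes mvT1 [0, 2, 2, 0] ++ codes mvT2 [1, 3, 1, 2, 0]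

/-- an element conjugating `y1` to the power 1 of `y1 ^ 1 * y2` -/
def g1L : List ℕ := codes mvT1 [0, 2, 0, 2, 2, 1] ++ codes mvT2 [0, 0, 3, 1]

/-- an element conjugating `y1` to the power 4 of `y1 ^ 2 * y2` -/
def g2L : List ℕ := codes mvT1 [0, 2, 1, 2, 1] ++ codes mvT2 [0, 2, 0, 3, 1]

/-- an element conjugating `y1` to the power 4 of `y1 ^ 3 * y2` -/
def g3L : List ℕ := codes mvT1 [0, 2, 1, 3, 1] ++ codes mvT2 [3, 3, 0, 0, 0]

/-- an element conjugating `y1` to the power 1 of `y1 ^ 4 * y2` -/
def g4L : List ℕ := codes mvT1 [3, 1, 3, 1, 3, 3, 1] ++ codes mvT2 [2, 2]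

/-- an element of order three normalising the group generated by `y1` and `y2` -/
def cL : List ℕ := g4L ++ g4L

/-- `y1 ^ a * y2 ^ b` as a formal product -/
def elL (a b : ℕ) : List ℕ := (List.replicate a y1L).flatten ++ (List.replicate b y2L).flatten

/-- pointwise comparison of two formal products -/
def eqChk (L L' : List ℕ) : Bool :=
  allLt 1755 (fun x => Nat.beq (evalL 1755 L x) (evalL 1755 L' x))

theorem chk_good : (y1L ++ y2L ++ g0L ++ g1L ++ g2L ++ g3L ++ g4L).all
    (fun c => decide (c ∈ okCodes)) = true := by decide +kernel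

theorem chk_z_sq : eqChk [cTz, cTz] [] = true := by decide +kernel

theorem chk_y1_pow : eqChk (List.replicate 5 y1L).flatten [] = true := by decide +kernel

theorem chk_y2_pow : eqChk (List.replicate 5 y2L).flatten [] = true := by decide +kernel

theorem chk_comm : eqChk (y1L ++ y2L) (y2L ++ y1L) = true := by decide +kernel

theorem chk_z_y1 : eqChk (cTz :: y1L) (y1L ++ [cTz]) = true := by decide +kernel

theorem chk_z_y2 : eqChk (cTz :: y2L ++ cTz :: y2L) [] = true := by decide +kernel

theorem chk_conj0 : eqChk (g0L ++ y1L) ((List.replicate 2 (elL 0 1)).flatten ++ g0L) = true := by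
  decide +kernel

theorem chk_conj1 : eqChk (g1L ++ y1L) ((List.replicate 1 (elL 1 1)).flatten ++ g1L) = true := by
  decide +kernel

theorem chk_conj2 : eqChk (g2L ++ y1L) ((List.replicate 4 (elL 2 1)).flatten ++ g2L) = true := by
  decide +kernel

theorem chk_conj3 : eqChk (g3L ++ y1L) ((List.replicate 4 (elL 3 1)).flatten ++ g3L) = true := by
  decide +kernel

theorem chk_conj4 : eqChk (g4L ++ y1L) ((List.replicate 1 (elL 4 1)).flatten ++ g4L) = true := by
  decide +kernel

theorem chk_c_pow : eqChk (List.replicate 3 cL).flatten [] = true := by decide +kernel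

theorem chk_c_y1 : eqChk (cL ++ y1L) (elL 3 1 ++ cL) = true := by decide +kernel

theorem chk_c_y2 : eqChk (cL ++ y2L) (elL 2 1 ++ cL) = true := by decide +kernel

theorem chk_y1_ne : Nat.beq (evalL 1755 y1L 1) 1 = false := by decide +kernel

theorem chk_y2_ne : Nat.beq (evalL 1755 y2L 0) 0 = false := by decide +kernel

theorem chk_c_ne : Nat.beq (evalL 1755 cL 0) 0 = false := by decide +kernel

end Cfsg.Agent.Lib.Helper18.TitsTT
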