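import Cfsg.Agent.Lib.Helper18.TitsTTM

set_option autoImplicit false

/-!
The data `Dat` for the Tits group on 1755 points, and the theorem that the Tits group has no
faithful doubly transitive action.
-/

namespace Cfsg.Agent.Lib.Helper18.TitsTT

open Cfsg.Agent.Lib.Helper10.SW Cfsg.Agent.Lib.Helper10.Tits

attribute [local irreducible] perm

/-! ### formal products in the group -/

theorem ok_good : ∀ c ∈ okCodes, Valid 1755 c ∧ perm 1755 c ∈ T := by
  have h1 : ∀ e ∈ mvT1, Valid 1755 e.1 ∧ perm 1755 e.1 ∈ T := fun e he =>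
    ⟨(movesT1 e he).1, (movesT1 e he).2.2.2⟩
  have h2 : ∀ e ∈ mvT2, Valid 1755 e.1 ∧ perm 1755 e.1 ∈ T := fun e he =>
    ⟨(movesT2 e he).1, Ty_le_T (movesT2 e he).2.2.2⟩
  intro c hc
  unfold okCodes at hc
  simp only [List.mem_cons, List.not_mem_nil, or_false] at hc
  rcases hc with rfl | rfl | rfl | rfl | rfl | rfl | rfl | rfl | rfl
  · exact h1 (cTc1, cTc1i) (by unfold mvT1; simp)
  · exact h1 (cTc1i, cTc1) (by unfold mvT1; simp)
  · exact h1 (cTc2, cTc2i) (by unfold mvT1; simp)
  · exact h1 (cTc2i, cTc2) (by unfold mvT1; simp)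
  · exact h2 (cTt0, cTt0i) (by unfold mvT2; simp)
  · exact h2 (cTt0i, cTt0) (by unfold mvT2; simp)
  · exact h2 (cTt1, cTt1i) (by unfold mvT2; simp)
  · exact h2 (cTt1i, cTt1) (by unfold mvT2; simp)
  · exact ⟨vZ, mem_Z⟩

/-- all codes of the list are valid and in the group -/
def Good (L : List ℕ) : Prop := ∀ c ∈ L, Valid 1755 c ∧ perm 1755 c ∈ T

theorem good_of_chk (L : List ℕ) (h : L.all (fun c => decide (c ∈ okCodes)) = true) : Good L := by
  intro c hc
  have := List.all_eq_true.mp h c hc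
  exact ok_good c (of_decide_eq_true this)

theorem good_nil : Good [] := fun _ hc => absurd hc List.not_mem_nil

theorem good_append {L L' : List ℕ} (h : Good L) (h' : Good L') : Good (L ++ L') := by
  intro c hc
  rcases List.mem_append.mp hc with hc | hc
  · exact h c hc
  · exact h' c hc

theorem good_left {L L' : List ℕ} (h : Good (L ++ L')) : Good L :=
  fun c hc => h c (List.mem_append_left _ hc)

theorem good_right {L L' : List ℕ} (h : Good (L ++ L')) : Good L' :=
  fun c hc => h c (List.mem_append_right _ hc)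

theorem good_rep {L : List ℕ} (h : Good L) (k : ℕ) : Good (List.replicate k L).flatten := by
  intro c hc
  obtain ⟨L', hL', hcL⟩ := List.mem_flatten.mp hc
  rw [List.eq_of_mem_replicate hL'] at hcL
  exact h c hcL

theorem good_z : Good [cTz] := by
  intro c hc
  rw [List.mem_singleton] at hc
  rw [hc]
  exact ⟨vZ, mem_Z⟩

theorem prodL_eq_of_chk {L L' : List ℕ} (hL : Good L) (hL' : Good L')
    (h : eqChk L L' = true) : prodL 1755 L = prodL 1755 L' := by
  apply Equiv.ext
  intro i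
  apply Fin.ext
  rw [prodL_apply_val L (fun c hc => (hL c hc).1), prodL_apply_val L' (fun c hc => (hL' c hc).1)]
  exact Nat.eq_of_beq_eq_true ((allLt_iff _ _).mp h i.val i.isLt)

theorem prodL_ne_of_chk {L : List ℕ} (hL : Good L) (x : ℕ) (hx : x < 1755)
    (h : Nat.beq (evalL 1755 L x) x = false) : prodL 1755 L ≠ 1 := by
  intro h1
  have h2 := prodL_apply_val L (fun c hc => (hL c hc).1) ⟨x, hx⟩
  rw [h1, Equiv.Perm.one_apply] at h2
  have h3 : Nat.beq (evalL 1755 L x) x = true := by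
    rw [← h2]
    exact Nat.beq_refl x
  rw [h] at h3
  exact Bool.false_ne_true h3

theorem prodL_singleton (c : ℕ) : prodL 1755 [c] = perm 1755 c := by
  rw [prodL_cons, prodL_nil, mul_one]

/-! ### the lists are good -/

theorem good_all : Good (y1L ++ y2L ++ g0L ++ g1L ++ g2L ++ g3L ++ g4L) := good_of_chk _ chk_good

theorem good_y1 : Good y1L :=
  good_left (good_left (good_left (good_left (good_left (good_left good_all)))))

theorem good_y2 : Good y2L :=
  good_right (good_left (good_left (good_left (good_left (good_left good_all)))))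

theorem good_g0 : Good g0L := good_right (good_left (good_left (good_left (good_left good_all))))

theorem good_g1 : Good g1L := good_right (good_left (good_left (good_left good_all)))

theorem good_g2 : Good g2L := good_right (good_left (good_left good_all))

theorem good_g3 : Good g3L := good_right (good_left good_all)

theorem good_g4 : Good g4L := good_right good_all

theorem good_c : Good cL := good_append good_g4 good_g4

theorem good_el (a b : ℕ) : Good (elL a b) := good_append (good_rep good_y1 a) (good_rep good_y2 b)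

/-! ### the elements -/

/-- the element of the group given by a formal product -/
noncomputable def mk (L : List ℕ) (h : Good L) : ↥T :=
  ⟨prodL 1755 L, prodL_mem fun c hc => (h c hc).2⟩

theorem mk_val (L : List ℕ) (h : Good L) : ((mk L h : ↥T) : Equiv.Perm (Fin 1755)) = prodL 1755 L :=
  rfl

/-- the element of order five in the point stabiliser -/
noncomputable def Y1 : ↥T := mk y1L good_y1

/-- the second element of order five -/
noncomputable def Y2 : ↥T := mk y2L good_y2

/-- the element of order three -/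
noncomputable def Cc : ↥T := mk cL good_c

theorem gZ_eq : gZ = mk [cTz] good_z := by
  apply Subtype.ext
  rw [mk_val, prodL_singleton]
  exact gZ_val

theorem mk_mul (L L' : List ℕ) (h : Good L) (h' : Good L') :
    mk L h * mk L' h' = mk (L ++ L') (good_append h h') := by
  apply Subtype.ext
  rw [Subgroup.coe_mul, mk_val, mk_val, mk_val, prodL_append]

theorem mk_pow (L : List ℕ) (h : Good L) (k : ℕ) :
    mk L h ^ k = mk (List.replicate k L).flatten (good_rep h k) := by
  apply Subtype.ext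
  rw [Subgroup.coe_pow, mk_val, mk_val, prodL_flatten_replicate]

theorem mk_nil : mk [] good_nil = 1 := by
  apply Subtype.ext
  rw [mk_val, prodL_nil]
  rfl

theorem mk_eq_of_chk {L L' : List ℕ} (h : Good L) (h' : Good L') (hc : eqChk L L' = true) :
    mk L h = mk L' h' :=
  Subtype.ext (prodL_eq_of_chk h h' hc)

theorem mk_ne_one {L : List ℕ} (h : Good L) (x : ℕ) (hx : x < 1755)
    (hc : Nat.beq (evalL 1755 L x) x = false) : mk L h ≠ 1 := by
  intro h1
  apply prodL_ne_of_chk h x hx hc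
  have := congrArg Subtype.val h1
  rw [mk_val] at this
  rw [this]
  rfl

theorem el_eq (a b : ℕ) : el Y1 Y2 a b = mk (elL a b) (good_el a b) := by
  unfold el Y1 Y2 elL
  rw [mk_pow, mk_pow, mk_mul]

/-! ### the relations -/

theorem Y1_pow : Y1 ^ 5 = 1 := by
  unfold Y1
  rw [mk_pow, ← mk_nil]
  exact mk_eq_of_chk _ _ chk_y1_pow

theorem Y2_pow : Y2 ^ 5 = 1 := by
  unfold Y2
  rw [mk_pow, ← mk_nil]
  exact mk_eq_of_chk _ _ chk_y2_pow

theorem Y1_ne : Y1 ≠ 1 := mk_ne_one good_y1 1 (by norm_num) chk_y1_ne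

theorem Y2_ne : Y2 ≠ 1 := mk_ne_one good_y2 0 (by norm_num) chk_y2_ne

theorem Y_comm : Y1 * Y2 = Y2 * Y1 := by
  unfold Y1 Y2
  rw [mk_mul, mk_mul]
  exact mk_eq_of_chk _ _ chk_comm

theorem gZ_sq : gZ * gZ = 1 := by
  rw [gZ_eq, mk_mul, ← mk_nil]
  exact mk_eq_of_chk _ _ chk_z_sq

theorem gZ_Y1 : gZ * Y1 = Y1 * gZ := by
  rw [gZ_eq]
  unfold Y1
  rw [mk_mul, mk_mul]
  exact mk_eq_of_chk _ _ chk_z_y1

theorem gZ_inv : gZ⁻¹ = gZ := inv_eq_of_mul_eq_one_right gZ_sq

theorem gZ_Y2 : gZ * Y2 * gZ⁻¹ = Y2⁻¹ := by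
  rw [gZ_inv, eq_inv_iff_mul_eq_one, gZ_eq]
  unfold Y2
  rw [mk_mul, mk_mul, mk_mul, ← mk_nil]
  exact mk_eq_of_chk _ _ chk_z_y2

theorem conj_of_chk {gL : List ℕ} (hg : Good gL) (m j : ℕ)
    (hc : eqChk (gL ++ y1L) ((List.replicate j (elL m 1)).flatten ++ gL) = true) :
    ∃ (g : ↥T) (j : ℕ), g * Y1 * g⁻¹ = el Y1 Y2 m 1 ^ j := by
  refine ⟨mk gL hg, j, ?_⟩
  rw [mul_inv_eq_iff_eq_mul, el_eq, mk_pow]
  unfold Y1
  rw [mk_mul, mk_mul]
  exact mk_eq_of_chk _ _ hc

theorem Y_conj : ∀ m : ℕ, m < 5 → ∃ (g : ↥T) (j : ℕ), g * Y1 * g⁻¹ = el Y1 Y2 m 1 ^ j := by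
  intro m hm
  interval_cases m
  · exact conj_of_chk good_g0 0 _ chk_conj0
  · exact conj_of_chk good_g1 1 _ chk_conj1
  · exact conj_of_chk good_g2 2 _ chk_conj2
  · exact conj_of_chk good_g3 3 _ chk_conj3
  · exact conj_of_chk good_g4 4 _ chk_conj4

theorem Cc_pow : Cc ^ 3 = 1 := by
  unfold Cc
  rw [mk_pow, ← mk_nil]
  exact mk_eq_of_chk _ _ chk_c_pow

theorem Cc_ne : Cc ≠ 1 := mk_ne_one good_c 0 (by norm_num) chk_c_ne

theorem Cc_Y1 : Cc * Y1 * Cc⁻¹ = el Y1 Y2 3 1 := by
  rw [mul_inv_eq_iff_eq_mul, el_eq]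
  unfold Cc Y1
  rw [mk_mul, mk_mul]
  exact mk_eq_of_chk _ _ chk_c_y1

theorem Cc_Y2 : Cc * Y2 * Cc⁻¹ = el Y1 Y2 2 1 := by
  rw [mul_inv_eq_iff_eq_mul, el_eq]
  unfold Cc Y2
  rw [mk_mul, mk_mul]
  exact mk_eq_of_chk _ _ chk_c_y2

end Cfsg.Agent.Lib.Helper18.TitsTT
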