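import Cfsg.Agent.Lib.Helper18.TitsTTN
import Cfsg.Agent.Lib.Helper10.TitsIdx

set_option autoImplicit false

/-!
The centraliser of the central involution of the point stabiliser, the data `Dat` for the Tits
group on 1755 points, and the theorem that the Tits group has no faithful doubly transitive action.
-/

namespace Cfsg.Agent.Lib.Helper18.TitsTT

open Cfsg.Agent.Lib.Helper10.SW Cfsg.Agent.Lib.Helper10.Tits MulAction

theorem gZ_ne_one : gZ ≠ 1 := by
  intro h
  have h1 := normalClosure_gZ
  rw [h] at h1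
  have h2 : Subgroup.normalClosure ({1} : Set ↥T) = ⊥ := by
    rw [eq_bot_iff]
    apply Subgroup.normalClosure_le_normal
    intro x hx
    rw [Set.mem_singleton_iff] at hx
    rw [hx]
    exact Subgroup.one_mem _
  rw [h2] at h1
  have := nontrivial_T
  exact bot_ne_top h1

theorem center_T : Subgroup.center ↥T = ⊥ := by
  have := isSimpleGroup_T
  rcases (inferInstance : (Subgroup.center ↥T).Normal).eq_bot_or_eq_top with h | h
  · exact h
  · exfalso
    have h1 : commutator ↥T = ⊥ := (commutator_eq_bot_iff_center_eq_top ↥T).mpr h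
    rw [hperfT] at h1
    have := nontrivial_T
    exact top_ne_bot h1

theorem centralizer_gZ : Subgroup.centralizer {gZ} = stabilizer ↥T v0 := by
  have hle : stabilizer ↥T v0 ≤ Subgroup.centralizer {gZ} := by
    intro k hk
    rw [Subgroup.mem_centralizer_iff]
    intro h hh
    rw [Set.mem_singleton_iff] at hh
    rw [hh]
    exact ((Cfsg.Agent.Lib.Helper14.IwaCenter.mem_centerStab.mp gZ_mem_centerStab).2 k
      (mem_stabilizer_iff.mp hk)).symm
  rcases eq_or_lt_of_le hle with h | h
  · exact h.symm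
  · exfalso
    have htop := hmaxT.2 _ h
    apply gZ_ne_one
    have hc : gZ ∈ Subgroup.center ↥T := by
      rw [Subgroup.mem_center_iff]
      intro g
      have hg : g ∈ Subgroup.centralizer {gZ} := by rw [htop]; exact Subgroup.mem_top g
      exact ((Subgroup.mem_centralizer_iff.mp hg) gZ rfl).symm
    rw [center_T] at hc
    exact Subgroup.mem_bot.mp hc

theorem card_centralizer_gZ : Nat.card (Subgroup.centralizer {gZ}) = 10240 := by
  rw [centralizer_gZ]
  have := pretransitive_T
  have h1 := Subgroup.card_mul_index (stabilizer ↥T v0)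
  have h2 : (stabilizer ↥T v0).index = Nat.card (Fin 1755) := index_stabilizer_of_transitive _ _
  have h3 : Nat.card (Fin 1755) = 1755 := Nat.card_fin 1755
  rw [h2, h3, card_T] at h1
  have h4 : (17971200 : ℕ) = 10240 * 1755 := by norm_num
  rw [h4] at h1
  exact Nat.eq_of_mul_eq_mul_right (by norm_num) h1

/-- the data for the Tits group on 1755 points -/
noncomputable def datT : Dat ↥T where
  E := EE Y1 Y2
  y1 := Y1
  z := gZ
  c := Cc
  cardG := card_T
  cardE := by
    have : Finite ↥T := Nat.finite_of_card_ne_zero (by rw [card_T]; norm_num)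
    exact card_EE Y_comm Y1_pow Y2_pow Y1_ne (not_mem_zpowers Y2_pow Y2_ne gZ_Y1 gZ_Y2)
  y1_mem := Subgroup.subset_closure (by simp)
  y1_ne := Y1_ne
  pow5 := fun e he => pow_five_of_mem Y_comm Y1_pow Y2_pow he
  conj := exists_conj_pow Y_comm Y1_pow Y2_pow Y_conj
  z_sq := gZ_sq
  z_ne := gZ_ne_one
  cardC := card_centralizer_gZ
  z_y1 := gZ_Y1
  z_norm := by
    apply conj_mem_EE
    · rw [gZ_Y1, mul_inv_cancel_right]
      exact Subgroup.subset_closure (by simp)
    · rw [gZ_Y2]
      exact Subgroup.inv_mem _ (Subgroup.subset_closure (by simp))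
  z_cent := mem_zpowers_of_commute Y_comm Y1_pow Y2_pow Y2_ne gZ_Y1 gZ_Y2
  c_pow := Cc_pow
  c_ne := Cc_ne
  c_norm := by
    apply conj_mem_EE
    · rw [Cc_Y1]
      exact el_mem 3 1
    · rw [Cc_Y2]
      exact el_mem 2 1

theorem finite_T : Finite ↥T := Nat.finite_of_card_ne_zero (by rw [card_T]; norm_num)

/-- the Tits group on 1755 points has no faithful doubly transitive action -/
theorem no_two_transitive_T {Ω : Type*} [Finite Ω] [MulAction ↥T Ω] [FaithfulSMul ↥T Ω]
    (h3 : 3 ≤ Nat.card Ω) : ¬ IsMultiplyPretransitive ↥T Ω 2 := by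
  have := finite_T
  exact no_two_transitive datT h3

/-- the Tits group has no faithful doubly transitive action -/
theorem no_two_transitive_tits {Ω : Type*} [Fintype Ω] [MulAction Cfsg.Lie.TitsGroup Ω]
    [FaithfulSMul Cfsg.Lie.TitsGroup Ω] (hΩ : 3 ≤ Fintype.card Ω) :
    ¬ IsMultiplyPretransitive Cfsg.Lie.TitsGroup Ω 2 := by
  intro h2t
  let e : Cfsg.Lie.TitsGroup ≃* ↥T := commEquivT
  let _ : MulAction ↥T Ω := MulAction.compHom Ω (e.symm : ↥T →* Cfsg.Lie.TitsGroup)
  have hsmul : ∀ (t : ↥T) (ω : Ω), t • ω = e.symm t • ω := fun _ _ => rfl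
  have : FaithfulSMul ↥T Ω := by
    refine ⟨fun {t t'} h => ?_⟩
    have h1 : e.symm t = e.symm t' := by
      apply FaithfulSMul.eq_of_smul_eq_smul (α := Ω)
      intro ω
      rw [← hsmul, ← hsmul]
      exact h ω
    exact e.symm.injective h1
  apply no_two_transitive_T (Ω := Ω) (by rw [Nat.card_eq_fintype_card]; exact hΩ)
  rw [is_two_pretransitive_iff] at h2t ⊢
  intro a b c d hab hcd
  obtain ⟨g, hg1, hg2⟩ := h2t hab hcd
  refine ⟨e g, ?_, ?_⟩
  · rw [hsmul, MulEquiv.symm_apply_apply]
    exact hg1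
  · rw [hsmul, MulEquiv.symm_apply_apply]
    exact hg2

end Cfsg.Agent.Lib.Helper18.TitsTT
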