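import Cfsg.Agent.Lib.Helper1.TwoMajDefs
import Cfsg.Agent.Lib.Helper23.MajSubH5
import Cfsg.Agent.Lib.Helper23.SubsecH
import Cfsg.Agent.Lib.Helper6.DefectOrder

/-!
# S4540 (planner helper1) leaf (BL): lower bound for the contributions of a character of height zero
(helper18)
-/

set_option autoImplicit false
set_option linter.unusedSectionVars false

namespace Cfsg.Agent.Lib.Helper18.TwoMajBL

open Cfsg Cfsg.Agent.CharLib Cfsg.Agent.Lib.Helper24 Cfsg.Agent.Lib.Helper6 Cfsg.Agent.Lib.Helper23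
open Cfsg.Agent.Lib.Helper23.Subsec Cfsg.Agent.Lib.Helper27.MajSub
open Cfsg.Agent.Lib.Helper23.MajSubH5
open Cfsg.Agent.Lib.Helper1.TwoMaj
open scoped ComplexConjugate

universe u w

/-- real-valued version of helper23's `sum_gal_eq_sum_units` -/
theorem sum_gal_eq_sum_units_real (N : ℕ) [NeZero N] (K : Type w) [Field K] [Algebra ℚ K]
    [IsCyclotomicExtension {N} ℚ K] [Fintype (K ≃ₐ[ℚ] K)] (F : ℕ → ℝ) :
    ∑ σ : K ≃ₐ[ℚ] K, F (galExp N K σ) = ∑ u : (ZMod N)ˣ, F ((u : ZMod N).val) := by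
  unfold galExp
  exact Equiv.sum_comp (IsCyclotomicExtension.autEquivPow K
    (irreducible_cyclotomic_rat_lead N)).toEquiv (fun u : (ZMod N)ˣ => F ((u : ZMod N).val))

variable {G : Type u} [Group G] [Fintype G] {M : Ideal AlgInt}

/-- **leaf (BL)** -/
theorem card_units_mul_four_pow_le (hM : IsPModular 2 M) (z : G)
    (hz : ∃ k : ℕ, orderOf z = 2 ^ k) (N : ℕ) [NeZero N] (hzN : z ^ N = 1)
    (C : Subgroup G) [Fintype C] (hC : C = Subgroup.centralizer ({z} : Set G))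
    (B : Set (IrrCharacter G)) (e : Set (IrrCharacter C)) (hind : IsInducedBlock M C e B)
    (hdef : blockDefect 2 e = blockDefect 2 B) (χ₀ ψ : IrrCharacter G) (hχ₀ : χ₀ ∈ B)
    (h0 : blockHeight 2 B (χ₀ : G → ℂ) = 0) (hψ : ψ ∈ B) :
    (Fintype.card (ZMod N)ˣ : ℝ) * (4 : ℝ) ^ blockHeight 2 B (ψ : G → ℂ) ≤
      ∑ u : (ZMod N)ˣ,
        ‖(2 : ℂ) ^ blockDefect 2 e * contrib 2 C e (z ^ (u : ZMod N).val) χ₀ ψ‖ ^ 2 := by
  classical
  let _ := fintypeIrr C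
  have hprime : M.IsPrime := isPrime_of_isPModular hM
  have he : IsPBlock M e := hind.1
  have hne : e.Nonempty := by
    obtain ⟨χ₁, h⟩ := he
    exact ⟨χ₁, by rw [h]; exact mem_blockOf_self χ₁⟩
  obtain ⟨K, _, _, _, ⟨φ⟩⟩ := exists_cyclotomic_field N
  have : FiniteDimensional ℚ K := IsCyclotomicExtension.finiteDimensional {N} ℚ K
  have : IsGalois ℚ K := IsCyclotomicExtension.isGalois {N} ℚ K
  -- the central element
  have hzC : z ∈ C := by
    rw [hC]; exact Subgroup.mem_centralizer_singleton_iff.mpr rfl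
  have hcommC : ∀ c : G, c ∈ C → c * z = z * c := by
    intro c hc
    rw [hC, Subgroup.mem_centralizer_singleton_iff] at hc
    exact hc
  have hcen : (⟨z, hzC⟩ : C) ∈ Subgroup.center C := by
    rw [Subgroup.mem_center_iff]
    intro g
    apply Subtype.ext
    exact hcommC g g.2
  set w : Subgroup.center C := ⟨⟨z, hzC⟩, hcen⟩ with hw
  have hwcoe : ∀ k : ℕ, ((((w ^ k : Subgroup.center C) : C) : G)) = z ^ k := by
    intro k
    simp [hw]
  have hwN : w ^ N = 1 := by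
    apply Subtype.ext
    apply Subtype.ext
    rw [hwcoe]
    simp only [OneMemClass.coe_one]
    exact hzN
  -- notation
  set q := blockDefect 2 e with hq
  set m := minVal 2 e with hm
  set a := (Nat.card C).factorization 2 with ha
  set h := blockHeight 2 B (ψ : G → ℂ) with hh
  have hma : m ≤ a := minVal_le_factorization_card hne
  have hqam : q = a - m := blockDefect_eq e
  have h20 : ((2 : ℕ) : ℂ) ≠ 0 := by norm_num
  obtain ⟨y, hyint, hyσ⟩ := exists_lift (p := 2) N K φ C e w hwN χ₀ ψ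
  -- the scaled contributions
  have hval : ∀ σ : K ≃ₐ[ℚ] K, φ (σ y) / ((2 : ℕ) : ℂ) ^ (m + h) =
      ((2 : ℕ) : ℂ) ^ q * contrib 2 C e (z ^ galExp N K σ) χ₀ ψ / ((2 : ℕ) : ℂ) ^ h := by
    intro σ
    rw [hyσ σ, ← ha, hwcoe]
    have hpm0 : (((2 : ℕ) : ℂ) ^ m) ≠ 0 := pow_ne_zero _ h20
    have hph0 : (((2 : ℕ) : ℂ) ^ h) ≠ 0 := pow_ne_zero _ h20
    have hpa : ((2 ^ a : ℕ) : ℂ) = ((2 : ℕ) : ℂ) ^ q * ((2 : ℕ) : ℂ) ^ m := by
      rw [hqam, ← pow_add, Nat.sub_add_cancel hma]; push_cast; ring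
    rw [hpa, pow_add]
    field_simp
  have hord : orderOf z ∣ N := orderOf_dvd_of_pow_eq_one hzN
  have hunit : ∀ σ : K ≃ₐ[ℚ] K,
      LocUnit M (((2 : ℕ) : ℂ) ^ q * contrib 2 C e (z ^ galExp N K σ) χ₀ ψ / ((2 : ℕ) : ℂ) ^ h) := by
    intro σ
    have hk : (galExp N K σ).Coprime (orderOf z) :=
      Nat.Coprime.coprime_dvd_right hord (galExp_coprime N K σ)
    have hz' : ∃ k : ℕ, orderOf (z ^ galExp N K σ) = 2 ^ k := by
      obtain ⟨k₀, hk₀⟩ := hz
      refine ⟨k₀, ?_⟩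
      rw [Nat.Coprime.orderOf_pow hk.symm, hk₀]
    have hC' : C = Subgroup.centralizer ({z ^ galExp N K σ} : Set G) :=
      hC.trans (centralizer_pow_eq z _ hk).symm
    have h5 := (contrib_5H hM (z ^ galExp N K σ) hz' C hC' B e hind hdef χ₀ ψ hχ₀ h0 hψ).1
    rw [← hdef] at h5
    exact h5
  have hy0 : y ≠ 0 := by
    intro hy
    have h1 := hval AlgEquiv.refl
    rw [hy] at h1
    simp only [map_zero, zero_div] at h1
    apply (hunit AlgEquiv.refl).2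
    rw [← h1]
    exact memLocalIdeal_zero hprime.one_notMem
  have h2 := card_gal_le_sum_norm_sq_local hM K φ y hyint hy0 (m + h) (fun σ => by
    rw [hval σ]; exact (hunit σ).1)
  -- rewrite the right-hand side
  have h4pos : (0 : ℝ) < (4 : ℝ) ^ h := by positivity
  have hterm : ∀ σ : K ≃ₐ[ℚ] K, ‖φ (σ y) / ((2 : ℕ) : ℂ) ^ (m + h)‖ ^ 2 =
      ‖(2 : ℂ) ^ q * contrib 2 C e (z ^ galExp N K σ) χ₀ ψ‖ ^ 2 / (4 : ℝ) ^ h := by
    intro σ
    rw [hval σ, norm_div, div_pow, norm_pow, Nat.cast_ofNat]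
    congr 1
    rw [← pow_mul, mul_comm, pow_mul]
    norm_num
  have h3 : (Fintype.card (K ≃ₐ[ℚ] K) : ℝ) ≤
      (∑ σ : K ≃ₐ[ℚ] K, ‖(2 : ℂ) ^ q * contrib 2 C e (z ^ galExp N K σ) χ₀ ψ‖ ^ 2) / (4 : ℝ) ^ h := by
    rw [Finset.sum_div]
    refine le_trans h2 (le_of_eq ?_)
    exact Finset.sum_congr rfl fun σ _ => hterm σ
  rw [le_div_iff₀ h4pos] at h3
  rw [← card_gal_eq_card_units N K]
  refine le_trans h3 (le_of_eq ?_)
  exact sum_gal_eq_sum_units_real N K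
    (fun k => ‖(2 : ℂ) ^ q * contrib 2 C e (z ^ k) χ₀ ψ‖ ^ 2)

end Cfsg.Agent.Lib.Helper18.TwoMajBL
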