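import Mathlib
import Cfsg.Agent.Lib.Helper18.UNdDefs
import Cfsg.Agent.Lib.Helper18.UDenseMain
import Cfsg.Agent.Lib.Helper14.Unitary2

/-!
S5655 (k = 1, q ≥ 3), leaf L0: the dense case is impossible (`UDense.not_worldW` with the torus `Θ = normOne F q`, of order
`q + 1 ≥ 4`), so a subgroup containing the monomial group of `GU ⊓ SL` and a non-monomial element contains a non-monomial
element with a monomial column.
-/

set_option autoImplicit false

namespace Cfsg.Agent.Lib.Helper18.UNd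
open Cfsg Matrix Cfsg.Agent.Lib.Helper11.Mono Cfsg.Agent.Lib.Helper15.MonoLeaf
  Cfsg.Agent.Lib.Helper2.MonoLeaf Cfsg.Agent.Lib.Helper5.SUMax Cfsg.Agent.Lib.Helper5.HermBridge
  Cfsg.Agent.Lib.Helper5.UForm

variable {F : Type*} [Field F] [Fintype F] {n q : ℕ}

/-- L0: the dense case is impossible, so a non-monomial element with a monomial column exists. -/
theorem exists_nonmono_monoCol (hF : Fintype.card F = q ^ 2) (hq : 3 ≤ q) (hn : 11 ≤ n)
    (M : Subgroup (GL (Fin n) F)) (hH : ContainsMonoU n q M)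
    (g : GL (Fin n) F) (hg : g ∈ M) (hnm : ¬ IsMono (g : Matrix (Fin n) (Fin n) F)) :
    ∃ h ∈ M, ¬ IsMono (h : Matrix (Fin n) (Fin n) F) ∧ HasMonoCol (h : Matrix (Fin n) (Fin n) F) := by
  classical
  set Θ : Subgroup Fˣ := Cfsg.Agent.Lib.Helper14.normOne F q with hΘdef
  have hcard : Nat.card Θ = q + 1 := Cfsg.Agent.Lib.Helper14.card_normOne hF
  have hΘ4 : 4 ≤ Nat.card Θ := by omega
  have hT : Cfsg.Agent.Lib.Helper18.UDense.HasTorus Θ M := by
    intro c c' hcc ε hε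
    exact dg_tcc_mem_M hH hcc ((Cfsg.Agent.Lib.Helper14.mem_normOne ε).mp hε)
  -- an element of prime order
  obtain ⟨r, hr, hrd⟩ : ∃ r : ℕ, r.Prime ∧ r ∣ q + 1 := Nat.exists_prime_and_dvd (by omega)
  haveI : Fact r.Prime := ⟨hr⟩
  haveI : Finite Θ := Nat.finite_of_card_ne_zero (by omega)
  obtain ⟨ζ, hζ⟩ := exists_prime_orderOf_dvd_card' (G := Θ) r (by rw [hcard]; exact hrd)
  have hζ' : orderOf (ζ : Fˣ) = r := by rw [Subgroup.orderOf_coe]; exact hζ
  have hnW := Cfsg.Agent.Lib.Helper18.UDense.not_worldW (ι := Fin n) (by simpa using hn) Θ hΘ4 M hT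
    (ζ : Fˣ) ζ.2 r hr hζ' g hg hnm
  unfold WorldW at hnW
  push Not at hnW
  obtain ⟨h, hh, hcol, hnmh⟩ := hnW
  exact ⟨h, hh, hnmh, hcol⟩

end Cfsg.Agent.Lib.Helper18.UNd
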