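import Mathlib
import Cfsg.Agent.Lib.Helper18.UNdDefs

/-!
S5655 (k = 1, q ≥ 3), leaf ND1a: virtual reflections.  If `h ∈ M` has `h e_j ∈ ⟨e_i⟩` then every other column `u = h e_a`
is a virtual reflection centre with spare coordinate `i`: `u ∈ Sig n q M i`.
-/

set_option autoImplicit false

namespace Cfsg.Agent.Lib.Helper18.UNd
open Cfsg Matrix Cfsg.Agent.Lib.Helper11.Mono Cfsg.Agent.Lib.Helper15.MonoLeaf
  Cfsg.Agent.Lib.Helper2.MonoLeaf Cfsg.Agent.Lib.Helper5.SUMax Cfsg.Agent.Lib.Helper5.HermBridge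
  Cfsg.Agent.Lib.Helper5.UForm

variable {F : Type*} [Field F] [Fintype F] {n q : ℕ}

lemma dg_tcc_mulVec_eq {a j : Fin n} (haj : a ≠ j) (ε : Fˣ) (y : Fin n → F) :
    ((dg (tcc a j ε) : GL (Fin n) F) : Matrix (Fin n) (Fin n) F) *ᵥ y =
      y + (((ε : F) - 1) * y a) • (Pi.single a (1 : F) : Fin n → F) +
        ((((ε⁻¹ : Fˣ) : F) - 1) * y j) • (Pi.single j (1 : F) : Fin n → F) := by
  rw [dg_tcc_mulVec haj]
  ext k
  simp only [Pi.add_apply, Pi.smul_apply, smul_eq_mul]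
  by_cases hka : k = a
  · subst hka
    rw [if_pos rfl, Pi.single_eq_same, Pi.single_eq_of_ne haj]
    ring
  · rw [if_neg hka, Pi.single_eq_of_ne hka]
    by_cases hkj : k = j
    · subst hkj
      rw [if_pos rfl, Pi.single_eq_same]
      ring
    · rw [if_neg hkj, Pi.single_eq_of_ne hkj]
      ring

/-- ND1a VIRTUAL REFLECTIONS. -/
theorem col_mem_Sig (hF : Fintype.card F = q ^ 2) (M : Subgroup (GL (Fin n) F))
    (hM : M ≤ Cfsg.GU n F q ⊓ Cfsg.Geo.specialLinear (Fin n) F) (hH : ContainsMonoU n q M)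
    (h : GL (Fin n) F) (hh : h ∈ M) (j i : Fin n) (hcol : ColAt (h : Matrix (Fin n) (Fin n) F) j i)
    (a : Fin n) (haj : a ≠ j) : (h : Matrix (Fin n) (Fin n) F).col a ∈ Sig n q M i := by
  classical
  have hf := herm_unitary (n := n) hF
  have hq0 : q ≠ 0 := by
    have := Cfsg.Agent.Lib.Helper14.herm_two_le hF
    omega
  have hU := mem_GU.mp (hM hh).1
  obtain ⟨u, hudef⟩ : ∃ u, u = (h : Matrix (Fin n) (Fin n) F).col a := ⟨_, rfl⟩
  have hu : (h : Matrix (Fin n) (Fin n) F) *ᵥ (Pi.single a (1 : F)) = u := by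
    rw [hudef, Matrix.mulVec_single_one]
  obtain ⟨c, hcdef⟩ : ∃ c, c = (h : Matrix (Fin n) (Fin n) F) i j := ⟨_, rfl⟩
  have hj : (h : Matrix (Fin n) (Fin n) F) *ᵥ (Pi.single j (1 : F)) =
      c • (Pi.single i (1 : F) : Fin n → F) := by
    rw [hcdef]; exact mulVec_single_of_colAt hcol
  have hc0 : c ≠ 0 := by rw [hcdef]; exact entry_ne_zero_of_colAt h hcol
  -- norms
  have huu : Cfsg.hermForm n F q u u = 1 := by
    rw [← hu, hU, herm_single_right hq0, Pi.single_eq_same]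
  have hcN : c * c ^ q = 1 := by
    have h1 := hU (Pi.single j (1 : F)) (Pi.single j (1 : F))
    rw [hj, hf.smul_left, u_smul_right hf, herm_single_right hq0, herm_single_right hq0,
      Pi.single_eq_same, Pi.single_eq_same, frobQ_apply] at h1
    linear_combination h1
  have hui : u i = 0 := by
    have h1 := hU (Pi.single a (1 : F)) (Pi.single j (1 : F))
    rw [hu, hj, u_smul_right hf, herm_single_right hq0, herm_single_right hq0,
      Pi.single_eq_of_ne haj.symm, frobQ_apply] at h1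
    rcases mul_eq_zero.mp h1 with h2 | h2
    · exact absurd (pow_eq_zero_iff hq0 |>.mp h2) hc0
    · exact h2
  rw [← hudef]
  refine ⟨hui, huu, fun ε hε => ?_⟩
  refine ⟨h * dg (tcc a j ε) * h⁻¹, M.mul_mem (M.mul_mem hh (dg_tcc_mem_M hH haj hε)) (M.inv_mem hh),
    fun x => ?_⟩
  obtain ⟨y, hydef⟩ : ∃ y, y = ((h⁻¹ : GL (Fin n) F) : Matrix (Fin n) (Fin n) F) *ᵥ x := ⟨_, rfl⟩
  have hhy : (h : Matrix (Fin n) (Fin n) F) *ᵥ y = x := by
    rw [hydef]; exact mulVec_inv_mulVec h x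
  have hya : y a = Cfsg.hermForm n F q x u := by
    rw [← herm_single_right (q := q) hq0 y a, ← hU, hhy, hu]
  have hyj : y j = c ^ q * x i := by
    rw [← herm_single_right (q := q) hq0 y j, ← hU, hhy, hj, u_smul_right hf, herm_single_right hq0,
      frobQ_apply]
  rw [Units.val_mul, Units.val_mul, ← Matrix.mulVec_mulVec, ← Matrix.mulVec_mulVec, ← hydef,
    dg_tcc_mulVec_eq haj, Matrix.mulVec_add, Matrix.mulVec_add, Matrix.mulVec_smul,
    Matrix.mulVec_smul, hhy, hu, hj, hya, hyj, smul_smul]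
  congr 2
  linear_combination ((((ε⁻¹ : Fˣ) : F) - 1) * x i) * hcN

end Cfsg.Agent.Lib.Helper18.UNd
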