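import Mathlib
import Cfsg.Agent.Lib.Helper18.UNdDefs
import Cfsg.Agent.Lib.Helper18.UNdND1a

/-!
S5655 (k = 1, q ≥ 3), leaf ND1c (main computation, `q` odd): a virtual reflection centre `u ∈ Sig n q M i` with a coordinate
`u_l`, `N(u_l) ∉ {0,1}`, gives a unitary transvection in `M` (`HasTv hF M i`).  The pigeonhole lemma PIG-a and the lemma UT enter
as hypotheses `hPIG`, `hUT`.
-/

set_option autoImplicit false

namespace Cfsg.Agent.Lib.Helper18.UNd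
open Cfsg Matrix Cfsg.Agent.Lib.Helper11.Mono Cfsg.Agent.Lib.Helper15.MonoLeaf
  Cfsg.Agent.Lib.Helper2.MonoLeaf Cfsg.Agent.Lib.Helper5.SUMax Cfsg.Agent.Lib.Helper5.HermBridge
  Cfsg.Agent.Lib.Helper5.UForm

variable {F : Type*} [Field F] [Fintype F] {n q : ℕ}

lemma natCast_q_eq_zero (hF : Fintype.card F = q ^ 2) : ((q : ℕ) : F) = 0 := by
  have h1 : ((Fintype.card F : ℕ) : F) = 0 := Nat.cast_card_eq_zero F
  rw [hF, Nat.cast_pow] at h1
  exact pow_eq_zero_iff (two_ne_zero) |>.mp h1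

omit [Fintype F] in
lemma pow_mulVec_eigen (Y : GL (Fin n) F) (w : Fin n → F) (μ : F)
    (h : (Y : Matrix (Fin n) (Fin n) F) *ᵥ w = μ • w) (m : ℕ) :
    ((Y ^ m : GL (Fin n) F) : Matrix (Fin n) (Fin n) F) *ᵥ w = μ ^ m • w := by
  induction m with
  | zero => simp
  | succ m ih =>
    rw [pow_succ, Units.val_mul, ← Matrix.mulVec_mulVec, h, Matrix.mulVec_smul, ih, smul_smul, pow_succ,
      mul_comm]

omit [Fintype F] in
lemma pow_mulVec_jordan (Y : GL (Fin n) F) (p z : Fin n → F) (κ : F)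
    (h1 : (Y : Matrix (Fin n) (Fin n) F) *ᵥ p = κ • p + z)
    (h2 : (Y : Matrix (Fin n) (Fin n) F) *ᵥ z = κ • z) (m : ℕ) :
    ((Y ^ (m + 1) : GL (Fin n) F) : Matrix (Fin n) (Fin n) F) *ᵥ p =
      κ ^ (m + 1) • p + (((m + 1 : ℕ) : F) * κ ^ m) • z := by
  induction m with
  | zero => simp [h1]
  | succ m ih =>
    rw [pow_succ, Units.val_mul, ← Matrix.mulVec_mulVec, h1, Matrix.mulVec_add, Matrix.mulVec_smul, ih,
      pow_mulVec_eigen Y z κ h2 (m + 1)]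
    push_cast
    module

/-- `N(x) = x^(q+1)` is fixed by `x ↦ x^q` -/
lemma norm_pow_q (hF : Fintype.card F = q ^ 2) (x : F) : (x ^ (q + 1)) ^ q = x ^ (q + 1) := by
  rw [← pow_mul, mul_comm, pow_mul, pow_succ, pow_q_pow_q hF, pow_succ, mul_comm]

/-- ND1c with the two leaves as hypotheses. -/
theorem hasTv_of_mem_Sig_core (hF : Fintype.card F = q ^ 2) (h2 : (2 : F) ≠ 0)
    (M : Subgroup (GL (Fin n) F))
    (hM : M ≤ Cfsg.GU n F q ⊓ Cfsg.Geo.specialLinear (Fin n) F) (hH : ContainsMonoU n q M)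
    (hPIG : ∀ y : F, y ≠ 0 → y ^ q = y → ∃ ξ₁ ξ₂ : Fˣ, ξ₁ ^ (q + 1) = 1 ∧ ξ₂ ^ (q + 1) = 1 ∧ ξ₁ ≠ 1 ∧
      ξ₂ ≠ 1 ∧ (1 - (ξ₁ : F)) ^ (q + 1) = y * (1 - (ξ₂ : F)) ^ (q + 1))
    (hUT : ∀ t : GL (Fin n) F, t ∈ Cfsg.GU n F q → ∀ (z : Fin n → F) (φ : (Fin n → F) → F),
      (∀ x : Fin n → F, (t : Matrix (Fin n) (Fin n) F) *ᵥ x = x + φ x • z) →
      (t : Matrix (Fin n) (Fin n) F) *ᵥ z = z → t ≠ 1 →
      Cfsg.hermForm n F q z z = 0 ∧ ∃ c : F, c ≠ 0 ∧ frobQ hF c = -c ∧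
        ∀ x : Fin n → F, (t : Matrix (Fin n) (Fin n) F) *ᵥ x = x + (c * Cfsg.hermForm n F q x z) • z)
    (i l : Fin n) (hli : l ≠ i) (u : Fin n → F) (hu : u ∈ Sig n q M i)
    (hx0 : u l ≠ 0) (hx1 : u l ^ (q + 1) ≠ 1) : HasTv hF M i := by
  classical
  have hf := herm_unitary (n := n) hF
  have hq0 : q ≠ 0 := by
    have := Cfsg.Agent.Lib.Helper14.herm_two_le hF
    omega
  obtain ⟨hui, huu, hR⟩ := hu
  obtain ⟨γ, hγdef⟩ : ∃ γ, γ = u l := ⟨_, rfl⟩
  rw [← hγdef] at hx0 hx1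
  obtain ⟨x, hxdef⟩ : ∃ x, x = γ ^ (q + 1) := ⟨_, rfl⟩
  have hxγ : γ * γ ^ q = x := by rw [hxdef, pow_succ, mul_comm]
  have hxq : x ^ q = x := by rw [hxdef]; exact norm_pow_q hF γ
  have hx0' : x ≠ 0 := by rw [hxdef]; exact pow_ne_zero _ hx0
  have hx1' : x ≠ 1 := by rw [hxdef]; exact hx1
  have hx1'' : x - 1 ≠ 0 := sub_ne_zero.mpr hx1'
  -- the pigeonhole
  obtain ⟨ξm, ξp, hm1, hp1, hmne, hpne, hpig⟩ := hPIG (x / (x - 1)) (div_ne_zero hx0' hx1'')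
    (by rw [div_pow, ← frobQ_apply hF (x - 1), map_sub, map_one, frobQ_apply, hxq])
  obtain ⟨p, hpdef⟩ : ∃ p : F, p = (ξp : F) := ⟨_, rfl⟩
  obtain ⟨m, hmdef⟩ : ∃ m : F, m = (ξm : F) := ⟨_, rfl⟩
  have hp0 : p ≠ 0 := by rw [hpdef]; exact ξp.ne_zero
  have hm0 : m ≠ 0 := by rw [hmdef]; exact ξm.ne_zero
  have hpN : p ^ (q + 1) = 1 := by
    rw [hpdef, ← Units.val_pow_eq_pow_val, hp1, Units.val_one]
  have hmN : m ^ (q + 1) = 1 := by
    rw [hmdef, ← Units.val_pow_eq_pow_val, hm1, Units.val_one]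
  have hpq : p ^ q = p⁻¹ := by
    rw [pow_succ] at hpN
    exact eq_inv_of_mul_eq_one_left hpN
  have hmq : m ^ q = m⁻¹ := by
    rw [pow_succ] at hmN
    exact eq_inv_of_mul_eq_one_left hmN
  have hp1' : p ≠ 1 := by rw [hpdef]; exact fun e => hpne (Units.ext e)
  have hm1' : m ≠ 1 := by rw [hmdef]; exact fun e => hmne (Units.ext e)
  have hE : (x - 1) * p * (1 - m) ^ 2 = x * m * (1 - p) ^ 2 := by
    have e1 : (1 - m) ^ (q + 1) = (1 - m) * (1 - m⁻¹) := by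
      rw [pow_succ', ← frobQ_apply hF (1 - m), map_sub, map_one, frobQ_apply, hmq]
    have e2 : (1 - p) ^ (q + 1) = (1 - p) * (1 - p⁻¹) := by
      rw [pow_succ', ← frobQ_apply hF (1 - p), map_sub, map_one, frobQ_apply, hpq]
    rw [← hpdef, ← hmdef, e1, e2] at hpig
    field_simp at hpig
    linear_combination (-1 : F) * hpig
  have hpm : p ≠ m := by
    intro e
    rw [e] at hE
    have h3 : m * (1 - m) ^ 2 = 0 := by linear_combination (-1 : F) * hE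
    rcases mul_eq_zero.mp h3 with h4 | h4
    · exact hm0 h4
    · exact hm1' (sub_eq_zero.mp (pow_eq_zero_iff (two_ne_zero) |>.mp h4)).symm
  -- the two torus parameters
  obtain ⟨a, hadef⟩ : ∃ a : Fˣ, a = ξp * ξm := ⟨_, rfl⟩
  obtain ⟨b, hbdef⟩ : ∃ b : Fˣ, b = ξp * ξm⁻¹ := ⟨_, rfl⟩
  have ha1 : a ^ (q + 1) = 1 := by rw [hadef, mul_pow, hp1, hm1, one_mul]
  have hb1 : b ^ (q + 1) = 1 := by rw [hbdef, mul_pow, inv_pow, hp1, hm1, inv_one, one_mul]
  obtain ⟨A, hAdef⟩ : ∃ A : F, A = p * m := ⟨_, rfl⟩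
  obtain ⟨B, hBdef⟩ : ∃ B : F, B = p * m⁻¹ := ⟨_, rfl⟩
  have haF : (a : F) = A := by rw [hadef, Units.val_mul, hAdef, hpdef, hmdef]
  have hbF : (b : F) = B := by
    rw [hbdef, Units.val_mul, Units.val_inv_eq_inv_val, hBdef, hpdef, hmdef]
  have haiF : ((a⁻¹ : Fˣ) : F) = A⁻¹ := by rw [Units.val_inv_eq_inv_val, haF]
  have hbiF : ((b⁻¹ : Fˣ) : F) = B⁻¹ := by rw [Units.val_inv_eq_inv_val, hbF]
  have hA0 : A ≠ 0 := by rw [hAdef]; exact mul_ne_zero hp0 hm0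
  have hB0 : B ≠ 0 := by rw [hBdef]; exact mul_ne_zero hp0 (inv_ne_zero hm0)
  have hB1 : B ≠ 1 := by
    rw [hBdef]
    intro e
    apply hpm
    field_simp at e
    exact e
  obtain ⟨R, hRM, hRx⟩ := hR b hb1
  have hδM : (dg (tcc l i a) : GL (Fin n) F) ∈ M := dg_tcc_mem_M hH hli ha1
  obtain ⟨Y, hYdef⟩ : ∃ Y : GL (Fin n) F, Y = dg (tcc l i a) * R := ⟨_, rfl⟩
  have hYM : Y ∈ M := by rw [hYdef]; exact M.mul_mem hδM hRM
  -- the action of `Y`
  have hYF : ∀ v : Fin n → F, (Y : Matrix (Fin n) (Fin n) F) *ᵥ v =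
      v + ((B - 1) * Cfsg.hermForm n F q v u) • u +
        ((A - 1) * (v l + (B - 1) * Cfsg.hermForm n F q v u * γ)) • (Pi.single l (1 : F) : Fin n → F) +
        ((A⁻¹ * B⁻¹ - 1) * v i) • (Pi.single i (1 : F) : Fin n → F) := by
    intro v
    rw [hYdef, Units.val_mul, ← Matrix.mulVec_mulVec, hRx, dg_tcc_mulVec_eq hli, haF, haiF, hbF, hbiF]
    simp only [Pi.add_apply, Pi.smul_apply, smul_eq_mul, Pi.single_eq_same,
      Pi.single_eq_of_ne hli, hui, mul_zero, add_zero, mul_one, ← hγdef]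
    module
  obtain ⟨e, hedef⟩ : ∃ e : Fin n → F, e = Pi.single l (1 : F) := ⟨_, rfl⟩
  obtain ⟨ei, heidef⟩ : ∃ ei : Fin n → F, ei = Pi.single i (1 : F) := ⟨_, rfl⟩
  rw [← hedef, ← heidef] at hYF
  have hfeu : Cfsg.hermForm n F q e u = γ ^ q := by rw [hedef, herm_single_left, hγdef]
  have hfeiu : Cfsg.hermForm n F q ei u = 0 := by
    rw [heidef, herm_single_left, hui, zero_pow hq0]
  have hel : e l = 1 := by rw [hedef, Pi.single_eq_same]
  have hei : e i = 0 := by rw [hedef, Pi.single_eq_of_ne hli.symm]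
  have heil : ei l = 0 := by rw [heidef, Pi.single_eq_of_ne hli]
  have heii : ei i = 1 := by rw [heidef, Pi.single_eq_same]
  obtain ⟨A11, hA11⟩ : ∃ A11 : F, A11 = A + (A - 1) * (B - 1) * x := ⟨_, rfl⟩
  obtain ⟨A21, hA21⟩ : ∃ A21 : F, A21 = (B - 1) * γ ^ q := ⟨_, rfl⟩
  obtain ⟨A12, hA12⟩ : ∃ A12 : F, A12 = (A - 1) * B * γ := ⟨_, rfl⟩
  have hYe : (Y : Matrix (Fin n) (Fin n) F) *ᵥ e = A11 • e + A21 • u := by
    rw [hYF, hfeu, hel, hei, hA11, hA21, ← hxγ]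
    module
  have hYu : (Y : Matrix (Fin n) (Fin n) F) *ᵥ u = A12 • e + B • u := by
    rw [hYF, huu, ← hγdef, hui, hA12]
    module
  have hYi : (Y : Matrix (Fin n) (Fin n) F) *ᵥ ei = (A⁻¹ * B⁻¹) • ei := by
    rw [hYF, hfeiu, heil, heii]
    module
  have hY0 : ∀ v : Fin n → F, v i = 0 → v l = 0 → Cfsg.hermForm n F q v u = 0 →
      (Y : Matrix (Fin n) (Fin n) F) *ᵥ v = v := by
    intro v h1 h2' h3
    rw [hYF, h1, h2', h3]
    module
  -- trace and determinant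
  have hT : A11 + B = 2 * p := by
    rw [hA11, hAdef, hBdef]
    field_simp
    linear_combination (-1 : F) * hE
  have hD : A11 * B - A12 * A21 = p ^ 2 := by
    rw [hA11, hA12, hA21, hAdef, hBdef, ← hxγ]
    field_simp
    ring
  have hA21ne : A21 ≠ 0 := by
    rw [hA21]
    exact mul_ne_zero (sub_ne_zero.mpr hB1) (pow_ne_zero _ hx0)
  -- the eigenvector
  obtain ⟨z, hzdef⟩ : ∃ z : Fin n → F, z = (A11 - p) • e + A21 • u := ⟨_, rfl⟩
  have hYe' : (Y : Matrix (Fin n) (Fin n) F) *ᵥ e = p • e + z := by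
    rw [hYe, hzdef]; module
  have hYz : (Y : Matrix (Fin n) (Fin n) F) *ᵥ z = p • z := by
    rw [hzdef, Matrix.mulVec_add, Matrix.mulVec_smul, Matrix.mulVec_smul, hYe, hYu]
    have h5 : B = 2 * p - A11 := by linear_combination hT
    have h6 : A12 * A21 = A11 * B - p ^ 2 := by linear_combination (-1 : F) * hD
    have h7 : (A11 - p) • (A11 • e + A21 • u) + A21 • (A12 • e + B • u) =
        ((A11 - p) * A11 + A12 * A21) • e + (A21 * (A11 - p + B)) • u := by module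
    rw [h7, h6, h5]
    module
  -- the power
  obtain ⟨t, htdef⟩ : ∃ t : GL (Fin n) F, t = Y ^ (q + 1) := ⟨_, rfl⟩
  have htM : t ∈ M := by rw [htdef]; exact M.pow_mem hYM _
  have hq1 : (((q + 1 : ℕ)) : F) = 1 := by
    rw [Nat.cast_add, natCast_q_eq_zero hF, Nat.cast_one, zero_add]
  have hte : (t : Matrix (Fin n) (Fin n) F) *ᵥ e = e + p ^ q • z := by
    rw [htdef, pow_mulVec_jordan Y e z p hYe' hYz q, hpN, hq1, one_smul, one_mul]
  have htz : (t : Matrix (Fin n) (Fin n) F) *ᵥ z = z := by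
    rw [htdef, pow_mulVec_eigen Y z p hYz, hpN, one_smul]
  have htei : (t : Matrix (Fin n) (Fin n) F) *ᵥ ei = ei := by
    rw [htdef, pow_mulVec_eigen Y ei _ hYi]
    have : (A⁻¹ * B⁻¹) ^ (q + 1) = 1 := by
      rw [mul_pow, inv_pow, inv_pow, ← haF, ← hbF, ← Units.val_pow_eq_pow_val,
        ← Units.val_pow_eq_pow_val, ha1, hb1, Units.val_one, inv_one, one_mul]
    rw [this, one_smul]
  have ht0 : ∀ v : Fin n → F, v i = 0 → v l = 0 → Cfsg.hermForm n F q v u = 0 →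
      (t : Matrix (Fin n) (Fin n) F) *ᵥ v = v := by
    intro v h1 h2' h3
    have := pow_mulVec_eigen Y v 1 (by rw [one_smul]; exact hY0 v h1 h2' h3) (q + 1)
    rw [htdef, this, one_pow, one_smul]
  -- `u` in terms of `e` and `z`
  have hu_ez : u = A21⁻¹ • (z - (A11 - p) • e) := by
    rw [hzdef, add_sub_cancel_left, smul_smul, inv_mul_cancel₀ hA21ne, one_smul]
  have htu : (t : Matrix (Fin n) (Fin n) F) *ᵥ u = u - (A21⁻¹ * (A11 - p) * p ^ q) • z := by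
    have h8 : (t : Matrix (Fin n) (Fin n) F) *ᵥ u =
        A21⁻¹ • (z - (A11 - p) • (e + p ^ q • z)) := by
      conv_lhs => rw [hu_ez]
      rw [Matrix.mulVec_smul, Matrix.mulVec_sub, Matrix.mulVec_smul, htz, hte]
    rw [h8]
    have h9 : u - (A21⁻¹ * (A11 - p) * p ^ q) • z =
        A21⁻¹ • (z - (A11 - p) • e) - (A21⁻¹ * (A11 - p) * p ^ q) • z := by
      conv_lhs => rw [hu_ez]
    rw [h9]
    module
  -- the general vector
  obtain ⟨φ, hφdef⟩ : ∃ φ : (Fin n → F) → F, φ = fun v =>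
      p ^ q * ((v l - γ * Cfsg.hermForm n F q v u) / (1 - x) -
        (Cfsg.hermForm n F q v u - γ ^ q * v l) / (1 - x) * (A11 - p) / A21) := ⟨_, rfl⟩
  have h1x : 1 - x ≠ 0 := sub_ne_zero.mpr (Ne.symm hx1')
  have htx : ∀ v : Fin n → F, (t : Matrix (Fin n) (Fin n) F) *ᵥ v = v + φ v • z := by
    intro v
    obtain ⟨fu, hfu⟩ : ∃ fu, fu = Cfsg.hermForm n F q v u := ⟨_, rfl⟩
    obtain ⟨α, hα⟩ : ∃ α, α = (v l - γ * fu) / (1 - x) := ⟨_, rfl⟩
    obtain ⟨β, hβ⟩ : ∃ β, β = (fu - γ ^ q * v l) / (1 - x) := ⟨_, rfl⟩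
    obtain ⟨vi, hvi⟩ : ∃ vi, vi = v i := ⟨_, rfl⟩
    obtain ⟨v0, hv0⟩ : ∃ v0, v0 = v - vi • ei - α • e - β • u := ⟨_, rfl⟩
    have hv : v = v0 + vi • ei + α • e + β • u := by rw [hv0]; abel
    have h0i : v0 i = 0 := by
      rw [hv0]
      simp only [Pi.sub_apply, Pi.smul_apply, smul_eq_mul, heii, hei, hui, ← hvi]
      ring
    have h0l : v0 l = 0 := by
      rw [hv0]
      simp only [Pi.sub_apply, Pi.smul_apply, smul_eq_mul, heil, hel, ← hγdef]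
      rw [hα, hβ, ← hxγ]
      rw [← hxγ] at h1x
      field_simp
      ring
    have h0u : Cfsg.hermForm n F q v0 u = 0 := by
      rw [hv0, u_sub_left hf, u_sub_left hf, u_sub_left hf, hf.smul_left, hf.smul_left, hf.smul_left,
        hfeiu, hfeu, huu, ← hfu, hα, hβ, ← hxγ]
      rw [← hxγ] at h1x
      field_simp
      ring
    have hφv : φ v = p ^ q * (α - β * (A11 - p) / A21) := by
      rw [hφdef, hα, hβ, hfu]
    rw [hφv]
    have h10 : (t : Matrix (Fin n) (Fin n) F) *ᵥ v =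
        v0 + vi • ei + α • (e + p ^ q • z) + β • (u - (A21⁻¹ * (A11 - p) * p ^ q) • z) := by
      conv_lhs => rw [hv]
      rw [Matrix.mulVec_add, Matrix.mulVec_add, Matrix.mulVec_add, Matrix.mulVec_smul,
        Matrix.mulVec_smul, Matrix.mulVec_smul, ht0 v0 h0i h0l h0u, htei, hte, htu]
    rw [h10]
    have h11 : v + (p ^ q * (α - β * (A11 - p) / A21)) • z =
        v0 + vi • ei + α • e + β • u + (p ^ q * (α - β * (A11 - p) / A21)) • z := by
      conv_lhs => rw [hv]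
    rw [h11]
    module
  -- `z ≠ 0`: a coordinate `k ≠ l` with `u k ≠ 0`
  obtain ⟨k, hkl, huk⟩ : ∃ k, k ≠ l ∧ u k ≠ 0 := by
    by_contra hcon
    push Not at hcon
    apply hx1'
    rw [herm_self, Finset.sum_eq_single l] at huu
    · rw [hxdef, hγdef]; exact huu
    · intro b _ hb
      rw [hcon b hb, zero_pow (by omega)]
    · intro h
      exact absurd (Finset.mem_univ l) h
  have hki : k ≠ i := fun e' => huk (by rw [e']; exact hui)
  have hzk : z k = A21 * u k := by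
    rw [hzdef]
    simp only [Pi.add_apply, Pi.smul_apply, smul_eq_mul]
    rw [hedef, Pi.single_eq_of_ne hkl, mul_zero, zero_add]
  have hzk0 : z k ≠ 0 := by rw [hzk]; exact mul_ne_zero hA21ne huk
  have hzi : z i = 0 := by
    rw [hzdef]
    simp only [Pi.add_apply, Pi.smul_apply, smul_eq_mul]
    rw [hei, hui, mul_zero, mul_zero, add_zero]
  have hz0 : z ≠ 0 := fun h0 => hzk0 (by rw [h0]; rfl)
  have hpq0 : p ^ q ≠ 0 := pow_ne_zero _ hp0
  have ht1 : t ≠ 1 := by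
    intro h1
    rw [h1, Units.val_one, Matrix.one_mulVec] at hte
    have h12 : p ^ q • z = 0 := by
      have := hte
      rw [left_eq_add] at this
      exact this
    rcases smul_eq_zero.mp h12 with h13 | h13
    · exact hpq0 h13
    · exact hz0 h13
  obtain ⟨hzz, c0, hc0, hcs, htc⟩ := hUT t (hM htM).1 z φ htx htz ht1
  refine ⟨z, c0, t, k, htM, hzi, hki, hzk0, hzz, hc0, hcs, htc, ?_⟩
  intro h
  have h14 := congrArg (frobQ hF) h
  rw [map_mul, hcs, frobQ_apply, norm_pow_q hF, map_one] at h14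
  apply h2
  linear_combination (-1 : F) * h - h14

end Cfsg.Agent.Lib.Helper18.UNd
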