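import Mathlib
import Cfsg.Agent.Lib.Helper18.UNdDefs

/-!
S5655 (k = 1, q ≥ 3), ND1-odd assembly with the leaves ND1a (`hA`), PIG-b (`hB`), ND1c (`hC`) as hypotheses.
-/

set_option autoImplicit false

namespace Cfsg.Agent.Lib.Helper18.UNd
open Cfsg Matrix Cfsg.Agent.Lib.Helper11.Mono Cfsg.Agent.Lib.Helper15.MonoLeaf
  Cfsg.Agent.Lib.Helper2.MonoLeaf Cfsg.Agent.Lib.Helper5.SUMax Cfsg.Agent.Lib.Helper5.HermBridge
  Cfsg.Agent.Lib.Helper5.UForm

variable {F : Type*} [Field F] [Fintype F] {n q : ℕ}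

/-- a non-monomial invertible matrix with a monomial column `j` has a column `a ≠ j` with two non-zero entries -/
lemma exists_col_two (h : GL (Fin n) F) (hnm : ¬ IsMono (h : Matrix (Fin n) (Fin n) F))
    (j i : Fin n) (hcol : ColAt (h : Matrix (Fin n) (Fin n) F) j i) :
    ∃ a l m : Fin n, a ≠ j ∧ l ≠ m ∧ (h : Matrix (Fin n) (Fin n) F) l a ≠ 0 ∧
      (h : Matrix (Fin n) (Fin n) F) m a ≠ 0 := by
  classical
  by_contra hcon
  push Not at hcon
  apply hnm
  intro a
  by_cases haj : a = j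
  · subst haj
    exact ⟨i, hcol⟩
  · have hne := col_ne_zero h a
    obtain ⟨l, hl⟩ : ∃ l, (h : Matrix (Fin n) (Fin n) F) l a ≠ 0 := by
      by_contra hall
      push Not at hall
      apply hne
      ext k
      exact hall k
    exact ⟨l, fun k hk => hcon a l k haj (Ne.symm hk) hl⟩

theorem hasTv_odd_core (hF : Fintype.card F = q ^ 2) (M : Subgroup (GL (Fin n) F))
    (hA : ∀ (h' : GL (Fin n) F), h' ∈ M → ∀ (j' i' : Fin n),
      ColAt (h' : Matrix (Fin n) (Fin n) F) j' i' → ∀ a : Fin n, a ≠ j' →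
      (h' : Matrix (Fin n) (Fin n) F).col a ∈ Sig n q M i')
    (hB : ∀ y : F, ∃ ξ : Fˣ, ξ ^ (q + 1) = 1 ∧ ξ ≠ 1 ∧ (1 - (ξ : F)) ^ (q + 1) ≠ y)
    (hC : ∀ (i l : Fin n), l ≠ i → ∀ u : Fin n → F, u ∈ Sig n q M i → u l ≠ 0 →
      u l ^ (q + 1) ≠ 1 → HasTv hF M i)
    (h : GL (Fin n) F) (hh : h ∈ M) (hnm : ¬ IsMono (h : Matrix (Fin n) (Fin n) F))
    (j i : Fin n) (hcol : ColAt (h : Matrix (Fin n) (Fin n) F) j i) : HasTv hF M i := by
  classical
  have hq0 : q ≠ 0 := by
    have := Cfsg.Agent.Lib.Helper14.herm_two_le hF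
    omega
  obtain ⟨a, l, m, haj, hlm, hl, hm⟩ := exists_col_two h hnm j i hcol
  obtain ⟨u, hudef⟩ : ∃ u, u = (h : Matrix (Fin n) (Fin n) F).col a := ⟨_, rfl⟩
  have hu : u ∈ Sig n q M i := by rw [hudef]; exact hA h hh j i hcol a haj
  have hul : u l ≠ 0 := by rw [hudef]; exact hl
  have hum : u m ≠ 0 := by rw [hudef]; exact hm
  have hui : u i = 0 := hu.1
  have hli : l ≠ i := fun e => hul (by rw [e]; exact hui)
  have hmi : m ≠ i := fun e => hum (by rw [e]; exact hui)
  by_cases hex : ∃ k, u k ≠ 0 ∧ u k ^ (q + 1) ≠ 1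
  · obtain ⟨k, hk0, hk1⟩ := hex
    have hki : k ≠ i := fun e => hk0 (by rw [e]; exact hui)
    exact hC i k hki u hu hk0 hk1
  · push Not at hex
    obtain ⟨c, hc1, hcne, hcN⟩ := hB 1
    obtain ⟨R, hRM, hRx⟩ := hu.2.2 c hc1
    -- the column `i` of `R`
    have hRi : (R : Matrix (Fin n) (Fin n) F) *ᵥ (Pi.single i (1 : F)) =
        (((c⁻¹ : Fˣ) : F)) • (Pi.single i (1 : F) : Fin n → F) := by
      rw [hRx, herm_single_left, hui, zero_pow hq0, mul_zero, zero_smul, add_zero]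
      ext k
      simp only [Pi.add_apply, Pi.smul_apply, smul_eq_mul]
      by_cases hk : k = i
      · subst hk
        simp
      · simp [Pi.single_eq_of_ne hk]
    have hcolR : ColAt (R : Matrix (Fin n) (Fin n) F) i i := colAt_of_mulVec_single hRi
    have hu' : (R : Matrix (Fin n) (Fin n) F).col l ∈ Sig n q M i := hA R hRM i i hcolR l hli
    have hcolm : (R : Matrix (Fin n) (Fin n) F).col l m = ((c : F) - 1) * u l ^ q * u m := by
      rw [← Matrix.mulVec_single_one, hRx, herm_single_left]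
      simp only [Pi.add_apply, Pi.smul_apply, smul_eq_mul]
      rw [Pi.single_eq_of_ne (Ne.symm hlm), Pi.single_eq_of_ne hmi, Pi.single_eq_of_ne hli.symm]
      ring
    have hcF : (c : F) ^ (q + 1) = 1 := by
      have := congrArg Units.val hc1
      rwa [Units.val_pow_eq_pow_val, Units.val_one] at this
    have hcne' : (c : F) ≠ 1 := fun e => hcne (Units.ext e)
    have hneg : ((c : F) - 1) ^ (q + 1) = (1 - (c : F)) ^ (q + 1) := by
      have h1 : ((-1 : F)) ^ (q + 1) = 1 := by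
        have := congrArg Units.val (neg_one_pow_q_succ (F := F) hF)
        rwa [Units.val_pow_eq_pow_val, Units.val_neg, Units.val_one] at this
      have : (c : F) - 1 = (-1) * (1 - (c : F)) := by ring
      rw [this, mul_pow, h1, one_mul]
    have hN : ((R : Matrix (Fin n) (Fin n) F).col l m) ^ (q + 1) = (1 - (c : F)) ^ (q + 1) := by
      rw [hcolm, mul_pow, mul_pow, hneg, ← pow_mul, mul_comm q (q + 1), pow_mul, hex l hul, one_pow,
        hex m hum, mul_one, mul_one]
    apply hC i m hmi _ hu'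
    · rw [hcolm]
      refine mul_ne_zero (mul_ne_zero (sub_ne_zero.mpr hcne') (pow_ne_zero _ hul)) hum
    · rw [hN]
      exact hcN

end Cfsg.Agent.Lib.Helper18.UNd
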