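import Mathlib
import Cfsg.Agent.Lib.Helper18.UNdDefs
import Cfsg.Agent.Lib.Helper18.UNdND1a
import Cfsg.Agent.Lib.Helper18.UNdND1c
import Cfsg.Agent.Lib.Helper18.UNdOddCore
import Cfsg.Agent.Lib.Helper28.UNdPIG
import Cfsg.Agent.Lib.Helper28.UNdUT

/-!
S5655 (k = 1, q ≥ 3), leaves ND1c and ND1-odd with their exact signatures (PIG and UT of helper28 plugged in).
-/

set_option autoImplicit false

namespace Cfsg.Agent.Lib.Helper18.UNd
open Cfsg Matrix Cfsg.Agent.Lib.Helper11.Mono Cfsg.Agent.Lib.Helper15.MonoLeaf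
  Cfsg.Agent.Lib.Helper2.MonoLeaf Cfsg.Agent.Lib.Helper5.SUMax Cfsg.Agent.Lib.Helper5.HermBridge
  Cfsg.Agent.Lib.Helper5.UForm

variable {F : Type*} [Field F] [Fintype F] {n q : ℕ}

/-- ND1c (the main computation, `q` odd). -/
theorem hasTv_of_mem_Sig (hF : Fintype.card F = q ^ 2) (h2 : (2 : F) ≠ 0) (M : Subgroup (GL (Fin n) F))
    (hM : M ≤ Cfsg.GU n F q ⊓ Cfsg.Geo.specialLinear (Fin n) F) (hH : ContainsMonoU n q M)
    (i l : Fin n) (hli : l ≠ i) (u : Fin n → F) (hu : u ∈ Sig n q M i)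
    (hx0 : u l ≠ 0) (hx1 : u l ^ (q + 1) ≠ 1) : HasTv hF M i :=
  hasTv_of_mem_Sig_core hF h2 M hM hH
    (fun y hy0 hy => Cfsg.Agent.Lib.Helper28.UNdLeaf.exists_norm_ratio hF y hy0 hy)
    (fun t ht z φ htx htz ht1 => Cfsg.Agent.Lib.Helper28.UNdLeaf.tv_of_rank_one hF t ht z φ htx htz ht1)
    i l hli u hu hx0 hx1

/-- ND1-odd (assembly). -/
theorem hasTv_odd (hF : Fintype.card F = q ^ 2) (hq : 3 ≤ q) (h2 : (2 : F) ≠ 0) (M : Subgroup (GL (Fin n) F))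
    (hM : M ≤ Cfsg.GU n F q ⊓ Cfsg.Geo.specialLinear (Fin n) F) (hH : ContainsMonoU n q M)
    (h : GL (Fin n) F) (hh : h ∈ M) (hnm : ¬ IsMono (h : Matrix (Fin n) (Fin n) F))
    (j i : Fin n) (hcol : ColAt (h : Matrix (Fin n) (Fin n) F) j i) : HasTv hF M i :=
  hasTv_odd_core hF M
    (fun h' hh' j' i' hcol' a ha => col_mem_Sig hF M hM hH h' hh' j' i' hcol' a ha)
    (fun y => Cfsg.Agent.Lib.Helper28.UNdLeaf.exists_norm_ne hF hq y)
    (fun i' l' hli' u hu hx0 hx1 => hasTv_of_mem_Sig hF h2 M hM hH i' l' hli' u hu hx0 hx1)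
    h hh hnm j i hcol

end Cfsg.Agent.Lib.Helper18.UNd
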