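import Mathlib
import Cfsg.Agent.Lib.Helper18.UNdDefs
import Cfsg.Agent.Lib.Helper18.UNdL0
import Cfsg.Agent.Lib.Helper18.UNdOdd
import Cfsg.Agent.Lib.Helper12.UNdND1e
import Cfsg.Agent.Lib.Helper24.UNdFILL
import Cfsg.Agent.Lib.Helper11.UNdSHRINK
import Cfsg.Agent.Lib.Helper11.UNdALL2

/-!
S5655 (k = 1, q ≥ 3): the core statement in the standard frame, with the last leaf GROW as a hypothesis `hGROW`.
-/

set_option autoImplicit false

namespace Cfsg.Agent.Lib.Helper18.UNd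
open Cfsg Matrix Cfsg.Agent.Lib.Helper11.Mono Cfsg.Agent.Lib.Helper15.MonoLeaf
  Cfsg.Agent.Lib.Helper2.MonoLeaf Cfsg.Agent.Lib.Helper5.SUMax Cfsg.Agent.Lib.Helper5.HermBridge
  Cfsg.Agent.Lib.Helper5.UForm

variable {F : Type*} [Field F] [Fintype F] {n q : ℕ}

theorem k1_std_core_q3_of (hF : Fintype.card F = q ^ 2) (hq : 3 ≤ q) (hn : 13 ≤ n)
    (M : Subgroup (GL (Fin n) F))
    (hGROW : (∀ (a b : Fin n) (α β : F), a ≠ b → α ^ (q + 1) + β ^ (q + 1) = 0 →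
        w2 a b α β ∈ Sset hF M) → ∀ v : Fin n → F, Cfsg.hermForm n F q v v = 0 → v ∈ Sset hF M)
    (hM : M ≤ Cfsg.GU n F q ⊓ Cfsg.Geo.specialLinear (Fin n) F)
    (hH : ∀ g : GL (Fin n) F, g ∈ Cfsg.GU n F q ⊓ Cfsg.Geo.specialLinear (Fin n) F →
      IsMono (g : Matrix (Fin n) (Fin n) F) → g ∈ M)
    (hne : ∃ g ∈ M, ¬ IsMono (g : Matrix (Fin n) (Fin n) F)) :
    Cfsg.GU n F q ⊓ Cfsg.Geo.specialLinear (Fin n) F ≤ M := by
  obtain ⟨g, hg, hnm⟩ := hne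
  obtain ⟨h, hh, hhnm, j, i, hcol⟩ := exists_nonmono_monoCol hF hq (by omega) M hH g hg hnm
  have htv : HasTv hF M i := by
    by_cases h2 : (2 : F) = 0
    · exact Cfsg.Agent.Lib.Helper12.UNdLeaf.hasTv_even hF hq h2 M hM hH h hh hhnm j i hcol
    · exact hasTv_odd hF hq h2 M hM hH h hh hhnm j i hcol
  obtain ⟨z, c, t, l, ht, hzi, hli, hzl, hzz, hc0, hc, htx, hcl⟩ := htv
  have hzS : z ∈ Sset hF M :=
    Cfsg.Agent.Lib.Helper24.UNdLeaf.mem_Sset_of_tv hF M hM hH i l hli z hzi hzl hzz c hc0 hc t ht htx hcl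
  have hz0 : z ≠ 0 := fun h0 => hzl (by rw [h0]; rfl)
  obtain ⟨a, b, α, β, hab, hα, hβ, hαβ, hS⟩ :=
    Cfsg.Agent.Lib.Helper11.UNdLeaf.exists_weight_two hF hq M hM hH i z hzi hz0 hzz hzS
  have hall2 := Cfsg.Agent.Lib.Helper11.UNdLeaf.all_weight_two hF (by omega) M hM hH a b α β hab hα hβ hαβ hS
  have hall := hGROW (fun a' b' α' β' hab' h' => hall2 a' b' α' β' hab' h')
  exact le_of_forall_mem_Sset hF (by omega) (by omega) M hall

end Cfsg.Agent.Lib.Helper18.UNd
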