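import Mathlib
import Cfsg.Agent.Lib.Helper18.UNdMainCore
import Cfsg.Agent.Lib.Helper12.UNdGROW

/-!
S5655 (k = 1, q ≥ 3): the core statement in the standard frame.  A subgroup `M ≤ GU_n(q) ⊓ SL_n` (`n ≥ 13`, `q ≥ 3`) containing all
monomial matrices of `GU ⊓ SL` and one non-monomial matrix is `GU ⊓ SL`.
Chain: L0 (dense case impossible, helper18 + leaves of helper15/12/23) → ND1 (odd: helper18 + PIG/UT helper28; even: helper12) →
FILL (helper24) → SHRINK, ALL2 (helper11) → GROW (helper12) → `SUMax.le_of_forall_mem_Sset` (helper5).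
-/

set_option autoImplicit false

namespace Cfsg.Agent.Lib.Helper18.UNd
open Cfsg Matrix Cfsg.Agent.Lib.Helper11.Mono

variable {F : Type*} [Field F] [Fintype F] {n q : ℕ}

theorem k1_std_core_q3 (hF : Fintype.card F = q ^ 2) (hq : 3 ≤ q) (hn : 13 ≤ n)
    (M : Subgroup (GL (Fin n) F))
    (hM : M ≤ Cfsg.GU n F q ⊓ Cfsg.Geo.specialLinear (Fin n) F)
    (hH : ∀ g : GL (Fin n) F, g ∈ Cfsg.GU n F q ⊓ Cfsg.Geo.specialLinear (Fin n) F →
      IsMono (g : Matrix (Fin n) (Fin n) F) → g ∈ M)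
    (hne : ∃ g ∈ M, ¬ IsMono (g : Matrix (Fin n) (Fin n) F)) :
    Cfsg.GU n F q ⊓ Cfsg.Geo.specialLinear (Fin n) F ≤ M :=
  k1_std_core_q3_of hF hq hn M
    (Cfsg.Agent.Lib.Helper12.UNdLeaf.all_isotropic hF hq (by omega) M hM) hM hH hne

end Cfsg.Agent.Lib.Helper18.UNd
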