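import Mathlib
import Cfsg.Agent.Lib.Helper5.SUMax
import Cfsg.Agent.Lib.Helper18.C2Defs

/-!
S5655 (SU_n C2), PROPER for blocks of dimension `k ≥ 2`: a unitary transvection whose centre has two non-zero block
components does not stabilise the decomposition.
-/

set_option autoImplicit false

namespace Cfsg.Agent.Lib.Helper18.UProper
open Cfsg Matrix Cfsg.Agent.Lib.Helper5.SUMax Cfsg.Agent.Lib.Helper5.HermBridge
  Cfsg.Agent.Lib.Helper5.UForm Cfsg.Agent.Lib.Helper5.SUGen Cfsg.Agent.Lib.Helper18.C2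

variable {F : Type*} [Field F] [Fintype F] {n q : ℕ}

theorem exists_not_mem_stab (hF : Fintype.card F = q ^ 2) {t : ℕ} (k : ℕ) (hk : 2 ≤ k)
    (D : Fin t → Submodule F (Fin n → F))
    (hD : Cfsg.Geo.IsNondegenerateMDecomposition (Cfsg.hermForm n F q) k D) :
    ∃ g : GL (Fin n) F, g ∈ Cfsg.GU n F q ⊓ Cfsg.Geo.specialLinear (Fin n) F ∧
      g ∉ Cfsg.Geo.decompositionStabilizer D := by
  classical
  have hf := herm_unitary (n := n) hF
  have ht := hD.decomp.two_le
  obtain ⟨i0, hi0⟩ : ∃ i0 : Fin t, i0 = ⟨0, by omega⟩ := ⟨_, rfl⟩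
  obtain ⟨i1, hi1⟩ : ∃ i1 : Fin t, i1 = ⟨1, by omega⟩ := ⟨_, rfl⟩
  have h01 : i0 ≠ i1 := by
    rw [hi0, hi1]
    intro h
    have := congrArg Fin.val h
    simp at this
  have hND : ∀ i, ND (Cfsg.hermForm n F q) (D i) :=
    fun i u hu hu0 => (hD.nondegenerate i u hu hu0).1
  have hfr : ∀ i, Module.finrank F (D i) = k := hD.decomp.finrank_eq
  obtain ⟨x, hxD, hxx⟩ := exists_norm1 hf (hND i0) (by rw [hfr]; omega) 1 (map_one _)
  obtain ⟨y, hyD, hyy⟩ := exists_norm1 hf (hND i1) (by rw [hfr]; omega) (-1)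
    (by rw [map_neg, map_one])
  -- a non-zero vector of `D i0` orthogonal to `x`
  have hfin : 1 ≤ Module.finrank F ↥(D i0 ⊓ pp hf x) := by
    have := finrank_inf_pp hf (D i0) x
    rw [hfr] at this
    omega
  obtain ⟨h, hhU, hh0⟩ := exists_mem_ne_zero hfin
  obtain ⟨hhD, hhx⟩ := Submodule.mem_inf.mp hhU
  rw [mem_pp] at hhx
  have hxy : Cfsg.hermForm n F q x y = 0 := hD.orthogonal i0 i1 h01 x hxD y hyD
  have hyx : Cfsg.hermForm n F q y x = 0 := hD.orthogonal i1 i0 h01.symm y hyD x hxD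
  have hhy : Cfsg.hermForm n F q h y = 0 := hD.orthogonal i0 i1 h01 h hhD y hyD
  have hvv : Cfsg.hermForm n F q (x + y) (x + y) = 0 := by
    rw [hf.add_left, u_add_right hf, u_add_right hf, hxx, hxy, hyx, hyy]
    ring
  obtain ⟨c, hc0, hc⟩ := exists_skew hf.involutive hf.ne_refl
  obtain ⟨g, hgG, hg⟩ := exists_tvg hF hvv hc
  refine ⟨g, hgG, fun hgS => ?_⟩
  obtain ⟨σ, hσ⟩ := hgS
  -- the image of `w = x + h`
  have hwD : x + h ∈ D i0 := (D i0).add_mem hxD hhD
  have hfw : Cfsg.hermForm n F q (x + h) (x + y) = 1 := by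
    rw [hf.add_left, u_add_right hf, u_add_right hf, hxx, hxy, hhx, hhy]
    ring
  have hgw : (g : Matrix (Fin n) (Fin n) F) *ᵥ (x + h) = ((1 + c) • x + h) + c • y := by
    rw [hg, hfw, mul_one]
    module
  have hmem : (g : Matrix (Fin n) (Fin n) F) *ᵥ (x + h) ∈ D (σ i0) := by
    rw [← hσ i0]
    exact Submodule.mem_map.mpr ⟨x + h, hwD, by rw [Matrix.toLin'_apply]⟩
  have hA : (1 + c) • x + h ∈ D i0 := (D i0).add_mem ((D i0).smul_mem _ hxD) hhD
  have hB : c • y ∈ D i1 := (D i1).smul_mem _ hyD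
  have hp0 : pr hD.decomp i0 ((g : Matrix (Fin n) (Fin n) F) *ᵥ (x + h)) = (1 + c) • x + h := by
    rw [hgw, map_add, pr_same hD.decomp hA, pr_ne hD.decomp h01.symm hB, add_zero]
  have hp1 : pr hD.decomp i1 ((g : Matrix (Fin n) (Fin n) F) *ᵥ (x + h)) = c • y := by
    rw [hgw, map_add, pr_ne hD.decomp h01 hA, pr_same hD.decomp hB, zero_add]
  by_cases hj : σ i0 = i1
  · -- then the `D i0`-component vanishes
    have h1 : pr hD.decomp i0 ((g : Matrix (Fin n) (Fin n) F) *ᵥ (x + h)) = 0 :=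
      pr_ne hD.decomp (by rw [hj]; exact h01.symm) hmem
    rw [hp0] at h1
    have h2 : Cfsg.hermForm n F q ((1 + c) • x + h) x = Cfsg.hermForm n F q 0 x := by rw [h1]
    rw [hf.add_left, hf.smul_left, hxx, hhx, u_zero_left hf] at h2
    have h3 : (1 + c) = 0 := by linear_combination h2
    rw [h3, zero_smul, zero_add] at h1
    exact hh0 h1
  · have h1 : pr hD.decomp i1 ((g : Matrix (Fin n) (Fin n) F) *ᵥ (x + h)) = 0 :=
      pr_ne hD.decomp hj hmem
    rw [hp1] at h1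
    rcases smul_eq_zero.mp h1 with h2 | h2
    · exact hc0 h2
    · rw [h2, u_zero_left hf] at hyy
      have : (1 : F) = 0 := by linear_combination hyy
      exact one_ne_zero this

end Cfsg.Agent.Lib.Helper18.UProper
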