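/-
helper18: S4538 input: the unitriangular subgroup `unitri n F` of `SL_n(F)` (helper18 PSLnUnitri) has order
the full `p`-part of `|SL_n(F)|`.
-/
import Mathlib
import Cfsg.Agent.Lib.Helper18.PSLnUnitri

set_option autoImplicit false

namespace Cfsg.Agent.Lib.Helper18.PSLnAut

open Matrix

variable {n : ℕ} {F : Type*} [Field F] [Fintype F] (p : ℕ) [Fact p.Prime] [CharP F p]

/-- `|U| = p ^ v_p(|SL_n(F)|)` for the unitriangular group `U` -/
theorem card_unitri_eq_pow_factorization (hn : 1 ≤ n) :
    Nat.card (unitri n F) = p ^ (Nat.card (SpecialLinearGroup (Fin n) F)).factorization p := by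
  have h := (sylowUni (F := F) p hn).card_eq_multiplicity
  rw [← coe_sylowUni (F := F) p hn]
  exact h

end Cfsg.Agent.Lib.Helper18.PSLnAut
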