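import Mathlib
import Cfsg.Prelude
import Cfsg.Agent.Lib.Helper18.WrCentralizer
import Cfsg.Agent.Lib.Helper18.QDCentralizer
import Cfsg.Agent.Lib.Helper18.SimpleOddIndex
import Cfsg.Agent.Lib.Helper9.PComponent

/-!
# Groups with quasi-dihedral or wreathed Sylow 2-subgroups and no subgroup of index 2:
`G / O(G)` has a simple normal subgroup of odd index
-/

set_option autoImplicit false

namespace Cfsg.Agent.Lib.Helper18

open Subgroup

/-- the case `O(X) = 1` -/
theorem exists_simple_of_qd_or_wreathed {X : Type*} [Group X] [Finite X] (S : Sylow 2 X)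
    (hS : Cfsg.IsQuasiDihedral (S : Subgroup X) ∨ Cfsg.IsWreathed (S : Subgroup X))
    (hcore : Cfsg.oddCore X = ⊥) (hX : ∀ H : Subgroup X, H.index ≠ 2) :
    ∃ L : Subgroup X, L.Normal ∧ Odd L.index ∧ IsSimpleGroup L ∧ ¬ IsMulCommutative L := by
  rcases hS with hS | hS
  · obtain ⟨m, x, y, h⟩ := exists_isQD hS
    obtain ⟨hc1, -⟩ := h.fusion_of_no_index_two hX
    have hy : orderOf (y : X) = 2 := by rw [Subgroup.orderOf_coe]; exact h.hy
    have hx2y : orderOf ((x : X) ^ 2 * y) = 2 := by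
      have := h.orderOf_xy_even 1
      rw [← Subgroup.orderOf_coe] at this
      simpa using this
    have hnc : (y : X) * ((x : X) ^ 2 * y) ≠ (x : X) ^ 2 * y * y := by
      intro e
      have e1 : y * (x ^ 2 * y) = x ^ 2 * y * y := Subtype.ext (by simpa using e)
      have e2 : y * x ^ 2 * y⁻¹ = x ^ 2 := by
        have : y * x ^ 2 = x ^ 2 * y := by
          have := congrArg (· * y⁻¹) e1
          simpa [mul_assoc] using this
        rw [this, mul_inv_cancel_right]
      have e3 := h.conj_pow_even 1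
      rw [mul_one, e2] at e3
      have e4 : x ^ 4 = 1 := by
        calc x ^ 4 = x ^ 2 * x ^ 2 := by rw [← pow_add]
          _ = x ^ 2 * (x ^ 2)⁻¹ := by rw [← e3]
          _ = 1 := mul_inv_cancel _
      have := orderOf_dvd_of_pow_eq_one e4
      rw [h.hx] at this
      have h8 : 8 ∣ 2 ^ (m + 3) := ⟨2 ^ m, by ring⟩
      have := Nat.le_of_dvd (by norm_num) (h8.trans this)
      omega
    apply exists_simple_normal_odd_index S hcore hX ((x : X) ^ (2 ^ (m + 2))) h.z_orderOf_val
      (fun t ht => (h.invol_isConj_z hc1 t ht).symm)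
      (y : X) ((x : X) ^ 2 * y) hy hx2y hnc (x : X) x.2
    intro N hN hinv s hs
    obtain ⟨i, e | e⟩ := h.cover_val s hs
    · refine ⟨i, ?_⟩
      rw [e, zpow_natCast, inv_mul_cancel]
      exact one_mem _
    · refine ⟨i, ?_⟩
      rw [e, zpow_natCast, inv_mul_cancel_left]
      exact hinv _ hy
  · obtain ⟨m, x, y, z, h⟩ := exists_isWr hS
    have hz : orderOf (z : X) = 2 := by rw [Subgroup.orderOf_coe]; exact h.hz
    have hcz : orderOf ((x : X) * (y : X)⁻¹ * z) = 2 := by
      have := h.cz_orderOf 1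
      rw [← Subgroup.orderOf_coe] at this
      simpa using this
    have hnc : (z : X) * (x : X) ^ (2 ^ (m + 1)) ≠ (x : X) ^ (2 ^ (m + 1)) * z := by
      intro e
      apply h.u_ne_u'_val
      rw [← h.conj_u_val, e, mul_inv_cancel_right]
    have hxy : Commute (x : X) (y : X) := by
      have := congrArg Subtype.val h.comm
      simp only [Subgroup.coe_mul] at this
      exact this
    apply exists_simple_normal_odd_index S hcore hX
      ((x : X) ^ (2 ^ (m + 1)) * (y : X) ^ (2 ^ (m + 1))) h.c0_orderOf_val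
      (fun t ht => h.invol_isConj_c0 hX t ht)
      (z : X) ((x : X) ^ (2 ^ (m + 1))) hz h.u_orderOf_val hnc (x : X) x.2
    intro N hN hinv s hs
    have hzN : (z : X) ∈ N := hinv _ hz
    have hcN : (x : X) * (y : X)⁻¹ ∈ N := by
      have := mul_mem (hinv _ hcz) (inv_mem hzN)
      rwa [mul_inv_cancel_right] at this
    have hcN' : (x : X)⁻¹ * (y : X) ∈ N := by
      have e : (x : X)⁻¹ * (y : X) = ((x : X) * (y : X)⁻¹)⁻¹ := by
        rw [mul_inv_rev, inv_inv, hxy.inv_left.eq]
      rw [e]; exact inv_mem hcN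
    have key : ∀ i j : ℤ, ((x : X) ^ (i + j))⁻¹ * ((x : X) ^ i * (y : X) ^ j) ∈ N := by
      intro i j
      have e : ((x : X) ^ (i + j))⁻¹ * ((x : X) ^ i * (y : X) ^ j) = ((x : X)⁻¹ * (y : X)) ^ j := by
        rw [hxy.inv_left.mul_zpow, inv_zpow', zpow_add]
        group
      rw [e]
      exact zpow_mem hcN' j
    obtain ⟨i, j, e | e⟩ := h.cover_val s hs
    · exact ⟨i + j, by rw [e]; exact key i j⟩
    · refine ⟨i + j, ?_⟩
      rw [e, ← mul_assoc]
      exact mul_mem (key i j) hzN

/-- a Sylow 2-subgroup maps isomorphically into the quotient by `O(G)` -/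
theorem injective_mk_oddCore_comp_subtype {G : Type*} [Group G] [Finite G] (S : Sylow 2 G) :
    Function.Injective
      ((QuotientGroup.mk' (Cfsg.oddCore G)).comp (S : Subgroup G).subtype) := by
  rw [injective_iff_map_eq_one]
  intro s hs
  have h1 : (s : G) ∈ Cfsg.oddCore G := (QuotientGroup.eq_one_iff _).mp hs
  obtain ⟨k, hk⟩ := S.2 s
  have hcop := Cfsg.Agent.Lib.Helper12.pPrimeCore_coprime (X := G) 2
  have hd1 : orderOf (s : G) ∣ Nat.card (Cfsg.oddCore G) := by
    have := orderOf_dvd_natCard (⟨(s : G), h1⟩ : ↥(Cfsg.oddCore G))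
    rwa [Subgroup.orderOf_mk] at this
  have hd2 : orderOf (s : G) ∣ 2 ^ k := by
    apply orderOf_dvd_of_pow_eq_one
    have := congrArg Subtype.val hk
    simpa using this
  have h3 : orderOf (s : G) = 1 :=
    Nat.eq_one_of_dvd_coprimes (Nat.Coprime.pow_right k hcop) hd1 hd2
  exact Subtype.ext (orderOf_eq_one_iff.mp h3)

/-- **`G / O(G)` has a simple normal subgroup of odd index** when `G` has quasi-dihedral or
wreathed Sylow 2-subgroups and no subgroup of index two. -/
theorem exists_simple_quotient_oddCore {G : Type*} [Group G] [Finite G] (S : Sylow 2 G)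
    (hS : Cfsg.IsQuasiDihedral (S : Subgroup G) ∨ Cfsg.IsWreathed (S : Subgroup G))
    (hG : ∀ H : Subgroup G, H.index ≠ 2) :
    ∃ L : Subgroup (G ⧸ Cfsg.oddCore G), L.Normal ∧ Odd L.index ∧ IsSimpleGroup L ∧
      ¬ IsMulCommutative L := by
  have : Fact (Nat.Prime 2) := ⟨Nat.prime_two⟩
  have hsurj := QuotientGroup.mk'_surjective (Cfsg.oddCore G)
  have hrange : ((QuotientGroup.mk' (Cfsg.oddCore G)).comp (S : Subgroup G).subtype).range =
      ((S.mapSurjective hsurj : Sylow 2 (G ⧸ Cfsg.oddCore G)) :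
        Subgroup (G ⧸ Cfsg.oddCore G)) := by
    rw [Sylow.coe_mapSurjective, MonoidHom.range_comp, Subgroup.range_subtype]
  have e : ↥(S : Subgroup G) ≃* ↥((S.mapSurjective hsurj : Sylow 2 (G ⧸ Cfsg.oddCore G)) :
      Subgroup (G ⧸ Cfsg.oddCore G)) :=
    (MonoidHom.ofInjective (injective_mk_oddCore_comp_subtype S)).trans
      (MulEquiv.subgroupCongr hrange)
  have hSP : Cfsg.IsQuasiDihedral ((S.mapSurjective hsurj : Sylow 2 (G ⧸ Cfsg.oddCore G)) :
        Subgroup (G ⧸ Cfsg.oddCore G)) ∨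
      Cfsg.IsWreathed ((S.mapSurjective hsurj : Sylow 2 (G ⧸ Cfsg.oddCore G)) :
        Subgroup (G ⧸ Cfsg.oddCore G)) := by
    rcases hS with hS | hS
    · exact Or.inl (isQuasiDihedral_of_mulEquiv e hS)
    · exact Or.inr (isWreathed_of_mulEquiv e hS)
  have hcore : Cfsg.oddCore (G ⧸ Cfsg.oddCore G) = ⊥ :=
    Cfsg.Agent.Lib.Helper9.pPrimeCore_quotient_eq_bot (X := G) 2
  have hX : ∀ H : Subgroup (G ⧸ Cfsg.oddCore G), H.index ≠ 2 := by
    intro H hH
    apply hG (H.comap (QuotientGroup.mk' (Cfsg.oddCore G)))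
    rw [Subgroup.index_comap_of_surjective _ hsurj]
    exact hH
  exact exists_simple_of_qd_or_wreathed _ hSP hcore hX

end Cfsg.Agent.Lib.Helper18
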